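import Mathlib
import Cfsg.Agent.Lib.Helper5.L33D

/-!
# Simple groups of order 2520, part A: extraction from the Brauer–Leonard theorem (helper27)

For a group whose Sylow `7`-subgroup `P` has order `7`, `|N(P)| = 21`, `C(P) = P`, the
Brauer–Leonard theorem (`p = 7`, `m = 3`) gives the principal `7`-block `X ∪ {η, η'}` with
`∑_{χ ∈ X} a_χ² = 3`, the relation `κ η + ∑ a_χ χ = 0` (`κ = ± 1`) on the `7`-regular elements,
and the vanishing of all other irreducible characters on the elements of order `7`.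
(Clone of helper5's `bl13_extract_val`.)
-/

set_option autoImplicit false
set_option linter.unusedSectionVars false
set_option linter.style.haveILetI false

namespace Cfsg.Agent.Lib.Helper27.A7Blk

open MulAction Cfsg Cfsg.Agent.Lib.Helper8.SmallSimple Cfsg.Agent.Lib.Helper8.SmallSimple2
  Cfsg.Agent.Lib.Helper7 Cfsg.Agent.Lib.Helper19.Ord4032 Cfsg.Agent.CharLib
  Cfsg.Agent.Lib.Helper24 Cfsg.Agent.Lib.Helper12.BSF Cfsg.Agent.Lib.Helper6
  Cfsg.Agent.Lib.Helper5.M11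
open scoped ComplexConjugate

universe u

variable {G : Type u} [Group G] [Finite G]

set_option maxHeartbeats 1600000 in
/-- the data of the principal `7`-block when `|P| = 7`, `C(P) = P`, `|N(P) : C(P)| = 3` -/
theorem bl7_extract_val [Fact (Nat.Prime 7)]
    (P : Sylow 7 G) (hP : Nat.card ↥(P : Subgroup G) = 7)
    (hCc : Nat.card ↥(Subgroup.centralizer ((P : Subgroup G) : Set G)) = 7)
    (hr : (Subgroup.centralizer ((P : Subgroup G) : Set G)).relIndex
      (Subgroup.normalizer ((P : Subgroup G) : Set G)) = 3) :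
    ∃ (Xf Yf : Finset (IrrCharacter G)) (χ₁ : IrrCharacter G) (a : IrrCharacter G → ℤ)
      (κ : ℤ),
      χ₁ ∈ Xf ∧ (χ₁ : G → ℂ) = (fun _ => 1) ∧ a χ₁ = 1 ∧ (∀ χ ∈ Xf, a χ ≠ 0) ∧
      (∀ χ ∈ Xf, (7 : ℤ) ∣ (charDegree (χ : G → ℂ) : ℤ) - a χ) ∧
      Yf.card = 2 ∧ Disjoint Xf Yf ∧
      (κ = 1 ∨ κ = -1) ∧ ∑ χ ∈ Xf, a χ ^ 2 = 3 ∧
      (∀ η ∈ Yf, ∀ η' ∈ Yf, ∀ g : G, ¬ 7 ∣ orderOf g → (η : G → ℂ) g = (η' : G → ℂ) g) ∧
      (∀ η ∈ Yf, ∀ g : G, ¬ 7 ∣ orderOf g →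
        (κ : ℂ) * (η : G → ℂ) g + ∑ χ ∈ Xf, (a χ : ℂ) * (χ : G → ℂ) g = 0) ∧
      (∀ χ : IrrCharacter G, χ ∉ Xf → χ ∉ Yf → 7 ∣ charDegree (χ : G → ℂ)) ∧
      (∀ χ ∈ Xf, ∀ y ∈ (P : Subgroup G), y ≠ 1 → (χ : G → ℂ) y = (a χ : ℂ)) ∧
      (∀ χ : IrrCharacter G, χ ∉ Xf → χ ∉ Yf →
        ∀ y ∈ (P : Subgroup G), y ≠ 1 → (χ : G → ℂ) y = 0) := by
  classical
  letI : Fintype G := Fintype.ofFinite G
  letI : Fintype (IrrCharacter G) := fintypeIrr G
  letI : Fintype ↥(P : Subgroup G) := Fintype.ofFinite _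
  have hcardPf : Fintype.card ↥(P : Subgroup G) = 7 := by
    rw [← Nat.card_eq_fintype_card]; exact hP
  have hCN : Subgroup.centralizer ((P : Subgroup G) : Set G) ≤
      Subgroup.normalizer ((P : Subgroup G) : Set G) := Subgroup.centralizer_le_normalizer _
  have hab : IsMulCommutative ↥P := by
    have hcyc : IsCyclic ↥(P : Subgroup G) := isCyclic_of_prime_card hP
    exact IsCyclic.isMulCommutative
  have hcyc := exists_cyc_of_relIndex_prime _ _ hCN 3 (by norm_num) hr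
  have hzpow : ∀ y : G, y ∈ (P : Subgroup G) → y ≠ 1 →
      Subgroup.zpowers y = (P : Subgroup G) := by
    intro y hyP hy1
    apply le_antisymm
    · rw [Subgroup.zpowers_le]; exact hyP
    · exact le_zpowers_of_card_prime 7 (P : Subgroup G) hP y hyP hy1
  have hfrob : ∀ y : G, y ∈ (P : Subgroup G) → y ≠ 1 →
      Subgroup.centralizer ({y} : Set G) ⊓ Subgroup.normalizer ((P : Subgroup G) : Set G) =
        Subgroup.centralizer ((P : Subgroup G) : Set G) := by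
    intro y hyP hy1
    rw [← centralizer_zpowers_eq', hzpow y hyP hy1]
    exact inf_eq_left.mpr hCN
  have hCy : ∀ y : G, y ∈ (P : Subgroup G) → y ≠ 1 →
      Nat.card ↥(Subgroup.centralizer ({y} : Set G)) = 7 := by
    intro y hyP hy1
    rw [← centralizer_zpowers_eq', hzpow y hyP hy1, hCc]
  have hpp : ∀ y : G, y ∈ (P : Subgroup G) → y ≠ 1 → IsPPart 7 y y := by
    intro y hyP hy1
    have hord : orderOf y = 7 := orderOf_eq_of_card_prime 7 (P : Subgroup G) hP y hyP hy1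
    exact ⟨1, mul_one _, Commute.one_right _, ⟨1, by rw [hord, pow_one]⟩,
      by rw [orderOf_one]; norm_num⟩
  obtain ⟨M, hM⟩ := exists_isPModular 7
  have hcardP : Nat.card P = 7 := hP
  obtain ⟨s, X, Y, hs, hB, hdisj, hXc, hYc, ⟨χ₁, hχ₁X, hχ₁⟩, a, d, δ, ζ, hδ, hX, -, -, -, -, heq,
    hYreg, hrel⟩ := brauer_leonard_main 7 M hM P hab 3 (by norm_num) (by rw [hcardP]; norm_num) hr
      hcyc hfrob
  rw [hcardP] at hYc heq hrel
  have hXfin : X.Finite := Set.toFinite X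
  have hYfin : Y.Finite := Set.toFinite Y
  have heq' : (d - δ) ^ 2 + d ^ 2 + ∑ χ ∈ hXfin.toFinset, a χ ^ 2 = 4 := by
    have e : (((7 : ℕ) : ℤ) - 1) / ((3 : ℕ) : ℤ) - 1 = 1 := by norm_num
    rw [e, finsum_mem_eq_finite_toFinset_sum _ hXfin] at heq
    push_cast at heq
    linarith
  have hYc' : hYfin.toFinset.card = 2 := by
    rw [← Set.ncard_eq_toFinset_card Y hYfin, ← Nat.card_coe_set_eq, hYc]
  have hrel' : ∀ η ∈ Y, ∀ g : G, ¬ 7 ∣ orderOf g →
      ((2 : ℂ) * d - δ) * (η : G → ℂ) g +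
        ∑ χ ∈ hXfin.toFinset, (a χ : ℂ) * (χ : G → ℂ) g = 0 := by
    intro η hη g hg
    have := hrel η hη g hg
    have e : (((7 - 1) / 3 : ℕ) : ℂ) = 2 := by norm_num
    rw [e, finsum_mem_eq_finite_toFinset_sum _ hXfin] at this
    exact this
  obtain ⟨y, hyP, hy⟩ := exists_prime_order_mem (P : Subgroup G) 7 (by rw [hP])
  have hy1 : y ≠ 1 := by
    intro h
    rw [h, orderOf_one] at hy
    omega
  have ha1 : a χ₁ = 1 := by
    have h1 := (hX χ₁ hχ₁X).2 y y (hpp y hyP hy1) hyP hy1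
    rw [hχ₁] at h1
    have h2 : ((a χ₁ : ℤ) : ℂ) = ((1 : ℤ) : ℂ) := by rw [← h1]; norm_num
    exact_mod_cast h2
  have hmemX : ∀ χ, χ ∈ hXfin.toFinset ↔ χ ∈ X := fun χ => Set.Finite.mem_toFinset hXfin
  have hmemY : ∀ χ, χ ∈ hYfin.toFinset ↔ χ ∈ Y := fun χ => Set.Finite.mem_toFinset hYfin
  have hXY : ∀ χ, χ ∈ X → χ ∈ Y → False := fun χ h1 h2 =>
    (Set.disjoint_left.mp hdisj h1) h2
  -- the congruences
  have hcong : ∀ χ ∈ hXfin.toFinset, (7 : ℤ) ∣ (charDegree (χ : G → ℂ) : ℤ) - a χ := by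
    intro χ hχ
    have hχX : χ ∈ X := (hmemX χ).mp hχ
    obtain ⟨m₁, hm₁⟩ := sum_subgroup_irr (P : Subgroup G) χ
    have hsumP := Cfsg.Agent.Lib.Helper19.Ord1008.sum_const_except_one
      (fun y : ↥(P : Subgroup G) => (χ : G → ℂ) (y : G)) 1 (a χ : ℂ)
      (by
        intro y hy
        have hy1 : (y : G) ≠ 1 := fun h => hy (Subtype.ext h)
        exact (hX χ hχX).2 (y : G) (y : G) (hpp (y : G) y.2 hy1) y.2 hy1)
    simp only [Subgroup.coe_one] at hsumP
    rw [hm₁, hcardPf, irr_apply_one] at hsumP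
    have hH1 : 7 * (m₁ : ℤ) = 7 * a χ + ((charDegree (χ : G → ℂ) : ℤ) - a χ) := by
      exact_mod_cast hsumP
    exact ⟨(m₁ : ℤ) - a χ, by linarith⟩
  -- characters outside the principal block
  have hvanish : ∀ χ : IrrCharacter G, χ ∉ hXfin.toFinset → χ ∉ hYfin.toFinset →
      ∀ w : G, w ∈ (P : Subgroup G) → w ≠ 1 → (χ : G → ℂ) w = 0 := by
    intro χ hχX hχY
    have hχB : χ ∉ principalBlock M G := by
      rw [hB]
      rintro (h | h)
      · exact hχX ((hmemX χ).mpr h)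
      · exact hχY ((hmemY χ).mpr h)
    have hBfin : (principalBlock M G).Finite := Set.toFinite _
    intro w hwP hw1
    have h1 := BLFrob.sum_sq hM (P := P) hfrob hab w hwP hw1
    have h2 := sum_irr_mul_conj (G := G) w w
    rw [Cfsg.Agent.Lib.Helper19.Ord720.classInd_self, one_mul, hCy w hwP hw1] at h2
    rw [hP, finsum_mem_eq_finite_toFinset_sum _ hBfin] at h1
    have h3 : ∑ ψ ∈ Finset.univ \ hBfin.toFinset,
        (ψ : G → ℂ) w * conj ((ψ : G → ℂ) w) = 0 := by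
      have := Finset.sum_sdiff (Finset.subset_univ hBfin.toFinset)
        (f := fun ψ : IrrCharacter G => (ψ : G → ℂ) w * conj ((ψ : G → ℂ) w))
      rw [h1, h2] at this
      linear_combination this
    have h4 : ∑ ψ ∈ Finset.univ \ hBfin.toFinset, ‖(ψ : G → ℂ) w‖ ^ 2 = 0 := by
      have h5 : ∀ ψ : IrrCharacter G, (ψ : G → ℂ) w * conj ((ψ : G → ℂ) w) =
          ((‖(ψ : G → ℂ) w‖ ^ 2 : ℝ) : ℂ) := by
        intro ψ
        rw [Complex.mul_conj']
        push_cast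
        rfl
      simp only [h5] at h3
      exact_mod_cast h3
    have hmem : χ ∈ Finset.univ \ hBfin.toFinset := by
      rw [Finset.mem_sdiff]
      exact ⟨Finset.mem_univ _, by rw [Set.Finite.mem_toFinset]; exact hχB⟩
    have h6 := (Finset.sum_eq_zero_iff_of_nonneg (fun ψ _ => sq_nonneg _)).mp h4 χ hmem
    exact norm_eq_zero.mp ((pow_eq_zero_iff (two_ne_zero)).mp h6)
  have hout : ∀ χ : IrrCharacter G, χ ∉ hXfin.toFinset → χ ∉ hYfin.toFinset →
      7 ∣ charDegree (χ : G → ℂ) := by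
    intro χ hχX hχY
    have hvan := hvanish χ hχX hχY
    obtain ⟨m₁, hm₁⟩ := sum_subgroup_irr (P : Subgroup G) χ
    have hsumP := Cfsg.Agent.Lib.Helper19.Ord1008.sum_const_except_one
      (fun y : ↥(P : Subgroup G) => (χ : G → ℂ) (y : G)) 1 (0 : ℂ)
      (by
        intro y hy
        have hy1 : (y : G) ≠ 1 := fun h => hy (Subtype.ext h)
        exact hvan (y : G) y.2 hy1)
    simp only [Subgroup.coe_one] at hsumP
    rw [hm₁, hcardPf, irr_apply_one] at hsumP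
    have hH1 : 7 * (m₁ : ℤ) = (charDegree (χ : G → ℂ) : ℤ) := by
      have : ((7 * (m₁ : ℤ) : ℤ) : ℂ) = (((charDegree (χ : G → ℂ) : ℤ)) : ℂ) := by
        push_cast
        push_cast at hsumP
        linear_combination hsumP
      exact_mod_cast this
    exact ⟨m₁, by exact_mod_cast hH1.symm⟩
  have hχ₁Xf : χ₁ ∈ hXfin.toFinset := (hmemX χ₁).mpr hχ₁X
  have hsum1 : 1 ≤ ∑ χ ∈ hXfin.toFinset, a χ ^ 2 := by
    have := Finset.single_le_sum (f := fun χ => a χ ^ 2) (fun x _ => sq_nonneg (a x)) hχ₁Xf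
    have h' : a χ₁ ^ 2 ≤ ∑ χ ∈ hXfin.toFinset, a χ ^ 2 := this
    rw [ha1] at h'
    linarith
  have hκcast : ((2 : ℂ) * d - δ) = ((2 * d - δ : ℤ) : ℂ) := by push_cast; ring
  have hκsum : ((2 * d - δ = 1 ∨ 2 * d - δ = -1) ∧ ∑ χ ∈ hXfin.toFinset, a χ ^ 2 = 3) := by
    generalize (∑ χ ∈ hXfin.toFinset, a χ ^ 2) = sg at heq' hsum1 ⊢
    rcases hδ with rfl | rfl
    · have h1 : -1 ≤ d := by nlinarith
      have h2 : d ≤ 1 := by nlinarith
      interval_cases d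
      · exfalso; omega
      · exact ⟨Or.inr (by norm_num), by linarith⟩
      · exact ⟨Or.inl (by norm_num), by linarith⟩
    · have h1 : -1 ≤ d := by nlinarith
      have h2 : d ≤ 1 := by nlinarith
      interval_cases d
      · exact ⟨Or.inr (by norm_num), by linarith⟩
      · exact ⟨Or.inl (by norm_num), by linarith⟩
      · exfalso; omega
  refine ⟨hXfin.toFinset, hYfin.toFinset, χ₁, a, 2 * d - δ, hχ₁Xf, hχ₁, ha1,
    fun χ hχ => (hX χ ((hmemX χ).mp hχ)).1, hcong, hYc', ?_, hκsum.1, hκsum.2, ?_, ?_, hout,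
    fun χ hχ y hyP' hy1' => (hX χ ((hmemX χ).mp hχ)).2 y y (hpp y hyP' hy1') hyP' hy1', hvanish⟩
  · rw [Finset.disjoint_left]
    intro χ h1 h2
    exact hXY χ ((hmemX χ).mp h1) ((hmemY χ).mp h2)
  · intro η hη η' hη' g hg
    exact hYreg η ((hmemY η).mp hη) η' ((hmemY η').mp hη') g hg
  · intro η hη g hg
    have := hrel' η ((hmemY η).mp hη) g hg
    rw [hκcast] at this
    exact this

end Cfsg.Agent.Lib.Helper27.A7Blk
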