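import Mathlib
import Cfsg.Agent.Lib.Helper27.A7BlkA

/-!
# Simple groups of order 2520, part B: the four possible principal `7`-blocks (helper27)

With `|N(P)| = 21`, `C(P) = P` for a Sylow `7`-subgroup `P`, the principal `7`-block consists of the
trivial character, two characters `x₂, x₃` with values `a₂, a₃ = ± 1` on the elements of order `7`,
and two characters of degree `e` agreeing on the `7`-regular elements, where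
`κ η + 1 + a₂ x₂ + a₃ x₃ = 0`.  The arithmetic leaves the four patterns
`(n₂, a₂; n₃, a₃; e, κ) = (8,+;15,+;24,-), (8,+;6,-;3,-), (15,+;6,-;10,-), (15,+;20,-;4,+)`.
-/

set_option autoImplicit false
set_option linter.unusedSectionVars false
set_option linter.style.haveILetI false

namespace Cfsg.Agent.Lib.Helper27.A7Blk

open MulAction Cfsg Cfsg.Agent.Lib.Helper8.SmallSimple Cfsg.Agent.Lib.Helper8.SmallSimple2
  Cfsg.Agent.Lib.Helper7 Cfsg.Agent.Lib.Helper19.Ord4032 Cfsg.Agent.CharLib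
  Cfsg.Agent.Lib.Helper24 Cfsg.Agent.Lib.Helper12.BSF Cfsg.Agent.Lib.Helper6
  Cfsg.Agent.Lib.Helper5.M11 Cfsg.Agent.Lib.Helper5.L33
open scoped ComplexConjugate

universe u

/-! ### arithmetic -/

theorem arith7_one : ∀ n < 51, 2520 % n = 0 → n % 7 = 1 → n = 1 ∨ n = 8 ∨ n = 15 ∨ n = 36 := by
  decide

theorem arith7_neg_one : ∀ n < 51, 2520 % n = 0 → n % 7 = 6 → n = 6 ∨ n = 20 := by
  decide

/-- degree and value `± 1` on the `7`-singular elements -/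
theorem pair_val7 (n : ℕ) (a : ℤ) (ha : a = 1 ∨ a = -1) (h7 : (7 : ℤ) ∣ (n : ℤ) - a)
    (hdvd : n ∣ 2520) (hn1 : n ≠ 1) (hle : n ≤ 50) :
    (a = 1 ∧ (n = 8 ∨ n = 15 ∨ n = 36)) ∨ (a = -1 ∧ (n = 6 ∨ n = 20)) := by
  obtain ⟨k, hk⟩ := h7
  have hmod := Nat.mod_eq_zero_of_dvd hdvd
  rcases ha with rfl | rfl
  · left
    refine ⟨rfl, ?_⟩
    rcases arith7_one n (by omega) hmod (by omega) with h | h | h | h
    · exact absurd h hn1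
    · exact Or.inl h
    · exact Or.inr (Or.inl h)
    · exact Or.inr (Or.inr h)
  · right
    exact ⟨rfl, arith7_neg_one n (by omega) hmod (by omega)⟩

/-- the four patterns -/
def Pat (n2 : ℕ) (a2 : ℤ) (n3 : ℕ) (a3 : ℤ) (e : ℕ) (κ : ℤ) : Prop :=
  (n2 = 8 ∧ a2 = 1 ∧ n3 = 15 ∧ a3 = 1 ∧ e = 24 ∧ κ = -1) ∨
  (n2 = 8 ∧ a2 = 1 ∧ n3 = 6 ∧ a3 = -1 ∧ e = 3 ∧ κ = -1) ∨
  (n2 = 15 ∧ a2 = 1 ∧ n3 = 6 ∧ a3 = -1 ∧ e = 10 ∧ κ = -1) ∨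
  (n2 = 15 ∧ a2 = 1 ∧ n3 = 20 ∧ a3 = -1 ∧ e = 4 ∧ κ = 1)

theorem e_cases (e : ℕ) (he : e ∣ 2520) (hle : e ≤ 80) :
    e ≠ 17 ∧ e ≠ 31 ∧ e ≠ 52 ∧ e ≠ 73 ∧ e ≠ 11 ∧ e ≠ 25 ∧ e ≠ 39 := by
  refine ⟨?_, ?_, ?_, ?_, ?_, ?_, ?_⟩ <;> rintro rfl <;> norm_num at he

/-- the degree equation with two further non-exceptional characters -/
theorem arith2_7 (n1 n2 e : ℕ) (a1 a2 κ : ℤ)
    (h1 : (a1 = 1 ∧ (n1 = 8 ∨ n1 = 15 ∨ n1 = 36)) ∨ (a1 = -1 ∧ (n1 = 6 ∨ n1 = 20)))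
    (h2 : (a2 = 1 ∧ (n2 = 8 ∨ n2 = 15 ∨ n2 = 36)) ∨ (a2 = -1 ∧ (n2 = 6 ∨ n2 = 20)))
    (hκ : κ = 1 ∨ κ = -1) (he : e ∣ 2520)
    (hsq : 2 * e ^ 2 + 1 + n1 ^ 2 + n2 ^ 2 ≤ 2520)
    (heq : κ * e + 1 + a1 * n1 + a2 * n2 = 0) :
    Pat n1 a1 n2 a2 e κ ∨ Pat n2 a2 n1 a1 e κ := by
  have hle : e ≤ 80 := by nlinarith
  obtain ⟨e17, e31, e52, e73, e11, e25, e39⟩ := e_cases e he hle
  unfold Pat
  rcases hκ with rfl | rfl <;>
  rcases h1 with ⟨rfl, rfl | rfl | rfl⟩ | ⟨rfl, rfl | rfl⟩ <;>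
  rcases h2 with ⟨rfl, rfl | rfl | rfl⟩ | ⟨rfl, rfl | rfl⟩ <;>
  first
  | (exfalso; omega)
  | (have he' : e = 45 := by omega
     subst he'
     exfalso; omega)
  | (have he' : e = 24 := by omega
     subst he'
     first
     | exact Or.inl (Or.inl ⟨rfl, rfl, rfl, rfl, rfl, rfl⟩)
     | exact Or.inr (Or.inl ⟨rfl, rfl, rfl, rfl, rfl, rfl⟩))
  | (have he' : e = 3 := by omega
     subst he'
     first
     | exact Or.inl (Or.inr (Or.inl ⟨rfl, rfl, rfl, rfl, rfl, rfl⟩))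
     | exact Or.inr (Or.inr (Or.inl ⟨rfl, rfl, rfl, rfl, rfl, rfl⟩)))
  | (have he' : e = 10 := by omega
     subst he'
     first
     | exact Or.inl (Or.inr (Or.inr (Or.inl ⟨rfl, rfl, rfl, rfl, rfl, rfl⟩)))
     | exact Or.inr (Or.inr (Or.inr (Or.inl ⟨rfl, rfl, rfl, rfl, rfl, rfl⟩))))
  | (have he' : e = 4 := by omega
     subst he'
     first
     | exact Or.inl (Or.inr (Or.inr (Or.inr ⟨rfl, rfl, rfl, rfl, rfl, rfl⟩)))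
     | exact Or.inr (Or.inr (Or.inr (Or.inr ⟨rfl, rfl, rfl, rfl, rfl, rfl⟩))))

end Cfsg.Agent.Lib.Helper27.A7Blk
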