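import Mathlib
import Cfsg.Agent.Lib.Helper27.A7BlkB

/-!
# Simple groups of order 2520, part C: the principal `7`-block (helper27)

`exists_blk7`: for a simple group of order `2520` with `|N(P)| = 21`, `C(P) = P`, the principal
`7`-block is described by a structure `Blk7 x₂ x₃ Yf n₂ a₂ n₃ a₃ e κ` with `Pat n₂ a₂ n₃ a₃ e κ`.
(Clone of helper5's `block13`.)
-/

set_option autoImplicit false
set_option linter.unusedSectionVars false
set_option linter.style.haveILetI false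

namespace Cfsg.Agent.Lib.Helper27.A7Blk

open MulAction Cfsg Cfsg.Agent.Lib.Helper8.SmallSimple Cfsg.Agent.Lib.Helper8.SmallSimple2
  Cfsg.Agent.Lib.Helper7 Cfsg.Agent.Lib.Helper19.Ord4032 Cfsg.Agent.CharLib
  Cfsg.Agent.Lib.Helper24 Cfsg.Agent.Lib.Helper12.BSF Cfsg.Agent.Lib.Helper6
  Cfsg.Agent.Lib.Helper5.M11 Cfsg.Agent.Lib.Helper5.L33
open scoped ComplexConjugate

universe u

variable {G : Type u} [Group G] [Finite G]

/-- the data of the principal `7`-block -/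
structure Blk7 (x2 x3 : IrrCharacter G) (Yf : Finset (IrrCharacter G))
    (n2 : ℕ) (a2 : ℤ) (n3 : ℕ) (a3 : ℤ) (e : ℕ) (κ : ℤ) : Prop where
  d2 : charDegree (x2 : G → ℂ) = n2
  d3 : charDegree (x3 : G → ℂ) = n3
  cY : Yf.card = 2
  dY : ∀ η ∈ Yf, charDegree (η : G → ℂ) = e
  n2Y : x2 ∉ Yf
  n3Y : x3 ∉ Yf
  ne23 : x2 ≠ x3
  t2 : (x2 : G → ℂ) ≠ (fun _ => 1)
  t3 : (x3 : G → ℂ) ≠ (fun _ => 1)
  tY : ∀ η ∈ Yf, (η : G → ℂ) ≠ (fun _ => 1)
  hκ : κ = 1 ∨ κ = -1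
  v7 : ∀ y : G, orderOf y = 7 → (x2 : G → ℂ) y = (a2 : ℂ) ∧ (x3 : G → ℂ) y = (a3 : ℂ)
  Yreg : ∀ η ∈ Yf, ∀ η' ∈ Yf, ∀ g : G, ¬ 7 ∣ orderOf g → (η : G → ℂ) g = (η' : G → ℂ) g
  rel : ∀ η ∈ Yf, ∀ g : G, ¬ 7 ∣ orderOf g →
    (κ : ℂ) * (η : G → ℂ) g + 1 + (a2 : ℂ) * (x2 : G → ℂ) g + (a3 : ℂ) * (x3 : G → ℂ) g = 0
  rest : ∀ χ : IrrCharacter G, (χ : G → ℂ) ≠ (fun _ => 1) → χ ≠ x2 → χ ≠ x3 → χ ∉ Yf →
    7 ∣ charDegree (χ : G → ℂ) ∧ ∀ y : G, orderOf y = 7 → (χ : G → ℂ) y = 0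

/-- an element of order `7` is conjugate to an element of a given Sylow `7`-subgroup -/
theorem exists_conj_mem_sylow7 [Fact (Nat.Prime 7)] (P : Sylow 7 G)
    (y : G) (hy : orderOf y = 7) :
    ∃ g : G, g * y * g⁻¹ ∈ (P : Subgroup G) ∧ g * y * g⁻¹ ≠ 1 := by
  have hp : IsPGroup 7 ↥(Subgroup.zpowers y) := by
    apply IsPGroup.of_card (n := 1)
    rw [Nat.card_zpowers, hy, pow_one]
  obtain ⟨Q, hQ⟩ := hp.exists_le_sylow
  obtain ⟨g, hg⟩ := MulAction.exists_smul_eq G Q P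
  refine ⟨g, ?_, ?_⟩
  · rw [← hg]
    have hyQ : y ∈ (Q : Subgroup G) := hQ (Subgroup.mem_zpowers y)
    rw [Sylow.coe_subgroup_smul]
    exact ⟨y, hyQ, rfl⟩
  · intro h
    have : y = 1 := by
      calc y = g⁻¹ * (g * y * g⁻¹) * g := by group
        _ = 1 := by rw [h]; group
    rw [this, orderOf_one] at hy
    omega

set_option maxHeartbeats 1600000 in
/-- **the principal `7`-block** of a simple group of order `2520` with `|N(P)| = 21`, `C(P) = P` -/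
theorem exists_blk7 [IsSimpleGroup G] (hG : Nat.card G = 2520) [Fact (Nat.Prime 7)]
    (P : Sylow 7 G) (hP : Nat.card ↥(P : Subgroup G) = 7)
    (hCc : Nat.card ↥(Subgroup.centralizer ((P : Subgroup G) : Set G)) = 7)
    (hr : (Subgroup.centralizer ((P : Subgroup G) : Set G)).relIndex
      (Subgroup.normalizer ((P : Subgroup G) : Set G)) = 3) :
    ∃ (x2 x3 : IrrCharacter G) (Yf : Finset (IrrCharacter G)) (n2 : ℕ) (a2 : ℤ) (n3 : ℕ) (a3 : ℤ)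
      (e : ℕ) (κ : ℤ), Blk7 x2 x3 Yf n2 a2 n3 a3 e κ ∧ Pat n2 a2 n3 a3 e κ := by
  classical
  letI : Fintype G := Fintype.ofFinite G
  letI : Fintype (IrrCharacter G) := fintypeIrr G
  have hnc : ¬ IsMulCommutative G := by
    apply not_comm_of_card_not_prime
    rw [hG]; norm_num
  have hperf := commutator_eq_top_of_simple hnc
  obtain ⟨Xf, Yf, χ₁, a, κ, hχ₁X, hχ₁, ha1, ha0, hcong, hYc, hdisj, hκ, hsum, hYreg, hrel, hout,
    hXval, hvan⟩ := bl7_extract_val P hP hCc hr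
  set deg : IrrCharacter G → ℕ := fun χ => charDegree (χ : G → ℂ) with hdeg
  have hdvd : ∀ χ, deg χ ∣ 2520 := fun χ => by
    have := irr_charDegree_dvd_card χ
    rwa [hG] at this
  have hpos : ∀ χ, 0 < deg χ := fun χ => irr_charDegree_pos χ
  have hE : ∑ χ : IrrCharacter G, (deg χ : ℤ) ^ 2 = 2520 := by
    have := sum_deg_sq (G := G)
    rw [hG] at this
    exact_mod_cast this
  have hle50 : ∀ χ, deg χ ≤ 50 := by
    intro χ
    have h1 := Finset.single_le_sum (f := fun χ : IrrCharacter G => (deg χ : ℤ) ^ 2)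
      (fun _ _ => sq_nonneg _) (Finset.mem_univ χ)
    have h1' : (deg χ : ℤ) ^ 2 ≤ 2520 := by rw [← hE]; exact h1
    by_contra hcon
    push Not at hcon
    have : (51 : ℤ) ≤ deg χ := by exact_mod_cast hcon
    nlinarith
  have hne1 : ∀ χ, χ ≠ χ₁ → deg χ ≠ 1 := by
    intro χ hχ h
    apply hχ
    have h4 := eq_one_of_charDegree_one hperf χ h
    exact Subtype.ext (h4.trans hχ₁.symm)
  have hdeg1 : deg χ₁ = 1 := by
    have h := irr_apply_one χ₁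
    have h1 : (χ₁ : G → ℂ) 1 = 1 := by rw [hχ₁]
    rw [h1] at h
    have h' : ((1 : ℕ) : ℂ) = ((deg χ₁ : ℕ) : ℂ) := by rw [← h]; norm_num
    exact_mod_cast h'.symm
  have hreg1 : ¬ 7 ∣ orderOf (1 : G) := by rw [orderOf_one]; norm_num
  -- an exceptional character
  obtain ⟨η₀, hη₀⟩ : ∃ η₀, η₀ ∈ Yf := by
    apply Finset.card_pos.mp
    rw [hYc]; norm_num
  set e := deg η₀ with he
  have hdegY : ∀ η ∈ Yf, deg η = e := by
    intro η hη
    have h := hYreg η hη η₀ hη₀ 1 hreg1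
    rw [irr_apply_one, irr_apply_one] at h
    exact_mod_cast h
  have hed : e ∣ 2520 := hdvd η₀
  set X' := Xf.erase χ₁ with hX'
  have hX'sub : X' ⊆ Xf := Finset.erase_subset _ _
  have hsplit : ∀ f : IrrCharacter G → ℤ, ∑ χ ∈ Xf, f χ = f χ₁ + ∑ χ ∈ X', f χ :=
    fun f => (Finset.add_sum_erase Xf f hχ₁X).symm
  -- the degree equation
  have hrelZ : κ * (e : ℤ) + ∑ χ ∈ Xf, a χ * (deg χ : ℤ) = 0 := by
    have h := hrel η₀ hη₀ 1 hreg1
    have h' : ((κ * (e : ℤ) + ∑ χ ∈ Xf, a χ * (deg χ : ℤ) : ℤ) : ℂ) = ((0 : ℤ) : ℂ) := by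
      push_cast
      rw [← h, irr_apply_one]
      congr 1
      apply Finset.sum_congr rfl
      intro χ _
      rw [irr_apply_one]
    exact_mod_cast h'
  have hrel' : κ * (e : ℤ) + 1 + ∑ χ ∈ X', a χ * (deg χ : ℤ) = 0 := by
    have h := hsplit (fun χ => a χ * (deg χ : ℤ))
    rw [h] at hrelZ
    rw [ha1, hdeg1] at hrelZ
    push_cast at hrelZ
    linarith
  have hQ : ∑ χ ∈ X', a χ ^ 2 = 2 := by
    have h := hsplit (fun χ => a χ ^ 2)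
    rw [hsum] at h
    rw [ha1] at h
    linarith
  obtain ⟨x1, x2, h12, hXeq, hax1, hax2⟩ :=
    sq_sum_two X' a (fun χ hχ => ha0 χ (hX'sub hχ)) hQ
  have hx1X' : x1 ∈ X' := by rw [hXeq]; simp
  have hx2X' : x2 ∈ X' := by rw [hXeq]; simp
  have hx1Xf := hX'sub hx1X'
  have hx2Xf := hX'sub hx2X'
  have hx1ne : x1 ≠ χ₁ := Finset.ne_of_mem_erase hx1X'
  have hx2ne : x2 ≠ χ₁ := Finset.ne_of_mem_erase hx2X'
  have hp1 := pair_val7 (deg x1) (a x1) hax1 (hcong x1 hx1Xf) (hdvd x1)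
    (hne1 x1 hx1ne) (hle50 x1)
  have hp2 := pair_val7 (deg x2) (a x2) hax2 (hcong x2 hx2Xf) (hdvd x2)
    (hne1 x2 hx2ne) (hle50 x2)
  have hsum2 : ∀ f : IrrCharacter G → ℤ, ∑ χ ∈ X', f χ = f x1 + f x2 := by
    intro f
    rw [hXeq, Finset.sum_pair h12]
  have hsumC : ∀ f : IrrCharacter G → ℂ, ∑ χ ∈ Xf, f χ = f χ₁ + (f x1 + f x2) := by
    intro f
    rw [← Finset.add_sum_erase Xf f hχ₁X, ← hX', hXeq, Finset.sum_pair h12]
  rw [hsum2 (fun χ => a χ * (deg χ : ℤ))] at hrel'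
  have hnotY : ∀ χ ∈ Xf, χ ∉ Yf := fun χ hχ => Finset.disjoint_left.mp hdisj hχ
  -- the sum of the squares of the degrees
  obtain ⟨η₁, η₂, hη12, hYeq⟩ := Finset.card_eq_two.mp hYc
  have hη₁Y : η₁ ∈ Yf := by rw [hYeq]; simp
  have hη₂Y : η₂ ∈ Yf := by rw [hYeq]; simp
  have hsq : 2 * e ^ 2 + 1 + deg x1 ^ 2 + deg x2 ^ 2 ≤ 2520 := by
    have hsub : ({χ₁, x1, x2, η₁, η₂} : Finset (IrrCharacter G)) ⊆ Finset.univ :=
      Finset.subset_univ _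
    have hle := Finset.sum_le_sum_of_subset_of_nonneg hsub
      (f := fun χ : IrrCharacter G => (deg χ : ℤ) ^ 2) (fun _ _ _ => sq_nonneg _)
    rw [hE] at hle
    have hx1η1 : x1 ≠ η₁ := fun h => hnotY x1 hx1Xf (h ▸ hη₁Y)
    have hx1η2 : x1 ≠ η₂ := fun h => hnotY x1 hx1Xf (h ▸ hη₂Y)
    have hx2η1 : x2 ≠ η₁ := fun h => hnotY x2 hx2Xf (h ▸ hη₁Y)
    have hx2η2 : x2 ≠ η₂ := fun h => hnotY x2 hx2Xf (h ▸ hη₂Y)
    have hχη1 : χ₁ ≠ η₁ := fun h => hnotY χ₁ hχ₁X (h ▸ hη₁Y)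
    have hχη2 : χ₁ ≠ η₂ := fun h => hnotY χ₁ hχ₁X (h ▸ hη₂Y)
    rw [Finset.sum_insert (by simp [hx1ne.symm, hx2ne.symm, hχη1, hχη2]),
      Finset.sum_insert (by simp [h12, hx1η1, hx1η2]),
      Finset.sum_insert (by simp [hx2η1, hx2η2]),
      Finset.sum_pair hη12] at hle
    have e1 : deg η₁ = e := hdegY η₁ hη₁Y
    have e2 : deg η₂ = e := hdegY η₂ hη₂Y
    rw [hdeg1, e1, e2] at hle
    push_cast at hle
    have : ((2 * e ^ 2 + 1 + deg x1 ^ 2 + deg x2 ^ 2 : ℕ) : ℤ) ≤ 2520 := by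
      push_cast
      linarith
    exact_mod_cast this
  have hpat := arith2_7 (deg x1) (deg x2) e (a x1) (a x2) κ hp1 hp2 hκ hed hsq (by linarith)
  -- membership facts
  have hXf_mem : ∀ χ, χ ∈ Xf → χ = χ₁ ∨ χ = x1 ∨ χ = x2 := by
    intro χ hχ
    by_cases h : χ = χ₁
    · left; exact h
    · right
      have : χ ∈ X' := Finset.mem_erase.mpr ⟨h, hχ⟩
      rw [hXeq] at this
      simpa using this
  -- the values on the elements of order 7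
  have hval7 : ∀ χ ∈ Xf, ∀ y : G, orderOf y = 7 → (χ : G → ℂ) y = (a χ : ℂ) := by
    intro χ hχ y hy
    obtain ⟨g, hgP, hg1⟩ := exists_conj_mem_sylow7 P y hy
    have hcl : IsClassFunction G (χ : G → ℂ) :=
      IsCharacter.isClassFunction (IsIrrCharacter.isCharacter χ.2)
    rw [← hcl y g]
    exact hXval χ hχ _ hgP hg1
  have hvan7 : ∀ χ : IrrCharacter G, χ ∉ Xf → χ ∉ Yf → ∀ y : G, orderOf y = 7 →
      (χ : G → ℂ) y = 0 := by
    intro χ hχX hχY y hy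
    obtain ⟨g, hgP, hg1⟩ := exists_conj_mem_sylow7 P y hy
    have hcl : IsClassFunction G (χ : G → ℂ) :=
      IsCharacter.isClassFunction (IsIrrCharacter.isCharacter χ.2)
    rw [← hcl y g]
    exact hvan χ hχX hχY _ hgP hg1
  have hrelg : ∀ η ∈ Yf, ∀ g : G, ¬ 7 ∣ orderOf g →
      (κ : ℂ) * (η : G → ℂ) g + 1 + (a x1 : ℂ) * (x1 : G → ℂ) g +
        (a x2 : ℂ) * (x2 : G → ℂ) g = 0 := by
    intro η hη g hg
    have h := hrel η hη g hg
    rw [hsumC (fun χ => (a χ : ℂ) * (χ : G → ℂ) g), ha1, hχ₁] at h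
    push_cast at h
    linear_combination h
  have hrest : ∀ χ : IrrCharacter G, (χ : G → ℂ) ≠ (fun _ => 1) → χ ≠ x1 → χ ≠ x2 → χ ∉ Yf →
      7 ∣ charDegree (χ : G → ℂ) ∧ ∀ y : G, orderOf y = 7 → (χ : G → ℂ) y = 0 := by
    intro χ h1 h2 h3 h4
    have hχX : χ ∉ Xf := by
      intro h
      rcases hXf_mem χ h with rfl | rfl | rfl
      · exact h1 hχ₁
      · exact h2 rfl
      · exact h3 rfl
    exact ⟨hout χ hχX h4, hvan7 χ hχX h4⟩
  have hne_triv : ∀ χ : IrrCharacter G, χ ≠ χ₁ → (χ : G → ℂ) ≠ (fun _ => 1) := by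
    intro χ hχ h
    exact hχ (Subtype.ext (h.trans hχ₁.symm))
  have hYtriv : ∀ η ∈ Yf, (η : G → ℂ) ≠ (fun _ => 1) := by
    intro η hη
    apply hne_triv
    intro h
    exact hnotY χ₁ hχ₁X (h ▸ hη)
  rcases hpat with hpat | hpat
  · refine ⟨x1, x2, Yf, deg x1, a x1, deg x2, a x2, e, κ, ?_, hpat⟩
    exact ⟨rfl, rfl, hYc, hdegY, hnotY x1 hx1Xf, hnotY x2 hx2Xf, h12, hne_triv x1 hx1ne,
      hne_triv x2 hx2ne, hYtriv, hκ,
      fun y hy => ⟨hval7 x1 hx1Xf y hy, hval7 x2 hx2Xf y hy⟩, hYreg, hrelg, hrest⟩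
  · refine ⟨x2, x1, Yf, deg x2, a x2, deg x1, a x1, e, κ, ?_, hpat⟩
    refine ⟨rfl, rfl, hYc, hdegY, hnotY x2 hx2Xf, hnotY x1 hx1Xf, h12.symm, hne_triv x2 hx2ne,
      hne_triv x1 hx1ne, hYtriv, hκ,
      fun y hy => ⟨hval7 x2 hx2Xf y hy, hval7 x1 hx1Xf y hy⟩, hYreg, ?_, ?_⟩
    · intro η hη g hg
      linear_combination hrelg η hη g hg
    · intro χ h1 h2 h3 h4
      exact hrest χ h1 h3 h2 h4

end Cfsg.Agent.Lib.Helper27.A7Blk
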