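import Mathlib
import Cfsg.Agent.Lib.Helper27.A7BlkC

/-!
# Simple groups of order 2520, part D: class multiplication with an element of order `7` (helper27)

With the data `Blk7` of the principal `7`-block: only the five characters of the block contribute
to the class multiplication coefficients `a(x, x', y)`, `y` of order `7`, and for `7`-regular
`x`, `x'`
`#{s ~ x, s⁻¹ y ~ x'} |C(x)| |C(x')| = |G| (1 + a₂ p p'/n₂ + a₃ q q'/n₃ + κ θ θ'/e)`
where `p, q` are the values of `x₂, x₃` and `θ = 1 + a₂ p + a₃ q`.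
(Generic clone of helper5's `L33D`.)
-/

set_option autoImplicit false
set_option linter.unusedSectionVars false
set_option linter.style.haveILetI false

namespace Cfsg.Agent.Lib.Helper27.A7Blk

open Cfsg Cfsg.Agent.CharLib Cfsg.Agent.Lib.Helper24 Cfsg.Agent.Lib.Helper5.L33
open scoped ComplexConjugate

universe u

variable {G : Type u} [Group G] [Finite G]

namespace Blk7

variable {x2 x3 : IrrCharacter G} {Yf : Finset (IrrCharacter G)}
  {n2 : ℕ} {a2 : ℤ} {n3 : ℕ} {a3 : ℤ} {e : ℕ} {κ : ℤ} (B : Blk7 x2 x3 Yf n2 a2 n3 a3 e κ)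

include B

theorem triv_ne_2 : triv G ≠ x2 := by
  intro h
  apply B.t2
  rw [← h]
  rfl

theorem triv_ne_3 : triv G ≠ x3 := by
  intro h
  apply B.t3
  rw [← h]
  rfl

theorem triv_notin : triv G ∉ Yf := by
  intro h
  exact B.tY _ h rfl

theorem apply_one_2 : (x2 : G → ℂ) 1 = n2 := by
  rw [irr_apply_one, B.d2]

theorem apply_one_3 : (x3 : G → ℂ) 1 = n3 := by
  rw [irr_apply_one, B.d3]

theorem apply_one_Y {η : IrrCharacter G} (hη : η ∈ Yf) : (η : G → ℂ) 1 = e := by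
  rw [irr_apply_one, B.dY η hη]

theorem n2_pos : 0 < n2 := by
  rw [← B.d2]; exact irr_charDegree_pos x2

theorem n3_pos : 0 < n3 := by
  rw [← B.d3]; exact irr_charDegree_pos x3

theorem exists_mem_Y : ∃ η, η ∈ Yf := by
  apply Finset.card_pos.mp
  rw [B.cY]; norm_num

theorem e_pos : 0 < e := by
  obtain ⟨η, hη⟩ := B.exists_mem_Y
  rw [← B.dY η hη]; exact irr_charDegree_pos η

theorem kappa_sq : (κ : ℂ) * κ = 1 := by
  rcases B.hκ with h | h <;> rw [h] <;> norm_num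

/-- the degree relation -/
theorem deg_rel : (κ : ℂ) * e + 1 + (a2 : ℂ) * n2 + (a3 : ℂ) * n3 = 0 := by
  obtain ⟨η, hη⟩ := B.exists_mem_Y
  have h := B.rel η hη 1 (by rw [orderOf_one]; norm_num)
  rw [B.apply_one_Y hη, B.apply_one_2, B.apply_one_3] at h
  exact h

/-- the value of an exceptional character on a `7`-regular element -/
theorem eta_eq {η : IrrCharacter G} (hη : η ∈ Yf) (g : G) (hg : ¬ 7 ∣ orderOf g) :
    (η : G → ℂ) g = -(κ : ℂ) * (1 + (a2 : ℂ) * (x2 : G → ℂ) g + (a3 : ℂ) * (x3 : G → ℂ) g) := by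
  have h := B.rel η hη g hg
  have hk := B.kappa_sq
  linear_combination (κ : ℂ) * h - (η : G → ℂ) g * hk

open Classical in
/-- the characters outside the principal block -/
noncomputable def restSet (_B : Blk7 x2 x3 Yf n2 a2 n3 a3 e κ) [Fintype (IrrCharacter G)] :
    Finset (IrrCharacter G) :=
  Finset.univ \ (insert (triv G) (insert x2 (insert x3 Yf)))

theorem mem_restSet [Fintype (IrrCharacter G)] (χ : IrrCharacter G) :
    χ ∈ B.restSet ↔ χ ≠ triv G ∧ χ ≠ x2 ∧ χ ≠ x3 ∧ χ ∉ Yf := by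
  classical
  unfold restSet
  simp only [Finset.mem_sdiff, Finset.mem_univ, true_and, Finset.mem_insert, not_or]

theorem rest_prop [Fintype (IrrCharacter G)] {χ : IrrCharacter G} (hχ : χ ∈ B.restSet) :
    7 ∣ charDegree (χ : G → ℂ) ∧ ∀ y : G, orderOf y = 7 → (χ : G → ℂ) y = 0 := by
  obtain ⟨h1, h2, h3, h4⟩ := (B.mem_restSet χ).mp hχ
  exact B.rest χ (fun h => h1 (eq_triv_of_fun h)) h2 h3 h4

/-- splitting a sum over all irreducible characters -/
theorem sum_split [Fintype (IrrCharacter G)] {M : Type*} [AddCommMonoid M]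
    (F : IrrCharacter G → M) :
    ∑ χ, F χ = F (triv G) + (F x2 + (F x3 + ∑ η ∈ Yf, F η)) + ∑ χ ∈ B.restSet, F χ := by
  classical
  have h1 := Finset.sum_sdiff (Finset.subset_univ (insert (triv G) (insert x2 (insert x3 Yf))))
    (f := F)
  have e' : B.restSet = Finset.univ \ (insert (triv G) (insert x2 (insert x3 Yf))) := by
    unfold restSet
    congr
  rw [← h1, ← e', add_comm]
  congr 1
  rw [Finset.sum_insert, Finset.sum_insert, Finset.sum_insert B.n3Y]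
  · simp only [Finset.mem_insert, not_or]
    exact ⟨B.ne23, B.n2Y⟩
  · simp only [Finset.mem_insert, not_or]
    exact ⟨B.triv_ne_2, B.triv_ne_3, B.triv_notin⟩

theorem sum_vanish [Fintype (IrrCharacter G)] (F : IrrCharacter G → ℂ)
    (hF : ∀ χ ∈ B.restSet, F χ = 0) :
    ∑ χ, F χ = F (triv G) + (F x2 + (F x3 + ∑ η ∈ Yf, F η)) := by
  rw [B.sum_split F, Finset.sum_eq_zero hF, add_zero]

/-- the sum of the values of the exceptional characters at an element of order `7` -/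
theorem sum_Y_7 (y : G) (hy : orderOf y = 7) : ∑ η ∈ Yf, (η : G → ℂ) y = κ := by
  classical
  letI : Fintype G := Fintype.ofFinite G
  letI : Fintype (IrrCharacter G) := fintypeIrr G
  have hy1 : ¬ IsConj y 1 := by
    intro h
    have : y = 1 := isConj_one_left.mp h
    rw [this, orderOf_one] at hy
    omega
  have h := sum_irr_mul_conj (G := G) y 1
  rw [Cfsg.Agent.Lib.Helper19.Ord720.classInd_of_not hy1, zero_mul] at h
  rw [B.sum_vanish (fun χ => (χ : G → ℂ) y * conj ((χ : G → ℂ) 1))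
    (fun χ hχ => by
      show (χ : G → ℂ) y * conj ((χ : G → ℂ) 1) = 0
      rw [(B.rest_prop hχ).2 y hy, zero_mul])] at h
  simp only [triv_apply, B.apply_one_2, B.apply_one_3, (B.v7 y hy).1, (B.v7 y hy).2] at h
  have h2 : ∑ η ∈ Yf, (η : G → ℂ) y * conj ((η : G → ℂ) 1) = e * ∑ η ∈ Yf, (η : G → ℂ) y := by
    rw [Finset.mul_sum]
    apply Finset.sum_congr rfl
    intro η hη
    rw [B.apply_one_Y hη, map_natCast]
    ring
  rw [h2, map_one, map_natCast, map_natCast] at h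
  have hd := B.deg_rel
  have he0 : (e : ℂ) ≠ 0 := Nat.cast_ne_zero.mpr B.e_pos.ne'
  have h3 : (e : ℂ) * (∑ η ∈ Yf, (η : G → ℂ) y - κ) = 0 := by
    linear_combination h - hd
  rcases mul_eq_zero.mp h3 with h4 | h4
  · exact absurd h4 he0
  · linear_combination h4

/-- the character sum of the class multiplication coefficient with an element of order `7` -/
theorem class_sum [Fintype (IrrCharacter G)] (x x' y : G) (hx : ¬ 7 ∣ orderOf x)
    (hx' : ¬ 7 ∣ orderOf x') (hy : orderOf y = 7) :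
    ∑ χ : IrrCharacter G, (χ : G → ℂ) x * (χ : G → ℂ) x' * (χ : G → ℂ) y⁻¹ / (χ : G → ℂ) 1 =
      1 + (a2 : ℂ) * ((x2 : G → ℂ) x * (x2 : G → ℂ) x') / n2 +
        (a3 : ℂ) * ((x3 : G → ℂ) x * (x3 : G → ℂ) x') / n3 +
        (κ : ℂ) * ((1 + (a2 : ℂ) * (x2 : G → ℂ) x + (a3 : ℂ) * (x3 : G → ℂ) x) *
          (1 + (a2 : ℂ) * (x2 : G → ℂ) x' + (a3 : ℂ) * (x3 : G → ℂ) x')) / e := by
  have hyi : orderOf y⁻¹ = 7 := by rw [orderOf_inv]; exact hy
  rw [B.sum_vanish (fun χ => (χ : G → ℂ) x * (χ : G → ℂ) x' * (χ : G → ℂ) y⁻¹ / (χ : G → ℂ) 1)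
    (fun χ hχ => by
      show (χ : G → ℂ) x * (χ : G → ℂ) x' * (χ : G → ℂ) y⁻¹ / (χ : G → ℂ) 1 = 0
      rw [(B.rest_prop hχ).2 y⁻¹ hyi, mul_zero, zero_div])]
  simp only [triv_apply, B.apply_one_2, B.apply_one_3, (B.v7 y⁻¹ hyi).1, (B.v7 y⁻¹ hyi).2]
  have h2 : ∑ η ∈ Yf, (η : G → ℂ) x * (η : G → ℂ) x' * (η : G → ℂ) y⁻¹ / (η : G → ℂ) 1 =
      ((1 + (a2 : ℂ) * (x2 : G → ℂ) x + (a3 : ℂ) * (x3 : G → ℂ) x) *
        (1 + (a2 : ℂ) * (x2 : G → ℂ) x' + (a3 : ℂ) * (x3 : G → ℂ) x')) / e *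
        ∑ η ∈ Yf, (η : G → ℂ) y⁻¹ := by
    rw [Finset.mul_sum]
    apply Finset.sum_congr rfl
    intro η hη
    rw [B.apply_one_Y hη, B.eta_eq hη x hx, B.eta_eq hη x' hx']
    have hk := B.kappa_sq
    have he0 : (e : ℂ) ≠ 0 := Nat.cast_ne_zero.mpr B.e_pos.ne'
    field_simp
    linear_combination ((1 + (a2 : ℂ) * (x2 : G → ℂ) x + (a3 : ℂ) * (x3 : G → ℂ) x) *
        (1 + (a2 : ℂ) * (x2 : G → ℂ) x' + (a3 : ℂ) * (x3 : G → ℂ) x') * (η : G → ℂ) y⁻¹) * hk
  rw [h2, B.sum_Y_7 y⁻¹ hyi]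
  ring

/-- **the class multiplication coefficients** with an element of order `7` -/
theorem pair_count (x x' y : G) (hx : ¬ 7 ∣ orderOf x)
    (hx' : ¬ 7 ∣ orderOf x') (hy : orderOf y = 7) :
    (Nat.card {s : G // IsConj x s ∧ IsConj x' (s⁻¹ * y)} : ℂ) *
        ((Nat.card ↥(Subgroup.centralizer ({x} : Set G)) : ℂ) *
          (Nat.card ↥(Subgroup.centralizer ({x'} : Set G)) : ℂ)) =
      (Nat.card G : ℂ) * (1 + (a2 : ℂ) * ((x2 : G → ℂ) x * (x2 : G → ℂ) x') / n2 +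
        (a3 : ℂ) * ((x3 : G → ℂ) x * (x3 : G → ℂ) x') / n3 +
        (κ : ℂ) * ((1 + (a2 : ℂ) * (x2 : G → ℂ) x + (a3 : ℂ) * (x3 : G → ℂ) x) *
          (1 + (a2 : ℂ) * (x2 : G → ℂ) x' + (a3 : ℂ) * (x3 : G → ℂ) x')) / e) := by
  classical
  letI : Fintype G := Fintype.ofFinite G
  letI : Fintype (IrrCharacter G) := fintypeIrr G
  have h1 := Cfsg.Agent.Lib.Helper24.Ord4320.class_mul_count x x' y
  have h2 := Cfsg.Agent.Lib.Helper24.Ord4320.card_pairs_conj x x' y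
  rw [B.class_sum x x' y hx hx' hy, h2, ← Nat.card_eq_fintype_card] at h1
  push_cast at h1
  exact h1

end Blk7

end Cfsg.Agent.Lib.Helper27.A7Blk
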