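import Mathlib
import Cfsg.Agent.Lib.Helper27.A7BlkD
import Cfsg.Agent.Lib.Helper25.Gagola
import Cfsg.Agent.Lib.Helper12.Ord5040E
import Cfsg.Agent.Lib.Helper5.L33E

/-!
# Simple groups of order 2520, part E: general tools (helper27)

* local facts about the elements of order `7` from `|C(y)| = 7`, `|N(<y>)| = 21`;
* faithfulness of the non-trivial irreducible characters of a simple group, norm bound;
* for the principal `7`-block `Blk7`: an element of order `7` is not a product of two involutions,
  whence a quadratic equation for the values at an involution.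
-/

set_option autoImplicit false
set_option linter.unusedSectionVars false
set_option linter.style.haveILetI false

namespace Cfsg.Agent.Lib.Helper27.A7Blk

open MulAction Cfsg Cfsg.Agent.Lib.Helper8.SmallSimple Cfsg.Agent.Lib.Helper8.SmallSimple2
  Cfsg.Agent.Lib.Helper7 Cfsg.Agent.Lib.Helper19.Ord4032 Cfsg.Agent.CharLib
  Cfsg.Agent.Lib.Helper24 Cfsg.Agent.Lib.Helper12.BSF Cfsg.Agent.Lib.Helper6
  Cfsg.Agent.Lib.Helper5.L33
open scoped ComplexConjugate

universe u

variable {G : Type u} [Group G] [Finite G]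

/-! ### local facts -/

section local7

variable (h7 : ∀ y : G, orderOf y = 7 → Nat.card ↥(Subgroup.centralizer ({y} : Set G)) = 7)
  (h21 : ∀ y : G, orderOf y = 7 →
    Nat.card ↥(Subgroup.normalizer ((Subgroup.zpowers y : Subgroup G) : Set G)) = 21)

include h7 in
/-- an element of order divisible by `7` has order `7` -/
theorem orderOf_of_seven_dvd (g : G) (h : 7 ∣ orderOf g) : orderOf g = 7 := by
  have hpos : orderOf g ≠ 0 := (orderOf_pos g).ne'
  have hy := orderOf_pow_orderOf_div hpos h
  have hc := h7 _ hy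
  have hmem : g ∈ Subgroup.centralizer ({g ^ (orderOf g / 7)} : Set G) := by
    rw [Subgroup.mem_centralizer_singleton_iff]
    exact ((Commute.refl g).pow_right _).eq
  have hd := Subgroup.orderOf_dvd_natCard _ hmem
  rw [hc] at hd
  exact Nat.dvd_antisymm hd h

include h7 in
theorem reg_of_orderOf (g : G) (n : ℕ) (hn : orderOf g = n) (h : ¬ 7 ∣ n) : ¬ 7 ∣ orderOf g := by
  rw [hn]; exact h

include h21 in
/-- no involution inverts an element of order `7` -/
theorem not_real_seven (y : G) (hy : orderOf y = 7) (s : G)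
    (hs : orderOf s = 2) (h : s * y * s⁻¹ = y⁻¹) : False := by
  have hss : s * s = 1 := by
    rw [← pow_two, ← hs]; exact pow_orderOf_eq_one s
  have hmem := Cfsg.Agent.Lib.Helper24.M11Inv.mem_normalizer_zpowers_of_inverts hss h
  have hd := Subgroup.orderOf_dvd_natCard _ hmem
  rw [h21 y hy, hs] at hd
  omega

include h21 in
/-- an element of order `7` is not a product of two involutions -/
theorem isEmpty_invol_pairs (t t' y : G) (ht : orderOf t = 2) (ht' : orderOf t' = 2)
    (hy : orderOf y = 7) : IsEmpty {s : G // IsConj t s ∧ IsConj t' (s⁻¹ * y)} := by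
  constructor
  rintro ⟨s, h1, h2⟩
  have hs : orderOf s = 2 := by
    rw [← Cfsg.Agent.Lib.Helper24.M11Inv.orderOf_eq_of_isConj h1, ht]
  have hs' : orderOf (s⁻¹ * y) = 2 := by
    rw [← Cfsg.Agent.Lib.Helper24.M11Inv.orderOf_eq_of_isConj h2, ht']
  have hss : s * s = 1 := by
    rw [← pow_two, ← hs]; exact pow_orderOf_eq_one s
  have hss' : (s⁻¹ * y) * (s⁻¹ * y) = 1 := by
    rw [← pow_two, ← hs']; exact pow_orderOf_eq_one _
  have e1 : s⁻¹ = s := inv_eq_of_mul_eq_one_left hss
  apply not_real_seven h21 y hy s hs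
  rw [e1] at hss' ⊢
  have h3 : s * y * s * y = 1 := by
    calc s * y * s * y = (s * y) * (s * y) := by group
      _ = 1 := hss'
  calc s * y * s = (s * y * s * y) * y⁻¹ := by group
    _ = y⁻¹ := by rw [h3, one_mul]

end local7

/-! ### faithfulness and the norm bound -/

/-- a non-trivial irreducible character of a simple group is faithful -/
theorem eq_one_of_apply_eq_apply_one [IsSimpleGroup G] (χ : IrrCharacter G)
    (hχ : (χ : G → ℂ) ≠ (fun _ => 1)) (g : G) (h : (χ : G → ℂ) g = (χ : G → ℂ) 1) : g = 1 := by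
  classical
  letI : Fintype G := Fintype.ofFinite G
  have hmem : g ∈ Cfsg.Agent.Lib.Helper25.irrKer χ :=
    (Cfsg.Agent.Lib.Helper25.mem_irrKer χ g).mpr h
  rcases (Cfsg.Agent.Lib.Helper25.irrKer_normal χ).eq_bot_or_eq_top with hK | hK
  · rw [hK, Subgroup.mem_bot] at hmem
    exact hmem
  · exfalso
    have hall : ∀ x : G, (χ : G → ℂ) x = (χ : G → ℂ) 1 := by
      intro x
      apply (Cfsg.Agent.Lib.Helper25.mem_irrKer χ x).mp
      rw [hK]; exact Subgroup.mem_top x
    have h1 := sum_irr_mul_conj_irr χ χ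
    rw [if_pos rfl] at h1
    have h2 : ∑ y : G, (χ : G → ℂ) y * conj ((χ : G → ℂ) y) =
        (Nat.card G : ℂ) * ((charDegree (χ : G → ℂ) : ℂ) * (charDegree (χ : G → ℂ) : ℂ)) := by
      have : ∀ y : G, (χ : G → ℂ) y * conj ((χ : G → ℂ) y) =
          (charDegree (χ : G → ℂ) : ℂ) * (charDegree (χ : G → ℂ) : ℂ) := by
        intro y
        rw [hall y, irr_apply_one, map_natCast]
      rw [Finset.sum_congr rfl (fun y _ => this y), Finset.sum_const, Finset.card_univ,
        Nat.card_eq_fintype_card]
      simp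
    rw [h2] at h1
    have hG0 : (Nat.card G : ℂ) ≠ 0 := Nat.cast_ne_zero.mpr Nat.card_pos.ne'
    have h3 : ((charDegree (χ : G → ℂ) * charDegree (χ : G → ℂ) : ℕ) : ℂ) = ((1 : ℕ) : ℂ) := by
      push_cast
      have := mul_left_cancel₀ hG0 (h1.trans (mul_one _).symm)
      exact this
    have h4 : charDegree (χ : G → ℂ) * charDegree (χ : G → ℂ) = 1 := by exact_mod_cast h3
    have h5 : charDegree (χ : G → ℂ) = 1 := Nat.eq_one_of_mul_eq_one_left h4
    apply hχ
    funext x
    rw [hall x, irr_apply_one, h5]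
    norm_num

/-- the norm bound for an irreducible character -/
theorem irr_norm_le (χ : IrrCharacter G) (g : G) :
    ‖(χ : G → ℂ) g‖ ≤ (charDegree (χ : G → ℂ) : ℝ) := by
  obtain ⟨n, ρ, hirr, hρ⟩ := χ.2
  have h1 := norm_char_le ρ g
  have h2 : (Module.finrank ℂ (Fin n → ℂ) : ℂ) = (charDegree (χ : G → ℂ) : ℂ) := by
    rw [← irr_apply_one, ← hρ, Representation.char_one]
  have h3 : Module.finrank ℂ (Fin n → ℂ) = charDegree (χ : G → ℂ) := by exact_mod_cast h2
  rw [hρ, h3] at h1
  exact h1

end Cfsg.Agent.Lib.Helper27.A7Blk
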