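import Mathlib
import Cfsg.Agent.Lib.Helper27.A7BlkE
import Cfsg.Agent.Lib.Lead.PowTwist2
import Cfsg.Agent.Lib.Helper10.CyclicTIGalois
import Cfsg.Agent.Lib.Helper6.DefectOrder
import Cfsg.Agent.Lib.Lead.KGVRegular
import Cfsg.Agent.Lib.Helper13.FrobRepD

/-!
# Simple groups of order 2520, part F: toolbox (helper27)

* a character which is the only irreducible character of its degree is integer valued and invariant
  under the power maps; sums over cyclic subgroups of prime order;
* `omega_dvd`: integrality of the central character as a divisibility;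
* `Blk7.cent_lower`: lower bound for the order of a centralizer from the principal `7`-block;
* `Blk7.pair_count_int`: the class multiplication coefficients with an element of order `7`, over `ℤ`;
* `not_seven_dvd_card_centralizer`.
-/

set_option autoImplicit false
set_option linter.unusedSectionVars false
set_option linter.style.haveILetI false

namespace Cfsg.Agent.Lib.Helper27.A7Blk

open MulAction Cfsg Cfsg.Agent.CharLib Cfsg.Agent.Lib.Helper24 Cfsg.Agent.Lib.Helper6
  Cfsg.Agent.Lib.Helper5.L33 Cfsg.Agent.Lib.Helper12.BSF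
open scoped ComplexConjugate

universe u

variable {G : Type u} [Group G] [Finite G]

/-! ### characters which are unique of their degree -/

section unique

variable (χ : IrrCharacter G)
  (hu : ∀ ψ : IrrCharacter G, charDegree (ψ : G → ℂ) = charDegree (χ : G → ℂ) → ψ = χ)

include hu

theorem pow_invariant_of_unique (k : ℕ) (hk : k.Coprime (Nat.card G)) (g : G) :
    (χ : G → ℂ) (g ^ k) = (χ : G → ℂ) g := by
  have h1 : twIrr k hk χ = χ := by
    apply hu
    unfold charDegree
    rw [twIrr_apply, one_pow]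
  exact (twIrr_eq_iff k hk χ).mp h1 g

theorem int_of_unique (g : G) : ∃ n : ℤ, (χ : G → ℂ) g = (n : ℂ) :=
  Cfsg.Agent.Lib.Helper10.irr_int_of_forall_pow_eq χ.2 g
    (fun m hm => pow_invariant_of_unique χ hu m hm g)

theorem pow_eq_of_unique (g : G) (j : ℕ) (hj : j.Coprime (orderOf g)) :
    (χ : G → ℂ) (g ^ j) = (χ : G → ℂ) g := by
  obtain ⟨k, hk, hkj⟩ := Cfsg.Agent.Lib.Helper10.exists_coprime_lift (N := Nat.card G)
    Nat.card_pos (orderOf_dvd_natCard g) hj
  have h : g ^ k = g ^ j := pow_eq_pow_iff_modEq.mpr hkj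
  rw [← h]
  exact pow_invariant_of_unique χ hu k hk g

theorem real_of_unique (g : G) : conj ((χ : G → ℂ) g) = (χ : G → ℂ) g := by
  obtain ⟨n, hn⟩ := int_of_unique χ hu g
  rw [hn, map_intCast]

end unique

/-- the sum of a function over a cyclic subgroup of prime order, when the function is constant on
the non-identity elements -/
theorem sum_zpowers_prime {X : Type*} [AddCommMonoid X] (f : G → X) (g : G) (r : ℕ)
    (hg : orderOf g = r) (hr : 0 < r) (hf : ∀ j : ℕ, 0 < j → j < r → f (g ^ j) = f g)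
    [Fintype (Subgroup.zpowers g)] :
    ∑ c : Subgroup.zpowers g, f (c : G) = f 1 + (r - 1) • f g := by
  rw [Cfsg.Agent.Lib.Helper13.FrobRep.sum_zpowers_eq_sum_range, hg]
  obtain ⟨r', rfl⟩ : ∃ r', r = r' + 1 := ⟨r - 1, by omega⟩
  rw [Finset.sum_range_succ', pow_zero, add_comm]
  congr 1
  rw [Nat.add_sub_cancel]
  rw [Finset.sum_congr rfl (fun j hj => hf (j + 1) (by omega)
    (by have := Finset.mem_range.mp hj; omega))]
  rw [Finset.sum_const, Finset.card_range]

/-- the sum of an irreducible character over a cyclic subgroup of prime order -/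
theorem prime_sum (χ : IrrCharacter G) (g : G) (r : ℕ) (hr : r.Prime) (hg : orderOf g = r)
    (n : ℤ) (hf : ∀ j : ℕ, 0 < j → j < r → (χ : G → ℂ) (g ^ j) = (n : ℂ)) :
    ∃ m : ℕ, (charDegree (χ : G → ℂ) : ℤ) + ((r : ℤ) - 1) * n = (r : ℤ) * m := by
  classical
  letI : Fintype (Subgroup.zpowers g) := Fintype.ofFinite _
  obtain ⟨m, hm⟩ := sum_subgroup_irr (Subgroup.zpowers g) χ
  refine ⟨m, ?_⟩
  have hg1 : (χ : G → ℂ) g = (n : ℂ) := by
    have := hf 1 (by norm_num) hr.one_lt
    rwa [pow_one] at this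
  rw [sum_zpowers_prime (fun x => (χ : G → ℂ) x) g r hg hr.pos
    (fun j h1 h2 => by rw [hf j h1 h2, hg1])] at hm
  rw [irr_apply_one, hg1, ← Nat.card_eq_fintype_card, Nat.card_zpowers, hg, nsmul_eq_mul] at hm
  have h1 : ((r - 1 : ℕ) : ℂ) = (r : ℂ) - 1 := by
    rw [Nat.cast_sub hr.one_le, Nat.cast_one]
  rw [h1] at hm
  exact_mod_cast hm

/-- the sum of a character which is unique of its degree over a cyclic subgroup of prime order -/
theorem prime_sum_of_unique (χ : IrrCharacter G)
    (hu : ∀ ψ : IrrCharacter G, charDegree (ψ : G → ℂ) = charDegree (χ : G → ℂ) → ψ = χ)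
    (g : G) (r : ℕ) (hr : r.Prime) (hg : orderOf g = r) (n : ℤ) (hn : (χ : G → ℂ) g = (n : ℂ)) :
    ∃ m : ℕ, (charDegree (χ : G → ℂ) : ℤ) + ((r : ℤ) - 1) * n = (r : ℤ) * m := by
  apply prime_sum χ g r hr hg n
  intro j h1 h2
  rw [pow_eq_of_unique χ hu g j, hn]
  rw [hg]
  exact ((Nat.Prime.coprime_iff_not_dvd hr).mpr (Nat.not_dvd_of_pos_of_lt h1 h2)).symm

/-! ### integrality of the central character -/

theorem omega_dvd (χ : IrrCharacter G) (g : G) (n : ℤ) (hn : (χ : G → ℂ) g = (n : ℂ)) :
    (charDegree (χ : G → ℂ) : ℤ) ∣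
      ((Subgroup.centralizer ({g} : Set G)).index : ℤ) * n := by
  classical
  letI : Fintype G := Fintype.ofFinite G
  have h := isIntegral_centralChar χ g
  have hd : (charDegree (χ : G → ℂ) : ℤ) ≠ 0 := by
    have := irr_charDegree_pos χ
    exact_mod_cast this.ne'
  apply int_dvd_of_eq_mul_isIntegral hd h
  unfold centralChar
  rw [irr_apply_one, hn]
  have hd' : (charDegree (χ : G → ℂ) : ℂ) ≠ 0 := by exact_mod_cast hd
  push_cast
  field_simp

theorem omega_dvd' (χ : IrrCharacter G) (g : G) (n : ℤ) (hn : (χ : G → ℂ) g = (n : ℂ)) :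
    (charDegree (χ : G → ℂ) : ℤ) * (Nat.card ↥(Subgroup.centralizer ({g} : Set G)) : ℤ) ∣
      (Nat.card G : ℤ) * n := by
  obtain ⟨c, hc⟩ := omega_dvd χ g n hn
  have h := Subgroup.card_mul_index (Subgroup.centralizer ({g} : Set G))
  refine ⟨c, ?_⟩
  have h' : (Nat.card G : ℤ) = (Nat.card ↥(Subgroup.centralizer ({g} : Set G)) : ℤ) *
      ((Subgroup.centralizer ({g} : Set G)).index : ℤ) := by exact_mod_cast h.symm
  rw [h']
  linear_combination (Nat.card ↥(Subgroup.centralizer ({g} : Set G)) : ℤ) * hc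

/-! ### centralizers of `7`-regular elements -/

theorem not_seven_dvd_card_centralizer
    (h7 : ∀ y : G, orderOf y = 7 → Nat.card ↥(Subgroup.centralizer ({y} : Set G)) = 7)
    (g : G) (hg1 : g ≠ 1) (hg : ¬ 7 ∣ orderOf g) :
    ¬ 7 ∣ Nat.card ↥(Subgroup.centralizer ({g} : Set G)) := by
  intro hd
  haveI : Fact (Nat.Prime 7) := ⟨by norm_num⟩
  obtain ⟨y, hy⟩ := exists_prime_orderOf_dvd_card' (G := ↥(Subgroup.centralizer ({g} : Set G))) 7 hd
  have hy' : orderOf (y : G) = 7 := by rw [Subgroup.orderOf_coe]; exact hy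
  have hcomm : (y : G) * g = g * (y : G) := Subgroup.mem_centralizer_singleton_iff.mp y.2
  -- g * y has order divisible by 7
  have hgC : g ∈ Subgroup.centralizer ({(y : G)} : Set G) := by
    rw [Subgroup.mem_centralizer_singleton_iff]
    exact hcomm.symm
  have hyC : (y : G) ∈ Subgroup.centralizer ({(y : G)} : Set G) := by
    rw [Subgroup.mem_centralizer_singleton_iff]
  -- the centralizer of y has order 7 hence is cyclic generated by y
  have hc := h7 _ hy'
  have hle : Subgroup.zpowers (y : G) ≤ Subgroup.centralizer ({(y : G)} : Set G) := by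
    rw [Subgroup.zpowers_le]; exact hyC
  have heq : Subgroup.zpowers (y : G) = Subgroup.centralizer ({(y : G)} : Set G) := by
    apply Subgroup.eq_of_le_of_card_ge hle
    rw [hc, Nat.card_zpowers, hy']
  rw [← heq] at hgC
  have hdvd : orderOf g ∣ 7 := by
    have := Subgroup.orderOf_dvd_natCard _ hgC
    rwa [Nat.card_zpowers, hy'] at this
  rcases (Nat.dvd_prime (by norm_num : Nat.Prime 7)).mp hdvd with h | h
  · exact hg1 (orderOf_eq_one_iff.mp h)
  · exact hg (by rw [h])

end Cfsg.Agent.Lib.Helper27.A7Blk
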