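import Mathlib
import Cfsg.Agent.Lib.Helper27.A7BlkF

/-!
# Simple groups of order 2520, part G: integer forms of the block relations (helper27)

For a principal `7`-block `B : Blk7 x₂ x₃ Yf n₂ a₂ n₃ a₃ e κ` with pairwise different degrees
`1, n₂, n₃, e` prime to `7`:
* `B.unique2`, `B.unique3`: `x₂`, `x₃` are the only irreducible characters of their degrees, hence
  integer valued (`B.int2`, `B.int3`);
* `B.cent_lower`: `1 + p² + q² + 2 θ² ≤ |C(g)|` for a `7`-regular `g`;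
* `B.pair_count_int`: class multiplication coefficients, over `ℤ`;
* `B.invol_eq`: the equation of the involutions.
-/

set_option autoImplicit false
set_option linter.unusedSectionVars false
set_option linter.style.haveILetI false

namespace Cfsg.Agent.Lib.Helper27.A7Blk

open MulAction Cfsg Cfsg.Agent.CharLib Cfsg.Agent.Lib.Helper24 Cfsg.Agent.Lib.Helper6
  Cfsg.Agent.Lib.Helper5.L33 Cfsg.Agent.Lib.Helper12.BSF
open scoped ComplexConjugate

universe u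

variable {G : Type u} [Group G] [Finite G]

namespace Blk7

variable {x2 x3 : IrrCharacter G} {Yf : Finset (IrrCharacter G)}
  {n2 : ℕ} {a2 : ℤ} {n3 : ℕ} {a3 : ℤ} {e : ℕ} {κ : ℤ} (B : Blk7 x2 x3 Yf n2 a2 n3 a3 e κ)

include B

theorem unique2 (h1 : n2 ≠ 1) (h23 : n2 ≠ n3) (h2e : n2 ≠ e) (h27 : ¬ 7 ∣ n2)
    (ψ : IrrCharacter G) (hψ : charDegree (ψ : G → ℂ) = charDegree (x2 : G → ℂ)) : ψ = x2 := by
  rw [B.d2] at hψ
  by_contra hne
  by_cases ht : (ψ : G → ℂ) = (fun _ => 1)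
  · apply h1
    rw [← hψ, ht]
    unfold charDegree
    simp
  by_cases h3 : ψ = x3
  · apply h23
    rw [← hψ, h3, B.d3]
  by_cases hY : ψ ∈ Yf
  · apply h2e
    rw [← hψ, B.dY ψ hY]
  · have := (B.rest ψ ht hne h3 hY).1
    rw [hψ] at this
    exact h27 this

theorem unique3 (h1 : n3 ≠ 1) (h23 : n2 ≠ n3) (h3e : n3 ≠ e) (h37 : ¬ 7 ∣ n3)
    (ψ : IrrCharacter G) (hψ : charDegree (ψ : G → ℂ) = charDegree (x3 : G → ℂ)) : ψ = x3 := by
  rw [B.d3] at hψ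
  by_contra hne
  by_cases ht : (ψ : G → ℂ) = (fun _ => 1)
  · apply h1
    rw [← hψ, ht]
    unfold charDegree
    simp
  by_cases h2 : ψ = x2
  · apply h23
    rw [← hψ, h2, B.d2]
  by_cases hY : ψ ∈ Yf
  · apply h3e
    rw [← hψ, B.dY ψ hY]
  · have := (B.rest ψ ht h2 hne hY).1
    rw [hψ] at this
    exact h37 this

/-- lower bound for the order of the centralizer of a `7`-regular element -/
theorem cent_lower (g : G) (hg : ¬ 7 ∣ orderOf g) (p q : ℤ)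
    (hp : (x2 : G → ℂ) g = (p : ℂ)) (hq : (x3 : G → ℂ) g = (q : ℂ)) :
    1 + p ^ 2 + q ^ 2 + 2 * (1 + a2 * p + a3 * q) ^ 2 ≤
      (Nat.card ↥(Subgroup.centralizer ({g} : Set G)) : ℤ) := by
  classical
  letI : Fintype G := Fintype.ofFinite G
  letI : Fintype (IrrCharacter G) := fintypeIrr G
  have hcol := sum_irr_normSq (G := G) g
  rw [B.sum_split (fun χ => ‖(χ : G → ℂ) g‖ ^ 2)] at hcol
  have hrest : 0 ≤ ∑ χ ∈ B.restSet, ‖(χ : G → ℂ) g‖ ^ 2 :=
    Finset.sum_nonneg (fun _ _ => sq_nonneg _)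
  have hk : (κ : ℝ) ^ 2 = 1 := by
    rcases B.hκ with h | h <;> rw [h] <;> norm_num
  have hY : ∑ η ∈ Yf, ‖(η : G → ℂ) g‖ ^ 2 = 2 * ((1 + a2 * p + a3 * q : ℤ) : ℝ) ^ 2 := by
    have h1 : ∀ η ∈ Yf, ‖(η : G → ℂ) g‖ ^ 2 = ((1 + a2 * p + a3 * q : ℤ) : ℝ) ^ 2 := by
      intro η hη
      rw [B.eta_eq hη g hg, hp, hq]
      have h2 : -(κ : ℂ) * (1 + (a2 : ℂ) * (p : ℂ) + (a3 : ℂ) * (q : ℂ)) =
          ((-κ * (1 + a2 * p + a3 * q) : ℤ) : ℂ) := by push_cast; ring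
      rw [h2, Complex.norm_intCast, sq_abs]
      push_cast
      have : (-(κ : ℝ) * (1 + a2 * p + a3 * q)) ^ 2 = (κ : ℝ) ^ 2 * (1 + a2 * p + a3 * q) ^ 2 := by
        ring
      rw [this, hk, one_mul]
    rw [Finset.sum_congr rfl h1, Finset.sum_const, B.cY]
    simp
  rw [hY, triv_apply, hp, hq, norm_one, Complex.norm_intCast, Complex.norm_intCast, sq_abs,
    sq_abs] at hcol
  have : ((1 + p ^ 2 + q ^ 2 + 2 * (1 + a2 * p + a3 * q) ^ 2 : ℤ) : ℝ) ≤
      ((Nat.card ↥(Subgroup.centralizer ({g} : Set G)) : ℤ) : ℝ) := by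
    push_cast
    push_cast at hcol
    linarith
  exact_mod_cast this

/-- **the class multiplication coefficients** with an element of order `7`, over `ℤ` -/
theorem pair_count_int (x x' y : G) (hx : ¬ 7 ∣ orderOf x)
    (hx' : ¬ 7 ∣ orderOf x') (hy : orderOf y = 7) (p q p' q' : ℤ)
    (hp : (x2 : G → ℂ) x = (p : ℂ)) (hq : (x3 : G → ℂ) x = (q : ℂ))
    (hp' : (x2 : G → ℂ) x' = (p' : ℂ)) (hq' : (x3 : G → ℂ) x' = (q' : ℂ)) :
    (Nat.card {s : G // IsConj x s ∧ IsConj x' (s⁻¹ * y)} : ℤ) *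
        ((Nat.card ↥(Subgroup.centralizer ({x} : Set G)) : ℤ) *
          (Nat.card ↥(Subgroup.centralizer ({x'} : Set G)) : ℤ)) * ((n2 : ℤ) * n3 * e) =
      (Nat.card G : ℤ) * ((n2 : ℤ) * n3 * e + a2 * (p * p') * (n3 * e) + a3 * (q * q') * (n2 * e) +
        κ * ((1 + a2 * p + a3 * q) * (1 + a2 * p' + a3 * q')) * (n2 * n3)) := by
  have h := B.pair_count x x' y hx hx' hy
  rw [hp, hq, hp', hq'] at h
  have h2 : (n2 : ℂ) ≠ 0 := Nat.cast_ne_zero.mpr B.n2_pos.ne'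
  have h3 : (n3 : ℂ) ≠ 0 := Nat.cast_ne_zero.mpr B.n3_pos.ne'
  have he : (e : ℂ) ≠ 0 := Nat.cast_ne_zero.mpr B.e_pos.ne'
  have h' : ((Nat.card {s : G // IsConj x s ∧ IsConj x' (s⁻¹ * y)} : ℤ) : ℂ) *
        (((Nat.card ↥(Subgroup.centralizer ({x} : Set G)) : ℤ) : ℂ) *
          ((Nat.card ↥(Subgroup.centralizer ({x'} : Set G)) : ℤ) : ℂ)) * ((n2 : ℂ) * n3 * e) =
      ((Nat.card G : ℤ) : ℂ) * ((n2 : ℂ) * n3 * e + a2 * (p * p') * (n3 * e) +
        a3 * (q * q') * (n2 * e) +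
        κ * ((1 + a2 * p + a3 * q) * (1 + a2 * p' + a3 * q')) * (n2 * n3)) := by
    push_cast
    rw [h]
    field_simp
  exact_mod_cast h'

/-- **the equation of the involutions** -/
theorem invol_eq
    (h21 : ∀ y : G, orderOf y = 7 →
      Nat.card ↥(Subgroup.normalizer ((Subgroup.zpowers y : Subgroup G) : Set G)) = 21)
    (y : G) (hy : orderOf y = 7)
    (t t' : G) (ht : orderOf t = 2) (ht' : orderOf t' = 2) (p q p' q' : ℤ)
    (hp : (x2 : G → ℂ) t = (p : ℂ)) (hq : (x3 : G → ℂ) t = (q : ℂ))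
    (hp' : (x2 : G → ℂ) t' = (p' : ℂ)) (hq' : (x3 : G → ℂ) t' = (q' : ℂ)) :
    (n2 : ℤ) * n3 * e + a2 * (p * p') * (n3 * e) + a3 * (q * q') * (n2 * e) +
        κ * ((1 + a2 * p + a3 * q) * (1 + a2 * p' + a3 * q')) * (n2 * n3) = 0 := by
  have h := B.pair_count_int t t' y (by rw [ht]; norm_num) (by rw [ht']; norm_num) hy p q p' q'
    hp hq hp' hq'
  haveI := isEmpty_invol_pairs h21 t t' y ht ht' hy
  rw [Nat.card_of_isEmpty] at h
  simp only [Nat.cast_zero, zero_mul] at h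
  have hG : (Nat.card G : ℤ) ≠ 0 := by
    have : 0 < Nat.card G := Nat.card_pos
    exact_mod_cast this.ne'
  rcases mul_eq_zero.mp h.symm with h1 | h1
  · exact absurd h1 hG
  · exact h1

end Blk7

end Cfsg.Agent.Lib.Helper27.A7Blk
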