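import Mathlib
import Cfsg.Agent.Lib.Helper20.AschDefs

set_option autoImplicit false
set_option linter.style.haveILetI false
set_option linter.unusedSectionVars false
set_option linter.unusedVariables false

namespace Cfsg.Agent.Lib.Helper27.AschO4

open Matrix Cfsg.Geo Cfsg.Agent.Lib.Helper20.Asch
open scoped Kronecker

section forms

variable {F : Type*} [Field F] {ι : Type} [Fintype ι] [DecidableEq ι]

/-- the bilinear form with Gram matrix `G` -/
def bf (G : Matrix ι ι F) (u v : ι → F) : F := u ⬝ᵥ G *ᵥ v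

lemma bf_bilinear (G : Matrix ι ι F) : IsBilinearForm (bf G) := by
  refine ⟨?_, ?_, ?_, ?_⟩
  · intro x y v; unfold bf; rw [add_dotProduct]
  · intro c x v; unfold bf; rw [smul_dotProduct, smul_eq_mul]
  · intro v x y; unfold bf; rw [Matrix.mulVec_add, dotProduct_add]
  · intro c v x; unfold bf; rw [Matrix.mulVec_smul, dotProduct_smul, smul_eq_mul]

lemma bf_nondeg (G : Matrix ι ι F) (hG : G.det ≠ 0) : IsNondegenerateForm (bf G) := by
  intro v hv
  constructor
  · have h1 : G *ᵥ v ≠ 0 := fun h => hv (Matrix.eq_zero_of_mulVec_eq_zero hG h)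
    obtain ⟨i, hi⟩ : ∃ i, (G *ᵥ v) i ≠ 0 := by
      by_contra hcon
      push Not at hcon
      exact h1 (funext hcon)
    refine ⟨Pi.single i 1, ?_⟩
    unfold bf
    rw [single_one_dotProduct]
    exact hi
  · have h1 : v ᵥ* G ≠ 0 := fun h => hv (Matrix.eq_zero_of_vecMul_eq_zero hG h)
    obtain ⟨i, hi⟩ : ∃ i, (v ᵥ* G) i ≠ 0 := by
      by_contra hcon
      push Not at hcon
      exact h1 (funext hcon)
    refine ⟨Pi.single i 1, ?_⟩
    unfold bf
    rw [Matrix.dotProduct_mulVec, dotProduct_single_one]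
    exact hi

lemma bf_congr (M A : Matrix ι ι F) (u v : ι → F) :
    bf (Aᵀ * M * A) u v = bf M (A *ᵥ u) (A *ᵥ v) := by
  unfold bf
  rw [← Matrix.mulVec_mulVec, ← Matrix.mulVec_mulVec, Matrix.dotProduct_mulVec u,
    Matrix.vecMul_transpose]

lemma bf_similar (G g : Matrix ι ι F) (c : F) (h : gᵀ * G * g = c • G) (u v : ι → F) :
    bf G (g *ᵥ u) (g *ᵥ v) = c * bf G u v := by
  rw [← bf_congr, h]
  unfold bf
  rw [Matrix.smul_mulVec, dotProduct_smul, smul_eq_mul]

lemma bf_symm (G : Matrix ι ι F) (hG : Gᵀ = G) (u v : ι → F) : bf G u v = bf G v u := by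
  unfold bf
  rw [Matrix.dotProduct_mulVec, ← Matrix.mulVec_transpose, hG, dotProduct_comm]

/-- a skew matrix with zero diagonal gives an alternating form (any characteristic) -/
lemma bf_alt (M : Matrix ι ι F) (hs : Mᵀ = -M) (hd : ∀ i, M i i = 0) (v : ι → F) : bf M v v = 0 := by
  classical
  unfold bf
  simp only [dotProduct, Matrix.mulVec, Finset.mul_sum]
  rw [← Finset.sum_product']
  refine Finset.sum_involution (fun a _ => (a.2, a.1)) ?_ ?_ ?_ ?_
  · rintro ⟨i, j⟩ _
    have h1 : M j i = - M i j := by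
      have := congrFun (congrFun hs i) j
      rw [Matrix.transpose_apply, Matrix.neg_apply] at this
      exact this
    simp only [h1]
    ring
  · rintro ⟨i, j⟩ _ hne heq
    simp only [Prod.mk.injEq] at heq
    obtain ⟨rfl, -⟩ := heq
    apply hne
    simp only [hd, mul_zero, zero_mul]
  · intro a _; exact Finset.mem_univ _
  · rintro ⟨i, j⟩ _; rfl

lemma symp_of_alt (G : Matrix ι ι F) (halt : ∀ v, bf G v v = 0) (hG : G.det ≠ 0) :
    IsSymplecticForm (bf G) := by
  refine ⟨bf_bilinear G, ?_, halt, bf_nondeg G hG⟩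
  intro v w
  have h := halt (v + w)
  have hb := bf_bilinear G
  rw [hb.add_left, hb.add_right, hb.add_right, halt, halt] at h
  linear_combination h

lemma quad_of_symm (G : Matrix ι ι F) (hs : Gᵀ = G) (h2 : (2 : F) ≠ 0) (hG : G.det ≠ 0) :
    IsNondegenerateQuadraticForm (fun v => bf G v v) := by
  have hb := bf_bilinear G
  have hpolar : QuadraticMap.polar (fun v => bf G v v) = fun u v => 2 * bf G u v := by
    funext u v
    unfold QuadraticMap.polar
    simp only
    rw [hb.add_left, hb.add_right, hb.add_right, bf_symm G hs v u]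
    ring
  refine ⟨?_, ?_, ?_⟩
  · intro c v
    rw [hb.smul_left, hb.smul_right]
    ring
  · rw [hpolar]
    refine ⟨?_, ?_, ?_, ?_⟩
    · intro x y v; rw [hb.add_left]; ring
    · intro c x v; rw [hb.smul_left]; ring
    · intro v x y; rw [hb.add_right]; ring
    · intro c v x; rw [hb.smul_right]; ring
  · rw [hpolar]
    intro v hv
    obtain ⟨⟨x, hx⟩, ⟨y, hy⟩⟩ := bf_nondeg G hG v hv
    exact ⟨⟨x, mul_ne_zero h2 hx⟩, ⟨y, mul_ne_zero h2 hy⟩⟩

end forms

section tensor22

variable {F : Type*} [Field F] {n : ℕ}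

/-- the standard alternating matrix on `F^2` -/
def J2 (F : Type*) [Field F] : Matrix (Fin 2) (Fin 2) F := !![0, 1; -1, 0]

lemma J2_transpose : (J2 F)ᵀ = - J2 F := by
  ext i j
  fin_cases i <;> fin_cases j <;> simp [J2]

lemma J2_diag (i : Fin 2) : J2 F i i = 0 := by
  fin_cases i <;> simp [J2]

lemma J2_det : (J2 F).det = 1 := by
  simp [J2, Matrix.det_fin_two]

lemma J2_similar (a : Matrix (Fin 2) (Fin 2) F) : aᵀ * J2 F * a = a.det • J2 F := by
  ext i j
  fin_cases i <;> fin_cases j <;>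
    simp [J2, Matrix.det_fin_two, Matrix.mul_apply, Fin.sum_univ_two] <;> ring

/-- `J ⊗ J` -/
def JJ (F : Type*) [Field F] : Matrix (Fin 2 × Fin 2) (Fin 2 × Fin 2) F := J2 F ⊗ₖ J2 F

lemma JJ_transpose : (JJ F)ᵀ = JJ F := by
  unfold JJ
  rw [← Matrix.kroneckerMap_transpose, J2_transpose]
  ext ⟨i, j⟩ ⟨k, l⟩
  simp [Matrix.kroneckerMap_apply]

lemma JJ_diag (x : Fin 2 × Fin 2) : JJ F x x = 0 := by
  unfold JJ
  rw [Matrix.kroneckerMap_apply, J2_diag, zero_mul]

lemma JJ_det : (JJ F).det = 1 := by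
  unfold JJ
  rw [Matrix.det_kronecker, J2_det, one_pow, one_mul]

lemma JJ_similar (a b : Matrix (Fin 2) (Fin 2) F) :
    (a ⊗ₖ b)ᵀ * JJ F * (a ⊗ₖ b) = (a.det * b.det) • JJ F := by
  unfold JJ
  rw [← Matrix.kroneckerMap_transpose, ← Matrix.mul_kronecker_mul, ← Matrix.mul_kronecker_mul,
    J2_similar, J2_similar, Matrix.smul_kronecker, Matrix.kronecker_smul, smul_smul]

/-- the Gram matrix of the form preserved up to scalars by `tensorProductSubgroup 2 2 e P` -/
noncomputable def gram22 (e : Fin n ≃ Fin 2 × Fin 2) (P : GL (Fin n) F) : Matrix (Fin n) (Fin n) F :=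
  ((P⁻¹ : GL (Fin n) F) : Matrix (Fin n) (Fin n) F)ᵀ * Matrix.reindex e.symm e.symm (JJ F) *
    ((P⁻¹ : GL (Fin n) F) : Matrix (Fin n) (Fin n) F)

lemma reindex_mul' (e : Fin n ≃ Fin 2 × Fin 2) (A B : Matrix (Fin 2 × Fin 2) (Fin 2 × Fin 2) F) :
    Matrix.reindex e.symm e.symm (A * B) =
      Matrix.reindex e.symm e.symm A * Matrix.reindex e.symm e.symm B := by
  simp only [Matrix.reindex_apply]
  rw [Matrix.submatrix_mul_equiv]

lemma gram22_transpose (e : Fin n ≃ Fin 2 × Fin 2) (P : GL (Fin n) F) :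
    (gram22 e P)ᵀ = gram22 e P := by
  unfold gram22
  rw [Matrix.transpose_mul, Matrix.transpose_mul, Matrix.transpose_transpose, Matrix.transpose_reindex,
    JJ_transpose, mul_assoc]

lemma gram22_det (e : Fin n ≃ Fin 2 × Fin 2) (P : GL (Fin n) F) : (gram22 e P).det ≠ 0 := by
  unfold gram22
  rw [Matrix.det_mul, Matrix.det_mul, Matrix.det_transpose, Matrix.det_reindex_self, JJ_det, mul_one]
  have h := (Matrix.isUnits_det_units (P⁻¹ : GL (Fin n) F)).ne_zero
  exact mul_ne_zero h h

lemma gram22_similar (e : Fin n ≃ Fin 2 × Fin 2) (P : GL (Fin n) F)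
    (a b : Matrix (Fin 2) (Fin 2) F) :
    (conjR e P (a ⊗ₖ b))ᵀ * gram22 e P * conjR e P (a ⊗ₖ b) = (a.det * b.det) • gram22 e P := by
  have h2 : ((P⁻¹ : GL (Fin n) F) : Matrix (Fin n) (Fin n) F) * (P : Matrix (Fin n) (Fin n) F) = 1 := by
    rw [← Units.val_mul, inv_mul_cancel, Units.val_one]
  have h2t : (P : Matrix (Fin n) (Fin n) F)ᵀ * ((P⁻¹ : GL (Fin n) F) : Matrix (Fin n) (Fin n) F)ᵀ = 1 := by
    rw [← Matrix.transpose_mul, h2, Matrix.transpose_one]
  unfold conjR gram22
  rw [Matrix.transpose_mul, Matrix.transpose_mul]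
  set Pi := ((P⁻¹ : GL (Fin n) F) : Matrix (Fin n) (Fin n) F) with hPi
  set Pm := (P : Matrix (Fin n) (Fin n) F) with hPm
  set R := Matrix.reindex e.symm e.symm (a ⊗ₖ b) with hR
  set RJ := Matrix.reindex e.symm e.symm (JJ F) with hRJ
  have key : Rᵀ * RJ * R = (a.det * b.det) • RJ := by
    rw [hR, hRJ, Matrix.transpose_reindex, ← reindex_mul', ← reindex_mul', JJ_similar]
    simp only [Matrix.reindex_apply]
    rfl
  calc Piᵀ * (Rᵀ * Pmᵀ) * (Piᵀ * RJ * Pi) * (Pm * R * Pi)
      = Piᵀ * Rᵀ * (Pmᵀ * Piᵀ) * RJ * (Pi * Pm) * R * Pi := by simp only [mul_assoc]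
    _ = Piᵀ * (Rᵀ * RJ * R) * Pi := by rw [h2, h2t]; simp only [mul_assoc, mul_one]
    _ = (a.det * b.det) • (Piᵀ * RJ * Pi) := by
        rw [key, Matrix.mul_smul, Matrix.smul_mul]

lemma gram22_alt (h2 : (2 : F) = 0) (e : Fin n ≃ Fin 2 × Fin 2) (P : GL (Fin n) F) (v : Fin n → F) :
    bf (gram22 e P) v v = 0 := by
  unfold gram22
  rw [bf_congr]
  apply bf_alt
  · rw [Matrix.transpose_reindex, JJ_transpose]
    have hneg : ∀ x : F, -x = x := by
      intro x
      linear_combination (-x) * h2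
    ext i j
    rw [Matrix.neg_apply, hneg]
  · intro i
    simp only [Matrix.reindex_apply, Matrix.submatrix_apply]
    exact JJ_diag _

end tensor22

end Cfsg.Agent.Lib.Helper27.AschO4

namespace Cfsg.Agent.Lib.Helper27.AschLeaf
open Matrix Cfsg.Geo Cfsg.Agent.Lib.Helper20.Asch Cfsg.Agent.Lib.Helper27.AschO4
open scoped Kronecker

variable {F : Type*} [Field F] [Fintype F] {n : ℕ} {H N : Subgroup (GL (Fin n) F)}

/-- O4: `GL_2 ⊗ GL_2` consists of similarities of `J ⊗ J` (`g^T J g = det g • J` on `F^2`): a non-degenerate quadratic form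
for `|F|` odd, a symplectic form for `|F|` even. -/
theorem geo_of_tensor22 (hn : n = 4) (e : Fin n ≃ Fin 2 × Fin 2) (P : GL (Fin n) F)
    (hH : H ≤ tensorProductSubgroup 2 2 e P) : Geo H := by
  have hsim : ∀ g ∈ H, ∃ c : Fˣ, ∀ u v : Fin n → F,
      bf (gram22 e P) ((g : Matrix (Fin n) (Fin n) F) *ᵥ u) ((g : Matrix (Fin n) (Fin n) F) *ᵥ v) =
        (c : F) * bf (gram22 e P) u v := by
    intro g hg
    obtain ⟨a, b, hab⟩ := (mem_tensorProductSubgroup_iff e P g).mp (hH hg)
    refine ⟨Matrix.GeneralLinearGroup.det a * Matrix.GeneralLinearGroup.det b, fun u v => ?_⟩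
    rw [hab]
    exact bf_similar _ _ _ (gram22_similar e P _ _) u v
  rcases Nat.even_or_odd (Fintype.card F) with hev | hodd
  · -- characteristic two: symplectic
    have h2 : (2 : F) = 0 := by
      have h := Nat.cast_card_eq_zero F
      obtain ⟨m, hm⟩ := hev
      rw [hm] at h
      have h3 : (2 : F) * (m : F) = 0 := by
        rw [← h]; push_cast; ring
      rcases mul_eq_zero.mp h3 with h4 | h4
      · exact h4
      · -- `m = 0` in `F`: then `card F = m + m` ... use characteristic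
        obtain ⟨p, hp⟩ := CharP.exists F
        have hpp : p.Prime := by
          haveI := hp
          exact CharP.char_is_prime F p
        have hpm : p ∣ m := (CharP.cast_eq_zero_iff F p m).mp h4
        obtain ⟨k, hk, hcard⟩ := FiniteField.card F p
        -- card F = p ^ k = m + m with p ∣ m: fine, any case `2 = 0` iff p = 2
        by_cases hp2 : p = 2
        · subst hp2
          exact (CharP.cast_eq_zero_iff F 2 2).mpr (dvd_refl 2)
        · exfalso
          -- p odd, so card F = p ^ k odd, contradiction with even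
          have hoddp : Odd p := hpp.odd_of_ne_two hp2
          have : Odd (Fintype.card F) := by rw [hcard]; exact hoddp.pow
          rw [hm] at this
          exact (Nat.not_odd_iff_even.mpr ⟨m, rfl⟩) this
    have hsymp : IsSymplecticForm (bf (gram22 e P)) :=
      symp_of_alt _ (gram22_alt h2 e P) (gram22_det e P)
    refine Geo.of_C8s _ hsymp ?_ (by omega) ?_
    · rw [hn]; exact ⟨2, rfl⟩
    · intro g hg
      exact hsim g hg
  · -- odd: quadratic form
    have h2 : (2 : F) ≠ 0 := by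
      intro h2
      obtain ⟨p, hp⟩ := CharP.exists F
      have hp2 : p ∣ 2 := by
        have := (CharP.cast_eq_zero_iff F p 2).mp (by exact_mod_cast h2)
        exact this
      obtain ⟨k, hk, hcard⟩ := FiniteField.card F p
      have hpp : p.Prime := by
        haveI := hp
        exact CharP.char_is_prime F p
      have hp2' : p = 2 := (Nat.prime_dvd_prime_iff_eq hpp Nat.prime_two).mp hp2
      rw [hcard, hp2'] at hodd
      have : Even (2 ^ (k : ℕ)) := (Nat.even_pow.mpr ⟨even_two, k.ne_zero⟩)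
      exact (Nat.not_odd_iff_even.mpr this) hodd
    have hQ := quad_of_symm (gram22 e P) (gram22_transpose e P) h2 (gram22_det e P)
    refine Geo.of_C8q _ hQ hodd (by omega) ?_
    intro g hg
    obtain ⟨c, hc⟩ := hsim g hg
    exact ⟨c, fun v => hc v v⟩

end Cfsg.Agent.Lib.Helper27.AschLeaf
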