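import Mathlib
import Cfsg.Prelude.Def_Solvable
import Cfsg.Prelude.Def_Transfer

set_option autoImplicit false

namespace Cfsg.Agent.Lib.Helper27

theorem pCore_isPGroup (p : ℕ) (G : Type*) [Group G] : IsPGroup p (Cfsg.pCore p G) :=
  Sylow.sSup_of_normal _ (fun _ h => h.2) (fun _ h => h.1)

theorem pCore_normal (p : ℕ) (G : Type*) [Group G] : (Cfsg.pCore p G).Normal :=
  Subgroup.sSup_normal _ (fun _ h => h.1)

theorem le_pCore {p : ℕ} {G : Type*} [Group G] {N : Subgroup G} (hN : N.Normal) (hp : IsPGroup p N) :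
    N ≤ Cfsg.pCore p G :=
  le_sSup ⟨hN, hp⟩

/-- An element of a subgroup of odd order whose order is a power of two is trivial. -/
theorem eq_one_of_mem_odd_of_pow_two {G : Type*} [Group G] (K : Subgroup G) (hK : Odd (Nat.card K))
    {x : G} (hx : x ∈ K) {n : ℕ} (h : x ^ 2 ^ n = 1) : x = 1 := by
  have h1 : orderOf x ∣ Nat.card K := by
    have := orderOf_dvd_natCard (⟨x, hx⟩ : K)
    rwa [Subgroup.orderOf_mk] at this
  have h2 : orderOf x ∣ 2 ^ n := orderOf_dvd_of_pow_eq_one h
  have hc : Nat.Coprime (Nat.card K) (2 ^ n) :=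
    Nat.Coprime.pow_right n (Nat.coprime_two_right.mpr hK)
  have : orderOf x ∣ 1 := by
    have := Nat.dvd_gcd h1 h2
    rwa [hc] at this
  exact orderOf_eq_one_iff.mp (Nat.dvd_one.mp this)

/-- An element lying both in a subgroup of odd order and in a 2-subgroup is trivial. -/
theorem eq_one_of_mem_odd_of_mem_two {G : Type*} [Group G] (K P : Subgroup G) (hK : Odd (Nat.card K))
    (hP : IsPGroup 2 P) {x : G} (hx : x ∈ K) (hxP : x ∈ P) : x = 1 := by
  obtain ⟨n, hn⟩ := hP ⟨x, hxP⟩
  have hn' : x ^ 2 ^ n = 1 := by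
    have := congrArg Subtype.val hn
    simpa using this
  exact eq_one_of_mem_odd_of_pow_two K hK hx hn'

theorem isPGroup_of_isExtraspecial {p : ℕ} {P : Type*} [Group P] (h : Cfsg.IsExtraspecial p P) :
    IsPGroup p P := h.1.1

/-- The closure of a pairwise commuting set is commutative. -/
theorem closure_isMulCommutative {G : Type*} [Group G] (s : Set G)
    (h : ∀ a ∈ s, ∀ b ∈ s, a * b = b * a) : IsMulCommutative (Subgroup.closure s) := by
  exact Subgroup.isMulCommutative_closure h

/-- In the closure of a pairwise commuting set of involutions every element squares to one. -/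
theorem sq_eq_one_of_mem_closure_involutions {G : Type*} [Group G] (s : Set G)
    (h : ∀ a ∈ s, ∀ b ∈ s, a * b = b * a) (h2 : ∀ a ∈ s, a * a = 1) :
    ∀ x ∈ Subgroup.closure s, x * x = 1 := by
  have hc := closure_isMulCommutative s h
  rw [isMulCommutative_iff] at hc
  intro x hx
  induction hx using Subgroup.closure_induction with
  | mem x hx => exact h2 x hx
  | one => simp
  | mul x y hx hy ihx ihy =>
    have hxy : x * y = y * x := congrArg Subtype.val (hc ⟨x, hx⟩ ⟨y, hy⟩)
    calc x * y * (x * y) = x * (y * x) * y := by group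
      _ = x * (x * y) * y := by rw [hxy]
      _ = (x * x) * (y * y) := by group
      _ = 1 := by rw [ihx, ihy, one_mul]
  | inv x hx ihx =>
    calc x⁻¹ * x⁻¹ = (x * x)⁻¹ := by group
      _ = 1 := by rw [ihx, inv_one]

theorem isPGroup_two_closure_involutions {G : Type*} [Group G] (s : Set G)
    (h : ∀ a ∈ s, ∀ b ∈ s, a * b = b * a) (h2 : ∀ a ∈ s, a * a = 1) :
    IsPGroup 2 (Subgroup.closure s) := by
  rintro ⟨x, hx⟩
  refine ⟨1, ?_⟩
  apply Subtype.ext
  have := sq_eq_one_of_mem_closure_involutions s h h2 x hx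
  simp [pow_two, this]

end Cfsg.Agent.Lib.Helper27
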