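import Mathlib
import Cfsg.Prelude.Def_Transfer

set_option autoImplicit false

namespace Cfsg.Agent.Lib.Helper27

open Cfsg

universe u

variable {X : Type u} [Group X]

/-- The set of elementary abelian subgroups of `X` contained in `P` and of largest order among those. -/
def maxEAIn (p : ℕ) (P : Subgroup X) : Set (Subgroup X) :=
  {B | B ≤ P ∧ IsElementaryAbelian p B ∧
    ∀ B' : Subgroup X, B' ≤ P → IsElementaryAbelian p B' → Nat.card B' ≤ Nat.card B}

theorem isElementaryAbelian_map_subtype {p : ℕ} (P : Subgroup X) (A : Subgroup P) :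
    IsElementaryAbelian p (A.map P.subtype) ↔ IsElementaryAbelian p A := by
  constructor
  · rintro ⟨hc, he⟩
    rw [isMulCommutative_iff] at hc
    refine ⟨isMulCommutative_iff.mpr ?_, ?_⟩
    · intro a b
      have := hc ⟨a.1, ⟨a.1, a.2, rfl⟩⟩ ⟨b.1, ⟨b.1, b.2, rfl⟩⟩
      apply Subtype.ext
      apply Subtype.ext
      have h3 : (a.1.1 * b.1.1 : X) = b.1.1 * a.1.1 := congrArg Subtype.val this
      exact h3
    · intro a ha
      have := he a ⟨a, ha, rfl⟩
      apply Subtype.ext
      simpa using this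
  · rintro ⟨hc, he⟩
    rw [isMulCommutative_iff] at hc
    refine ⟨isMulCommutative_iff.mpr ?_, ?_⟩
    · rintro ⟨_, a, ha, rfl⟩ ⟨_, b, hb, rfl⟩
      have := hc ⟨a, ha⟩ ⟨b, hb⟩
      apply Subtype.ext
      have h2 : a * b = b * a := congrArg Subtype.val this
      have h3 : (a.1 * b.1 : X) = b.1 * a.1 := congrArg Subtype.val h2
      exact h3
    · rintro _ ⟨a, ha, rfl⟩
      have := he a ha
      have h2 := congrArg Subtype.val this
      simpa using h2

theorem card_map_subtype (P : Subgroup X) (A : Subgroup P) :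
    Nat.card (A.map P.subtype) = Nat.card A :=
  Subgroup.card_map_of_injective P.subtype_injective

theorem map_subgroupOf_of_le {P B : Subgroup X} (h : B ≤ P) : (B.subgroupOf P).map P.subtype = B := by
  rw [Subgroup.map_subgroupOf_eq_of_le h]

/-- Intrinsic description of the Thompson subgroup of a subgroup. -/
theorem thompsonSubgroupOf_eq (p : ℕ) (P : Subgroup X) :
    thompsonSubgroupOf p P = sSup (maxEAIn p P) := by
  unfold thompsonSubgroupOf thompsonSubgroup
  rw [(Subgroup.gc_map_comap P.subtype).l_sSup]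
  apply le_antisymm
  · apply iSup₂_le
    intro A hA
    apply le_sSup
    refine ⟨Subgroup.map_subtype_le A, (isElementaryAbelian_map_subtype P A).mpr hA.1, ?_⟩
    intro B' hB'P hB'
    have h1 := hA.2 (B'.subgroupOf P) (by
      rw [← isElementaryAbelian_map_subtype, map_subgroupOf_of_le hB'P]; exact hB')
    rw [card_map_subtype]
    calc Nat.card B' = Nat.card ((B'.subgroupOf P).map P.subtype) := by rw [map_subgroupOf_of_le hB'P]
      _ = Nat.card (B'.subgroupOf P) := card_map_subtype _ _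
      _ ≤ Nat.card A := h1
  · apply sSup_le
    rintro B ⟨hBP, hB, hmax⟩
    have hmem : B.subgroupOf P ∈ maxElementaryAbelianSubgroups p P := by
      refine ⟨by rw [← isElementaryAbelian_map_subtype, map_subgroupOf_of_le hBP]; exact hB, ?_⟩
      intro A hA
      have := hmax (A.map P.subtype) (Subgroup.map_subtype_le A) ((isElementaryAbelian_map_subtype P A).mpr hA)
      rw [card_map_subtype] at this
      calc Nat.card A ≤ Nat.card B := this
        _ = Nat.card ((B.subgroupOf P).map P.subtype) := by rw [map_subgroupOf_of_le hBP]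
        _ = Nat.card (B.subgroupOf P) := card_map_subtype _ _
    calc B = (B.subgroupOf P).map P.subtype := (map_subgroupOf_of_le hBP).symm
      _ ≤ ⨆ A ∈ maxElementaryAbelianSubgroups p P, A.map P.subtype := le_iSup₂_of_le _ hmem le_rfl

theorem isElementaryAbelian_bot (p : ℕ) : IsElementaryAbelian p (⊥ : Subgroup X) := by
  refine ⟨isMulCommutative_iff.mpr ?_, ?_⟩
  · intro a b
    apply Subtype.ext
    have ha : (a : X) = 1 := Subgroup.mem_bot.mp a.2
    have hb : (b : X) = 1 := Subgroup.mem_bot.mp b.2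
    simp [ha, hb]
  · intro a ha
    rw [Subgroup.mem_bot.mp ha, one_pow]

theorem isElementaryAbelian_map_equiv {p : ℕ} (e : X ≃* X) {B : Subgroup X}
    (hB : IsElementaryAbelian p B) : IsElementaryAbelian p (B.map e.toMonoidHom) := by
  obtain ⟨hc, he⟩ := hB
  rw [isMulCommutative_iff] at hc
  refine ⟨isMulCommutative_iff.mpr ?_, ?_⟩
  · rintro ⟨_, a, ha, rfl⟩ ⟨_, b, hb, rfl⟩
    apply Subtype.ext
    have h2 : a * b = b * a := congrArg Subtype.val (hc ⟨a, ha⟩ ⟨b, hb⟩)
    show e a * e b = e b * e a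
    rw [← map_mul, ← map_mul, h2]
  · rintro _ ⟨a, ha, rfl⟩
    show (e a) ^ p = 1
    rw [← map_pow, he a ha, map_one]

theorem map_symm_map (e : X ≃* X) (B : Subgroup X) :
    (B.map e.toMonoidHom).map e.symm.toMonoidHom = B := by
  ext x
  simp [Subgroup.mem_map]

theorem map_map_symm (e : X ≃* X) (B : Subgroup X) :
    (B.map e.symm.toMonoidHom).map e.toMonoidHom = B := by
  ext x
  simp [Subgroup.mem_map]

theorem card_map_equiv (e : X ≃* X) (B : Subgroup X) : Nat.card (B.map e.toMonoidHom) = Nat.card B :=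
  Subgroup.card_map_of_injective e.injective

theorem map_mem_maxEAIn {p : ℕ} (e : X ≃* X) {P A : Subgroup X} (hA : A ∈ maxEAIn p P) :
    A.map e.toMonoidHom ∈ maxEAIn p (P.map e.toMonoidHom) := by
  obtain ⟨hAP, hAe, hmax⟩ := hA
  refine ⟨Subgroup.map_mono hAP, isElementaryAbelian_map_equiv e hAe, ?_⟩
  intro B' hB'P hB'
  have h1 : B'.map e.symm.toMonoidHom ≤ P := by
    have := Subgroup.map_mono (f := e.symm.toMonoidHom) hB'P
    rwa [map_symm_map] at this
  have h2 := hmax _ h1 (isElementaryAbelian_map_equiv e.symm hB')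
  rw [card_map_equiv] at h2 ⊢
  exact h2

/-- The Thompson subgroup commutes with automorphisms of the ambient group. -/
theorem thompsonSubgroupOf_map (p : ℕ) (e : X ≃* X) (P : Subgroup X) :
    thompsonSubgroupOf p (P.map e.toMonoidHom) = (thompsonSubgroupOf p P).map e.toMonoidHom := by
  rw [thompsonSubgroupOf_eq, thompsonSubgroupOf_eq, (Subgroup.gc_map_comap e.toMonoidHom).l_sSup]
  apply le_antisymm
  · apply sSup_le
    intro B hB
    have h1 := map_mem_maxEAIn e.symm hB
    rw [map_symm_map] at h1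
    calc B = (B.map e.symm.toMonoidHom).map e.toMonoidHom := (map_map_symm e B).symm
      _ ≤ ⨆ A ∈ maxEAIn p P, A.map e.toMonoidHom := le_iSup₂_of_le _ h1 le_rfl
  · apply iSup₂_le
    intro A hA
    exact le_sSup (map_mem_maxEAIn e hA)

theorem maxEAIn_nonempty [Finite X] (p : ℕ) (P : Subgroup X) : (maxEAIn p P).Nonempty := by
  haveI : Nonempty {B : Subgroup X // B ≤ P ∧ IsElementaryAbelian p B} :=
    ⟨⟨⊥, bot_le, isElementaryAbelian_bot p⟩⟩
  obtain ⟨⟨B₀, hB₀P, hB₀⟩, hmax⟩ :=
    Finite.exists_max (fun B : {B : Subgroup X // B ≤ P ∧ IsElementaryAbelian p B} => Nat.card B.1)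
  exact ⟨B₀, hB₀P, hB₀, fun B' hB'P hB' => hmax ⟨B', hB'P, hB'⟩⟩

/-- If `J(P) ≤ Q ≤ P` then `J(Q) = J(P)`. -/
theorem thompsonSubgroupOf_eq_of_le [Finite X] (p : ℕ) {P Q : Subgroup X}
    (hJQ : thompsonSubgroupOf p P ≤ Q) (hQP : Q ≤ P) :
    thompsonSubgroupOf p Q = thompsonSubgroupOf p P := by
  rw [thompsonSubgroupOf_eq] at hJQ
  rw [thompsonSubgroupOf_eq, thompsonSubgroupOf_eq]
  congr 1
  obtain ⟨B₀, hB₀⟩ := maxEAIn_nonempty p P
  have hB₀Q : B₀ ≤ Q := (le_sSup hB₀).trans hJQ
  ext B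
  constructor
  · rintro ⟨hBQ, hBe, hmax⟩
    refine ⟨hBQ.trans hQP, hBe, ?_⟩
    intro B' hB'P hB'
    exact (hB₀.2.2 B' hB'P hB').trans (hmax B₀ hB₀Q hB₀.2.1)
  · intro hB
    refine ⟨(le_sSup hB).trans hJQ, hB.2.1, ?_⟩
    intro B' hB'Q hB'
    exact hB.2.2 B' (hB'Q.trans hQP) hB'

/-- If `P' = e(P)` for an automorphism `e` and `J(P) ≤ P'` then `J(P') = J(P)`. -/
theorem thompsonSubgroupOf_eq_of_conj [Finite X] (p : ℕ) (e : X ≃* X) {P : Subgroup X}
    (hJ : thompsonSubgroupOf p P ≤ P.map e.toMonoidHom) :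
    thompsonSubgroupOf p (P.map e.toMonoidHom) = thompsonSubgroupOf p P := by
  symm
  apply Subgroup.eq_of_le_of_card_ge
  · rw [thompsonSubgroupOf_eq] at hJ
    rw [thompsonSubgroupOf_eq p P, thompsonSubgroupOf_eq p (P.map e.toMonoidHom)]
    apply sSup_le
    intro B hB
    apply le_sSup
    refine ⟨(le_sSup hB).trans hJ, hB.2.1, ?_⟩
    intro B' hB'P hB'
    have h1 : B'.map e.symm.toMonoidHom ≤ P := by
      have := Subgroup.map_mono (f := e.symm.toMonoidHom) hB'P
      rwa [map_symm_map] at this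
    have h2 := hB.2.2 _ h1 (isElementaryAbelian_map_equiv e.symm hB')
    rwa [card_map_equiv] at h2
  · rw [thompsonSubgroupOf_map, card_map_equiv]

theorem sylow_smul_eq_map {p : ℕ} (a : X) (P : Sylow p X) :
    ((a • P : Sylow p X) : Subgroup X) = (P : Subgroup X).map (MulAut.conj a).toMonoidHom := by
  rw [Sylow.coe_subgroup_smul]
  ext z
  rw [Subgroup.mem_pointwise_smul_iff_inv_smul_mem, Subgroup.mem_map]
  constructor
  · intro h
    refine ⟨_, h, ?_⟩
    simp only [MulAut.smul_def, MulEquiv.coe_toMonoidHom, MulAut.conj_inv_apply, MulAut.conj_apply]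
    group
  · rintro ⟨w, hw, rfl⟩
    have h1 : (MulAut.conj a)⁻¹ • (MulAut.conj a).toMonoidHom w = w := by
      simp only [MulAut.smul_def, MulEquiv.coe_toMonoidHom, MulAut.conj_inv_apply, MulAut.conj_apply]
      group
    rw [h1]
    exact hw

/-- For a Sylow `p`-subgroup `P` of a finite group and a `p`-subgroup `Q` containing `J(P)`, `J(Q) = J(P)`. -/
theorem thompsonSubgroupOf_eq_of_sylow [Finite X] {p : ℕ} [Fact p.Prime] (P : Sylow p X) {Q : Subgroup X}
    (hQ : IsPGroup p Q) (hJQ : thompsonSubgroupOf p (P : Subgroup X) ≤ Q) :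
    thompsonSubgroupOf p Q = thompsonSubgroupOf p (P : Subgroup X) := by
  obtain ⟨P₁, hP₁⟩ := hQ.exists_le_sylow
  obtain ⟨a, ha⟩ := MulAction.exists_smul_eq X P P₁
  have hP₁eq : (P₁ : Subgroup X) = (P : Subgroup X).map (MulAut.conj a).toMonoidHom := by
    rw [← ha, sylow_smul_eq_map]
  have h1 : thompsonSubgroupOf p (P₁ : Subgroup X) = thompsonSubgroupOf p (P : Subgroup X) := by
    rw [hP₁eq]
    apply thompsonSubgroupOf_eq_of_conj
    rw [← hP₁eq]
    exact hJQ.trans hP₁
  rw [← h1]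
  apply thompsonSubgroupOf_eq_of_le
  · rw [h1]; exact hJQ
  · exact hP₁

end Cfsg.Agent.Lib.Helper27
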