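import Mathlib

/-!
# Glauberman's replacement theorem: the elementwise computation

For an abelian subgroup `A` of a group `S`, a normal subgroup `B` with `[B,B] ≤ A` and an element
`b ∈ B` normalizing `N_S(A)`, we study `A* = (A ∩ A^b)[A,b]`.
-/

set_option autoImplicit false
open scoped commutatorElement

namespace Cfsg.Agent.Lib.Helper27.GlaubRepl

variable {S : Type*} [Group S]

/-- `φ_b(a) = a b⁻¹ a⁻¹ b`. -/
def phi (b a : S) : S := a * b⁻¹ * a⁻¹ * b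

/-- `A^b = b⁻¹ A b`. -/
abbrev conjB (A : Subgroup S) (b : S) : Subgroup S := A.map (MulAut.conj b⁻¹).toMonoidHom

theorem mem_conjB {A : Subgroup S} {b x : S} : x ∈ conjB A b ↔ b * x * b⁻¹ ∈ A := by
  constructor
  · rintro ⟨a, ha, rfl⟩
    have : b * ((MulAut.conj b⁻¹).toMonoidHom a) * b⁻¹ = a := by
      simp [MulAut.conj_apply]; group
    rw [this]; exact ha
  · intro h
    refine ⟨b * x * b⁻¹, h, ?_⟩
    simp [MulAut.conj_apply]; group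

/-- The subgroup `D = A ∩ A^b`. -/
abbrev dSub (A : Subgroup S) (b : S) : Subgroup S := A ⊓ conjB A b

theorem mem_dSub {A : Subgroup S} {b x : S} : x ∈ dSub A b ↔ x ∈ A ∧ b * x * b⁻¹ ∈ A := by
  rw [Subgroup.mem_inf, mem_conjB]

/-- The hypotheses of the replacement computation. -/
structure Hyp (A B : Subgroup S) (b : S) : Prop where
  comm : ∀ x ∈ A, ∀ y ∈ A, x * y = y * x
  nB : B.Normal
  hb : b ∈ B
  hBA : ⁅B, B⁆ ≤ A
  hbN : b ∈ Subgroup.normalizer ((Subgroup.normalizer (A : Set S) : Subgroup S) : Set S)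
  hodd : (∀ x ∈ B, ∀ y ∈ B, x * y = y * x) ∨ Odd (orderOf b)

namespace Hyp

variable {A B : Subgroup S} {b : S} (h : Hyp A B b)
include h

theorem conj_mem_N {n : S} (hn : n ∈ Subgroup.normalizer (A : Set S)) :
    b * n * b⁻¹ ∈ Subgroup.normalizer (A : Set S) :=
  (Subgroup.mem_normalizer_iff.mp h.hbN n).mp hn

theorem conj_mem_N' {n : S} (hn : n ∈ Subgroup.normalizer (A : Set S)) :
    b⁻¹ * n * b ∈ Subgroup.normalizer (A : Set S) :=
  (Subgroup.mem_normalizer_iff''.mp h.hbN n).mp hn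

theorem beta_mem {a : S} (ha : a ∈ A) : b⁻¹ * a * b ∈ conjB A b := by
  rw [mem_conjB]
  have : b * (b⁻¹ * a * b) * b⁻¹ = a := by group
  rw [this]; exact ha

theorem conjB_le_N {x : S} (hx : x ∈ conjB A b) : x ∈ Subgroup.normalizer (A : Set S) := by
  rw [mem_conjB] at hx
  have := h.conj_mem_N' (Subgroup.le_normalizer hx)
  have e : b⁻¹ * (b * x * b⁻¹) * b = x := by group
  rwa [e] at this

/-- `A` normalizes `A^b`. -/
theorem conj_conjB {a x : S} (ha : a ∈ A) (hx : x ∈ conjB A b) : a * x * a⁻¹ ∈ conjB A b := by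
  rw [mem_conjB] at hx ⊢
  have hn := h.conj_mem_N (Subgroup.le_normalizer ha)
  have := (Subgroup.mem_normalizer_iff.mp hn (b * x * b⁻¹)).mp hx
  have e : b * a * b⁻¹ * (b * x * b⁻¹) * (b * a * b⁻¹)⁻¹ = b * (a * x * a⁻¹) * b⁻¹ := by group
  rwa [e] at this

/-- `A^b` normalizes `A`. -/
theorem conjB_conj {a x : S} (ha : a ∈ A) (hx : x ∈ conjB A b) : x * a * x⁻¹ ∈ A :=
  (Subgroup.mem_normalizer_iff.mp (h.conjB_le_N hx) a).mp ha

theorem comm_mem_dSub {a x : S} (ha : a ∈ A) (hx : x ∈ conjB A b) : ⁅a, x⁆ ∈ dSub A b := by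
  rw [Subgroup.mem_inf]
  constructor
  · have : ⁅a, x⁆ = a * (x * a⁻¹ * x⁻¹) := by rw [commutatorElement_def]; group
    rw [this]
    exact A.mul_mem ha (h.conjB_conj (A.inv_mem ha) hx)
  · have : ⁅a, x⁆ = (a * x * a⁻¹) * x⁻¹ := by rw [commutatorElement_def]
    rw [this]
    exact (conjB A b).mul_mem (h.conj_conjB ha hx) ((conjB A b).inv_mem hx)

theorem comm_conjB {x y : S} (hx : x ∈ conjB A b) (hy : y ∈ conjB A b) : x * y = y * x := by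
  rw [mem_conjB] at hx hy
  have := h.comm _ hx _ hy
  have e1 : b * x * b⁻¹ * (b * y * b⁻¹) = b * (x * y) * b⁻¹ := by group
  have e2 : b * y * b⁻¹ * (b * x * b⁻¹) = b * (y * x) * b⁻¹ := by group
  rw [e1, e2] at this
  exact mul_left_cancel (mul_right_cancel this)

/-- `M = A A^b`. -/
abbrev mSub (A : Subgroup S) (b : S) : Subgroup S := A ⊔ conjB A b

theorem dSub_central {d m : S} (hd : d ∈ dSub A b) (hm : m ∈ mSub A b) : d * m = m * d := by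
  have hle : mSub A b ≤ Subgroup.centralizer {d} := by
    apply sup_le
    · intro a ha
      rw [Subgroup.mem_centralizer_singleton_iff]
      exact h.comm _ ha _ hd.1
    · intro x hx
      rw [Subgroup.mem_centralizer_singleton_iff]
      exact h.comm_conjB hx hd.2
  have := hle hm
  rw [Subgroup.mem_centralizer_singleton_iff] at this
  exact this.symm

theorem mSub_le_N : mSub A b ≤ Subgroup.normalizer (A : Set S) :=
  sup_le Subgroup.le_normalizer (fun _ hx => h.conjB_le_N hx)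

theorem commB_mem_dSub {x y : S} (hx : x ∈ B) (hy : y ∈ B) : ⁅x, y⁆ ∈ dSub A b := by
  have := h.nB
  rw [mem_dSub]
  constructor
  · exact h.hBA (Subgroup.commutator_mem_commutator hx hy)
  · have e : b * ⁅x, y⁆ * b⁻¹ = ⁅b * x * b⁻¹, b * y * b⁻¹⁆ := by
      simp only [commutatorElement_def]; group
    rw [e]
    exact h.hBA (Subgroup.commutator_mem_commutator (h.nB.conj_mem x hx b) (h.nB.conj_mem y hy b))

theorem phi_mem_B (a : S) : phi b a ∈ B := by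
  have := h.nB
  unfold phi
  have : a * b⁻¹ * a⁻¹ * b = (a * b⁻¹ * a⁻¹) * b := by group
  rw [this]
  exact B.mul_mem (h.nB.conj_mem _ (B.inv_mem h.hb) a) h.hb

theorem phi_eq (a : S) : phi b a = a * (b⁻¹ * a * b)⁻¹ := by unfold phi; group

theorem phi_mem_mSub {a : S} (ha : a ∈ A) : phi b a ∈ mSub A b := by
  rw [h.phi_eq]
  exact (mSub A b).mul_mem (Subgroup.mem_sup_left ha)
    ((mSub A b).inv_mem (Subgroup.mem_sup_right (h.beta_mem ha)))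

theorem dSub_le_mSub : dSub A b ≤ mSub A b := inf_le_left.trans le_sup_left

/-- `β(D) ≤ D`. -/
theorem beta_dSub {d : S} (hd : d ∈ dSub A b) : b⁻¹ * d * b ∈ dSub A b := by
  have := h.nB
  have hd' := mem_dSub.mp hd
  rw [mem_dSub]
  refine ⟨?_, ?_⟩
  · -- u = b⁻¹ d b d⁻¹ ∈ B
    have huB : b⁻¹ * d * b * d⁻¹ ∈ B := by
      have : b⁻¹ * d * b * d⁻¹ = b⁻¹ * (d * b * d⁻¹) := by group
      rw [this]
      exact B.mul_mem (B.inv_mem h.hb) (h.nB.conj_mem _ h.hb d)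
    -- b u b⁻¹ = d (b d b⁻¹)⁻¹ ∈ A
    have h1 : b * (b⁻¹ * d * b * d⁻¹) * b⁻¹ ∈ A := by
      have : b * (b⁻¹ * d * b * d⁻¹) * b⁻¹ = d * (b * d * b⁻¹)⁻¹ := by group
      rw [this]
      exact A.mul_mem hd'.1 (A.inv_mem hd'.2)
    -- [b,u] ∈ A
    have h2 : ⁅b, b⁻¹ * d * b * d⁻¹⁆ ∈ A := h.hBA (Subgroup.commutator_mem_commutator h.hb huB)
    -- u⁻¹ = (b u b⁻¹)⁻¹ [b,u]
    have h3 : (b⁻¹ * d * b * d⁻¹)⁻¹ ∈ A := by
      have : (b⁻¹ * d * b * d⁻¹)⁻¹ = (b * (b⁻¹ * d * b * d⁻¹) * b⁻¹)⁻¹ * ⁅b, b⁻¹ * d * b * d⁻¹⁆ := by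
        rw [commutatorElement_def]; group
      rw [this]
      exact A.mul_mem (A.inv_mem h1) h2
    have h4 : b⁻¹ * d * b * d⁻¹ ∈ A := by
      have := A.inv_mem h3
      rwa [inv_inv] at this
    have : b⁻¹ * d * b = (b⁻¹ * d * b * d⁻¹) * d := by group
    rw [this]
    exact A.mul_mem h4 hd'.1
  · have : b * (b⁻¹ * d * b) * b⁻¹ = d := by group
    rw [this]; exact hd'.1

theorem inf_le_dSub : A ⊓ B ≤ dSub A b := by
  have := h.nB
  intro a ha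
  rw [mem_dSub]
  refine ⟨ha.1, ?_⟩
  have : b * a * b⁻¹ = ⁅b, a⁆ * a := by rw [commutatorElement_def]; group
  rw [this]
  exact A.mul_mem (h.hBA (Subgroup.commutator_mem_commutator h.hb ha.2)) ha.1

/-- For `t ∈ A`: `φ(t) ∈ D ↔ t ∈ D`. -/
theorem phi_mem_dSub_iff {t : S} (ht : t ∈ A) : phi b t ∈ dSub A b ↔ t ∈ dSub A b := by
  constructor
  · intro hp
    refine ⟨ht, ?_⟩
    -- t = φ(t) * β(t)
    have e : t = phi b t * (b⁻¹ * t * b) := by unfold phi; group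
    rw [e]
    exact (conjB A b).mul_mem hp.2 (h.beta_mem ht)
  · intro hd
    rw [h.phi_eq]
    exact (dSub A b).mul_mem hd ((dSub A b).inv_mem (h.beta_dSub hd))


omit h in
/-- In a group, if `⁅y,x⁆` commutes with `x` then `x⁻¹ y = ⁅y,x⁆ y x⁻¹`. -/
theorem swap_of_commute {x y : S} (hc : Commute ⁅y, x⁆ x) : x⁻¹ * y = ⁅y, x⁆ * y * x⁻¹ := by
  have e1 : x⁻¹ * y = (x⁻¹ * (⁅y, x⁆ * x)) * y * x⁻¹ := by
    rw [commutatorElement_def]; group
  rw [e1, hc.eq]; group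

omit h in
theorem commute_of_sq {g : S} (hc : Commute (b ^ 2) g) (ho : Odd (orderOf b)) : Commute b g := by
  obtain ⟨k, hk⟩ := ho
  have : b = (b ^ 2) ^ (k + 1) := by
    rw [← pow_mul]
    have : 2 * (k + 1) = orderOf b + 1 := by omega
    rw [this, pow_succ, pow_orderOf_eq_one, one_mul]
  rw [this]
  exact hc.pow_left _

/-- The central commutator pairing: `⁅a, β a'⁆` for `a, a' ∈ A`. -/
theorem pair_mem {a a' : S} (ha : a ∈ A) (ha' : a' ∈ A) : ⁅a, b⁻¹ * a' * b⁆ ∈ dSub A b :=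
  h.comm_mem_dSub ha (h.beta_mem ha')

omit h in
theorem phi_mul_phi_aux {a a' x x' : S} (c1 : Commute ⁅a', x⁆ x) (c2 : Commute ⁅a', x⁆ a) :
    a * x⁻¹ * (a' * x'⁻¹) = ⁅a', x⁆ * (a * a' * x⁻¹ * x'⁻¹) := by
  calc a * x⁻¹ * (a' * x'⁻¹) = a * (x⁻¹ * a') * x'⁻¹ := by group
    _ = a * (⁅a', x⁆ * a' * x⁻¹) * x'⁻¹ := by rw [swap_of_commute c1]
    _ = (a * ⁅a', x⁆) * a' * x⁻¹ * x'⁻¹ := by group
    _ = (⁅a', x⁆ * a) * a' * x⁻¹ * x'⁻¹ := by rw [c2.eq]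
    _ = ⁅a', x⁆ * (a * a' * x⁻¹ * x'⁻¹) := by group

theorem phi_mul_phi {a a' : S} (ha : a ∈ A) (ha' : a' ∈ A) :
    phi b a * phi b a' =
      ⁅a', b⁻¹ * a * b⁆ * (a * a' * (b⁻¹ * a * b)⁻¹ * (b⁻¹ * a' * b)⁻¹) := by
  have hg := h.pair_mem ha' ha
  have hx := h.beta_mem ha
  rw [h.phi_eq, h.phi_eq]
  exact phi_mul_phi_aux (h.dSub_central hg (Subgroup.mem_sup_right hx))
    (h.dSub_central hg (Subgroup.mem_sup_left ha))

omit h in
theorem comm_phi_left_aux {a a' x : S} (c1 : Commute ⁅a', x⁆ x) (c2 : Commute ⁅a', x⁆ a)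
    (c3 : a' * a⁻¹ = a⁻¹ * a') : ⁅a * x⁻¹, a'⁆ = ⁅a', x⁆ := by
  have c3' : a' * a⁻¹ * a'⁻¹ = a⁻¹ := by rw [c3]; group
  calc ⁅a * x⁻¹, a'⁆ = a * (x⁻¹ * a') * x * a⁻¹ * a'⁻¹ := by
        rw [commutatorElement_def]; group
    _ = a * (⁅a', x⁆ * a' * x⁻¹) * x * a⁻¹ * a'⁻¹ := by rw [swap_of_commute c1]
    _ = (a * ⁅a', x⁆) * (a' * a⁻¹ * a'⁻¹) := by group
    _ = (⁅a', x⁆ * a) * a⁻¹ := by rw [c2.eq, c3']
    _ = ⁅a', x⁆ := by group

/-- `⁅φ a, a'⁆ = ⁅a', β a⁆`. -/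
theorem comm_phi_left {a a' : S} (ha : a ∈ A) (ha' : a' ∈ A) :
    ⁅phi b a, a'⁆ = ⁅a', b⁻¹ * a * b⁆ := by
  have hg := h.pair_mem ha' ha
  have hx := h.beta_mem ha
  rw [h.phi_eq]
  exact comm_phi_left_aux (h.dSub_central hg (Subgroup.mem_sup_right hx))
    (h.dSub_central hg (Subgroup.mem_sup_left ha)) (h.comm a' ha' a⁻¹ (A.inv_mem ha))

omit h in
theorem comm_phi_right_aux {a x x' : S} (c : x' * x = x * x') : ⁅a * x⁻¹, x'⁆ = ⁅a, x'⁆ := by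
  have c' : x⁻¹ * x' * x = x' := by rw [mul_assoc, c]; group
  calc ⁅a * x⁻¹, x'⁆ = a * (x⁻¹ * x' * x) * a⁻¹ * x'⁻¹ := by
        rw [commutatorElement_def]; group
    _ = ⁅a, x'⁆ := by rw [c', commutatorElement_def]

/-- `⁅φ a, β a'⁆ = ⁅a, β a'⁆`. -/
theorem comm_phi_right {a a' : S} (ha : a ∈ A) (ha' : a' ∈ A) :
    ⁅phi b a, b⁻¹ * a' * b⁆ = ⁅a, b⁻¹ * a' * b⁆ := by
  rw [h.phi_eq]
  exact comm_phi_right_aux (h.comm_conjB (h.beta_mem ha') (h.beta_mem ha))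

omit h in
theorem beta_pair_aux {u a' z g : S} (hz : z = ⁅b⁻¹, u⁆) (hg : g = ⁅u, b⁻¹ * a' * b⁆)
    (c1 : Commute z (b⁻¹ * a' * b)) (c2 : Commute z g) :
    b⁻¹ * ⁅u, a'⁆ * b = g := by
  have c1' : (b⁻¹ * a' * b) * z⁻¹ * (b⁻¹ * a' * b)⁻¹ = z⁻¹ := by
    have := c1.inv_left.eq
    rw [← this]; group
  have e1 : b⁻¹ * u * b = z * u := by rw [hz, commutatorElement_def]; group
  calc b⁻¹ * ⁅u, a'⁆ * b = ⁅b⁻¹ * u * b, b⁻¹ * a' * b⁆ := by
        simp only [commutatorElement_def]; group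
    _ = ⁅z * u, b⁻¹ * a' * b⁆ := by rw [e1]
    _ = z * ⁅u, b⁻¹ * a' * b⁆ * ((b⁻¹ * a' * b) * z⁻¹ * (b⁻¹ * a' * b)⁻¹) := by
        simp only [commutatorElement_def]; group
    _ = z * g * z⁻¹ := by rw [c1', ← hg]
    _ = g := by rw [c2.eq]; group

/-- `β ⁅a', β a⁆ = ⁅a, β a'⁆`. -/
theorem beta_pair {a a' : S} (ha : a ∈ A) (ha' : a' ∈ A) :
    b⁻¹ * ⁅a', b⁻¹ * a * b⁆ * b = ⁅a, b⁻¹ * a' * b⁆ := by
  have hB := h.nB
  rw [← h.comm_phi_left ha ha']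
  have hu : phi b a ∈ B := h.phi_mem_B a
  have hx' := h.beta_mem ha'
  have hz : ⁅b⁻¹, phi b a⁆ ∈ dSub A b := h.commB_mem_dSub (B.inv_mem h.hb) hu
  have hgD := h.pair_mem ha ha'
  exact beta_pair_aux rfl (h.comm_phi_right ha ha').symm
    (h.dSub_central hz (Subgroup.mem_sup_right hx'))
    (h.dSub_central hz (h.dSub_le_mSub hgD))

omit h in
theorem pair_symm_aux {g g' : S} (e1 : b⁻¹ * g' * b = g) (e2 : b⁻¹ * g * b = g')
    (ho : Odd (orderOf b)) : g' = g := by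
  have hc2 : Commute (b ^ 2) g := by
    have : b⁻¹ * (b⁻¹ * g * b) * b = g := by rw [e2, e1]
    have e : b ^ 2 * g = b ^ 2 * (b⁻¹ * (b⁻¹ * g * b) * b) := by rw [this]
    have e' : b ^ 2 * (b⁻¹ * (b⁻¹ * g * b) * b) = g * b ^ 2 := by
      rw [pow_two]; group
    exact e.trans e'
  have hc := commute_of_sq hc2 ho
  rw [← e2]
  calc b⁻¹ * g * b = b⁻¹ * (g * b) := by group
    _ = b⁻¹ * (b * g) := by rw [hc.eq]
    _ = g := by group

/-- The pairing is symmetric. -/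
theorem pair_symm_of_odd (ho : Odd (orderOf b)) {a a' : S} (ha : a ∈ A) (ha' : a' ∈ A) :
    ⁅a', b⁻¹ * a * b⁆ = ⁅a, b⁻¹ * a' * b⁆ :=
  pair_symm_aux (h.beta_pair ha ha') (h.beta_pair ha' ha) ho

theorem phi_comm {a a' : S} (ha : a ∈ A) (ha' : a' ∈ A) :
    phi b a * phi b a' = phi b a' * phi b a := by
  rcases h.hodd with hab | ho
  · exact hab _ (h.phi_mem_B a) _ (h.phi_mem_B a')
  · rw [h.phi_mul_phi ha ha', h.phi_mul_phi ha' ha, h.pair_symm_of_odd ho ha ha',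
      h.comm a ha a' ha']
    congr 1
    have hx := h.beta_mem ha
    have hx' := h.beta_mem ha'
    have : (b⁻¹ * a * b)⁻¹ * (b⁻¹ * a' * b)⁻¹ = (b⁻¹ * a' * b)⁻¹ * (b⁻¹ * a * b)⁻¹ :=
      h.comm_conjB (Subgroup.inv_mem _ hx) (Subgroup.inv_mem _ hx')
    rw [mul_assoc, this, ← mul_assoc]

omit h in
theorem phi_mul_aux {a a' x' : S} (c1 : Commute ⁅a, x'⁆ x') (c2 : Commute ⁅a, x'⁆ a')
    (c3 : a * a' = a' * a) : a * (a' * x'⁻¹) * a⁻¹ = (⁅a, x'⁆)⁻¹ * (a' * x'⁻¹) := by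
  have c1' : x'⁻¹ * (⁅a, x'⁆)⁻¹ * x' = (⁅a, x'⁆)⁻¹ := by
    rw [mul_assoc, c1.inv_left.eq]; group
  calc a * (a' * x'⁻¹) * a⁻¹ = (a * a') * x'⁻¹ * a⁻¹ := by group
    _ = (a' * a) * x'⁻¹ * a⁻¹ := by rw [c3]
    _ = a' * (x'⁻¹ * (⁅a, x'⁆)⁻¹ * x') * x'⁻¹ := by rw [commutatorElement_def]; group
    _ = (a' * (⁅a, x'⁆)⁻¹) * x'⁻¹ := by rw [c1']
    _ = ((⁅a, x'⁆)⁻¹ * a') * x'⁻¹ := by rw [c2.inv_left.eq]
    _ = (⁅a, x'⁆)⁻¹ * (a' * x'⁻¹) := by group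

/-- `φ(a a') = ⁅a, β a'⁆⁻¹ φ(a') φ(a)`. -/
theorem phi_mul {a a' : S} (ha : a ∈ A) (ha' : a' ∈ A) :
    phi b (a * a') = (⁅a, b⁻¹ * a' * b⁆)⁻¹ * phi b a' * phi b a := by
  have hg := h.pair_mem ha ha'
  have hx' := h.beta_mem ha'
  have e0 : phi b (a * a') = (a * phi b a' * a⁻¹) * phi b a := by unfold phi; group
  rw [e0]
  congr 1
  rw [h.phi_eq a']
  exact phi_mul_aux (h.dSub_central hg (Subgroup.mem_sup_right hx'))
    (h.dSub_central hg (Subgroup.mem_sup_left ha')) (h.comm a ha a' ha')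


theorem phi_one : phi b (1 : S) = 1 := by unfold phi; group

/-- `φ(a)⁻¹ = ⁅a, β a⁻¹⁆⁻¹ φ(a⁻¹)`. -/
theorem phi_inv {a : S} (ha : a ∈ A) :
    (phi b a)⁻¹ = (⁅a, b⁻¹ * a⁻¹ * b⁆)⁻¹ * phi b a⁻¹ := by
  have e := h.phi_mul ha (A.inv_mem ha)
  rw [mul_inv_cancel, h.phi_one] at e
  -- 1 = g⁻¹ φ(a⁻¹) φ(a)
  calc (phi b a)⁻¹ = 1 * (phi b a)⁻¹ := by group
    _ = ((⁅a, b⁻¹ * a⁻¹ * b⁆)⁻¹ * phi b a⁻¹ * phi b a) * (phi b a)⁻¹ := by rw [← e]
    _ = (⁅a, b⁻¹ * a⁻¹ * b⁆)⁻¹ * phi b a⁻¹ := by group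

/-- `A* = {φ(a) d}` as a subgroup. -/
def aStar : Subgroup S where
  carrier := {y | ∃ a ∈ A, ∃ d ∈ dSub A b, y = phi b a * d}
  one_mem' := ⟨1, A.one_mem, 1, Subgroup.one_mem _, by rw [h.phi_one, one_mul]⟩
  mul_mem' := by
    rintro _ _ ⟨a, ha, d, hd, rfl⟩ ⟨a', ha', d', hd', rfl⟩
    have hg := h.pair_mem ha ha'
    refine ⟨a * a', A.mul_mem ha ha', ⁅a, b⁻¹ * a' * b⁆ * d * d',
      Subgroup.mul_mem _ (Subgroup.mul_mem _ hg hd) hd', ?_⟩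
    have e := h.phi_mul ha ha'
    have c : d * phi b a' = phi b a' * d := h.dSub_central hd (h.phi_mem_mSub ha')
    have cg : ⁅a, b⁻¹ * a' * b⁆ * phi b (a * a') = phi b (a * a') * ⁅a, b⁻¹ * a' * b⁆ :=
      h.dSub_central hg (h.phi_mem_mSub (A.mul_mem ha ha'))
    calc phi b a * d * (phi b a' * d') = phi b a * (d * phi b a') * d' := by group
      _ = phi b a * (phi b a' * d) * d' := by rw [c]
      _ = (phi b a * phi b a') * d * d' := by group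
      _ = (phi b a' * phi b a) * d * d' := by rw [h.phi_comm ha ha']
      _ = (⁅a, b⁻¹ * a' * b⁆ * phi b (a * a')) * d * d' := by rw [e]; group
      _ = (phi b (a * a') * ⁅a, b⁻¹ * a' * b⁆) * d * d' := by rw [cg]
      _ = phi b (a * a') * (⁅a, b⁻¹ * a' * b⁆ * d * d') := by group
  inv_mem' := by
    rintro _ ⟨a, ha, d, hd, rfl⟩
    have hg := h.pair_mem ha (A.inv_mem ha)
    have he : d⁻¹ * (⁅a, b⁻¹ * a⁻¹ * b⁆)⁻¹ ∈ dSub A b :=
      Subgroup.mul_mem _ (Subgroup.inv_mem _ hd) (Subgroup.inv_mem _ hg)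
    refine ⟨a⁻¹, A.inv_mem ha, d⁻¹ * (⁅a, b⁻¹ * a⁻¹ * b⁆)⁻¹, he, ?_⟩
    have c := h.dSub_central he (h.phi_mem_mSub (A.inv_mem ha))
    rw [← c, mul_inv_rev, h.phi_inv ha]; group

theorem mem_aStar {y : S} : y ∈ h.aStar ↔ ∃ a ∈ A, ∃ d ∈ dSub A b, y = phi b a * d := Iff.rfl

theorem dSub_le_aStar : dSub A b ≤ h.aStar := fun d hd =>
  ⟨1, A.one_mem, d, hd, by rw [h.phi_one, one_mul]⟩

theorem phi_mem_aStar {a : S} (ha : a ∈ A) : phi b a ∈ h.aStar :=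
  ⟨a, ha, 1, Subgroup.one_mem _, by rw [mul_one]⟩

theorem aStar_eq :
    h.aStar = dSub A b ⊔ Subgroup.closure {g : S | ∃ a ∈ A, g = a * b⁻¹ * a⁻¹ * b} := by
  apply le_antisymm
  · rintro _ ⟨a, ha, d, hd, rfl⟩
    exact Subgroup.mul_mem _ (Subgroup.mem_sup_right (Subgroup.subset_closure ⟨a, ha, rfl⟩))
      (Subgroup.mem_sup_left hd)
  · apply sup_le h.dSub_le_aStar
    rw [Subgroup.closure_le]
    rintro _ ⟨a, ha, rfl⟩
    exact h.phi_mem_aStar ha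

theorem aStar_le_mSub : h.aStar ≤ mSub A b := by
  rintro _ ⟨a, ha, d, hd, rfl⟩
  exact Subgroup.mul_mem _ (h.phi_mem_mSub ha) (h.dSub_le_mSub hd)

theorem aStar_le_N : h.aStar ≤ Subgroup.normalizer (A : Set S) := h.aStar_le_mSub.trans h.mSub_le_N

theorem aStar_comm {y y' : S} (hy : y ∈ h.aStar) (hy' : y' ∈ h.aStar) : y * y' = y' * y := by
  obtain ⟨a, ha, d, hd, rfl⟩ := hy
  obtain ⟨a', ha', d', hd', rfl⟩ := hy'
  have c1 : d * phi b a' = phi b a' * d := h.dSub_central hd (h.phi_mem_mSub ha')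
  have c2 : d' * phi b a = phi b a * d' := h.dSub_central hd' (h.phi_mem_mSub ha)
  have c3 : d * d' = d' * d := h.dSub_central hd (h.dSub_le_mSub hd')
  calc phi b a * d * (phi b a' * d') = phi b a * (d * phi b a') * d' := by group
    _ = phi b a * (phi b a' * d) * d' := by rw [c1]
    _ = (phi b a * phi b a') * (d * d') := by group
    _ = (phi b a' * phi b a) * (d' * d) := by rw [h.phi_comm ha ha', c3]
    _ = phi b a' * (phi b a * d') * d := by group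
    _ = phi b a' * (d' * phi b a) * d := by rw [c2]
    _ = phi b a' * d' * (phi b a * d) := by group

theorem commutator_le_aStar : ⁅B, B⁆ ≤ h.aStar := by
  have := h.nB
  rw [Subgroup.commutator_le]
  intro x hx y hy
  exact h.dSub_le_aStar (h.commB_mem_dSub hx hy)

theorem phi_mem_aStar_inf {a : S} (ha : a ∈ A) : phi b a ∈ h.aStar ⊓ B :=
  ⟨h.phi_mem_aStar ha, h.phi_mem_B a⟩

theorem inf_le_aStar_inf : A ⊓ B ≤ h.aStar ⊓ B :=
  le_inf (h.inf_le_dSub.trans h.dSub_le_aStar) inf_le_right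

/-- `(φ a)⁻¹ φ a' ∈ D ↔ a⁻¹ a' ∈ D`. -/
theorem phi_quot_iff {a a' : S} (ha : a ∈ A) (ha' : a' ∈ A) :
    (phi b a)⁻¹ * phi b a' ∈ dSub A b ↔ a⁻¹ * a' ∈ dSub A b := by
  have ht : a⁻¹ * a' ∈ A := A.mul_mem (A.inv_mem ha) ha'
  have hg := h.pair_mem ha ht
  have e : phi b a' = (⁅a, b⁻¹ * (a⁻¹ * a') * b⁆)⁻¹ * phi b (a⁻¹ * a') * phi b a := by
    rw [← h.phi_mul ha ht]; congr 1; group
  have c := h.phi_comm ht ha
  have e2 : (phi b a)⁻¹ * phi b a' = (⁅a, b⁻¹ * (a⁻¹ * a') * b⁆)⁻¹ * phi b (a⁻¹ * a') := by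
    have cg : (⁅a, b⁻¹ * (a⁻¹ * a') * b⁆)⁻¹ * phi b a = phi b a * (⁅a, b⁻¹ * (a⁻¹ * a') * b⁆)⁻¹ :=
      h.dSub_central (Subgroup.inv_mem _ hg) (h.phi_mem_mSub ha)
    calc (phi b a)⁻¹ * phi b a'
        = (phi b a)⁻¹ * ((⁅a, b⁻¹ * (a⁻¹ * a') * b⁆)⁻¹ * (phi b (a⁻¹ * a') * phi b a)) := by
          rw [e]; group
      _ = (phi b a)⁻¹ * ((⁅a, b⁻¹ * (a⁻¹ * a') * b⁆)⁻¹ * (phi b a * phi b (a⁻¹ * a'))) := by rw [c]
      _ = (phi b a)⁻¹ * ((⁅a, b⁻¹ * (a⁻¹ * a') * b⁆)⁻¹ * phi b a) * phi b (a⁻¹ * a') := by group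
      _ = (phi b a)⁻¹ * (phi b a * (⁅a, b⁻¹ * (a⁻¹ * a') * b⁆)⁻¹) * phi b (a⁻¹ * a') := by rw [cg]
      _ = (⁅a, b⁻¹ * (a⁻¹ * a') * b⁆)⁻¹ * phi b (a⁻¹ * a') := by group
  rw [e2, Subgroup.mul_mem_cancel_left _ (Subgroup.inv_mem _ hg), h.phi_mem_dSub_iff ht]


theorem card_aStar [Finite S] : Nat.card h.aStar = Nat.card A := by
  have hDA : dSub A b ≤ A := inf_le_left
  have hDS := h.dSub_le_aStar
  have e1 : ((dSub A b).subgroupOf A).index * Nat.card (dSub A b) = Nat.card A := by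
    rw [← Subgroup.index_mul_card ((dSub A b).subgroupOf A)]
    congr 1
    exact (Nat.card_congr (Subgroup.subgroupOfEquivOfLe hDA).toEquiv).symm
  have e2 : ((dSub A b).subgroupOf h.aStar).index * Nat.card (dSub A b) = Nat.card h.aStar := by
    rw [← Subgroup.index_mul_card ((dSub A b).subgroupOf h.aStar)]
    congr 1
    exact (Nat.card_congr (Subgroup.subgroupOfEquivOfLe hDS).toEquiv).symm
  rw [← e1, ← e2]
  congr 1
  unfold Subgroup.index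
  symm
  refine Nat.card_congr (Equiv.ofBijective (Quotient.map'
    (fun a : A => (⟨phi b a, h.phi_mem_aStar a.2⟩ : h.aStar)) ?_) ⟨?_, ?_⟩)
  · intro a a' haa
    rw [QuotientGroup.leftRel_apply] at haa ⊢
    rw [Subgroup.mem_subgroupOf] at haa ⊢
    exact (h.phi_quot_iff a.2 a'.2).mpr haa
  · intro q q'
    refine Quotient.inductionOn₂' q q' ?_
    intro a a' hq
    rw [Quotient.map'_mk'', Quotient.map'_mk'', Quotient.eq''] at hq
    rw [Quotient.eq'']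
    rw [QuotientGroup.leftRel_apply] at hq ⊢
    rw [Subgroup.mem_subgroupOf] at hq ⊢
    exact (h.phi_quot_iff a.2 a'.2).mp hq
  · intro q
    refine Quotient.inductionOn' q ?_
    rintro ⟨y, hy⟩
    obtain ⟨a, ha, d, hd, rfl⟩ := hy
    refine ⟨Quotient.mk'' ⟨a, ha⟩, ?_⟩
    rw [Quotient.map'_mk'', Quotient.eq'', QuotientGroup.leftRel_apply, Subgroup.mem_subgroupOf]
    have : (phi b a)⁻¹ * (phi b a * d) = d := by group
    simpa [this] using hd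

omit h in
theorem le_normalizer_of_conj_mem {H K : Subgroup S} (hc : ∀ x ∈ H, ∀ y ∈ K, x * y * x⁻¹ ∈ K) :
    H ≤ Subgroup.normalizer (K : Set S) := by
  intro x hx
  rw [Subgroup.mem_normalizer_iff]
  intro y
  refine ⟨hc x hx y, fun hy => ?_⟩
  have := hc x⁻¹ (H.inv_mem hx) _ hy
  have e : x⁻¹ * (x * y * x⁻¹) * x⁻¹⁻¹ = y := by group
  rwa [e] at this

/-- `a' φ(a) a'⁻¹ = ⁅a', β a⁆⁻¹ φ(a)`. -/
theorem conj_phi {a a' : S} (ha : a ∈ A) (ha' : a' ∈ A) :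
    a' * phi b a * a'⁻¹ = (⁅a', b⁻¹ * a * b⁆)⁻¹ * phi b a := by
  have hg := h.pair_mem ha' ha
  have hx := h.beta_mem ha
  rw [h.phi_eq a]
  exact phi_mul_aux (h.dSub_central hg (Subgroup.mem_sup_right hx))
    (h.dSub_central hg (Subgroup.mem_sup_left ha)) (h.comm a' ha' a ha)

theorem le_normalizer_aStar : A ≤ Subgroup.normalizer (h.aStar : Set S) := by
  apply le_normalizer_of_conj_mem
  rintro a' ha' _ ⟨a, ha, d, hd, rfl⟩
  have hg := h.pair_mem ha' ha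
  have c : a' * d * a'⁻¹ = d := by
    rw [← h.comm d hd.1 a' ha']; group
  have e : a' * (phi b a * d) * a'⁻¹ = (a' * phi b a * a'⁻¹) * (a' * d * a'⁻¹) := by group
  rw [e, c, h.conj_phi ha ha']
  exact Subgroup.mul_mem _ (Subgroup.mul_mem _ (h.dSub_le_aStar (Subgroup.inv_mem _ hg))
    (h.phi_mem_aStar ha)) (h.dSub_le_aStar hd)

theorem b_mem_normalizer_aStar [Finite S] : b ∈ Subgroup.normalizer (h.aStar : Set S) := by
  have hB := h.nB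
  rw [← inv_mem_iff]
  apply Subgroup.mem_normalizer_fintype
  rintro _ ⟨a, ha, d, hd, rfl⟩
  have hz : ⁅b⁻¹, phi b a⁆ ∈ dSub A b := h.commB_mem_dSub (B.inv_mem h.hb) (h.phi_mem_B a)
  have e : b⁻¹ * (phi b a * d) * b⁻¹⁻¹ = ⁅b⁻¹, phi b a⁆ * phi b a * (b⁻¹ * d * b) := by
    rw [commutatorElement_def]; group
  rw [e]
  exact Subgroup.mul_mem _ (Subgroup.mul_mem _ (h.dSub_le_aStar hz) (h.phi_mem_aStar ha))
    (h.dSub_le_aStar (h.beta_dSub hd))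

theorem conj_dSub_of_mem_N {n d : S} (hn : n ∈ Subgroup.normalizer (A : Set S))
    (hd : d ∈ dSub A b) : n * d * n⁻¹ ∈ dSub A b := by
  have hd' := mem_dSub.mp hd
  rw [mem_dSub]
  refine ⟨(Subgroup.mem_normalizer_iff.mp hn d).mp hd'.1, ?_⟩
  have hn' := h.conj_mem_N hn
  have := (Subgroup.mem_normalizer_iff.mp hn' (b * d * b⁻¹)).mp hd'.2
  have e : b * n * b⁻¹ * (b * d * b⁻¹) * (b * n * b⁻¹)⁻¹ = b * (n * d * n⁻¹) * b⁻¹ := by group
  rwa [e] at this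

theorem normalizer_le_normalizer_aStar :
    Subgroup.normalizer (A : Set S) ≤ Subgroup.normalizer (h.aStar : Set S) := by
  have hB := h.nB
  apply le_normalizer_of_conj_mem
  rintro n hn _ ⟨a, ha, d, hd, rfl⟩
  have hNsub : ∀ {x y : S}, x ∈ Subgroup.normalizer (A : Set S) → y ∈ A → x * y * x⁻¹ ∈ A :=
    fun {x y} hx hy => (Subgroup.mem_normalizer_iff.mp hx y).mp hy
  -- a₁ = n a n⁻¹, e = b⁻¹ n b n⁻¹
  have ha1 : n * a * n⁻¹ ∈ A := hNsub hn ha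
  have heN : b⁻¹ * n * b * n⁻¹ ∈ Subgroup.normalizer (A : Set S) :=
    Subgroup.mul_mem _ (h.conj_mem_N' hn) (Subgroup.inv_mem _ hn)
  have heB : b⁻¹ * n * b * n⁻¹ ∈ B := by
    have : b⁻¹ * n * b * n⁻¹ = b⁻¹ * (n * b * n⁻¹) := by group
    rw [this]
    exact B.mul_mem (B.inv_mem h.hb) (hB.conj_mem _ h.hb n)
  obtain ⟨a₁, ha₁e⟩ : ∃ a₁, a₁ = n * a * n⁻¹ := ⟨_, rfl⟩
  obtain ⟨e, hee⟩ : ∃ e, e = b⁻¹ * n * b * n⁻¹ := ⟨_, rfl⟩
  rw [← ha₁e] at ha1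
  rw [← hee] at heN heB
  -- w = a₁ e⁻¹ a₁⁻¹ e ∈ A ∩ B
  have hw : a₁ * e⁻¹ * a₁⁻¹ * e ∈ dSub A b := by
    apply h.inf_le_dSub
    constructor
    · have : a₁ * e⁻¹ * a₁⁻¹ * e = a₁ * (e⁻¹ * a₁⁻¹ * e⁻¹⁻¹) := by group
      rw [this]
      exact A.mul_mem ha1 (hNsub (Subgroup.inv_mem _ heN) (A.inv_mem ha1))
    · have : a₁ * e⁻¹ * a₁⁻¹ * e = (a₁ * e⁻¹ * a₁⁻¹) * e := by group
      rw [this]
      exact B.mul_mem (hB.conj_mem _ (B.inv_mem heB) a₁) heB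
  have hz : ⁅e⁻¹, phi b a₁⁆ ∈ dSub A b := h.commB_mem_dSub (B.inv_mem heB) (h.phi_mem_B a₁)
  have key : n * (phi b a * d) * n⁻¹ =
      (a₁ * e⁻¹ * a₁⁻¹ * e) * (⁅e⁻¹, phi b a₁⁆ * phi b a₁) * (n * d * n⁻¹) := by
    rw [ha₁e, hee, commutatorElement_def]; unfold phi; group
  rw [key]
  exact Subgroup.mul_mem _ (Subgroup.mul_mem _ (h.dSub_le_aStar hw)
    (Subgroup.mul_mem _ (h.dSub_le_aStar hz) (h.phi_mem_aStar ha1)))
    (h.dSub_le_aStar (h.conj_dSub_of_mem_N hn hd))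

omit h in
theorem pow_mul_comm_aux {x y c : S} (hc : c = ⁅y, x⁆) (c1 : Commute c x) (c2 : Commute c y)
    (n : ℕ) : y ^ n * x = c ^ n * x * y ^ n := by
  have hyx : y * x = c * x * y := by rw [hc, commutatorElement_def]; group
  induction n with
  | zero => simp
  | succ n ih =>
    calc y ^ (n + 1) * x = y * (y ^ n * x) := by rw [pow_succ']; group
      _ = y * (c ^ n * x * y ^ n) := by rw [ih]
      _ = (y * c ^ n) * x * y ^ n := by group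
      _ = (c ^ n * y) * x * y ^ n := by rw [(c2.pow_left n).eq]
      _ = c ^ n * (y * x) * y ^ n := by group
      _ = c ^ n * (c * x * y) * y ^ n := by rw [hyx]
      _ = c ^ (n + 1) * x * y ^ (n + 1) := by rw [pow_succ, pow_succ']; group

omit h in
theorem mul_pow_aux {x y c : S} (hc : c = ⁅y, x⁆) (c1 : Commute c x) (c2 : Commute c y)
    (n : ℕ) : (x * y) ^ n = x ^ n * y ^ n * c ^ (n.choose 2) := by
  induction n with
  | zero => simp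
  | succ n ih =>
    have e := pow_mul_comm_aux hc c1 c2 n
    have hch : (n + 1).choose 2 = n + n.choose 2 := by
      rw [Nat.choose_succ_succ, Nat.choose_one_right]
    have c3 : Commute (c ^ n.choose 2) x := c1.pow_left _
    have c4 : Commute (c ^ n.choose 2) y := c2.pow_left _
    have c5 : Commute (c ^ n) x := c1.pow_left _
    have c6 : Commute (c ^ n) (y ^ (n + 1)) := (c2.pow_left _).pow_right _
    calc (x * y) ^ (n + 1) = (x * y) ^ n * (x * y) := pow_succ _ _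
      _ = x ^ n * y ^ n * c ^ (n.choose 2) * (x * y) := by rw [ih]
      _ = x ^ n * y ^ n * (c ^ (n.choose 2) * x) * y := by group
      _ = x ^ n * y ^ n * (x * c ^ (n.choose 2)) * y := by rw [c3.eq]
      _ = x ^ n * (y ^ n * x) * (c ^ (n.choose 2) * y) := by group
      _ = x ^ n * (c ^ n * x * y ^ n) * (y * c ^ (n.choose 2)) := by rw [e, c4.eq]
      _ = x ^ n * (c ^ n * x) * (y ^ n * y) * c ^ (n.choose 2) := by group
      _ = x ^ n * (x * c ^ n) * y ^ (n + 1) * c ^ (n.choose 2) := by rw [c5.eq, ← pow_succ]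
      _ = x ^ (n + 1) * (c ^ n * y ^ (n + 1)) * c ^ (n.choose 2) := by rw [pow_succ]; group
      _ = x ^ (n + 1) * (y ^ (n + 1) * c ^ n) * c ^ (n.choose 2) := by rw [c6.eq]
      _ = x ^ (n + 1) * y ^ (n + 1) * c ^ ((n + 1).choose 2) := by
          rw [hch, pow_add]; group

/-- Exponent: if every element of `A` has `e`-th power one with `e` odd, so does every element of `A*`. -/
theorem pow_eq_one_of_mem_aStar {e : ℕ} (he : Odd e) (hA : ∀ a ∈ A, a ^ e = 1) {y : S}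
    (hy : y ∈ h.aStar) : y ^ e = 1 := by
  obtain ⟨a, ha, d, hd, rfl⟩ := hy
  have hc : Commute (phi b a) d := (h.dSub_central hd (h.phi_mem_mSub ha) : Commute _ _).symm
  rw [hc.mul_pow, hA d hd.1, mul_one, h.phi_eq]
  have hx := h.beta_mem ha
  have hxi : (b⁻¹ * a * b)⁻¹ ∈ conjB A b := Subgroup.inv_mem _ hx
  have hg : ⁅(b⁻¹ * a * b)⁻¹, a⁆ ∈ dSub A b := by
    have := h.comm_mem_dSub ha hxi
    have e' : ⁅(b⁻¹ * a * b)⁻¹, a⁆ = (⁅a, (b⁻¹ * a * b)⁻¹⁆)⁻¹ := by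
      simp only [commutatorElement_def]; group
    rw [e']; exact Subgroup.inv_mem _ this
  have hxe : ((b⁻¹ * a * b)⁻¹) ^ e = 1 := by
    obtain ⟨a₀, ha₀, hx₀⟩ := hxi
    rw [← hx₀, ← map_pow, hA a₀ ha₀, map_one]
  rw [mul_pow_aux rfl (h.dSub_central hg (Subgroup.mem_sup_left ha))
    (h.dSub_central hg (Subgroup.mem_sup_right hxi)) e, hA a ha, hxe]
  obtain ⟨k, hk⟩ := he
  have hch : e.choose 2 = e * k := by
    rw [Nat.choose_two_right, hk]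
    have : (2 * k + 1) * (2 * k + 1 - 1) = 2 * ((2 * k + 1) * k) := by
      rw [Nat.add_sub_cancel]; ring
    rw [this, Nat.mul_div_cancel_left _ (by norm_num : 0 < 2)]
  rw [hch, pow_mul, hA _ hg.1]; simp

end Hyp

end Cfsg.Agent.Lib.Helper27.GlaubRepl
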