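import Mathlib
import Cfsg.Agent.Lib.Helper27.GlaubRepl
import Cfsg.Agent.Lib.Helper17.Basic

/-!
# Glauberman's replacement theorem: the replacement step and the replacement property
-/

set_option autoImplicit false
open scoped commutatorElement

namespace Cfsg.Agent.Lib.Helper27

open GlaubRepl

section step

variable {S : Type*} [Group S] [Finite S] {p : ℕ} [Fact p.Prime]

/-- In a finite `p`-group, a normal subgroup `B` not normalizing `A` contains an element normalizing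
`N(A)` but not `A`. -/
theorem exists_normalizing (hS : IsPGroup p S) (A B : Subgroup S) [hBn : B.Normal]
    (hnot : ¬ B ≤ Subgroup.normalizer (A : Set S)) :
    ∃ b ∈ B, b ∈ Subgroup.normalizer ((Subgroup.normalizer (A : Set S) : Subgroup S) : Set S) ∧
      b ∉ Subgroup.normalizer (A : Set S) := by
  obtain ⟨T, hT⟩ : ∃ T : Subgroup S, T = Subgroup.normalizer (A : Set S) := ⟨_, rfl⟩
  rw [← hT] at hnot ⊢
  have hne : T ≠ B ⊔ T := by
    intro h
    apply hnot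
    rw [h]; exact le_sup_left
  have h1 : ¬ (Subgroup.normalizer (T : Set S) ⊓ (B ⊔ T) ≤ T) := by
    intro h
    exact hne (Cfsg.Agent.Lib.Helper17.eq_of_normalizer_inf_le T (B ⊔ T) (hS.to_subgroup _)
      le_sup_right h)
  obtain ⟨y, hy, hyT⟩ := SetLike.not_le_iff_exists.1 h1
  have hy2 : y ∈ ((B ⊔ T : Subgroup S) : Set S) := hy.2
  rw [Subgroup.normal_mul] at hy2
  obtain ⟨b, hb, t, ht, rfl⟩ := hy2
  refine ⟨b, hb, ?_, ?_⟩
  · have h2 : t ∈ Subgroup.normalizer (T : Set S) := Subgroup.le_normalizer ht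
    have h3 := Subgroup.mul_mem _ hy.1 (Subgroup.inv_mem _ h2)
    simpa using h3
  · intro hbT
    exact hyT (T.mul_mem hbT ht)

/-- Glauberman's replacement step in a finite `p`-group, `p` odd. -/
theorem replacement_step (hS : IsPGroup p S) (hp : p ≠ 2)
    (A B : Subgroup S) [hBn : B.Normal] (hA : ∀ x ∈ A, ∀ y ∈ A, x * y = y * x) (hBA : ⁅B, B⁆ ≤ A)
    (hnot : ¬ B ≤ Subgroup.normalizer (A : Set S)) :
    ∃ A' : Subgroup S, Nat.card A' = Nat.card A ∧ (∀ x ∈ A', ∀ y ∈ A', x * y = y * x) ∧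
      ⁅B, B⁆ ≤ A' ∧ A ⊓ B < A' ⊓ B ∧ ¬ B ≤ A' ∧ A' ≤ Subgroup.normalizer (A : Set S) ∧
      (∀ e : ℕ, Odd e → (∀ a ∈ A, a ^ e = 1) → ∀ y ∈ A', y ^ e = 1) ∧
      (∀ D : Subgroup S, D.Normal → A ≤ D → A' ≤ D) := by
  obtain ⟨b, hb, hbN, hbA⟩ := exists_normalizing hS A B hnot
  have hpp := (Fact.out : p.Prime)
  have hodd : (∀ x ∈ B, ∀ y ∈ B, x * y = y * x) ∨ Odd (orderOf b) := by
    right
    obtain ⟨k, hk⟩ := hS b
    have hdvd : orderOf b ∣ p ^ k := orderOf_dvd_of_pow_eq_one hk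
    obtain ⟨j, -, hj⟩ := (Nat.dvd_prime_pow hpp).mp hdvd
    rw [hj]
    exact (hpp.odd_of_ne_two hp).pow
  have h : Hyp A B b := ⟨hA, hBn, hb, hBA, hbN, hodd⟩
  have hbinv : b⁻¹ ∉ Subgroup.normalizer (A : Set S) := fun hc => hbA (by simpa using inv_mem hc)
  have hex : ∃ a ∈ A, b⁻¹ * a * b ∉ A := by
    by_contra hcon
    push Not at hcon
    apply hbinv
    apply Subgroup.mem_normalizer_fintype
    intro n hn
    have := hcon n hn
    simpa using this
  obtain ⟨a₀, ha₀, ha₀'⟩ := hex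
  have hbStar : b ∉ h.aStar := fun hc => hbA (h.aStar_le_N hc)
  refine ⟨h.aStar, h.card_aStar, fun x hx y hy => h.aStar_comm hx hy, h.commutator_le_aStar, ?_,
    fun hle => hbStar (hle hb), h.aStar_le_N, fun e he hAe y hy => h.pow_eq_one_of_mem_aStar he hAe hy,
    ?_⟩
  · refine lt_of_le_not_ge h.inf_le_aStar_inf ?_
    intro hle
    have := (hle (h.phi_mem_aStar_inf ha₀)).1
    rw [h.phi_eq] at this
    apply ha₀'
    have h2 := A.mul_mem (A.inv_mem this) ha₀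
    have e : (a₀ * (b⁻¹ * a₀ * b)⁻¹)⁻¹ * a₀ = b⁻¹ * a₀ * b := by group
    rwa [e] at h2
  · intro D hD hAD
    rintro _ ⟨a, ha, d, hd, rfl⟩
    refine D.mul_mem ?_ (hAD hd.1)
    rw [h.phi_eq]
    refine D.mul_mem (hAD ha) (D.inv_mem ?_)
    have := hD.conj_mem a (hAD ha) b⁻¹
    simpa using this

end step

section maxIn

variable {X : Type*} [Group X]

/-- The members of a class `𝔛` of subgroups contained in `P` and of largest order among those. -/
def maxIn (𝔛 : Subgroup X → Prop) (P : Subgroup X) : Set (Subgroup X) :=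
  {B | B ≤ P ∧ 𝔛 B ∧ ∀ B' : Subgroup X, B' ≤ P → 𝔛 B' → Nat.card B' ≤ Nat.card B}

theorem image_max_eq (P : Subgroup X) (𝔜 : Subgroup P → Prop) (𝔛 : Subgroup X → Prop)
    (hmap : ∀ A : Subgroup P, 𝔛 (A.map P.subtype) ↔ 𝔜 A) :
    (fun A : Subgroup P => A.map P.subtype) ''
        {A | 𝔜 A ∧ ∀ B : Subgroup P, 𝔜 B → Nat.card B ≤ Nat.card A} = maxIn 𝔛 P := by
  ext U
  constructor
  · rintro ⟨A, ⟨hA, hmax⟩, rfl⟩
    refine ⟨Subgroup.map_subtype_le A, (hmap A).mpr hA, ?_⟩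
    intro B' hB'P hB'
    have h1 := hmax (B'.subgroupOf P) (by
      rw [← hmap, Subgroup.map_subgroupOf_eq_of_le hB'P]; exact hB')
    rw [Subgroup.card_map_of_injective P.subtype_injective]
    calc Nat.card B' = Nat.card ((B'.subgroupOf P).map P.subtype) := by
          rw [Subgroup.map_subgroupOf_eq_of_le hB'P]
      _ = Nat.card (B'.subgroupOf P) := Subgroup.card_map_of_injective P.subtype_injective
      _ ≤ Nat.card A := h1
  · rintro ⟨hUP, hU, hmax⟩
    refine ⟨U.subgroupOf P, ⟨?_, ?_⟩, Subgroup.map_subgroupOf_eq_of_le hUP⟩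
    · rw [← hmap, Subgroup.map_subgroupOf_eq_of_le hUP]; exact hU
    · intro A hA
      have := hmax (A.map P.subtype) (Subgroup.map_subtype_le A) ((hmap A).mpr hA)
      rw [Subgroup.card_map_of_injective P.subtype_injective] at this
      calc Nat.card A ≤ Nat.card U := this
        _ = Nat.card ((U.subgroupOf P).map P.subtype) := by
            rw [Subgroup.map_subgroupOf_eq_of_le hUP]
        _ = Nat.card (U.subgroupOf P) := Subgroup.card_map_of_injective P.subtype_injective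

/-- Elementwise commutativity of a subgroup. -/
def AbSub (A : Subgroup X) : Prop := ∀ x ∈ A, ∀ y ∈ A, x * y = y * x

theorem abSub_iff (A : Subgroup X) : AbSub A ↔ IsMulCommutative A := by
  constructor
  · intro h
    exact ⟨⟨fun x y => Subtype.ext (h x x.2 y y.2)⟩⟩
  · intro h x hx y hy
    exact congrArg Subtype.val (h.is_comm.comm ⟨x, hx⟩ ⟨y, hy⟩)

theorem abSub_map_subtype (P : Subgroup X) (A : Subgroup P) :
    AbSub (A.map P.subtype) ↔ IsMulCommutative A := by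
  rw [← abSub_iff]
  constructor
  · intro h x hx y hy
    apply Subtype.ext
    exact h x ⟨x, hx, rfl⟩ y ⟨y, hy, rfl⟩
  · rintro h _ ⟨x, hx, rfl⟩ _ ⟨y, hy, rfl⟩
    exact congrArg Subtype.val (h x hx y hy)

end maxIn

section property

variable {S : Type*} [Group S] [Finite S] {p : ℕ} [Fact p.Prime]

/-- The replacement property for a family of abelian subgroups closed under the replacement step. -/
theorem replacement_property (hS : IsPGroup p S) (hp : p ≠ 2) (𝒜 : Set (Subgroup S))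
    (B : Subgroup S) [hBn : B.Normal]
    (hab : ∀ A ∈ 𝒜, ∀ x ∈ A, ∀ y ∈ A, x * y = y * x)
    (hcl : ∀ A ∈ 𝒜, ∀ A' : Subgroup S, Nat.card A' = Nat.card A →
      (∀ x ∈ A', ∀ y ∈ A', x * y = y * x) →
      (∀ e : ℕ, Odd e → (∀ a ∈ A, a ^ e = 1) → ∀ y ∈ A', y ^ e = 1) →
      (∀ D : Subgroup S, D.Normal → A ≤ D → A' ≤ D) → A' ∈ 𝒜)
    (hex : ∃ U ∈ 𝒜, ⁅B, B⁆ ≤ U ∧ ¬ B ≤ U) :
    ∃ A ∈ 𝒜, ⁅B, B⁆ ≤ A ∧ ¬ B ≤ A ∧ B ≤ Subgroup.normalizer (A : Set S) := by
  classical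
  have hfin : {A : Subgroup S | A ∈ 𝒜 ∧ ⁅B, B⁆ ≤ A ∧ ¬ B ≤ A}.Finite := Set.toFinite _
  obtain ⟨U, hU⟩ := hex
  obtain ⟨A, hA, hmax⟩ := Set.exists_max_image _ (fun A : Subgroup S => Nat.card ↥(A ⊓ B)) hfin
    ⟨U, hU⟩
  refine ⟨A, hA.1, hA.2.1, hA.2.2, ?_⟩
  by_contra hnot
  obtain ⟨A', hcard, hab', hBA', hlt, hnB, -, hexp, hD⟩ :=
    replacement_step hS hp A B (hab A hA.1) hA.2.1 hnot
  have hA' : A' ∈ 𝒜 := hcl A hA.1 A' hcard hab' hexp hD
  have := hmax A' ⟨hA', hBA', hnB⟩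
  have heq := Subgroup.eq_of_le_of_card_ge hlt.le this
  exact hlt.ne heq

end property

end Cfsg.Agent.Lib.Helper27
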