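import Mathlib
import Cfsg.Agent.Lib.Helper27.GlaubRepl2

/-!
# Generic Thompson subgroups `J_𝔛(T)` and `W_𝔛(T) = Ω_𝔛(Z(J_𝔛(T)))` inside an ambient group

`𝔛` is a class of abelian subgroups (all abelian subgroups, or the elementary abelian ones).
-/

set_option autoImplicit false

namespace Cfsg.Agent.Lib.Helper27

variable {G : Type*} [Group G]

/-- A class of abelian subgroups, invariant under automorphisms, containing the trivial subgroup and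
closed under adjoining a commuting cyclic member. -/
structure GoodClass (𝔛 : Subgroup G → Prop) : Prop where
  ab : ∀ A, 𝔛 A → AbSub A
  aut : ∀ (e : G ≃* G) (A : Subgroup G), 𝔛 A → 𝔛 (A.map e.toMonoidHom)
  bot : 𝔛 ⊥
  join : ∀ (A : Subgroup G) (x : G), 𝔛 A → 𝔛 (Subgroup.zpowers x) → (∀ a ∈ A, a * x = x * a) →
    𝔛 (A ⊔ Subgroup.zpowers x)

/-- `J_𝔛(T)`. -/
def jSub (𝔛 : Subgroup G → Prop) (T : Subgroup G) : Subgroup G := sSup (maxIn 𝔛 T)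

/-- `W_𝔛(T)`: generated by the elements `x` of `Z(J_𝔛(T))` with `⟨x⟩ ∈ 𝔛`. -/
def wSub (𝔛 : Subgroup G → Prop) (T : Subgroup G) : Subgroup G :=
  Subgroup.closure {x | x ∈ jSub 𝔛 T ∧ x ∈ Subgroup.centralizer (jSub 𝔛 T : Set G) ∧
    𝔛 (Subgroup.zpowers x)}

variable {𝔛 : Subgroup G → Prop}

theorem maxIn_nonempty [Finite G] (h : GoodClass 𝔛) (T : Subgroup G) : (maxIn 𝔛 T).Nonempty := by
  haveI : Nonempty {B : Subgroup G // B ≤ T ∧ 𝔛 B} := ⟨⟨⊥, bot_le, h.bot⟩⟩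
  obtain ⟨⟨B₀, hB₀T, hB₀⟩, hmax⟩ :=
    Finite.exists_max (fun B : {B : Subgroup G // B ≤ T ∧ 𝔛 B} => Nat.card B.1)
  exact ⟨B₀, hB₀T, hB₀, fun B' hB'T hB' => hmax ⟨B', hB'T, hB'⟩⟩

theorem jSub_le (T : Subgroup G) : jSub 𝔛 T ≤ T := sSup_le fun _ hA => hA.1

theorem le_jSub {T A : Subgroup G} (hA : A ∈ maxIn 𝔛 T) : A ≤ jSub 𝔛 T := le_sSup hA

theorem gen_mem_of_mem_maxIn [Finite G] (h : GoodClass 𝔛) {T A : Subgroup G} (hA : A ∈ maxIn 𝔛 T)
    {x : G} (hx : x ∈ jSub 𝔛 T) (hxc : x ∈ Subgroup.centralizer (jSub 𝔛 T : Set G))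
    (hxX : 𝔛 (Subgroup.zpowers x)) : x ∈ A := by
  have hcomm : ∀ a ∈ A, a * x = x * a := fun a ha =>
    (Subgroup.mem_centralizer_iff.mp hxc) a (le_jSub hA ha)
  have h1 : 𝔛 (A ⊔ Subgroup.zpowers x) := h.join A x hA.2.1 hxX hcomm
  have h2 : A ⊔ Subgroup.zpowers x ≤ T :=
    sup_le hA.1 ((Subgroup.zpowers_le).mpr (jSub_le T hx))
  have h3 := hA.2.2 _ h2 h1
  have h4 : A = A ⊔ Subgroup.zpowers x := Subgroup.eq_of_le_of_card_ge le_sup_left h3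
  rw [h4]
  exact Subgroup.mem_sup_right (Subgroup.mem_zpowers x)

theorem wSub_le_of_mem_maxIn [Finite G] (h : GoodClass 𝔛) {T A : Subgroup G}
    (hA : A ∈ maxIn 𝔛 T) : wSub 𝔛 T ≤ A := by
  unfold wSub
  rw [Subgroup.closure_le]
  rintro x ⟨hx, hxc, hxX⟩
  exact gen_mem_of_mem_maxIn h hA hx hxc hxX

theorem wSub_le_jSub (T : Subgroup G) : wSub 𝔛 T ≤ jSub 𝔛 T := by
  unfold wSub
  rw [Subgroup.closure_le]
  rintro x ⟨hx, -, -⟩
  exact hx

theorem wSub_le (T : Subgroup G) : wSub 𝔛 T ≤ T := (wSub_le_jSub T).trans (jSub_le T)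

theorem abSub_wSub [Finite G] (h : GoodClass 𝔛) (T : Subgroup G) : AbSub (wSub 𝔛 T) := by
  obtain ⟨A, hA⟩ := maxIn_nonempty h T
  have hle := wSub_le_of_mem_maxIn h hA
  intro x hx y hy
  exact h.ab A hA.2.1 x (hle hx) y (hle hy)

theorem map_symm_map' (e : G ≃* G) (B : Subgroup G) :
    (B.map e.toMonoidHom).map e.symm.toMonoidHom = B := by
  ext x
  simp [Subgroup.mem_map]

theorem map_map_symm' (e : G ≃* G) (B : Subgroup G) :
    (B.map e.symm.toMonoidHom).map e.toMonoidHom = B := by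
  ext x
  simp [Subgroup.mem_map]

theorem maxIn_map (h : GoodClass 𝔛) (e : G ≃* G) {T A : Subgroup G} (hA : A ∈ maxIn 𝔛 T) :
    A.map e.toMonoidHom ∈ maxIn 𝔛 (T.map e.toMonoidHom) := by
  obtain ⟨hAT, hAe, hmax⟩ := hA
  refine ⟨Subgroup.map_mono hAT, h.aut e A hAe, ?_⟩
  intro B' hB'T hB'
  have h1 : B'.map e.symm.toMonoidHom ≤ T := by
    have := Subgroup.map_mono (f := e.symm.toMonoidHom) hB'T
    rwa [map_symm_map'] at this
  have h2 := hmax _ h1 (h.aut e.symm B' hB')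
  rw [Subgroup.card_map_of_injective e.symm.injective] at h2
  rw [Subgroup.card_map_of_injective e.injective]
  exact h2

theorem jSub_map_le (h : GoodClass 𝔛) (e : G ≃* G) (T : Subgroup G) :
    (jSub 𝔛 T).map e.toMonoidHom ≤ jSub 𝔛 (T.map e.toMonoidHom) := by
  rw [Subgroup.map_le_iff_le_comap]
  apply sSup_le
  intro A hA
  rw [← Subgroup.map_le_iff_le_comap]
  exact le_sSup (maxIn_map h e hA)

theorem jSub_map (h : GoodClass 𝔛) (e : G ≃* G) (T : Subgroup G) :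
    jSub 𝔛 (T.map e.toMonoidHom) = (jSub 𝔛 T).map e.toMonoidHom := by
  apply le_antisymm _ (jSub_map_le h e T)
  have := jSub_map_le h e.symm (T.map e.toMonoidHom)
  rw [map_symm_map'] at this
  have h2 := Subgroup.map_mono (f := e.toMonoidHom) this
  rwa [map_map_symm'] at h2

theorem wSub_map_le (h : GoodClass 𝔛) (e : G ≃* G) (T : Subgroup G) :
    (wSub 𝔛 T).map e.toMonoidHom ≤ wSub 𝔛 (T.map e.toMonoidHom) := by
  unfold wSub
  rw [Subgroup.map_le_iff_le_comap, Subgroup.closure_le]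
  rintro x ⟨hx, hxc, hxX⟩
  apply Subgroup.subset_closure
  rw [jSub_map h e T]
  refine ⟨Subgroup.mem_map_of_mem _ hx, ?_, ?_⟩
  · rw [Subgroup.mem_centralizer_iff]
    rintro _ ⟨j, hj, rfl⟩
    have := (Subgroup.mem_centralizer_iff.mp hxc) j hj
    show e j * e x = e x * e j
    rw [← map_mul, ← map_mul, this]
  · have : Subgroup.zpowers (e.toMonoidHom x) = (Subgroup.zpowers x).map e.toMonoidHom :=
      (MonoidHom.map_zpowers e.toMonoidHom x).symm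
    rw [this]
    exact h.aut e _ hxX

theorem wSub_map (h : GoodClass 𝔛) (e : G ≃* G) (T : Subgroup G) :
    wSub 𝔛 (T.map e.toMonoidHom) = (wSub 𝔛 T).map e.toMonoidHom := by
  apply le_antisymm _ (wSub_map_le h e T)
  have := wSub_map_le h e.symm (T.map e.toMonoidHom)
  rw [map_symm_map'] at this
  have h2 := Subgroup.map_mono (f := e.toMonoidHom) this
  rwa [map_map_symm'] at h2

theorem normalizer_le_normalizer_wSub (h : GoodClass 𝔛) (T : Subgroup G) :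
    Subgroup.normalizer (T : Set G) ≤ Subgroup.normalizer (wSub 𝔛 T : Set G) := by
  intro g hg
  rw [Subgroup.mem_normalizer_iff_map_conj_eq] at hg ⊢
  have hg' : T.map (MulAut.conj g).toMonoidHom = T := hg
  have := wSub_map h (MulAut.conj g) T
  rw [hg'] at this
  exact this.symm

theorem mem_maxIn_of_le {S T A₀ : Subgroup G} (hA₀ : A₀ ∈ maxIn 𝔛 S) (hA₀T : A₀ ≤ T)
    (hTS : T ≤ S) : A₀ ∈ maxIn 𝔛 T :=
  ⟨hA₀T, hA₀.2.1, fun B' hB' hX => hA₀.2.2 B' (hB'.trans hTS) hX⟩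

theorem maxIn_subset_of_mem {S T A₀ : Subgroup G} (hA₀ : A₀ ∈ maxIn 𝔛 S) (hA₀T : A₀ ≤ T)
    (hTS : T ≤ S) : maxIn 𝔛 T ⊆ maxIn 𝔛 S := by
  intro A hA
  refine ⟨hA.1.trans hTS, hA.2.1, fun B' hB' hX => ?_⟩
  exact (hA₀.2.2 B' hB' hX).trans (hA.2.2 A₀ hA₀T hA₀.2.1)

theorem wSub_le_wSub_of_mem [Finite G] (h : GoodClass 𝔛) {S T A₀ : Subgroup G}
    (hA₀ : A₀ ∈ maxIn 𝔛 S) (hA₀T : A₀ ≤ T) (hTS : T ≤ S) : wSub 𝔛 S ≤ wSub 𝔛 T := by
  have hJ : jSub 𝔛 T ≤ jSub 𝔛 S := sSup_le_sSup (maxIn_subset_of_mem hA₀ hA₀T hTS)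
  unfold wSub
  rw [Subgroup.closure_le]
  rintro x ⟨hx, hxc, hxX⟩
  apply Subgroup.subset_closure
  refine ⟨le_jSub (mem_maxIn_of_le hA₀ hA₀T hTS) (gen_mem_of_mem_maxIn h hA₀ hx hxc hxX),
    Subgroup.centralizer_le hJ hxc, hxX⟩

theorem maxIn_eq_of_forall_le [Finite G] (h : GoodClass 𝔛) {S T : Subgroup G}
    (hle : ∀ A ∈ maxIn 𝔛 S, A ≤ T) (hTS : T ≤ S) : maxIn 𝔛 T = maxIn 𝔛 S := by
  obtain ⟨A₀, hA₀⟩ := maxIn_nonempty h S
  apply Set.Subset.antisymm (maxIn_subset_of_mem hA₀ (hle A₀ hA₀) hTS)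
  intro A hA
  exact mem_maxIn_of_le hA (hle A hA) hTS

theorem wSub_eq_of_forall_le [Finite G] (h : GoodClass 𝔛) {S T : Subgroup G}
    (hle : ∀ A ∈ maxIn 𝔛 S, A ≤ T) (hTS : T ≤ S) : wSub 𝔛 T = wSub 𝔛 S := by
  unfold wSub jSub
  rw [maxIn_eq_of_forall_le h hle hTS]

end Cfsg.Agent.Lib.Helper27
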