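import Mathlib
import Cfsg.Prelude.Def_PLocal
import Cfsg.Agent.Lib.Helper27.ZJ1
import Cfsg.Agent.Lib.Helper27.Basic
import Cfsg.Agent.Lib.Helper27.Thompson
import Cfsg.Agent.Lib.Helper12.PComplement

/-!
# Glauberman's ZJ-theorem, generic form
-/

set_option autoImplicit false
open scoped commutatorElement

namespace Cfsg.Agent.Lib.Helper27

section transport

variable {G : Type*} [Group G] [Finite G] {p : ℕ} [Fact p.Prime]

/-- The replacement step inside a `p`-subgroup `S` of a finite group. -/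
theorem replacement_sub (hp : p ≠ 2) (S : Subgroup G) (hS : IsPGroup p S)
    (A B : Subgroup G) (hAS : A ≤ S) (hBS : B ≤ S) (hSB : S ≤ Subgroup.normalizer (B : Set G))
    (hA : AbSub A) (hBA : ⁅B, B⁆ ≤ A) (hnot : ¬ B ≤ Subgroup.normalizer (A : Set G)) :
    ∃ A' : Subgroup G, A' ≤ S ∧ Nat.card A' = Nat.card A ∧ AbSub A' ∧ A ⊓ B < A' ⊓ B ∧
      A' ≤ Subgroup.normalizer (A : Set G) ∧
      (∀ e : ℕ, Odd e → (∀ a ∈ A, a ^ e = 1) → ∀ y ∈ A', y ^ e = 1) := by
  haveI hB₀n : (B.subgroupOf S).Normal := Subgroup.normal_subgroupOf_of_le_normalizer hSB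
  have hA₀ : ∀ x ∈ A.subgroupOf S, ∀ y ∈ A.subgroupOf S, x * y = y * x := by
    intro x hx y hy
    apply Subtype.ext
    exact hA x.1 (Subgroup.mem_subgroupOf.mp hx) y.1 (Subgroup.mem_subgroupOf.mp hy)
  have hBA₀ : ⁅B.subgroupOf S, B.subgroupOf S⁆ ≤ A.subgroupOf S := by
    rw [Subgroup.commutator_le]
    intro x hx y hy
    rw [Subgroup.mem_subgroupOf]
    have : ((⁅x, y⁆ : S) : G) = ⁅(x : G), (y : G)⁆ := by
      simp [commutatorElement_def]
    rw [this]
    exact hBA (Subgroup.commutator_mem_commutator (Subgroup.mem_subgroupOf.mp hx)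
      (Subgroup.mem_subgroupOf.mp hy))
  have hnot₀ : ¬ B.subgroupOf S ≤ Subgroup.normalizer ((A.subgroupOf S : Subgroup S) : Set S) := by
    intro hle
    apply hnot
    intro b hb
    apply Subgroup.mem_normalizer_fintype
    intro a ha
    have hb' : (⟨b, hBS hb⟩ : S) ∈ B.subgroupOf S := Subgroup.mem_subgroupOf.mpr hb
    have := (Subgroup.mem_normalizer_iff.mp (hle hb') ⟨a, hAS ha⟩).mp (Subgroup.mem_subgroupOf.mpr ha)
    exact Subgroup.mem_subgroupOf.mp this
  obtain ⟨A₁, hcard, hab, -, hlt, -, hN, hexp, -⟩ :=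
    replacement_step (S := S) hS hp (A.subgroupOf S) (B.subgroupOf S) hA₀ hBA₀ hnot₀
  refine ⟨A₁.map S.subtype, Subgroup.map_subtype_le A₁, ?_, ?_, ?_, ?_, ?_⟩
  · rw [Subgroup.card_map_of_injective S.subtype_injective, hcard]
    exact Nat.card_congr (Subgroup.subgroupOfEquivOfLe hAS).toEquiv
  · rintro _ ⟨x, hx, rfl⟩ _ ⟨y, hy, rfl⟩
    exact congrArg Subtype.val (hab x hx y hy)
  · have e1 : A ⊓ B = ((A.subgroupOf S) ⊓ (B.subgroupOf S)).map S.subtype := by
      rw [Subgroup.map_inf _ _ _ S.subtype_injective, Subgroup.map_subgroupOf_eq_of_le hAS,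
        Subgroup.map_subgroupOf_eq_of_le hBS]
    have e2 : A₁.map S.subtype ⊓ B = (A₁ ⊓ (B.subgroupOf S)).map S.subtype := by
      rw [Subgroup.map_inf _ _ _ S.subtype_injective, Subgroup.map_subgroupOf_eq_of_le hBS]
    rw [e1, e2, Subgroup.map_subtype_lt_map_subtype]
    exact hlt
  · rintro _ ⟨y, hy, rfl⟩
    apply Subgroup.mem_normalizer_fintype
    intro a ha
    have := (Subgroup.mem_normalizer_iff.mp (hN hy) ⟨a, hAS ha⟩).mp (Subgroup.mem_subgroupOf.mpr ha)
    exact Subgroup.mem_subgroupOf.mp this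
  · intro e he hAe
    rintro _ ⟨y, hy, rfl⟩
    have := hexp e he (fun a ha => Subtype.ext (by
      rw [Subgroup.coe_pow, Subgroup.coe_one]
      exact hAe a.1 (Subgroup.mem_subgroupOf.mp ha))) y hy
    have h2 := congrArg Subtype.val this
    simpa using h2

theorem commutator_lt_of_isPGroup {B : Subgroup G} (hB : IsPGroup p B) (hne : B ≠ ⊥) :
    ⁅B, B⁆ < B := by
  haveI : Group.IsNilpotent B := hB.isNilpotent
  rw [← Subgroup.nontrivial_iff_ne_bot] at hne
  have h1 := Group.IsSolvable.commutator_lt_top_of_nontrivial B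
  rw [← Subgroup.map_subtype_lt_map_subtype, Subgroup.map_subtype_commutator] at h1
  have h2 : (⊤ : Subgroup B).map B.subtype = B := by
    rw [← MonoidHom.range_eq_map, Subgroup.range_subtype]
  rwa [h2] at h1

/-- Frattini argument for `S ⊓ K` with `K` normal. -/
theorem frattini_inf (S : Sylow p G) (K : Subgroup G) [hK : K.Normal] :
    Subgroup.normalizer (((S : Subgroup G) ⊓ K : Subgroup G) : Set G) ⊔ K = ⊤ := by
  have hrel : ¬ p ∣ ((S : Subgroup G) ⊓ K).relIndex K :=
    Cfsg.Agent.Lib.Helper12.sylow_inf_relIndex S ⊤ K le_top le_top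
      (fun h _ k hk => hK.conj_mem k hk h)
  have hP : IsPGroup p (((S : Subgroup G) ⊓ K).subgroupOf K) :=
    (S.isPGroup'.to_le inf_le_left).comap_subtype
  let R : Sylow p K := hP.toSylow hrel
  have hR : ((R : Subgroup K)).map K.subtype = (S : Subgroup G) ⊓ K := by
    show (((S : Subgroup G) ⊓ K).subgroupOf K).map K.subtype = (S : Subgroup G) ⊓ K
    rw [Subgroup.subgroupOf_map_subtype, inf_assoc, inf_idem]
  have := Sylow.normalizer_sup_eq_top R
  rwa [hR] at this

end transport


section kSub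

variable {G : Type*} [Group G]

/-- The preimage of `O_p(G / C_G(B))`. -/
def kSub (p : ℕ) (B : Subgroup G) [B.Normal] : Subgroup G :=
  (Cfsg.pCore p (G ⧸ Subgroup.centralizer (B : Set G))).comap
    (QuotientGroup.mk' (Subgroup.centralizer (B : Set G)))

theorem mem_kSub_iff {p : ℕ} {B : Subgroup G} [B.Normal] {a : G} :
    a ∈ kSub p B ↔ (QuotientGroup.mk a : G ⧸ Subgroup.centralizer (B : Set G)) ∈
      Cfsg.pCore p (G ⧸ Subgroup.centralizer (B : Set G)) := Iff.rfl

instance kSub_normal (p : ℕ) (B : Subgroup G) [B.Normal] : (kSub p B).Normal :=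
  (pCore_normal p _).comap _

theorem centralizer_le_kSub (p : ℕ) (B : Subgroup G) [B.Normal] :
    Subgroup.centralizer (B : Set G) ≤ kSub p B := by
  intro c hc
  rw [mem_kSub_iff]
  have : (QuotientGroup.mk c : G ⧸ Subgroup.centralizer (B : Set G)) = 1 :=
    (QuotientGroup.eq_one_iff c).mpr hc
  rw [this]
  exact Subgroup.one_mem _

variable [Finite G] {p : ℕ} [Fact p.Prime]

theorem kSub_le_sup (S : Sylow p G) (B : Subgroup G) [B.Normal] :
    kSub p B ≤ ((S : Subgroup G) ⊓ kSub p B) ⊔ Subgroup.centralizer (B : Set G) := by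
  intro k hk
  have hsurj : Function.Surjective (QuotientGroup.mk' (Subgroup.centralizer (B : Set G))) :=
    QuotientGroup.mk'_surjective _
  haveI := pCore_normal p (G ⧸ Subgroup.centralizer (B : Set G))
  have hle : Cfsg.pCore p (G ⧸ Subgroup.centralizer (B : Set G)) ≤
      ((S.mapSurjective hsurj : Sylow p (G ⧸ Subgroup.centralizer (B : Set G))) : Subgroup _) :=
    (pCore_isPGroup p _).le_sylow_of_normal _
  have h1 := hle (mem_kSub_iff.mp hk)
  rw [Sylow.coe_mapSurjective] at h1
  obtain ⟨s, hs, hsk⟩ := h1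
  have h2 : s⁻¹ * k ∈ Subgroup.centralizer (B : Set G) := by
    have : (QuotientGroup.mk s : G ⧸ Subgroup.centralizer (B : Set G)) = QuotientGroup.mk k := hsk
    exact QuotientGroup.eq.mp this
  have h3 : s ∈ kSub p B := by
    have : s = k * (s⁻¹ * k)⁻¹ := by group
    rw [this]
    exact Subgroup.mul_mem _ hk (Subgroup.inv_mem _ (centralizer_le_kSub p B h2))
  have : k = s * (s⁻¹ * k) := by group
  rw [this]
  exact Subgroup.mul_mem _ (Subgroup.mem_sup_left ⟨hs, h3⟩) (Subgroup.mem_sup_right h2)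

theorem isPGroup_kSub (B : Subgroup G) [B.Normal]
    (hC : IsPGroup p (Subgroup.centralizer (B : Set G))) : IsPGroup p (kSub p B) := by
  rintro ⟨k, hk⟩
  obtain ⟨n, hn⟩ := (pCore_isPGroup p _) ⟨_, mem_kSub_iff.mp hk⟩
  have hn' : (QuotientGroup.mk (k ^ p ^ n) : G ⧸ Subgroup.centralizer (B : Set G)) = 1 := by
    have := congrArg Subtype.val hn
    simpa using this
  have hkC : k ^ p ^ n ∈ Subgroup.centralizer (B : Set G) := (QuotientGroup.eq_one_iff _).mp hn'
  obtain ⟨m, hm⟩ := hC ⟨_, hkC⟩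
  have hm' : (k ^ p ^ n) ^ p ^ m = 1 := by
    have := congrArg Subtype.val hm
    simpa using this
  refine ⟨n + m, ?_⟩
  apply Subtype.ext
  rw [Subgroup.coe_pow, Subgroup.coe_one]
  show k ^ p ^ (n + m) = 1
  rw [pow_add, pow_mul, hm']

/-- Quadratic action forces membership in `kSub`. -/
theorem le_kSub_of_quadratic (B : Subgroup G) [hBn : B.Normal] (hB : IsPGroup p B)
    (hst : ∀ (P : Subgroup G) [P.Normal], IsPGroup p P → Cfsg.IsPStableOn p P)
    (A : Subgroup G) (hA : AbSub A) (hq : ∀ a ∈ A, ∀ b ∈ B, ⁅b, a⁆ ∈ A) : A ≤ kSub p B := by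
  intro a ha
  rw [mem_kSub_iff]
  apply hst B hB a
  rw [Subgroup.commutator_eq_bot_iff_le_centralizer]
  have h1 : ⁅B, Subgroup.zpowers a⁆ ≤ A := by
    rw [Subgroup.commutator_le]
    intro b hb z hz
    exact hq z ((Subgroup.zpowers_le.mpr ha) hz) b hb
  refine h1.trans ?_
  intro x hx
  rw [Subgroup.mem_centralizer_iff]
  intro z hz
  exact hA z ((Subgroup.zpowers_le.mpr ha) hz) x hx

end kSub


section main

variable {G : Type*} [Group G] [Finite G] {p : ℕ} [Fact p.Prime] {𝔛 : Subgroup G → Prop}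

/-- `W(S ∩ K) ∩ B` is normal in `G` for `K = kSub p B`. -/
theorem wSub_inf_kSub_normal (h𝔛 : GoodClass 𝔛) (S : Sylow p G) (B : Subgroup G) [hBn : B.Normal] :
    (wSub 𝔛 ((S : Subgroup G) ⊓ kSub p B) ⊓ B).Normal := by
  rw [← Subgroup.normalizer_eq_top_iff]
  have hBN : Subgroup.normalizer (B : Set G) = ⊤ := Subgroup.normalizer_eq_top_iff.mpr hBn
  have h1 : Subgroup.normalizer ((((S : Subgroup G) ⊓ kSub p B : Subgroup G)) : Set G) ≤
      Subgroup.normalizer ((wSub 𝔛 ((S : Subgroup G) ⊓ kSub p B) ⊓ B : Subgroup G) : Set G) := by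
    intro n hn
    have hnW := normalizer_le_normalizer_wSub h𝔛 _ hn
    have hnB : n ∈ Subgroup.normalizer (B : Set G) := by rw [hBN]; exact Subgroup.mem_top n
    rw [Subgroup.mem_normalizer_iff] at hnW hnB ⊢
    intro x
    rw [Subgroup.mem_inf, Subgroup.mem_inf, ← hnW x, ← hnB x]
  have h2 : Subgroup.centralizer (B : Set G) ≤
      Subgroup.normalizer ((wSub 𝔛 ((S : Subgroup G) ⊓ kSub p B) ⊓ B : Subgroup G) : Set G) := by
    apply GlaubRepl.Hyp.le_normalizer_of_conj_mem
    intro c hc x hx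
    have hcx := (Subgroup.mem_centralizer_iff.mp hc) x hx.2
    have : c * x * c⁻¹ = x := by
      calc c * x * c⁻¹ = (x * c) * c⁻¹ := by rw [hcx]
        _ = x := by group
    rw [this]; exact hx
  have h3 : (Subgroup.normalizer ((((S : Subgroup G) ⊓ kSub p B : Subgroup G)) : Set G)) ⊔
      Subgroup.centralizer (B : Set G) = ⊤ := by
    have hF := frattini_inf S (kSub p B)
    rw [eq_top_iff, ← hF]
    apply sup_le le_sup_left
    refine (kSub_le_sup S B).trans (sup_le ?_ le_sup_right)
    exact Subgroup.le_normalizer.trans le_sup_left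
  rw [eq_top_iff, ← h3]
  exact sup_le h1 h2

/-- The replacement hypothesis used in the generic ZJ-theorem. -/
def ReplHyp (𝔛 : Subgroup G → Prop) (S : Subgroup G) : Prop :=
  ∀ A ∈ maxIn 𝔛 S, ∀ B : Subgroup G, B ≤ S → S ≤ Subgroup.normalizer (B : Set G) → ⁅B, B⁆ ≤ A →
    ¬ B ≤ Subgroup.normalizer (A : Set G) →
    ∃ A' ∈ maxIn 𝔛 S, A ⊓ B < A' ⊓ B ∧ A' ≤ Subgroup.normalizer (A : Set G)

theorem wSub_inf_normal (h𝔛 : GoodClass 𝔛) (S : Sylow p G) (GR : ReplHyp 𝔛 (S : Subgroup G))
    (hst : ∀ (P : Subgroup G) [P.Normal], IsPGroup p P → Cfsg.IsPStableOn p P) :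
    ∀ (n : ℕ) (B : Subgroup G) [B.Normal], IsPGroup p B → Nat.card B ≤ n →
      (wSub 𝔛 (S : Subgroup G) ⊓ B).Normal := by
  classical
  intro n
  induction n with
  | zero =>
    intro B _ _ hcard
    have := Nat.card_pos (α := B)
    omega
  | succ n ih =>
    intro B hBn hB hcard
    have hBS : B ≤ (S : Subgroup G) := hB.le_sylow_of_normal S
    have hSNW : (S : Subgroup G) ≤ Subgroup.normalizer (wSub 𝔛 (S : Subgroup G) : Set G) :=
      Subgroup.le_normalizer.trans (normalizer_le_normalizer_wSub h𝔛 _)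
    -- B₁ = normal closure of X
    have hB₁le : Subgroup.normalClosure ((wSub 𝔛 (S : Subgroup G) ⊓ B : Subgroup G) : Set G) ≤ B :=
      Subgroup.normalClosure_le_normal (fun x hx => hx.2)
    have hXB₁ : wSub 𝔛 (S : Subgroup G) ⊓ B ≤
        Subgroup.normalClosure ((wSub 𝔛 (S : Subgroup G) ⊓ B : Subgroup G) : Set G) :=
      Subgroup.subset_normalClosure
    by_cases hB₁ : Subgroup.normalClosure ((wSub 𝔛 (S : Subgroup G) ⊓ B : Subgroup G) : Set G) = B
    swap
    · -- proper normal closure: use induction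
      have hlt : Nat.card ↥(Subgroup.normalClosure
          ((wSub 𝔛 (S : Subgroup G) ⊓ B : Subgroup G) : Set G)) < Nat.card B := by
        by_contra hge
        push Not at hge
        exact hB₁ (Subgroup.eq_of_le_of_card_ge hB₁le hge)
      have hN := ih (Subgroup.normalClosure ((wSub 𝔛 (S : Subgroup G) ⊓ B : Subgroup G) : Set G))
        (hB.to_le hB₁le) (by omega)
      have heq : wSub 𝔛 (S : Subgroup G) ⊓ B = wSub 𝔛 (S : Subgroup G) ⊓
          Subgroup.normalClosure ((wSub 𝔛 (S : Subgroup G) ⊓ B : Subgroup G) : Set G) :=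
        le_antisymm (le_inf inf_le_left hXB₁) (inf_le_inf_left _ hB₁le)
      rw [heq]; exact hN
    · by_cases hBbot : B = ⊥
      · rw [hBbot, inf_bot_eq]; infer_instance
      · -- B' = [B,B] < B
        have hB'lt : ⁅B, B⁆ < B := commutator_lt_of_isPGroup hB hBbot
        have hB'card : Nat.card ↥⁅B, B⁆ ≤ n := by
          have : Nat.card ↥⁅B, B⁆ < Nat.card B := by
            by_contra hge
            push Not at hge
            exact hB'lt.ne (Subgroup.eq_of_le_of_card_ge hB'lt.le hge)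
          omega
        have hY : (wSub 𝔛 (S : Subgroup G) ⊓ ⁅B, B⁆).Normal :=
          ih ⁅B, B⁆ (hB.to_le hB'lt.le) hB'card
        -- Claim 1/2: [B,B] ≤ Y
        have hBBY : ⁅B, B⁆ ≤ wSub 𝔛 (S : Subgroup G) ⊓ ⁅B, B⁆ := by
          -- H = {g | ∀ v ∈ B, ⁅g,v⁆ ∈ Y} is a normal subgroup containing X
          let H : Subgroup G :=
            { carrier := {g | ∀ v ∈ B, ⁅g, v⁆ ∈ wSub 𝔛 (S : Subgroup G) ⊓ ⁅B, B⁆}
              one_mem' := by
                intro v _
                rw [commutatorElement_one_left]; exact Subgroup.one_mem _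
              mul_mem' := by
                intro g k hg hk v hv
                have h1 : ⁅g * k, v⁆ = g * ⁅k, v⁆ * g⁻¹ * ⁅g, v⁆ := by
                  simp only [commutatorElement_def]; group
                rw [h1]
                exact Subgroup.mul_mem _ (hY.conj_mem _ (hk v hv) g) (hg v hv)
              inv_mem' := by
                intro g hg v hv
                have h1 : ⁅g⁻¹, v⁆ = g⁻¹ * ⁅g, v⁆⁻¹ * g⁻¹⁻¹ := by
                  simp only [commutatorElement_def]; group
                rw [h1]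
                exact hY.conj_mem _ (Subgroup.inv_mem _ (hg v hv)) g⁻¹ }
          have hHn : H.Normal := by
            refine ⟨fun g hg t v hv => ?_⟩
            have h1 : ⁅t * g * t⁻¹, v⁆ = t * ⁅g, t⁻¹ * v * t⁻¹⁻¹⁆ * t⁻¹ := by
              simp only [commutatorElement_def]; group
            rw [h1]
            exact hY.conj_mem _ (hg _ (hBn.conj_mem v hv t⁻¹)) t
          have hXH : ((wSub 𝔛 (S : Subgroup G) ⊓ B : Subgroup G) : Set G) ⊆ H := by
            intro x hx v hv
            refine ⟨?_, Subgroup.commutator_mem_commutator hx.2 hv⟩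
            have hvN := hSNW (hBS hv)
            have h1 : ⁅x, v⁆ = x * (v * x⁻¹ * v⁻¹) := by
              simp only [commutatorElement_def]; group
            rw [h1]
            exact Subgroup.mul_mem _ hx.1
              ((Subgroup.mem_normalizer_iff.mp hvN x⁻¹).mp (Subgroup.inv_mem _ hx.1))
          have hBH : B ≤ H := by
            rw [← hB₁]
            exact Subgroup.normalClosure_le_normal hXH
          rw [Subgroup.commutator_le]
          intro g hg v hv
          exact hBH hg v hv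
        have hBBW : ⁅B, B⁆ ≤ wSub 𝔛 (S : Subgroup G) := hBBY.trans inf_le_left
        -- Claim 4
        have hSB : (S : Subgroup G) ≤ Subgroup.normalizer (B : Set G) := by
          rw [Subgroup.normalizer_eq_top_iff.mpr hBn]; exact le_top
        have hall : ∀ A ∈ maxIn 𝔛 (S : Subgroup G), A ≤ kSub p B := by
          by_contra hcon
          push Not at hcon
          have hfin : {A : Subgroup G | A ∈ maxIn 𝔛 (S : Subgroup G) ∧ ¬ A ≤ kSub p B}.Finite :=
            Set.toFinite _
          obtain ⟨A₀, hA₀⟩ := hcon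
          obtain ⟨A, hA, hmax⟩ := Set.exists_max_image _
            (fun A : Subgroup G => Nat.card ↥(A ⊓ B)) hfin ⟨A₀, hA₀⟩
          have hAab : AbSub A := h𝔛.ab A hA.1.2.1
          have hnotN : ¬ B ≤ Subgroup.normalizer (A : Set G) := by
            intro hle
            apply hA.2
            apply le_kSub_of_quadratic B hB hst A hAab
            intro a ha b hb
            have h1 : ⁅b, a⁆ = (b * a * b⁻¹) * a⁻¹ := by simp only [commutatorElement_def]
            rw [h1]
            exact A.mul_mem ((Subgroup.mem_normalizer_iff.mp (hle hb) a).mp ha) (A.inv_mem ha)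
          obtain ⟨A', hA', hlt, hA'N⟩ := GR A hA.1 B hBS hSB
            (hBBW.trans (wSub_le_of_mem_maxIn h𝔛 hA.1)) hnotN
          have hA'K : A' ≤ kSub p B := by
            by_contra hnK
            have := hmax A' ⟨hA', hnK⟩
            exact hlt.ne (Subgroup.eq_of_le_of_card_ge hlt.le this)
          have hA'T : A' ≤ (S : Subgroup G) ⊓ kSub p B := le_inf hA'.1 hA'K
          have hWW : wSub 𝔛 (S : Subgroup G) ≤ wSub 𝔛 ((S : Subgroup G) ⊓ kSub p B) :=
            wSub_le_wSub_of_mem h𝔛 hA' hA'T inf_le_left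
          have hNT := wSub_inf_kSub_normal h𝔛 S B
          have hBle : B ≤ wSub 𝔛 ((S : Subgroup G) ⊓ kSub p B) ⊓ B := by
            have hcl : Subgroup.normalClosure
                ((wSub 𝔛 (S : Subgroup G) ⊓ B : Subgroup G) : Set G) ≤
                wSub 𝔛 ((S : Subgroup G) ⊓ kSub p B) ⊓ B := by
              apply Subgroup.normalClosure_le_normal
              intro x hx
              exact ⟨hWW hx.1, hx.2⟩
            exact (le_of_eq hB₁.symm).trans hcl
          have hBA' : B ≤ A' :=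
            (hBle.trans inf_le_left).trans
              (wSub_le_of_mem_maxIn h𝔛 (mem_maxIn_of_le hA' hA'T inf_le_left))
          apply hA.2
          apply le_kSub_of_quadratic B hB hst A hAab
          intro a ha b hb
          have h1 : ⁅b, a⁆ = (b * a * b⁻¹) * a⁻¹ := by simp only [commutatorElement_def]
          rw [h1]
          exact A.mul_mem ((Subgroup.mem_normalizer_iff.mp (hA'N (hBA' hb)) a).mp ha)
            (A.inv_mem ha)
        -- Claim 5
        have hWeq : wSub 𝔛 ((S : Subgroup G) ⊓ kSub p B) = wSub 𝔛 (S : Subgroup G) :=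
          wSub_eq_of_forall_le h𝔛 (fun A hA => le_inf hA.1 (hall A hA)) inf_le_left
        rw [← hWeq]
        exact wSub_inf_kSub_normal h𝔛 S B

/-- Generic ZJ-theorem: `W_𝔛(S)` is normal. -/
theorem wSub_normal (h𝔛 : GoodClass 𝔛) (S : Sylow p G) (GR : ReplHyp 𝔛 (S : Subgroup G))
    (hc : Subgroup.centralizer (Cfsg.pCore p G : Set G) ≤ Cfsg.pCore p G)
    (hst : ∀ (P : Subgroup G) [P.Normal], IsPGroup p P → Cfsg.IsPStableOn p P) :
    (wSub 𝔛 (S : Subgroup G)).Normal := by
  haveI hOn : (Cfsg.pCore p G).Normal := pCore_normal p G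
  have hO : IsPGroup p (Cfsg.pCore p G) := pCore_isPGroup p G
  have hOS : Cfsg.pCore p G ≤ (S : Subgroup G) := hO.le_sylow_of_normal S
  have hSNW : (S : Subgroup G) ≤ Subgroup.normalizer (wSub 𝔛 (S : Subgroup G) : Set G) :=
    Subgroup.le_normalizer.trans (normalizer_le_normalizer_wSub h𝔛 _)
  have h1 : wSub 𝔛 (S : Subgroup G) ≤ kSub p (Cfsg.pCore p G) := by
    apply le_kSub_of_quadratic (Cfsg.pCore p G) hO hst _ (abSub_wSub h𝔛 _)
    intro a ha b hb
    have h1 : ⁅b, a⁆ = (b * a * b⁻¹) * a⁻¹ := by simp only [commutatorElement_def]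
    rw [h1]
    exact Subgroup.mul_mem _ ((Subgroup.mem_normalizer_iff.mp (hSNW (hOS hb)) a).mp ha)
      (Subgroup.inv_mem _ ha)
  have h2 : kSub p (Cfsg.pCore p G) ≤ Cfsg.pCore p G :=
    le_pCore (kSub_normal p _) (isPGroup_kSub _ (hO.to_le hc))
  have h3 := wSub_inf_normal h𝔛 S GR hst (Nat.card (Cfsg.pCore p G)) (Cfsg.pCore p G) hO le_rfl
  rwa [inf_eq_left.mpr (h1.trans h2)] at h3

/-- Generic ZJ-theorem: `W_𝔛(S)` is characteristic. -/
theorem wSub_characteristic (h𝔛 : GoodClass 𝔛) (S : Sylow p G)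
    (GR : ReplHyp 𝔛 (S : Subgroup G))
    (hc : Subgroup.centralizer (Cfsg.pCore p G : Set G) ≤ Cfsg.pCore p G)
    (hst : ∀ (P : Subgroup G) [P.Normal], IsPGroup p P → Cfsg.IsPStableOn p P) :
    (wSub 𝔛 (S : Subgroup G)).Characteristic := by
  have hN := wSub_normal h𝔛 S GR hc hst
  rw [Subgroup.characteristic_iff_map_le]
  intro e
  rw [← wSub_map h𝔛 e]
  have hS' : (S : Subgroup G).map e.toMonoidHom =
      ((S.mapSurjective (f := e.toMonoidHom) e.surjective : Sylow p G) : Subgroup G) := rfl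
  obtain ⟨g, hg⟩ := MulAction.exists_smul_eq G S
    (S.mapSurjective (f := e.toMonoidHom) e.surjective)
  rw [hS', ← hg, sylow_smul_eq_map, wSub_map h𝔛 (MulAut.conj g)]
  have hgN : g ∈ Subgroup.normalizer (wSub 𝔛 (S : Subgroup G) : Set G) := by
    rw [Subgroup.normalizer_eq_top_iff.mpr hN]; exact Subgroup.mem_top g
  rw [Subgroup.mem_normalizer_iff_map_conj_eq] at hgN
  exact le_of_eq hgN

end main

end Cfsg.Agent.Lib.Helper27
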