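import Mathlib
import Cfsg.Prelude.Def_PLocal
import Cfsg.Agent.Lib.Helper27.ZJ2
import Cfsg.Agent.Lib.Helper27.Thompson
import Cfsg.Agent.Lib.Helper4.ElemAb

/-!
# Glauberman's ZJ-theorem: the abelian and the elementary abelian versions
-/

set_option autoImplicit false
open scoped commutatorElement

namespace Cfsg.Agent.Lib.Helper27

section classes

variable {G : Type*} [Group G]

theorem abSub_sup {A C : Subgroup G} (hA : AbSub A) (hC : AbSub C)
    (h : ∀ a ∈ A, ∀ c ∈ C, a * c = c * a) : AbSub (A ⊔ C) := by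
  have h1 : A ⊔ C ≤ Subgroup.centralizer (A : Set G) := by
    apply sup_le
    · intro a ha
      rw [Subgroup.mem_centralizer_iff]
      intro a' ha'
      exact hA a' ha' a ha
    · intro c hc
      rw [Subgroup.mem_centralizer_iff]
      intro a ha
      exact h a ha c hc
  have h2 : A ⊔ C ≤ Subgroup.centralizer (C : Set G) := by
    apply sup_le
    · intro a ha
      rw [Subgroup.mem_centralizer_iff]
      intro c hc
      exact (h a ha c hc).symm
    · intro c hc
      rw [Subgroup.mem_centralizer_iff]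
      intro c' hc'
      exact hC c' hc' c hc
  have h3 : A ⊔ C ≤ Subgroup.centralizer ((A ⊔ C : Subgroup G) : Set G) :=
    sup_le (Subgroup.le_centralizer_iff.mp h1) (Subgroup.le_centralizer_iff.mp h2)
  intro u hu v hv
  exact (Subgroup.mem_centralizer_iff.mp (h3 hv)) u hu

theorem abSub_zpowers (x : G) : AbSub (Subgroup.zpowers x) := by
  intro a ha b hb
  obtain ⟨k, rfl⟩ := Subgroup.mem_zpowers_iff.mp ha
  obtain ⟨l, rfl⟩ := Subgroup.mem_zpowers_iff.mp hb
  rw [← zpow_add, ← zpow_add, add_comm]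

theorem goodClass_abSub : GoodClass (AbSub : Subgroup G → Prop) where
  ab := fun _ h => h
  aut := by
    rintro e A hA _ ⟨x, hx, rfl⟩ _ ⟨y, hy, rfl⟩
    show e x * e y = e y * e x
    rw [← map_mul, ← map_mul, hA x hx y hy]
  bot := by
    intro x hx y hy
    rw [Subgroup.mem_bot.mp hx, Subgroup.mem_bot.mp hy]
  join := fun A x hA hx hcx => abSub_sup hA hx (fun a ha c hc => by
    obtain ⟨k, rfl⟩ := Subgroup.mem_zpowers_iff.mp hc
    have hc' : Commute a x := hcx a ha
    exact (hc'.zpow_right k).eq)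


theorem goodClass_ea (p : ℕ) : GoodClass (Cfsg.IsElementaryAbelian p : Subgroup G → Prop) where
  ab := fun A h => (abSub_iff A).mpr h.1
  aut := fun e A hA => isElementaryAbelian_map_equiv e hA
  bot := isElementaryAbelian_bot p
  join := fun A x hA hx hcx => Cfsg.Agent.Lib.Helper4.elemAb_sup hA hx (fun a ha c hc => by
    obtain ⟨k, rfl⟩ := Subgroup.mem_zpowers_iff.mp hc
    have hc' : Commute a x := hcx a ha
    exact (hc'.zpow_right k).eq)

theorem maxEAIn_eq (p : ℕ) (P : Subgroup G) : maxEAIn p P = maxIn (Cfsg.IsElementaryAbelian p) P := rfl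

/-- `J(P)` (abelian version) is the generic `J`. -/
theorem thompsonSubgroupAOf_eq (P : Subgroup G) : Cfsg.thompsonSubgroupAOf P = jSub AbSub P := by
  unfold Cfsg.thompsonSubgroupAOf Cfsg.thompsonSubgroupA jSub
  rw [(Subgroup.gc_map_comap P.subtype).l_sSup, ← image_max_eq P (fun A => IsMulCommutative A)
    AbSub (abSub_map_subtype P), sSup_image]
  rfl

/-- `Z(J(P))` (abelian version) is the generic `W`. -/
theorem centerThompsonAOf_eq (P : Subgroup G) : Cfsg.centerThompsonAOf P = wSub AbSub P := by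
  unfold Cfsg.centerThompsonAOf wSub
  rw [thompsonSubgroupAOf_eq]
  have : {x | x ∈ jSub AbSub P ∧ x ∈ Subgroup.centralizer (jSub AbSub P : Set G) ∧
      AbSub (Subgroup.zpowers x)} =
      ((jSub AbSub P ⊓ Subgroup.centralizer (jSub AbSub P : Set G) : Subgroup G) : Set G) := by
    ext x
    simp only [Set.mem_setOf_eq, SetLike.mem_coe, Subgroup.mem_inf]
    constructor
    · rintro ⟨h1, h2, -⟩; exact ⟨h1, h2⟩
    · rintro ⟨h1, h2⟩; exact ⟨h1, h2, abSub_zpowers x⟩
  rw [this, Subgroup.closure_eq]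

theorem thompsonSubgroupOf_eq_jSub (p : ℕ) (P : Subgroup G) :
    Cfsg.thompsonSubgroupOf p P = jSub (Cfsg.IsElementaryAbelian p) P :=
  thompsonSubgroupOf_eq p P

/-- `Ω₁(Z(J_e(P)))` mapped into `G` is the generic `W` for the elementary abelian class. -/
theorem omegaCenterThompson_map_eq (p : ℕ) (P : Subgroup G) :
    (Cfsg.omegaCenterThompson p ↥P).map P.subtype = wSub (Cfsg.IsElementaryAbelian p) P := by
  unfold Cfsg.omegaCenterThompson Cfsg.omegaOne wSub
  rw [MonoidHom.map_closure]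
  congr 1
  have hJ : jSub (Cfsg.IsElementaryAbelian p) P = (Cfsg.thompsonSubgroup p ↥P).map P.subtype :=
    (thompsonSubgroupOf_eq_jSub p P).symm
  rw [hJ]
  ext y
  constructor
  · rintro ⟨x, ⟨⟨hxJ, hxC⟩, hxp⟩, rfl⟩
    refine ⟨Subgroup.mem_map_of_mem _ hxJ, ?_, ?_⟩
    · rw [Subgroup.mem_centralizer_iff]
      rintro _ ⟨j, hj, rfl⟩
      have := (Subgroup.mem_centralizer_iff.mp hxC) j hj
      exact congrArg Subtype.val this
    · apply Cfsg.Agent.Lib.Helper4.elemAb_zpowers
      have := congrArg Subtype.val hxp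
      simpa using this
  · rintro ⟨⟨x, hxJ, rfl⟩, hyC, hyE⟩
    refine ⟨x, ⟨⟨hxJ, ?_⟩, ?_⟩, rfl⟩
    · show x ∈ Subgroup.centralizer ((Cfsg.thompsonSubgroup p ↥P : Subgroup P) : Set P)
      rw [Subgroup.mem_centralizer_iff]
      intro j hj
      apply Subtype.ext
      exact (Subgroup.mem_centralizer_iff.mp hyC) _ (Subgroup.mem_map_of_mem _ hj)
    · apply Subtype.ext
      have := hyE.2 _ (Subgroup.mem_zpowers (P.subtype x))
      simpa using this

end classes

section repl

variable {G : Type*} [Group G] [Finite G] {p : ℕ} [Fact p.Prime]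

theorem replHyp_abSub (hp : p ≠ 2) (S : Subgroup G) (hS : IsPGroup p S) : ReplHyp AbSub S := by
  intro A hA B hBS hSB hBA hnot
  obtain ⟨A', hA'S, hcard, hab, hlt, hN, -⟩ :=
    replacement_sub hp S hS A B hA.1 hBS hSB hA.2.1 hBA hnot
  refine ⟨A', ⟨hA'S, hab, fun B' hB' hX => ?_⟩, hlt, hN⟩
  rw [hcard]
  exact hA.2.2 B' hB' hX

theorem replHyp_ea (hp : p ≠ 2) (S : Subgroup G) (hS : IsPGroup p S) :
    ReplHyp (Cfsg.IsElementaryAbelian p) S := by
  intro A hA B hBS hSB hBA hnot
  have hpp := (Fact.out : p.Prime)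
  obtain ⟨A', hA'S, hcard, hab, hlt, hN, hexp⟩ :=
    replacement_sub hp S hS A B hA.1 hBS hSB ((abSub_iff A).mpr hA.2.1.1) hBA hnot
  refine ⟨A', ⟨hA'S, ⟨(abSub_iff A').mp hab, hexp p (hpp.odd_of_ne_two hp) hA.2.1.2⟩,
    fun B' hB' hX => ?_⟩, hlt, hN⟩
  rw [hcard]
  exact hA.2.2 B' hB' hX

end repl

end Cfsg.Agent.Lib.Helper27
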