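import Mathlib
import Cfsg.Prelude.Def_PLocal
import Cfsg.Agent.Lib.Helper29.QuadPairPStable
import Cfsg.Agent.Lib.Helper12.Cores
import Cfsg.Agent.Lib.Helper17.WStable
import Cfsg.Agent.Lib.Helper1.Commutator

/-!
# `p`-stability of groups of odd order on arbitrary normal `p`-subgroups (helper27)

Built on helper29's `QuadCore` machinery (`quadCore_of_comm_sylow_two`): a group with `QuadCore`
acts `p`-stably on every normal `p`-subgroup (not only the elementary abelian ones), by induction
along the Frattini series.
-/

set_option autoImplicit false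
set_option linter.style.haveILetI false
set_option linter.unusedSectionVars false

namespace Cfsg.Agent.Lib.Helper27.OddStable

open Subgroup
open scoped commutatorElement
open Cfsg.Agent.Lib.Helper29.QuadPair

universe u

variable {p : ℕ} [hpF : Fact p.Prime] {G : Type u} [Group G]

/-- groups of odd order have `QuadCore` for odd `p`. -/
theorem quadCore_of_odd [Finite G] (hp : p ≠ 2) (hodd : Odd (Nat.card G)) : QuadCore p G := by
  haveI : Fact (Nat.Prime 2) := ⟨Nat.prime_two⟩
  apply quadCore_of_comm_sylow_two hp G
  intro T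
  have h1 : Nat.card T = 1 := by
    obtain ⟨k, hk⟩ := IsPGroup.iff_card.mp T.2
    have hdvd : Nat.card T ∣ Nat.card G := Subgroup.card_subgroup_dvd_card _
    rcases Nat.eq_zero_or_pos k with rfl | hk0
    · simpa using hk
    · exfalso
      have h2 : 2 ∣ Nat.card G := by
        have : 2 ∣ Nat.card T := by rw [hk]; exact dvd_pow_self 2 hk0.ne'
        exact this.trans hdvd
      exact (Nat.not_even_iff_odd.mpr hodd) (even_iff_two_dvd.mpr h2)
  haveI : Subsingleton T := (Nat.card_eq_one_iff_unique.mp h1).1
  exact ⟨⟨fun a b => Subsingleton.elim _ _⟩⟩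

/-- an element centralizing `N` and acting trivially on `P/N` has `|N|`-th power centralizing `P`. -/
theorem pow_card_mem_centralizer [Finite G] (P N : Subgroup G) (c : G)
    (hcN : c ∈ centralizer (N : Set G)) (hcP : ∀ x ∈ P, ⁅x, c⁆ ∈ N) :
    c ^ Nat.card N ∈ centralizer (P : Set G) := by
  rw [mem_centralizer_iff]
  intro x hx
  have hz := hcP x hx
  set z := ⁅x, c⁆ with hzdef
  have hcz : Commute z c := (mem_centralizer_iff.mp hcN) z hz
  have h1 : x * c * x⁻¹ = z * c := by rw [hzdef, commutatorElement_def]; group
  have h2 : x * c ^ Nat.card N * x⁻¹ = c ^ Nat.card N := by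
    have hzN : z ^ Nat.card N = 1 := by
      have h0 := pow_card_eq_one' (G := N) (x := ⟨z, hz⟩)
      have h := congrArg (fun y : N => (y : G)) h0
      simp only [Subgroup.coe_pow, Subgroup.coe_one] at h
      exact h
    calc x * c ^ Nat.card N * x⁻¹ = (x * c * x⁻¹) ^ Nat.card N := by rw [conj_pow]
      _ = (z * c) ^ Nat.card N := by rw [h1]
      _ = z ^ Nat.card N * c ^ Nat.card N := hcz.mul_pow _
      _ = c ^ Nat.card N := by rw [hzN, one_mul]
  calc x * c ^ Nat.card N = (x * c ^ Nat.card N * x⁻¹) * x := by group
    _ = c ^ Nat.card N * x := by rw [h2]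

/-- the Frattini subgroup of a normal subgroup, viewed in `G`, is normal. -/
theorem frattini_map_normal (P : Subgroup G) [hP : P.Normal] :
    ((frattini ↥P).map P.subtype).Normal := by
  rw [← normalizer_eq_top_iff, eq_top_iff]
  refine le_trans ?_
    (Cfsg.Agent.Lib.Helper1.normalizer_le_normalizer_map_subtype_of_characteristic P (frattini ↥P))
  rw [normalizer_eq_top_iff.mpr hP]

theorem isPStableOn_of_quadCore_pGroup_aux [Finite G] (hQ : QuadCore p G) :
    ∀ (n : ℕ) (P : Subgroup G) [P.Normal], IsPGroup p P → Nat.card P ≤ n →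
      Cfsg.IsPStableOn p P := by
  intro n
  induction n with
  | zero =>
    intro P _ _ hc
    have := Nat.card_pos (α := P)
    omega
  | succ n ih =>
    intro P hPn hP hcard a ha
    by_cases hbot : P = ⊥
    · have hmem : a ∈ centralizer (P : Set G) := by
        rw [mem_centralizer_iff]
        intro x hx
        rw [SetLike.mem_coe, hbot, mem_bot] at hx
        rw [hx, one_mul, mul_one]
      rw [(QuotientGroup.eq_one_iff a).mpr hmem]
      exact one_mem _
    · set N : Subgroup G := (frattini ↥P).map P.subtype with hN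
      have hNP : N ≤ P := map_subtype_le _
      haveI hNn : N.Normal := frattini_map_normal P
      have hNp : IsPGroup p N := hP.to_le hNP
      haveI : Nontrivial ↥P := (Subgroup.nontrivial_iff_ne_bot P).mpr hbot
      have hfrat_ne : frattini ↥P ≠ ⊤ := by
        intro h
        have h1 := frattini_nongenerating (G := ↥P) (K := ⊥) (by rw [h]; simp)
        exact bot_ne_top h1
      have hlt : Nat.card N < Nat.card P := by
        have h1 : Nat.card N = Nat.card (frattini ↥P) :=
          Nat.card_congr ((frattini ↥P).equivMapOfInjective P.subtype P.subtype_injective).symm.toEquiv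
        rw [h1]
        by_contra hge
        push Not at hge
        exact hfrat_ne (Subgroup.eq_top_of_le_card _ hge)
      have hNcard : Nat.card N ≤ n := by omega
      have hquadN : ⁅⁅N, zpowers a⁆, zpowers a⁆ = ⊥ := by
        rw [eq_bot_iff, ← ha]
        exact commutator_mono (commutator_mono hNP le_rfl) le_rfl
      have h1 := ih N hNp hNcard a hquadN
      have hsec : Cfsg.IsPStableOnSection p P N := by
        apply isPStableOnSection_of_quadCore hQ P N
        · intro x hx y hy
          refine ⟨⁅(⟨x, hx⟩ : P), ⟨y, hy⟩⁆, ?_, rfl⟩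
          apply Cfsg.Agent.Lib.Helper1.IsPGroup.commutator_le_frattini hP
          rw [_root_.commutator_def]
          exact commutator_mem_commutator (mem_top _) (mem_top _)
        · intro x hx
          exact ⟨(⟨x, hx⟩ : P) ^ p, Cfsg.Agent.Lib.Helper1.IsPGroup.pow_mem_frattini hP _, rfl⟩
      obtain ⟨D₂, hD₂n, hKD₂, ⟨k, hk⟩, haD₂⟩ := hsec a (by rw [ha]; exact bot_le)
      set D₁ : Subgroup G :=
        (Cfsg.pCore p (G ⧸ centralizer (N : Set G))).comap (QuotientGroup.mk' _) with hD₁
      haveI hD₁n : D₁.Normal :=
        (Cfsg.Agent.Lib.Helper1.pCore_normal p (G ⧸ centralizer (N : Set G))).comap _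
      have haD₁ : a ∈ D₁ := h1
      -- powers
      have hpow₁ : ∀ d ∈ D₁, ∃ j : ℕ, d ^ p ^ j ∈ centralizer (N : Set G) := by
        intro d hd
        have hd' : (QuotientGroup.mk' (centralizer (N : Set G)) d) ∈
            Cfsg.pCore p (G ⧸ centralizer (N : Set G)) := hd
        obtain ⟨j, hj⟩ := (Cfsg.Agent.Lib.Helper1.pCore_isPGroup p
          (G ⧸ centralizer (N : Set G))) ⟨_, hd'⟩
        refine ⟨j, ?_⟩
        have hj' := congrArg Subtype.val hj
        simp only [Subgroup.coe_pow, Subgroup.coe_one] at hj'
        rw [← map_pow] at hj'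
        exact (QuotientGroup.eq_one_iff _).mp hj'
      have hpow₂ : ∀ d ∈ D₂, d ^ p ^ k ∈ Cfsg.sectionKernel P N := by
        intro d hd
        haveI : ((Cfsg.sectionKernel P N).subgroupOf D₂).Normal := by
          haveI : (Cfsg.sectionKernel P N).Normal := by
            unfold Cfsg.sectionKernel; infer_instance
          infer_instance
        have := Subgroup.pow_index_mem ((Cfsg.sectionKernel P N).subgroupOf D₂) (⟨d, hd⟩ : D₂)
        rw [show ((Cfsg.sectionKernel P N).subgroupOf D₂).index = p ^ k from hk] at this
        exact this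
      set D : Subgroup G := D₁ ⊓ D₂ with hD
      haveI hDn : D.Normal := by
        haveI := hD₂n
        infer_instance
      have hpow : ∀ d ∈ D, ∃ j : ℕ, d ^ p ^ j ∈ centralizer (P : Set G) := by
        intro d hd
        obtain ⟨j, hj⟩ := hpow₁ d hd.1
        have hk' := hpow₂ d hd.2
        obtain ⟨t, ht⟩ := IsPGroup.iff_card.mp hNp
        refine ⟨j + k + t, ?_⟩
        have e : d ^ p ^ (j + k + t) = (d ^ p ^ (j + k)) ^ Nat.card N := by
          rw [ht, ← pow_mul, ← pow_add]
        rw [e]
        apply pow_card_mem_centralizer P N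
        · have : d ^ p ^ (j + k) = (d ^ p ^ j) ^ p ^ k := by rw [← pow_mul, ← pow_add]
          rw [this]
          exact Subgroup.pow_mem _ hj _
        · have : d ^ p ^ (j + k) = (d ^ p ^ k) ^ p ^ j := by
            rw [← pow_mul, ← pow_add, add_comm]
          rw [this]
          have h3 : (d ^ p ^ k) ^ p ^ j ∈ Cfsg.sectionKernel P N := Subgroup.pow_mem _ hk' _
          exact (Cfsg.Agent.Lib.Helper17.mem_sectionKernel_iff P N _).mp h3
      have hmapn : (D.map (QuotientGroup.mk' (centralizer (P : Set G)))).Normal :=
        hDn.map _ (QuotientGroup.mk'_surjective _)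
      have hmapp : IsPGroup p (D.map (QuotientGroup.mk' (centralizer (P : Set G)))) := by
        rintro ⟨_, d, hd, rfl⟩
        obtain ⟨j, hj⟩ := hpow d hd
        refine ⟨j, Subtype.ext ?_⟩
        simp only [Subgroup.coe_pow, Subgroup.coe_one]
        rw [← map_pow]
        exact (QuotientGroup.eq_one_iff _).mpr hj
      exact Cfsg.Agent.Lib.Helper12.le_pCore' p _ hmapn hmapp
        (Subgroup.mem_map_of_mem _ ⟨haD₁, haD₂⟩)

/-- **`QuadCore` groups act `p`-stably on every normal `p`-subgroup.** -/
theorem isPStableOn_of_quadCore_pGroup [Finite G] (hQ : QuadCore p G) (P : Subgroup G) [P.Normal]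
    (hP : IsPGroup p P) : Cfsg.IsPStableOn p P :=
  isPStableOn_of_quadCore_pGroup_aux hQ (Nat.card P) P hP le_rfl

/-- **Groups of odd order act `p`-stably on every normal `p`-subgroup (`p` odd).** -/
theorem isPStableOn_of_odd [Finite G] (hp : p ≠ 2) (hodd : Odd (Nat.card G)) (P : Subgroup G)
    [P.Normal] (hP : IsPGroup p P) : Cfsg.IsPStableOn p P :=
  isPStableOn_of_quadCore_pGroup (quadCore_of_odd hp hodd) P hP

end Cfsg.Agent.Lib.Helper27.OddStable
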