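import Mathlib
import Cfsg.Prelude.Def_OddOrderLocal
import Cfsg.Agent.Lib.Helper10.Puig
import Cfsg.Agent.S1466
import Cfsg.Agent.Lib.Helper1.Commutator

/-!
# The Puig series of a subgroup, computed inside the ambient group (helper27)

`lStep H X = L_H(X)` and `lSeq H n = L_n(H)` as subgroups of `G`; comparison lemmas
(B & G, Appendix B: B.1, B.2) and transport along homomorphisms injective on `H`.
-/

set_option autoImplicit false
set_option linter.unusedSectionVars false

namespace Cfsg.Agent.Lib.Helper27.PuigRel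

open Cfsg

variable {G : Type*} [Group G]

/-- `L_H(X)` inside `G`. -/
def lStep (H X : Subgroup G) : Subgroup G :=
  sSup {A : Subgroup G | A ≤ H ∧ (∀ a ∈ A, ∀ b ∈ A, a * b = b * a) ∧
    X ≤ Subgroup.normalizer (A : Set G)}

theorem lStep_le (H X : Subgroup G) : lStep H X ≤ H := sSup_le fun _ hA => hA.1

theorem le_lStep {H X A : Subgroup G} (h1 : A ≤ H) (h2 : ∀ a ∈ A, ∀ b ∈ A, a * b = b * a)
    (h3 : X ≤ Subgroup.normalizer (A : Set G)) : A ≤ lStep H X := le_sSup ⟨h1, h2, h3⟩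

theorem lStep_mono {H₁ H₂ X₁ X₂ : Subgroup G} (hH : H₁ ≤ H₂) (hX : X₂ ≤ X₁) :
    lStep H₁ X₁ ≤ lStep H₂ X₂ :=
  sSup_le_sSup fun _ hA => ⟨hA.1.trans hH, hA.2.1, hX.trans hA.2.2⟩

theorem lStep_le_of_le {S H X : Subgroup G} (h : lStep S X ≤ H) : lStep S X ≤ lStep H X :=
  sSup_le fun _ hA => le_lStep ((le_sSup hA).trans h) hA.2.1 hA.2.2

/-- `L_n(H)` inside `G`. -/
def lSeq (H : Subgroup G) : ℕ → Subgroup G
  | 0 => ⊥
  | n + 1 => lStep H (lSeq H n)

theorem lSeq_zero (H : Subgroup G) : lSeq H 0 = ⊥ := rfl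

theorem lSeq_succ (H : Subgroup G) (n : ℕ) : lSeq H (n + 1) = lStep H (lSeq H n) := rfl

theorem lSeq_le (H : Subgroup G) (n : ℕ) : lSeq H n ≤ H := by
  cases n with
  | zero => exact bot_le
  | succ n => exact lStep_le _ _

theorem map_puigStep (H : Subgroup G) (X : Subgroup ↥H) :
    (puigStep X).map H.subtype = lStep H (X.map H.subtype) := by
  unfold puigStep lStep
  rw [(Subgroup.gc_map_comap H.subtype).l_sSup]
  apply le_antisymm
  · apply iSup₂_le
    intro A hA
    apply le_sSup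
    refine ⟨Subgroup.map_subtype_le A, ?_, ?_⟩
    · rintro _ ⟨a, ha, rfl⟩ _ ⟨b, hb, rfl⟩
      have := hA.1
      exact congrArg (fun z : A => ((z : H) : G)) (mul_comm' (⟨a, ha⟩ : A) ⟨b, hb⟩)
    · rintro _ ⟨x, hx, rfl⟩
      have hxN := hA.2 hx
      rw [Subgroup.mem_normalizer_iff] at hxN ⊢
      intro y
      constructor
      · rintro ⟨a, ha, rfl⟩
        exact ⟨x * a * x⁻¹, (hxN a).mp ha, by simp⟩
      · rintro ⟨b, hb, hbe⟩
        have hbe' : (b : G) = (x : G) * y * (x : G)⁻¹ := hbe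
        have hy : y = ((x⁻¹ * b * x : H) : G) := by
          simp only [Subgroup.coe_mul, Subgroup.coe_inv, hbe']
          group
        rw [hy]
        refine ⟨x⁻¹ * b * x, ?_, rfl⟩
        apply (hxN (x⁻¹ * b * x)).mpr
        have : x * (x⁻¹ * b * x) * x⁻¹ = b := by group
        rw [this]
        exact hb
  · apply sSup_le
    rintro B ⟨hBH, hBc, hXB⟩
    have hmem : B.subgroupOf H ∈ {A : Subgroup ↥H | IsMulCommutative A ∧
        X ≤ Subgroup.normalizer (A : Set ↥H)} := by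
      refine ⟨⟨⟨fun a b => Subtype.ext (Subtype.ext (hBc a.1 a.2 b.1 b.2))⟩⟩, ?_⟩
      intro x hx
      have hxN := hXB ⟨x, hx, rfl⟩
      rw [Subgroup.mem_normalizer_iff] at hxN ⊢
      intro y
      rw [Subgroup.mem_subgroupOf, Subgroup.mem_subgroupOf]
      exact hxN y
    calc B = (B.subgroupOf H).map H.subtype := (Subgroup.map_subgroupOf_eq_of_le hBH).symm
      _ ≤ _ := le_iSup₂_of_le _ hmem le_rfl

theorem map_puigSeq (H : Subgroup G) (n : ℕ) : (puigSeq ↥H n).map H.subtype = lSeq H n := by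
  induction n with
  | zero => simp [puigSeq, lSeq]
  | succ n ih =>
    rw [Cfsg.Agent.Lib.Helper10.puigSeq_succ, map_puigStep, ih, lSeq_succ]

/-- `L_*(H)` inside `G`. -/
abbrev LL (H : Subgroup G) : Subgroup G := (puigLower ↥H).map H.subtype

/-- `L(H)` inside `G`. -/
abbrev LU (H : Subgroup G) : Subgroup G := (puigSubgroup ↥H).map H.subtype

theorem lSeq_one (H : Subgroup G) : lSeq H 1 = H := by
  rw [← map_puigSeq, Cfsg.Agent.Lib.Helper10.puigSeq_one, ← MonoidHom.range_eq_map,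
    Subgroup.range_subtype]

theorem lSeq_even_le_odd (H : Subgroup G) (n m : ℕ) : lSeq H (2 * n) ≤ lSeq H (2 * m + 1) := by
  rw [← map_puigSeq, ← map_puigSeq]
  exact Subgroup.map_mono (Cfsg.Agent.Lib.Helper10.puigSeq_even_le_odd n m)

theorem LL_le_LU (H : Subgroup G) : LL H ≤ LU H :=
  Subgroup.map_mono Cfsg.Agent.Lib.Helper10.puigLower_le_puigSubgroup

theorem lSeq_even_le_LL (H : Subgroup G) (n : ℕ) : lSeq H (2 * n) ≤ LL H := by
  rw [← map_puigSeq]
  exact Subgroup.map_mono (Cfsg.Agent.Lib.Helper10.puigSeq_even_le_lower n)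

theorem LU_le_lSeq_odd (H : Subgroup G) (n : ℕ) : LU H ≤ lSeq H (2 * n + 1) := by
  rw [← map_puigSeq]
  exact Subgroup.map_mono (Cfsg.Agent.Lib.Helper10.puigSubgroup_le_odd n)

theorem LU_le (H : Subgroup G) : LU H ≤ H := Subgroup.map_subtype_le _

theorem LL_le (H : Subgroup G) : LL H ≤ H := Subgroup.map_subtype_le _

theorem lSeq_stabilizes (H : Subgroup G) [Finite H] :
    ∃ k : ℕ, ∀ n : ℕ, k ≤ n → lSeq H (2 * n) = LL H ∧ lSeq H (2 * n + 1) = LU H := by
  obtain ⟨k, hk⟩ := Cfsg.Agent.Lib.Helper10.puig_stabilizes (G := ↥H)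
  refine ⟨k, fun n hn => ?_⟩
  obtain ⟨h1, h2⟩ := hk n hn
  rw [← map_puigSeq, ← map_puigSeq, h1, h2]
  exact ⟨rfl, rfl⟩

theorem lStep_LL (H : Subgroup G) [Finite H] : lStep H (LL H) = LU H := by
  rw [← map_puigStep, Cfsg.Agent.Lib.Helper10.puigStep_lower]

theorem lStep_LU (H : Subgroup G) [Finite H] : lStep H (LU H) = LL H := by
  rw [← map_puigStep, Cfsg.Agent.Lib.Helper10.puigStep_subgroup]

/-! ### Invariance under isomorphisms -/

theorem map_symm_map_equiv {R R' : Type*} [Group R] [Group R'] (e : R ≃* R') (B : Subgroup R') :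
    (B.map e.symm.toMonoidHom).map e.toMonoidHom = B := by
  ext x
  simp only [Subgroup.mem_map, MulEquiv.coe_toMonoidHom]
  constructor
  · rintro ⟨_, ⟨b, hb, rfl⟩, rfl⟩
    simpa using hb
  · intro hx
    exact ⟨e.symm x, ⟨x, hx, rfl⟩, by simp⟩

theorem puigStep_map_equiv {R R' : Type*} [Group R] [Group R'] (e : R ≃* R') (X : Subgroup R) :
    (puigStep X).map e.toMonoidHom = puigStep (X.map e.toMonoidHom) := by
  unfold puigStep
  rw [(Subgroup.gc_map_comap e.toMonoidHom).l_sSup]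
  apply le_antisymm
  · apply iSup₂_le
    intro A hA
    apply le_sSup
    haveI := hA.1
    refine ⟨inferInstance, ?_⟩
    rw [← Subgroup.map_equiv_normalizer_eq]
    exact Subgroup.map_mono hA.2
  · apply sSup_le
    rintro B ⟨hBc, hXB⟩
    have hmem : B.map e.symm.toMonoidHom ∈ {A : Subgroup R | IsMulCommutative A ∧
        X ≤ Subgroup.normalizer (A : Set R)} := by
      haveI := hBc
      refine ⟨inferInstance, ?_⟩
      rw [← Subgroup.map_equiv_normalizer_eq]
      intro x hx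
      exact ⟨e x, hXB ⟨x, hx, rfl⟩, by simp⟩
    calc B = (B.map e.symm.toMonoidHom).map e.toMonoidHom := (map_symm_map_equiv e B).symm
      _ ≤ _ := le_iSup₂_of_le _ hmem le_rfl

theorem puigSeq_map_equiv {R R' : Type*} [Group R] [Group R'] (e : R ≃* R') (n : ℕ) :
    (puigSeq R n).map e.toMonoidHom = puigSeq R' n := by
  induction n with
  | zero => simp [puigSeq]
  | succ n ih =>
    rw [Cfsg.Agent.Lib.Helper10.puigSeq_succ, puigStep_map_equiv, ih,
      Cfsg.Agent.Lib.Helper10.puigSeq_succ]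

theorem puigSubgroup_map_equiv {R R' : Type*} [Group R] [Group R'] [Finite R] (e : R ≃* R') :
    (puigSubgroup R).map e.toMonoidHom = puigSubgroup R' := by
  haveI : Finite R' := Finite.of_equiv R e.toEquiv
  obtain ⟨k, hk⟩ := Cfsg.Agent.Lib.Helper10.puig_stabilizes (G := R)
  obtain ⟨k', hk'⟩ := Cfsg.Agent.Lib.Helper10.puig_stabilizes (G := R')
  rw [← (hk (max k k') (le_max_left _ _)).2, ← (hk' (max k k') (le_max_right _ _)).2,
    puigSeq_map_equiv]

theorem puigLower_map_equiv {R R' : Type*} [Group R] [Group R'] [Finite R] (e : R ≃* R') :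
    (puigLower R).map e.toMonoidHom = puigLower R' := by
  haveI : Finite R' := Finite.of_equiv R e.toEquiv
  obtain ⟨k, hk⟩ := Cfsg.Agent.Lib.Helper10.puig_stabilizes (G := R)
  obtain ⟨k', hk'⟩ := Cfsg.Agent.Lib.Helper10.puig_stabilizes (G := R')
  rw [← (hk (max k k') (le_max_left _ _)).1, ← (hk' (max k k') (le_max_right _ _)).1,
    puigSeq_map_equiv]

instance puigSeq_characteristic (R : Type*) [Group R] (n : ℕ) : (puigSeq R n).Characteristic := by
  rw [Subgroup.characteristic_iff_map_eq]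
  intro e
  exact puigSeq_map_equiv e n

instance puigSubgroup_characteristic (R : Type*) [Group R] [Finite R] :
    (puigSubgroup R).Characteristic := by
  rw [Subgroup.characteristic_iff_map_eq]
  intro e
  exact puigSubgroup_map_equiv e

instance puigLower_characteristic (R : Type*) [Group R] [Finite R] :
    (puigLower R).Characteristic := by
  rw [Subgroup.characteristic_iff_map_eq]
  intro e
  exact puigLower_map_equiv e

/-- `N_G(H)` normalizes every term of the Puig series of `H`. -/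
theorem normalizer_le_normalizer_lSeq (H : Subgroup G) (n : ℕ) :
    Subgroup.normalizer (H : Set G) ≤ Subgroup.normalizer (lSeq H n : Set G) := by
  rw [← map_puigSeq]
  exact Cfsg.Agent.Lib.Helper1.normalizer_le_normalizer_map_subtype_of_characteristic H _

theorem normalizer_le_normalizer_LU (H : Subgroup G) [Finite H] :
    Subgroup.normalizer (H : Set G) ≤ Subgroup.normalizer (LU H : Set G) :=
  Cfsg.Agent.Lib.Helper1.normalizer_le_normalizer_map_subtype_of_characteristic H _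

theorem normalizer_le_normalizer_LL (H : Subgroup G) [Finite H] :
    Subgroup.normalizer (H : Set G) ≤ Subgroup.normalizer (LL H : Set G) :=
  Cfsg.Agent.Lib.Helper1.normalizer_le_normalizer_map_subtype_of_characteristic H _

/-! ### Centralizers (from S1466) -/

theorem inf_centralizer_map_le (H : Subgroup G) (K : Subgroup ↥H)
    (hK : Subgroup.centralizer (K : Set ↥H) ≤ K) :
    H ⊓ Subgroup.centralizer ((K.map H.subtype : Subgroup G) : Set G) ≤ K.map H.subtype := by
  rintro x ⟨hxH, hxC⟩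
  refine ⟨⟨x, hxH⟩, hK ?_, rfl⟩
  rw [Subgroup.mem_centralizer_iff]
  intro k hk
  apply Subtype.ext
  exact (Subgroup.mem_centralizer_iff.mp hxC) (k : G) ⟨k, hk, rfl⟩

theorem inf_centralizer_lSeq_le {p : ℕ} [Fact p.Prime] (H : Subgroup G) [Finite H]
    (hH : IsPGroup p H) (i : ℕ) (hi : 0 < i) :
    H ⊓ Subgroup.centralizer (lSeq H i : Set G) ≤ lSeq H i := by
  rcases subsingleton_or_nontrivial ↥H with hs | hn
  · rintro x ⟨hxH, -⟩
    have : (⟨x, hxH⟩ : H) = 1 := Subsingleton.elim _ _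
    have hx1 : x = 1 := congrArg Subtype.val this
    rw [hx1]
    exact one_mem _
  · rw [← map_puigSeq]
    exact inf_centralizer_map_le H _ ((Cfsg.Agent.S1466.result p hH).1 i hi).2

theorem inf_centralizer_LU_le {p : ℕ} [Fact p.Prime] (H : Subgroup G) [Finite H]
    (hH : IsPGroup p H) : H ⊓ Subgroup.centralizer (LU H : Set G) ≤ LU H := by
  obtain ⟨k, hk⟩ := lSeq_stabilizes H
  rw [← (hk k le_rfl).2]
  exact inf_centralizer_lSeq_le H hH _ (Nat.succ_pos _)

/-! ### B & G, Lemma B.2 -/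

theorem lSeq_compare_of_LU_le {S H : Subgroup G} [Finite S] (hHS : H ≤ S) (hL : LU S ≤ H) (n : ℕ) :
    lSeq S (2 * n) ≤ lSeq H (2 * n) ∧ lSeq H (2 * n + 1) ≤ lSeq S (2 * n + 1) := by
  induction n with
  | zero =>
    refine ⟨by simp [lSeq_zero], ?_⟩
    show lSeq H 1 ≤ lSeq S 1
    rw [lSeq_one, lSeq_one]
    exact hHS
  | succ n ih =>
    have e1 : 2 * (n + 1) = (2 * n + 1) + 1 := by ring
    have e2 : 2 * (n + 1) + 1 = (2 * n + 1 + 1) + 1 := by ring
    have h1 : lSeq S (2 * (n + 1)) ≤ lSeq H (2 * (n + 1)) := by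
      rw [e1, lSeq_succ, lSeq_succ]
      have hle : lStep S (lSeq S (2 * n + 1)) ≤ H := by
        have : lStep S (lSeq S (2 * n + 1)) = lSeq S (2 * (n + 1)) := by rw [e1]; rfl
        rw [this]
        exact ((lSeq_even_le_LL S (n + 1)).trans (LL_le_LU S)).trans hL
      exact (lStep_le_of_le hle).trans (lStep_mono le_rfl ih.2)
    refine ⟨h1, ?_⟩
    rw [e2, lSeq_succ, lSeq_succ (H := S)]
    rw [e1] at h1
    exact lStep_mono hHS h1

theorem lSeq_compare_of_LU_le' {S H : Subgroup G} [Finite S] (hHS : H ≤ S) (hL : LU S ≤ H) (n : ℕ) :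
    lSeq H (2 * n) ≤ LL S ∧ LU S ≤ lSeq H (2 * n + 1) := by
  induction n with
  | zero =>
    refine ⟨by simp [lSeq_zero], ?_⟩
    show LU S ≤ lSeq H 1
    rw [lSeq_one]
    exact hL
  | succ n ih =>
    have e1 : 2 * (n + 1) = (2 * n + 1) + 1 := by ring
    have e2 : 2 * (n + 1) + 1 = (2 * n + 1 + 1) + 1 := by ring
    have h1 : lSeq H (2 * (n + 1)) ≤ LL S := by
      rw [e1, lSeq_succ, ← lStep_LU S]
      exact lStep_mono hHS ih.2
    refine ⟨h1, ?_⟩
    rw [e2, lSeq_succ]
    rw [e1] at h1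
    have h2 : lStep S (LL S) ≤ lStep H (LL S) := by
      apply lStep_le_of_le
      rw [lStep_LL]
      exact hL
    rw [lStep_LL] at h2
    exact h2.trans (lStep_mono le_rfl h1)

/-- **B & G, Lemma B.2**: if `L(S) ≤ H ≤ S` then `L(H) = L(S)`. -/
theorem LU_eq_of_le {S H : Subgroup G} [Finite S] (hHS : H ≤ S) (hL : LU S ≤ H) : LU H = LU S := by
  haveI : Finite H := Finite.of_injective (Subgroup.inclusion hHS) (Subgroup.inclusion_injective hHS)
  obtain ⟨k, hk⟩ := lSeq_stabilizes H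
  obtain ⟨k', hk'⟩ := lSeq_stabilizes S
  apply le_antisymm
  · rw [← (hk (max k k') (le_max_left _ _)).2, ← (hk' (max k k') (le_max_right _ _)).2]
    exact (lSeq_compare_of_LU_le hHS hL _).2
  · rw [← (hk k le_rfl).2]
    exact (lSeq_compare_of_LU_le' hHS hL k).2

end Cfsg.Agent.Lib.Helper27.PuigRel
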