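import Mathlib
import Cfsg.Prelude.Def_PLocal
import Cfsg.Agent.Lib.Helper27.ZJ2

/-!
# Generic ZJ-theorem with the weakest form of the `p`-stability hypothesis

In the proof of the ZJ-theorem `p`-stability is only applied to abelian `p`-subgroups `A ≤ S`
with `[B, A] ≤ A` for a normal `p`-subgroup `B`; `QuadHyp` records exactly that.
-/

set_option autoImplicit false
open scoped commutatorElement

namespace Cfsg.Agent.Lib.Helper27

section main

variable {G : Type*} [Group G] [Finite G] {p : ℕ} [Fact p.Prime] {𝔛 : Subgroup G → Prop}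

/-- The only consequence of `p`-stability used in the ZJ-theorem: an abelian subgroup `A ≤ S` with
`[B, A] ≤ A` (`B` a normal `p`-subgroup) lies in the preimage `kSub p B` of `O_p(G / C_G(B))`. -/
def QuadHyp (p : ℕ) (S : Subgroup G) : Prop :=
  ∀ (B : Subgroup G) [B.Normal], IsPGroup p B → ∀ A : Subgroup G, A ≤ S → AbSub A →
    (∀ a ∈ A, ∀ b ∈ B, ⁅b, a⁆ ∈ A) → A ≤ kSub p B

theorem quadHyp_of_stable (S : Subgroup G)
    (hst : ∀ (P : Subgroup G) [P.Normal], IsPGroup p P → Cfsg.IsPStableOn p P) : QuadHyp p S :=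
  fun B _ hB A _ hA hq => le_kSub_of_quadratic B hB hst A hA hq

theorem wSub_inf_normal' (h𝔛 : GoodClass 𝔛) (S : Sylow p G) (GR : ReplHyp 𝔛 (S : Subgroup G))
    (hq : QuadHyp p (S : Subgroup G)) :
    ∀ (n : ℕ) (B : Subgroup G) [B.Normal], IsPGroup p B → Nat.card B ≤ n →
      (wSub 𝔛 (S : Subgroup G) ⊓ B).Normal := by
  classical
  intro n
  induction n with
  | zero =>
    intro B _ _ hcard
    have := Nat.card_pos (α := B)
    omega
  | succ n ih =>
    intro B hBn hB hcard
    have hBS : B ≤ (S : Subgroup G) := hB.le_sylow_of_normal S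
    have hSNW : (S : Subgroup G) ≤ Subgroup.normalizer (wSub 𝔛 (S : Subgroup G) : Set G) :=
      Subgroup.le_normalizer.trans (normalizer_le_normalizer_wSub h𝔛 _)
    -- B₁ = normal closure of X
    have hB₁le : Subgroup.normalClosure ((wSub 𝔛 (S : Subgroup G) ⊓ B : Subgroup G) : Set G) ≤ B :=
      Subgroup.normalClosure_le_normal (fun x hx => hx.2)
    have hXB₁ : wSub 𝔛 (S : Subgroup G) ⊓ B ≤
        Subgroup.normalClosure ((wSub 𝔛 (S : Subgroup G) ⊓ B : Subgroup G) : Set G) :=
      Subgroup.subset_normalClosure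
    by_cases hB₁ : Subgroup.normalClosure ((wSub 𝔛 (S : Subgroup G) ⊓ B : Subgroup G) : Set G) = B
    swap
    · -- proper normal closure: use induction
      have hlt : Nat.card ↥(Subgroup.normalClosure
          ((wSub 𝔛 (S : Subgroup G) ⊓ B : Subgroup G) : Set G)) < Nat.card B := by
        by_contra hge
        push Not at hge
        exact hB₁ (Subgroup.eq_of_le_of_card_ge hB₁le hge)
      have hN := ih (Subgroup.normalClosure ((wSub 𝔛 (S : Subgroup G) ⊓ B : Subgroup G) : Set G))
        (hB.to_le hB₁le) (by omega)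
      have heq : wSub 𝔛 (S : Subgroup G) ⊓ B = wSub 𝔛 (S : Subgroup G) ⊓
          Subgroup.normalClosure ((wSub 𝔛 (S : Subgroup G) ⊓ B : Subgroup G) : Set G) :=
        le_antisymm (le_inf inf_le_left hXB₁) (inf_le_inf_left _ hB₁le)
      rw [heq]; exact hN
    · by_cases hBbot : B = ⊥
      · rw [hBbot, inf_bot_eq]; infer_instance
      · -- B' = [B,B] < B
        have hB'lt : ⁅B, B⁆ < B := commutator_lt_of_isPGroup hB hBbot
        have hB'card : Nat.card ↥⁅B, B⁆ ≤ n := by
          have : Nat.card ↥⁅B, B⁆ < Nat.card B := by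
            by_contra hge
            push Not at hge
            exact hB'lt.ne (Subgroup.eq_of_le_of_card_ge hB'lt.le hge)
          omega
        have hY : (wSub 𝔛 (S : Subgroup G) ⊓ ⁅B, B⁆).Normal :=
          ih ⁅B, B⁆ (hB.to_le hB'lt.le) hB'card
        -- Claim 1/2: [B,B] ≤ Y
        have hBBY : ⁅B, B⁆ ≤ wSub 𝔛 (S : Subgroup G) ⊓ ⁅B, B⁆ := by
          -- H = {g | ∀ v ∈ B, ⁅g,v⁆ ∈ Y} is a normal subgroup containing X
          let H : Subgroup G :=
            { carrier := {g | ∀ v ∈ B, ⁅g, v⁆ ∈ wSub 𝔛 (S : Subgroup G) ⊓ ⁅B, B⁆}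
              one_mem' := by
                intro v _
                rw [commutatorElement_one_left]; exact Subgroup.one_mem _
              mul_mem' := by
                intro g k hg hk v hv
                have h1 : ⁅g * k, v⁆ = g * ⁅k, v⁆ * g⁻¹ * ⁅g, v⁆ := by
                  simp only [commutatorElement_def]; group
                rw [h1]
                exact Subgroup.mul_mem _ (hY.conj_mem _ (hk v hv) g) (hg v hv)
              inv_mem' := by
                intro g hg v hv
                have h1 : ⁅g⁻¹, v⁆ = g⁻¹ * ⁅g, v⁆⁻¹ * g⁻¹⁻¹ := by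
                  simp only [commutatorElement_def]; group
                rw [h1]
                exact hY.conj_mem _ (Subgroup.inv_mem _ (hg v hv)) g⁻¹ }
          have hHn : H.Normal := by
            refine ⟨fun g hg t v hv => ?_⟩
            have h1 : ⁅t * g * t⁻¹, v⁆ = t * ⁅g, t⁻¹ * v * t⁻¹⁻¹⁆ * t⁻¹ := by
              simp only [commutatorElement_def]; group
            rw [h1]
            exact hY.conj_mem _ (hg _ (hBn.conj_mem v hv t⁻¹)) t
          have hXH : ((wSub 𝔛 (S : Subgroup G) ⊓ B : Subgroup G) : Set G) ⊆ H := by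
            intro x hx v hv
            refine ⟨?_, Subgroup.commutator_mem_commutator hx.2 hv⟩
            have hvN := hSNW (hBS hv)
            have h1 : ⁅x, v⁆ = x * (v * x⁻¹ * v⁻¹) := by
              simp only [commutatorElement_def]; group
            rw [h1]
            exact Subgroup.mul_mem _ hx.1
              ((Subgroup.mem_normalizer_iff.mp hvN x⁻¹).mp (Subgroup.inv_mem _ hx.1))
          have hBH : B ≤ H := by
            rw [← hB₁]
            exact Subgroup.normalClosure_le_normal hXH
          rw [Subgroup.commutator_le]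
          intro g hg v hv
          exact hBH hg v hv
        have hBBW : ⁅B, B⁆ ≤ wSub 𝔛 (S : Subgroup G) := hBBY.trans inf_le_left
        -- Claim 4
        have hSB : (S : Subgroup G) ≤ Subgroup.normalizer (B : Set G) := by
          rw [Subgroup.normalizer_eq_top_iff.mpr hBn]; exact le_top
        have hall : ∀ A ∈ maxIn 𝔛 (S : Subgroup G), A ≤ kSub p B := by
          by_contra hcon
          push Not at hcon
          have hfin : {A : Subgroup G | A ∈ maxIn 𝔛 (S : Subgroup G) ∧ ¬ A ≤ kSub p B}.Finite :=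
            Set.toFinite _
          obtain ⟨A₀, hA₀⟩ := hcon
          obtain ⟨A, hA, hmax⟩ := Set.exists_max_image _
            (fun A : Subgroup G => Nat.card ↥(A ⊓ B)) hfin ⟨A₀, hA₀⟩
          have hAab : AbSub A := h𝔛.ab A hA.1.2.1
          have hnotN : ¬ B ≤ Subgroup.normalizer (A : Set G) := by
            intro hle
            apply hA.2
            apply hq B hB A hA.1.1 hAab
            intro a ha b hb
            have h1 : ⁅b, a⁆ = (b * a * b⁻¹) * a⁻¹ := by simp only [commutatorElement_def]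
            rw [h1]
            exact A.mul_mem ((Subgroup.mem_normalizer_iff.mp (hle hb) a).mp ha) (A.inv_mem ha)
          obtain ⟨A', hA', hlt, hA'N⟩ := GR A hA.1 B hBS hSB
            (hBBW.trans (wSub_le_of_mem_maxIn h𝔛 hA.1)) hnotN
          have hA'K : A' ≤ kSub p B := by
            by_contra hnK
            have := hmax A' ⟨hA', hnK⟩
            exact hlt.ne (Subgroup.eq_of_le_of_card_ge hlt.le this)
          have hA'T : A' ≤ (S : Subgroup G) ⊓ kSub p B := le_inf hA'.1 hA'K
          have hWW : wSub 𝔛 (S : Subgroup G) ≤ wSub 𝔛 ((S : Subgroup G) ⊓ kSub p B) :=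
            wSub_le_wSub_of_mem h𝔛 hA' hA'T inf_le_left
          have hNT := wSub_inf_kSub_normal h𝔛 S B
          have hBle : B ≤ wSub 𝔛 ((S : Subgroup G) ⊓ kSub p B) ⊓ B := by
            have hcl : Subgroup.normalClosure
                ((wSub 𝔛 (S : Subgroup G) ⊓ B : Subgroup G) : Set G) ≤
                wSub 𝔛 ((S : Subgroup G) ⊓ kSub p B) ⊓ B := by
              apply Subgroup.normalClosure_le_normal
              intro x hx
              exact ⟨hWW hx.1, hx.2⟩
            exact (le_of_eq hB₁.symm).trans hcl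
          have hBA' : B ≤ A' :=
            (hBle.trans inf_le_left).trans
              (wSub_le_of_mem_maxIn h𝔛 (mem_maxIn_of_le hA' hA'T inf_le_left))
          apply hA.2
          apply hq B hB A hA.1.1 hAab
          intro a ha b hb
          have h1 : ⁅b, a⁆ = (b * a * b⁻¹) * a⁻¹ := by simp only [commutatorElement_def]
          rw [h1]
          exact A.mul_mem ((Subgroup.mem_normalizer_iff.mp (hA'N (hBA' hb)) a).mp ha)
            (A.inv_mem ha)
        -- Claim 5
        have hWeq : wSub 𝔛 ((S : Subgroup G) ⊓ kSub p B) = wSub 𝔛 (S : Subgroup G) :=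
          wSub_eq_of_forall_le h𝔛 (fun A hA => le_inf hA.1 (hall A hA)) inf_le_left
        rw [← hWeq]
        exact wSub_inf_kSub_normal h𝔛 S B

/-- Generic ZJ-theorem: `W_𝔛(S)` is normal. -/
theorem wSub_normal' (h𝔛 : GoodClass 𝔛) (S : Sylow p G) (GR : ReplHyp 𝔛 (S : Subgroup G))
    (hc : Subgroup.centralizer (Cfsg.pCore p G : Set G) ≤ Cfsg.pCore p G)
    (hq : QuadHyp p (S : Subgroup G)) :
    (wSub 𝔛 (S : Subgroup G)).Normal := by
  haveI hOn : (Cfsg.pCore p G).Normal := pCore_normal p G
  have hO : IsPGroup p (Cfsg.pCore p G) := pCore_isPGroup p G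
  have hOS : Cfsg.pCore p G ≤ (S : Subgroup G) := hO.le_sylow_of_normal S
  have hSNW : (S : Subgroup G) ≤ Subgroup.normalizer (wSub 𝔛 (S : Subgroup G) : Set G) :=
    Subgroup.le_normalizer.trans (normalizer_le_normalizer_wSub h𝔛 _)
  have h1 : wSub 𝔛 (S : Subgroup G) ≤ kSub p (Cfsg.pCore p G) := by
    apply hq (Cfsg.pCore p G) hO _ (wSub_le _) (abSub_wSub h𝔛 _)
    intro a ha b hb
    have h1 : ⁅b, a⁆ = (b * a * b⁻¹) * a⁻¹ := by simp only [commutatorElement_def]
    rw [h1]
    exact Subgroup.mul_mem _ ((Subgroup.mem_normalizer_iff.mp (hSNW (hOS hb)) a).mp ha)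
      (Subgroup.inv_mem _ ha)
  have h2 : kSub p (Cfsg.pCore p G) ≤ Cfsg.pCore p G :=
    le_pCore (kSub_normal p _) (isPGroup_kSub _ (hO.to_le hc))
  have h3 := wSub_inf_normal' h𝔛 S GR hq (Nat.card (Cfsg.pCore p G)) (Cfsg.pCore p G) hO le_rfl
  rwa [inf_eq_left.mpr (h1.trans h2)] at h3

/-- Generic ZJ-theorem: `W_𝔛(S)` is characteristic. -/
theorem wSub_characteristic' (h𝔛 : GoodClass 𝔛) (S : Sylow p G)
    (GR : ReplHyp 𝔛 (S : Subgroup G))
    (hc : Subgroup.centralizer (Cfsg.pCore p G : Set G) ≤ Cfsg.pCore p G)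
    (hq : QuadHyp p (S : Subgroup G)) :
    (wSub 𝔛 (S : Subgroup G)).Characteristic := by
  have hN := wSub_normal' h𝔛 S GR hc hq
  rw [Subgroup.characteristic_iff_map_le]
  intro e
  rw [← wSub_map h𝔛 e]
  have hS' : (S : Subgroup G).map e.toMonoidHom =
      ((S.mapSurjective (f := e.toMonoidHom) e.surjective : Sylow p G) : Subgroup G) := rfl
  obtain ⟨g, hg⟩ := MulAction.exists_smul_eq G S
    (S.mapSurjective (f := e.toMonoidHom) e.surjective)
  rw [hS', ← hg, sylow_smul_eq_map, wSub_map h𝔛 (MulAut.conj g)]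
  have hgN : g ∈ Subgroup.normalizer (wSub 𝔛 (S : Subgroup G) : Set G) := by
    rw [Subgroup.normalizer_eq_top_iff.mpr hN]; exact Subgroup.mem_top g
  rw [Subgroup.mem_normalizer_iff_map_conj_eq] at hgN
  exact le_of_eq hgN

end main

end Cfsg.Agent.Lib.Helper27
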