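import Mathlib
import Cfsg.Prelude.Def_Local
import Cfsg.Prelude.Def_PLocal
import Cfsg.Agent.Lib.Helper27.ZJ4
import Cfsg.Agent.Lib.Helper27.ZJ5
import Cfsg.Agent.Lib.Helper12.PPrimeP

/-!
# Glauberman's ZJ-theorem for `p`-constrained, `p`-stable groups
-/

set_option autoImplicit false
open scoped commutatorElement

universe u

namespace Cfsg.Agent.Lib.Helper27

open Cfsg.Agent.Lib.Helper12

section zj6

variable {G : Type u} [Group G] [Finite G] {p : ℕ} [Fact p.Prime]

theorem pPrimeCore_inf_eq_bot {Q : Subgroup G} (hQ : IsPGroup p Q) :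
    Cfsg.pPrimeCore p G ⊓ Q = ⊥ :=
  inf_eq_bot_of_coprime_of_isPGroup (pPrimeCore_coprime p) hQ

theorem eq_one_of_mem_pPrimeCore_of_mem {Q : Subgroup G} (hQ : IsPGroup p Q) {x : G}
    (hxN : x ∈ Cfsg.pPrimeCore p G) (hxQ : x ∈ Q) : x = 1 := by
  have : x ∈ Cfsg.pPrimeCore p G ⊓ Q := ⟨hxN, hxQ⟩
  rw [pPrimeCore_inf_eq_bot hQ] at this
  exact Subgroup.mem_bot.mp this

/-- If `H ⊔ K = ⊤` with `K` normal then every element is a product. -/
theorem exists_mul_of_sup_eq_top {H K : Subgroup G} [K.Normal] (h : H ⊔ K = ⊤) (g : G) :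
    ∃ x ∈ H, ∃ y ∈ K, g = x * y := by
  have hg : g ∈ H ⊔ K := h ▸ Subgroup.mem_top g
  obtain ⟨x, hx, y, hy, rfl⟩ := Subgroup.mem_sup_of_normal_right.mp hg
  exact ⟨x, hx, y, hy, rfl⟩

/-- `p`-constraint gives `C(O_p(Ḡ)) ≤ O_p(Ḡ)` in `Ḡ = G / O_{p'}(G)`. -/
theorem centralizer_pCore_quotient_le (hc : Cfsg.IsPConstrained p G) (P : Sylow p G) :
    Subgroup.centralizer (Cfsg.pCore p (G ⧸ Cfsg.pPrimeCore p G) : Set (G ⧸ Cfsg.pPrimeCore p G)) ≤
      Cfsg.pCore p (G ⧸ Cfsg.pPrimeCore p G) := by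
  set N := Cfsg.pPrimeCore p G with hN
  set L := Cfsg.pPrimePCore p G with hL
  have hLdef : L = (Cfsg.pCore p (G ⧸ N)).comap (QuotientGroup.mk' N) := rfl
  set P₀ : Subgroup G := (P : Subgroup G) ⊓ L with hP₀
  -- Sylow of `L`
  have hrel : ¬ p ∣ P₀.relIndex L := sylow_inf_pPrimePCore_relIndex P
  have hP₀p : IsPGroup p (P₀.subgroupOf L) :=
    (P.isPGroup'.to_le inf_le_left).comap_subtype
  let R : Sylow p L := hP₀p.toSylow hrel
  have hR : ((R : Subgroup L)).map L.subtype = P₀ := by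
    show (P₀.subgroupOf L).map L.subtype = P₀
    rw [Subgroup.subgroupOf_map_subtype, hP₀, inf_assoc, inf_idem]
  have hC : Subgroup.centralizer (P₀ : Set G) ≤ L := by
    have := hc R
    rwa [hR] at this
  -- Frattini
  have hfr : Subgroup.normalizer (P₀ : Set G) ⊔ N = ⊤ := by
    have h1 : Subgroup.normalizer (P₀ : Set G) ⊔ L = ⊤ := frattini_inf P L
    have h2 : N ⊔ P₀ = L := pPrimeCore_sup_sylow_inf P
    calc Subgroup.normalizer (P₀ : Set G) ⊔ N
        = Subgroup.normalizer (P₀ : Set G) ⊔ (N ⊔ P₀) := by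
          rw [sup_comm N P₀, ← sup_assoc, sup_eq_left.mpr (Subgroup.le_normalizer (H := P₀))]
      _ = ⊤ := by rw [h2]; exact h1
  intro gbar hgbar
  obtain ⟨g, rfl⟩ := QuotientGroup.mk'_surjective N gbar
  obtain ⟨g', hg', n', hn', rfl⟩ := exists_mul_of_sup_eq_top hfr g
  have hπ : QuotientGroup.mk' N (g' * n') = QuotientGroup.mk' N g' := by
    have h1 : QuotientGroup.mk' N n' = 1 := (QuotientGroup.eq_one_iff n').mpr hn'
    rw [map_mul, h1, mul_one]
  rw [hπ] at hgbar ⊢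
  have hg'C : g' ∈ Subgroup.centralizer (P₀ : Set G) := by
    rw [Subgroup.mem_centralizer_iff]
    intro x hx
    have hxL : QuotientGroup.mk' N x ∈ Cfsg.pCore p (G ⧸ N) := by
      have : x ∈ L := hx.2
      rw [hLdef, Subgroup.mem_comap] at this
      exact this
    have hcomm := (Subgroup.mem_centralizer_iff.mp hgbar) _ hxL
    have h1 : g' * x * g'⁻¹ ∈ P₀ := (Subgroup.mem_normalizer_iff.mp hg' x).mp hx
    have h2 : g' * x * g'⁻¹ * x⁻¹ ∈ (P : Subgroup G) :=
      Subgroup.mul_mem _ h1.1 (Subgroup.inv_mem _ hx.1)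
    have h3 : g' * x * g'⁻¹ * x⁻¹ ∈ N := by
      rw [← QuotientGroup.eq_one_iff (N := N)]
      show QuotientGroup.mk' N (g' * x * g'⁻¹ * x⁻¹) = 1
      rw [map_mul, map_mul, map_mul, map_inv, map_inv, ← hcomm]
      group
    have h4 := eq_one_of_mem_pPrimeCore_of_mem P.isPGroup' h3 h2
    have : g' * x = x * g' := by
      have h5 : g' * x = (g' * x * g'⁻¹ * x⁻¹) * (x * g') := by group
      rw [h5, h4, one_mul]
    exact this.symm
  have := hC hg'C
  rw [hLdef, Subgroup.mem_comap] at this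
  exact this

/-- Lifting a subgroup of `P.map π` to `P`. -/
theorem map_inf_comap_of_le {H : Type*} [Group H] (f : G →* H) (P : Subgroup G) (A : Subgroup H)
    (hA : A ≤ P.map f) : (P ⊓ A.comap f).map f = A := by
  apply le_antisymm
  · rintro _ ⟨x, hx, rfl⟩
    exact hx.2
  · intro a ha
    obtain ⟨x, hx, rfl⟩ := hA ha
    exact ⟨x, ⟨hx, ha⟩, rfl⟩

/-- `p`-stability gives the quadratic hypothesis in `Ḡ = G / O_{p'}(G)`. -/
theorem quadHyp_quotient (hs : Cfsg.IsPStable p G) (P : Sylow p G) :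
    QuadHyp p ((P : Subgroup G).map (QuotientGroup.mk' (Cfsg.pPrimeCore p G))) := by
  set N := Cfsg.pPrimeCore p G with hN
  set π := QuotientGroup.mk' N with hπ
  have hπsurj : Function.Surjective π := QuotientGroup.mk'_surjective N
  have hker : π.ker = N := QuotientGroup.ker_mk' N
  intro Bbar hBn hBp Abar hAle hAab hquad
  -- lifts
  have hBle : Bbar ≤ (P : Subgroup G).map π := by
    have := hBp.le_sylow_of_normal (P.mapSurjective hπsurj)
    rwa [Sylow.coe_mapSurjective] at this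
  set A : Subgroup G := (P : Subgroup G) ⊓ Abar.comap π with hA
  set B₀ : Subgroup G := (P : Subgroup G) ⊓ Bbar.comap π with hB₀
  have hAmap : A.map π = Abar := map_inf_comap_of_le π _ _ hAle
  have hBmap : B₀.map π = Bbar := map_inf_comap_of_le π _ _ hBle
  have hAp : IsPGroup p A := P.isPGroup'.to_le inf_le_left
  have hB₀p : IsPGroup p B₀ := P.isPGroup'.to_le inf_le_left
  have hnorm : ∀ a ∈ A, ∀ x ∈ B₀, a * x * a⁻¹ ∈ B₀ := by
    intro a ha x hx
    refine ⟨Subgroup.mul_mem _ (Subgroup.mul_mem _ ha.1 hx.1) (Subgroup.inv_mem _ ha.1), ?_⟩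
    show π (a * x * a⁻¹) ∈ Bbar
    rw [map_mul, map_mul, map_inv]
    exact hBn.conj_mem _ hx.2 _
  have hB₀L : B₀ ≤ Cfsg.pPrimePCore p G := by
    intro x hx
    unfold Cfsg.pPrimePCore
    rw [Subgroup.mem_comap]
    exact le_pCore' p Bbar hBn hBp hx.2
  have hcomap : N ⊔ B₀ = Bbar.comap π := by
    rw [← hBmap, Subgroup.comap_map_eq, hker, sup_comm]
  have hNB : (N ⊔ B₀).Normal := by
    rw [hcomap]
    exact hBn.comap π
  have hcomm : ⁅⁅B₀, A⁆, A⁆ = ⊥ := by
    have hP' : ⁅⁅B₀, A⁆, A⁆ ≤ (P : Subgroup G) := by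
      have h1 : ⁅B₀, A⁆ ≤ (P : Subgroup G) := by
        rw [Subgroup.commutator_le]
        intro x hx y hy
        exact Subgroup.mul_mem _ (Subgroup.mul_mem _ (Subgroup.mul_mem _ hx.1 hy.1)
          (Subgroup.inv_mem _ hx.1)) (Subgroup.inv_mem _ hy.1)
      rw [Subgroup.commutator_le]
      intro x hx y hy
      exact Subgroup.mul_mem _ (Subgroup.mul_mem _ (Subgroup.mul_mem _ (h1 hx) hy.1)
        (Subgroup.inv_mem _ (h1 hx))) (Subgroup.inv_mem _ hy.1)
    have hN' : ⁅⁅B₀, A⁆, A⁆ ≤ N := by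
      rw [← hker, ← Subgroup.map_eq_bot_iff, Subgroup.map_commutator, Subgroup.map_commutator,
        hAmap, hBmap, eq_bot_iff]
      have h1 : ⁅Bbar, Abar⁆ ≤ Abar := by
        rw [Subgroup.commutator_le]
        intro b hb a ha
        exact hquad a ha b hb
      have h2 : ⁅Abar, Abar⁆ = ⊥ := by
        rw [eq_bot_iff, Subgroup.commutator_le]
        intro x hx y hy
        rw [Subgroup.mem_bot, commutatorElement_eq_one_iff_mul_comm]
        exact hAab x hx y hy
      exact (Subgroup.commutator_mono h1 le_rfl).trans (le_of_eq h2)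
    rw [eq_bot_iff, ← pPrimeCore_inf_eq_bot (p := p) (G := G) P.isPGroup']
    exact le_inf hN' hP'
  have key := hs.2.2 A B₀ hAp hB₀p hnorm hB₀L hNB hcomm
  -- the map `N_G(B₀) → Ḡ / C(B̄)`
  set M : Subgroup G := Subgroup.normalizer (B₀ : Set G) with hM
  have hAM : A ≤ M := by
    intro a ha
    rw [hM, Subgroup.mem_normalizer_iff]
    intro x
    constructor
    · exact fun hx => hnorm a ha x hx
    · intro hx
      have := hnorm a⁻¹ (Subgroup.inv_mem _ ha) _ hx
      have h2 : a⁻¹ * (a * x * a⁻¹) * a⁻¹⁻¹ = x := by group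
      rwa [h2] at this
  let ψ : M →* (G ⧸ N) ⧸ Subgroup.centralizer (Bbar : Set (G ⧸ N)) :=
    (QuotientGroup.mk' (Subgroup.centralizer (Bbar : Set (G ⧸ N)))).comp (π.comp M.subtype)
  have hψker : (Subgroup.centralizer (B₀ : Set G)).subgroupOf M ≤ ψ.ker := by
    intro c hc
    rw [MonoidHom.mem_ker]
    show QuotientGroup.mk' (Subgroup.centralizer (Bbar : Set (G ⧸ N))) (π c.1) = 1
    apply (QuotientGroup.eq_one_iff _).mpr
    rw [Subgroup.mem_centralizer_iff]
    intro b hb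
    rw [← hBmap] at hb
    obtain ⟨x, hx, rfl⟩ := hb
    have := (Subgroup.mem_centralizer_iff.mp (Subgroup.mem_subgroupOf.mp hc)) x hx
    rw [← map_mul, ← map_mul, this]
  have hfr : M ⊔ N = ⊤ := by
    haveI : (Bbar.comap π).Normal := hBn.comap π
    have h1 : M ⊔ Bbar.comap π = ⊤ := frattini_inf P (Bbar.comap π)
    calc M ⊔ N = M ⊔ (B₀ ⊔ N) := by
          rw [← sup_assoc, sup_eq_left.mpr (Subgroup.le_normalizer (H := B₀))]
      _ = ⊤ := by rw [sup_comm B₀ N, hcomap]; exact h1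
  have hψsurj : Function.Surjective ψ := by
    intro y
    obtain ⟨gbar, rfl⟩ := QuotientGroup.mk'_surjective _ y
    obtain ⟨g, rfl⟩ := hπsurj gbar
    obtain ⟨m, hm, n, hn, rfl⟩ := exists_mul_of_sup_eq_top hfr g
    refine ⟨⟨m, hm⟩, ?_⟩
    show QuotientGroup.mk' _ (π m) = QuotientGroup.mk' _ (π (m * n))
    have h1 : π n = 1 := (QuotientGroup.eq_one_iff n).mpr hn
    rw [map_mul π, h1, mul_one]
  let ψbar := QuotientGroup.lift ((Subgroup.centralizer (B₀ : Set G)).subgroupOf M) ψ hψker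
  have hψbarsurj : Function.Surjective ψbar := by
    intro y
    obtain ⟨m, rfl⟩ := hψsurj y
    exact ⟨QuotientGroup.mk m, rfl⟩
  have himg : (Cfsg.pCore p (M ⧸ (Subgroup.centralizer (B₀ : Set G)).subgroupOf M)).map ψbar ≤
      Cfsg.pCore p ((G ⧸ N) ⧸ Subgroup.centralizer (Bbar : Set (G ⧸ N))) :=
    le_pCore' p _ ((pCore_normal p _).map ψbar hψbarsurj) ((pCore_isPGroup p _).map ψbar)
  intro abar habar
  rw [← hAmap] at habar
  obtain ⟨a, ha, rfl⟩ := habar
  rw [mem_kSub_iff]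
  have h1 : (⟨a, hAM ha⟩ : M) ∈ A.subgroupOf M := Subgroup.mem_subgroupOf.mpr ha
  have h2 := key (Subgroup.mem_map_of_mem _ h1)
  have h3 := himg (Subgroup.mem_map_of_mem ψbar h2)
  exact h3

theorem centerThompsonAOf_le (T : Subgroup G) : Cfsg.centerThompsonAOf T ≤ T := by
  rw [centerThompsonAOf_eq]
  exact wSub_le T

/-- Glauberman's ZJ-theorem for `p`-constrained `p`-stable groups: `G = O_{p'}(G) N_G(Z(J(P)))`. -/
theorem pPrimeCore_sup_normalizer_centerThompsonAOf (hp : p ≠ 2) (hc : Cfsg.IsPConstrained p G)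
    (hs : Cfsg.IsPStable p G) (P : Sylow p G) :
    Cfsg.pPrimeCore p G ⊔
      Subgroup.normalizer (Cfsg.centerThompsonAOf (P : Subgroup G) : Set G) = ⊤ := by
  set N := Cfsg.pPrimeCore p G with hN
  set π := QuotientGroup.mk' N with hπ
  have hπsurj : Function.Surjective π := QuotientGroup.mk'_surjective N
  have hker : π.ker = N := QuotientGroup.ker_mk' N
  set Z := Cfsg.centerThompsonAOf (P : Subgroup G) with hZ
  have hZP : Z ≤ (P : Subgroup G) := centerThompsonAOf_le _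
  let Pbar : Sylow p (G ⧸ N) := P.mapSurjective hπsurj
  have hPbar : (Pbar : Subgroup (G ⧸ N)) = (P : Subgroup G).map π := Sylow.coe_mapSurjective _ _
  have hnorm : (wSub AbSub (Pbar : Subgroup (G ⧸ N))).Normal :=
    wSub_normal' goodClass_abSub Pbar (replHyp_abSub hp _ Pbar.isPGroup')
      (centralizer_pCore_quotient_le hc P) (by rw [hPbar]; exact quadHyp_quotient hs P)
  rw [← centerThompsonAOf_eq, hPbar,
    centerThompsonAOf_map_of_injOn π (P : Subgroup G) P.isPGroup'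
      (fun x hx hx1 => eq_one_of_mem_pPrimeCore_of_mem P.isPGroup'
        ((QuotientGroup.eq_one_iff x).mp hx1) hx)] at hnorm
  haveI hK : ((Z.map π).comap π).Normal := hnorm.comap π
  have hKeq : (Z.map π).comap π = Z ⊔ N := by rw [Subgroup.comap_map_eq, hker]
  have hPK : (P : Subgroup G) ⊓ (Z.map π).comap π = Z := by
    apply le_antisymm
    · rintro x ⟨hxP, hxK⟩
      obtain ⟨z, hz, hzx⟩ := hxK
      have h1 : z⁻¹ * x ∈ N := by
        rw [← QuotientGroup.eq_one_iff (N := N)]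
        show π (z⁻¹ * x) = 1
        rw [map_mul, map_inv, hzx, inv_mul_cancel]
      have h2 : z⁻¹ * x ∈ (P : Subgroup G) :=
        Subgroup.mul_mem _ (Subgroup.inv_mem _ (hZP hz)) hxP
      have h3 := eq_one_of_mem_pPrimeCore_of_mem P.isPGroup' h1 h2
      have h4 : x = z := by
        have : x = z * (z⁻¹ * x) := by group
        rw [this, h3, mul_one]
      rw [h4]; exact hz
    · exact le_inf hZP (Subgroup.le_comap_map π Z)
  have hfr := frattini_inf P ((Z.map π).comap π)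
  rw [hPK, hKeq] at hfr
  calc N ⊔ Subgroup.normalizer (Z : Set G)
      = Subgroup.normalizer (Z : Set G) ⊔ (Z ⊔ N) := by
        rw [← sup_assoc, sup_eq_left.mpr (Subgroup.le_normalizer (H := Z)), sup_comm]
    _ = ⊤ := hfr

theorem centerThompsonAOf_normal_of_pPrimeCore_eq_bot (hp : p ≠ 2) (hc : Cfsg.IsPConstrained p G)
    (hs : Cfsg.IsPStable p G) (P : Sylow p G) (hN : Cfsg.pPrimeCore p G = ⊥) :
    (Cfsg.centerThompsonAOf (P : Subgroup G)).Normal := by
  have h := pPrimeCore_sup_normalizer_centerThompsonAOf hp hc hs P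
  rw [hN, bot_sup_eq] at h
  exact Subgroup.normalizer_eq_top_iff.mp h

end zj6

end Cfsg.Agent.Lib.Helper27
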