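import Mathlib
import Cfsg.Agent.Lib.Helper27.PuigRel
import Cfsg.Agent.Lib.Helper27.OddStable
import Cfsg.Agent.Lib.Helper27.ZJ2
import Cfsg.Agent.S1465
import Cfsg.Agent.Lib.Helper24.PSolvable
import Cfsg.Agent.Lib.Helper17.CharP
import Cfsg.Agent.Lib.Helper27.ZJ6

/-!
# The Puig subgroup in solvable groups of odd order (B & G, Appendix B) (helper27)
-/

set_option autoImplicit false
set_option linter.unusedSectionVars false
set_option linter.style.haveILetI false

namespace Cfsg.Agent.Lib.Helper27.PuigOdd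

open Cfsg Cfsg.Agent.Lib.Helper27.PuigRel
open scoped commutatorElement

universe u

section general

variable {G : Type u} [Group G]

theorem le_normalizer_of_conj_mem' {H K : Subgroup G} (hc : ∀ x ∈ H, ∀ y ∈ K, x * y * x⁻¹ ∈ K) :
    H ≤ Subgroup.normalizer (K : Set G) := by
  intro x hx
  rw [Subgroup.mem_normalizer_iff]
  intro y
  refine ⟨hc x hx y, fun hy => ?_⟩
  have := hc x⁻¹ (H.inv_mem hx) _ hy
  have e : x⁻¹ * (x * y * x⁻¹) * x⁻¹⁻¹ = y := by group
  rwa [e] at this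

/-- `Z(L)` for a subgroup `L` of `G`. -/
def zOf (L : Subgroup G) : Subgroup G := L ⊓ Subgroup.centralizer (L : Set G)

theorem normalizer_le_normalizer_zOf (L : Subgroup G) :
    Subgroup.normalizer (L : Set G) ≤ Subgroup.normalizer (zOf L : Set G) := by
  apply le_normalizer_of_conj_mem'
  intro g hg z hz
  refine Subgroup.mem_inf.mpr ⟨((Subgroup.mem_normalizer_iff.mp hg) z).mp hz.1, ?_⟩
  rw [Subgroup.mem_centralizer_iff]
  intro l hl
  have hl' : g⁻¹ * l * g ∈ L := by
    have := ((Subgroup.mem_normalizer_iff.mp (Subgroup.inv_mem _ hg)) l).mp hl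
    simpa using this
  have hc := (Subgroup.mem_centralizer_iff.mp hz.2) _ hl'
  calc l * (g * z * g⁻¹) = g * ((g⁻¹ * l * g) * z) * g⁻¹ := by group
    _ = g * (z * (g⁻¹ * l * g)) * g⁻¹ := by rw [hc]
    _ = g * z * g⁻¹ * l := by group

theorem zOf_comm (L : Subgroup G) : ∀ a ∈ zOf L, ∀ b ∈ zOf L, a * b = b * a :=
  fun a ha b hb => (Subgroup.mem_centralizer_iff.mp hb.2) a ha.1

theorem center_map_map (S : Subgroup G) (K : Subgroup ↥S) :
    ((Subgroup.center ↥K).map K.subtype).map S.subtype = zOf (K.map S.subtype) := by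
  ext x
  constructor
  · rintro ⟨_, ⟨z, hz, rfl⟩, rfl⟩
    refine Subgroup.mem_inf.mpr ⟨⟨(z : S), z.2, rfl⟩, ?_⟩
    rw [Subgroup.mem_centralizer_iff]
    rintro _ ⟨k, hk, rfl⟩
    have := (Subgroup.mem_center_iff.mp hz) ⟨k, hk⟩
    exact congrArg (fun w : K => ((w : S) : G)) this
  · rintro ⟨⟨k, hk, rfl⟩, hC⟩
    have hC' : S.subtype k ∈ Subgroup.centralizer ((K.map S.subtype : Subgroup G) : Set G) := hC
    refine ⟨k, ⟨⟨k, hk⟩, ?_, rfl⟩, rfl⟩
    show (⟨k, hk⟩ : K) ∈ Subgroup.center ↥K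
    rw [Subgroup.mem_center_iff]
    intro g
    apply Subtype.ext
    apply Subtype.ext
    exact (Subgroup.mem_centralizer_iff.mp hC') ((g : S) : G) ⟨(g : S), g.2, rfl⟩

theorem lSeq_normal_of_normal (H : Subgroup G) [hH : H.Normal] (n : ℕ) : (lSeq H n).Normal := by
  rw [← Subgroup.normalizer_eq_top_iff, eq_top_iff]
  refine le_trans ?_ (normalizer_le_normalizer_lSeq H n)
  rw [Subgroup.normalizer_eq_top_iff.mpr hH]

theorem LU_normal_of_normal (H : Subgroup G) [Finite H] [hH : H.Normal] : (LU H).Normal := by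
  rw [← Subgroup.normalizer_eq_top_iff, eq_top_iff]
  refine le_trans ?_ (normalizer_le_normalizer_LU H)
  rw [Subgroup.normalizer_eq_top_iff.mpr hH]

/-- `L(f(S)) = f(L(S))` for `f` injective on `S`. -/
theorem LU_map_of_injOn {G' : Type u} [Group G'] (f : G →* G') (S : Subgroup G) [Finite S]
    (hinj : ∀ x ∈ S, ∀ y ∈ S, f x = f y → x = y) : LU (S.map f) = (LU S).map f := by
  have hbij : Function.Bijective (f.subgroupMap S) := by
    refine ⟨?_, f.subgroupMap_surjective S⟩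
    intro x y hxy
    apply Subtype.ext
    apply hinj x x.2 y y.2
    exact congrArg Subtype.val hxy
  let e : ↥S ≃* ↥(S.map f) := MulEquiv.ofBijective (f.subgroupMap S) hbij
  have h1 : (puigSubgroup ↥S).map e.toMonoidHom = puigSubgroup ↥(S.map f) :=
    puigSubgroup_map_equiv e
  have h2 : (S.map f).subtype.comp e.toMonoidHom = f.comp S.subtype := by
    ext x
    rfl
  show (puigSubgroup ↥(S.map f)).map (S.map f).subtype = ((puigSubgroup ↥S).map S.subtype).map f
  rw [← h1, Subgroup.map_map, h2, Subgroup.map_map]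

end general

variable {G : Type u} [Group G] [Finite G] [Group.IsSolvable G] {p : ℕ} [Fact p.Prime]

/-- consequence of S1465 (B & G, Corollary 6.3). -/
theorem le_pCore_of_normalized (hodd : Odd (Nat.card G)) (hp : p ≠ 2) (hO : pPrimeCore p G = ⊥)
    (P : Subgroup G) [P.Normal] (hP : IsPGroup p P)
    (hle : pCore p G ⊓ Subgroup.centralizer (P : Set G) ≤ P)
    (A : Subgroup G) (hAc : ∀ a ∈ A, ∀ b ∈ A, a * b = b * a) (hAp : IsPGroup p A)
    (hPA : P ≤ Subgroup.normalizer (A : Set G)) : A ≤ pCore p G := by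
  have h := (Cfsg.Agent.S1465.result hodd p hp P hP {A} (by
    intro B hB
    rw [Set.mem_singleton_iff] at hB
    subst hB
    exact ⟨⟨⟨fun a b => Subtype.ext (hAc a a.2 b b.2)⟩⟩, hAp, hPA⟩)).2 hO hle
  rwa [sSup_singleton] at h

/-- **B & G, Lemma B.3.** -/
theorem lSeq_compare_pCore (hodd : Odd (Nat.card G)) (hp : p ≠ 2) (hO : pPrimeCore p G = ⊥)
    (S : Sylow p G) (n : ℕ) :
    lSeq (S : Subgroup G) (2 * n) ≤ lSeq (pCore p G) (2 * n) ∧
      lSeq (pCore p G) (2 * n + 1) ≤ lSeq (S : Subgroup G) (2 * n + 1) := by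
  have hTp : IsPGroup p (pCore p G) := Cfsg.Agent.Lib.Helper17.pCore_isPGroup p G
  have hTS : pCore p G ≤ S := Cfsg.Agent.Lib.Helper24.normal_pgroup_le_sylow _ hTp S
  induction n with
  | zero =>
    refine ⟨by simp [lSeq_zero], ?_⟩
    show lSeq (pCore p G) 1 ≤ lSeq (S : Subgroup G) 1
    rw [lSeq_one, lSeq_one]
    exact hTS
  | succ n ih =>
    have e1 : 2 * (n + 1) = (2 * n + 1) + 1 := by ring
    have e2 : 2 * (n + 1) + 1 = (2 * n + 1 + 1) + 1 := by ring
    have h1 : lSeq (S : Subgroup G) (2 * (n + 1)) ≤ lSeq (pCore p G) (2 * (n + 1)) := by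
      rw [e1, lSeq_succ, lSeq_succ]
      apply sSup_le
      rintro A ⟨hAS, hAc, hLA⟩
      haveI := lSeq_normal_of_normal (pCore p G) (2 * n + 1)
      have hAT : A ≤ pCore p G :=
        le_pCore_of_normalized hodd hp hO (lSeq (pCore p G) (2 * n + 1))
          (hTp.to_le (lSeq_le _ _))
          (inf_centralizer_lSeq_le (pCore p G) hTp _ (Nat.succ_pos _)) A hAc
          (S.isPGroup'.to_le hAS) (ih.2.trans hLA)
      exact le_lStep hAT hAc (ih.2.trans hLA)
    refine ⟨h1, ?_⟩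
    rw [e2, lSeq_succ, lSeq_succ (H := (S : Subgroup G))]
    rw [e1] at h1
    exact lStep_mono hTS h1

theorem LL_le_LL_pCore (hodd : Odd (Nat.card G)) (hp : p ≠ 2) (hO : pPrimeCore p G = ⊥)
    (S : Sylow p G) : LL (S : Subgroup G) ≤ LL (pCore p G) := by
  obtain ⟨k, hk⟩ := lSeq_stabilizes (pCore p G)
  obtain ⟨k', hk'⟩ := lSeq_stabilizes (S : Subgroup G)
  rw [← (hk (max k k') (le_max_left _ _)).1, ← (hk' (max k k') (le_max_right _ _)).1]
  exact (lSeq_compare_pCore hodd hp hO S _).1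

theorem LU_pCore_le_LU (hodd : Odd (Nat.card G)) (hp : p ≠ 2) (hO : pPrimeCore p G = ⊥)
    (S : Sylow p G) : LU (pCore p G) ≤ LU (S : Subgroup G) := by
  obtain ⟨k, hk⟩ := lSeq_stabilizes (pCore p G)
  obtain ⟨k', hk'⟩ := lSeq_stabilizes (S : Subgroup G)
  rw [← (hk (max k k') (le_max_left _ _)).2, ← (hk' (max k k') (le_max_right _ _)).2]
  exact (lSeq_compare_pCore hodd hp hO S _).2

/-- **Puig's theorem (B & G, Theorem B.4)**: `Z(L(S))` is normal when `O_{p'}(G) = 1`. -/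
theorem zOf_LU_normal (hodd : Odd (Nat.card G)) (hp : p ≠ 2) (hO : pPrimeCore p G = ⊥)
    (S : Sylow p G) : (zOf (LU (S : Subgroup G))).Normal := by
  set T := pCore p G with hT
  have hTp : IsPGroup p T := Cfsg.Agent.Lib.Helper17.pCore_isPGroup p G
  have hTS : T ≤ S := Cfsg.Agent.Lib.Helper24.normal_pgroup_le_sylow _ hTp S
  have hSp : IsPGroup p (S : Subgroup G) := S.isPGroup'
  have hLUTS : LU T ≤ LU (S : Subgroup G) := LU_pCore_le_LU hodd hp hO S
  set Y := zOf (LU T) with hY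
  haveI hLUTn : (LU T).Normal := LU_normal_of_normal T
  haveI hYn : Y.Normal := by
    rw [← Subgroup.normalizer_eq_top_iff, eq_top_iff]
    refine le_trans ?_ (normalizer_le_normalizer_zOf (LU T))
    rw [Subgroup.normalizer_eq_top_iff.mpr hLUTn]
  have hYT : Y ≤ T := inf_le_left.trans (LU_le T)
  have hYp : IsPGroup p Y := hTp.to_le hYT
  have hYab := zOf_comm (LU T)
  set Z := zOf (LU (S : Subgroup G)) with hZ
  have hZS : Z ≤ S := inf_le_left.trans (LU_le _)
  have hZab := zOf_comm (LU (S : Subgroup G))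
  have hSNZ : (S : Subgroup G) ≤ Subgroup.normalizer (Z : Set G) :=
    (Subgroup.le_normalizer.trans (normalizer_le_normalizer_LU (S : Subgroup G))).trans
      (normalizer_le_normalizer_zOf _)
  have hZT : Z ≤ T :=
    le_pCore_of_normalized hodd hp hO T hTp inf_le_left Z hZab (hSp.to_le hZS) (hTS.trans hSNZ)
  have hZY : Z ≤ Y := by
    intro z hz
    have hzC : z ∈ Subgroup.centralizer (LU T : Set G) := Subgroup.centralizer_le hLUTS hz.2
    exact ⟨inf_centralizer_LU_le T hTp ⟨hZT hz, hzC⟩, hzC⟩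
  have hYLL : Y ≤ LL (S : Subgroup G) := by
    obtain ⟨k, hk⟩ := lSeq_stabilizes (S : Subgroup G)
    rw [← (hk (k + 1) (Nat.le_succ k)).1]
    have e : 2 * (k + 1) = (2 * k + 1) + 1 := by ring
    rw [e, lSeq_succ]
    apply le_lStep (hYT.trans hTS) hYab
    rw [Subgroup.normalizer_eq_top_iff.mpr hYn]
    exact le_top
  have hstY := Cfsg.Agent.Lib.Helper27.OddStable.isPStableOn_of_odd hp hodd Y hYp
  have hLC : LU (S : Subgroup G) ≤ Cfsg.Agent.Lib.Helper27.kSub p Y := by
    rw [← lStep_LL]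
    apply sSup_le
    rintro A ⟨hAS, hAc, hLA⟩ a ha
    rw [Cfsg.Agent.Lib.Helper27.mem_kSub_iff]
    apply hstY a
    rw [Subgroup.commutator_eq_bot_iff_le_centralizer]
    have h1 : ⁅Y, Subgroup.zpowers a⁆ ≤ A := by
      rw [Subgroup.commutator_le]
      intro y hy z hz
      have hzA : z ∈ A := (Subgroup.zpowers_le.mpr ha) hz
      have h2 : y * z * y⁻¹ ∈ A := ((Subgroup.mem_normalizer_iff.mp (hLA (hYLL hy))) z).mp hzA
      rw [commutatorElement_def]
      exact A.mul_mem h2 (A.inv_mem hzA)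
    refine h1.trans ?_
    intro x hx
    rw [Subgroup.mem_centralizer_iff]
    intro z hz
    exact hAc z ((Subgroup.zpowers_le.mpr ha) hz) x hx
  set C := Cfsg.Agent.Lib.Helper27.kSub p Y with hC
  set R := (S : Subgroup G) ⊓ C with hR
  have hLR : LU (S : Subgroup G) ≤ R := le_inf (LU_le _) hLC
  have hLUR : LU R = LU (S : Subgroup G) := LU_eq_of_le inf_le_left hLR
  have hfr : Subgroup.normalizer (R : Set G) ⊔ C = ⊤ := Cfsg.Agent.Lib.Helper27.frattini_inf S C
  have hCle : C ≤ R ⊔ Subgroup.centralizer (Y : Set G) := Cfsg.Agent.Lib.Helper27.kSub_le_sup S Y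
  have htop : Subgroup.normalizer (R : Set G) ⊔ Subgroup.centralizer (Y : Set G) = ⊤ := by
    rw [eq_top_iff, ← hfr]
    apply sup_le le_sup_left
    exact hCle.trans (sup_le (Subgroup.le_normalizer.trans le_sup_left) le_sup_right)
  have hN1 : Subgroup.normalizer (R : Set G) ≤ Subgroup.normalizer (Z : Set G) := by
    have h1 := normalizer_le_normalizer_LU R
    rw [hLUR] at h1
    exact h1.trans (normalizer_le_normalizer_zOf _)
  have hN2 : Subgroup.centralizer (Y : Set G) ≤ Subgroup.normalizer (Z : Set G) := by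
    apply le_normalizer_of_conj_mem'
    intro c hc z hz
    have h3 := (Subgroup.mem_centralizer_iff.mp hc) z (hZY hz)
    have e : c * z * c⁻¹ = z := by rw [← h3]; group
    rw [e]
    exact hz
  rw [← Subgroup.normalizer_eq_top_iff, eq_top_iff, ← htop]
  exact sup_le hN1 hN2

/-- **B & G, Theorem B.4(a)**: `G = O_{p'}(G) N_G(Z(L(S)))`. -/
theorem pPrimeCore_sup_normalizer_zOf_LU (hodd : Odd (Nat.card G)) (hp : p ≠ 2) (S : Sylow p G) :
    pPrimeCore p G ⊔ Subgroup.normalizer (zOf (LU (S : Subgroup G)) : Set G) = ⊤ := by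
  set K := pPrimeCore p G with hK
  set π := QuotientGroup.mk' K with hπ
  have hπs : Function.Surjective π := QuotientGroup.mk'_surjective K
  have hker : π.ker = K := QuotientGroup.ker_mk' K
  have hoddQ : Odd (Nat.card (G ⧸ K)) := Odd.of_dvd_nat hodd (Subgroup.card_quotient_dvd_card K)
  have hOq : pPrimeCore p (G ⧸ K) = ⊥ := Cfsg.Agent.Lib.Helper24.pPrimeCore_quotient_eq_bot' p
  have hSp : IsPGroup p (S : Subgroup G) := S.isPGroup'
  have hKS : ∀ x, x ∈ K → x ∈ (S : Subgroup G) → x = 1 :=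
    fun x hxK hxS => Cfsg.Agent.Lib.Helper27.eq_one_of_mem_pPrimeCore_of_mem hSp hxK hxS
  have hinj : ∀ x ∈ (S : Subgroup G), ∀ y ∈ (S : Subgroup G), π x = π y → x = y := by
    intro x hx y hy hxy
    have h1 : x⁻¹ * y ∈ K := by
      rw [← hker, MonoidHom.mem_ker, map_mul, map_inv, hxy, inv_mul_cancel]
    have h2 := hKS _ h1 (Subgroup.mul_mem _ (Subgroup.inv_mem _ hx) hy)
    calc x = x * (x⁻¹ * y) * y⁻¹ * y := by rw [h2]; group
      _ = y := by group
  set Sb : Sylow p (G ⧸ K) := S.mapSurjective hπs with hSb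
  have hSbcoe : (Sb : Subgroup (G ⧸ K)) = (S : Subgroup G).map π := Sylow.coe_mapSurjective _ _
  have hn : (zOf (LU (Sb : Subgroup (G ⧸ K)))).Normal := zOf_LU_normal hoddQ hp hOq Sb
  rw [hSbcoe, LU_map_of_injOn π (S : Subgroup G) hinj] at hn
  set L := LU (S : Subgroup G) with hL
  set Z := zOf L with hZ
  have hLS : L ≤ S := LU_le _
  -- key claim
  have key : ∀ x, π x ∈ zOf (L.map π) → ∃ l ∈ Z, π x = π l := by
    intro x hx
    obtain ⟨⟨l, hl, hlx⟩, hC⟩ := hx
    have hC' : π x ∈ Subgroup.centralizer ((L.map π : Subgroup (G ⧸ K)) : Set (G ⧸ K)) := hC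
    refine ⟨l, Subgroup.mem_inf.mpr ⟨hl, ?_⟩, hlx.symm⟩
    rw [Subgroup.mem_centralizer_iff]
    intro l' hl'
    apply hinj _ (Subgroup.mul_mem _ (hLS hl') (hLS hl)) _ (Subgroup.mul_mem _ (hLS hl) (hLS hl'))
    rw [map_mul, map_mul, hlx]
    exact (Subgroup.mem_centralizer_iff.mp hC') (π l') ⟨l', hl', rfl⟩
  have hfwd : ∀ z ∈ Z, π z ∈ zOf (L.map π) := by
    intro z hz
    refine Subgroup.mem_inf.mpr ⟨⟨z, hz.1, rfl⟩, ?_⟩
    rw [Subgroup.mem_centralizer_iff]
    rintro _ ⟨l', hl', rfl⟩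
    rw [← map_mul, ← map_mul, (Subgroup.mem_centralizer_iff.mp hz.2) l' hl']
  set M := (zOf (L.map π)).comap π with hM
  haveI hMn : M.Normal := hn.comap π
  have hfr := Cfsg.Agent.Lib.Helper27.frattini_inf S M
  have hSM : (S : Subgroup G) ⊓ M = Z := by
    apply le_antisymm
    · rintro x ⟨hxS, hxM⟩
      obtain ⟨l, hlZ, hxl⟩ := key x hxM
      have : x = l := hinj x hxS l (hLS hlZ.1) hxl
      rw [this]
      exact hlZ
    · intro z hz
      exact ⟨hLS hz.1, hfwd z hz⟩
  have hMle : M ≤ K ⊔ Z := by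
    intro x hxM
    obtain ⟨l, hlZ, hxl⟩ := key x hxM
    have h1 : l⁻¹ * x ∈ K := by
      rw [← hker, MonoidHom.mem_ker, map_mul, map_inv, hxl, inv_mul_cancel]
    have : x = l * (l⁻¹ * x) := by group
    rw [this]
    exact Subgroup.mul_mem _ (Subgroup.mem_sup_right hlZ) (Subgroup.mem_sup_left h1)
  rw [hSM] at hfr
  rw [eq_top_iff, ← hfr]
  apply sup_le le_sup_right
  exact hMle.trans (sup_le le_sup_left (Subgroup.le_normalizer.trans le_sup_right))

end Cfsg.Agent.Lib.Helper27.PuigOdd
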