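import Mathlib
import Cfsg.Prelude.Def_LocalEven

set_option autoImplicit false

namespace Cfsg.Agent.Lib.Helper27

universe u v w

/-- A surjective homomorphism from a subgroup `K` of `G` onto `H` shows that `H` is involved in `G`. -/
theorem involves_of_surjective_on_subgroup {H : Type u} [Group H] {G : Type v} [Group G]
    (K : Subgroup G) (g : K →* H) (hg : Function.Surjective g) : Cfsg.Involves H G := by
  have hker : ((g.ker).map K.subtype).subgroupOf K = g.ker := by
    show ((g.ker).map K.subtype).comap K.subtype = g.ker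
    exact Subgroup.comap_map_eq_self_of_injective K.subtype_injective _
  have hn : (((g.ker).map K.subtype).subgroupOf K).Normal := by
    rw [hker]; infer_instance
  refine ⟨K, (g.ker).map K.subtype, hn, ⟨?_⟩⟩
  exact (QuotientGroup.quotientMulEquivOfEq hker).trans (QuotientGroup.quotientKerEquivOfSurjective g hg)

/-- If a group `X` surjects onto `H` and embeds in `G`, then `H` is involved in `G`. -/
theorem involves_of_surjective_of_injective {H : Type u} [Group H] {G : Type v} [Group G]
    {X : Type w} [Group X] (g : X →* H) (hg : Function.Surjective g) (j : X →* G)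
    (hj : Function.Injective j) : Cfsg.Involves H G := by
  let e : X ≃* j.range := MonoidHom.ofInjective hj
  refine involves_of_surjective_on_subgroup j.range (g.comp e.symm.toMonoidHom) ?_
  intro h
  obtain ⟨x, rfl⟩ := hg h
  exact ⟨e x, by simp⟩

/-- A finite `p`-group embedded in a finite group embeds in any given Sylow `p`-subgroup. -/
theorem exists_injective_to_sylow {L : Type u} [Group L] [Finite L] {p : ℕ} [Fact p.Prime]
    (T : Sylow p L) {X : Type v} [Group X] (hX : IsPGroup p X) (i : X →* L)
    (hi : Function.Injective i) : ∃ j : X →* ↥(T : Subgroup L), Function.Injective j := by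
  have hr : IsPGroup p i.range := by
    exact IsPGroup.of_surjective hX i.rangeRestrict i.rangeRestrict_surjective
  obtain ⟨T', hT'⟩ := hr.exists_le_sylow
  obtain ⟨c, hc⟩ := MulAction.exists_smul_eq L T' T
  have hmem : ∀ x : X, ((MulAut.conj c).toMonoidHom.comp i) x ∈ (T : Subgroup L) := by
    intro x
    rw [← hc]
    show c * i x * c⁻¹ ∈ ((c • T' : Sylow p L) : Subgroup L)
    rw [Sylow.coe_subgroup_smul]
    exact ⟨i x, hT' ⟨x, rfl⟩, rfl⟩
  refine ⟨((MulAut.conj c).toMonoidHom.comp i).codRestrict _ hmem, ?_⟩
  intro x y hxy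
  have h1 : c * i x * c⁻¹ = c * i y * c⁻¹ := congrArg Subtype.val hxy
  exact hi (mul_left_cancel (mul_right_cancel h1))

/-- If `H` is involved in the finite group `L` and `Q` is a `p`-subgroup of `H`, then `Q` is involved in every
Sylow `p`-subgroup of `L`. -/
theorem involves_sylow_of_involves {L : Type u} [Group L] [Finite L] {p : ℕ} [Fact p.Prime]
    (T : Sylow p L) {H : Type v} [Group H] (hHL : Cfsg.Involves H L) (Q : Subgroup H) (hQ : IsPGroup p Q) :
    Cfsg.Involves (↥Q) (↥(T : Subgroup L)) := by
  obtain ⟨K, R, hn, ⟨e⟩⟩ := hHL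
  let f : ↥K →* H := e.toMonoidHom.comp (QuotientGroup.mk' (R.subgroupOf K))
  have hf : Function.Surjective f := by
    intro h
    obtain ⟨x, hx⟩ := QuotientGroup.mk'_surjective (R.subgroupOf K) (e.symm h)
    refine ⟨x, ?_⟩
    show e ((QuotientGroup.mk' (R.subgroupOf K)) x) = h
    rw [hx]
    simp
  let g : ↥(Q.comap f) →* ↥Q := f.subgroupComap Q
  have hgs : Function.Surjective g := f.subgroupComap_surjective_of_surjective Q hf
  -- the unique Sylow subgroup of the p-group Q is the whole group
  obtain ⟨P₀⟩ : Nonempty (Sylow p ↥Q) := Sylow.nonempty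
  have hP₀ : (P₀ : Subgroup ↥Q) = ⊤ := (P₀.is_maximal' (hQ.to_subgroup ⊤) le_top).symm
  haveI : Finite ↥(Q.comap f) := inferInstance
  obtain ⟨P, hP⟩ := Sylow.mapSurjective_surjective hgs p P₀
  have hPmap : (P : Subgroup ↥(Q.comap f)).map g = ⊤ := by
    rw [← hP₀, ← hP, Sylow.coe_mapSurjective]
  have hg's : Function.Surjective (g.comp (P : Subgroup ↥(Q.comap f)).subtype) := by
    intro q
    have hq : q ∈ (P : Subgroup ↥(Q.comap f)).map g := by rw [hPmap]; trivial
    obtain ⟨x, hx, rfl⟩ := hq
    exact ⟨⟨x, hx⟩, rfl⟩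
  have hi : Function.Injective
      (K.subtype.comp ((Q.comap f).subtype.comp (P : Subgroup ↥(Q.comap f)).subtype)) := by
    intro x y hxy
    apply Subtype.ext
    apply Subtype.ext
    apply Subtype.ext
    exact hxy
  obtain ⟨j, hj⟩ := exists_injective_to_sylow T P.isPGroup' _ hi
  exact involves_of_surjective_of_injective _ hg's j hj

/-- Being involved transfers along injective homomorphisms. -/
theorem involves_of_injective {H : Type u} [Group H] {G₁ : Type v} [Group G₁] {G₂ : Type w} [Group G₂]
    (j : G₁ →* G₂) (hj : Function.Injective j) (h : Cfsg.Involves H G₁) : Cfsg.Involves H G₂ := by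
  obtain ⟨K, R, hn, ⟨e⟩⟩ := h
  refine involves_of_surjective_of_injective (e.toMonoidHom.comp (QuotientGroup.mk' (R.subgroupOf K))) ?_
    (j.comp K.subtype) (hj.comp K.subtype_injective)
  intro h
  obtain ⟨x, hx⟩ := QuotientGroup.mk'_surjective (R.subgroupOf K) (e.symm h)
  refine ⟨x, ?_⟩
  show e ((QuotientGroup.mk' (R.subgroupOf K)) x) = h
  rw [hx]
  simp

end Cfsg.Agent.Lib.Helper27
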