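import Mathlib
import Cfsg.Prelude.Def_LocalEven
import Cfsg.Agent.Lib.Helper21.QdAlt
import Cfsg.Agent.Lib.Helper27.Involves

/-!
# A natural `SL₂(p)`-module inside a group gives a `Qd(p)` section (helper27)

`involves_qd_of_natural`: if `f : X →* SL₂(p)` is onto, `ι : (ZMod p)² →* X` is injective and
conjugation by `x` on the image of `ι` is multiplication by the matrix `f x`, then `Qd(p)` is
involved in `X` (`p` odd). The proof splits off the module by a Frattini argument on a Sylow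
`2`-subgroup of the preimage of `±1`.
-/

set_option autoImplicit false
set_option linter.style.haveILetI false
set_option linter.unusedSectionVars false

namespace Cfsg.Agent.Lib.Helper27.QdNatural

open Matrix

variable {p : ℕ} [hpF : Fact p.Prime]

/-- the plane `(ZMod p)²`, written multiplicatively -/
abbrev Vec (p : ℕ) := Multiplicative (Fin 2 → ZMod p)

/-- the affine matrix with linear part `A` and translation part `v` -/
def affMat (A : Matrix (Fin 2) (Fin 2) (ZMod p)) (v : Fin 2 → ZMod p) :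
    Matrix (Fin 3) (Fin 3) (ZMod p) :=
  !![A 0 0, A 0 1, v 0; A 1 0, A 1 1, v 1; 0, 0, 1]

theorem affMat_mul (A B : Matrix (Fin 2) (Fin 2) (ZMod p)) (v w : Fin 2 → ZMod p) :
    affMat A v * affMat B w = affMat (A * B) (A *ᵥ w + v) := by
  ext i j
  fin_cases i <;> fin_cases j <;>
    simp [affMat, Matrix.mul_apply, Fin.sum_univ_three, Fin.sum_univ_two, Matrix.mulVec, dotProduct]

theorem det_affMat (A : Matrix (Fin 2) (Fin 2) (ZMod p)) (v : Fin 2 → ZMod p) :
    (affMat A v).det = A.det := by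
  rw [Matrix.det_fin_three, Matrix.det_fin_two]
  simp [affMat]

/-- the affine matrix as an element of `SL₃` -/
def affSL (A : SpecialLinearGroup (Fin 2) (ZMod p)) (v : Fin 2 → ZMod p) :
    SpecialLinearGroup (Fin 3) (ZMod p) :=
  ⟨affMat A.1 v, by rw [det_affMat]; exact A.2⟩

theorem affSL_mul (A B : SpecialLinearGroup (Fin 2) (ZMod p)) (v w : Fin 2 → ZMod p) :
    affSL A v * affSL B w = affSL (A * B) (A.1 *ᵥ w + v) := by
  apply Subtype.ext
  exact affMat_mul A.1 B.1 v w

theorem affSL_mem_qd (A : SpecialLinearGroup (Fin 2) (ZMod p)) (v : Fin 2 → ZMod p) :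
    affSL A v ∈ Cfsg.qd p := by
  rw [Cfsg.Agent.Lib.Helper21.QdAlt.qd_eq, Cfsg.Agent.Lib.Helper21.QdAlt.mem_lastRow]
  refine ⟨?_, ?_, ?_⟩ <;> simp [affSL, affMat]

theorem exists_affSL_of_mem_qd (M : SpecialLinearGroup (Fin 3) (ZMod p)) (hM : M ∈ Cfsg.qd p) :
    ∃ (A : SpecialLinearGroup (Fin 2) (ZMod p)) (v : Fin 2 → ZMod p), M = affSL A v := by
  rw [Cfsg.Agent.Lib.Helper21.QdAlt.qd_eq, Cfsg.Agent.Lib.Helper21.QdAlt.mem_lastRow] at hM
  obtain ⟨h0, h1, h2⟩ := hM
  have hdet := M.2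
  rw [Matrix.det_fin_three] at hdet
  simp only [h0, h1, h2, mul_zero, mul_one, sub_zero, add_zero, zero_mul] at hdet
  refine ⟨⟨!![M.1 0 0, M.1 0 1; M.1 1 0, M.1 1 1], ?_⟩, ![M.1 0 2, M.1 1 2], ?_⟩
  · rw [Matrix.det_fin_two]
    simp only [Matrix.of_apply, Matrix.cons_val', Matrix.cons_val_zero, Matrix.cons_val_one,
      Matrix.empty_val', Matrix.cons_val_fin_one, Matrix.head_cons]
    linear_combination hdet
  · apply Subtype.ext
    ext i j
    fin_cases i <;> fin_cases j <;> simp [affSL, affMat, h0, h1, h2]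

/-- the action of `SL₂(p)` on the plane -/
def vecAutFun (A : SpecialLinearGroup (Fin 2) (ZMod p)) : Vec p ≃* Vec p where
  toFun v := Multiplicative.ofAdd (A.1 *ᵥ Multiplicative.toAdd v)
  invFun v := Multiplicative.ofAdd ((A⁻¹).1 *ᵥ Multiplicative.toAdd v)
  left_inv v := by
    have h : (A⁻¹).1 * A.1 = 1 := congrArg Subtype.val (inv_mul_cancel A)
    simp only [toAdd_ofAdd, Matrix.mulVec_mulVec]
    rw [h, Matrix.one_mulVec, ofAdd_toAdd]
  right_inv v := by
    have h : A.1 * (A⁻¹).1 = 1 := congrArg Subtype.val (mul_inv_cancel A)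
    simp only [toAdd_ofAdd, Matrix.mulVec_mulVec]
    rw [h, Matrix.one_mulVec, ofAdd_toAdd]
  map_mul' v w := by
    simp only [toAdd_mul, Matrix.mulVec_add, ofAdd_add]

/-- the action of `SL₂(p)` on the plane, as a homomorphism -/
def vecAut : SpecialLinearGroup (Fin 2) (ZMod p) →* MulAut (Vec p) where
  toFun := vecAutFun
  map_one' := by
    apply MulEquiv.ext
    intro v
    show Multiplicative.ofAdd ((1 : SpecialLinearGroup (Fin 2) (ZMod p)).1 *ᵥ
      Multiplicative.toAdd v) = v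
    have h : (1 : SpecialLinearGroup (Fin 2) (ZMod p)).1 = 1 := rfl
    rw [h, Matrix.one_mulVec, ofAdd_toAdd]
  map_mul' A B := by
    apply MulEquiv.ext
    intro v
    show Multiplicative.ofAdd ((A * B).1 *ᵥ Multiplicative.toAdd v) =
      Multiplicative.ofAdd (A.1 *ᵥ Multiplicative.toAdd
        (Multiplicative.ofAdd (B.1 *ᵥ Multiplicative.toAdd v)))
    rw [toAdd_ofAdd, Matrix.mulVec_mulVec]
    rfl

theorem vecAut_apply (A : SpecialLinearGroup (Fin 2) (ZMod p)) (v : Vec p) :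
    vecAut A v = Multiplicative.ofAdd (A.1 *ᵥ Multiplicative.toAdd v) := rfl

theorem vecAut_neg_one (v : Vec p) : vecAut (-1 : SpecialLinearGroup (Fin 2) (ZMod p)) v = v⁻¹ := by
  rw [vecAut_apply]
  simp [Matrix.neg_mulVec]

theorem vec_pow_prime (v : Vec p) : v ^ p = 1 := by
  rw [← ofAdd_toAdd v, ← ofAdd_nsmul]
  have : p • Multiplicative.toAdd v = 0 := by
    ext i
    simp
  rw [this]
  rfl

section main

variable {X : Type*} [Group X]

/-- Frattini splitting: a subgroup `D` covering `SL₂(p)` and meeting the module trivially. -/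
theorem exists_split [Finite X] (hp : p ≠ 2) (f : X →* SpecialLinearGroup (Fin 2) (ZMod p))
    (hf : Function.Surjective f) (ι : Vec p →* X) (hι : Function.Injective ι)
    (hconj : ∀ x v, x * ι v * x⁻¹ = ι (vecAut (f x) v)) :
    ∃ D : Subgroup X, (∀ A, ∃ d ∈ D, f d = A) ∧ ∀ v, ι v ∈ D → v = 1 := by
  haveI : Fact (Nat.Prime 2) := ⟨Nat.prime_two⟩
  obtain ⟨z₀, hz₀⟩ := hf (-1)
  obtain ⟨a, m, hm, hord⟩ := Nat.exists_eq_two_pow_mul_odd (orderOf_pos z₀).ne'
  set z := z₀ ^ m with hz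
  have hfz : f z = -1 := by rw [hz, map_pow, hz₀, hm.neg_one_pow]
  have hz2 : z ^ 2 ^ a = 1 := by
    rw [hz, ← pow_mul, mul_comm, ← hord, pow_orderOf_eq_one]
  set Zc : Subgroup (SpecialLinearGroup (Fin 2) (ZMod p)) := Subgroup.zpowers (-1) with hZc
  haveI hZcn : Zc.Normal := by
    refine ⟨fun n hn g => ?_⟩
    obtain ⟨k, rfl⟩ := Subgroup.mem_zpowers_iff.mp hn
    have hcomm : Commute ((-1 : SpecialLinearGroup (Fin 2) (ZMod p)) ^ k) g :=
      (Commute.neg_one_left g).zpow_left k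
    have h1 : g * (-1) ^ k * g⁻¹ = (-1) ^ k := by
      rw [← hcomm.eq, mul_inv_cancel_right]
    rw [h1]
    exact Subgroup.zpow_mem_zpowers _ _
  set M : Subgroup X := Zc.comap f with hM
  haveI hMn : M.Normal := Subgroup.Normal.comap hZcn f
  have hzM : z ∈ M := by
    rw [hM, Subgroup.mem_comap, hfz]
    exact Subgroup.mem_zpowers _
  have h2grp : IsPGroup 2 (Subgroup.zpowers (⟨z, hzM⟩ : M)) := by
    rintro ⟨g, hg⟩
    obtain ⟨k, rfl⟩ := Subgroup.mem_zpowers_iff.mp hg
    refine ⟨a, Subtype.ext (Subtype.ext ?_)⟩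
    simp only [Subgroup.coe_pow, Subgroup.coe_zpow, Subgroup.coe_one]
    rw [← zpow_natCast, ← _root_.zpow_mul, mul_comm, _root_.zpow_mul, zpow_natCast, hz2, _root_.one_zpow]
  obtain ⟨Z₂, hZ₂⟩ := h2grp.exists_le_sylow
  set Z₂' : Subgroup X := (Z₂ : Subgroup M).map M.subtype with hZ₂'
  have hzZ : z ∈ Z₂' := ⟨⟨z, hzM⟩, hZ₂ (Subgroup.mem_zpowers _), rfl⟩
  set D : Subgroup X := Subgroup.normalizer (Z₂' : Set X) with hD
  have hfr : D ⊔ M = ⊤ := Sylow.normalizer_sup_eq_top Z₂
  have hzD : z ∈ D := Subgroup.le_normalizer hzZ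
  refine ⟨D, ?_, ?_⟩
  · intro A
    obtain ⟨x, rfl⟩ := hf A
    have hx : x ∈ ((D ⊔ M : Subgroup X) : Set X) := by rw [hfr]; trivial
    rw [Subgroup.mul_normal] at hx
    obtain ⟨d, hd, m', hm', rfl⟩ := Set.mem_mul.mp hx
    have hm'' : f m' ∈ Zc := hm'
    obtain ⟨k, hk⟩ := Subgroup.mem_zpowers_iff.mp hm''
    refine ⟨d * z ^ k, D.mul_mem hd (D.zpow_mem hzD k), ?_⟩
    rw [map_mul, map_mul, map_zpow, hfz, hk]
  · intro v hv
    have h1 : ι v * z * (ι v)⁻¹ ∈ Z₂' := (Subgroup.mem_normalizer_iff.mp hv z).mp hzZ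
    have hc : ι v * z * (ι v)⁻¹ * z⁻¹ ∈ Z₂' := Z₂'.mul_mem h1 (Z₂'.inv_mem hzZ)
    have hc' : ι v * z * (ι v)⁻¹ * z⁻¹ = ι (v * v) := by
      have h2 := hconj z v⁻¹
      rw [hfz, vecAut_neg_one, inv_inv, map_inv] at h2
      calc ι v * z * (ι v)⁻¹ * z⁻¹ = ι v * (z * (ι v)⁻¹ * z⁻¹) := by group
        _ = ι v * ι v := by rw [h2]
        _ = ι (v * v) := (map_mul ι v v).symm
    rw [hc'] at hc
    have hZ2 : IsPGroup 2 Z₂' := Z₂.2.map _
    obtain ⟨k, hk⟩ := hZ2 ⟨_, hc⟩
    have hk' : ι ((v * v) ^ 2 ^ k) = 1 := by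
      rw [map_pow]
      have := congrArg Subtype.val hk
      simpa using this
    have hk'' : (v * v) ^ 2 ^ k = 1 := hι (by rw [hk', map_one])
    have h2 : v ^ 2 ^ (k + 1) = 1 := by
      rw [pow_succ', pow_mul, pow_two]
      exact hk''
    have hcop : Nat.Coprime (2 ^ (k + 1)) p :=
      Nat.Coprime.pow_left (k + 1) ((Nat.coprime_primes Nat.prime_two hpF.out).mpr (Ne.symm hp))
    have hd1 : orderOf v ∣ 2 ^ (k + 1) := orderOf_dvd_of_pow_eq_one h2
    have hd2 : orderOf v ∣ p := orderOf_dvd_of_pow_eq_one (vec_pow_prime v)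
    have hd3 : orderOf v ∣ 1 := by
      have := Nat.dvd_gcd hd1 hd2
      rwa [hcop] at this
    exact orderOf_eq_one_iff.mp (Nat.dvd_one.mp hd3)

/-- **A natural module gives a `Qd(p)` section.** -/
theorem involves_qd_of_natural [Finite X] (hp : p ≠ 2)
    (f : X →* SpecialLinearGroup (Fin 2) (ZMod p))
    (hf : Function.Surjective f) (ι : Vec p →* X) (hι : Function.Injective ι)
    (hconj : ∀ x v, x * ι v * x⁻¹ = ι (vecAut (f x) v)) :
    Cfsg.Involves ↥(Cfsg.qd p) X := by
  obtain ⟨D, hDs, hDι⟩ := exists_split hp f hf ι hι hconj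
  let φ : D →* MulAut (Vec p) := vecAut.comp (f.comp D.subtype)
  let j : Vec p ⋊[φ] D →* X := SemidirectProduct.lift ι D.subtype (by
    intro d
    ext v
    exact (hconj d v).symm)
  have hj : Function.Injective j := by
    rw [injective_iff_map_eq_one]
    intro s hs
    have h1 : ι s.left * (s.right : X) = 1 := hs
    have h2 : ι s.left = ((s.right)⁻¹ : D) := by
      rw [Subgroup.coe_inv]
      exact eq_inv_of_mul_eq_one_left h1
    have h3 : s.left = 1 := hDι _ (by rw [h2]; exact (s.right⁻¹).2)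
    have h4 : (s.right : X) = 1 := by
      rw [h3, map_one, one_mul] at h1
      exact h1
    apply SemidirectProduct.ext
    · exact h3
    · exact Subtype.ext h4
  let Φ : Vec p ⋊[φ] D →* ↥(Cfsg.qd p) :=
    { toFun := fun s => ⟨affSL (f s.right) (Multiplicative.toAdd s.left), affSL_mem_qd _ _⟩
      map_one' := by
        apply Subtype.ext
        apply Subtype.ext
        ext i j
        fin_cases i <;> fin_cases j <;> simp [affSL, affMat]
      map_mul' := by
        intro s t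
        apply Subtype.ext
        show affSL (f ((s * t).right : X)) (Multiplicative.toAdd (s * t).left) =
          affSL (f s.right) (Multiplicative.toAdd s.left) *
            affSL (f t.right) (Multiplicative.toAdd t.left)
        rw [affSL_mul, SemidirectProduct.mul_left, SemidirectProduct.mul_right, Subgroup.coe_mul,
          map_mul, toAdd_mul, add_comm]
        rfl }
  have hΦ : Function.Surjective Φ := by
    rintro ⟨M, hM⟩
    obtain ⟨A, v, rfl⟩ := exists_affSL_of_mem_qd M hM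
    obtain ⟨d, hd, rfl⟩ := hDs A
    exact ⟨⟨Multiplicative.ofAdd v, ⟨d, hd⟩⟩, rfl⟩
  exact Cfsg.Agent.Lib.Helper27.involves_of_surjective_of_injective Φ hΦ j hj

end main

end Cfsg.Agent.Lib.Helper27.QdNatural
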