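import Mathlib
import Cfsg.Prelude.Def_PLocal
import Cfsg.Prelude.Def_ConjugacyFunctors
import Cfsg.Agent.Lib.Helper27.ZJ3

/-!
# `Z(J(Q))` (abelian version) as an isomorphism-invariant `p`-group functor

Copy of the first part of `ZJ5.lean` without the import of `Helper12.ThompsonNPC0` (whose
`inducedFunctor_map_of_injOn` clashes with `Helper12.TransferSections`).
-/

set_option autoImplicit false

namespace Cfsg.Agent.Lib.Helper27.ZJFun

universe u

/-- `Z(J(Q))` for the abelian-version Thompson subgroup. -/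
def zjA (Q : Type u) [Group Q] : Subgroup Q :=
  Cfsg.thompsonSubgroupA Q ⊓ Subgroup.centralizer (Cfsg.thompsonSubgroupA Q : Set Q)

theorem mem_inf_centralizer_iff {Q : Type*} [Group Q] {J : Subgroup Q} {x : Q} :
    x ∈ J ⊓ Subgroup.centralizer (J : Set Q) ↔ x ∈ J ∧ ∀ j ∈ J, j * x = x * j := by
  rw [Subgroup.mem_inf, Subgroup.mem_centralizer_iff]
  rfl

theorem isMulCommutative_map_equiv {Q R : Type*} [Group Q] [Group R] (φ : Q ≃* R) {A : Subgroup Q}
    (hA : IsMulCommutative A) : IsMulCommutative (A.map φ.toMonoidHom) := by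
  rw [← abSub_iff] at hA ⊢
  rintro _ ⟨x, hx, rfl⟩ _ ⟨y, hy, rfl⟩
  show φ x * φ y = φ y * φ x
  rw [← map_mul, ← map_mul, hA x hx y hy]

theorem map_symm_map_equiv {Q R : Type*} [Group Q] [Group R] (φ : Q ≃* R) (B : Subgroup R) :
    (B.map φ.symm.toMonoidHom).map φ.toMonoidHom = B := by
  ext x
  simp [Subgroup.mem_map]

theorem maxAbelian_map_equiv {Q R : Type*} [Group Q] [Group R] (φ : Q ≃* R) {A : Subgroup Q}
    (hA : A ∈ Cfsg.maxAbelianSubgroups Q) : A.map φ.toMonoidHom ∈ Cfsg.maxAbelianSubgroups R := by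
  refine ⟨isMulCommutative_map_equiv φ hA.1, fun B hB => ?_⟩
  have h1 := hA.2 (B.map φ.symm.toMonoidHom) (isMulCommutative_map_equiv φ.symm hB)
  rw [Subgroup.card_map_of_injective φ.symm.injective] at h1
  rw [Subgroup.card_map_of_injective φ.injective]
  exact h1

theorem thompsonSubgroupA_map_equiv {Q R : Type*} [Group Q] [Group R] (φ : Q ≃* R) :
    (Cfsg.thompsonSubgroupA Q).map φ.toMonoidHom = Cfsg.thompsonSubgroupA R := by
  unfold Cfsg.thompsonSubgroupA
  apply le_antisymm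
  · rw [Subgroup.map_le_iff_le_comap]
    apply sSup_le
    intro A hA
    rw [← Subgroup.map_le_iff_le_comap]
    exact le_sSup (maxAbelian_map_equiv φ hA)
  · apply sSup_le
    intro B hB
    have h1 := maxAbelian_map_equiv φ.symm hB
    calc B = (B.map φ.symm.toMonoidHom).map φ.toMonoidHom := (map_symm_map_equiv φ B).symm
      _ ≤ (sSup (Cfsg.maxAbelianSubgroups Q)).map φ.toMonoidHom := Subgroup.map_mono (le_sSup h1)

theorem zjA_map_equiv {Q R : Type u} [Group Q] [Group R] (φ : Q ≃* R) :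
    (zjA Q).map φ.toMonoidHom = zjA R := by
  unfold zjA
  rw [← thompsonSubgroupA_map_equiv φ]
  ext y
  rw [Subgroup.mem_map, mem_inf_centralizer_iff]
  constructor
  · rintro ⟨x, hx, rfl⟩
    rw [mem_inf_centralizer_iff] at hx
    refine ⟨Subgroup.mem_map_of_mem _ hx.1, ?_⟩
    rintro _ ⟨j, hj, rfl⟩
    have := hx.2 j hj
    show φ j * φ x = φ x * φ j
    rw [← map_mul, ← map_mul, this]
  · rintro ⟨⟨x, hxJ, rfl⟩, hyC⟩
    refine ⟨x, ?_, rfl⟩
    rw [mem_inf_centralizer_iff]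
    refine ⟨hxJ, fun j hj => ?_⟩
    have := hyC _ (Subgroup.mem_map_of_mem φ.toMonoidHom hj)
    apply φ.injective
    rw [map_mul, map_mul]
    exact this

theorem center_le_zjA (Q : Type u) [Group Q] [Finite Q] : Subgroup.center Q ≤ zjA Q := by
  intro x hx
  have hxc : ∀ y : Q, y * x = x * y := fun y => (Subgroup.mem_center_iff.mp hx y)
  obtain ⟨A, hA⟩ := maxIn_nonempty (goodClass_abSub (G := Q)) ⊤
  have hA' : A ∈ Cfsg.maxAbelianSubgroups Q :=
    ⟨(abSub_iff A).mp hA.2.1, fun B hB => hA.2.2 B le_top ((abSub_iff B).mpr hB)⟩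
  have h1 : AbSub (A ⊔ Subgroup.zpowers x) :=
    goodClass_abSub.join A x hA.2.1 (abSub_zpowers x) (fun a _ => hxc a)
  have h3 := hA.2.2 _ le_top h1
  have h4 : A = A ⊔ Subgroup.zpowers x := Subgroup.eq_of_le_of_card_ge le_sup_left h3
  have hxA : x ∈ A := by
    rw [h4]; exact Subgroup.mem_sup_right (Subgroup.mem_zpowers x)
  unfold zjA
  rw [mem_inf_centralizer_iff]
  exact ⟨le_sSup hA' hxA, fun j _ => hxc j⟩

theorem isCharPFunctor_zjA (p : ℕ) [Fact p.Prime] :
    Cfsg.IsCharPFunctor.{u} p (fun (Q : Type u) [Group Q] => zjA Q) := by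
  refine ⟨?_, ?_⟩
  · intro Q _ _ hQ hnt hbot
    have := hQ.center_nontrivial
    have hc : Subgroup.center Q ≠ ⊥ := by
      rw [← Subgroup.nontrivial_iff_ne_bot]; exact this
    apply hc
    rw [eq_bot_iff, ← hbot]
    exact center_le_zjA Q
  · intro Q R _ _ _ _ φ
    exact zjA_map_equiv φ

/-- The induced functor of `zjA` is `centerThompsonAOf`. -/
theorem inducedFunctor_zjA {G : Type u} [Group G] (T : Subgroup G) :
    Cfsg.inducedFunctor (fun (Q : Type u) [Group Q] => zjA Q) T = Cfsg.centerThompsonAOf T := by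
  unfold Cfsg.inducedFunctor Cfsg.centerThompsonAOf Cfsg.thompsonSubgroupAOf zjA
  ext y
  rw [Subgroup.mem_map, mem_inf_centralizer_iff]
  constructor
  · rintro ⟨x, hx, rfl⟩
    rw [mem_inf_centralizer_iff] at hx
    refine ⟨Subgroup.mem_map_of_mem _ hx.1, ?_⟩
    rintro _ ⟨j, hj, rfl⟩
    have := hx.2 j hj
    exact congrArg Subtype.val this
  · rintro ⟨⟨x, hxJ, rfl⟩, hyC⟩
    refine ⟨x, ?_, rfl⟩
    rw [mem_inf_centralizer_iff]
    refine ⟨hxJ, fun j hj => ?_⟩
    apply Subtype.ext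
    exact hyC _ (Subgroup.mem_map_of_mem _ hj)

end Cfsg.Agent.Lib.Helper27.ZJFun
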