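import Mathlib
import Cfsg.Prelude.Def_LocalEven
import Cfsg.Agent.Lib.Helper27.QdNatural
import Cfsg.Agent.Lib.Helper27.ZJFun
import Cfsg.Agent.Lib.Helper20.QdNormalizer
import Cfsg.Agent.Lib.Helper12.Basic
import Cfsg.Agent.Lib.Helper1.Fitting

/-!
# `Z(J(T))` does not control strong fusion in `Qd(p)` (helper27)
-/

set_option autoImplicit false
set_option linter.style.haveILetI false
set_option linter.unusedSectionVars false

namespace Cfsg.Agent.Lib.Helper27.QdFusion

open Matrix Cfsg.Agent.Lib.Helper27.QdNatural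

variable {p : ℕ} [hpF : Fact p.Prime]

/-- the translation subgroup of `Qd(p)`, as a homomorphism from the plane -/
def transl : Vec p →* ↥(Cfsg.qd p) where
  toFun v := ⟨affSL 1 (Multiplicative.toAdd v), affSL_mem_qd _ _⟩
  map_one' := by
    apply Subtype.ext
    apply Subtype.ext
    ext i j
    fin_cases i <;> fin_cases j <;> simp [affSL, affMat]
  map_mul' v w := by
    apply Subtype.ext
    show affSL 1 (Multiplicative.toAdd (v * w)) =
      affSL 1 (Multiplicative.toAdd v) * affSL 1 (Multiplicative.toAdd w)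
    rw [affSL_mul, one_mul]
    have h : (1 : SpecialLinearGroup (Fin 2) (ZMod p)).1 = 1 := rfl
    rw [h, Matrix.one_mulVec, toAdd_mul, add_comm]

theorem transl_val (v : Vec p) : (transl v).1 = affSL 1 (Multiplicative.toAdd v) := rfl

theorem affSL_inj {A B : SpecialLinearGroup (Fin 2) (ZMod p)} {v w : Fin 2 → ZMod p}
    (h : affSL A v = affSL B w) : v = w := by
  have h1 := congrArg (fun M : SpecialLinearGroup (Fin 3) (ZMod p) => M.1) h
  simp only [affSL] at h1
  ext i
  fin_cases i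
  · have := congrFun (congrFun h1 0) 2
    simpa [affMat] using this
  · have := congrFun (congrFun h1 1) 2
    simpa [affMat] using this

theorem affSL_inj_left {A B : SpecialLinearGroup (Fin 2) (ZMod p)} {v w : Fin 2 → ZMod p}
    (h : affSL A v = affSL B w) : A = B := by
  have h1 := congrArg (fun M : SpecialLinearGroup (Fin 3) (ZMod p) => M.1) h
  simp only [affSL] at h1
  apply Subtype.ext
  ext i j
  fin_cases i <;> fin_cases j
  · have := congrFun (congrFun h1 0) 0
    simpa [affMat] using this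
  · have := congrFun (congrFun h1 0) 1
    simpa [affMat] using this
  · have := congrFun (congrFun h1 1) 0
    simpa [affMat] using this
  · have := congrFun (congrFun h1 1) 1
    simpa [affMat] using this

theorem transl_injective : Function.Injective (transl (p := p)) := by
  intro v w h
  have h1 : affSL 1 (Multiplicative.toAdd v) = affSL 1 (Multiplicative.toAdd w) :=
    congrArg Subtype.val h
  exact Multiplicative.toAdd.injective (affSL_inj h1)

theorem exists_rep (g : ↥(Cfsg.qd p)) :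
    ∃ (A : SpecialLinearGroup (Fin 2) (ZMod p)) (u : Fin 2 → ZMod p), g.1 = affSL A u :=
  exists_affSL_of_mem_qd g.1 g.2

/-- conjugation on translations is the linear action -/
theorem conj_transl (g : ↥(Cfsg.qd p)) (A : SpecialLinearGroup (Fin 2) (ZMod p))
    (u : Fin 2 → ZMod p) (hg : g.1 = affSL A u) (v : Vec p) :
    g * transl v * g⁻¹ = transl (vecAut A v) := by
  rw [mul_inv_eq_iff_eq_mul]
  apply Subtype.ext
  rw [Subgroup.coe_mul, Subgroup.coe_mul, transl_val, transl_val, hg, affSL_mul, affSL_mul, mul_one,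
    one_mul, vecAut_apply, toAdd_ofAdd]
  have h : (1 : SpecialLinearGroup (Fin 2) (ZMod p)).1 = 1 := rfl
  rw [h, Matrix.one_mulVec, add_comm]

/-- the translation subgroup -/
def Vt (p : ℕ) [Fact p.Prime] : Subgroup ↥(Cfsg.qd p) := (transl (p := p)).range

instance Vt_normal : (Vt p).Normal := by
  refine ⟨fun n hn g => ?_⟩
  obtain ⟨v, rfl⟩ := hn
  obtain ⟨A, u, hg⟩ := exists_rep g
  rw [conj_transl g A u hg v]
  exact ⟨_, rfl⟩

theorem Vt_isPGroup : IsPGroup p (Vt p) := by
  rintro ⟨_, v, rfl⟩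
  refine ⟨1, Subtype.ext ?_⟩
  rw [pow_one, Subgroup.coe_pow, ← map_pow, vec_pow_prime, map_one]
  rfl

theorem centralizer_Vt_le : Subgroup.centralizer ((Vt p : Subgroup ↥(Cfsg.qd p)) : Set ↥(Cfsg.qd p)) ≤
    Vt p := by
  intro g hg
  obtain ⟨A, u, hgr⟩ := exists_rep g
  have key : ∀ v : Vec p, vecAut A v = v := by
    intro v
    have h1 := (Subgroup.mem_centralizer_iff.mp hg) (transl v) ⟨v, rfl⟩
    have h2 : g * transl v * g⁻¹ = transl v := by
      rw [← h1, mul_inv_cancel_right]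
    rw [conj_transl g A u hgr v] at h2
    exact transl_injective h2
  have hA : A = 1 := by
    apply Subtype.ext
    ext i j
    have h1 := key (Multiplicative.ofAdd ![1, 0])
    have h2 := key (Multiplicative.ofAdd ![0, 1])
    rw [vecAut_apply] at h1 h2
    have h1' := Multiplicative.ofAdd.injective h1
    have h2' := Multiplicative.ofAdd.injective h2
    simp only [toAdd_ofAdd] at h1' h2'
    have e10 := congrFun h1' 0
    have e11 := congrFun h1' 1
    have e20 := congrFun h2' 0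
    have e21 := congrFun h2' 1
    simp [Matrix.mulVec, dotProduct, Fin.sum_univ_two] at e10 e11 e20 e21
    fin_cases i <;> fin_cases j <;> simp [e10, e11, e20, e21]
  refine ⟨Multiplicative.ofAdd u, ?_⟩
  apply Subtype.ext
  rw [transl_val, hgr, hA, toAdd_ofAdd]

/-- `SL₂` is transitive on nonzero vectors: moving `e₁`. -/
theorem exists_SL2_e1 (v : Fin 2 → ZMod p) (hv : v ≠ 0) :
    ∃ B : SpecialLinearGroup (Fin 2) (ZMod p), B.1 *ᵥ ![1, 0] = v := by
  by_cases h0 : v 0 = 0
  · have h1 : v 1 ≠ 0 := by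
      intro h1
      apply hv
      ext i
      fin_cases i
      · exact h0
      · exact h1
    refine ⟨⟨!![0, -(v 1)⁻¹; v 1, 0], ?_⟩, ?_⟩
    · rw [Matrix.det_fin_two]
      simp [h1]
    · ext i
      fin_cases i <;> simp [Matrix.mulVec, dotProduct, Fin.sum_univ_two, h0]
  · refine ⟨⟨!![v 0, 0; v 1, (v 0)⁻¹], ?_⟩, ?_⟩
    · rw [Matrix.det_fin_two]
      simp [h0]
    · ext i
      fin_cases i <;> simp [Matrix.mulVec, dotProduct, Fin.sum_univ_two]

theorem exists_SL2_mulVec (v w : Fin 2 → ZMod p) (hv : v ≠ 0) (hw : w ≠ 0) :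
    ∃ A : SpecialLinearGroup (Fin 2) (ZMod p), A.1 *ᵥ v = w := by
  obtain ⟨B, hB⟩ := exists_SL2_e1 v hv
  obtain ⟨C, hC⟩ := exists_SL2_e1 w hw
  refine ⟨C * B⁻¹, ?_⟩
  have h : (B⁻¹).1 * B.1 = 1 := congrArg Subtype.val (inv_mul_cancel B)
  have h' : (C * B⁻¹).1 = C.1 * (B⁻¹).1 := rfl
  rw [← hB, h', Matrix.mulVec_mulVec, Matrix.mul_assoc, h, Matrix.mul_one, hC]

/-- **`Z(J(T))` does not control strong fusion in `Qd(p)`.** -/
theorem not_controlsStrongFusion_qd (T : Sylow p ↥(Cfsg.qd p)) :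
    ¬ Cfsg.ControlsStrongFusion p (Cfsg.centerThompsonAOf (T : Subgroup ↥(Cfsg.qd p))) := by
  rintro ⟨T', hUT', hctl⟩
  set U := Cfsg.centerThompsonAOf (T : Subgroup ↥(Cfsg.qd p)) with hU
  have hVS : ∀ S : Sylow p ↥(Cfsg.qd p), Vt p ≤ (S : Subgroup ↥(Cfsg.qd p)) := fun S =>
    Vt_isPGroup.le_sylow_of_normal S
  -- a nontrivial element of `Z(T) ∩ V`
  haveI : ((Vt p).subgroupOf (T : Subgroup ↥(Cfsg.qd p))).Normal := inferInstance
  have hne : (Vt p).subgroupOf (T : Subgroup ↥(Cfsg.qd p)) ≠ ⊥ := by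
    intro h
    have h1 : transl (Multiplicative.ofAdd (![1, 0] : Fin 2 → ZMod p)) ∈ Vt p := ⟨_, rfl⟩
    have h2 : (⟨_, hVS T h1⟩ : (T : Subgroup ↥(Cfsg.qd p))) ∈
        (Vt p).subgroupOf (T : Subgroup ↥(Cfsg.qd p)) := Subgroup.mem_subgroupOf.mpr h1
    rw [h, Subgroup.mem_bot] at h2
    have h3 : transl (Multiplicative.ofAdd (![1, 0] : Fin 2 → ZMod p)) = 1 :=
      congrArg Subtype.val h2
    rw [← map_one (transl (p := p))] at h3
    have h4 := Multiplicative.ofAdd.injective (transl_injective h3)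
    have h5 := congrFun h4 0
    simp at h5
  obtain ⟨x, hxV, hx1, hxc⟩ := Cfsg.Agent.Lib.Helper12.exists_ne_one_mem_center_of_normal
    T.isPGroup' ((Vt p).subgroupOf (T : Subgroup ↥(Cfsg.qd p))) hne
  set a : ↥(Cfsg.qd p) := (x : ↥(Cfsg.qd p)) with ha
  have haV : a ∈ Vt p := Subgroup.mem_subgroupOf.mp hxV
  have ha1 : a ≠ 1 := fun h => hx1 (Subtype.ext h)
  have haU : a ∈ U := by
    rw [hU, ← Cfsg.Agent.Lib.Helper27.ZJFun.inducedFunctor_zjA]
    exact ⟨x, Cfsg.Agent.Lib.Helper27.ZJFun.center_le_zjA _ hxc, rfl⟩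
  -- all conjugates of `a` lie in `U`
  have hconjU : ∀ g : ↥(Cfsg.qd p), g * a * g⁻¹ ∈ U := by
    intro g
    have hA : ({a} : Set ↥(Cfsg.qd p)) ⊆ ((T' : Subgroup ↥(Cfsg.qd p)) : Set ↥(Cfsg.qd p)) := by
      rintro _ rfl
      exact hVS T' haV
    obtain ⟨-, hc⟩ := hctl {a} hA
    obtain ⟨n, hn, hna⟩ := hc g (by
      rintro _ ⟨_, rfl, rfl⟩
      exact hVS T' ((Vt_normal (p := p)).conj_mem a haV g))
    rw [hna a rfl]
    exact (Subgroup.mem_normalizer_iff.mp hn a).mp haU
  -- hence `V ≤ U`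
  obtain ⟨v, hv⟩ := haV
  have hv1 : Multiplicative.toAdd v ≠ 0 := by
    intro h
    apply ha1
    rw [← hv]
    have : v = 1 := Multiplicative.toAdd.injective h
    rw [this, map_one]
  have hVU : Vt p ≤ U := by
    rintro _ ⟨w, rfl⟩
    by_cases hw : Multiplicative.toAdd w = 0
    · have : w = 1 := Multiplicative.toAdd.injective hw
      rw [this, map_one]
      exact one_mem _
    · obtain ⟨A, hA⟩ := exists_SL2_mulVec _ _ hv1 hw
      have h1 := hconjU ⟨affSL A 0, affSL_mem_qd _ _⟩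
      rw [← hv, conj_transl _ A 0 rfl v, vecAut_apply, hA, ofAdd_toAdd] at h1
      exact h1
  -- `J(T) ≤ C(V) ≤ V`
  set J := Cfsg.thompsonSubgroupAOf (T : Subgroup ↥(Cfsg.qd p)) with hJ
  have hUJ : U ≤ J := by
    rw [hU]; unfold Cfsg.centerThompsonAOf
    exact inf_le_left
  have hUC : U ≤ Subgroup.centralizer (J : Set ↥(Cfsg.qd p)) := by
    rw [hU]; unfold Cfsg.centerThompsonAOf
    exact inf_le_right
  have hJV : J ≤ Vt p := by
    intro y hy
    apply centralizer_Vt_le
    rw [Subgroup.mem_centralizer_iff]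
    intro t ht
    exact ((Subgroup.mem_centralizer_iff.mp (hUC (hVU ht))) y hy).symm
  have hJeq : J = Vt p := le_antisymm hJV (hVU.trans hUJ)
  -- contradiction with the normalizer of characteristic subgroups of `T`
  have hchar : (Cfsg.thompsonSubgroupA ↥(T : Subgroup ↥(Cfsg.qd p))).Characteristic := by
    rw [Subgroup.characteristic_iff_map_eq]
    intro φ
    exact Cfsg.Agent.Lib.Helper27.ZJFun.thompsonSubgroupA_map_equiv φ
  have hJne : Cfsg.thompsonSubgroupA ↥(T : Subgroup ↥(Cfsg.qd p)) ≠ ⊥ := by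
    intro h
    have h1 : J = ⊥ := by
      rw [hJ]; unfold Cfsg.thompsonSubgroupAOf
      rw [h, Subgroup.map_bot]
    rw [hJeq] at h1
    apply ha1
    have : a ∈ Vt p := ⟨v, hv⟩
    rw [h1, Subgroup.mem_bot] at this
    exact this
  obtain ⟨h1, h2⟩ := Cfsg.Agent.Lib.Helper20.Qd.normalizer_char_sylow p T
    (Cfsg.thompsonSubgroupA ↥(T : Subgroup ↥(Cfsg.qd p))) hJne hchar
  apply h2
  rw [← h1]
  have h3 : (Cfsg.thompsonSubgroupA ↥(T : Subgroup ↥(Cfsg.qd p))).map
      (T : Subgroup ↥(Cfsg.qd p)).subtype = Vt p := hJeq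
  rw [h3]
  exact Subgroup.normalizer_eq_top_iff.mpr inferInstance

section transport

variable {X : Type*} {Y : Type*} [Group X] [Group Y]

/-- `J(T)` commutes with isomorphisms (universe polymorphic). -/
theorem thompsonSubgroupAOf_map_equiv (e : X ≃* Y) (T : Subgroup X) :
    Cfsg.thompsonSubgroupAOf (T.map e.toMonoidHom) =
      (Cfsg.thompsonSubgroupAOf T).map e.toMonoidHom := by
  unfold Cfsg.thompsonSubgroupAOf
  let φ : ↥T ≃* ↥(T.map e.toMonoidHom) := e.subgroupMap T
  have h : (Cfsg.thompsonSubgroupA ↥T).map φ.toMonoidHom =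
      Cfsg.thompsonSubgroupA ↥(T.map e.toMonoidHom) :=
    Cfsg.Agent.Lib.Helper27.ZJFun.thompsonSubgroupA_map_equiv φ
  rw [← h, Subgroup.map_map, Subgroup.map_map]
  congr 1

/-- `Z(J(T))` commutes with isomorphisms (universe polymorphic). -/
theorem centerThompsonAOf_map_equiv (e : X ≃* Y) (T : Subgroup X) :
    Cfsg.centerThompsonAOf (T.map e.toMonoidHom) =
      (Cfsg.centerThompsonAOf T).map e.toMonoidHom := by
  unfold Cfsg.centerThompsonAOf
  rw [thompsonSubgroupAOf_map_equiv]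
  ext y
  rw [Subgroup.mem_inf, Subgroup.mem_map]
  constructor
  · rintro ⟨⟨x, hx, rfl⟩, hc⟩
    refine ⟨x, Subgroup.mem_inf.mpr ⟨hx, ?_⟩, rfl⟩
    rw [Subgroup.mem_centralizer_iff]
    intro j hj
    apply e.injective
    have := (Subgroup.mem_centralizer_iff.mp hc) (e j) ⟨j, hj, rfl⟩
    simpa using this
  · rintro ⟨x, hx', rfl⟩
    obtain ⟨hx, hc⟩ := Subgroup.mem_inf.mp hx'
    refine ⟨⟨x, hx, rfl⟩, ?_⟩
    rw [Subgroup.mem_centralizer_iff]
    rintro _ ⟨j, hj, rfl⟩
    have := (Subgroup.mem_centralizer_iff.mp hc) j hj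
    show e j * e x = e x * e j
    rw [← map_mul, ← map_mul, this]

/-- control of strong fusion is transported by isomorphisms -/
theorem controlsStrongFusion_map_equiv [Finite X] (e : X ≃* Y) (U : Subgroup X)
    (h : Cfsg.ControlsStrongFusion p U) : Cfsg.ControlsStrongFusion p (U.map e.toMonoidHom) := by
  obtain ⟨T, hUT, hc⟩ := h
  have hes : Function.Surjective e.toMonoidHom := e.surjective
  refine ⟨T.mapSurjective hes, ?_, fun A hA => ⟨hA, fun g hg => ?_⟩⟩
  · rw [Sylow.coe_mapSurjective]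
    exact Subgroup.map_mono hUT
  · rw [Sylow.coe_mapSurjective] at hA hg
    have hA' : e.symm '' A ⊆ ((T : Subgroup X) : Set X) := by
      rintro _ ⟨a, ha, rfl⟩
      obtain ⟨t, ht, hta⟩ := hA ha
      rw [← hta]
      simpa using ht
    obtain ⟨-, hc'⟩ := hc (e.symm '' A) hA'
    obtain ⟨x, hx, hxa⟩ := hc' (e.symm g) (by
      rintro _ ⟨_, ⟨a, ha, rfl⟩, rfl⟩
      obtain ⟨t, ht, hta⟩ := hg ⟨a, ha, rfl⟩
      have : e.symm g * e.symm a * (e.symm g)⁻¹ = t := by
        apply e.injective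
        simp only [map_mul, map_inv, MulEquiv.apply_symm_apply]
        exact hta.symm
      show e.symm g * e.symm a * (e.symm g)⁻¹ ∈ (T : Subgroup X)
      rw [this]
      exact ht)
    refine ⟨e x, Subgroup.le_normalizer_map e.toMonoidHom ⟨x, hx, rfl⟩, fun a ha => ?_⟩
    have h1 := hxa (e.symm a) ⟨a, ha, rfl⟩
    apply e.symm.injective
    simp only [map_mul, map_inv, MulEquiv.symm_apply_apply]
    exact h1

end transport

end Cfsg.Agent.Lib.Helper27.QdFusion
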