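import Cfsg.Agent.Lib.Helper27.QdAction
import Cfsg.Agent.Lib.Helper27.QdFusion
import Cfsg.Agent.Lib.Helper26.FSGroup

/-!
helper27: tools on `Qd(p)`-sections of subgroups of a finite group.
-/

set_option autoImplicit false
set_option linter.unusedSectionVars false
set_option linter.unusedVariables false
set_option linter.style.haveILetI false

namespace Cfsg.Agent.Lib.Helper27.QdGroup

open Matrix Cfsg Cfsg.Agent.Lib.Helper27.QdNatural Cfsg.Agent.Lib.Helper27.QdFusion
  Cfsg.Agent.Lib.Helper27.FM Cfsg.Agent.Lib.Helper26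

universe u v

variable {p : ℕ} [hpF : Fact p.Prime]

variable {G : Type u} [Group G]

/-- A section isomorphic to `L` of the subgroup `X` comes from a surjection defined on a subgroup of `X`. -/
theorem exists_surj_of_involves {L : Type v} [Group L] (X : Subgroup G) (h : Involves L ↥X) :
    ∃ (H : Subgroup G) (f : ↥H →* L), H ≤ X ∧ Function.Surjective f := by
  obtain ⟨K₀, R₀, hn, ⟨e⟩⟩ := h
  let g₀ : ↥K₀ →* L := e.toMonoidHom.comp (QuotientGroup.mk' (R₀.subgroupOf K₀))
  have hg₀ : Function.Surjective g₀ := by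
    intro A
    obtain ⟨x, hx⟩ := QuotientGroup.mk'_surjective (R₀.subgroupOf K₀) (e.symm A)
    refine ⟨x, ?_⟩
    show e ((QuotientGroup.mk' (R₀.subgroupOf K₀)) x) = A
    rw [hx, MulEquiv.apply_symm_apply]
  let iso : ↥K₀ ≃* ↥(K₀.map X.subtype) := K₀.equivMapOfInjective X.subtype X.subtype_injective
  refine ⟨K₀.map X.subtype, g₀.comp iso.symm.toMonoidHom, Subgroup.map_subtype_le _, ?_⟩
  intro A
  obtain ⟨x, hx⟩ := hg₀ A
  exact ⟨iso x, by simp [hx]⟩

theorem involves_of_surj {L : Type v} [Group L] {X H : Subgroup G} (hHX : H ≤ X) (f : ↥H →* L)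
    (hf : Function.Surjective f) : Involves L ↥X :=
  Cfsg.Agent.Lib.Helper27.involves_of_surjective_of_injective f hf (Subgroup.inclusion hHX)
    (Subgroup.inclusion_injective hHX)

theorem involves_mono {L : Type v} [Group L] {X X' : Subgroup G} (h : X ≤ X') (hX : Involves L ↥X) :
    Involves L ↥X' :=
  Cfsg.Agent.Lib.Helper27.involves_of_injective (Subgroup.inclusion h) (Subgroup.inclusion_injective h) hX

theorem involves_map_conj {L : Type v} [Group L] {X : Subgroup G} (g : G) (hX : Involves L ↥X) :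
    Involves L ↥(X.map (MulAut.conj g).toMonoidHom) :=
  Cfsg.Agent.Lib.Helper27.involves_of_injective
    (X.equivMapOfInjective (MulAut.conj g).toMonoidHom (MulAut.conj g).injective).toMonoidHom
    (X.equivMapOfInjective (MulAut.conj g).toMonoidHom (MulAut.conj g).injective).injective hX

theorem involves_normalizer_map_conj {L : Type v} [Group L] {Q : Subgroup G} (g : G)
    (hX : Involves L ↥(Subgroup.normalizer (Q : Set G))) :
    Involves L ↥(Subgroup.normalizer ((Q.map (MulAut.conj g).toMonoidHom : Subgroup G) : Set G)) := by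
  rw [← map_conj_normalizer]
  exact involves_map_conj g hX

theorem mem_normalizer_of_map_conj_eq {B : Subgroup G} {g : G}
    (h : B.map (MulAut.conj g).toMonoidHom = B) : g ∈ Subgroup.normalizer (B : Set G) := by
  rw [Subgroup.mem_normalizer_iff]
  intro x
  constructor
  · intro hx
    rw [← h]
    exact ⟨x, hx, rfl⟩
  · intro hx
    rw [← h, mem_map_conj] at hx
    simpa [mul_assoc] using hx

theorem normalizer_inf_le_normalizer_sup (A B : Subgroup G) :
    Subgroup.normalizer (A : Set G) ⊓ Subgroup.normalizer (B : Set G) ≤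
      Subgroup.normalizer ((A ⊔ B : Subgroup G) : Set G) := by
  rintro g ⟨hA, hB⟩
  apply mem_normalizer_of_map_conj_eq
  rw [Subgroup.map_sup, map_conj_of_mem_normalizer hA, map_conj_of_mem_normalizer hB]

/-- Frattini lift of the translation subgroup along a surjection onto `Qd(p)`. -/
theorem exists_lift_Vt [Finite G] (H : Subgroup G) (f : ↥H →* ↥(qd p)) (hf : Function.Surjective f) :
    ∃ W : Subgroup G, W ≤ H ∧ IsPGroup p W ∧ (∀ w ∈ W, ext1 f w ∈ Vt p) ∧
      (∀ v : Vec p, ∃ w ∈ W, ext1 f w = transl v) ∧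
      (∀ g : ↥(qd p), ∃ h ∈ H, h ∈ Subgroup.normalizer (W : Set G) ∧ ext1 f h = g) := by
  obtain ⟨W₀, hW₀p, hW₀f, hW₀n⟩ :=
    Cfsg.Agent.Lib.Helper27.SectionLift.exists_lift_normal_pSubgroup (p := p) f hf (Vt p) Vt_isPGroup
  refine ⟨W₀.map H.subtype, Subgroup.map_subtype_le _, hW₀p.map _, ?_, ?_, ?_⟩
  · rintro _ ⟨w, hw, rfl⟩
    rw [← hW₀f]
    show ext1 f (w : G) ∈ _
    rw [ext1_coe]
    exact Subgroup.mem_map_of_mem f hw
  · intro v
    have : transl v ∈ W₀.map f := by
      rw [hW₀f]; exact ⟨v, rfl⟩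
    obtain ⟨w, hw, hwv⟩ := this
    refine ⟨(w : G), Subgroup.mem_map_of_mem H.subtype hw, ?_⟩
    rw [ext1_coe, hwv]
  · intro g
    have : g ∈ (Subgroup.normalizer (W₀ : Set ↥H)).map f := by
      rw [hW₀n]; trivial
    obtain ⟨h, hh, hhg⟩ := this
    refine ⟨(h : G), h.2, ?_, ?_⟩
    · apply mem_normalizer_of_conj_mem_finite
      rintro _ ⟨w, hw, rfl⟩
      refine ⟨h * w * h⁻¹, ?_, rfl⟩
      exact (Subgroup.mem_normalizer_iff.mp hh w).mp hw
    · rw [ext1_coe, hhg]

end Cfsg.Agent.Lib.Helper27.QdGroup
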