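import Mathlib
import Cfsg.Agent.Lib.Helper12.PComplement
import Cfsg.Agent.Lib.Helper12.Cores
import Cfsg.Agent.Lib.Helper24.PSolvable
import Cfsg.Agent.Lib.Helper16.PCore

/-!
helper27: if `A` is a normal `p`-subgroup of `X` with `C_T(A) ≤ A` for a Sylow `p`-subgroup `T`, then
`C_X(A) ≤ A · O_{p'}(X)`, and so the image of `A` in `X / O_{p'}(X)` is self-centralizing.
-/

set_option autoImplicit false
set_option linter.unusedSectionVars false
set_option linter.unusedVariables false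

namespace Cfsg.Agent.Lib.Helper27.QuotCent

open Cfsg

variable {X : Type*} [Group X] [Finite X] {p : ℕ} [Fact p.Prime]

theorem inf_eq_bot_of_coprime {A K : Subgroup X} (hA : IsPGroup p A) (hK : (Nat.card K).Coprime p)
    {x : X} (hxA : x ∈ A) (hxK : x ∈ K) : x = 1 := by
  apply Cfsg.Agent.Lib.Helper16.eq_one_of_mem_pgroup_of_coprime hA hxA
  have h3 : orderOf x ∣ Nat.card K := by
    have := orderOf_dvd_natCard (⟨x, hxK⟩ : K)
    rwa [Subgroup.orderOf_mk] at this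
  exact Nat.Coprime.coprime_dvd_left h3 hK

/-- `C_X(A) ≤ A · O_{p'}(X)`. -/
theorem centralizer_le_sup (A : Subgroup X) [hAn : A.Normal] (hA : IsPGroup p A) (Tx : Sylow p X)
    (hTA : (Tx : Subgroup X) ⊓ Subgroup.centralizer (A : Set X) ≤ A) :
    Subgroup.centralizer (A : Set X) ≤ A ⊔ pPrimeCore p X := by
  classical
  set C : Subgroup X := Subgroup.centralizer (A : Set X) with hCdef
  haveI hCn : C.Normal := Subgroup.normal_centralizer
  obtain ⟨Ph⟩ : Nonempty (Sylow p ↥C) := inferInstance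
  -- the image of `Ph` lies in `A`
  have hPhA : ∀ x : ↥C, x ∈ (Ph : Subgroup ↥C) → (x : X) ∈ A := by
    intro x hx
    have hPp : IsPGroup p ((Ph : Subgroup ↥C).map C.subtype) := Ph.2.map _
    obtain ⟨T', hT'⟩ := hPp.exists_le_sylow
    obtain ⟨g, hg⟩ := MulAction.exists_smul_eq X Tx T'
    have hxT' : (x : X) ∈ (T' : Subgroup X) := hT' ⟨x, hx, rfl⟩
    rw [← hg, Sylow.coe_subgroup_smul] at hxT'
    obtain ⟨t, ht, htx⟩ := hxT'
    have htx' : g * t * g⁻¹ = (x : X) := htx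
    have htC : t ∈ C := by
      have : t = g⁻¹ * (x : X) * g⁻¹⁻¹ := by rw [← htx']; group
      rw [this]
      exact hCn.conj_mem _ x.2 _
    have htA : t ∈ A := hTA ⟨ht, htC⟩
    rw [← htx']
    exact hAn.conj_mem _ htA _
  have hcentral : ∀ x ∈ (Ph : Subgroup ↥C), ∀ c : ↥C, c * x = x * c := by
    intro x hx c
    apply Subtype.ext
    have := Subgroup.mem_centralizer_iff.mp c.2 (x : X) (hPhA x hx)
    exact this.symm
  have hcard := Cfsg.Agent.Lib.Helper12.card_pPrimeCore_mul_of_central_sylow Ph hcentral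
  haveI hOn : (pPrimeCore p ↥C).Normal := Cfsg.Agent.Lib.Helper24.pPrimeCore_normal' p
  have hOcop : (Nat.card ↥(pPrimeCore p ↥C)).Coprime p := Cfsg.Agent.Lib.Helper12.pPrimeCore_coprime p
  -- `O_{p'}(C) ⊔ Ph = ⊤`
  have hinf : (pPrimeCore p ↥C) ⊓ (Ph : Subgroup ↥C) = ⊥ := by
    rw [eq_bot_iff]
    intro x hx
    rw [Subgroup.mem_bot]
    exact inf_eq_bot_of_coprime Ph.2 hOcop hx.2 hx.1
  have hsup : (Ph : Subgroup ↥C) ⊔ pPrimeCore p ↥C = ⊤ := by
    apply Subgroup.eq_top_of_card_eq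
    rw [Cfsg.Agent.Lib.Helper12.card_sup_eq_of_normal, ← hcard]
    congr 1
    rw [Subgroup.relIndex, ← Subgroup.inf_subgroupOf_right, hinf, Subgroup.bot_subgroupOf,
      Subgroup.index_bot]
  -- `O_{p'}(C) ≤ O_{p'}(X)`
  haveI hchar : (pPrimeCore p ↥C).Characteristic := Cfsg.Agent.Lib.Helper12.pPrimeCore_characteristic p
  have hOnX : ((pPrimeCore p ↥C).map C.subtype).Normal := ConjAct.normal_of_characteristic_of_normal
  have hOle : (pPrimeCore p ↥C).map C.subtype ≤ pPrimeCore p X := by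
    apply Cfsg.Agent.Lib.Helper12.le_pPrimeCore p _ hOnX
    rw [Nat.card_congr ((pPrimeCore p ↥C).equivMapOfInjective C.subtype C.subtype_injective).symm.toEquiv]
    exact hOcop
  intro x hx
  have hx' : (⟨x, hx⟩ : ↥C) ∈ (Ph : Subgroup ↥C) ⊔ pPrimeCore p ↥C := by rw [hsup]; exact Subgroup.mem_top _
  have h2 : x ∈ ((Ph : Subgroup ↥C) ⊔ pPrimeCore p ↥C).map C.subtype := ⟨⟨x, hx⟩, hx', rfl⟩
  rw [Subgroup.map_sup] at h2
  refine (sup_le_sup ?_ hOle) h2
  rintro _ ⟨y, hy, rfl⟩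
  exact hPhA y hy

/-- The image of `A` in `X / O_{p'}(X)` is self-centralizing. -/
theorem centralizer_map_mk_le (A : Subgroup X) [hAn : A.Normal] (hA : IsPGroup p A) (Tx : Sylow p X)
    (hTA : (Tx : Subgroup X) ⊓ Subgroup.centralizer (A : Set X) ≤ A) :
    haveI := Cfsg.Agent.Lib.Helper24.pPrimeCore_normal' (G := X) p
    Subgroup.centralizer ((A.map (QuotientGroup.mk' (pPrimeCore p X)) : Subgroup (X ⧸ pPrimeCore p X)) :
      Set (X ⧸ pPrimeCore p X)) ≤ A.map (QuotientGroup.mk' (pPrimeCore p X)) := by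
  haveI hKn := Cfsg.Agent.Lib.Helper24.pPrimeCore_normal' (G := X) p
  have hKcop : (Nat.card ↥(pPrimeCore p X)).Coprime p := Cfsg.Agent.Lib.Helper12.pPrimeCore_coprime p
  intro xb hxb
  obtain ⟨x, rfl⟩ := QuotientGroup.mk'_surjective (pPrimeCore p X) xb
  have hxC : x ∈ Subgroup.centralizer (A : Set X) := by
    rw [Subgroup.mem_centralizer_iff]
    intro a ha
    have h1 := Subgroup.mem_centralizer_iff.mp hxb (QuotientGroup.mk' _ a) ⟨a, ha, rfl⟩
    rw [← map_mul, ← map_mul, QuotientGroup.mk'_apply, QuotientGroup.mk'_apply, QuotientGroup.eq] at h1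
    -- `(a x)⁻¹ (x a) ∈ K`, and it lies in `A`
    have h2 : (a * x)⁻¹ * (x * a) ∈ A := by
      have : (a * x)⁻¹ * (x * a) = (x⁻¹ * a⁻¹ * x⁻¹⁻¹) * a := by group
      rw [this]
      exact A.mul_mem (hAn.conj_mem _ (A.inv_mem ha) _) ha
    have h3 := inf_eq_bot_of_coprime hA hKcop h2 h1
    have : x * a = (a * x) * ((a * x)⁻¹ * (x * a)) := by group
    rw [this, h3, mul_one]
  have h4 := centralizer_le_sup A hA Tx hTA hxC
  have h5 : QuotientGroup.mk' (pPrimeCore p X) x ∈ (A ⊔ pPrimeCore p X).map (QuotientGroup.mk' (pPrimeCore p X)) :=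
    ⟨x, h4, rfl⟩
  rw [Subgroup.map_sup] at h5
  have h6 : (pPrimeCore p X).map (QuotientGroup.mk' (pPrimeCore p X)) = ⊥ := by
    rw [eq_bot_iff]
    rintro _ ⟨k, hk, rfl⟩
    rw [Subgroup.mem_bot, QuotientGroup.mk'_apply, QuotientGroup.eq_one_iff]
    exact hk
  rw [h6, sup_bot_eq] at h5
  exact h5

end Cfsg.Agent.Lib.Helper27.QuotCent
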