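import Mathlib
import Cfsg.Prelude.Def_OddOrderLocal
import Cfsg.Agent.Lib.Helper1.Hall
import Cfsg.Agent.Lib.Helper1.CentricRadical
import Cfsg.Agent.Lib.Helper8.Conj
import Cfsg.Agent.Lib.Helper9.BGSigEmb
import Cfsg.Agent.Lib.Helper20.CoprimeHall
import Cfsg.Agent.Lib.Helper23.BGY1

/-!
# helper27: group-theoretic lemmas for B & G 12.10(a)-type conjugacy (statement S1425)

* Hall dominance for a subgroup of `π'`-index in a solvable group;
* the Frattini argument and the index of a Sylow normalizer in the presence of normal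
  `p`-complements.
-/

set_option autoImplicit false
set_option linter.unusedSectionVars false
set_option linter.style.haveILetI false

namespace Cfsg.Agent.Lib.Helper27.BGConj

open Cfsg.Agent.Lib.Helper8 (mem_map_conj conj_mem_map_conj map_conj_map_conj map_conj_one
  map_conj_le_iff map_conj_eq_iff card_map_conj mem_normalizer_iff_map_conj map_conj_eq_of_le)
open scoped Pointwise

universe u

/-- **Hall dominance**, general form: in a finite solvable group, a `π`-subgroup `K` is contained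
in a conjugate of any subgroup `H` of `π'`-index. -/
theorem dominance_pi {X : Type u} [Group X] [Finite X] [Group.IsSolvable X] (π : Set ℕ)
    (H K : Subgroup X) (hK : ∀ p : ℕ, p.Prime → p ∣ Nat.card K → p ∈ π)
    (hH : ∀ p : ℕ, p.Prime → p ∈ π → ¬ p ∣ H.index) :
    ∃ g : X, K ≤ MulAut.conj g • H := by
  obtain ⟨m, n, hmn, hm, hn⟩ :=
    Cfsg.Agent.Lib.Helper20.exists_pi_decomp π (Nat.card H) Nat.card_pos.ne'
  have hcop : m.Coprime n := Cfsg.Agent.Lib.Helper20.coprime_of_isPiNum hm hn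
  obtain ⟨H₁, hH₁⟩ := Cfsg.Agent.Lib.Helper1.hall_exists _ ↥H rfl m n hmn hcop
  have hm0 : 0 < m := by
    rcases Nat.eq_zero_or_pos m with h | h
    · rw [h, zero_mul] at hmn
      exact absurd hmn Nat.card_pos.ne'
    · exact h
  have hidx1 : H₁.index = n := by
    have := H₁.card_mul_index
    rw [hH₁, hmn] at this
    exact Nat.eq_of_mul_eq_mul_left hm0 this
  set H₂ : Subgroup X := H₁.map H.subtype with hH₂
  have hcard : Nat.card H₂ = m := by
    rw [hH₂, Subgroup.card_map_of_injective H.subtype_injective, hH₁]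
  have hidx : H₂.index = n * H.index := by
    rw [hH₂, Subgroup.index_map_subtype, hidx1]
  have hpi' : Cfsg.Agent.Lib.Helper20.IsPiPrimeNum π (n * H.index) := by
    intro p hp hpπ hd
    rcases (Nat.Prime.dvd_mul hp).mp hd with h | h
    · exact hn p hp hpπ h
    · exact hH p hp hpπ h
  obtain ⟨g, hg⟩ := Cfsg.Agent.Lib.Helper1.hall_dominance _ X rfl H₂ K
    (by rw [hcard, hidx]; exact Cfsg.Agent.Lib.Helper20.coprime_of_isPiNum hm hpi')
    (by rw [hidx]; exact Cfsg.Agent.Lib.Helper20.coprime_of_isPiNum hK hpi')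
  exact ⟨g, hg.trans (Cfsg.Agent.Lib.Helper1.conj_smul_le_conj_smul (Subgroup.map_subtype_le _) g)⟩

/-- Internal form of `dominance_pi`: inside a solvable subgroup `L`, a `π`-subgroup `Y` is
`L`-conjugate into any subgroup `H ≤ L` of `π'`-index in `L`. -/
theorem exists_conj_le_of_pi {G : Type u} [Group G] [Finite G] (π : Set ℕ) {L H Y : Subgroup G}
    (hsolv : Group.IsSolvable ↥L) (hHL : H ≤ L) (hYL : Y ≤ L)
    (hY : ∀ p : ℕ, p.Prime → p ∣ Nat.card Y → p ∈ π)
    (hH : ∀ p : ℕ, p.Prime → p ∈ π → ¬ p ∣ H.relIndex L) :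
    ∃ m ∈ L, Y.map (MulAut.conj m).toMonoidHom ≤ H := by
  haveI := hsolv
  obtain ⟨g, hg⟩ := dominance_pi π (H.subgroupOf L) (Y.subgroupOf L)
    (by rw [Cfsg.Agent.Lib.Helper1.card_subgroupOf_of_le hYL]; exact hY) hH
  refine ⟨(g⁻¹ : ↥L), (g⁻¹).2, ?_⟩
  intro x hx
  rw [mem_map_conj] at hx
  set y : G := ((g⁻¹ : ↥L) : G)⁻¹ * x * ((g⁻¹ : ↥L) : G) with hy
  have hyL : y ∈ L := hYL hx
  have h1 : (⟨y, hyL⟩ : ↥L) ∈ Y.subgroupOf L := Subgroup.mem_subgroupOf.mpr hx
  have h2 := hg h1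
  rw [Cfsg.Agent.Lib.Helper1.mem_conj_smul_iff, Subgroup.mem_subgroupOf] at h2
  have e : ((g⁻¹ * (⟨y, hyL⟩ : ↥L) * g : ↥L) : G) = x := by
    simp only [Subgroup.coe_mul, Subgroup.coe_inv, hy]
    group
  rwa [e] at h2

end Cfsg.Agent.Lib.Helper27.BGConj
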