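import Mathlib
import Cfsg.Agent.S1545
import Cfsg.Agent.Lib.Helper16.BGPrimA
import Cfsg.Agent.Lib.Helper21.BG36E
import Cfsg.Agent.Lib.Helper24.BGExB1
import Cfsg.Agent.Lib.Helper1.SLFree3
import Cfsg.Agent.Lib.Helper1.Commutator

/-!
# B&G 13.4 (S1428), abstract part: the Frobenius lemma (F) and the "engine"

* `lemmaF`: a Frobenius group `Y ⋊ R` acting coprimely on a solvable group `U` with
  `C_U(R) ≤ C_U(Y)` centralizes... precisely: then `U ≤ C(Y)`.  (From Wielandt's fixed point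
  formula S1545.)
* `engine`: the configuration `T` a `t`-group normalized by `P × (Y ⋊ R)` with `C_T(R) ≤ C(P)`,
  `C_T(P)` cyclic and `Y = [Y,R]` not centralizing `T` is impossible.
-/

set_option autoImplicit false
open Subgroup
open scoped commutatorElement

namespace Cfsg.Agent.Lib.Helper27.BG134

variable {X : Type*} [Group X] [Finite X]

/-- **Lemma (F)**: Frobenius group `Y ⋊ R` acting coprimely on a solvable group `U`;
if `C_U(R) ≤ C_U(Y)` then `Y` centralizes `U`. -/
theorem lemmaF (Y R U : Subgroup X) (hY1 : Y ≠ ⊥) (hR1 : R ≠ ⊥) (hYR : Y ⊓ R = ⊥)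
    (hRn : ∀ e ∈ R, ∀ u ∈ Y, e * u * e⁻¹ ∈ Y)
    (hfpf : ∀ e ∈ R, e ≠ 1 → ∀ u ∈ Y, e * u = u * e → u = 1)
    (hUn : ∀ x ∈ Y ⊔ R, ∀ h ∈ U, x * h * x⁻¹ ∈ U) (hdisj : U ⊓ (Y ⊔ R) = ⊥)
    (hsolv : Group.IsSolvable U) (hcop : Nat.Coprime (Nat.card U) (Nat.card ↥(Y ⊔ R)))
    (hle : U ⊓ centralizer (R : Set X) ≤ centralizer (Y : Set X)) :
    U ≤ centralizer (Y : Set X) := by
  have key := Cfsg.Agent.S1545.result Y R U hY1 hR1 hYR hRn hfpf hUn hdisj hsolv hcop
  have h1 : U ⊓ centralizer ((Y ⊔ R : Subgroup X) : Set X) = U ⊓ centralizer (R : Set X) := by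
    apply le_antisymm
    · exact inf_le_inf_left _ (centralizer_le (by exact_mod_cast (le_sup_right : R ≤ Y ⊔ R)))
    · intro x hx
      refine ⟨hx.1, ?_⟩
      have hxY : x ∈ centralizer (Y : Set X) := hle hx
      have hxR : x ∈ centralizer (R : Set X) := hx.2
      have hsup : Y ⊔ R ≤ centralizer ({x} : Set X) := by
        apply sup_le
        · intro y hy
          rw [mem_centralizer_iff]
          intro z hz
          rw [Set.mem_singleton_iff] at hz; subst hz
          exact (mem_centralizer_iff.mp hxY y hy).symm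
        · intro y hy
          rw [mem_centralizer_iff]
          intro z hz
          rw [Set.mem_singleton_iff] at hz; subst hz
          exact (mem_centralizer_iff.mp hxR y hy).symm
      show x ∈ centralizer ((Y ⊔ R : Subgroup X) : Set X)
      rw [mem_centralizer_iff]
      intro g hg
      have := mem_centralizer_iff.mp (hsup hg) x (Set.mem_singleton x)
      exact this.symm
  rw [h1] at key
  have hpos : 0 < Nat.card ↥(U ⊓ centralizer (R : Set X)) ^ Nat.card R :=
    pow_pos Nat.card_pos _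
  have h2 : Nat.card U = Nat.card ↥(U ⊓ centralizer (Y : Set X)) :=
    Nat.eq_of_mul_eq_mul_left hpos key
  have h3 : U ⊓ centralizer (Y : Set X) = U :=
    Subgroup.eq_of_le_of_card_ge inf_le_left (le_of_eq h2)
  rw [← h3]
  exact inf_le_right

open Cfsg.Agent.Lib.Helper8 (mem_normalizer_iff_map_conj)

omit [Finite X] in
theorem mem_normalizer_commutator {T Y : Subgroup X} {g : X}
    (hT : g ∈ normalizer (T : Set X)) (hY : g ∈ normalizer (Y : Set X)) :
    g ∈ normalizer ((⁅T, Y⁆ : Subgroup X) : Set X) := by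
  rw [mem_normalizer_iff_map_conj, Subgroup.map_commutator,
    mem_normalizer_iff_map_conj.mp hT, mem_normalizer_iff_map_conj.mp hY]

omit [Finite X] in
theorem mem_normalizer_inf {A B : Subgroup X} {g : X}
    (hA : g ∈ normalizer (A : Set X)) (hB : g ∈ normalizer (B : Set X)) :
    g ∈ normalizer ((A ⊓ B : Subgroup X) : Set X) := by
  rw [mem_normalizer_iff] at hA hB ⊢
  intro h
  rw [mem_inf, mem_inf, hA h, hB h]

/-- **The engine**: `T` a `t`-group normalized by `P × (Y ⋊ R)` (coprime action), `R` of prime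
order fixed-point-free on `Y = [Y,R]`, `Y` not centralizing `T`, `C_T(P)` cyclic and
`C_T(R) ≤ C(P)`: impossible. -/
theorem engine (P Y R T : Subgroup X)
    (hT : Group.IsSolvable T)
    (hPY : Y ≤ centralizer (P : Set X)) (hPR : R ≤ centralizer (P : Set X))
    (hPT : P ≤ normalizer (T : Set X)) (hYT : Y ≤ normalizer (T : Set X))
    (hRT : R ≤ normalizer (T : Set X)) (hRY : R ≤ normalizer (Y : Set X))
    (hRp : (Nat.card R).Prime)
    (hYR : Y ⊓ centralizer (R : Set X) = ⊥)
    (hYc : Y ≤ ⁅Y, R⁆)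
    (hcopY : (Nat.card T).Coprime (Nat.card Y)) (hcopR : (Nat.card T).Coprime (Nat.card R))
    (hTY : ¬ T ≤ centralizer (Y : Set X))
    (hcyc : IsCyclic ↥(T ⊓ centralizer (P : Set X)))
    (hA : T ⊓ centralizer (R : Set X) ≤ centralizer (P : Set X)) : False := by
  classical
  set U : Subgroup X := ⁅T, Y⁆ with hU
  have hUT : U ≤ T := Cfsg.Agent.Lib.Helper1.commutator_le_of_le_normalizer hYT
  have hUU : ⁅U, Y⁆ = U :=
    Cfsg.Agent.Lib.Helper16.BGPrim.comm_comm_eq_coprime T Y hYT hcopY.symm (Or.inr hT)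
  have hU1 : U ≠ ⊥ := by
    intro h
    exact hTY (Subgroup.commutator_eq_bot_iff_le_centralizer.mp h)
  have hYU : Y ≤ normalizer (U : Set X) := fun y hy =>
    mem_normalizer_commutator (hYT hy) (le_normalizer hy)
  have hRU : R ≤ normalizer (U : Set X) := fun y hy =>
    mem_normalizer_commutator (hRT hy) (hRY hy)
  have hPU : P ≤ normalizer (U : Set X) := fun y hy => by
    apply mem_normalizer_commutator (hPT hy)
    apply centralizer_le_normalizer
    rw [mem_centralizer_iff]
    intro z hz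
    exact (mem_centralizer_iff.mp (hPY hz) y hy).symm
  -- `Z = C_U(P)` is cyclic and normalized by `Y`, `R`
  set Z : Subgroup X := U ⊓ centralizer (P : Set X) with hZ
  have hZle : Z ≤ T ⊓ centralizer (P : Set X) := inf_le_inf_right _ hUT
  have hZcyc : IsCyclic ↥Z := by
    have h1 : IsCyclic ↥(Z.subgroupOf (T ⊓ centralizer (P : Set X))) := by
      haveI := hcyc
      infer_instance
    exact isCyclic_of_surjective _ (Subgroup.subgroupOfEquivOfLe hZle).surjective
  have hYZ : Y ≤ normalizer (Z : Set X) := fun y hy =>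
    mem_normalizer_inf (hYU hy) (le_normalizer (hPY hy))
  have hRZ : R ≤ normalizer (Z : Set X) := fun y hy =>
    mem_normalizer_inf (hRU hy) (le_normalizer (hPR hy))
  have hcomm : ⁅Y, R⁆ ≤ centralizer (Z : Set X) :=
    Cfsg.Agent.Lib.Helper21.BG36.commutator_le_centralizer_of_isCyclic hZcyc hYZ hRZ
  have hZY : Z ≤ centralizer (Y : Set X) := by
    rw [Subgroup.le_centralizer_iff]
    exact hYc.trans hcomm
  have hle : U ⊓ centralizer (R : Set X) ≤ centralizer (Y : Set X) := by
    intro x hx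
    apply hZY
    exact ⟨hx.1, hA ⟨hUT hx.1, hx.2⟩⟩
  -- the Frobenius hypotheses
  have hY1 : Y ≠ ⊥ := by
    intro h
    apply hTY
    rw [h]
    intro x _
    rw [mem_centralizer_iff]
    intro y hy
    rw [SetLike.mem_coe, mem_bot] at hy
    subst hy
    simp
  have hR1 : R ≠ ⊥ := by
    intro h
    rw [h, Subgroup.card_bot] at hRp
    exact Nat.not_prime_one hRp
  haveI : Fact (Nat.card R).Prime := ⟨hRp⟩
  have hRcomm : R ≤ centralizer (R : Set X) := by
    intro a ha
    rw [mem_centralizer_iff]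
    intro b hb
    have hcy : IsCyclic ↥R := isCyclic_of_prime_card rfl
    have := Cfsg.Agent.Lib.Helper24.BGExB.comm_of_isCyclic (H := ↥R) ⟨b, hb⟩ ⟨a, ha⟩
    exact congrArg Subtype.val this
  have hYRbot : Y ⊓ R = ⊥ := by
    rw [eq_bot_iff, ← hYR]
    exact inf_le_inf_left _ hRcomm
  have hRn : ∀ e ∈ R, ∀ u ∈ Y, e * u * e⁻¹ ∈ Y := fun e he u hu =>
    (mem_normalizer_iff.mp (hRY he) u).mp hu
  have hfpf : ∀ e ∈ R, e ≠ 1 → ∀ u ∈ Y, e * u = u * e → u = 1 := by
    intro e he he1 u hu hcom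
    have hz : zpowers e = R := by
      have h1 : zpowers e ≤ R := by rw [zpowers_le]; exact he
      apply Subgroup.eq_of_le_of_card_ge h1
      rw [Nat.card_zpowers]
      have h2 : orderOf e ∣ Nat.card R := by
        have := orderOf_dvd_natCard (⟨e, he⟩ : ↥R)
        rwa [Subgroup.orderOf_mk] at this
      rcases (Nat.dvd_prime hRp).mp h2 with h3 | h3
      · exact absurd (orderOf_eq_one_iff.mp h3) he1
      · exact le_of_eq h3.symm
    have hu2 : u ∈ centralizer (R : Set X) := by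
      rw [← hz, mem_centralizer_iff]
      intro b hb
      obtain ⟨k, rfl⟩ := mem_zpowers_iff.mp hb
      exact ((Commute.zpow_left (show Commute e u from hcom) k)).eq
    have : u ∈ Y ⊓ centralizer (R : Set X) := ⟨hu, hu2⟩
    rw [hYR] at this
    exact mem_bot.mp this
  have hYRU : Y ⊔ R ≤ normalizer (U : Set X) := sup_le hYU hRU
  have hUn : ∀ x ∈ Y ⊔ R, ∀ h ∈ U, x * h * x⁻¹ ∈ U := fun x hx h hh =>
    (mem_normalizer_iff.mp (hYRU hx) h).mp hh
  have hcardYR : Nat.card ↥(Y ⊔ R) ∣ Nat.card Y * Nat.card R := by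
    rw [sup_comm, mul_comm]
    exact Cfsg.Agent.Lib.Helper1.SLFree.card_sup_dvd_of_le_normalizer R Y hRY
  have hcopT : (Nat.card T).Coprime (Nat.card ↥(Y ⊔ R)) :=
    Nat.Coprime.coprime_dvd_right hcardYR (Nat.Coprime.mul_right hcopY hcopR)
  have hcop : (Nat.card U).Coprime (Nat.card ↥(Y ⊔ R)) :=
    Nat.Coprime.coprime_dvd_left (Subgroup.card_dvd_of_le hUT) hcopT
  have hdisj : U ⊓ (Y ⊔ R) = ⊥ := by
    rw [eq_bot_iff]
    intro x hx
    rw [mem_bot]
    have h1 : orderOf x ∣ Nat.card U := by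
      have := orderOf_dvd_natCard (⟨x, hx.1⟩ : ↥U)
      rwa [Subgroup.orderOf_mk] at this
    have h2 : orderOf x ∣ Nat.card ↥(Y ⊔ R) := by
      have := orderOf_dvd_natCard (⟨x, hx.2⟩ : ↥(Y ⊔ R))
      rwa [Subgroup.orderOf_mk] at this
    have h3 : orderOf x ∣ 1 := by
      have := Nat.dvd_gcd h1 h2
      rwa [hcop] at this
    exact orderOf_eq_one_iff.mp (Nat.dvd_one.mp h3)
  have hUsolv : Group.IsSolvable U :=
    solvable_of_solvable_injective (Subgroup.inclusion_injective hUT)
  have hfin := lemmaF Y R U hY1 hR1 hYRbot hRn hfpf hUn hdisj hUsolv hcop hle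
  have : ⁅U, Y⁆ = ⊥ := Subgroup.commutator_eq_bot_iff_le_centralizer.mpr hfin
  rw [hUU] at this
  exact hU1 this

end Cfsg.Agent.Lib.Helper27.BG134
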