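import Mathlib
import Cfsg.Agent.Lib.Helper27.BG134A
import Cfsg.Agent.Lib.Helper23.BGLemT
import Cfsg.Agent.Lib.Helper19.BG123
import Cfsg.Agent.Lib.Helper17.RankOne
import Cfsg.Agent.S0025
import Cfsg.Agent.S1406

/-!
# B&G 13.4 (S1428): the `M`-side argument in hypothesis form

`mside`: `M` maximal with `M_α ≠ 1`; `P`, `R` of prime orders outside `σ(M)`, commuting; `Y ≠ 1` a
`q`-subgroup of `M` (`q ∉ α(M)`) centralized by `P`, normalized by `R` with `C_Y(R) = 1` and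
`Y = [Y,R]`; neither `C_M(Y)` nor `C_M(P)` in a unique maximal subgroup;
`C_{M_α}(R) ≤ C(P)`.  Then `False`.
-/

set_option autoImplicit false
open Subgroup Cfsg
open scoped commutatorElement

namespace Cfsg.Agent.Lib.Helper27.BG134

variable {G : Type*} [Group G] [Finite G]

/-- A Sylow `t`-subgroup of `K` inherits "rank ≥ 3" from `K`. -/
theorem not_pRankLE_two_sylow {K : Subgroup G} {t : ℕ} [Fact t.Prime] (S : Sylow t ↥K)
    (h : ¬ Cfsg.PRankLE t 2 ↥K) : ¬ Cfsg.PRankLE t 2 ↥((S : Subgroup ↥K).map K.subtype) := by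
  intro h1
  apply h
  have h2 : Cfsg.PRankLE t 2 ↥(S : Subgroup ↥K) :=
    (Cfsg.Agent.Lib.Helper9.pRankLE_map_subtype K (S : Subgroup ↥K) t 2).mp h1
  apply Cfsg.Agent.Lib.Helper17.BGU.pRankLE_of_sylow S
  intro E hES hEc hEe
  have h3 : Cfsg.PRankLE t 2 ↥E := Cfsg.Agent.Lib.Helper17.pRankLE_of_le hES h2
  have h4 := h3 ⊤ (by
    refine ⟨⟨?_⟩⟩
    rintro ⟨a, -⟩ ⟨b, -⟩
    apply Subtype.ext
    exact hEc.is_comm.comm a b) (by
    rintro a -
    apply Subtype.ext
    have := hEe a.1 a.2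
    rw [Subgroup.coe_pow, this]; rfl)
  rwa [Subgroup.card_top] at h4

theorem mside (hG : Cfsg.IsMinSimpleOddOrder G) {M : Subgroup G} (hM : IsCoatom M)
    {P R Y : Subgroup G} (hPM : P ≤ M) (hRM : R ≤ M) (hYM : Y ≤ M)
    {q : ℕ} (hq : q.Prime)
    (hPp : (Nat.card P).Prime) (hRp : (Nat.card R).Prime)
    (hp : Nat.card P ∉ Cfsg.sigma M) (hr : Nat.card R ∉ Cfsg.sigma M)
    (hYq : IsPGroup q Y) (hqα : q ∉ Cfsg.alpha M)
    (hPY : Y ≤ centralizer (P : Set G)) (hPR : R ≤ centralizer (P : Set G))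
    (hRY : R ≤ normalizer (Y : Set G))
    (hYR : Y ⊓ centralizer (R : Set G) = ⊥) (hYc : Y ≤ ⁅Y, R⁆) (hY1 : Y ≠ ⊥)
    (hα : Cfsg.alphaCore M ≠ ⊥)
    (hnuY : ¬ Cfsg.InUniqueMaximal (M ⊓ centralizer (Y : Set G)))
    (hnuP : ¬ Cfsg.InUniqueMaximal (M ⊓ centralizer (P : Set G)))
    (hA : Cfsg.alphaCore M ⊓ centralizer (R : Set G) ≤ centralizer (P : Set G)) : False := by
  classical
  have hU : Cfsg.Agent.Lib.Helper1.BGX.UT G := fun K hK h2 h3 => Cfsg.Agent.S1403.result hG K hK h2 h3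
  set K : Subgroup G := Cfsg.alphaCore M with hK
  have hKM : K ≤ M := Cfsg.Agent.Lib.Helper1.BGX.alphaCore_le M
  have hMK : M ≤ normalizer (K : Set G) := Cfsg.Agent.Lib.Helper1.BGX.le_normalizer_alphaCore M
  have hασ : ∀ s, s ∈ Cfsg.alpha M → s ∈ Cfsg.sigma M := fun s hs =>
    Cfsg.Agent.Lib.Helper1.BGX.alpha_subset_sigma hG hU hM hs
  -- primes of `Y` are `q`
  have hYprimes : ∀ s : ℕ, s.Prime → s ∣ Nat.card Y → s ∉ Cfsg.alpha M := by
    intro s hs hsd
    haveI : Fact q.Prime := ⟨hq⟩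
    obtain ⟨k, hk⟩ := IsPGroup.iff_card.mp hYq
    rw [hk] at hsd
    have := (Nat.prime_dvd_prime_iff_eq hs hq).mp (hs.dvd_of_dvd_pow hsd)
    rw [this]; exact hqα
  have hPprimes : ∀ s : ℕ, s.Prime → s ∣ Nat.card P → s ∉ Cfsg.alpha M := by
    intro s hs hsd hsα
    have := (Nat.prime_dvd_prime_iff_eq hs hPp).mp hsd
    rw [this] at hsα
    exact hp (hασ _ hsα)
  have hrkY : Cfsg.RankLE 1 ↥(K ⊓ centralizer (Y : Set G)) := by
    by_contra h
    exact hnuY (Cfsg.Agent.S1406.result hG M hM Y hYM hYprimes h)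
  have hrkP : Cfsg.RankLE 1 ↥(K ⊓ centralizer (P : Set G)) := by
    by_contra h
    exact hnuP (Cfsg.Agent.S1406.result hG M hM P hPM hPprimes h)
  -- the prime `t`
  obtain ⟨t, ht, E, hEK, hEc, hEe, hEcard⟩ :=
    Cfsg.Agent.Lib.Helper23.BGLemT.exists_elemAb_cube_alphaCore hG hM hα
  haveI : Fact t.Prime := ⟨ht⟩
  have hrK : ¬ Cfsg.PRankLE t 2 ↥K :=
    Cfsg.Agent.Lib.Helper17.BGU.not_pRankLE_of_elemAb hEK hEc hEe hEcard
  have htd : t ∣ Nat.card K := by
    have hEp : IsPGroup t E := by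
      intro x
      refine ⟨1, ?_⟩
      rw [pow_one]
      exact Subtype.ext (by simpa using hEe x.1 x.2)
    obtain ⟨k, hk⟩ := IsPGroup.iff_card.mp hEp
    have hk0 : k ≠ 0 := by
      rintro rfl
      rw [hk, pow_zero] at hEcard
      have := Nat.one_le_pow 2 t ht.pos
      omega
    have : t ∣ Nat.card E := by rw [hk]; exact dvd_pow_self t hk0
    exact this.trans (Subgroup.card_dvd_of_le hEK)
  have htα : t ∈ Cfsg.alpha M :=
    Cfsg.Agent.Lib.Helper19.BG123.mem_alpha_of_dvd_card_le (le_refl K) ht htd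
  have htσ : t ∈ Cfsg.sigma M := hασ t htα
  have htP : t ≠ Nat.card P := fun h => hp (h ▸ htσ)
  have htR : t ≠ Nat.card R := fun h => hr (h ▸ htσ)
  have htq : t ≠ q := fun h => hqα (h ▸ htα)
  -- the acting group
  set A : Subgroup G := P ⊔ (Y ⊔ R) with hAdef
  have hAM : A ≤ M := sup_le hPM (sup_le hYM hRM)
  have hAK : A ≤ normalizer (K : Set G) := hAM.trans hMK
  have hcardYR : Nat.card ↥(Y ⊔ R) ∣ Nat.card Y * Nat.card R := by
    rw [sup_comm, mul_comm]
    exact Cfsg.Agent.Lib.Helper1.SLFree.card_sup_dvd_of_le_normalizer R Y hRY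
  have hPnYR : P ≤ normalizer ((Y ⊔ R : Subgroup G) : Set G) := by
    refine le_trans ?_ (centralizer_le_normalizer _)
    rw [Subgroup.le_centralizer_iff]
    exact sup_le hPY hPR
  have hcardA : Nat.card A ∣ Nat.card P * (Nat.card Y * Nat.card R) := by
    have h1 := Cfsg.Agent.Lib.Helper1.SLFree.card_sup_dvd_of_le_normalizer P (Y ⊔ R) hPnYR
    exact h1.trans (Nat.mul_dvd_mul dvd_rfl hcardYR)
  have hcop : (Nat.card A).Coprime (Nat.card K) := by
    apply Nat.Coprime.coprime_dvd_left hcardA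
    apply Nat.Coprime.symm
    apply Nat.coprime_of_dvd
    intro s hs hsK hsA
    have hsα : s ∈ Cfsg.alpha M :=
      Cfsg.Agent.Lib.Helper19.BG123.mem_alpha_of_dvd_card_le (le_refl K) hs hsK
    rcases (Nat.Prime.dvd_mul hs).mp hsA with h | h
    · have := (Nat.prime_dvd_prime_iff_eq hs hPp).mp h
      exact hp (this ▸ hασ s hsα)
    · rcases (Nat.Prime.dvd_mul hs).mp h with h | h
      · exact hYprimes s hs h hsα
      · have := (Nat.prime_dvd_prime_iff_eq hs hRp).mp h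
        exact hr (this ▸ hασ s hsα)
  have hMsolv : Group.IsSolvable ↥M := hG.2.2.2 M hM.1
  have hKsolv : Group.IsSolvable ↥K :=
    solvable_of_solvable_injective (Subgroup.inclusion_injective hKM)
  obtain ⟨S, -, hAS⟩ := Cfsg.Agent.S0025.result A K hAK hcop (Or.inr hKsolv) t ⊥ bot_le
    (IsPGroup.of_bot) (by intro x _; rw [mem_normalizer_iff]; intro y; simp [mem_bot])
  set T : Subgroup G := (S : Subgroup ↥K).map K.subtype with hT
  have hTK : T ≤ K := Subgroup.map_subtype_le _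
  have hTp : IsPGroup t T := S.isPGroup'.map _
  have hTr : ¬ Cfsg.PRankLE t 2 ↥T := not_pRankLE_two_sylow S hrK
  have hTsolv : Group.IsSolvable ↥T :=
    solvable_of_solvable_injective (Subgroup.inclusion_injective hTK)
  have hPA : P ≤ A := le_sup_left
  have hYA : Y ≤ A := le_sup_left.trans le_sup_right
  have hRA : R ≤ A := le_sup_right.trans le_sup_right
  obtain ⟨n, hn⟩ := IsPGroup.iff_card.mp hTp
  have hcopY : (Nat.card T).Coprime (Nat.card Y) := by
    haveI : Fact q.Prime := ⟨hq⟩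
    obtain ⟨k, hk⟩ := IsPGroup.iff_card.mp hYq
    rw [hn, hk]
    exact Nat.Coprime.pow _ _ ((Nat.coprime_primes ht hq).mpr htq)
  have hcopR : (Nat.card T).Coprime (Nat.card R) := by
    rw [hn]
    exact Nat.Coprime.pow_left _ ((Nat.coprime_primes ht hRp).mpr htR)
  have hodd : Odd (Nat.card G) := hG.1
  have ht2 : t ≠ 2 := by
    rintro rfl
    have h1 : 2 ∣ Nat.card G := htd.trans (Subgroup.card_subgroup_dvd_card K)
    exact (Nat.not_even_iff_odd.mpr hodd) (even_iff_two_dvd.mpr h1)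
  have hTY : ¬ T ≤ centralizer (Y : Set G) := by
    intro h
    have h1 : T ≤ K ⊓ centralizer (Y : Set G) := le_inf hTK h
    have h2 : Cfsg.PRankLE t 1 ↥T := Cfsg.Agent.Lib.Helper17.pRankLE_of_le h1 (hrkY t ht)
    exact hTr (Cfsg.Agent.Lib.Helper1.BGX.pRankLE_mono ht.pos (by norm_num) h2)
  have hcyc : IsCyclic ↥(T ⊓ centralizer (P : Set G)) := by
    have hle : T ⊓ centralizer (P : Set G) ≤ K ⊓ centralizer (P : Set G) :=
      inf_le_inf_right _ hTK
    have h1 : IsPGroup t ↥((T ⊓ centralizer (P : Set G)).subgroupOf (K ⊓ centralizer (P : Set G))) := by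
      have h2 : IsPGroup t ↥(T ⊓ centralizer (P : Set G)) := hTp.to_le inf_le_left
      exact h2.comap_subtype
    have h3 := Cfsg.Agent.Lib.Helper17.isCyclic_of_pRankLE_one ht2 (hrkP t ht) _ h1
    exact isCyclic_of_surjective _ (Subgroup.subgroupOfEquivOfLe hle).surjective
  exact engine P Y R T hTsolv hPY hPR (hPA.trans hAS) (hYA.trans hAS) (hRA.trans hAS) hRY hRp hYR
    hYc hcopY hcopR hTY hcyc (fun x hx => hA ⟨hTK hx.1, hx.2⟩)

end Cfsg.Agent.Lib.Helper27.BG134
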