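import Mathlib
import Cfsg.Agent.Lib.Helper27.BG134A
import Cfsg.Agent.Lib.Helper22.RankTwoCharC
import Cfsg.Agent.Lib.Helper20.NormalRankTwoB
import Cfsg.Agent.Lib.Helper4.OrderP4

/-!
# B&G 13.4 (S1428): the `H`-side engine (abstract part)

* `lemmaF'`: Lemma (F) with the Frobenius hypotheses in the form "`R` of prime order normalizing
  `Y` with `C_Y(R) = 1`".
* `sq_le_card_omegaZ2`: for `p` odd, a noncyclic `p`-group `S` has `|Ω₁(Z₂(S))| ≥ p²`.
* `hengine`: `S_B` a noncyclic `p`-group centralizing `P` (of order `p`, inside `S_B`), normalized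
  by a Frobenius group `Y ⋊ R ≤ C(P)` acting coprimely, with `C_{S_B}(Y)`, `C_{S_B}(R)` having only
  cyclic subgroups: impossible.
-/

set_option autoImplicit false
open Subgroup
open scoped commutatorElement

namespace Cfsg.Agent.Lib.Helper27.BG134

section LemmaF

variable {X : Type*} [Group X] [Finite X]

/-- Lemma (F), user-friendly hypotheses. -/
theorem lemmaF' (Y R U : Subgroup X) (hRY : R ≤ normalizer (Y : Set X))
    (hRp : (Nat.card R).Prime) (hYR : Y ⊓ centralizer (R : Set X) = ⊥) (hY1 : Y ≠ ⊥)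
    (hYU : Y ≤ normalizer (U : Set X)) (hRU : R ≤ normalizer (U : Set X))
    (hcopY : (Nat.card U).Coprime (Nat.card Y)) (hcopR : (Nat.card U).Coprime (Nat.card R))
    (hUsolv : Group.IsSolvable U)
    (hle : U ⊓ centralizer (R : Set X) ≤ centralizer (Y : Set X)) :
    U ≤ centralizer (Y : Set X) := by
  have hR1 : R ≠ ⊥ := by
    intro h
    rw [h, Subgroup.card_bot] at hRp
    exact Nat.not_prime_one hRp
  haveI : Fact (Nat.card R).Prime := ⟨hRp⟩
  have hRcomm : R ≤ centralizer (R : Set X) := by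
    intro a ha
    rw [mem_centralizer_iff]
    intro b hb
    have hcy : IsCyclic ↥R := isCyclic_of_prime_card rfl
    have := Cfsg.Agent.Lib.Helper24.BGExB.comm_of_isCyclic (H := ↥R) ⟨b, hb⟩ ⟨a, ha⟩
    exact congrArg Subtype.val this
  have hYRbot : Y ⊓ R = ⊥ := by
    rw [eq_bot_iff, ← hYR]
    exact inf_le_inf_left _ hRcomm
  have hRn : ∀ e ∈ R, ∀ u ∈ Y, e * u * e⁻¹ ∈ Y := fun e he u hu =>
    (mem_normalizer_iff.mp (hRY he) u).mp hu
  have hfpf : ∀ e ∈ R, e ≠ 1 → ∀ u ∈ Y, e * u = u * e → u = 1 := by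
    intro e he he1 u hu hcom
    have hz : zpowers e = R := by
      have h1 : zpowers e ≤ R := by rw [zpowers_le]; exact he
      apply Subgroup.eq_of_le_of_card_ge h1
      rw [Nat.card_zpowers]
      have h2 : orderOf e ∣ Nat.card R := by
        have := orderOf_dvd_natCard (⟨e, he⟩ : ↥R)
        rwa [Subgroup.orderOf_mk] at this
      rcases (Nat.dvd_prime hRp).mp h2 with h3 | h3
      · exact absurd (orderOf_eq_one_iff.mp h3) he1
      · exact le_of_eq h3.symm
    have hu2 : u ∈ centralizer (R : Set X) := by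
      rw [← hz, mem_centralizer_iff]
      intro b hb
      obtain ⟨k, rfl⟩ := mem_zpowers_iff.mp hb
      exact ((Commute.zpow_left (show Commute e u from hcom) k)).eq
    have : u ∈ Y ⊓ centralizer (R : Set X) := ⟨hu, hu2⟩
    rw [hYR] at this
    exact mem_bot.mp this
  have hYRU : Y ⊔ R ≤ normalizer (U : Set X) := sup_le hYU hRU
  have hUn : ∀ x ∈ Y ⊔ R, ∀ h ∈ U, x * h * x⁻¹ ∈ U := fun x hx h hh =>
    (mem_normalizer_iff.mp (hYRU hx) h).mp hh
  have hcardYR : Nat.card ↥(Y ⊔ R) ∣ Nat.card Y * Nat.card R := by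
    rw [sup_comm, mul_comm]
    exact Cfsg.Agent.Lib.Helper1.SLFree.card_sup_dvd_of_le_normalizer R Y hRY
  have hcop : (Nat.card U).Coprime (Nat.card ↥(Y ⊔ R)) :=
    Nat.Coprime.coprime_dvd_right hcardYR (Nat.Coprime.mul_right hcopY hcopR)
  have hdisj : U ⊓ (Y ⊔ R) = ⊥ := by
    rw [eq_bot_iff]
    intro x hx
    rw [mem_bot]
    have h1 : orderOf x ∣ Nat.card U := by
      have := orderOf_dvd_natCard (⟨x, hx.1⟩ : ↥U)
      rwa [Subgroup.orderOf_mk] at this
    have h2 : orderOf x ∣ Nat.card ↥(Y ⊔ R) := by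
      have := orderOf_dvd_natCard (⟨x, hx.2⟩ : ↥(Y ⊔ R))
      rwa [Subgroup.orderOf_mk] at this
    have h3 : orderOf x ∣ 1 := by
      have := Nat.dvd_gcd h1 h2
      rwa [hcop] at this
    exact orderOf_eq_one_iff.mp (Nat.dvd_one.mp h3)
  exact lemmaF Y R U hY1 hR1 hYRbot hRn hfpf hUn hdisj hUsolv hcop hle

end LemmaF

section Omega

open Cfsg.Agent.Lib.Helper22.RankTwoChar

variable {S : Type*} [Group S] [Finite S] {p : ℕ} [Fact p.Prime]

/-- In a `p`-group, commutators with elements of a normal subgroup of order `p²` are central. -/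
theorem comm_mem_center_of_normal_sq (hS : IsPGroup p S) (E : Subgroup S) [hEn : E.Normal]
    (hE : Nat.card E = p ^ 2) {y : S} (hy : y ∈ E) (g : S) : ⁅y, g⁆ ∈ center S := by
  have hpp : p.Prime := Fact.out
  set C : Subgroup S := ⁅E, (⊤ : Subgroup S)⁆ with hC
  haveI : C.Normal := Subgroup.commutator_normal E ⊤
  have hCE : C ≤ E := Subgroup.commutator_le_left E ⊤
  have hyC : ⁅y, g⁆ ∈ C := Subgroup.commutator_mem_commutator hy (mem_top g)
  have hE1 : E ≠ ⊥ := by
    intro h
    rw [h, Subgroup.card_bot] at hE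
    have := Nat.one_lt_pow (n := 2) (by norm_num) hpp.one_lt
    omega
  have hCne : C ≠ E := by
    intro h
    haveI : Group.IsNilpotent S := hS.isNilpotent
    obtain ⟨n, hn⟩ := (Subgroup.nilpotent_iff_lowerCentralSeries (G := S)).mp inferInstance
    have key : ∀ k, E ≤ (⊤ : Subgroup S).lowerCentralSeries k := by
      intro k
      induction k with
      | zero => rw [Subgroup.lowerCentralSeries_zero]; exact le_top
      | succ k ih =>
        rw [Subgroup.lowerCentralSeries_succ]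
        calc E = ⁅E, (⊤ : Subgroup S)⁆ := h.symm
          _ ≤ ⁅(⊤ : Subgroup S).lowerCentralSeries k, (⊤ : Subgroup S)⁆ :=
            Subgroup.commutator_mono ih le_rfl
    have := key n
    rw [hn] at this
    exact hE1 (eq_bot_iff.mpr this)
  have hdvd : Nat.card C ∣ p ^ 2 := hE ▸ Subgroup.card_dvd_of_le hCE
  obtain ⟨k, hk2, hk⟩ := (Nat.dvd_prime_pow hpp).mp hdvd
  have hk' : k = 0 ∨ k = 1 := by
    have : k ≠ 2 := by
      rintro rfl
      apply hCne
      exact Subgroup.eq_of_le_of_card_ge hCE (by rw [hk, hE])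
    omega
  rcases hk' with rfl | rfl
  · rw [pow_zero] at hk
    have : C = ⊥ := Subgroup.card_eq_one.mp hk
    rw [this, mem_bot] at hyC
    rw [hyC]; exact one_mem _
  · rw [pow_one] at hk
    exact Cfsg.Agent.Lib.Helper4.le_center_of_normal_of_card_eq_prime hS C hk hyC

/-- For odd `p`, `Ω₁(Z₂(S))` of a noncyclic `p`-group `S` has order at least `p²`. -/
theorem sq_le_card_omegaZ2 (hp2 : p ≠ 2) (hS : IsPGroup p S) (hnc : ¬ IsCyclic S) :
    p ^ 2 ≤ Nat.card (omegaZ2 (Fact.out : p.Prime) hp2 S) := by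
  obtain ⟨E, hEn, -, hEe, hEcard⟩ :=
    Cfsg.Agent.Lib.Helper20.exists_normal_elemAb_of_not_isCyclic hp2 hS hnc
  have hle : E ≤ omegaZ2 (Fact.out : p.Prime) hp2 S := by
    intro y hy
    exact ⟨hEe y hy, fun g => comm_mem_center_of_normal_sq hS E hEcard hy g⟩
  rw [← hEcard]
  exact Subgroup.card_le_of_le hle

end Omega

end Cfsg.Agent.Lib.Helper27.BG134
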