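import Mathlib
import Cfsg.Agent.Lib.Helper27.BG134C

/-!
# B&G 13.4 (S1428): the `H`-side engine (abstract form)
-/

set_option autoImplicit false
open Subgroup
open scoped commutatorElement

namespace Cfsg.Agent.Lib.Helper27.BG134

open Cfsg.Agent.Lib.Helper22.RankTwoChar

variable {X : Type*} [Group X]

theorem le_normalizer_of_conj_mem' {S T : Subgroup X}
    (h : ∀ s ∈ S, ∀ t ∈ T, s * t * s⁻¹ ∈ T) : S ≤ normalizer (T : Set X) := by
  intro s hs
  rw [mem_normalizer_iff]
  intro t
  constructor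
  · exact h s hs t
  · intro ht
    have := h s⁻¹ (S.inv_mem hs) _ ht
    simpa [mul_assoc] using this

/-- a cyclic group of exponent `p` has order at most `p`. -/
theorem card_le_of_isCyclic_of_exp {V : Type*} [Group V] [Finite V] [IsCyclic V] {p : ℕ}
    (hp : 0 < p) (h : ∀ v : V, v ^ p = 1) : Nat.card V ≤ p := by
  obtain ⟨g, hg⟩ := IsCyclic.exists_generator (α := V)
  rw [← orderOf_eq_card_of_forall_mem_zpowers hg]
  exact Nat.le_of_dvd hp (orderOf_dvd_of_pow_eq_one (h g))

variable [Finite X]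

/-- **The `H`-side engine**. -/
theorem hengine (P Y R SB : Subgroup X) {p : ℕ} [Fact p.Prime] (hp2 : p ≠ 2)
    (hSB : IsPGroup p SB) (hPSB : P ≤ SB) (hPc : Nat.card P = p)
    (hSBP : SB ≤ centralizer (P : Set X))
    (hPY : Y ≤ centralizer (P : Set X))
    (hYS : Y ≤ normalizer (SB : Set X)) (hRS : R ≤ normalizer (SB : Set X))
    (hRY : R ≤ normalizer (Y : Set X))
    (hRp : (Nat.card R).Prime) (hYR : Y ⊓ centralizer (R : Set X) = ⊥) (hY1 : Y ≠ ⊥)
    (hcopY : p.Coprime (Nat.card Y)) (hcopR : p.Coprime (Nat.card R))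
    (hnc : ¬ IsCyclic ↥SB)
    (hcycY : ∀ V : Subgroup X, V ≤ SB ⊓ centralizer (Y : Set X) → IsCyclic ↥V)
    (hcycR : ∀ V : Subgroup X, V ≤ SB ⊓ centralizer (R : Set X) → IsCyclic ↥V)
    (hPR : R ≤ centralizer (P : Set X)) : False := by
  classical
  have hpp : p.Prime := Fact.out
  set W : Subgroup X := (omegaZ2 hpp hp2 ↥SB).map SB.subtype with hW
  have hWSB : W ≤ SB := Subgroup.map_subtype_le _
  have hWexp : ∀ w ∈ W, w ^ p = 1 := by
    rintro _ ⟨y, hy, rfl⟩
    have := congrArg Subtype.val hy.1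
    simpa using this
  have hSBp : IsPGroup p ↥SB := hSB
  have hWcard : p ^ 2 ≤ Nat.card W := by
    rw [hW, Subgroup.card_map_of_injective SB.subtype_injective]
    exact sq_le_card_omegaZ2 hp2 hSBp hnc
  have hPW : P ≤ W := by
    intro x hx
    refine ⟨⟨x, hPSB hx⟩, ⟨?_, ?_⟩, rfl⟩
    · apply Subtype.ext
      have h1 : x ^ Nat.card P = 1 := by
        have := pow_card_eq_one' (G := ↥P) (x := ⟨x, hx⟩)
        exact congrArg Subtype.val this
      rw [hPc] at h1
      simpa using h1
    · intro g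
      have hc : (⟨x, hPSB hx⟩ : ↥SB) * g = g * ⟨x, hPSB hx⟩ := by
        apply Subtype.ext
        have := mem_centralizer_iff.mp (hSBP g.2) x hx
        simpa using this
      have : ⁅(⟨x, hPSB hx⟩ : ↥SB), g⁆ = 1 := by
        rw [commutatorElement_eq_one_iff_commute]
        exact hc
      rw [this]
      exact one_mem _
  have hNW : normalizer (SB : Set X) ≤ normalizer (W : Set X) := by
    apply le_normalizer_of_conj_mem'
    intro a ha x hx
    exact Cfsg.Agent.Lib.Helper1.conj_mem_map_subtype_of_characteristic SB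
      (omegaZ2 hpp hp2 ↥SB) ha hx
  have hYW : Y ≤ normalizer (W : Set X) := hYS.trans hNW
  have hRW : R ≤ normalizer (W : Set X) := hRS.trans hNW
  have hWp : IsPGroup p ↥W := hSB.to_le hWSB
  -- centralizers in `W`
  have hcent : ∀ Z : Subgroup X, P ≤ centralizer (Z : Set X) →
      (∀ V : Subgroup X, V ≤ SB ⊓ centralizer (Z : Set X) → IsCyclic ↥V) →
      W ⊓ centralizer (Z : Set X) = P := by
    intro Z hPZ hcyc
    have hle : P ≤ W ⊓ centralizer (Z : Set X) := le_inf hPW hPZ
    haveI : IsCyclic ↥(W ⊓ centralizer (Z : Set X)) := hcyc _ (inf_le_inf_right _ hWSB)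
    have hcard : Nat.card ↥(W ⊓ centralizer (Z : Set X)) ≤ p := by
      apply card_le_of_isCyclic_of_exp hpp.pos
      intro v
      apply Subtype.ext
      have := hWexp v.1 v.2.1
      simpa using this
    exact (Subgroup.eq_of_le_of_card_ge hle (by rw [hPc]; exact hcard)).symm
  have hPcY : P ≤ centralizer (Y : Set X) := by
    rw [Subgroup.le_centralizer_iff]; exact hPY
  have hPcR : P ≤ centralizer (R : Set X) := by
    rw [Subgroup.le_centralizer_iff]; exact hPR
  have hWY : W ⊓ centralizer (Y : Set X) = P := hcent Y hPcY hcycY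
  have hWR : W ⊓ centralizer (R : Set X) = P := hcent R hPcR hcycR
  have hnotle : ¬ W ≤ centralizer (Y : Set X) := by
    intro h
    have h1 : W = P := by rw [← hWY]; exact (inf_eq_left.mpr h).symm
    rw [h1, hPc] at hWcard
    have : p < p ^ 2 := by
      calc p = p ^ 1 := (pow_one p).symm
        _ < p ^ 2 := Nat.pow_lt_pow_right hpp.one_lt (by norm_num)
    omega
  set U : Subgroup X := ⁅W, Y⁆ with hU
  have hUW : U ≤ W := Cfsg.Agent.Lib.Helper1.commutator_le_of_le_normalizer hYW
  obtain ⟨n, hn⟩ := IsPGroup.iff_card.mp hWp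
  have hWsolv : Group.IsSolvable ↥W := by
    haveI : Group.IsNilpotent ↥W := hWp.isNilpotent
    infer_instance
  have hcopWY : (Nat.card W).Coprime (Nat.card Y) := by
    rw [hn]; exact Nat.Coprime.pow_left _ hcopY
  have hcopWR : (Nat.card W).Coprime (Nat.card R) := by
    rw [hn]; exact Nat.Coprime.pow_left _ hcopR
  have hUU : ⁅U, Y⁆ = U :=
    Cfsg.Agent.Lib.Helper16.BGPrim.comm_comm_eq_coprime W Y hYW hcopWY.symm (Or.inr hWsolv)
  have hU1 : U ≠ ⊥ := by
    intro h
    exact hnotle (Subgroup.commutator_eq_bot_iff_le_centralizer.mp h)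
  have hYU : Y ≤ normalizer (U : Set X) := fun y hy =>
    mem_normalizer_commutator (hYW hy) (le_normalizer hy)
  have hRU : R ≤ normalizer (U : Set X) := fun y hy =>
    mem_normalizer_commutator (hRW hy) (hRY hy)
  have hle : U ⊓ centralizer (R : Set X) ≤ centralizer (Y : Set X) := by
    intro x hx
    have : x ∈ W ⊓ centralizer (R : Set X) := ⟨hUW hx.1, hx.2⟩
    rw [hWR] at this
    exact hPcY this
  have hUsolv : Group.IsSolvable ↥U :=
    solvable_of_solvable_injective (Subgroup.inclusion_injective hUW)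
  have hfin := lemmaF' Y R U hRY hRp hYR hY1 hYU hRU
    (Nat.Coprime.coprime_dvd_left (Subgroup.card_dvd_of_le hUW) hcopWY)
    (Nat.Coprime.coprime_dvd_left (Subgroup.card_dvd_of_le hUW) hcopWR) hUsolv hle
  have : ⁅U, Y⁆ = ⊥ := Subgroup.commutator_eq_bot_iff_le_centralizer.mpr hfin
  rw [hUU] at this
  exact hU1 this

end Cfsg.Agent.Lib.Helper27.BG134
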