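import Mathlib
import Cfsg.Agent.Lib.Helper27.BG134B
import Cfsg.Agent.Lib.Helper27.BG134D
import Cfsg.Agent.Lib.Helper16.BGLemN

/-!
# B&G 13.4 (S1428): the `H`-side argument in hypothesis form (`hside`)

`H` maximal, `P ≤ H` of prime order `p ∈ α(H)`, `Y ⋊ R ≤ C_H(P)` a Frobenius group (`R` of prime
order `r ∉ α(H)`, `Y` a `q`-group, `q ∉ α(H)`, `C_Y(R) = 1`), neither `C_H(Y)` nor `C_H(R)` in a
unique maximal subgroup.  Then `False`.   (= helper16's (D3β) / Theorem B, case `L ≠ H`.)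
-/

set_option autoImplicit false
open Subgroup Cfsg
open scoped commutatorElement

namespace Cfsg.Agent.Lib.Helper27.BG134

open Cfsg.Agent.Lib.Helper16.BGLemN (omegaZ omegaZ_le omegaZ_comm omegaZ_ne_bot mem_omegaZ)

variable {G : Type*} [Group G] [Finite G]

/-- A Sylow `t`-subgroup of `K` inherits "rank > k" from `K`. -/
theorem not_pRankLE_sylow {K : Subgroup G} {t k : ℕ} [Fact t.Prime] (S : Sylow t ↥K)
    (h : ¬ Cfsg.PRankLE t k ↥K) : ¬ Cfsg.PRankLE t k ↥((S : Subgroup ↥K).map K.subtype) := by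
  intro h1
  apply h
  have h2 : Cfsg.PRankLE t k ↥(S : Subgroup ↥K) :=
    (Cfsg.Agent.Lib.Helper9.pRankLE_map_subtype K (S : Subgroup ↥K) t k).mp h1
  apply Cfsg.Agent.Lib.Helper17.BGU.pRankLE_of_sylow S
  intro E hES hEc hEe
  have h3 : Cfsg.PRankLE t k ↥E := Cfsg.Agent.Lib.Helper17.pRankLE_of_le hES h2
  have h4 := h3 ⊤ (by
    refine ⟨⟨?_⟩⟩
    rintro ⟨a, -⟩ ⟨b, -⟩
    apply Subtype.ext
    exact hEc.is_comm.comm a b) (by
    rintro a -
    apply Subtype.ext
    have := hEe a.1 a.2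
    rw [Subgroup.coe_pow, this]; rfl)
  rwa [Subgroup.card_top] at h4

/-- a cyclic group has `p`-rank at most one. -/
theorem pRankLE_one_of_isCyclic {V : Type*} [Group V] [Finite V] [IsCyclic V] {p : ℕ}
    (hp : 0 < p) : Cfsg.PRankLE p 1 V := by
  intro A _ hA
  rw [pow_one]
  haveI : IsCyclic ↥A := Subgroup.isCyclic A
  apply card_le_of_isCyclic_of_exp hp
  intro v
  apply Subtype.ext
  simpa using hA v.1 v.2

/-- In a `p`-group `S₀` of rank at least 3, the centralizer of a subgroup `P` of order `p` has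
rank at least 2. -/
theorem exists_elemAb_centralizer {S₀ P : Subgroup G} {p : ℕ} [Fact p.Prime]
    (hS₀ : IsPGroup p S₀) (hPS : P ≤ S₀) (hPc : Nat.card P = p)
    (hr : ¬ Cfsg.PRankLE p 2 ↥S₀) :
    ∃ E : Subgroup G, E ≤ S₀ ⊓ centralizer (P : Set G) ∧ (∀ a ∈ E, ∀ b ∈ E, a * b = b * a) ∧
      (∀ a ∈ E, a ^ p = 1) ∧ p < Nat.card E := by
  classical
  have hpp : p.Prime := Fact.out
  have hPcomm : ∀ a ∈ P, ∀ b ∈ P, a * b = b * a := by
    intro a ha b hb
    haveI : Fact (Nat.card P).Prime := ⟨hPc ▸ hpp⟩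
    have hcy : IsCyclic ↥P := isCyclic_of_prime_card rfl
    have := Cfsg.Agent.Lib.Helper24.BGExB.comm_of_isCyclic (H := ↥P) ⟨a, ha⟩ ⟨b, hb⟩
    exact congrArg Subtype.val this
  have hPexp : ∀ a ∈ P, a ^ p = 1 := by
    intro a ha
    have := pow_card_eq_one' (G := ↥P) (x := ⟨a, ha⟩)
    rw [hPc] at this
    exact congrArg Subtype.val this
  set Z1 : Subgroup G := omegaZ p S₀ with hZ1
  by_cases hPZ : P ≤ Z1
  · -- `P` central in `S₀`
    obtain ⟨E, hES, hEc, hEe, hEcard⟩ :=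
      Cfsg.Agent.Lib.Helper17.BGU.exists_elemAb_of_not_pRankLE hr
    refine ⟨E, ?_, hEc, hEe, ?_⟩
    · intro x hx
      refine ⟨hES hx, ?_⟩
      show x ∈ centralizer (P : Set G)
      rw [mem_centralizer_iff]
      intro y hy
      have := mem_centralizer_iff.mp (hPZ hy).2.1 x (hES hx)
      exact this.symm
    · have : p ^ 1 < p ^ 2 := Nat.pow_lt_pow_right hpp.one_lt (by norm_num)
      rw [pow_one] at this
      omega
  · -- `E = Ω₁(Z(S₀)) P`
    have hS1 : S₀ ≠ ⊥ := by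
      intro h
      rw [h] at hPS
      have : P = ⊥ := eq_bot_iff.mpr hPS
      rw [this, Subgroup.card_bot] at hPc
      exact hpp.ne_one hPc.symm
    have hZne : Z1 ≠ ⊥ := omegaZ_ne_bot hS₀ hS1
    set E : Subgroup G := Z1 ⊔ P with hE
    have hZ1S : Z1 ≤ S₀ := omegaZ_le p S₀
    have hZ1cP : Z1 ≤ centralizer (P : Set G) := by
      intro z hz
      rw [mem_centralizer_iff]
      intro y hy
      have := mem_centralizer_iff.mp hz.2.1 y (hPS hy)
      exact this
    have hPcP : P ≤ centralizer (P : Set G) := by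
      intro a ha
      rw [mem_centralizer_iff]
      intro b hb
      exact hPcomm b hb a ha
    have hEcP : E ≤ centralizer (P : Set G) := sup_le hZ1cP hPcP
    have hEcZ : E ≤ centralizer (Z1 : Set G) := by
      apply sup_le
      · intro a ha
        rw [mem_centralizer_iff]
        intro b hb
        exact omegaZ_comm b hb a ha
      · rw [Subgroup.le_centralizer_iff]; exact hZ1cP
    have hEcE : E ≤ centralizer (E : Set G) := by
      rw [hE]
      apply sup_le
      · rw [Subgroup.le_centralizer_iff]; exact hEcZ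
      · rw [Subgroup.le_centralizer_iff]; exact hEcP
    have hEcomm : ∀ a ∈ E, ∀ b ∈ E, a * b = b * a := by
      intro a ha b hb
      exact (mem_centralizer_iff.mp (hEcE hb) a ha)
    -- exponent
    let T : Subgroup G :=
      { carrier := {x | x ∈ E ∧ x ^ p = 1}
        one_mem' := ⟨E.one_mem, one_pow p⟩
        mul_mem' := by
          rintro a b ⟨ha, hap⟩ ⟨hb, hbp⟩
          refine ⟨E.mul_mem ha hb, ?_⟩
          rw [(show Commute a b from hEcomm a ha b hb).mul_pow, hap, hbp, one_mul]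
        inv_mem' := by
          rintro a ⟨ha, hap⟩
          exact ⟨E.inv_mem ha, by rw [inv_pow, hap, inv_one]⟩ }
    have hET : E ≤ T := by
      apply sup_le
      · intro z hz
        exact ⟨le_sup_left (a := Z1) (b := P) hz, hz.2.2⟩
      · intro a ha
        exact ⟨le_sup_right (a := Z1) (b := P) ha, hPexp a ha⟩
    refine ⟨E, le_inf (sup_le hZ1S hPS) hEcP, hEcomm, fun a ha => (hET ha).2, ?_⟩
    by_contra hcon
    have hle : Nat.card E ≤ Nat.card P := by rw [hPc]; omega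
    have hPE : P = E := Subgroup.eq_of_le_of_card_ge le_sup_right hle
    have hZP : Z1 ≤ P := by rw [hPE]; exact le_sup_left
    have hZcard : Nat.card Z1 ∣ p := hPc ▸ Subgroup.card_dvd_of_le hZP
    rcases (Nat.dvd_prime hpp).mp hZcard with h1 | h1
    · exact hZne (Subgroup.card_eq_one.mp h1)
    · apply hPZ
      have : Z1 = P := Subgroup.eq_of_le_of_card_ge hZP (by rw [h1, hPc])
      rw [this]

/-- subgroups of a `p`-subgroup of a group of `p`-rank at most one are cyclic (`p` odd). -/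
theorem isCyclic_of_le_of_pRankLE_one {D V : Subgroup G} {p : ℕ} [Fact p.Prime] (hp2 : p ≠ 2)
    (hrk : Cfsg.PRankLE p 1 ↥D) (hVD : V ≤ D) (hV : IsPGroup p V) : IsCyclic ↥V := by
  have h1 : IsPGroup p ↥(V.subgroupOf D) := hV.comap_subtype
  have h3 := Cfsg.Agent.Lib.Helper17.isCyclic_of_pRankLE_one hp2 hrk _ h1
  exact isCyclic_of_surjective _ (Subgroup.subgroupOfEquivOfLe hVD).surjective

/-- a `t`-subgroup of `M` lies in `M_α` when `t ∈ α(M)`. -/
theorem le_alphaCore_of_isPGroup (hG : Cfsg.IsMinSimpleOddOrder G) {M : Subgroup G}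
    (hM : IsCoatom M) {t : ℕ} [Fact t.Prime] (ht : t ∈ Cfsg.alpha M) {E : Subgroup G} (hEM : E ≤ M)
    (hE : IsPGroup t E) : E ≤ Cfsg.alphaCore M := by
  have hU : Cfsg.Agent.Lib.Helper1.BGX.UT G := fun K hK h2 h3 => Cfsg.Agent.S1403.result hG K hK h2 h3
  obtain ⟨hHall, -, -, -, -⟩ := Cfsg.Agent.Lib.Helper1.BGX.malpha hG hU hM
  have htp : t.Prime := Fact.out
  have hidx : ¬ t ∣ (Cfsg.piCore (Cfsg.alpha M) ↥M).index := by
    rw [← Cfsg.Agent.Lib.Helper1.BGX.alphaCore_relIndex]; exact hHall.2.2 t htp ht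
  obtain ⟨k, hk⟩ := IsPGroup.iff_card.mp hE
  have hsub : E.subgroupOf M ≤ Cfsg.piCore (Cfsg.alpha M) ↥M := by
    apply Cfsg.Agent.Lib.Helper23.BGY.le_of_coprime_index_normal
    rw [Cfsg.Agent.Lib.Helper1.card_subgroupOf_of_le hEM, hk]
    exact Nat.Coprime.pow_left k ((Nat.Prime.coprime_iff_not_dvd htp).mpr hidx)
  intro x hx
  exact ⟨⟨x, hEM hx⟩, hsub (Subgroup.mem_subgroupOf.mpr hx), rfl⟩

theorem hside (hG : Cfsg.IsMinSimpleOddOrder G) {H : Subgroup G} (hH : IsCoatom H)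
    {P R Y : Subgroup G} (hPH : P ≤ H) (hRH : R ≤ H) (hYH : Y ≤ H)
    {q : ℕ} (hq : q.Prime)
    (hPp : (Nat.card P).Prime) (hRp : (Nat.card R).Prime)
    (hpα : Nat.card P ∈ Cfsg.alpha H) (hrα : Nat.card R ∉ Cfsg.alpha H)
    (hYq : IsPGroup q Y) (hqα : q ∉ Cfsg.alpha H)
    (hPY : Y ≤ centralizer (P : Set G)) (hPR : R ≤ centralizer (P : Set G))
    (hRY : R ≤ normalizer (Y : Set G))
    (hYR : Y ⊓ centralizer (R : Set G) = ⊥) (hY1 : Y ≠ ⊥)
    (hnuY : ¬ Cfsg.InUniqueMaximal (H ⊓ centralizer (Y : Set G)))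
    (hnuR : ¬ Cfsg.InUniqueMaximal (H ⊓ centralizer (R : Set G))) : False := by
  classical
  have hU : Cfsg.Agent.Lib.Helper1.BGX.UT G := fun K hK h2 h3 => Cfsg.Agent.S1403.result hG K hK h2 h3
  set p := Nat.card P with hp
  haveI : Fact p.Prime := ⟨hPp⟩
  set K : Subgroup G := Cfsg.alphaCore H with hK
  have hKH : K ≤ H := Cfsg.Agent.Lib.Helper1.BGX.alphaCore_le H
  have hHK : H ≤ normalizer (K : Set G) := Cfsg.Agent.Lib.Helper1.BGX.le_normalizer_alphaCore H
  have hodd : Odd (Nat.card G) := hG.1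
  have hp2 : p ≠ 2 := by
    intro h2
    have h1 : 2 ∣ Nat.card G := by
      rw [← h2, hp]
      exact Subgroup.card_subgroup_dvd_card P
    exact (Nat.not_even_iff_odd.mpr hodd) (even_iff_two_dvd.mpr h1)
  have hPpg : IsPGroup p P := IsPGroup.of_card (n := 1) (by rw [pow_one])
  have hPK : P ≤ K := le_alphaCore_of_isPGroup hG hH hpα hPH hPpg
  -- primes
  have hYprimes : ∀ s : ℕ, s.Prime → s ∣ Nat.card Y → s ∉ Cfsg.alpha H := by
    intro s hs hsd
    haveI : Fact q.Prime := ⟨hq⟩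
    obtain ⟨k, hk⟩ := IsPGroup.iff_card.mp hYq
    rw [hk] at hsd
    have := (Nat.prime_dvd_prime_iff_eq hs hq).mp (hs.dvd_of_dvd_pow hsd)
    rw [this]; exact hqα
  have hRprimes : ∀ s : ℕ, s.Prime → s ∣ Nat.card R → s ∉ Cfsg.alpha H := by
    intro s hs hsd
    have := (Nat.prime_dvd_prime_iff_eq hs hRp).mp hsd
    rw [this]; exact hrα
  have hrkY : Cfsg.RankLE 1 ↥(K ⊓ centralizer (Y : Set G)) := by
    by_contra h
    exact hnuY (Cfsg.Agent.S1406.result hG H hH Y hYH hYprimes h)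
  have hrkR : Cfsg.RankLE 1 ↥(K ⊓ centralizer (R : Set G)) := by
    by_contra h
    exact hnuR (Cfsg.Agent.S1406.result hG H hH R hRH hRprimes h)
  -- rank of `K`
  have hrK : ¬ Cfsg.PRankLE p 2 ↥K := by
    obtain ⟨E, hEH, hEc, hEe, hEcard⟩ :=
      Cfsg.Agent.Lib.Helper17.BGU.exists_elemAb_of_not_pRankLE hpα.2
    have hEp : IsPGroup p E := by
      intro x
      refine ⟨1, ?_⟩
      rw [pow_one]
      exact Subtype.ext (by simpa using hEe x.1 x.2)
    have hEK : E ≤ K := le_alphaCore_of_isPGroup hG hH hpα hEH hEp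
    exact Cfsg.Agent.Lib.Helper17.BGU.not_pRankLE_of_elemAb hEK hEc hEe hEcard
  -- a Sylow `p`-subgroup of `K` over `P`
  have hPpgK : IsPGroup p ↥(P.subgroupOf K) := hPpg.comap_subtype
  obtain ⟨S0, hS0⟩ := hPpgK.exists_le_sylow
  set S₀ : Subgroup G := (S0 : Subgroup ↥K).map K.subtype with hS₀
  have hS₀K : S₀ ≤ K := Subgroup.map_subtype_le _
  have hPS₀ : P ≤ S₀ := by
    intro x hx
    exact ⟨⟨x, hPK hx⟩, hS0 (Subgroup.mem_subgroupOf.mpr hx), rfl⟩
  have hS₀p : IsPGroup p S₀ := S0.isPGroup'.map _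
  have hS₀r : ¬ Cfsg.PRankLE p 2 ↥S₀ := not_pRankLE_sylow S0 hrK
  obtain ⟨E0, hE0le, hE0c, hE0e, hE0card⟩ := exists_elemAb_centralizer hS₀p hPS₀ rfl hS₀r
  -- `B = C_K(P)`
  set B : Subgroup G := K ⊓ centralizer (P : Set G) with hB
  have hE0B : E0 ≤ B := hE0le.trans (inf_le_inf_right _ hS₀K)
  have hrB : ¬ Cfsg.PRankLE p 1 ↥B :=
    Cfsg.Agent.Lib.Helper17.BGU.not_pRankLE_of_elemAb hE0B hE0c hE0e (by rw [pow_one]; exact hE0card)
  set A : Subgroup G := Y ⊔ R with hA
  have hAH : A ≤ H := sup_le hYH hRH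
  have hAcP : A ≤ centralizer (P : Set G) := sup_le hPY hPR
  have hAB : A ≤ normalizer (B : Set G) := by
    intro a ha
    exact mem_normalizer_inf (hHK (hAH ha)) (le_normalizer (hAcP ha))
  have hcardA : Nat.card A ∣ Nat.card Y * Nat.card R := by
    rw [hA, sup_comm, mul_comm]
    exact Cfsg.Agent.Lib.Helper1.SLFree.card_sup_dvd_of_le_normalizer R Y hRY
  have hcop : (Nat.card A).Coprime (Nat.card B) := by
    apply Nat.Coprime.coprime_dvd_left hcardA
    apply Nat.Coprime.symm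
    apply Nat.coprime_of_dvd
    intro s hs hsB hsA
    have hsα : s ∈ Cfsg.alpha H :=
      Cfsg.Agent.Lib.Helper19.BG123.mem_alpha_of_dvd_card_le (inf_le_left : B ≤ K) hs hsB
    rcases (Nat.Prime.dvd_mul hs).mp hsA with h | h
    · exact hYprimes s hs h hsα
    · exact hRprimes s hs h hsα
  have hHsolv : Group.IsSolvable ↥H := hG.2.2.2 H hH.1
  have hBsolv : Group.IsSolvable ↥B :=
    solvable_of_solvable_injective (Subgroup.inclusion_injective ((inf_le_left : B ≤ K).trans hKH))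
  have hPcP : P ≤ centralizer (P : Set G) := by
    intro a ha
    rw [mem_centralizer_iff]
    intro b hb
    haveI : Fact (Nat.card P).Prime := ⟨hPp⟩
    have hcy : IsCyclic ↥P := isCyclic_of_prime_card rfl
    have := Cfsg.Agent.Lib.Helper24.BGExB.comm_of_isCyclic (H := ↥P) ⟨b, hb⟩ ⟨a, ha⟩
    exact congrArg Subtype.val this
  have hPB : P ≤ B := le_inf hPK hPcP
  have hAP : A ≤ normalizer (P : Set G) := hAcP.trans (centralizer_le_normalizer _)
  obtain ⟨S, hPS, hAS⟩ := Cfsg.Agent.S0025.result A B hAB hcop (Or.inr hBsolv) p P hPB hPpg hAP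
  set SB : Subgroup G := (S : Subgroup ↥B).map B.subtype with hSB
  have hSBB : SB ≤ B := Subgroup.map_subtype_le _
  have hSBp : IsPGroup p SB := S.isPGroup'.map _
  have hSBr : ¬ Cfsg.PRankLE p 1 ↥SB := not_pRankLE_sylow S hrB
  have hnc : ¬ IsCyclic ↥SB := by
    intro h
    haveI := h
    exact hSBr (pRankLE_one_of_isCyclic hPp.pos)
  have hcopY : p.Coprime (Nat.card Y) := by
    haveI : Fact q.Prime := ⟨hq⟩
    obtain ⟨k, hk⟩ := IsPGroup.iff_card.mp hYq
    rw [hk]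
    apply Nat.Coprime.pow_right
    rw [Nat.coprime_primes hPp hq]
    intro h
    exact hqα (h ▸ hpα)
  have hcopR : p.Coprime (Nat.card R) := by
    rw [Nat.coprime_primes hPp hRp]
    intro h
    exact hrα (h ▸ hpα)
  have hYA : Y ≤ A := le_sup_left
  have hRA : R ≤ A := le_sup_right
  exact hengine P Y R SB hp2 hSBp hPS rfl (hSBB.trans inf_le_right) hPY (hYA.trans hAS)
    (hRA.trans hAS) hRY hRp hYR hY1 hcopY hcopR hnc
    (fun V hV => isCyclic_of_le_of_pRankLE_one hp2 (hrkY p hPp)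
      (hV.trans (inf_le_inf_right _ (hSBB.trans inf_le_left))) (hSBp.to_le (hV.trans inf_le_left)))
    (fun V hV => isCyclic_of_le_of_pRankLE_one hp2 (hrkR p hPp)
      (hV.trans (inf_le_inf_right _ (hSBB.trans inf_le_left))) (hSBp.to_le (hV.trans inf_le_left)))
    hPR

end Cfsg.Agent.Lib.Helper27.BG134
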