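/-
helper27: vocabulary for PART O (ordinary characters) of the DEFECT-ONE CLUSTER
S4441 / S4442 / S4507 / S0960 / S4502  (Part M = modules: helper8, `Helper8.DOMDefs`).

`P ≤ G` of prime order `p` (a Sylow `p`-subgroup), `C = Cz P = C_G(P)`, `N = Nz P = N_G(P)`.
* `PTriv P θ`        : the function `θ` on `C` has `P` in its kernel (statement form of S4442);
* `IsInertia P θ T`  : `T` is the stabilizer of `θ` in `N` (statement form of S4442);
* `zetaP p`         : the primitive `p`-th root of unity `exp (2 π i / p)`;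
* `thetaSum P θ T y` : `∑_{n ∈ T\N} θ (n y n⁻¹)`, written as `|T|⁻¹ ∑_{n ∈ N}`;
* `GSData ...`       : the integer data (multiplicities `μ χ i = ⟨χ|_C, λ_i × θ⟩`) attached to a block
                       `B` of `G` with root `θ`, delivered by the group side and consumed by the
                       abstract side (`Helper6.Def1Abs*`).
-/
import Mathlib
import Cfsg.Prelude.Def_BlockRank
import Cfsg.Agent.Lib.Helper8.DOMDefs

set_option autoImplicit false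

namespace Cfsg.Agent.Lib.Helper27.DO

open Cfsg Cfsg.Agent.Lib.Helper8.DOM
open scoped ComplexConjugate

universe u

variable {G : Type u} [Group G]

/-- the centralizer of `P` (as a subgroup) -/
abbrev Cz (P : Subgroup G) : Subgroup G := Subgroup.centralizer (P : Set G)

/-- `θ` (a function on `C_G(P)`) takes at every element of `P` its value at `1`. -/
def PTriv (P : Subgroup G) (θ : Cz P → ℂ) : Prop :=
  ∀ x : Cz P, (x : G) ∈ P → θ x = θ 1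

/-- `T` is the stabilizer of `θ` in `N_G(P)`. -/
def IsInertia (P : Subgroup G) (θ : Cz P → ℂ) (T : Subgroup G) : Prop :=
  ∀ g : G, g ∈ T ↔ (g ∈ Nz P ∧ ∀ c c' : Cz P, (c' : G) = g * c * g⁻¹ → θ c' = θ c)

/-- the primitive `p`-th root of unity `exp (2 π i / p)` -/
noncomputable def zetaP (p : ℕ) : ℂ := Complex.exp (2 * Real.pi * Complex.I / p)

/-- `∑_{n ∈ T\N} θ (n y n⁻¹)`, as `|T|⁻¹ ∑_{n ∈ N} θ° (n y n⁻¹)` -/
noncomputable def thetaSum (P : Subgroup G) (θ : Cz P → ℂ) (T : Subgroup G) (y : G) : ℂ :=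
  (Nat.card T : ℂ)⁻¹ * ∑ᶠ n : Nz P, extendByZero (Cz P) θ ((n : G) * y * (n : G)⁻¹)

/-- conjugation by `n ∈ N_G(P)` stabilizes `C_G(P)` -/
theorem conj_mem_Cz (P : Subgroup G) {n : G} (hn : n ∈ Nz P) {c : G} (hc : c ∈ Cz P) :
    n * c * n⁻¹ ∈ Cz P := by
  rw [Subgroup.mem_centralizer_iff] at hc ⊢
  intro x hx
  have hx' : n⁻¹ * x * n ∈ P := by
    have := (Subgroup.mem_normalizer_iff''.mp hn x).mp hx
    simpa using this
  have h := hc (n⁻¹ * x * n) hx'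
  calc x * (n * c * n⁻¹) = n * ((n⁻¹ * x * n) * c) * n⁻¹ := by group
    _ = n * (c * (n⁻¹ * x * n)) * n⁻¹ := by rw [h]
    _ = n * c * n⁻¹ * x := by group

/-- the conjugate `θ^n : c ↦ θ (n c n⁻¹)` of a function `θ` on `C_G(P)` by `n ∈ N_G(P)` -/
noncomputable def conjC (P : Subgroup G) (n : Nz P) (θ : Cz P → ℂ) : Cz P → ℂ :=
  fun c => θ ⟨(n : G) * (c : G) * (n : G)⁻¹, conj_mem_Cz P n.2 c.2⟩

/-- the multiplicity `⟨χ|_H, φ⟩` (finsum form, no `Fintype` instance needed) -/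
noncomputable def mult (H : Subgroup G) (χ : G → ℂ) (φ : H → ℂ) : ℂ :=
  (Nat.card H : ℂ)⁻¹ * ∑ᶠ h : H, χ (h : G) * conj (φ h)

/-- `φ` (a function on `C_G(P)`, `x0` a central element) has central index `i`:
`φ (x0 c) = ζ^i φ(c)`. -/
def HasIdx (p : ℕ) (P : Subgroup G) (x0 : G) (φ : Cz P → ℂ) (i : ZMod p) : Prop :=
  ∀ c c' : Cz P, (c' : G) = x0 * (c : G) → φ c' = zetaP p ^ i.val * φ c

/-- the multiplicity in `χ|_C` of the member of the block of `θ` with central index `i` (complex form) -/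
noncomputable def muC (p : ℕ) (M : Ideal AlgInt) (P : Subgroup G) (θ : IrrCharacter (Cz P)) (x0 : G)
    (χ : IrrCharacter G) (i : ZMod p) : ℂ :=
  ∑ᶠ φ ∈ {φ : IrrCharacter (Cz P) | φ ∈ blockOf M (θ : Cz P → ℂ) ∧
      HasIdx p P x0 (φ : Cz P → ℂ) i}, mult (Cz P) (χ : G → ℂ) (φ : Cz P → ℂ)

/-- the multiplicity `μ χ i` as an integer -/
noncomputable def muZ (p : ℕ) (M : Ideal AlgInt) (P : Subgroup G) (θ : IrrCharacter (Cz P)) (x0 : G)
    (χ : IrrCharacter G) (i : ZMod p) : ℤ :=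
  ⌊(muC p M P θ x0 χ i).re⌋

/-- the function `x0^k ↦ ∑_i μ i ζ^(i k)` on `P = ⟨x0⟩` (zero off `P`) -/
noncomputable def Dfun (p : ℕ) (x0 : G) (μ : ZMod p → ℤ) (x : G) : ℂ :=
  ∑ᶠ k ∈ {k : ZMod p | x = x0 ^ k.val}, ∑ᶠ i : ZMod p, (μ i : ℂ) * zetaP p ^ (i.val * k.val)

/-- The integer data of a block `B` of `G` with root `θ ∈ Irr (C_G(P))` (`P ≤ ker θ`), inertia group `T`:
`x0` a generator of `P`, `E ≤ (ℤ/p)ˣ` the image of `T` (acting on `P = ⟨x0⟩`), `μ χ i` the multiplicity of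
`λ_i × θ` in `χ|_C` (`λ_i (x0) = ζ^i`), `D χ x = ∑_i μ χ i λ_i(x)` (`x ∈ P`) the generalized decomposition
number. -/
structure GSData (p : ℕ) (P : Subgroup G) (B : Set (IrrCharacter G)) (θ : IrrCharacter (Cz P))
    (T : Subgroup G) (x0 : G) (E : Subgroup (ZMod p)ˣ) (μ : IrrCharacter G → ZMod p → ℤ)
    (D : IrrCharacter G → G → ℂ) : Prop where
  gen : P = Subgroup.zpowers x0
  memE : ∀ u : (ZMod p)ˣ, u ∈ E ↔ ∃ n ∈ T, n * x0 * n⁻¹ = x0 ^ (u : ZMod p).val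
  cardE : Nat.card E = (Cz P).relIndex T
  mu_inv : ∀ χ : IrrCharacter G, ∀ u : (ZMod p)ˣ, u ∈ E → ∀ i : ZMod p,
    μ χ ((u : ZMod p) * i) = μ χ i
  gram1 : ∀ i j : (ZMod p)ˣ, i * j⁻¹ ∈ E →
    ∑ᶠ χ ∈ B, (μ χ i - μ χ 0) * (μ χ j - μ χ 0) = (Nat.card E : ℤ) + 1
  gram0 : ∀ i j : (ZMod p)ˣ, i * j⁻¹ ∉ E →
    ∑ᶠ χ ∈ B, (μ χ i - μ χ 0) * (μ χ j - μ χ 0) = (Nat.card E : ℤ)
  orth : ∀ i : (ZMod p)ˣ, ∀ g : G, ¬ p ∣ orderOf g →
    ∑ᶠ χ ∈ B, ((μ χ i - μ χ 0 : ℤ) : ℂ) * (χ : G → ℂ) g = 0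
  supp : ∀ χ ∈ B, ∃ i : (ZMod p)ˣ, μ χ i - μ χ 0 ≠ 0
  D_eq : ∀ χ : IrrCharacter G, ∀ k : ℕ,
    D χ (x0 ^ k) = ∑ᶠ i : ZMod p, (μ χ i : ℂ) * zetaP p ^ (i.val * k)
  val : ∀ χ ∈ B, ∀ x ∈ P, x ≠ 1 → ∀ y ∈ Cz P, ¬ p ∣ orderOf y →
    (χ : G → ℂ) (x * y) = (Nat.card T : ℂ)⁻¹ *
      ∑ᶠ n : Nz P, D χ ((n : G) * x * (n : G)⁻¹) *
        extendByZero (Cz P) (θ : Cz P → ℂ) ((n : G) * y * (n : G)⁻¹)

/-- The standing hypotheses of the group side: `P` a Sylow `p`-subgroup of order `p` generated by `x0`,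
`B` a block with defect group `P`, `θ ∈ Irr(C_G(P))` with `P ≤ ker θ` whose block induces `B`,
`T` the stabilizer of `θ` in `N_G(P)`. -/
structure Ctx (p : ℕ) (M : Ideal AlgInt) (P : Subgroup G) (B : Set (IrrCharacter G))
    (θ : IrrCharacter (Cz P)) (T : Subgroup G) (x0 : G) : Prop where
  hM : IsPModular p M
  hP : Nat.card P = p
  hSyl : ¬ p ∣ P.index
  hB : IsPBlock M B
  hBP : IsDefectGroup p M B P
  hθP : PTriv P (θ : Cz P → ℂ)
  hind : IsInducedBlock M (Cz P) (blockOf M (θ : Cz P → ℂ)) B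
  hT : IsInertia P (θ : Cz P → ℂ) T
  gen : P = Subgroup.zpowers x0

end Cfsg.Agent.Lib.Helper27.DO
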