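/-
helper27: definitions for the block algebra over the residue field `F = O_M / m_M` of the local ring
at a maximal ideal `M` of the algebraic integers (S4607 plan, Brandt's theorem k(B) = 2 iff |D| = 2
via Kuelshammer's symmetric-local-algebra argument).

* `localIdeal M`     : the maximal ideal `{z | MemLocalIdeal M z}` of helper6's `localSubring M`
* `ResField M`       : the residue field (a `Field` when `M.IsMaximal`)
* `red M`            : the reduction map `localSubring M →+* ResField M`
* `redC M z`         : reduction of a complex number (junk value `0` outside the local ring)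
* `redFun M a`       : the element `∑ g, redC (a g) • g` of `MonoidAlgebra (ResField M) G`
* `ebar M B`         : the reduction of the block idempotent `blockCoeff B`
* `cornerModule`, `cornerAlgebra` : `F`-algebra structure on Mathlib's corner ring `he.Corner`
-/
import Mathlib
import Cfsg.Agent.Lib.Helper6.OneBlock
import Cfsg.Agent.Lib.Helper6.Osima

set_option autoImplicit false

namespace Cfsg.Agent.Lib.Helper27.BlkAlg

open Cfsg Cfsg.Agent.Lib.Helper6 Cfsg.Agent.Lib.Helper24

universe u

section residue

variable (M : Ideal AlgInt) [hmax : M.IsMaximal]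

/-- The maximal ideal of the local ring `localSubring M`. -/
def localIdeal : Ideal (localSubring M) where
  carrier := {z | MemLocalIdeal M (z : ℂ)}
  add_mem' := fun ha hb => memLocalIdeal_add (M := M) ha hb
  zero_mem' := memLocalIdeal_zero (M := M) (Ideal.IsPrime.one_notMem inferInstance)
  smul_mem' := fun c _ hx => memLocalIdeal_mul_left (M := M) c.2 hx

theorem mem_localIdeal (z : localSubring M) : z ∈ localIdeal M ↔ MemLocalIdeal M (z : ℂ) := Iff.rfl

instance localIdeal_isMaximal : (localIdeal M).IsMaximal := by
  rw [Ideal.isMaximal_iff]
  refine ⟨fun h => not_memLocalIdeal_one (M := M) h, ?_⟩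
  intro J x _ hxI hxJ
  have hx : MemLocalRing M ((x : ℂ)⁻¹) := memLocalRing_inv x.2 hxI
  have h1 : (⟨(x : ℂ)⁻¹, hx⟩ : localSubring M) * x = 1 := by
    apply Subtype.ext
    have hx0 : (x : ℂ) ≠ 0 := by
      intro h0
      apply hxI
      show MemLocalIdeal M (x : ℂ)
      rw [h0]
      exact memLocalIdeal_zero (M := M) (Ideal.IsPrime.one_notMem inferInstance)
    simp [inv_mul_cancel₀ hx0]
  rw [← h1]
  exact J.mul_mem_left _ hxJ

/-- The residue field of the local ring at `M`. -/
abbrev ResField : Type := localSubring M ⧸ localIdeal M

noncomputable instance resField_field : Field (ResField M) := Ideal.Quotient.field (localIdeal M)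

/-- The reduction map. -/
def red : localSubring M →+* ResField M := Ideal.Quotient.mk (localIdeal M)

theorem red_surjective : Function.Surjective (red M) := Ideal.Quotient.mk_surjective

theorem red_eq_zero_iff (z : localSubring M) : red M z = 0 ↔ MemLocalIdeal M (z : ℂ) :=
  Ideal.Quotient.eq_zero_iff_mem

open Classical in
/-- Reduction of a complex number; junk value `0` outside the local ring. -/
noncomputable def redC (z : ℂ) : ResField M :=
  if h : MemLocalRing M z then red M ⟨z, h⟩ else 0

theorem redC_of_mem {z : ℂ} (h : MemLocalRing M z) : redC M z = red M ⟨z, h⟩ := by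
  simp [redC, h]

/-- The element of the group algebra over the residue field with coefficient function
`g ↦ redC (a g)`. -/
noncomputable def redFun {G : Type u} [Group G] [Fintype G] (a : G → ℂ) :
    MonoidAlgebra (ResField M) G :=
  ∑ g : G, MonoidAlgebra.single g (redC M (a g))

/-- The reduction of the block idempotent of `B`. -/
noncomputable def ebar {G : Type u} [Group G] [Fintype G] (B : Set (IrrCharacter G)) :
    MonoidAlgebra (ResField M) G :=
  redFun M (blockCoeff B)

end residue

section corner

variable {F : Type*} [Field F] {L : Type*} [Ring L] [Algebra F L]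
variable {e : L} (he : IsIdempotentElem e)

instance cornerModule : Module F he.Corner :=
  { smul := fun c x => ⟨c • x.1, by
      obtain ⟨r, hr⟩ := x.2
      exact ⟨c • r, by simp only [mul_smul_comm, smul_mul_assoc]; rw [← hr]⟩⟩
    one_smul := fun x => Subtype.ext (one_smul F x.1)
    mul_smul := fun a b x => Subtype.ext (mul_smul a b x.1)
    smul_zero := fun a => Subtype.ext (smul_zero a)
    smul_add := fun a x y => Subtype.ext (smul_add a x.1 y.1)
    add_smul := fun a b x => Subtype.ext (add_smul a b x.1)
    zero_smul := fun x => Subtype.ext (zero_smul F x.1) }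

instance cornerAlgebra : Algebra F he.Corner :=
  Algebra.ofModule (fun c x y => Subtype.ext (smul_mul_assoc c x.1 y.1))
    (fun c x y => Subtype.ext (mul_smul_comm c x.1 y.1))

/-- The inclusion of the corner as an `F`-linear map. -/
def cornerIncl : he.Corner →ₗ[F] L where
  toFun := fun x => x.1
  map_add' := fun _ _ => rfl
  map_smul' := fun _ _ => rfl

theorem cornerIncl_injective : Function.Injective (cornerIncl (F := F) he) :=
  fun _ _ h => Subtype.ext h

theorem cornerIncl_mul (x y : he.Corner) :
    cornerIncl (F := F) he (x * y) = cornerIncl (F := F) he x * cornerIncl (F := F) he y := rfl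

theorem cornerIncl_one : cornerIncl (F := F) he 1 = e := rfl

theorem mem_range_cornerIncl (x : L) :
    x ∈ LinearMap.range (cornerIncl (F := F) he) ↔ e * x = x ∧ x * e = x := by
  constructor
  · rintro ⟨y, rfl⟩
    exact (Subsemigroup.mem_corner_iff he).mp y.2
  · intro h
    exact ⟨⟨x, (Subsemigroup.mem_corner_iff he).mpr h⟩, rfl⟩

end corner

end Cfsg.Agent.Lib.Helper27.BlkAlg
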