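/-
helper27: more definitions for the block algebra over the residue field (S4607 plan).

* `blocks M G`   : the finset of all blocks `blockOf M χ`
* `coeffOne k G` : the linear form `x ↦ x.coeff 1` on `MonoidAlgebra k G`
* `blockDegSq B` : `∑_{χ ∈ B} (charDegree χ)²` as a natural number
-/
import Mathlib
import Cfsg.Agent.Lib.Helper27.BlkAlgDefs
import Cfsg.Agent.Lib.Lead.CharOrtho

set_option autoImplicit false

namespace Cfsg.Agent.Lib.Helper27.BlkAlg

open Cfsg

universe u

open Classical in
/-- The finite set of all blocks of `G` relative to `M`. -/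
noncomputable def blocks (M : Ideal AlgInt) (G : Type u) [Group G] [Fintype (IrrCharacter G)] :
    Finset (Set (IrrCharacter G)) :=
  Finset.univ.image (fun χ : IrrCharacter G => blockOf M (χ : G → ℂ))

theorem mem_blocks (M : Ideal AlgInt) {G : Type u} [Group G] [Fintype (IrrCharacter G)]
    (B : Set (IrrCharacter G)) : B ∈ blocks M G ↔ IsPBlock M B := by
  classical
  unfold blocks IsPBlock
  simp only [Finset.mem_image, Finset.mem_univ, true_and]
  constructor
  · rintro ⟨χ, rfl⟩; exact ⟨χ, rfl⟩
  · rintro ⟨χ, rfl⟩; exact ⟨χ, rfl⟩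

/-- The linear form "coefficient of the identity" on a group algebra. -/
noncomputable def coeffOne (k : Type*) [Field k] (G : Type u) [Group G] : MonoidAlgebra k G →ₗ[k] k where
  toFun := fun x => x.coeff 1
  map_add' := fun _ _ => rfl
  map_smul' := fun _ _ => rfl

theorem coeffOne_apply (k : Type*) [Field k] (G : Type u) [Group G] (x : MonoidAlgebra k G) :
    coeffOne k G x = x.coeff 1 := rfl

open Classical in
/-- `∑_{χ ∈ B} χ(1)²` as a natural number. -/
noncomputable def blockDegSq {G : Type u} [Group G] [Fintype (IrrCharacter G)]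
    (B : Set (IrrCharacter G)) : ℕ :=
  ∑ χ : IrrCharacter G, if χ ∈ B then charDegree (χ : G → ℂ) ^ 2 else 0

end Cfsg.Agent.Lib.Helper27.BlkAlg
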