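/-
helper27: DEFECT-ONE Part O, leaf SMT0 (`_of` form over LOC1 + equal degrees in the local block):
Brauer's second main theorem gives: for a block `b_θ'` of `C_G(P)` NOT inducing the block of `χ`, the multiplicities
`muC p M P θ' x0 χ i` do not depend on `i`.  Tools: finite Fourier analysis on `ℤ/p` (`const_of_fourier_zero`),
`hasIdx_pow`, `classInner_shift` (inner product of a central translate), `Cz_eq_centralizer_pow`.
-/
import Mathlib
import Cfsg.Agent.Lib.Helper27.DODefs
import Cfsg.Agent.Lib.Lead.SecondMain10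

set_option autoImplicit false

namespace Cfsg.Agent.Lib.Helper27.DOSMT0

open Cfsg Cfsg.Agent.CharLib Cfsg.Agent.Lib.Helper24 Cfsg.Agent.Lib.Helper6
open Cfsg.Agent.Lib.Helper8.DOM Cfsg.Agent.Lib.Helper27.DO
open scoped ComplexConjugate

universe u

section fourier

variable {p : ℕ} [Fact p.Prime]

theorem zetaP_isPrimitiveRoot : IsPrimitiveRoot (zetaP p) p :=
  Complex.isPrimitiveRoot_exp p (Fact.out : p.Prime).ne_zero

theorem zetaP_pow_p : zetaP p ^ p = 1 := zetaP_isPrimitiveRoot.pow_eq_one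

/-- geometric sum of a power of `ζ` -/
theorem geom_sum_zetaP (m : ℕ) :
    ∑ k ∈ Finset.range p, (zetaP p ^ m) ^ k = if p ∣ m then (p : ℂ) else 0 := by
  have hpp : p.Prime := Fact.out
  split_ifs with h
  · obtain ⟨q, rfl⟩ := h
    have : zetaP p ^ (p * q) = 1 := by rw [pow_mul, zetaP_pow_p, one_pow]
    simp [this]
  · have hco : Nat.Coprime m p := (Nat.Prime.coprime_iff_not_dvd hpp).mpr h |>.symm
    have hprim : IsPrimitiveRoot (zetaP p ^ m) p := zetaP_isPrimitiveRoot.pow_of_coprime m hco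
    exact hprim.geom_sum_eq_zero hpp.one_lt

/-- a function on `ℤ/p` whose Fourier coefficients at all `k ≠ 0` vanish is constant -/
theorem const_of_fourier_zero (c : ZMod p → ℂ)
    (h : ∀ k : ℕ, ¬ p ∣ k → ∑ j : ZMod p, zetaP p ^ (j.val * k) * c j = 0) (i : ZMod p) :
    c i = c 0 := by
  have hpp : p.Prime := Fact.out
  have hp0 : (p : ℂ) ≠ 0 := Nat.cast_ne_zero.mpr hpp.ne_zero
  -- key: p * c i = ∑ c for all i
  have key : ∀ i : ZMod p, (p : ℂ) * c i = ∑ j : ZMod p, c j := by
    intro i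
    have h1 : ∑ k ∈ Finset.range p, zetaP p ^ ((p - i.val) * k) *
        (∑ j : ZMod p, zetaP p ^ (j.val * k) * c j) = ∑ j : ZMod p, c j := by
      rw [Finset.sum_eq_single 0]
      · simp
      · intro k hk hk0
        rw [h k, mul_zero]
        intro hd
        have := Nat.le_of_dvd (Nat.pos_of_ne_zero hk0) hd
        have := Finset.mem_range.mp hk
        omega
      · intro h0
        exact absurd (Finset.mem_range.mpr hpp.pos) h0
    have h2 : ∑ k ∈ Finset.range p, zetaP p ^ ((p - i.val) * k) *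
        (∑ j : ZMod p, zetaP p ^ (j.val * k) * c j) = (p : ℂ) * c i := by
      simp_rw [Finset.mul_sum]
      rw [Finset.sum_comm]
      have h3 : ∀ j : ZMod p, ∑ k ∈ Finset.range p,
          zetaP p ^ ((p - i.val) * k) * (zetaP p ^ (j.val * k) * c j) =
          (if j = i then (p : ℂ) else 0) * c j := by
        intro j
        have h4 : ∀ k : ℕ, zetaP p ^ ((p - i.val) * k) * (zetaP p ^ (j.val * k) * c j) =
            (zetaP p ^ (p - i.val + j.val)) ^ k * c j := by
          intro k
          rw [← pow_mul, ← mul_assoc, ← pow_add]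
          congr 2
          ring
        simp_rw [h4]
        rw [← Finset.sum_mul, geom_sum_zetaP]
        congr 1
        have hi : i.val < p := ZMod.val_lt i
        have hj : j.val < p := ZMod.val_lt j
        have hiff : p ∣ p - i.val + j.val ↔ j = i := by
          constructor
          · intro hd
            have h5 : p - i.val + j.val = p ∨ p - i.val + j.val = 0 ∨ True := by tauto
            obtain ⟨q, hq⟩ := hd
            have hq1 : q = 1 := by
              rcases q with _ | _ | q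
              · omega
              · rfl
              · exfalso
                have : p * (q + 1 + 1) ≥ 2 * p := by nlinarith
                omega
            subst hq1
            have : j.val = i.val := by omega
            exact ZMod.val_injective p this
          · rintro rfl
            exact ⟨1, by omega⟩
        simp only [hiff]
      simp_rw [h3]
      simp
    rw [← h1, h2]
  have h1 := key i
  have h0 := key 0
  have : (p : ℂ) * c i = (p : ℂ) * c 0 := by rw [h1, h0]
  exact mul_left_cancel₀ hp0 this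

end fourier

section grp

variable {G : Type u} [Group G] [Finite G] {p : ℕ} [Fact p.Prime] {M : Ideal AlgInt}

theorem zetaP_norm : ‖zetaP p‖ = 1 := by
  have hp : p ≠ 0 := (Fact.out : p.Prime).ne_zero
  exact Complex.norm_eq_one_of_pow_eq_one zetaP_pow_p hp

theorem zetaP_pow_mul_conj (m : ℕ) : zetaP p ^ m * conj (zetaP p ^ m) = 1 := by
  rw [Complex.mul_conj, Complex.normSq_eq_norm_sq, norm_pow, zetaP_norm (p := p), one_pow, one_pow]
  simp

/-- iterate the central index -/
theorem hasIdx_pow {P : Subgroup G} {x0 : G} {φ : Cz P → ℂ} {i : ZMod p}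
    (h : HasIdx p P x0 φ i) (hx0 : x0 ∈ Cz P) (k : ℕ) :
    ∀ c c' : Cz P, (c' : G) = x0 ^ k * (c : G) → φ c' = zetaP p ^ (i.val * k) * φ c := by
  induction k with
  | zero =>
    intro c c' hc
    have : c' = c := Subtype.ext (by simpa using hc)
    rw [this]; simp
  | succ k ih =>
    intro c c' hc
    have hm : x0 ^ k * (c : G) ∈ Cz P := (Cz P).mul_mem ((Cz P).pow_mem hx0 k) c.2
    have h1 := ih c ⟨x0 ^ k * (c : G), hm⟩ rfl
    have h2 := h ⟨x0 ^ k * (c : G), hm⟩ c' (by rw [hc, pow_succ', mul_assoc])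
    rw [h2, h1]
    ring

/-- the inner product of the translate `c ↦ χ (x0^k c)` with a function of central index `i` -/
theorem classInner_shift {P : Subgroup G} {x0 : G} (hx0 : x0 ∈ Cz P) [Fintype (Cz P)]
    (χ : G → ℂ) (φ : Cz P → ℂ) (i : ZMod p) (hφ : HasIdx p P x0 φ i) (k : ℕ) :
    classInner (fun c : Cz P => χ (x0 ^ k * (c : G))) φ =
      zetaP p ^ (i.val * k) * mult (Cz P) χ φ := by
  unfold classInner mult
  rw [finsum_eq_sum_of_fintype]
  set xk : Cz P := ⟨x0 ^ k, (Cz P).pow_mem hx0 k⟩ with hxk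
  have h1 : ∀ c : Cz P, χ (x0 ^ k * (c : G)) * conj (φ c) =
      zetaP p ^ (i.val * k) * (χ ((xk * c : Cz P) : G) * conj (φ (xk * c))) := by
    intro c
    have h2 := hasIdx_pow hφ hx0 k c (xk * c) rfl
    rw [h2, map_mul]
    have h3 := zetaP_pow_mul_conj (p := p) (i.val * k)
    have : ((xk * c : Cz P) : G) = x0 ^ k * (c : G) := rfl
    rw [this]
    linear_combination (-(χ (x0 ^ k * (c : G)) * conj (φ c))) * h3
  have h4 : ∑ c : Cz P, χ ((xk * c : Cz P) : G) * conj (φ (xk * c)) =
      ∑ c : Cz P, χ (c : G) * conj (φ c) :=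
    Equiv.sum_comp (Equiv.mulLeft xk) (fun c : Cz P => χ (c : G) * conj (φ c))
  rw [Finset.sum_congr rfl (fun c _ => h1 c), ← Finset.mul_sum, h4]
  ring

theorem orderOf_gen {P : Subgroup G} (hP : Nat.card P = p) {x0 : G} (hx0 : P = Subgroup.zpowers x0) :
    orderOf x0 = p := by
  rw [← hP, hx0, Nat.card_zpowers]

theorem gen_mem_Cz {P : Subgroup G} {x0 : G} (hx0 : P = Subgroup.zpowers x0) : x0 ∈ Cz P := by
  rw [Subgroup.mem_centralizer_iff]
  intro z hz
  rw [SetLike.mem_coe, hx0] at hz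
  obtain ⟨n, rfl⟩ := hz
  exact ((Commute.refl x0).zpow_left n).eq

theorem Cz_eq_centralizer_pow {P : Subgroup G} (hP : Nat.card P = p) {x0 : G}
    (hx0 : P = Subgroup.zpowers x0) (k : ℕ) (hk : ¬ p ∣ k) :
    Cz P = Subgroup.centralizer ({x0 ^ k} : Set G) := by
  have hpp : p.Prime := Fact.out
  have ho := orderOf_gen hP hx0
  have hco : Nat.Coprime k p := ((Nat.Prime.coprime_iff_not_dvd hpp).mpr hk).symm
  obtain ⟨m, -, hm⟩ := Nat.exists_mul_mod_eq_one_of_coprime hco hpp.one_lt
  have hx : (x0 ^ k) ^ m = x0 := by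
    rw [← pow_mul, ← pow_mod_orderOf, ho, hm, pow_one]
  ext g
  rw [Subgroup.mem_centralizer_singleton_iff]
  constructor
  · intro hg
    rw [Subgroup.mem_centralizer_iff] at hg
    have := hg (x0 ^ k) (by rw [SetLike.mem_coe, hx0]; exact Subgroup.pow_mem _ (Subgroup.mem_zpowers x0) k)
    exact this.symm
  · intro hg
    rw [Subgroup.mem_centralizer_iff]
    intro z hz
    rw [SetLike.mem_coe, hx0] at hz
    obtain ⟨n, rfl⟩ := hz
    have h1 : Commute g (x0 ^ k) := hg
    have h2 : Commute g x0 := by rw [← hx]; exact h1.pow_right m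
    exact (h2.zpow_right n).eq.symm

/-- SMT0, `_of` form: the multiplicities off the inducing blocks do not depend on the central index. -/
theorem muC_const_of (hM : IsPModular p M) (P : Subgroup G) (hP : Nat.card P = p) (x0 : G)
    (hx0 : P = Subgroup.zpowers x0) (θ' : IrrCharacter (Cz P)) (χ : IrrCharacter G)
    (hnot : ¬ IsInducedBlock M (Cz P) (blockOf M (θ' : Cz P → ℂ)) (blockOf M (χ : G → ℂ)))
    (hloc1 : ∀ φ : IrrCharacter (Cz P), ∃! i : ZMod p, HasIdx p P x0 (φ : Cz P → ℂ) i)
    (hdeg : ∀ φ ∈ blockOf M (θ' : Cz P → ℂ), (φ : Cz P → ℂ) 1 = (θ' : Cz P → ℂ) 1)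
    (i : ZMod p) : muC p M P θ' x0 χ i = muC p M P θ' x0 χ 0 := by
  classical
  have hprime : M.IsPrime := isPrime_of_isPModular hM
  have hpp : p.Prime := Fact.out
  let _ : Fintype G := Fintype.ofFinite G
  let _ : Fintype (Cz P) := Fintype.ofFinite _
  let _ : Fintype (IrrCharacter (Cz P)) := Fintype.ofFinite _
  have ho := orderOf_gen hP hx0
  have hx0C := gen_mem_Cz hx0
  set b := blockOf M (θ' : Cz P → ℂ) with hb
  -- the central index function
  choose idx hidx using fun φ => (hloc1 φ).exists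
  have hidx_iff : ∀ (φ : IrrCharacter (Cz P)) (j : ZMod p),
      HasIdx p P x0 (φ : Cz P → ℂ) j ↔ idx φ = j := by
    intro φ j
    constructor
    · intro h
      exact (hloc1 φ).unique (hidx φ) h
    · rintro rfl
      exact hidx φ
  -- muC as a Finset sum
  have hmu : ∀ j : ZMod p, muC p M P θ' x0 χ j =
      ∑ φ ∈ (Finset.univ.filter (fun φ : IrrCharacter (Cz P) => φ ∈ b)).filter (fun φ => idx φ = j),
        mult (Cz P) (χ : G → ℂ) (φ : Cz P → ℂ) := by
    intro j
    unfold muC
    rw [finsum_mem_eq_sum_ite, Finset.sum_filter, Finset.sum_filter]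
    apply Finset.sum_congr rfl
    intro φ _
    by_cases h1 : φ ∈ b
    · by_cases h2 : idx φ = j
      · rw [if_pos ⟨h1, (hidx_iff φ j).mpr h2⟩, if_pos h1, if_pos h2]
      · rw [if_neg (fun h => h2 ((hidx_iff φ j).mp h.2)), if_pos h1, if_neg h2]
    · rw [if_neg (fun h => h1 h.1), if_neg h1]
  apply const_of_fourier_zero (fun j => muC p M P θ' x0 χ j)
  intro k hk
  -- the second main theorem at `x0 ^ k`
  have hC := Cz_eq_centralizer_pow hP hx0 k hk
  have hxk : ∃ m : ℕ, orderOf (x0 ^ k) = p ^ m := by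
    refine ⟨1, ?_⟩
    rw [pow_one, orderOf_pow, ho]
    have hco : Nat.Coprime p k := (Nat.Prime.coprime_iff_not_dvd hpp).mpr hk
    rw [Nat.Coprime.gcd_eq_one hco, Nat.div_one]
  have h1 : ¬ p ∣ orderOf (1 : Cz P) := by
    rw [orderOf_one]
    exact hpp.one_lt.ne' ∘ Nat.dvd_one.mp
  have hsmt := blockPart_eq_zero_of_not_induced_aux hM (x0 ^ k) hxk (blockOf M (χ : G → ℂ))
    ⟨χ, rfl⟩ χ (mem_blockOf_self χ) (Cz P) hC b ⟨θ', rfl⟩ hnot 1 h1
  rw [blockPart_apply, finsum_mem_eq_sum_ite, ← Finset.sum_filter] at hsmt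
  -- rewrite each term
  have hterm : ∀ φ ∈ Finset.univ.filter (fun φ : IrrCharacter (Cz P) => φ ∈ b),
      classInner (fun c : Cz P => (χ : G → ℂ) (x0 ^ k * (c : G))) (φ : Cz P → ℂ) *
        (φ : Cz P → ℂ) 1 =
      (θ' : Cz P → ℂ) 1 * (zetaP p ^ ((idx φ).val * k) * mult (Cz P) (χ : G → ℂ) (φ : Cz P → ℂ)) := by
    intro φ hφ
    have hφb : φ ∈ b := (Finset.mem_filter.mp hφ).2
    rw [classInner_shift hx0C (χ : G → ℂ) (φ : Cz P → ℂ) (idx φ) (hidx φ) k, hdeg φ hφb]
    ring
  rw [Finset.sum_congr rfl hterm, ← Finset.mul_sum] at hsmt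
  have hθ1 : (θ' : Cz P → ℂ) 1 ≠ 0 := irr_apply_one_ne_zero θ'
  have hsum := (mul_eq_zero.mp hsmt).resolve_left hθ1
  -- fiberwise
  rw [← Finset.sum_fiberwise (Finset.univ.filter (fun φ : IrrCharacter (Cz P) => φ ∈ b)) idx] at hsum
  rw [← hsum]
  apply Finset.sum_congr rfl
  intro j _
  show zetaP p ^ (j.val * k) * muC p M P θ' x0 χ j = _
  rw [hmu j, Finset.mul_sum]
  apply Finset.sum_congr rfl
  intro φ hφ
  rw [(Finset.mem_filter.mp hφ).2]

end grp

end Cfsg.Agent.Lib.Helper27.DOSMT0
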