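/-
helper27: definitions for symmetric algebras over a field (S4607 plan, pure algebra part).
Mathlib only.

* `IsSymForm lam`      : `lam : B →ₗ[F] F` is a symmetrizing form (`lam (x*y) = lam (y*x)`, nondegenerate)
* `commSpan F B`       : the `F`-span of the additive commutators `x*y - y*x`
* `perp lam W`         : `{z | ∀ c ∈ W, lam (z*c) = 0}`
* `IsMatrixUnits u`    : `u i j * u k l = δ_{jk} u i l`, `∑ u i i = 1`
* `unitsCentralizer F u` : the subalgebra of elements commuting with all `u i j`
-/
import Mathlib

set_option autoImplicit false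

namespace Cfsg.Agent.Lib.Helper27.SymAlg

variable {F : Type*} [Field F] {B : Type*} [Ring B] [Algebra F B]

/-- `lam` is a symmetrizing form on the `F`-algebra `B`. -/
structure IsSymForm (lam : B →ₗ[F] F) : Prop where
  comm : ∀ x y : B, lam (x * y) = lam (y * x)
  nondeg : ∀ x : B, x ≠ 0 → ∃ y : B, lam (x * y) ≠ 0

variable (F B) in
/-- The span of the additive commutators. -/
def commSpan : Submodule F B := Submodule.span F {z | ∃ x y : B, z = x * y - y * x}

/-- The orthogonal of a subspace for the bilinear form `(x, y) ↦ lam (x * y)`. -/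
def perp (lam : B →ₗ[F] F) (W : Submodule F B) : Submodule F B where
  carrier := {z | ∀ c ∈ W, lam (z * c) = 0}
  add_mem' := fun ha hb c hc => by rw [add_mul, map_add, ha c hc, hb c hc, add_zero]
  zero_mem' := fun c _ => by rw [zero_mul, map_zero]
  smul_mem' := fun a _ hx c hc => by rw [smul_mul_assoc, map_smul, hx c hc, smul_zero]

theorem mem_perp (lam : B →ₗ[F] F) (W : Submodule F B) (z : B) :
    z ∈ perp lam W ↔ ∀ c ∈ W, lam (z * c) = 0 := Iff.rfl

/-- A full set of `n × n` matrix units in `B`. -/
structure IsMatrixUnits {n : ℕ} (u : Fin n → Fin n → B) : Prop where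
  mul : ∀ i j k l : Fin n, u i j * u k l = if j = k then u i l else 0
  sum : ∑ i : Fin n, u i i = 1

variable (F) in
/-- The subalgebra of the elements commuting with all the matrix units. -/
def unitsCentralizer {n : ℕ} (u : Fin n → Fin n → B) : Subalgebra F B :=
  Subalgebra.centralizer F (Set.range fun p : Fin n × Fin n => u p.1 p.2)

theorem mem_unitsCentralizer {n : ℕ} (u : Fin n → Fin n → B) (c : B) :
    c ∈ unitsCentralizer F u ↔ ∀ i j : Fin n, u i j * c = c * u i j := by
  unfold unitsCentralizer
  rw [Subalgebra.mem_centralizer_iff]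
  constructor
  · intro h i j
    exact h _ ⟨(i, j), rfl⟩
  · rintro h _ ⟨p, rfl⟩
    exact h p.1 p.2

end Cfsg.Agent.Lib.Helper27.SymAlg
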