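/-
helper27: S4648 (helper1's plan), bridge B1, residue-field side (no Brauer characters):
a family `τ` of `l` linearly independent "trace functionals" on `F[G]` (symmetric, vanishing on the nilpotent
elements, stable under multiplication by the central idempotent `e`) gives `l ≤` the rank of the
`p`-regular rows of the matrix of multiplication by `e` on the centre (basis: class sums).
-/
import Cfsg.Agent.Lib.Helper22.BlkAlgB5b

set_option autoImplicit false

namespace Cfsg.Agent.Lib.Helper27.BlkAlgL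

open Cfsg Cfsg.Agent.Lib.Helper6 Cfsg.Agent.Lib.Helper24
open Cfsg.Agent.Lib.Helper27.BlkAlg Cfsg.Agent.Lib.Helper22.BlkAlgB5b

universe u

/-- decomposition of an element of a finite group into commuting `p`-part and `p'`-part -/
theorem exists_pPart_pRegular {G : Type*} [Group G] [Finite G] (p : ℕ) [hp : Fact p.Prime] (g : G) :
    ∃ z y : G, g = z * y ∧ Commute z y ∧ (∃ a : ℕ, z ^ p ^ a = 1) ∧ IsPRegular p y := by
  obtain ⟨a, m, hndvd, hn⟩ :=
    Nat.exists_eq_pow_mul_and_not_dvd (orderOf_pos g).ne' p hp.out.ne_one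
  have hcop : Nat.Coprime (p ^ a) m :=
    Nat.Coprime.pow_left a ((Nat.Prime.coprime_iff_not_dvd hp.out).mpr hndvd)
  have hbez := Int.gcd_eq_gcd_ab (p ^ a : ℕ) m
  rw [Int.gcd_natCast_natCast, hcop.gcd_eq_one] at hbez
  obtain ⟨A, hA⟩ : ∃ A : ℤ, A = Int.gcdA (p ^ a : ℕ) m := ⟨_, rfl⟩
  obtain ⟨B, hB⟩ : ∃ B : ℤ, B = Int.gcdB (p ^ a : ℕ) m := ⟨_, rfl⟩
  rw [← hA, ← hB] at hbez
  have hgn : ∀ c : ℤ, g ^ (((p ^ a : ℕ) : ℤ) * (m : ℤ) * c) = 1 := by
    intro c
    rw [zpow_mul, ← Nat.cast_mul, zpow_natCast, ← hn, pow_orderOf_eq_one, one_zpow]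
  refine ⟨g ^ ((m : ℤ) * B), g ^ (((p ^ a : ℕ) : ℤ) * A), ?_, ?_, ⟨a, ?_⟩, ?_⟩
  · rw [← zpow_add, add_comm, ← hbez]
    simp
  · exact (Commute.refl g).zpow_zpow _ _
  · rw [← zpow_natCast, ← zpow_mul]
    have : (m : ℤ) * B * ((p ^ a : ℕ) : ℤ) = ((p ^ a : ℕ) : ℤ) * (m : ℤ) * B := by ring
    rw [this]
    exact hgn B
  · have h1 : (g ^ (((p ^ a : ℕ) : ℤ) * A)) ^ m = 1 := by
      rw [← zpow_natCast, ← zpow_mul]
      have : ((p ^ a : ℕ) : ℤ) * A * (m : ℤ) = ((p ^ a : ℕ) : ℤ) * (m : ℤ) * A := by ring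
      rw [this]
      exact hgn A
    have h2 : orderOf (g ^ (((p ^ a : ℕ) : ℤ) * A)) ∣ m := orderOf_dvd_of_pow_eq_one h1
    intro h3
    exact hndvd (dvd_trans h3 h2)

section nil

variable {F : Type*} [Field F] {G : Type*} [Group G] [Finite G] (p : ℕ) [hp : Fact p.Prime]
  [CharP F p]

/-- `g - g_{p'}` is nilpotent in the group algebra in characteristic `p` -/
theorem exists_pRegular_isNilpotent_sub (g : G) :
    ∃ s : G, IsPRegular p s ∧
      IsNilpotent (MonoidAlgebra.single g (1 : F) - MonoidAlgebra.single s (1 : F)) := by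
  obtain ⟨z, y, hg, hzy, ⟨a, hza⟩, hy⟩ := exists_pPart_pRegular p g
  refine ⟨y, hy, p ^ a, ?_⟩
  have hchar : CharP (MonoidAlgebra F G) p :=
    charP_of_injective_algebraMap (algebraMap F (MonoidAlgebra F G)).injective p
  have hcomm : Commute (MonoidAlgebra.single g (1 : F)) (MonoidAlgebra.single y (1 : F)) := by
    have hgy : g * y = y * g := by
      rw [hg, ← mul_assoc, ← hzy.eq, mul_assoc]
    unfold Commute SemiconjBy
    rw [MonoidAlgebra.single_mul_single, MonoidAlgebra.single_mul_single, hgy]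
  rw [sub_pow_char_pow_of_commute (p := p) (n := a) hcomm, MonoidAlgebra.single_pow, MonoidAlgebra.single_pow,
    one_pow, hg, hzy.mul_pow, hza, one_mul, sub_self]

end nil

section abstract

variable (M : Ideal AlgInt) [hmax : M.IsMaximal] {G : Type u} [Group G] [Fintype G]
variable [Fintype (ConjClasses G)] [DecidableEq (ConjClasses G)]
variable (p : ℕ) [hp : Fact p.Prime] [CharP (ResField M) p]

/-- the `p`-regular conjugacy classes -/
abbrev RegClass (G : Type u) [Group G] (p : ℕ) : Type u :=
  {K : ConjClasses G // IsPRegular p (Quotient.out K)}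

omit [Fintype G] [Fintype (ConjClasses G)] [DecidableEq (ConjClasses G)] hp in
theorem isPRegular_out_mk {s : G} (hs : IsPRegular p s) :
    IsPRegular p (Quotient.out (ConjClasses.mk s)) := by
  have h1 : IsConj (Quotient.out (ConjClasses.mk s)) s := by
    rw [← ConjClasses.mk_eq_mk_iff_isConj]
    exact Quotient.out_eq _
  obtain ⟨t, ht⟩ := isConj_iff.mp h1
  have h2 : SemiconjBy t (Quotient.out (ConjClasses.mk s)) s :=
    mul_inv_eq_iff_eq_mul.mp ht
  unfold IsPRegular at *
  rw [h2.orderOf_eq]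
  exact hs

omit [Fintype G] [Fintype (ConjClasses G)] [DecidableEq (ConjClasses G)] in
/-- conjugation invariance of a symmetric functional -/
theorem tau_conj {V : Type*} [AddCommGroup V] [Module (ResField M) V]
    (τ : MonoidAlgebra (ResField M) G →ₗ[ResField M] V)
    (hsym : ∀ a b, τ (a * b) = τ (b * a)) (t h : G) :
    τ (MonoidAlgebra.single (t * h * t⁻¹) 1) = τ (MonoidAlgebra.single h 1) := by
  have h1 : (MonoidAlgebra.single (t * h * t⁻¹) (1 : ResField M) : MonoidAlgebra (ResField M) G) =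
      MonoidAlgebra.single t 1 * (MonoidAlgebra.single h 1 * MonoidAlgebra.single t⁻¹ 1) := by
    rw [MonoidAlgebra.single_mul_single, MonoidAlgebra.single_mul_single, mul_one, mul_one,
      mul_assoc]
  rw [h1, hsym, mul_assoc, MonoidAlgebra.single_mul_single, inv_mul_cancel, mul_one,
    ← MonoidAlgebra.one_def, mul_one]

omit [Fintype G] [Fintype (ConjClasses G)] [DecidableEq (ConjClasses G)] in
theorem tau_out_mk {V : Type*} [AddCommGroup V] [Module (ResField M) V]
    (τ : MonoidAlgebra (ResField M) G →ₗ[ResField M] V)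
    (hsym : ∀ a b, τ (a * b) = τ (b * a)) (h : G) :
    τ (MonoidAlgebra.single (Quotient.out (ConjClasses.mk h)) 1) =
      τ (MonoidAlgebra.single h 1) := by
  have h1 : IsConj h (Quotient.out (ConjClasses.mk h)) := by
    rw [← ConjClasses.mk_eq_mk_iff_isConj]
    exact (Quotient.out_eq _).symm
  obtain ⟨t, ht⟩ := isConj_iff.mp h1
  rw [← ht]
  exact tau_conj M τ hsym t h

omit [Fintype (ConjClasses G)] [DecidableEq (ConjClasses G)] in
/-- a linear map on the group algebra is determined by its values on the group elements -/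
theorem lin_eq_sum_coeff {V : Type*} [AddCommGroup V] [Module (ResField M) V]
    (ψ : MonoidAlgebra (ResField M) G →ₗ[ResField M] V) (a : MonoidAlgebra (ResField M) G) :
    ψ a = ∑ h : G, a.coeff h • ψ (MonoidAlgebra.single h 1) := by
  have h1 : a = ∑ h : G, a.coeff h • MonoidAlgebra.single h (1 : ResField M) := by
    apply MonoidAlgebra.ext
    apply Finsupp.ext
    intro x
    rw [MonoidAlgebra.coeff_sum, Finsupp.finsetSum_apply]
    rw [Finset.sum_eq_single x]
    · rw [MonoidAlgebra.coeff_smul_apply, MonoidAlgebra.coeff_single, Finsupp.single_eq_same,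
        smul_eq_mul, mul_one]
    · intro h _ hne
      rw [MonoidAlgebra.coeff_smul_apply, MonoidAlgebra.coeff_single,
        Finsupp.single_eq_of_ne (Ne.symm hne), smul_zero]
    · intro hx
      exact absurd (Finset.mem_univ x) hx
  conv_lhs => rw [h1]
  rw [map_sum]
  apply Finset.sum_congr rfl
  intro h _
  rw [map_smul]

omit [Fintype (ConjClasses G)] [DecidableEq (ConjClasses G)] in
/-- a functional killing the nilpotent elements and stable under the central idempotent `e` takes the
same value at `g` and at a `p`-regular element -/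
theorem tau_eq_pRegular {V : Type*} [AddCommGroup V] [Module (ResField M) V]
    (e : MonoidAlgebra (ResField M) G) (hec : ∀ x, e * x = x * e)
    (τ : MonoidAlgebra (ResField M) G →ₗ[ResField M] V)
    (hnil : ∀ a, IsNilpotent a → τ a = 0) (hτe : ∀ a, τ (e * a) = τ a) (g : G) :
    ∃ s : G, IsPRegular p s ∧ τ (MonoidAlgebra.single g 1) = τ (MonoidAlgebra.single s 1) := by
  obtain ⟨s, hs, hnilp⟩ := exists_pRegular_isNilpotent_sub (F := ResField M) p g
  refine ⟨s, hs, ?_⟩
  have hcomm : Commute e (MonoidAlgebra.single g (1 : ResField M) - MonoidAlgebra.single s 1) :=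
    hec _
  have h6 : τ (e * (MonoidAlgebra.single g 1 - MonoidAlgebra.single s 1)) = 0 :=
    hnil _ (Commute.isNilpotent_mul_left hcomm hnilp)
  rw [mul_sub, map_sub, hτe, hτe, sub_eq_zero] at h6
  exact h6

omit [DecidableEq (ConjClasses G)] in
/-- KEY (residue field side): `l` independent trace functionals give `l ≤` rank of the `p`-regular
rows of the matrix of multiplication by `e` on the centre -/
theorem le_rank_of_traceMap {l : ℕ} (e : MonoidAlgebra (ResField M) G)
    (E : Matrix (ConjClasses G) (ConjClasses G) (ResField M))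
    (hE : ∀ c, e * zIncl M c = zIncl M (E.mulVec c))
    (hec : ∀ x, e * x = x * e)
    (τ : MonoidAlgebra (ResField M) G →ₗ[ResField M] (Fin l → ResField M))
    (hsym : ∀ a b, τ (a * b) = τ (b * a)) (hnil : ∀ a, IsNilpotent a → τ a = 0)
    (hsurj : Function.Surjective τ) (hτe : ∀ a, τ (e * a) = τ a) :
    l ≤ (E.submatrix (Subtype.val : RegClass G p → ConjClasses G) id).rank := by
  classical
  -- the functionals `φ_c = c ⬝ τ`
  let φ : (Fin l → ResField M) → MonoidAlgebra (ResField M) G →ₗ[ResField M] ResField M :=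
    fun c =>
      { toFun := fun a => c ⬝ᵥ τ a
        map_add' := fun a b => by rw [map_add, dotProduct_add]
        map_smul' := fun r a => by rw [map_smul, dotProduct_smul]; rfl }
  have hφ : ∀ c a, φ c a = c ⬝ᵥ τ a := fun c a => rfl
  -- the coordinates `κ_c`
  let κ : (Fin l → ResField M) →ₗ[ResField M] (ConjClasses G → ResField M) :=
    { toFun := fun c K => c ⬝ᵥ τ (MonoidAlgebra.single (Quotient.out K)⁻¹ 1)
      map_add' := fun c c' => by
        funext K
        simp only [Pi.add_apply, add_dotProduct]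
      map_smul' := fun r c => by
        funext K
        simp only [Pi.smul_apply, smul_dotProduct, RingHom.id_apply] }
  have hκ : ∀ c (y : G), κ c (ConjClasses.mk y) = c ⬝ᵥ τ (MonoidAlgebra.single y⁻¹ 1) := by
    intro c y
    show c ⬝ᵥ τ (MonoidAlgebra.single (Quotient.out (ConjClasses.mk y))⁻¹ 1) = _
    have h1 : IsConj y (Quotient.out (ConjClasses.mk y)) := by
      rw [← ConjClasses.mk_eq_mk_iff_isConj]
      exact (Quotient.out_eq _).symm
    obtain ⟨t, ht⟩ := isConj_iff.mp h1
    have h2 : (Quotient.out (ConjClasses.mk y))⁻¹ = t * y⁻¹ * t⁻¹ := by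
      rw [← ht]
      group
    rw [h2, tau_conj M τ hsym]
  -- Claim 3
  have h3 : ∀ c (x : G), (E.mulVec (κ c)) (ConjClasses.mk x) = κ c (ConjClasses.mk x) := by
    intro c x
    rw [← coeff_zIncl M (E.mulVec (κ c)) x, ← hE, MonoidAlgebra.coeff_mul_apply_left,
      Finsupp.sum_fintype _ _ (fun i => zero_mul _)]
    simp_rw [coeff_zIncl, hκ]
    have h4 : c ⬝ᵥ τ (MonoidAlgebra.single x⁻¹ 1) =
        ((φ c) ∘ₗ LinearMap.mulRight (ResField M)
          (MonoidAlgebra.single x⁻¹ (1 : ResField M))) e := by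
      rw [LinearMap.comp_apply, LinearMap.mulRight_apply, hφ, hτe]
    rw [h4, lin_eq_sum_coeff M]
    apply Finset.sum_congr rfl
    intro h _
    rw [LinearMap.comp_apply, LinearMap.mulRight_apply, hφ, MonoidAlgebra.single_mul_single,
      mul_one, smul_eq_mul]
    congr 2
    have h5 : (h⁻¹ * x)⁻¹ = x⁻¹ * (h * x⁻¹) * (x⁻¹)⁻¹ := by group
    rw [h5, tau_conj M τ hsym]
  -- Claim 4
  have h4 : ∀ c, (∀ K : RegClass G p, κ c K.1 = 0) → c = 0 := by
    intro c hc
    have h5 : ∀ g : G, c ⬝ᵥ τ (MonoidAlgebra.single g 1) = 0 := by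
      intro g
      obtain ⟨s, hs, h6⟩ := tau_eq_pRegular M p e hec τ hnil hτe g
      rw [h6]
      have hs' : IsPRegular p s⁻¹ := by
        unfold IsPRegular at *
        rw [orderOf_inv]
        exact hs
      have h7 := hc ⟨ConjClasses.mk s⁻¹, isPRegular_out_mk p hs'⟩
      rw [hκ, inv_inv] at h7
      exact h7
    have h6 : ∀ a, c ⬝ᵥ τ a = 0 := by
      intro a
      rw [← hφ, lin_eq_sum_coeff M]
      apply Finset.sum_eq_zero
      intro h _
      rw [hφ, h5, smul_zero]
    funext i
    obtain ⟨a, ha⟩ := hsurj (Pi.single i 1)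
    have h7 := h6 a
    rw [ha, dotProduct_single_one] at h7
    exact h7
  -- the injective map into the range of the submatrix
  let Ψ : (Fin l → ResField M) →ₗ[ResField M] (RegClass G p → ResField M) :=
    (LinearMap.funLeft (ResField M) (ResField M) (Subtype.val : RegClass G p → ConjClasses G)) ∘ₗ κ
  have hΨ : ∀ c K, Ψ c K = κ c K.1 := fun c K => rfl
  have hinj : Function.Injective Ψ := by
    rw [← LinearMap.ker_eq_bot, LinearMap.ker_eq_bot']
    intro c hc
    apply h4
    intro K
    rw [← hΨ, hc]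
    rfl
  have hrange : LinearMap.range Ψ ≤ LinearMap.range
      (E.submatrix (Subtype.val : RegClass G p → ConjClasses G) id).mulVecLin := by
    rintro _ ⟨c, rfl⟩
    refine ⟨κ c, ?_⟩
    funext K
    rw [Matrix.mulVecLin_apply, hΨ]
    have h8 := h3 c (Quotient.out K.1)
    have h9 : ConjClasses.mk (Quotient.out K.1) = K.1 := Quotient.out_eq _
    rw [h9] at h8
    rw [← h8]
    rfl
  have h9 := Submodule.finrank_mono hrange
  rw [LinearMap.finrank_range_of_inj hinj, Module.finrank_fin_fun] at h9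
  exact h9

end abstract

end Cfsg.Agent.Lib.Helper27.BlkAlgL
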