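/-
helper27: S4648 (helper1's plan), bridge B1, the trace functionals: for a central idempotent `e` of an
`F`-algebra `L` and a surjection `π` of the corner `eLe` onto a product of `l` matrix algebras, the map
`τ a = (tr π(e a e)_i)_i : L → F^l` is linear, onto, symmetric, kills the nilpotent elements and satisfies
`τ (e a) = τ a`.
-/
import Cfsg.Agent.Lib.Helper27.BlkAlgDefs

set_option autoImplicit false

namespace Cfsg.Agent.Lib.Helper27.BlkAlgL

open Cfsg.Agent.Lib.Helper27.BlkAlg

variable {F : Type*} [Field F] {L : Type*} [Ring L] [Algebra F L]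
variable {e : L} (he : IsIdempotentElem e) (hc : ∀ x, e * x = x * e)

variable (F) in
/-- `a ↦ e a e` as an algebra homomorphism onto the corner of a central idempotent -/
def cornerHom : L →ₐ[F] he.Corner where
  toFun a := ⟨e * a * e, (Subsemigroup.mem_corner_iff he).mpr
    ⟨by rw [← mul_assoc, ← mul_assoc, he.eq], by rw [mul_assoc, he.eq]⟩⟩
  map_one' := by
    apply Subtype.ext
    show e * 1 * e = e
    rw [mul_one, he.eq]
  map_mul' a b := by
    apply Subtype.ext
    show e * (a * b) * e = (e * a * e) * (e * b * e)
    have h1 : ∀ x, e * x * e = e * x := fun x => by rw [mul_assoc, ← hc x, ← mul_assoc, he.eq]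
    rw [h1, h1, h1, mul_assoc e a (e * b), ← mul_assoc a e b, ← hc a, mul_assoc e a b,
      ← mul_assoc e e (a * b), he.eq]
  map_zero' := by
    apply Subtype.ext
    show e * 0 * e = 0
    rw [mul_zero, zero_mul]
  map_add' a b := by
    apply Subtype.ext
    show e * (a + b) * e = e * a * e + e * b * e
    rw [mul_add, add_mul]
  commutes' r := by
    apply Subtype.ext
    show e * (algebraMap F L r) * e = r • e
    rw [Algebra.algebraMap_eq_smul_one, mul_smul_comm, mul_one, smul_mul_assoc, he.eq]

theorem cornerHom_val (a : L) : (cornerHom F he hc a).1 = e * a * e := rfl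

theorem cornerHom_coe (x : he.Corner) : cornerHom F he hc x.1 = x := by
  apply Subtype.ext
  obtain ⟨h1, h2⟩ := (Subsemigroup.mem_corner_iff he).mp x.2
  show e * x.1 * e = x.1
  rw [h1, h2]

theorem cornerHom_mul_left (a : L) :
    cornerHom F he hc (e * a) = cornerHom F he hc a := by
  apply Subtype.ext
  show e * (e * a) * e = e * a * e
  rw [← mul_assoc, he.eq]

variable {l : ℕ} {d : Fin l → ℕ}
variable (π : he.Corner →ₐ[F] (Π i : Fin l, Matrix (Fin (d i)) (Fin (d i)) F))

/-- the trace functionals -/
noncomputable def traceMap : L →ₗ[F] (Fin l → F) where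
  toFun a i := Matrix.trace (π (cornerHom F he hc a) i)
  map_add' a b := by
    funext i
    show Matrix.trace (π (cornerHom F he hc (a + b)) i) =
      Matrix.trace (π (cornerHom F he hc a) i) + Matrix.trace (π (cornerHom F he hc b) i)
    rw [map_add, map_add, Pi.add_apply, Matrix.trace_add]
  map_smul' r a := by
    funext i
    show Matrix.trace (π (cornerHom F he hc (r • a)) i) =
      r • Matrix.trace (π (cornerHom F he hc a) i)
    rw [map_smul, map_smul, Pi.smul_apply, Matrix.trace_smul]

theorem traceMap_apply (a : L) (i : Fin l) :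
    traceMap he hc π a i = Matrix.trace (π (cornerHom F he hc a) i) := rfl

theorem traceMap_mul_comm (a b : L) : traceMap he hc π (a * b) = traceMap he hc π (b * a) := by
  funext i
  rw [traceMap_apply, traceMap_apply, map_mul, map_mul, map_mul, map_mul, Pi.mul_apply,
    Pi.mul_apply, Matrix.trace_mul_comm]

theorem traceMap_nilpotent (a : L) (ha : IsNilpotent a) : traceMap he hc π a = 0 := by
  funext i
  rw [traceMap_apply]
  have h1 : IsNilpotent (π (cornerHom F he hc a)) := (ha.map (cornerHom F he hc)).map π
  have h2 : IsNilpotent (π (cornerHom F he hc a) i) := by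
    obtain ⟨k, hk⟩ := h1
    refine ⟨k, ?_⟩
    have := congrFun hk i
    rwa [Pi.pow_apply] at this
  exact (Matrix.isNilpotent_trace_of_isNilpotent h2).eq_zero

theorem traceMap_mul_left (a : L) : traceMap he hc π (e * a) = traceMap he hc π a := by
  funext i
  rw [traceMap_apply, traceMap_apply, cornerHom_mul_left]

theorem traceMap_surjective [∀ i, NeZero (d i)] (hπ : Function.Surjective π) :
    Function.Surjective (traceMap he hc π) := by
  classical
  intro c
  obtain ⟨y, hy⟩ := hπ (fun i => c i • Matrix.single (0 : Fin (d i)) 0 (1 : F))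
  refine ⟨y.1, ?_⟩
  funext i
  rw [traceMap_apply, cornerHom_coe, hy, Matrix.trace_smul, Matrix.trace_single_eq_same,
    smul_eq_mul, mul_one]

end Cfsg.Agent.Lib.Helper27.BlkAlgL
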