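/-
helper27: S4607 part A assembly (pure algebra): a finite-dimensional symmetric algebra over an
algebraically closed field whose centre has dimension 2 and no nontrivial idempotents has
dimension `2 n²`  (Brandt 1982 / Kuelshammer 1984).
Leaves: helper21 (A0, A1, A5c), helper29 (A2), helper22 (A3), helper23 (A4), helper19 (A5a, A5b),
helper25 (A5d), helper14 (A6).
-/
import Cfsg.Agent.Lib.Helper27.SymAlgDefs
import Cfsg.Agent.Lib.Helper21.SymAlgA0
import Cfsg.Agent.Lib.Helper21.SymAlgA1
import Cfsg.Agent.Lib.Helper21.SymAlgA5c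
import Cfsg.Agent.Lib.Helper22.SymAlgA3
import Cfsg.Agent.Lib.Helper23.SymAlgA4
import Cfsg.Agent.Lib.Helper19.SymAlgA5a
import Cfsg.Agent.Lib.Helper19.SymAlgA5b
import Cfsg.Agent.Lib.Helper25.SymAlgA5d
import Cfsg.Agent.Lib.Helper14.SymAlgA6Core

set_option autoImplicit false

namespace Cfsg.Agent.Lib.Helper27.SymAlgMain

open Cfsg.Agent.Lib.Helper27.SymAlg

variable {F : Type*} [Field F] {B : Type*} [Ring B] [Algebra F B]

/-- a product of `N` elements of a two-sided ideal lies in its `N`-th power -/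
theorem prod_ofFn_mem_pow (J : Ideal B) [J.IsTwoSided] :
    ∀ (N : ℕ) (f : Fin N → B), (∀ i, f i ∈ J) → (List.ofFn f).prod ∈ J ^ N := by
  intro N
  induction N with
  | zero => intro f _; rw [Submodule.pow_zero, Ideal.one_eq_top]; trivial
  | succ N ih =>
    intro f hf
    rw [List.ofFn_succ, List.prod_cons, Ideal.IsTwoSided.pow_succ]
    exact Ideal.mul_mem_mul (hf 0) (ih (fun i => f i.succ) (fun i => hf i.succ))

theorem finrank_eq_two_mul_sq [IsAlgClosed F] [FiniteDimensional F B] {lam : B →ₗ[F] F}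
    (hlam : IsSymForm lam) (hZ : Module.finrank F (Subalgebra.center F B) = 2)
    (hprim : ∀ e : B, e ∈ Subalgebra.center F B → e * e = e → e = 0 ∨ e = 1) :
    ∃ n : ℕ, Module.finrank F B = 2 * n ^ 2 := by
  classical
  have hart : IsArtinianRing B := IsArtinianRing.of_finite F B
  obtain ⟨l, d, hd, ⟨e⟩⟩ :=
    IsSemisimpleRing.exists_algEquiv_pi_matrix_of_isAlgClosed F (B ⧸ Ring.jacobson B)
  set π : B →ₐ[F] (Π i : Fin l, Matrix (Fin (d i)) (Fin (d i)) F) :=
    e.toAlgHom.comp (Ideal.Quotient.mkₐ F (Ring.jacobson B)) with hπdef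
  have hπ : Function.Surjective π := by
    rw [hπdef]
    exact e.surjective.comp (Ideal.Quotient.mkₐ_surjective F (Ring.jacobson B))
  have hker : ∀ x : B, π x = 0 → x ∈ Ring.jacobson B := by
    intro x hx
    have h1 : e (Ideal.Quotient.mk (Ring.jacobson B) x) = 0 := hx
    have h2 : Ideal.Quotient.mk (Ring.jacobson B) x = 0 := by
      have := e.injective (h1.trans (map_zero e).symm)
      exact this
    exact Ideal.Quotient.eq_zero_iff_mem.mp h2
  obtain ⟨N, hNil⟩ : IsNilpotent (Ring.jacobson B) := IsSemiprimaryRing.isNilpotent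
  have hnil : ∀ x : B, π x = 0 → IsNilpotent x := by
    intro x hx
    refine ⟨N, ?_⟩
    have h1 : x ^ N ∈ (Ring.jacobson B) ^ N := Ideal.pow_mem_pow (hker x hx) N
    rw [hNil] at h1
    exact h1
  obtain ⟨hl, -⟩ := Cfsg.Agent.Lib.Helper22.SymAlgA3.one_factor hlam hZ hprim (fun i => (hd i).ne) π hπ hnil
  subst hl
  let π₀ : B →ₐ[F] Matrix (Fin (d 0)) (Fin (d 0)) F :=
    (Pi.evalAlgHom F (fun i : Fin 1 => Matrix (Fin (d i)) (Fin (d i)) F) 0).comp π
  have hπ₀ : Function.Surjective π₀ := by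
    intro y
    obtain ⟨x, hx⟩ := hπ (fun i => by
      have : i = 0 := Subsingleton.elim _ _
      exact this ▸ y)
    exact ⟨x, by show π x 0 = y; rw [hx]⟩
  have hk₀ : ∀ x : B, π₀ x = 0 → π x = 0 := by
    intro x hx
    funext i
    have : i = 0 := Subsingleton.elim _ _
    subst this
    exact hx
  obtain ⟨u, hu, huπ⟩ := Cfsg.Agent.Lib.Helper23.SymAlgA4.exists_matrixUnits π₀ hπ₀ (fun x hx => hnil x (hk₀ x hx))
  haveI : NeZero (d 0) := hd 0
  obtain ⟨aug, haug⟩ := Cfsg.Agent.Lib.Helper25.SymAlgA5d.exists_augmentation π₀ huπ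
  have hsym := Cfsg.Agent.Lib.Helper21.SymAlgA5c.isSymForm_unitsCentralizer hu hlam
  have hZC := Cfsg.Agent.Lib.Helper19.SymAlgA5b.finrank_center_unitsCentralizer (F := F) hu
  have hN : ∀ f : Fin N → unitsCentralizer F u, (∀ i, aug (f i) = 0) →
      (List.ofFn f).prod = 0 := by
    intro f hf
    apply Subtype.ext
    show (unitsCentralizer F u).val ((List.ofFn f).prod : unitsCentralizer F u) = 0
    have h1 : (unitsCentralizer F u).val ((List.ofFn f).prod : unitsCentralizer F u) =
        (List.ofFn (fun i => ((f i : unitsCentralizer F u) : B))).prod := by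
      rw [map_list_prod (unitsCentralizer F u).val, List.map_ofFn]
      rfl
    rw [h1]
    have h2 : ∀ i, ((f i : unitsCentralizer F u) : B) ∈ Ring.jacobson B := by
      intro i
      apply hker
      apply hk₀
      rw [haug, hf i, zero_smul]
    have h3 := prod_ofFn_mem_pow (Ring.jacobson B) N _ h2
    rw [hNil] at h3
    exact h3
  have hcomm := Cfsg.Agent.Lib.Helper14.SymAlgA6.comm_core (Cfsg.Agent.Lib.Helper21.SymAlgA0.finrank_perp hsym _) (Cfsg.Agent.Lib.Helper21.SymAlgA1.perp_commSpan hsym) aug N hN (by rw [hZC, hZ])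
  have hC : Module.finrank F (unitsCentralizer F u) = 2 := by
    have htop : Subalgebra.center F (unitsCentralizer F u) = ⊤ := by
      rw [eq_top_iff]
      intro x _
      rw [Subalgebra.mem_center_iff]
      intro y
      exact hcomm y x
    rw [← hZ, ← hZC, htop]
    exact (Subalgebra.topEquiv.toLinearEquiv.finrank_eq).symm
  exact ⟨d 0, by rw [Cfsg.Agent.Lib.Helper19.SymAlgA5a.finrank_eq_sq_mul hu, hC]; ring⟩

end Cfsg.Agent.Lib.Helper27.SymAlgMain
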