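/-
helper27: S4648 (helper1's plan), block-level form of `SymAlgMainK.finrank_eq_sq_mul_center`:
for a block `B`, the block algebra `A = ebar·F[G]·ebar` over the residue field (`he.Corner`, `he` = idempotency of
`ebar M B`) has `dim A = ∑_{χ ∈ B} χ(1)² = blockDegSq B` and `dim Z(A) = k(B)`; if `A` has one matrix factor
(`hone`) and commutative basic algebras (`hcore`), then `blockDegSq B = n² · k(B)`, and a full set of `n × n`
matrix units of `A` is returned.
Leaves reused: helper19 (B1, B7), helper18 (B3), helper23 (B8), helper24 (B5a), helper22 (B5b).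
-/
import Cfsg.Agent.Lib.Helper27.SymAlgMainK
import Cfsg.Agent.Lib.Helper27.BlkAlgDefs2
import Cfsg.Agent.Lib.Helper19.BlkAlgB1
import Cfsg.Agent.Lib.Helper19.BlkAlgB7
import Cfsg.Agent.Lib.Helper18.BlkAlgB3
import Cfsg.Agent.Lib.Helper23.BlkAlgB8
import Cfsg.Agent.Lib.Helper24.BlkAlgB5a
import Cfsg.Agent.Lib.Helper22.BlkAlgB5b

set_option autoImplicit false

namespace Cfsg.Agent.Lib.Helper27.BlkAlgMainK

open Cfsg Cfsg.Agent.Lib.Helper6 Cfsg.Agent.Lib.Helper24
open Cfsg.Agent.Lib.Helper27.SymAlg Cfsg.Agent.Lib.Helper27.BlkAlg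

universe u

/-- the block idempotent over the residue field is an idempotent -/
theorem ebar_isIdempotentElem (M : Ideal AlgInt) [M.IsMaximal] {G : Type u} [Group G] [Fintype G]
    [Fintype (IrrCharacter G)] {p : ℕ} [Fact p.Prime] (hM : IsPModular p M)
    {B : Set (IrrCharacter G)} (hB : IsPBlock M B) : IsIdempotentElem (ebar M B) :=
  Cfsg.Agent.Lib.Helper18.BlkAlgB3.ebar_mul_self M hM hB

/-- `blockDegSq B = n² · k(B)` for a block algebra with one matrix factor and commutative basic algebra -/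
theorem blockDegSq_eq_sq_mul_card (M : Ideal AlgInt) [M.IsMaximal] {G : Type u} [Group G]
    [Fintype G] [Fintype (IrrCharacter G)] {p : ℕ} [Fact p.Prime] (hM : IsPModular p M)
    {B : Set (IrrCharacter G)} (hB : IsPBlock M B)
    (hone : ∀ (l : ℕ) (d : Fin l → ℕ), (∀ i, NeZero (d i)) →
      ∀ π : (ebar_isIdempotentElem M hM hB).Corner →ₐ[ResField M]
          (Π i : Fin l, Matrix (Fin (d i)) (Fin (d i)) (ResField M)),
        Function.Surjective π →
        (∀ x : (ebar_isIdempotentElem M hM hB).Corner, π x = 0 → IsNilpotent x) → l = 1)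
    (hcore : ∀ (n : ℕ) (u : Fin n → Fin n → (ebar_isIdempotentElem M hM hB).Corner), n ≠ 0 →
      IsMatrixUnits u →
      ∀ mu : unitsCentralizer (ResField M) u →ₗ[ResField M] ResField M, IsSymForm mu →
      ∀ (aug : unitsCentralizer (ResField M) u →ₐ[ResField M] ResField M) (N : ℕ),
        (∀ f : Fin N → unitsCentralizer (ResField M) u, (∀ i, aug (f i) = 0) →
          (List.ofFn f).prod = 0) →
        ∀ x y : unitsCentralizer (ResField M) u, x * y = y * x) :
    ∃ (n : ℕ) (u : Fin n → Fin n → (ebar_isIdempotentElem M hM hB).Corner), n ≠ 0 ∧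
      IsMatrixUnits u ∧ blockDegSq B = n ^ 2 * Nat.card B := by
  have := Cfsg.Agent.Lib.Helper19.BlkAlgB1.isAlgClosed_resField M
  have he : IsIdempotentElem (ebar M B) := ebar_isIdempotentElem M hM hB
  have hc := Cfsg.Agent.Lib.Helper18.BlkAlgB3.ebar_comm M B
  have := Cfsg.Agent.Lib.Helper23.BlkAlgB8.finiteDimensional_corner (F := ResField M) he
  obtain ⟨n, u, hn, hu, hdim⟩ := Cfsg.Agent.Lib.Helper27.SymAlgMainK.finrank_eq_sq_mul_center
    (F := ResField M) (B := he.Corner)
    (Cfsg.Agent.Lib.Helper23.BlkAlgB8.isSymForm_corner he hc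
      (Cfsg.Agent.Lib.Helper19.BlkAlgB7.isSymForm_coeffOne (ResField M) G))
    hone hcore
  refine ⟨n, u, hn, hu, ?_⟩
  rw [← Cfsg.Agent.Lib.Helper24.BlkAlgB5a.finrank_block M hM hB,
    ← Cfsg.Agent.Lib.Helper23.BlkAlgB8.finrank_corner he hc, hdim,
    Cfsg.Agent.Lib.Helper23.BlkAlgB8.finrank_center_corner he hc,
    Cfsg.Agent.Lib.Helper22.BlkAlgB5b.finrank_center_block M hM hB]

end Cfsg.Agent.Lib.Helper27.BlkAlgMainK
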