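/-
helper27: S4648 (helper1's plan), bridge B1 (no Brauer characters): the number `l` of matrix factors
of the block algebra `ebar F[G] ebar` modulo its radical is at most `blockRank p B`.

Chain: `l ≤ rank_F (p-regular rows of the reduced class matrix of e_B)` (`BlkAlgL1`, trace functionals of
`BlkAlgL2`) `≤ rank_ℂ (p-regular rows of the class matrix of e_B)` (minors, helper14's `exists_minor`)
`≤ dim span {χ° : χ ∈ B}` (the image of `conv e_B` on class functions is spanned by the `χ ∘ inv`,
helper22's `map_convL_blockCoeff`).
-/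
import Cfsg.Agent.Lib.Helper27.BlkAlgL1
import Cfsg.Agent.Lib.Helper27.BlkAlgL2
import Cfsg.Agent.Lib.Helper27.BlkAlgMainK
import Cfsg.Agent.Lib.Helper14.BlkAlgB4a

set_option autoImplicit false

namespace Cfsg.Agent.Lib.Helper27.BlkAlgL

open Cfsg Cfsg.Agent.Lib.Helper6 Cfsg.Agent.Lib.Helper24
open Cfsg.Agent.Lib.Helper27.BlkAlg Cfsg.Agent.Lib.Helper22.BlkAlgB5b
open Cfsg.Agent.Lib.Helper27.BlkAlgMainK

universe u

/-- rectangular version of helper14's `rank_map_le` -/
theorem rank_map_le_rect {O K k : Type*} [CommRing O] [Field K] [Field k] (ι : O →+* K)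
    (hι : Function.Injective ι) (π : O →+* k) {m n : Type*} [Fintype m] [Fintype n]
    [DecidableEq m] [DecidableEq n]
    (A : Matrix m n O) : (A.map π).rank ≤ (A.map ι).rank := by
  obtain ⟨ρ, c, hdet⟩ := Cfsg.Agent.Lib.Helper14.BlkAlgB4a.exists_minor (A.map π)
  have h1 : ((A.map π).submatrix ρ c) = π.mapMatrix (A.submatrix ρ c) := by
    ext i j
    simp
  have h2 : ((A.map ι).submatrix ρ c) = ι.mapMatrix (A.submatrix ρ c) := by
    ext i j
    simp
  rw [h1, ← RingHom.map_det] at hdet
  have hd0 : (A.submatrix ρ c).det ≠ 0 := by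
    intro h0
    rw [h0, map_zero] at hdet
    exact hdet rfl
  have hd1 : ((A.map ι).submatrix ρ c).det ≠ 0 := by
    rw [h2, ← RingHom.map_det]
    intro h0
    exact hd0 (hι (by rw [h0, map_zero]))
  have h3 := Matrix.rank_of_isUnit _ ((Matrix.isUnit_iff_isUnit_det _).mpr (Ne.isUnit hd1))
  rw [Fintype.card_fin] at h3
  calc (A.map π).rank = ((A.map ι).submatrix ρ c).rank := h3.symm
    _ ≤ (A.map ι).rank := Matrix.rank_submatrix_le _ _ _

section resChar

variable (M : Ideal AlgInt) [hmax : M.IsMaximal] {p : ℕ} [hp : Fact p.Prime]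

/-- the residue field has characteristic `p` -/
theorem charP_resField (hM : IsPModular p M) : CharP (ResField M) p := by
  have h0 : ((p : ℕ) : ResField M) = 0 := by
    have h1 : ((p : ℕ) : ResField M) = red M ((p : ℕ) : localSubring M) := (map_natCast (red M) p).symm
    rw [h1, red_eq_zero_iff]
    refine ⟨(p : AlgInt), 1, hM.2.2, Ideal.IsPrime.one_notMem hmax.isPrime, ?_⟩
    simp
  have h2 : ringChar (ResField M) = p := CharP.ringChar_of_prime_eq_zero hp.out h0
  exact ringChar.of_eq h2

end resChar

section fside

variable (M : Ideal AlgInt) [hmax : M.IsMaximal] {G : Type u} [Group G] [Fintype G]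
variable [Fintype (IrrCharacter G)] [Fintype (ConjClasses G)] [DecidableEq (ConjClasses G)]
variable {p : ℕ} [hp : Fact p.Prime]

/-- residue field side: `l ≤` rank of the `p`-regular rows of the reduced class matrix of the block -/
theorem le_rank_red (hM : IsPModular p M) {B : Set (IrrCharacter G)} (hB : IsPBlock M B)
    (l : ℕ) (d : Fin l → ℕ) [∀ i, NeZero (d i)]
    (π : (ebar_isIdempotentElem M hM hB).Corner →ₐ[ResField M]
      (Π i : Fin l, Matrix (Fin (d i)) (Fin (d i)) (ResField M)))
    (hπ : Function.Surjective π) :
    l ≤ (((blockMatO M B).map (red M)).submatrix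
      (Subtype.val : RegClass G p → ConjClasses G) id).rank := by
  have hchar : CharP (ResField M) p := charP_resField M hM
  have he := ebar_isIdempotentElem M hM hB
  have hc := Cfsg.Agent.Lib.Helper18.BlkAlgB3.ebar_comm M B
  refine le_rank_of_traceMap M p (ebar M B) ((blockMatO M B).map (red M)) ?_ hc
    (traceMap he hc π) (traceMap_mul_comm he hc π) (traceMap_nilpotent he hc π)
    (traceMap_surjective he hc π hπ) (traceMap_mul_left he hc π)
  intro c
  have h1 := mulLeft_ebar_zIncl M hB c
  rwa [LinearMap.mulLeft_apply] at h1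

end fside

section cside

variable {G : Type u} [Group G] [Fintype G] [Fintype (ConjClasses G)] [DecidableEq (ConjClasses G)]
variable (p : ℕ)

/-- evaluation at the inverses of the representatives of the `p`-regular classes -/
noncomputable def regEval : (G → ℂ) →ₗ[ℂ] (RegClass G p → ℂ) :=
  LinearMap.funLeft ℂ ℂ (fun K : RegClass G p => (Quotient.out K.1)⁻¹)

omit [Fintype G] [Fintype (ConjClasses G)] [DecidableEq (ConjClasses G)] in
theorem regEval_apply (f : G → ℂ) (K : RegClass G p) :
    regEval p f K = f (Quotient.out K.1)⁻¹ := rfl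

omit [Fintype G] [Fintype (ConjClasses G)] [DecidableEq (ConjClasses G)] in
theorem regEval_pRegularPart (f : G → ℂ) : regEval p (pRegularPart p f) = regEval p f := by
  funext K
  rw [regEval_apply, regEval_apply]
  unfold pRegularPart
  have h1 : IsPRegular p (Quotient.out K.1)⁻¹ := by
    have := K.2
    unfold IsPRegular at *
    rw [orderOf_inv]
    exact this
  exact if_pos h1

/-- complex side: the `p`-regular rows of the class matrix of `e_B` have rank at most `blockRank p B` -/
theorem rank_classMat_reg_le (B : Set (IrrCharacter G)) :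
    ((classMat (blockCoeff B)).submatrix (Subtype.val : RegClass G p → ConjClasses G) id).rank ≤
      blockRank p B := by
  rw [blockRank_eq_finrank_regSpan, Matrix.rank]
  have h1 : LinearMap.range ((classMat (blockCoeff B)).submatrix
      (Subtype.val : RegClass G p → ConjClasses G) id).mulVecLin ≤
      (regSpan p B).map (regEval p) := by
    rintro _ ⟨c, rfl⟩
    have h2 : convL (blockCoeff B) (cfIncl c) ∈
        (LinearMap.range (cfIncl (G := G))).map (convL (blockCoeff B)) :=
      ⟨cfIncl c, ⟨c, rfl⟩, rfl⟩
    rw [map_convL_blockCoeff] at h2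
    obtain ⟨ψ, hψ, hψe⟩ := h2
    have h3 : regEval p ψ = ((classMat (blockCoeff B)).submatrix
        (Subtype.val : RegClass G p → ConjClasses G) id).mulVecLin c := by
      funext K
      rw [Matrix.mulVecLin_apply, regEval_apply]
      have h4 : ((classMat (blockCoeff B)).submatrix
          (Subtype.val : RegClass G p → ConjClasses G) id).mulVec c K =
          (classMat (blockCoeff B)).mulVec c K.1 := rfl
      rw [h4]
      have h5 := classMat_mulVec_mk (blockCoeff_isClassFunction B) c (Quotient.out K.1)
      have h6 : ConjClasses.mk (Quotient.out K.1) = K.1 := Quotient.out_eq _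
      rw [h6] at h5
      rw [h5]
      have h7 : conv (blockCoeff B) (c ∘ ConjClasses.mk) = invL ψ := hψe.symm
      rw [h7, invL_apply]
    rw [← h3]
    -- `ψ ∈ blockSpan B`
    have h8 : (blockSpan B).map (regEval p) ≤ (regSpan p B).map (regEval p) := by
      unfold blockSpan
      rw [Submodule.map_span, Submodule.span_le]
      rintro _ ⟨_, ⟨χ, rfl⟩, rfl⟩
      refine ⟨pRegularPart p ((χ : IrrCharacter G) : G → ℂ), ?_, regEval_pRegularPart p _⟩
      exact pRegularPart_mem_regSpan p χ.2
    exact h8 ⟨ψ, hψ, rfl⟩
  exact le_trans (Submodule.finrank_mono h1) (Submodule.finrank_map_le _ _)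

end cside

section final

variable (M : Ideal AlgInt) [hmax : M.IsMaximal] {G : Type u} [Group G] [Fintype G]
variable [Fintype (IrrCharacter G)] {p : ℕ} [hp : Fact p.Prime]

/-- BRIDGE B1: the number of matrix factors of the block algebra is at most the `p`-regular rank -/
theorem matrixFactors_le_blockRank (hM : IsPModular p M) {B : Set (IrrCharacter G)}
    (hB : IsPBlock M B) (l : ℕ) (d : Fin l → ℕ) [∀ i, NeZero (d i)]
    (π : (ebar_isIdempotentElem M hM hB).Corner →ₐ[ResField M]
      (Π i : Fin l, Matrix (Fin (d i)) (Fin (d i)) (ResField M)))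
    (hπ : Function.Surjective π) : l ≤ blockRank p B := by
  classical
  let _ : Fintype (ConjClasses G) := Fintype.ofFinite _
  have h1 := le_rank_red M hM hB l d π hπ
  have h2 := rank_map_le_rect (localSubring M).subtype Subtype.val_injective (red M)
    ((blockMatO M B).submatrix (Subtype.val : RegClass G p → ConjClasses G) id)
  have h3 := rank_classMat_reg_le p B
  have e1 : ((blockMatO M B).submatrix (Subtype.val : RegClass G p → ConjClasses G) id).map
      (red M) = ((blockMatO M B).map (red M)).submatrix
        (Subtype.val : RegClass G p → ConjClasses G) id := rfl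
  have e2 : ((blockMatO M B).submatrix (Subtype.val : RegClass G p → ConjClasses G) id).map
      (localSubring M).subtype = (classMat (blockCoeff B)).submatrix
        (Subtype.val : RegClass G p → ConjClasses G) id := by
    rw [← blockMatO_map_subtype M hB]
    rfl
  rw [e1, e2] at h2
  exact le_trans h1 (le_trans h2 h3)

end final

end Cfsg.Agent.Lib.Helper27.BlkAlgL
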