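/-
helper27: S4638 (Klein four defect group: perfect isometry between the Brauer correspondent and `B`),
definitions.  `thetaFun B σ = ∑_{χ ∈ B} σ χ • χ`, `intComb D = ∑_ζ D ζ • ζ`, and the two shapes of
"Klein data" of a block with four characters: `HadData` (inertial index one: a `4 × 4` sign matrix with
orthogonal rows whose rows give class functions supported on the regular / the singular elements, with
the divisibility of projective characters) and `TransData` (inertial index three: one sign vector).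
-/
import Mathlib
import Cfsg.Prelude.Def_BlockLocal
import Cfsg.Prelude.Def_BlockRank

set_option autoImplicit false

namespace Cfsg.Agent.Lib.Helper27.KleinPI

open Cfsg

universe u

/-- the class function `∑_{χ ∈ B} σ χ • χ` -/
noncomputable def thetaFun {G : Type u} [Group G] (B : Set (IrrCharacter G))
    (σ : IrrCharacter G → ℤ) (x : G) : ℂ :=
  ∑ᶠ χ ∈ B, (σ χ : ℂ) * (χ : G → ℂ) x

/-- the integer combination `∑_ζ D ζ • ζ` of all irreducible characters -/
noncomputable def intComb {C : Type u} [Group C] (D : IrrCharacter C → ℤ) (s : C) : ℂ :=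
  ∑ᶠ ζ : IrrCharacter C, (D ζ : ℂ) * (ζ : C → ℂ) s

/-- Klein data, inertial index one: four sign vectors `σ 0, …, σ 3` on `B`, pairwise orthogonal;
`θ₀ = ∑ σ 0 χ • χ` vanishes on the `2`-singular elements, `θᵢ` (`i ≠ 0`) on the `2`-regular ones; every
`θᵢ x` is divisible by `4` and by `|C_G(x)|` in the local ring. -/
def HadData {G : Type u} [Group G] (M : Ideal AlgInt) (B : Set (IrrCharacter G))
    (σ : Fin 4 → IrrCharacter G → ℤ) : Prop :=
  (∀ i, ∀ χ ∈ B, σ i χ = 1 ∨ σ i χ = -1) ∧
  (∀ i j, i ≠ j → ∑ᶠ χ ∈ B, σ i χ * σ j χ = 0) ∧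
  (∀ i x, i ≠ 0 → IsPRegular 2 x → thetaFun B (σ i) x = 0) ∧
  (∀ x, ¬ IsPRegular 2 x → thetaFun B (σ 0) x = 0) ∧
  (∀ i x, MemLocalRing M (thetaFun B (σ i) x / 4) ∧
    MemLocalRing M (thetaFun B (σ i) x / (Nat.card (Subgroup.centralizer ({x} : Set G)) : ℂ)))

/-- Klein data, inertial index three: one sign vector `σ` on `B`; `θ = ∑ σ χ • χ` vanishes on the
`2`-regular elements, every `χ ∈ B` equals `σ χ • θ / 4` on the `2`-singular elements, and `θ x` is
divisible by `4` and by `|C_G(x)|` in the local ring. -/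
def TransData {G : Type u} [Group G] (M : Ideal AlgInt) (B : Set (IrrCharacter G))
    (σ : IrrCharacter G → ℤ) : Prop :=
  (∀ χ ∈ B, σ χ = 1 ∨ σ χ = -1) ∧
  (∀ x, IsPRegular 2 x → thetaFun B σ x = 0) ∧
  (∀ χ ∈ B, ∀ x, ¬ IsPRegular 2 x → (χ : G → ℂ) x = (σ χ : ℂ) * thetaFun B σ x / 4) ∧
  (∀ x, MemLocalRing M (thetaFun B σ x / 4) ∧
    MemLocalRing M (thetaFun B σ x / (Nat.card (Subgroup.centralizer ({x} : Set G)) : ℂ)))

end Cfsg.Agent.Lib.Helper27.KleinPI
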