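/-
helper27: vocabulary for the wrappers S4700 / S0996 (Brauer 1943) over helper24's Brauer-Reynolds core.
`Alt p n` = the third alternative of S4700: `n = (h u p + u² + u + h)/(u + 1)` for some positive `h`, `u`.
-/
import Mathlib

set_option autoImplicit false

namespace Cfsg.Agent.Lib.Helper27.BRW

/-- the third alternative of S4700 -/
def Alt (p n : ℕ) : Prop := ∃ h u : ℕ, 0 < h ∧ 0 < u ∧ n * (u + 1) = h * u * p + u ^ 2 + u + h

end Cfsg.Agent.Lib.Helper27.BRW
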