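import Mathlib
import Cfsg.Agent.Lib.Helper20.AschDefs

set_option autoImplicit false
set_option linter.style.haveILetI false
set_option linter.unusedSectionVars false
set_option linter.unusedVariables false

namespace Cfsg.Agent.Lib.Helper27.AschKF3

open Module Matrix Cfsg.Geo Cfsg.Agent.Lib.Helper20.Asch

section abstract

variable (F : Type*) [Field F] [Fintype F] (E : Type*) [Field E] [Algebra F E] [Finite E]

/-- the subfield of degree `r` of a finite extension of degree divisible by `r`, as the fixed field of `Frob ^ r` -/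
theorem exists_intermediate (r : ℕ) (hr0 : r ≠ 0) (hr : r ∣ finrank F E) :
    ∃ L : IntermediateField F E, finrank F L = r ∧
      ∀ x : E, x ∈ L ↔ x ^ (Fintype.card F ^ r) = x := by
  classical
  have : FiniteDimensional F E := Module.Finite.of_finite
  have : Algebra.IsAlgebraic F E := Algebra.IsAlgebraic.of_finite F E
  set φ := FiniteField.frobeniusAlgEquivOfAlgebraic F E with hφ
  have hord : orderOf φ = finrank F E := FiniteField.orderOf_frobeniusAlgEquivOfAlgebraic F E
  set ψ := φ ^ r with hψ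
  have hordψ : orderOf ψ = finrank F E / r := by
    rw [hψ, orderOf_pow_of_dvd hr0 (by rw [hord]; exact hr), hord]
  have hψx : ∀ x : E, ψ x = x ^ (Fintype.card F ^ r) := by
    intro x
    rw [hψ, AlgEquiv.coe_pow, FiniteField.coe_frobeniusAlgEquivOfAlgebraic_iterate]
  refine ⟨IntermediateField.fixedField (Subgroup.zpowers ψ), ?_, ?_⟩
  · have h1 := IntermediateField.finrank_fixedField_eq_card (F := F) (E := E) (Subgroup.zpowers ψ)
    rw [Nat.card_zpowers, hordψ] at h1
    have h2 := Module.finrank_mul_finrank F (IntermediateField.fixedField (Subgroup.zpowers ψ)) E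
    rw [h1] at h2
    have hpos : 0 < finrank F E := Module.finrank_pos
    obtain ⟨m, hm⟩ := hr
    have hm0 : 0 < m := by
      rcases Nat.eq_zero_or_pos m with h | h
      · rw [h, mul_zero] at hm; omega
      · exact h
    rw [hm, Nat.mul_div_cancel_left m (Nat.pos_of_ne_zero hr0)] at h2
    exact Nat.eq_of_mul_eq_mul_right hm0 h2
  · intro x
    rw [IntermediateField.mem_fixedField_iff]
    constructor
    · intro h
      rw [← hψx]
      exact h ψ (Subgroup.mem_zpowers ψ)
    · intro h σ hσ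
      obtain ⟨k, rfl⟩ := Subgroup.mem_zpowers_iff.mp hσ
      have h1 : ψ x = x := by rw [hψx]; exact h
      have h2 : ∀ m : ℕ, (ψ ^ m) x = x := by
        intro m
        induction m with
        | zero => simp
        | succ m ih => rw [pow_succ, AlgEquiv.mul_apply, h1, ih]
      have h3 : ∀ m : ℕ, (ψ ^ m)⁻¹ x = x := by
        intro m
        have := h2 m
        calc (ψ ^ m)⁻¹ x = (ψ ^ m)⁻¹ ((ψ ^ m) x) := by rw [this]
          _ = x := by rw [← AlgEquiv.mul_apply, inv_mul_cancel, AlgEquiv.one_apply]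
      rcases k with k | k
      · simpa using h2 k
      · simpa using h3 (k + 1)

end abstract

section concrete

universe u
variable {F : Type u} [Field F] [Fintype F] {n : ℕ}

/-- a field subalgebra is the image of an abstract extension field -/
theorem exists_model (d : ℕ) (hd : 0 < d) (K : Subalgebra F (Matrix (Fin n) (Fin n) F))
    (hK : IsFieldSubalgebra d K) :
    ∃ (E : Type u) (_ : Field E) (_ : Algebra F E) (ρ : E →ₐ[F] Matrix (Fin n) (Fin n) F),
      Function.Injective ρ ∧ ρ.range = K ∧ finrank F E = d := by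
  have hF : IsField ↥K := by
    refine ⟨⟨0, 1, ?_⟩, ?_, ?_⟩
    · intro h
      have h1 : Subsingleton ↥K := by
        refine ⟨fun a b => ?_⟩
        rw [← mul_one a, ← mul_one b, ← h, mul_zero, mul_zero]
      have h2 : finrank F ↥K = 0 := Module.finrank_zero_of_subsingleton
      rw [hK.finrank_eq] at h2
      omega
    · intro a b
      exact Subtype.ext (hK.comm a.1 a.2 b.1 b.2)
    · intro a ha
      obtain ⟨y, hy, hxy⟩ := hK.inv a.1 a.2 (fun h => ha (Subtype.ext h))
      exact ⟨⟨y, hy⟩, Subtype.ext hxy⟩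
  let fE : Field ↥K := hF.toField
  refine ⟨↥K, fE, (Subalgebra.algebra K : @Algebra F ↥K _ fE.toSemiring), K.val, ?_, ?_, ?_⟩
  · exact Subtype.val_injective
  · exact K.range_val
  · exact hK.finrank_eq

/-- the subfield of degree `r` of a field subalgebra of degree divisible by `r` -/
theorem exists_sub (K : Subalgebra F (Matrix (Fin n) (Fin n) F)) (d : ℕ) (hK : IsFieldSubalgebra d K)
    (r : ℕ) (hr0 : r ≠ 0) (hd0 : 0 < d) (hr : r ∣ d) :
    ∃ K' : Subalgebra F (Matrix (Fin n) (Fin n) F), IsFieldSubalgebra r K' ∧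
      ∀ k : Matrix (Fin n) (Fin n) F, k ∈ K' ↔ k ∈ K ∧ k ^ (Fintype.card F ^ r) = k := by
  classical
  obtain ⟨E, iE, iA, ρ, hinj, hrange, hfr⟩ := exists_model d hd0 K hK
  have hfin : Finite E := Finite.of_injective ρ hinj
  obtain ⟨L, hL, hmem⟩ := exists_intermediate F E r hr0 (by rw [hfr]; exact hr)
  have hmemK : ∀ k : Matrix (Fin n) (Fin n) F, k ∈ L.toSubalgebra.map ρ ↔
      k ∈ K ∧ k ^ (Fintype.card F ^ r) = k := by
    intro k
    rw [Subalgebra.mem_map, ← hrange]
    constructor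
    · rintro ⟨x, hx, rfl⟩
      refine ⟨⟨x, rfl⟩, ?_⟩
      have := (hmem x).mp hx
      rw [← map_pow, this]
    · rintro ⟨⟨x, rfl⟩, hx⟩
      refine ⟨x, (hmem x).mpr ?_, rfl⟩
      apply hinj
      rw [map_pow]
      exact hx
  refine ⟨L.toSubalgebra.map ρ, ⟨?_, ?_, ?_⟩, hmemK⟩
  · intro x hx y hy
    exact hK.comm x ((hmemK x).mp hx).1 y ((hmemK y).mp hy).1
  · intro x hx hx0
    obtain ⟨a, ha, rfl⟩ := Subalgebra.mem_map.mp hx
    have ha0 : a ≠ 0 := by
      rintro rfl
      exact hx0 (map_zero ρ)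
    refine ⟨ρ a⁻¹, Subalgebra.mem_map.mpr ⟨a⁻¹, L.inv_mem ha, rfl⟩, ?_⟩
    rw [← map_mul, mul_inv_cancel₀ ha0, map_one]
  · rw [← hL]
    exact (LinearEquiv.finrank_eq (Subalgebra.equivMapOfInjective L.toSubalgebra ρ hinj).toLinearEquiv).symm

/-- conjugation by a unit commutes with powers -/
theorem conj_pow_mat (g : GL (Fin n) F) (k : Matrix (Fin n) (Fin n) F) (m : ℕ) :
    ((g : Matrix (Fin n) (Fin n) F) * k * ((g⁻¹ : GL (Fin n) F) : Matrix (Fin n) (Fin n) F)) ^ m =
      (g : Matrix (Fin n) (Fin n) F) * k ^ m * ((g⁻¹ : GL (Fin n) F) : Matrix (Fin n) (Fin n) F) :=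
  Units.conj_pow g k m

theorem conj_inj_mat (g : GL (Fin n) F) (a b : Matrix (Fin n) (Fin n) F)
    (h : (g : Matrix (Fin n) (Fin n) F) * a * ((g⁻¹ : GL (Fin n) F) : Matrix (Fin n) (Fin n) F) =
      (g : Matrix (Fin n) (Fin n) F) * b * ((g⁻¹ : GL (Fin n) F) : Matrix (Fin n) (Fin n) F)) : a = b := by
  have h2 : ((g⁻¹ : GL (Fin n) F) : Matrix (Fin n) (Fin n) F) * (g : Matrix (Fin n) (Fin n) F) = 1 := by
    rw [← Units.val_mul, inv_mul_cancel, Units.val_one]
  have h3 := congrArg (fun T => ((g⁻¹ : GL (Fin n) F) : Matrix (Fin n) (Fin n) F) * T *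
    (g : Matrix (Fin n) (Fin n) F)) h
  simp only [mul_assoc, h2, mul_one] at h3
  simp only [← mul_assoc, h2, one_mul] at h3
  exact h3

end concrete

end Cfsg.Agent.Lib.Helper27.AschKF3

namespace Cfsg.Agent.Lib.Helper27.AschLeaf
open Matrix Cfsg.Geo Cfsg.Agent.Lib.Helper20.Asch
open scoped Kronecker

variable {F : Type*} [Field F] [Fintype F] {n : ℕ} {H N : Subgroup (GL (Fin n) F)}

/-- KF3 (C3): a field subalgebra of degree `≥ 2` normalised by `H`: the subfield `{x ∈ K | x ^ (q ^ r) = x}`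
(`q = |F|`, `r` a prime divisor of the degree) has degree `r` and is normalised by `H` as well. -/
theorem geo_of_field (K : Subalgebra F (Matrix (Fin n) (Fin n) F)) (d : ℕ) (hK : IsFieldSubalgebra d K)
    (hd : 2 ≤ d) (hH : H ≤ subalgebraNormalizer K) : Geo H := by
  obtain ⟨r, hr, hrd⟩ := Nat.exists_prime_and_dvd (show d ≠ 1 by omega)
  obtain ⟨K', hK', hmem⟩ := AschKF3.exists_sub K d hK r hr.ne_zero (by omega) hrd
  refine Geo.of_C3 r K' hr hK' ?_
  intro g hg
  have hgK := hH hg
  intro k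
  rw [hmem, hmem, AschKF3.conj_pow_mat]
  constructor
  · rintro ⟨h1, h2⟩
    exact ⟨(hgK k).mp h1, by rw [h2]⟩
  · rintro ⟨h1, h2⟩
    exact ⟨(hgK k).mpr h1, AschKF3.conj_inj_mat g _ _ h2⟩

end Cfsg.Agent.Lib.Helper27.AschLeaf
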