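import Mathlib
import Cfsg.Agent.Lib.Helper17.CWQuad

/-!
S5840 / S5801 unitary C3, stage (A) (planner helper6/helper13): leaf **CW0** (helper27).
Generic Chevalley-Warning for a bilinear map (pure Mathlib, form-free): over a finite field `K`, a
`K`-bilinear map `B : W × W → U` with `2 dim U < dim W` has a non-trivial zero of `w ↦ B w w`.
-/

set_option autoImplicit false
set_option linter.unusedSectionVars false
set_option linter.unusedVariables false

namespace Cfsg.Agent.Lib.Helper27.C3u2Leaf
open Module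

/-- a finite type whose cardinality is divisible by `p ≥ 2` has a second element -/
theorem exists_ne_of_dvd_card_cw {α : Type*} [Fintype α] (p : ℕ) (hp : 2 ≤ p)
    (h : p ∣ Fintype.card α) (a : α) : ∃ b : α, b ≠ a := by
  have hpos : 0 < Fintype.card α := Fintype.card_pos_iff.mpr ⟨a⟩
  have hle : 1 < Fintype.card α := lt_of_lt_of_le (by omega) (Nat.le_of_dvd hpos h)
  obtain ⟨x, y, hxy⟩ := Fintype.one_lt_card_iff.mp hle
  by_cases hx : x = a
  · exact ⟨y, fun hy => hxy (hx.trans hy.symm)⟩
  · exact ⟨x, hx⟩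

/-- Chevalley-Warning for a family of bilinear forms on `ι → K`: `2 * #κ < #ι` gives a common non-trivial
zero of the quadratic forms `x ↦ Bf i x x`. -/
theorem exists_ne_zero_forall_bilin_self_eq_zero {K : Type*} [Field K] [Fintype K] {ι κ : Type*}
    [Fintype ι] [DecidableEq ι] [Fintype κ] (Bf : κ → LinearMap.BilinMap K (ι → K) K)
    (h : 2 * Fintype.card κ < Fintype.card ι) : ∃ x : ι → K, x ≠ 0 ∧ ∀ i, Bf i x x = 0 := by
  classical
  obtain ⟨p, hp⟩ := CharP.exists K
  have : Fact p.Prime := ⟨CharP.char_is_prime K p⟩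
  set f : κ → MvPolynomial ι K := fun i => Cfsg.Agent.Lib.Helper17.CWQuad.bilPoly (Bf i) with hf
  have hdeg : (∑ i, (f i).totalDegree) < Fintype.card ι := by
    refine lt_of_le_of_lt ?_ h
    calc (∑ i, (f i).totalDegree) ≤ ∑ _i : κ, 2 :=
          Finset.sum_le_sum (fun i _ => Cfsg.Agent.Lib.Helper17.CWQuad.totalDegree_bilPoly (Bf i))
      _ = 2 * Fintype.card κ := by
          rw [Finset.sum_const, Finset.card_univ, smul_eq_mul, mul_comm]
  have hdvd := char_dvd_card_solutions_of_fintype_sum_lt p hdeg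
  have hsol : ∀ x : ι → K, (∀ i, MvPolynomial.eval x (f i) = 0) ↔ ∀ i, Bf i x x = 0 := by
    intro x
    refine forall_congr' (fun i => ?_)
    rw [hf]
    simp only [Cfsg.Agent.Lib.Helper17.CWQuad.eval_bilPoly]
  have hp2 : 2 ≤ p := (Fact.out : p.Prime).two_le
  have key : ∀ (inst : Fintype { x : ι → K // ∀ i, MvPolynomial.eval x (f i) = 0 }),
      p ∣ @Fintype.card _ inst →
      ∃ b : { x : ι → K // ∀ i, MvPolynomial.eval x (f i) = 0 },
        b ≠ ⟨0, (hsol 0).mpr (fun i => by simp)⟩ :=
    fun inst h => @exists_ne_of_dvd_card_cw _ inst p hp2 h _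
  obtain ⟨⟨x, hx⟩, hx0⟩ := key _ hdvd
  rw [hsol] at hx
  refine ⟨x, ?_, hx⟩
  rintro rfl
  exact hx0 rfl

/-- **CW0** generic Chevalley–Warning for a bilinear map: `K` a finite field, `B : W × W → U`
`K`-bilinear, `2 dim U < dim W`: the quadratic map `w ↦ B w w` has a non-trivial zero. -/
theorem exists_ne_zero_bilin_self_eq_zero {K : Type*} [Field K] [Fintype K] {W U : Type*}
    [AddCommGroup W] [Module K W] [AddCommGroup U] [Module K U] [FiniteDimensional K W]
    [FiniteDimensional K U] (B : W →ₗ[K] W →ₗ[K] U) (h : 2 * finrank K U < finrank K W) :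
    ∃ w : W, w ≠ 0 ∧ B w w = 0 := by
  classical
  set b := Module.finBasis K W with hb
  set c := Module.finBasis K U with hc
  set e : (Fin (finrank K W) → K) ≃ₗ[K] W := b.equivFun.symm with he
  set Bf : Fin (finrank K U) → LinearMap.BilinMap K (Fin (finrank K W) → K) K :=
    fun i => (B.compl₁₂ (e : (Fin (finrank K W) → K) →ₗ[K] W)
      (e : (Fin (finrank K W) → K) →ₗ[K] W)).compr₂ (c.coord i) with hBf
  have hcard : 2 * Fintype.card (Fin (finrank K U)) < Fintype.card (Fin (finrank K W)) := by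
    rw [Fintype.card_fin, Fintype.card_fin]
    exact h
  obtain ⟨x, hx0, hx⟩ := exists_ne_zero_forall_bilin_self_eq_zero Bf hcard
  refine ⟨e x, ?_, ?_⟩
  · intro h0
    apply hx0
    exact e.map_eq_zero_iff.mp h0
  · apply c.repr.injective
    rw [map_zero]
    ext i
    have := hx i
    rw [hBf] at this
    simpa using this

end Cfsg.Agent.Lib.Helper27.C3u2Leaf
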