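import Mathlib
import Cfsg.Prelude.Def_FischerSpaces
import Cfsg.Agent.S5344
import Cfsg.Agent.Lib.Helper3.Dihedral
import Cfsg.Agent.Lib.Helper25.BaerSuzuki
import Cfsg.Agent.Lib.Helper27.Basic

set_option autoImplicit false

/-! Basic Fischer theory of 3-transpositions: the relation "same commuting partners" and `O_2`. -/

namespace Cfsg.Agent.Lib.Helper27.ThreeTrans

open Cfsg

variable {G : Type*} [Group G]

theorem sq_of_mem {D : Set G} (hD : IsThreeTranspositionSet D) {d : G} (hd : d ∈ D) : d * d = 1 :=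
  Cfsg.Agent.S5344.sq_eq_one_of_orderOf (hD.1 d hd)

theorem inv_of_mem {D : Set G} (hD : IsThreeTranspositionSet D) {d : G} (hd : d ∈ D) : d⁻¹ = d :=
  inv_eq_of_mul_eq_one_right (sq_of_mem hD hd)

theorem ne_one_of_mem {D : Set G} (hD : IsThreeTranspositionSet D) {d : G} (hd : d ∈ D) : d ≠ 1 := by
  intro h
  have := hD.1 d hd
  rw [h, orderOf_one] at this
  omega

theorem cube_of_not_commute {D : Set G} (hD : IsThreeTranspositionSet D) {a b : G} (ha : a ∈ D) (hb : b ∈ D)
    (hab : ¬ Commute a b) : (a * b) ^ 3 = 1 :=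
  Cfsg.Agent.S5344.cube_of_not_commute (sq_of_mem hD ha) (sq_of_mem hD hb) (hD.2 a ha b hb) hab

/-- Two involutions whose product has order dividing 4 generate a 2-group. -/
theorem isPGroup_two_closure_pair {t t' : G} (ht : t * t = 1) (ht' : t' * t' = 1) (h4 : (t * t') ^ 4 = 1) :
    IsPGroup 2 (Subgroup.closure ({t * t', t} : Set G)) := by
  have hti : t⁻¹ = t := inv_eq_of_mul_eq_one_right ht
  have ht'i : t'⁻¹ = t' := inv_eq_of_mul_eq_one_right ht'
  have hsx : t * (t * t') * t = (t * t')⁻¹ := by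
    rw [mul_inv_rev, hti, ht'i, ← mul_assoc, ht, one_mul]
  rw [← Cfsg.Agent.Lib.Helper3.dihLift_range (n := 4) (t * t') t h4 ht hsx]
  have hdvd : Nat.card (Cfsg.Agent.Lib.Helper3.dihLift (n := 4) (t * t') t h4 ht hsx).range ∣ 2 ^ 3 := by
    have h1 := Subgroup.card_range_dvd (Cfsg.Agent.Lib.Helper3.dihLift (n := 4) (t * t') t h4 ht hsx)
    rw [DihedralGroup.nat_card] at h1
    exact h1
  obtain ⟨k, -, hk⟩ := (Nat.dvd_prime_pow Nat.prime_two).mp hdvd
  exact IsPGroup.of_card hk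

/-- `v` has the same commuting partners in `D` as `d`. -/
def Tau (D : Set G) (d v : G) : Prop := v ∈ D ∧ ∀ e ∈ D, Commute v e ↔ Commute d e

theorem tau_conj {D : Set G} (hconj : ∀ g : G, ∀ d ∈ D, g * d * g⁻¹ ∈ D) {d v : G} (h : Tau D d v) (g : G) :
    Tau D (g * d * g⁻¹) (g * v * g⁻¹) := by
  refine ⟨hconj g v h.1, ?_⟩
  intro e he
  have he' : g⁻¹ * e * g ∈ D := by
    have := hconj g⁻¹ e he
    rwa [inv_inv] at this
  have e1 : e = g * (g⁻¹ * e * g) * g⁻¹ := by group
  rw [e1, Commute.conj_iff, Commute.conj_iff]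
  exact h.2 _ he'

theorem tau_commute {D : Set G} {d v : G} (hd : d ∈ D) (h : Tau D d v) : Commute d v :=
  ((h.2 d hd).mpr (Commute.refl d)).symm

/-- The key computation: products of two `τ`-pairs generate a 2-group. -/
theorem tau_key {D : Set G} (hD : IsThreeTranspositionSet D) (hconj : ∀ g : G, ∀ d ∈ D, g * d * g⁻¹ ∈ D)
    {d v d' v' : G} (hd : d ∈ D) (hd' : d' ∈ D) (h : Tau D d v) (h' : Tau D d' v') (hne : d ≠ v) :
    ((d * v) * (d' * v')) ^ 4 = 1 := by
  have hdv : Commute d v := tau_commute hd h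
  have hd'v' : Commute d' v' := tau_commute hd' h'
  have hd2 := sq_of_mem hD hd
  have hv2 := sq_of_mem hD h.1
  have hd'2 := sq_of_mem hD hd'
  have hv'2 := sq_of_mem hD h'.1
  have ht2 : (d * v) * (d * v) = 1 := by
    rw [← pow_two, hdv.mul_pow, pow_two, pow_two, hd2, hv2, mul_one]
  have ht'2 : (d' * v') * (d' * v') = 1 := by
    rw [← pow_two, hd'v'.mul_pow, pow_two, pow_two, hd'2, hv'2, mul_one]
  by_cases hc : Commute d d'
  · have hvd' : Commute v d' := (h.2 d' hd').mpr hc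
    have hv'd : Commute v' d := (h'.2 d hd).mpr hc.symm
    have hvv' : Commute v v' := (h.2 v' h'.1).mpr hv'd.symm
    have htt' : Commute (d * v) (d' * v') :=
      Commute.mul_left (Commute.mul_right hc hv'd.symm) (Commute.mul_right hvd' hvv')
    have : ((d * v) * (d' * v')) ^ 2 = 1 := by
      rw [htt'.mul_pow, pow_two, pow_two, ht2, ht'2, mul_one]
    rw [show 4 = 2 * 2 from rfl, pow_mul, this, one_pow]
  · have hvd' : ¬ Commute v d' := fun hh => hc ((h.2 d' hd').mp hh)
    obtain ⟨φ, -, h01, h12, h23⟩ := Cfsg.Agent.S5344.result hD hd hd' h.1 hne hdv hc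
      (fun hh => hvd' hh.symm)
    set t := d * v with htdef
    have hti : t⁻¹ = t := inv_eq_of_mul_eq_one_right ht2
    have hu : t * d' * t⁻¹ ∈ D := hconj t d' hd'
    have hτ : Tau D (t * d' * t⁻¹) (t * v' * t⁻¹) := tau_conj hconj h' t
    have hud' : Commute (t * d' * t⁻¹) d' := by
      have key : Commute ((Equiv.swap (0 : Fin 4) 1 * Equiv.swap 2 3) * Equiv.swap 1 2 *
          (Equiv.swap (0 : Fin 4) 1 * Equiv.swap 2 3)⁻¹) (Equiv.swap 1 2) := by
        show _ * _ = _ * _
        decide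
      have := key.map φ
      simp only [map_mul, map_inv, h01, h12, h23] at this
      exact this
    have hv'u : Commute v' (t * d' * t⁻¹) := (h'.2 _ hu).mpr hud'.symm
    have hu'd' : Commute (t * v' * t⁻¹) d' := (hτ.2 d' hd').mpr hud'
    have hu'v' : Commute (t * v' * t⁻¹) v' := (hτ.2 v' h'.1).mpr hv'u.symm
    have huu' : Commute (t * d' * t⁻¹) (t * v' * t⁻¹) := tau_commute hu hτ
    have hu2 := sq_of_mem hD hu
    have hu'2 := sq_of_mem hD hτ.1
    have e1 : (t * (d' * v')) ^ 2 = (t * d' * t⁻¹) * (t * v' * t⁻¹) * (d' * v') := by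
      rw [pow_two]
      nth_rewrite 2 [← hti]
      group
    have hcomm : Commute ((t * d' * t⁻¹) * (t * v' * t⁻¹)) (d' * v') :=
      Commute.mul_left (Commute.mul_right hud' hv'u.symm) (Commute.mul_right hu'd' hu'v')
    rw [show 4 = 2 * 2 from rfl, pow_mul, e1, hcomm.mul_pow, huu'.mul_pow, pow_two, pow_two, pow_two, hu2, hu'2,
      ht'2, mul_one, mul_one]

/-- `τ`-equivalent members differ by an element of `O_2(G)`. -/
theorem tau_mul_mem_pCore [Finite G] {D : Set G} (hD : IsThreeTranspositionSet D)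
    (hconj : ∀ g : G, ∀ d ∈ D, g * d * g⁻¹ ∈ D) {d v : G} (hd : d ∈ D) (h : Tau D d v) (hne : d ≠ v) :
    d * v ∈ pCore 2 G := by
  have hdv : Commute d v := tau_commute hd h
  have hd2 := sq_of_mem hD hd
  have hv2 := sq_of_mem hD h.1
  have ht2 : (d * v) * (d * v) = 1 := by
    rw [← pow_two, hdv.mul_pow, pow_two, pow_two, hd2, hv2, mul_one]
  have hpair : ∀ g : G, IsPGroup 2 ↥(Subgroup.zpowers (d * v) ⊔ conjBy (Subgroup.zpowers (d * v)) g) := by
    intro g
    have hτ := tau_conj hconj h g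
    have hd' : g * d * g⁻¹ ∈ D := hconj g d hd
    have h4 := tau_key hD hconj hd hd' h hτ hne
    have hd'v' := tau_commute hd' hτ
    have ht'2 : (g * d * g⁻¹ * (g * v * g⁻¹)) * (g * d * g⁻¹ * (g * v * g⁻¹)) = 1 := by
      rw [← pow_two, hd'v'.mul_pow, pow_two, pow_two, sq_of_mem hD hd', sq_of_mem hD hτ.1, mul_one]
    have hP := isPGroup_two_closure_pair ht2 ht'2 h4
    refine hP.to_le ?_
    have htmem : d * v ∈ Subgroup.closure
        ({d * v * (g * d * g⁻¹ * (g * v * g⁻¹)), d * v} : Set G) :=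
      Subgroup.subset_closure (by simp)
    have ht'mem : g * d * g⁻¹ * (g * v * g⁻¹) ∈ Subgroup.closure
        ({d * v * (g * d * g⁻¹ * (g * v * g⁻¹)), d * v} : Set G) := by
      have h1 : d * v * (g * d * g⁻¹ * (g * v * g⁻¹)) ∈ Subgroup.closure
          ({d * v * (g * d * g⁻¹ * (g * v * g⁻¹)), d * v} : Set G) := Subgroup.subset_closure (by simp)
      have := mul_mem (inv_mem htmem) h1
      rwa [inv_mul_cancel_left] at this
    apply sup_le
    · rw [Subgroup.zpowers_le]
      exact htmem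
    · rw [Subgroup.map_le_iff_le_comap, Subgroup.zpowers_le, Subgroup.mem_comap]
      have e : (MulAut.conj g).toMonoidHom (d * v) = g * d * g⁻¹ * (g * v * g⁻¹) := by
        simp [MulAut.conj_apply]
      rw [e]
      exact ht'mem
  have hX : IsPGroup 2 (Subgroup.zpowers (d * v)) := by
    refine (hpair 1).to_le le_sup_left
  obtain ⟨N, hN, hNp, hXN⟩ := Cfsg.Agent.Lib.Helper25.baer_suzuki (Subgroup.zpowers (d * v)) hX hpair
  exact le_pCore hN hNp (hXN (Subgroup.mem_zpowers _))

end Cfsg.Agent.Lib.Helper27.ThreeTrans
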