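import Mathlib
import Cfsg.Prelude.Def_GeometricClasses
import Cfsg.Agent.Lib.Helper11.MonoDefs
import Cfsg.Agent.Lib.Helper11.MonoBasic

/-!
S5634, case m = 1 (helper11's market), leaves MG3 + MG4 (helper27), core form with MB
(`hasTransv_of_row`) as an explicit hypothesis.

`g` fixes the line `<e_r>`: `g = (1 + e_r d) u` with `u` = `g` with row `r` cleaned.
-/

set_option autoImplicit false
set_option linter.unusedSectionVars false
set_option linter.unusedVariables false
set_option linter.unusedSimpArgs false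

namespace Cfsg.Agent.Lib.Helper27.MonoLeaf
open Matrix Cfsg.Agent.Lib.Helper11.Mono

variable {F : Type*} [Field F] {ι : Type} [Fintype ι] [DecidableEq ι]

/-- the matrix `1 + e_r e` -/
def EM (r : ι) (e : ι → F) : Matrix ι ι F := 1 + vecMulVec (Pi.single r (1 : F)) e

lemma EM_apply (r : ι) (e : ι → F) (k l : ι) :
    EM r e k l = (if k = l then 1 else 0) + (if k = r then e l else 0) := by
  unfold EM
  rw [Matrix.add_apply, Matrix.one_apply, vecMulVec_apply, Pi.single_apply]
  by_cases h : k = r <;> simp [h]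

lemma EM_zero (r : ι) : EM r (0 : ι → F) = 1 := by
  unfold EM
  rw [vecMulVec_zero, add_zero]

lemma EM_mul (r : ι) {e : ι → F} (he : e r = 0) (e' : ι → F) :
    EM r e * EM r e' = EM r (e + e') := by
  unfold EM
  rw [Matrix.add_mul, Matrix.mul_add, Matrix.mul_add, Matrix.one_mul, Matrix.one_mul,
    Matrix.mul_one, vecMulVec_mul_vecMulVec, dotProduct_single, he, zero_mul, zero_smul,
    vecMulVec_zero, add_zero, vecMulVec_add]
  abel

/-- `1 + e_r e` as an element of `GL`, for `e r = 0` -/
noncomputable def EG (r : ι) (e : ι → F) (he : e r = 0) : GL ι F :=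
  ⟨EM r e, EM r (-e),
    by rw [EM_mul r he, add_neg_cancel, EM_zero],
    by rw [EM_mul r (by rw [Pi.neg_apply, he, neg_zero]), neg_add_cancel, EM_zero]⟩

lemma EG_val (r : ι) (e : ι → F) (he : e r = 0) :
    ((EG r e he : GL ι F) : Matrix ι ι F) = EM r e := rfl

lemma EG_mul (r : ι) (e e' : ι → F) (he : e r = 0) (he' : e' r = 0) :
    EG r e he * EG r e' he' =
      EG r (e + e') (by rw [Pi.add_apply, he, he', add_zero]) := by
  apply Units.ext
  rw [Units.val_mul, EG_val, EG_val, EG_val, EM_mul r he]

lemma EG_inv (r : ι) (e : ι → F) (he : e r = 0) :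
    (EG r e he)⁻¹ = EG r (-e) (by rw [Pi.neg_apply, he, neg_zero]) := by
  apply inv_eq_of_mul_eq_one_right
  rw [EG_mul]
  apply Units.ext
  rw [EG_val, add_neg_cancel, EM_zero, Units.val_one]

lemma EG_eq_one_iff (r : ι) (e : ι → F) (he : e r = 0) : EG r e he = 1 ↔ e = 0 := by
  constructor
  · intro h
    funext l
    have h1 := congrArg (fun x : GL ι F => (x : Matrix ι ι F) r l) h
    simp only [EG_val, EM_apply, Units.val_one, Matrix.one_apply, if_true] at h1
    rw [Pi.zero_apply]
    by_cases hl : r = l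
    · rw [← hl]; exact he
    · rw [if_neg hl, zero_add] at h1
      exact h1
  · intro h
    subst h
    apply Units.ext
    rw [EG_val, EM_zero, Units.val_one]

lemma EG_mem_SL (r : ι) (e : ι → F) (he : e r = 0) :
    EG r e he ∈ Cfsg.Geo.specialLinear ι F := by
  rw [mem_specialLinear_iff, EG_val, EM, vecMulVec_eq Unit,
    det_one_add_replicateCol_mul_replicateRow, dotProduct_single, he, zero_mul, add_zero]

/-- conjugation of `1 + e_r e` by a diagonal matrix -/
lemma dg_EG (s : ι → Fˣ) (r : ι) (e : ι → F) (he : e r = 0) :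
    dg s * EG r e he * (dg s)⁻¹ =
      EG r (fun k => (s r : F) * e k * ((s k : F))⁻¹) (by simp only [he, mul_zero, zero_mul]) := by
  have key : dg s * EG r e he =
      EG r (fun k => (s r : F) * e k * ((s k : F))⁻¹) (by simp only [he, mul_zero, zero_mul]) *
        dg s := by
    apply Units.ext
    ext k l
    rw [Units.val_mul, Units.val_mul, dg_val, EG_val, EG_val, Matrix.diagonal_mul,
      Matrix.mul_diagonal, EM_apply, EM_apply]
    by_cases hkl : k = l
    · subst hkl
      by_cases hkr : k = r
      · subst hkr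
        simp only [if_true]
        field_simp
      · simp only [if_true, if_neg hkr, add_zero, mul_one, one_mul]
    · by_cases hkr : k = r
      · subst hkr
        simp only [if_neg hkl, if_true, zero_add]
        field_simp
      · simp only [if_neg hkl, if_neg hkr, add_zero, mul_zero, zero_mul]
  rw [key]
  group

/-! ### the decomposition -/

lemma colAt_inv_of_colAt (g : GL ι F) {r : ι} (hcol : ColAt (g : Matrix ι ι F) r r) :
    ColAt ((g⁻¹ : GL ι F) : Matrix ι ι F) r r := by
  have h1 := mulVec_single_of_colAt hcol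
  have hne := entry_ne_zero_of_colAt g hcol
  apply colAt_of_mulVec_single (c := ((g : Matrix ι ι F) r r)⁻¹)
  have h2 : ((g⁻¹ : GL ι F) : Matrix ι ι F) *ᵥ ((g : Matrix ι ι F) *ᵥ (Pi.single r (1 : F))) =
      Pi.single r (1 : F) := inv_mulVec_mulVec g _
  rw [h1, Matrix.mulVec_smul] at h2
  calc ((g⁻¹ : GL ι F) : Matrix ι ι F) *ᵥ (Pi.single r (1 : F))
      = ((g : Matrix ι ι F) r r)⁻¹ • ((g : Matrix ι ι F) r r •
          (((g⁻¹ : GL ι F) : Matrix ι ι F) *ᵥ (Pi.single r (1 : F)))) := by
        rw [smul_smul, inv_mul_cancel₀ hne, one_smul]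
    _ = _ := by rw [h2]

/-- the row vector `c`: row `r` of `g` with the entry at `r` removed -/
def rowc (g : Matrix ι ι F) (r : ι) : ι → F := fun l => if l = r then 0 else g r l

/-- the row vector `d = c g⁻¹` -/
noncomputable def rowd (g : GL ι F) (r : ι) : ι → F :=
  rowc (g : Matrix ι ι F) r ᵥ* ((g⁻¹ : GL ι F) : Matrix ι ι F)

lemma rowd_self (g : GL ι F) {r : ι} (hcol : ColAt (g : Matrix ι ι F) r r) : rowd g r r = 0 := by
  unfold rowd
  rw [Matrix.vecMul, dotProduct]
  apply Finset.sum_eq_zero
  intro k _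
  by_cases hk : k = r
  · rw [rowc, if_pos hk, zero_mul]
  · rw [colAt_inv_of_colAt g hcol k hk, mul_zero]

lemma rowd_vecMul (g : GL ι F) (r : ι) :
    rowd g r ᵥ* (g : Matrix ι ι F) = rowc (g : Matrix ι ι F) r := by
  unfold rowd
  rw [Matrix.vecMul_vecMul, ← Units.val_mul, inv_mul_cancel, Units.val_one, Matrix.vecMul_one]

/-- `u`: the matrix `g` with row `r` cleaned -/
noncomputable def cleaned (g : GL ι F) {r : ι} (hcol : ColAt (g : Matrix ι ι F) r r) : GL ι F :=
  (EG r (rowd g r) (rowd_self g hcol))⁻¹ * g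

lemma eq_EG_mul_cleaned (g : GL ι F) {r : ι} (hcol : ColAt (g : Matrix ι ι F) r r) :
    g = EG r (rowd g r) (rowd_self g hcol) * cleaned g hcol := by
  unfold cleaned
  group

lemma cleaned_apply (g : GL ι F) {r : ι} (hcol : ColAt (g : Matrix ι ι F) r r) (k l : ι) :
    ((cleaned g hcol : GL ι F) : Matrix ι ι F) k l =
      if k = r then (if l = r then (g : Matrix ι ι F) r r else 0) else (g : Matrix ι ι F) k l := by
  unfold cleaned
  rw [EG_inv, Units.val_mul, EG_val, EM, Matrix.add_mul, Matrix.one_mul, vecMulVec_mul,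
    Matrix.neg_vecMul, rowd_vecMul, Matrix.add_apply, vecMulVec_apply, Pi.single_apply,
    Pi.neg_apply]
  by_cases hk : k = r
  · subst hk
    rw [if_pos rfl, if_pos rfl, one_mul, rowc]
    by_cases hl : l = k
    · rw [if_pos hl, if_pos hl, neg_zero, add_zero, hl]
    · rw [if_neg hl, if_neg hl, add_neg_cancel]
  · rw [if_neg hk, if_neg hk, zero_mul, add_zero]

lemma cleaned_mem_SL (g : GL ι F) {r : ι} (hcol : ColAt (g : Matrix ι ι F) r r)
    (hg : g ∈ Cfsg.Geo.specialLinear ι F) : cleaned g hcol ∈ Cfsg.Geo.specialLinear ι F := by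
  unfold cleaned
  exact (Cfsg.Geo.specialLinear ι F).mul_mem
    ((Cfsg.Geo.specialLinear ι F).inv_mem (EG_mem_SL _ _ _)) hg

/-! ### MG4 -/

/-- MG4 with MB as a hypothesis -/
theorem isMono_or_hasTransv_of_block_mono_of
    (M : Subgroup (GL ι F))
    (hMB : ∀ (y : GL ι F), y ∈ M → ∀ r : ι,
      (∀ i j, i ≠ r → (y : Matrix ι ι F) i j = if i = j then 1 else 0) →
      (y : Matrix ι ι F) r r = 1 → y ≠ 1 → HasTransv M)
    (hMS : M ≤ Cfsg.Geo.specialLinear ι F) (hH : ContainsH M)
    (r : ι) (g : GL ι F) (hg : g ∈ M) (hcol : ColAt (g : Matrix ι ι F) r r)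
    (hblk : IsMono ((g : Matrix ι ι F).submatrix (Subtype.val : {k : ι // k ≠ r} → ι) Subtype.val)) :
    IsMono (g : Matrix ι ι F) ∨ HasTransv M := by
  have hdec := eq_EG_mul_cleaned g hcol
  have huMono : IsMono ((cleaned g hcol : GL ι F) : Matrix ι ι F) := by
    intro j
    by_cases hj : j = r
    · refine ⟨r, fun k hk => ?_⟩
      rw [cleaned_apply, if_neg hk, hj]
      exact hcol k hk
    · obtain ⟨i', hi'⟩ := hblk ⟨j, hj⟩
      refine ⟨i'.val, fun k hk => ?_⟩
      rw [cleaned_apply]
      by_cases hkr : k = r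
      · rw [if_pos hkr, if_neg hj]
      · rw [if_neg hkr]
        have h1 := hi' ⟨k, hkr⟩ (fun h => hk (by rw [← h]))
        rwa [Matrix.submatrix_apply] at h1
  have huM : cleaned g hcol ∈ M := hH _ huMono (cleaned_mem_SL g hcol (hMS hg))
  have hYM : EG r (rowd g r) (rowd_self g hcol) ∈ M := by
    have h1 : EG r (rowd g r) (rowd_self g hcol) = g * (cleaned g hcol)⁻¹ := by
      unfold cleaned; group
    rw [h1]
    exact M.mul_mem hg (M.inv_mem huM)
  by_cases hd0 : rowd g r = 0
  · left
    have h1 : g = cleaned g hcol := by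
      have h2 := (EG_eq_one_iff r (rowd g r) (rowd_self g hcol)).mpr hd0
      rw [h2, one_mul] at hdec
      exact hdec
    rw [h1]
    exact huMono
  · right
    refine hMB _ hYM r ?_ ?_ ?_
    · intro i j hi
      rw [EG_val, EM_apply, if_neg hi, add_zero]
    · rw [EG_val, EM_apply, if_pos rfl, if_pos rfl, rowd_self g hcol, add_zero]
    · intro h1
      exact hd0 ((EG_eq_one_iff r _ _).mp h1)

/-! ### MG3 -/

/-- the function with value `a` at `k` and `1` elsewhere -/
def pt (k : ι) (a : Fˣ) : ι → Fˣ := fun x => if x = k then a else 1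

lemma pt_self (k : ι) (a : Fˣ) : pt k a k = a := if_pos rfl

lemma pt_ne {k x : ι} (h : x ≠ k) (a : Fˣ) : pt k a x = 1 := if_neg h

lemma prod_pt (k : ι) (a : Fˣ) : ∏ x, pt k a x = a := by
  unfold pt
  rw [Finset.prod_ite_eq' Finset.univ k (fun _ => a), if_pos (Finset.mem_univ k)]

lemma exists_unit_ne_one [Fintype F] (hq : 3 ≤ Fintype.card F) : ∃ a : Fˣ, a ≠ 1 := by
  classical
  by_contra hcon
  push Not at hcon
  have h1 : ∀ x : F, x = 0 ∨ x = 1 := by
    intro x
    by_cases hx : x = 0
    · exact Or.inl hx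
    · right
      have := hcon (Units.mk0 x hx)
      have h2 := congrArg Units.val this
      simpa using h2
  have h2 : (Finset.univ : Finset F) ⊆ {0, 1} := by
    intro x _
    rcases h1 x with h | h <;> simp [h]
  have h3 := Finset.card_le_card h2
  have h4 : ({0, 1} : Finset F).card ≤ 2 := Finset.card_le_two
  rw [Finset.card_univ] at h3
  omega

lemma exists_notMem_four (h5 : 5 ≤ Fintype.card ι) (a b c d : ι) :
    ∃ x : ι, x ≠ a ∧ x ≠ b ∧ x ≠ c ∧ x ≠ d := by
  classical
  by_contra hcon
  push Not at hcon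
  have h2 : (Finset.univ : Finset ι) ⊆ {a, b, c, d} := by
    intro x _
    by_cases h1 : x = a
    · simp [h1]
    by_cases h2 : x = b
    · simp [h2]
    by_cases h3 : x = c
    · simp [h3]
    have := hcon x h1 h2 h3
    simp [this]
  have h3 := Finset.card_le_card h2
  have h4 : ({a, b, c, d} : Finset ι).card ≤ 4 := Finset.card_le_four
  rw [Finset.card_univ] at h3
  omega

/-- MG3 with MB as a hypothesis -/
theorem hasTransv_of_block_transv_of [Fintype F] (h5 : 5 ≤ Fintype.card ι)
    (hq : 3 ≤ Fintype.card F) (M : Subgroup (GL ι F))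
    (hMB : ∀ (y : GL ι F), y ∈ M → ∀ r : ι,
      (∀ i j, i ≠ r → (y : Matrix ι ι F) i j = if i = j then 1 else 0) →
      (y : Matrix ι ι F) r r = 1 → y ≠ 1 → HasTransv M)
    (hMS : M ≤ Cfsg.Geo.specialLinear ι F) (hH : ContainsH M)
    (r : ι) (g : GL ι F) (hg : g ∈ M) (hcol : ColAt (g : Matrix ι ι F) r r)
    (i j : {k : ι // k ≠ r}) (hij : i ≠ j) (ξ : F) (hξ : ξ ≠ 0)
    (hblk : (g : Matrix ι ι F).submatrix Subtype.val Subtype.val = Matrix.transvection i j ξ) :
    HasTransv M := by
  classical
  have hijv : i.val ≠ j.val := fun h => hij (Subtype.ext h)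
  have hdec := eq_EG_mul_cleaned g hcol
  set d := rowd g r with hd_def
  have hdr : d r = 0 := rowd_self g hcol
  set u := cleaned g hcol with hu_def
  -- entries of g off row/column r
  have hgent : ∀ k l : ι, k ≠ r → l ≠ r → (g : Matrix ι ι F) k l =
      (if k = l then 1 else 0) + (if i.val = k ∧ j.val = l then ξ else 0) := by
    intro k l hk hl
    have h1 := congrFun (congrFun hblk ⟨k, hk⟩) ⟨l, hl⟩
    rw [Matrix.submatrix_apply] at h1
    rw [h1, Matrix.transvection, Matrix.add_apply, Matrix.one_apply, Matrix.single_apply]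
    congr 1
    · by_cases hkl : k = l
      · rw [if_pos hkl, if_pos (Subtype.ext hkl)]
      · rw [if_neg hkl, if_neg (fun h => hkl (congrArg Subtype.val h))]
    · by_cases h2 : i.val = k ∧ j.val = l
      · rw [if_pos h2, if_pos ⟨Subtype.ext h2.1, Subtype.ext h2.2⟩]
      · rw [if_neg h2, if_neg (fun h => h2 ⟨congrArg Subtype.val h.1, congrArg Subtype.val h.2⟩)]
  -- the commutator with a torus element commuting with u
  have hcomm : ∀ s : ι → Fˣ, ∏ x, s x = 1 → s i.val = s j.val →
      EG r (fun k => (s r : F) * d k * ((s k : F))⁻¹ + -d k)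
        (by simp only [hdr, mul_zero, zero_mul, neg_zero, add_zero]) ∈ M := by
    intro s hs hsij
    have hSM : dg s ∈ M := dg_mem_of_containsH hH hs
    have hSu : dg s * u = u * dg s := by
      apply Units.ext
      ext k l
      rw [Units.val_mul, Units.val_mul, dg_val, Matrix.diagonal_mul, Matrix.mul_diagonal,
        hu_def, cleaned_apply]
      by_cases hk : k = r
      · by_cases hl : l = r
        · rw [if_pos hk, if_pos hl, hk, hl, mul_comm]
        · rw [if_pos hk, if_neg hl, mul_zero, zero_mul]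
      · rw [if_neg hk]
        by_cases hl : l = r
        · rw [hl, hcol k hk, mul_zero, zero_mul]
        · rw [hgent k l hk hl]
          by_cases hkl : k = l
          · subst hkl
            rw [mul_comm]
          · rw [if_neg hkl, zero_add]
            by_cases h2 : i.val = k ∧ j.val = l
            · rw [if_pos h2, ← h2.1, ← h2.2, hsij, mul_comm]
            · rw [if_neg h2, mul_zero, zero_mul]
    have h1 : dg s * g * (dg s)⁻¹ * g⁻¹ ∈ M :=
      M.mul_mem (M.mul_mem (M.mul_mem hSM hg) (M.inv_mem hSM)) (M.inv_mem hg)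
    have h2 : dg s * g * (dg s)⁻¹ * g⁻¹ =
        EG r (fun k => (s r : F) * d k * ((s k : F))⁻¹ + -d k)
          (by simp only [hdr, mul_zero, zero_mul, neg_zero, add_zero]) := by
      have hdec' : g = EG r d hdr * u := hdec
      have e1 : dg s * g * (dg s)⁻¹ * g⁻¹ =
          (dg s * EG r d hdr * (dg s)⁻¹) * (dg s * u * (dg s)⁻¹ * u⁻¹) * (EG r d hdr)⁻¹ := by
        calc dg s * g * (dg s)⁻¹ * g⁻¹
            = dg s * (EG r d hdr * u) * (dg s)⁻¹ * (EG r d hdr * u)⁻¹ := by rw [← hdec']
          _ = _ := by group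
      have e2 : dg s * u * (dg s)⁻¹ * u⁻¹ = 1 := by rw [hSu]; group
      rw [e1, e2, mul_one, dg_EG, EG_inv, EG_mul]
      rfl
    rw [← h2]
    exact h1
  -- either some commutator is non-trivial (MB), or d = 0
  by_cases hall : ∀ s : ι → Fˣ, ∏ x, s x = 1 → s i.val = s j.val →
      ∀ k, (s r : F) * d k * ((s k : F))⁻¹ = d k
  · -- d = 0
    obtain ⟨a, ha⟩ := exists_unit_ne_one hq
    have hane : ((a : F))⁻¹ ≠ 1 := by
      intro h
      apply ha
      apply Units.ext
      rw [Units.val_one]
      exact inv_eq_one.mp h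
    have hir : i.val ≠ r := i.2
    have hjr : j.val ≠ r := j.2
    have hd0 : d = 0 := by
      funext k
      rw [Pi.zero_apply]
      by_cases hkr : k = r
      · rw [hkr]; exact hdr
      by_cases hki : k = i.val
      · -- s = a at i, a at j, a⁻² at k'
        obtain ⟨k', hk'1, hk'2, hk'3, -⟩ := exists_notMem_four h5 r i.val j.val r
        have hs : ∏ x, (pt i.val a * pt j.val a * pt k' (a⁻¹ * a⁻¹)) x = 1 := by
          simp only [Pi.mul_apply]
          rw [Finset.prod_mul_distrib, Finset.prod_mul_distrib, prod_pt, prod_pt, prod_pt]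
          group
        have h1 := hall _ hs (by
          simp only [Pi.mul_apply]
          rw [pt_self, pt_ne hijv, pt_ne hk'2.symm, pt_ne hijv.symm, pt_self, pt_ne hk'3.symm]
          simp only [mul_one, one_mul])
          k
        simp only [Pi.mul_apply] at h1
        rw [pt_ne (Ne.symm hir), pt_ne (Ne.symm hjr), pt_ne (Ne.symm hk'1), hki, pt_self,
          pt_ne hijv, pt_ne (Ne.symm hk'2)] at h1
        simp only [mul_one, one_mul, Units.val_one] at h1
        have h2 : d i.val * (((a : F))⁻¹ - 1) = 0 := by rw [mul_sub, mul_one, h1, sub_self]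
        rcases mul_eq_zero.mp h2 with h3 | h3
        · rw [hki]; exact h3
        · exact absurd (sub_eq_zero.mp h3) hane
      by_cases hkj : k = j.val
      · obtain ⟨k', hk'1, hk'2, hk'3, -⟩ := exists_notMem_four h5 r i.val j.val r
        have hs : ∏ x, (pt i.val a * pt j.val a * pt k' (a⁻¹ * a⁻¹)) x = 1 := by
          simp only [Pi.mul_apply]
          rw [Finset.prod_mul_distrib, Finset.prod_mul_distrib, prod_pt, prod_pt, prod_pt]
          group
        have h1 := hall _ hs (by
          simp only [Pi.mul_apply]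
          rw [pt_self, pt_ne hijv, pt_ne hk'2.symm, pt_ne hijv.symm, pt_self, pt_ne hk'3.symm]
          simp only [mul_one, one_mul])
          k
        simp only [Pi.mul_apply] at h1
        rw [pt_ne (Ne.symm hir), pt_ne (Ne.symm hjr), pt_ne (Ne.symm hk'1), hkj, pt_self,
          pt_ne hijv.symm, pt_ne (Ne.symm hk'3)] at h1
        simp only [mul_one, one_mul, Units.val_one] at h1
        have h2 : d j.val * (((a : F))⁻¹ - 1) = 0 := by rw [mul_sub, mul_one, h1, sub_self]
        rcases mul_eq_zero.mp h2 with h3 | h3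
        · rw [hkj]; exact h3
        · exact absurd (sub_eq_zero.mp h3) hane
      · -- k ∉ {r, i, j}
        obtain ⟨k', hk'1, hk'2, hk'3, hk'4⟩ := exists_notMem_four h5 r i.val j.val k
        have hs : ∏ x, (pt k a * pt k' a⁻¹) x = 1 := by
          simp only [Pi.mul_apply]
          rw [Finset.prod_mul_distrib, prod_pt, prod_pt]
          group
        have h1 := hall _ hs (by
          simp only [Pi.mul_apply]
          rw [pt_ne (Ne.symm hki), pt_ne hk'2.symm, pt_ne (Ne.symm hkj), pt_ne hk'3.symm]) k
        simp only [Pi.mul_apply] at h1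
        rw [pt_ne (Ne.symm hkr), pt_ne (Ne.symm hk'1), pt_self, pt_ne (Ne.symm hk'4)] at h1
        simp only [mul_one, one_mul, Units.val_one] at h1
        have h2 : d k * (((a : F))⁻¹ - 1) = 0 := by rw [mul_sub, mul_one, h1, sub_self]
        rcases mul_eq_zero.mp h2 with h3 | h3
        · exact h3
        · exact absurd (sub_eq_zero.mp h3) hane
    -- g = u
    have hgu : g = u := by
      have h2 := (EG_eq_one_iff r d hdr).mpr hd0
      rw [h2, one_mul] at hdec
      exact hdec
    -- u = T * D
    have hTD : (u : Matrix ι ι F) = Matrix.transvection i.val j.val ξ *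
        Matrix.diagonal (fun k => if k = r then (g : Matrix ι ι F) r r else 1) := by
      ext k l
      rw [Matrix.mul_diagonal, hu_def, cleaned_apply, Matrix.transvection, Matrix.add_apply,
        Matrix.one_apply, Matrix.single_apply]
      by_cases hk : k = r
      · rw [if_pos hk]
        have hik : ¬ (i.val = k ∧ j.val = l) := fun h => hir (h.1.trans hk)
        rw [if_neg hik, add_zero]
        by_cases hl : l = r
        · rw [if_pos hl, if_pos hl, if_pos (hk.trans hl.symm), one_mul]
        · rw [if_neg hl, if_neg hl, mul_one, if_neg (fun h => hl (h.symm.trans hk))]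
      · rw [if_neg hk]
        by_cases hl : l = r
        · rw [if_pos hl, hl, hcol k hk, if_neg hk]
          have hik : ¬ (i.val = k ∧ j.val = r) := fun h => hjr h.2
          rw [if_neg hik, add_zero, zero_mul]
        · rw [if_neg hl, mul_one, hgent k l hk hl]
    have hdet : (g : Matrix ι ι F) r r = 1 := by
      have h1 : (u : Matrix ι ι F).det = 1 := by
        rw [← hgu]
        exact (mem_specialLinear_iff g).mp (hMS hg)
      rw [hTD, Matrix.det_mul, Matrix.det_transvection_of_ne _ _ hijv, one_mul,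
        Matrix.det_diagonal, Finset.prod_ite_eq' Finset.univ r, if_pos (Finset.mem_univ r)] at h1
      exact h1
    refine ⟨i.val, j.val, hijv, ξ, hξ, g, hg, ?_⟩
    have h3 : (fun k : ι => if k = r then (g : Matrix ι ι F) r r else (1 : F)) = fun _ => 1 := by
      funext k
      by_cases hk : k = r
      · rw [if_pos hk, hdet]
      · rw [if_neg hk]
    rw [hgu, hTD, h3, Matrix.diagonal_one, Matrix.mul_one]
  · push Not at hall
    obtain ⟨s, hs, hsij, k, hk⟩ := hall
    refine hMB _ (hcomm s hs hsij) r ?_ ?_ ?_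
    · intro a b ha
      rw [EG_val, EM_apply, if_neg ha, add_zero]
    · rw [EG_val, EM_apply, if_pos rfl, if_pos rfl]
      simp only [hdr, mul_zero, zero_mul, neg_zero, add_zero]
    · intro h1
      have h2 := (EG_eq_one_iff r _ _).mp h1
      have h3 := congrFun h2 k
      simp only [Pi.zero_apply] at h3
      apply hk
      exact add_neg_eq_zero.mp h3

end Cfsg.Agent.Lib.Helper27.MonoLeaf
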