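import Cfsg.Agent.Lib.Helper18.OddAut
import Cfsg.Agent.Lib.Helper18.QDSubgroups
import Cfsg.Agent.Lib.Helper23.QuatOdd

/-!
`Aut(S)` is a `2`-group for `S` dihedral of order `≥ 8`, quasi-dihedral, or generalized quaternion
of order `≥ 16`.
-/

set_option autoImplicit false

namespace Cfsg.Agent.Lib.Helper27.MetaSS

open Cfsg Cfsg.Agent.Lib.Helper18

theorem isPGroup_mulAut_quaternion {k : ℕ} (hk : 2 ≤ k) :
    IsPGroup 2 (MulAut (QuaternionGroup (2 ^ k))) := by
  have : NeZero (2 ^ k) := ⟨by positivity⟩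
  exact isPGroup_two_mulAut_of_odd_trivial
    (fun φ m hm hφ => Cfsg.Agent.Lib.Helper23.QuatOdd.mulAut_eq_one_of_odd hk φ m hm hφ)

theorem isPGroup_mulAut_dihedral {k : ℕ} (hk : 2 ≤ k) :
    IsPGroup 2 (MulAut (DihedralGroup (2 ^ k))) := by
  have : NeZero (2 ^ k) := ⟨by positivity⟩
  apply isPGroup_two_mulAut_of_odd_trivial
  intro φ m hm hφ
  have h4 : 4 ≤ 2 ^ k := by
    calc 4 = 2 ^ 2 := by norm_num
      _ ≤ 2 ^ k := Nat.pow_le_pow_right (by norm_num) hk
  apply aut_eq_one_of_odd (DihedralGroup.r 1) (DihedralGroup.sr 0) k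
    (DihedralGroup.orderOf_r_one) _ _ _ φ m hm hφ
  · intro hmem
    obtain ⟨j, hj⟩ := Subgroup.mem_zpowers_iff.mp hmem
    rw [DihedralGroup.r_one_zpow] at hj
    exact absurd hj (by simp)
  · intro x
    rcases x with i | i
    · left
      have : DihedralGroup.r i = DihedralGroup.r 1 ^ (i.val) := by
        rw [DihedralGroup.r_one_pow]; simp
      rw [this]
      exact Subgroup.npow_mem_zpowers _ _
    · right
      refine ⟨(i.val : ℤ), ?_⟩
      rw [DihedralGroup.r_one_zpow, DihedralGroup.sr_mul_r]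
      simp
  · intro x hx
    rcases x with i | i
    · exfalso
      apply hx
      have : DihedralGroup.r i = DihedralGroup.r 1 ^ (i.val) := by
        rw [DihedralGroup.r_one_pow]; simp
      rw [this]
      exact Subgroup.npow_mem_zpowers _ _
    · rw [DihedralGroup.orderOf_sr]
      omega

theorem isPGroup_mulAut_of_isQuasiDihedral {S : Type*} [Group S] (hS : Cfsg.IsQuasiDihedral S) :
    IsPGroup 2 (MulAut S) := by
  obtain ⟨m, x, y, h⟩ := exists_isQD hS
  have := h.finite
  apply isPGroup_two_mulAut_of_odd_trivial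
  intro φ n hn hφ
  apply aut_eq_one_of_odd x y (m + 3) h.hx h.y_not_mem _ _ φ n hn hφ
  · intro g
    obtain ⟨i, rfl | rfl⟩ := h.cover g
    · left; exact Subgroup.npow_mem_zpowers _ _
    · right
      -- x^i * y = y * x^j
      refine ⟨(((2 ^ (m + 2) - 1) * i : ℕ) : ℤ), ?_⟩
      rw [zpow_natCast, pow_mul, ← h.rel, conj_pow, h.y_inv]
      have h1 : y * (y * x ^ i * y) = (y * y) * x ^ i * y := by group
      rw [h1, h.y_mul_self, one_mul]
  · intro g hg
    have h8 : 8 ≤ 2 ^ (m + 3) := by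
      calc 8 = 2 ^ 3 := by norm_num
        _ ≤ 2 ^ (m + 3) := Nat.pow_le_pow_right (by norm_num) (by omega)
    rcases h.order_cases_of_not_mem g hg with e | e <;> rw [e] <;> omega

end Cfsg.Agent.Lib.Helper27.MetaSS
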