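import Cfsg.Agent.Lib.Helper27.FMEmbed2

/-!
helper27: a subgroup `U ≥ Q` that is centric in `N_F(Q)` (`Q` fully normalized, `F` saturated) is centric in `F`.
-/

set_option autoImplicit false
set_option linter.unusedSectionVars false
set_option linter.unusedVariables false

namespace Cfsg.Agent.Lib.Helper27.FM

open Cfsg Cfsg.FusionSystem Cfsg.Agent.Lib.Helper26

universe u

variable {Ω : Type u} [Group Ω] {S : Subgroup Ω}

theorem isCentric_of_isCentric_normalizer [Finite S] {p : ℕ} [Fact p.Prime] (hS : IsPGroup p S)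
    (F : FusionSystem S) (hF : F.IsSaturated p) {Q U : Subgroup Ω} (hQ : F.IsFullyNormalized Q)
    (N : FusionSystem (normalizerIn S Q)) (hN : F.IsNormalizerSystem Q N) (hQU : Q ≤ U)
    (hU : N.IsCentric U) : F.IsCentric U := by
  have hQS : Q ≤ S := hQ.1
  have hTS : normalizerIn S Q ≤ S := normalizerIn_le S Q
  have hUT : U ≤ normalizerIn S Q := hU.1
  have hUS : U ≤ S := hUT.trans hTS
  refine ⟨hUS, fun U' hconj => ?_⟩
  obtain ⟨ψ, hψ, hψU⟩ := (isConj_iff_isFM F).mp hconj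
  obtain ⟨Q', hQ'⟩ := hψ.exists_image_of_le hQU
  have hQ'U' : Q' ≤ U' := hQ'.le_of_forall (fun x hx => hψU.mem (hQU hx))
  have hU'S : U' ≤ S := hψ.isImage_le hψU
  have hQ'S : Q' ≤ S := hQ'U'.trans hU'S
  -- `Q'` is conjugate to `Q`
  have hconjQ : F.IsConj Q' Q := by
    apply isConj_symm
    exact (isConj_iff_isFM F).mpr ⟨ψ, hψ.mono hQU, hQ'⟩
  have hFA := (saturated_fn hS F hF hQ).2
  have hRec := saturated_fn_receptive hS F hF hQ
  obtain ⟨φ, hφ, hval, hmap⟩ := exists_normalizer_hom hS F hFA hRec hconjQ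
  have hQ'N : Q' ≤ normalizerIn S Q' := le_normalizerIn hQ'S
  have hβ : IsFM F (normalizerIn S Q') (ofHom φ) := isFM_ofHom hφ
  have hβQ : IsImage Q' (ofHom φ) Q := isImage_of_map_eq φ hQ'N hmap
  have hβT : ∀ x ∈ normalizerIn S Q', ofHom φ x ∈ normalizerIn S Q := fun x hx => by
    rw [ofHom_apply' φ hx]; exact hval _
  -- `U'` normalizes `Q'`
  have hU'N : U' ≤ normalizerIn S Q' := by
    intro y hy
    refine ⟨hU'S hy, ?_⟩
    obtain ⟨u, hu, rfl⟩ := (hψU y).mp hy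
    haveI : Finite ↥Q' := finite_of_le hQ'S
    apply mem_normalizer_of_conj_mem_finite
    intro z hz
    obtain ⟨q, hq, rfl⟩ := (hQ' z).mp hz
    have huN : u ∈ Subgroup.normalizer (Q : Set Ω) := (hUT hu).2
    have hc : u * q * u⁻¹ ∈ Q := (Subgroup.mem_normalizer_iff.mp huN q).mp hq
    rw [← hψ.map_inv hu, ← hψ.map_mul hu (hQU hq), ← hψ.map_mul (U.mul_mem hu (hQU hq)) (U.inv_mem hu)]
    exact hQ'.mem hc
  -- the composite `β ∘ ψ` is a map of `N`
  obtain ⟨U'', hU''⟩ := hβ.exists_image_of_le hU'N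
  have hcomp : IsFM F U (fun x => ofHom φ (ψ x)) := hψ.comp (hβ.mono hU'N) (fun x hx => hψU.mem hx)
  have hcompU : IsImage U (fun x => ofHom φ (ψ x)) U'' := by
    intro y
    rw [hU'' y]
    constructor
    · rintro ⟨z, hz, rfl⟩
      obtain ⟨u, hu, rfl⟩ := (hψU z).mp hz
      exact ⟨u, hu, rfl⟩
    · rintro ⟨u, hu, rfl⟩
      exact ⟨ψ u, hψU.mem hu, rfl⟩
  have hcompN : IsFM N U (fun x => ofHom φ (ψ x)) := by
    rw [isFM_normalizer_iff F hQS N hN]
    refine ⟨hUT, fun x hx => hβT _ (hU'N (hψU.mem hx)), _, hcomp.of_eq (sup_eq_left.mpr hQU),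
      fun _ _ => rfl, fun x hx => ?_⟩
    exact hβQ.mem (hQ'.mem hx)
  have hNconj : N.IsConj U U'' := (isConj_iff_isFM N).mpr ⟨_, hcompN, hcompU⟩
  have hcen := hU.2 U'' hNconj
  -- now the centralizer
  intro c hc
  obtain ⟨hcS, hcc⟩ := mem_centralizerIn_iff.mp hc
  have hcN : c ∈ normalizerIn S Q' := by
    refine ⟨hcS, ?_⟩
    haveI : Finite ↥Q' := finite_of_le hQ'S
    apply mem_normalizer_of_conj_mem_finite
    intro z hz
    have : c * z = z * c := (hcc z (hQ'U' hz)).symm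
    rw [this, mul_assoc, mul_inv_cancel, mul_one]
    exact hz
  have hβc : ofHom φ c ∈ centralizerIn (normalizerIn S Q) U'' := by
    rw [mem_centralizerIn_iff]
    refine ⟨hβT c hcN, fun y hy => ?_⟩
    obtain ⟨u', hu', rfl⟩ := (hU'' y).mp hy
    rw [← hβ.map_mul hcN (hU'N hu'), ← hβ.map_mul (hU'N hu') hcN, hcc u' hu']
  obtain ⟨u', hu', he⟩ := (hU'' _).mp (hcen hβc)
  have := hβ.injOn (hU'N hu') hcN he
  rw [← this]
  exact hu'

end Cfsg.Agent.Lib.Helper27.FM
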