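import Cfsg.Agent.Lib.Helper27.KL17

/-!
helper27: control of weak closure of elements by a positive characteristic `p`-functor in saturated fusion systems
(Díaz–Glesser–Mazza–Park): `Z(N_F(W(S))) = Z(F)`.
-/

set_option autoImplicit false
set_option linter.unusedSectionVars false
set_option linter.unusedVariables false

namespace Cfsg.Agent.Lib.Helper27.KL

open Cfsg Cfsg.FusionSystem Cfsg.Agent.Lib.Helper26 Cfsg.Agent.Lib.Helper27.FM
  Cfsg.Agent.Lib.Helper26.ModelThm Cfsg.Agent.Lib.Helper27.ModelRad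

universe u

variable {Ω : Type u} [Group Ω] {S : Subgroup Ω} {p : ℕ} [Fact p.Prime]
  {W : ∀ (Q : Type u) [Group Q], Subgroup Q}

/-- The local condition for control of weak closure of elements. -/
def WeakClosureProp (p : ℕ) (W : ∀ (Q : Type u) [Group Q], Subgroup Q) : Prop :=
  ∀ (G : Type u) [Group G] [Finite G] (P : Sylow p G),
    Cfsg.pCore p G ⊓ Subgroup.center G = Cfsg.pCore p G ⊓
      (Subgroup.center ↥(Subgroup.normalizer
        (((W ↥(P : Subgroup G)).map (P : Subgroup G).subtype : Subgroup G) : Set G))).map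
        (Subgroup.normalizer (((W ↥(P : Subgroup G)).map (P : Subgroup G).subtype : Subgroup G) : Set G)).subtype

/-- In a constrained system the subgroups central in `S` lie in the normal centric subgroup, so their images
lie in `O_p` of the model. -/
theorem image_mem_pCore [Finite S] {F : FusionSystem S} {Q : Subgroup Ω} [Finite Q] (hs : Setup p F Q)
    {X : Subgroup Ω}
    (hXS : X ≤ S) (hXc : ∀ s ∈ S, ∀ q ∈ X, s * q * s⁻¹ = q) :
    ∀ q ∈ X, ext1 (mIota hs) q ∈ pCore p (Mdl hs) := by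
  intro q hq
  have hQS : Q ≤ S := hs.normal.1
  have hqQ : q ∈ Q := by
    apply hs.centric.2 Q (isConj_refl F hQS)
    rw [mem_centralizerIn_iff]
    refine ⟨hXS hq, fun y hy => ?_⟩
    have := hXc y (hQS hy) q hq
    calc y * q = y * q * y⁻¹ * y := by group
      _ = q * y := by rw [this]
  exact QG_le_pCore hs (ext1_mem_map (mIota hs) hqQ (hXS hq))

/-- The reduction data for control of weak closure of elements. -/
def centerData (hW : PosChar p W)
    (hWZ : ∀ (Q : Type u) [Group Q] [Finite Q], IsPGroup p Q → Subgroup.center Q ≤ W Q)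
    (hC : WeakClosureProp p W) (X : Subgroup Ω) : RTData p W X where
  Adm T := X ≤ T ∧ ∀ t ∈ T, ∀ q ∈ X, t * q * t⁻¹ = q
  le := fun h => h.1
  central := fun h => h.2
  sub := fun {T T'} h hle hz =>
    ⟨fun q hq => hz q (h.1 hq) (fun t ht => h.2 t ht q hq), fun t ht q hq => h.2 t (hle ht) q hq⟩
  model := by
    intro T _ hT E hE hQc hAdm hfix
    obtain ⟨hXT, hXc⟩ := hAdm
    have hQ : E.IsNormal E.core := core_isNormal E
    have hs : Setup p E E.core := ⟨hT, hE, hQ, hQc⟩
    haveI : Finite ↥E.core := finite_of_le hQ.1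
    haveI : Finite (Mdl hs) := finite_Mdl hs
    obtain ⟨-, hreal, ⟨TL, hTL⟩, -⟩ := isModel hs
    have hXW : X ≤ WS W T := fun q hq =>
      mem_WS_of_central hWZ hT (hXT hq) (fun t ht => hXc t ht q hq)
    have h1 := image_mem_center_normalizer hW hT hreal (TL : Subgroup (Mdl hs)) hTL hXW hfix
    have h2 := image_mem_pCore hs hXT hXc
    apply cenAll_of_central_image hreal hXT
    intro q hq
    have h3 : ext1 (mIota hs) q ∈ Cfsg.pCore p (Mdl hs) ⊓
        (Subgroup.center ↥(Subgroup.normalizer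
          (((W ↥(TL : Subgroup (Mdl hs))).map (TL : Subgroup (Mdl hs)).subtype : Subgroup (Mdl hs)) :
            Set (Mdl hs)))).map
          (Subgroup.normalizer (((W ↥(TL : Subgroup (Mdl hs))).map (TL : Subgroup (Mdl hs)).subtype :
            Subgroup (Mdl hs)) : Set (Mdl hs))).subtype := ⟨h2 q hq, h1 q hq⟩
    rw [← hC (Mdl hs) TL] at h3
    exact h3.2

/-- If the maps normalizing `W(S)` fix `X ≤ Z(S)` pointwise then `X` is central in `F`. -/
theorem isCentral_of_fixW (hW : PosChar p W)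
    (hWZ : ∀ (Q : Type u) [Group Q] [Finite Q], IsPGroup p Q → Subgroup.center Q ≤ W Q)
    (hC : WeakClosureProp p W) [Finite S] (hS : IsPGroup p S) (F : FusionSystem S) (hF : F.IsSaturated p)
    {X : Subgroup Ω} (hXS : X ≤ S) (hXc : ∀ s ∈ S, ∀ q ∈ X, s * q * s⁻¹ = q) (hfix : FixW W F X) :
    F.IsCentral X := by
  rw [isCentral_iff_forall_cm]
  exact ⟨hXS, rt_main hW hWZ (centerData hW hWZ hC X) _ _ S hS F hF ⟨hXS, hXc⟩ hfix rfl rfl⟩

/-- A subgroup central in a normalizer system of `W(S)` is central in `S` and fixed by the maps normalizing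
`W(S)`. -/
theorem fixW_of_isCentral_normalizer (hW : PosChar p W)
    (hWZ : ∀ (Q : Type u) [Group Q] [Finite Q], IsPGroup p Q → Subgroup.center Q ≤ W Q)
    [Finite S] (hS : IsPGroup p S) (F : FusionSystem S)
    (N : FusionSystem (normalizerIn S (WS W S))) (hN : F.IsNormalizerSystem (WS W S) N) {X : Subgroup Ω}
    (hX : N.IsCentral X) :
    X ≤ S ∧ (∀ s ∈ S, ∀ q ∈ X, s * q * s⁻¹ = q) ∧ FixW W F X := by
  have hWS : WS W S ≤ S := WS_le W S
  have hA : normalizerIn S (WS W S) = S := by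
    apply le_antisymm (normalizerIn_le S _)
    intro s hs
    haveI : Finite ↥(WS W S) := finite_of_le hWS
    exact ⟨hs, mem_normalizer_of_conj_mem_finite (fun u hu => hW.conj_mem hS (Subgroup.le_normalizer hs) hu)⟩
  obtain ⟨hXA, hcm⟩ := (isCentral_iff_forall_cm N).mp hX
  have hXS : X ≤ S := hXA.trans (normalizerIn_le S _)
  have hXc : ∀ s ∈ S, ∀ q ∈ X, s * q * s⁻¹ = q := by
    intro s hs q hq
    have hsA : s ∈ normalizerIn S (WS W S) := hA.symm ▸ hs
    have h1 := hcm X _ (isFM_conj N hXA hsA)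
    exact h1.apply_eq hq hq
  have hXW : X ≤ WS W S := fun q hq =>
    mem_WS_of_central hWZ hS (hXS hq) (fun t ht => hXc t ht q hq)
  refine ⟨hXS, hXc, ?_⟩
  intro R θ hθ hWR hθW q hq
  have hRS : R ≤ S := hθ.le
  have hθN : IsFM N R θ := by
    rw [isFM_normalizer_iff F hWS N hN]
    refine ⟨hA.symm ▸ hRS, fun x hx => hA.symm ▸ hθ.mem hx, θ, hθ.of_eq (sup_eq_left.mpr hWR),
      fun _ _ => rfl, hθW⟩
  exact (hcm R θ hθN).apply_eq hq (hWR (hXW hq))

/-- A subgroup central in `F` is central in every normalizer system. -/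
theorem isCentral_normalizer_of_isCentral [Finite S] (F : FusionSystem S) {U : Subgroup Ω} (hUS : U ≤ S)
    (N : FusionSystem (normalizerIn S U)) (hN : F.IsNormalizerSystem U N) {Z : Subgroup Ω}
    (hZ : F.IsCentral Z) (hZA : Z ≤ normalizerIn S U) : N.IsCentral Z := by
  obtain ⟨hZS, hcm⟩ := (isCentral_iff_forall_cm F).mp hZ
  rw [isCentral_iff_forall_cm]
  refine ⟨hZA, fun R θ hθ => ?_⟩
  obtain ⟨hRA, hθA, θ₁, hθ₁, hext, hθ₁U⟩ := (isFM_normalizer_iff F hUS N hN).mp hθ
  obtain ⟨θ₂, hθ₂, hext₂, hfix₂⟩ := hcm _ θ₁ hθ₁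
  have hle : (R ⊔ Z) ⊔ U ≤ (R ⊔ U) ⊔ Z := by
    apply sup_le (sup_le (le_sup_left.trans le_sup_left) le_sup_right) (le_sup_right.trans le_sup_left)
  have hθ₂A : ∀ x ∈ R ⊔ Z, θ₂ x ∈ normalizerIn S U :=
    hθ₂.map_sup_mem (le_sup_left.trans le_sup_left) le_sup_right
      (fun x hx => by rw [hext₂ x (le_sup_left (a := R) (b := U) hx), hext x hx]; exact hθA x hx)
      (fun x hx => by rw [hfix₂ x hx]; exact hZA hx)
  refine ⟨θ₂, ?_, fun x hx => ?_, hfix₂⟩
  · rw [isFM_normalizer_iff F hUS N hN]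
    refine ⟨sup_le hRA hZA, hθ₂A, θ₂, hθ₂.mono hle, fun _ _ => rfl, fun u hu => ?_⟩
    rw [hext₂ u (le_sup_right (a := R) (b := U) hu)]
    exact hθ₁U u hu
  · rw [hext₂ x (le_sup_left (a := R) (b := U) hx), hext x hx]

/-- **Control of weak closure of elements**: `Z(N_F(W(S))) = Z(F)`. -/
theorem center_normalizer_eq (hW : PosChar p W)
    (hWZ : ∀ (Q : Type u) [Group Q] [Finite Q], IsPGroup p Q → Subgroup.center Q ≤ W Q)
    (hC : WeakClosureProp p W) [Finite S] (hS : IsPGroup p S) (F : FusionSystem S) (hF : F.IsSaturated p)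
    (N : FusionSystem (normalizerIn S (WS W S))) (hN : F.IsNormalizerSystem (WS W S) N) :
    N.center = F.center := by
  have hWS : WS W S ≤ S := WS_le W S
  have hA : normalizerIn S (WS W S) = S := by
    apply le_antisymm (normalizerIn_le S _)
    intro s hs
    haveI : Finite ↥(WS W S) := finite_of_le hWS
    exact ⟨hs, mem_normalizer_of_conj_mem_finite (fun u hu => hW.conj_mem hS (Subgroup.le_normalizer hs) hu)⟩
  haveI : Finite ↥(normalizerIn S (WS W S)) := finite_of_le (normalizerIn_le S _)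
  apply le_antisymm
  · have hX := center_isCentral N
    obtain ⟨hXS, hXc, hfix⟩ := fixW_of_isCentral_normalizer hW hWZ hS F N hN hX
    exact le_sSup (isCentral_of_fixW hW hWZ hC hS F hF hXS hXc hfix)
  · have hZ := center_isCentral F
    have hZA : F.center ≤ normalizerIn S (WS W S) := hA.symm ▸ hZ.1
    exact le_sSup (isCentral_normalizer_of_isCentral F hWS N hN hZ hZA)

end Cfsg.Agent.Lib.Helper27.KL
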