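import Cfsg.Agent.Lib.Helper27.ModelRad
import Cfsg.Agent.Lib.Helper26.FSChain

/-!
helper27: a subgroup normal in the system is fully normalized, and a model of the system is a model of the
normalizer system of a normal subgroup.
-/

set_option autoImplicit false
set_option linter.unusedSectionVars false
set_option linter.unusedVariables false

namespace Cfsg.Agent.Lib.Helper27.ModelRad

open Cfsg Cfsg.FusionSystem Cfsg.Agent.Lib.Helper26

universe u v

variable {Ω : Type u} [Group Ω] {S : Subgroup Ω} {G : Type v} [Group G]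

theorem eq_of_isConj_of_stronglyClosed [Finite S] (F : FusionSystem S) {R R' : Subgroup Ω}
    (hR : F.StronglyClosed R) (h : F.IsConj R R') : R' = R := by
  obtain ⟨φ, hφ, hr⟩ := h
  have hle : R' ≤ R := by
    rw [← hr]
    rintro _ ⟨x, rfl⟩
    exact hR.2 R le_rfl φ hφ x
  haveI : Finite ↥R := finite_of_le hR.1
  have hcard : Nat.card ↥R' = Nat.card ↥R := by
    rw [← hr]
    exact (Nat.card_congr (Equiv.ofInjective φ (F.injective_of_mem hφ))).symm
  exact Subgroup.eq_of_le_of_card_ge hle hcard.ge

theorem isFullyNormalized_of_isNormal [Finite S] (F : FusionSystem S) {R : Subgroup Ω} (hR : F.IsNormal R) :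
    F.IsFullyNormalized R := by
  refine ⟨hR.1, fun R' h => ?_⟩
  rw [eq_of_isConj_of_stronglyClosed F (stronglyClosed_of_isNormal F hR) h]

theorem isModel_of_eq {T T' : Subgroup Ω} (hTT' : T' = T) (N : FusionSystem T) (N' : FusionSystem T')
    (hHom : ∀ P, N'.Hom P = N.Hom P) (p : ℕ) (ι : ↥T →* G) (hM : N.IsModel p G ι) :
    N'.IsModel p G (ι.comp (Subgroup.inclusion hTT'.le)) := by
  subst hTT'
  have : N' = N := fusionSystem_ext hHom
  subst this
  have h2 : ι.comp (Subgroup.inclusion (le_refl T')) = ι := by
    ext x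
    rfl
  rw [h2]
  exact hM

/-- A model of the system is a model of the normalizer system of a normal subgroup. -/
theorem isModel_normalizer_of_isNormal (F : FusionSystem S) {R : Subgroup Ω} (hR : F.IsNormal R)
    (N' : FusionSystem (normalizerIn S R)) (hN' : F.IsNormalizerSystem R N') (p : ℕ) (ι : ↥S →* G)
    (hM : F.IsModel p G ι) :
    N'.IsModel p G (ι.comp (Subgroup.inclusion (normalizerIn_le S R))) := by
  have hSN : S ≤ Subgroup.normalizer (R : Set Ω) :=
    le_normalizer_of_stronglyClosed F (stronglyClosed_of_isNormal F hR)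
  have hTT' : normalizerIn S R = S := normalizerIn_eq_of_le_normalizer hSN
  refine isModel_of_eq hTT' F N' (fun P => ?_) p ι hM
  rw [hN' P]
  ext φ
  constructor
  · intro h
    exact h.1
  · intro h
    have hPS : P ≤ S := hom_le F h
    refine ⟨h, hTT'.symm ▸ hPS, fun x => ?_, hR.2 P φ h⟩
    rw [hTT']
    exact hom_apply_mem F h x

end Cfsg.Agent.Lib.Helper27.ModelRad
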