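import Cfsg.Agent.Lib.Helper27.KL19

/-!
helper27: Glauberman's theorem on `p`-th powers of central elements for fusion systems
(Díaz–Glesser–Mazza–Park): `℧¹(Z(S)) ∩ Z(N_F(W(S))) ≤ Z(F)`.
-/

set_option autoImplicit false
set_option linter.unusedSectionVars false
set_option linter.unusedVariables false

namespace Cfsg.Agent.Lib.Helper27.KL

open Cfsg Cfsg.FusionSystem Cfsg.Agent.Lib.Helper26 Cfsg.Agent.Lib.Helper27.FM
  Cfsg.Agent.Lib.Helper26.ModelThm Cfsg.Agent.Lib.Helper27.ModelRad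

universe u

variable {Ω : Type u} [Group Ω] {S : Subgroup Ω} {p : ℕ} [Fact p.Prime]
  {W : ∀ (Q : Type u) [Group Q], Subgroup Q}

/-- The subgroup generated by the `p`-th powers of the elements of `Z(T)`. -/
def agemoCenter (p : ℕ) (T : Subgroup Ω) : Subgroup Ω :=
  Subgroup.closure ((fun z => z ^ p) '' ((T ⊓ Subgroup.centralizer (T : Set Ω) : Subgroup Ω) : Set Ω))

theorem exists_of_mem_agemoCenter {T : Subgroup Ω} {q : Ω} (hq : q ∈ agemoCenter p T) :
    ∃ z, z ∈ T ∧ (∀ t ∈ T, t * z = z * t) ∧ q = z ^ p := by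
  unfold agemoCenter at hq
  induction hq using Subgroup.closure_induction with
  | mem x hx =>
    obtain ⟨z, hz, rfl⟩ := hx
    exact ⟨z, hz.1, fun t ht => Subgroup.mem_centralizer_iff.mp hz.2 t ht, rfl⟩
  | one => exact ⟨1, T.one_mem, fun t _ => by simp, by simp⟩
  | mul a b _ _ ha hb =>
    obtain ⟨z₁, hz₁T, hz₁c, rfl⟩ := ha
    obtain ⟨z₂, hz₂T, hz₂c, rfl⟩ := hb
    refine ⟨z₁ * z₂, T.mul_mem hz₁T hz₂T, fun t ht => ?_, ?_⟩
    · rw [← mul_assoc, hz₁c t ht, mul_assoc, hz₂c t ht, mul_assoc]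
    · have hcomm : Commute z₁ z₂ := hz₂c z₁ hz₁T
      exact (hcomm.mul_pow p).symm
  | inv a _ ha =>
    obtain ⟨z, hzT, hzc, rfl⟩ := ha
    refine ⟨z⁻¹, T.inv_mem hzT, fun t ht => ?_, (inv_pow z p).symm⟩
    have := hzc t ht
    calc t * z⁻¹ = z⁻¹ * (z * t) * z⁻¹ := by group
      _ = z⁻¹ * (t * z) * z⁻¹ := by rw [this]
      _ = z⁻¹ * t := by group

/-- The reduction data for the theorem on `p`-th powers. -/
def agemoData (hW : PosChar p W)
    (hWZ : ∀ (Q : Type u) [Group Q] [Finite Q], IsPGroup p Q → Subgroup.center Q ≤ W Q)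
    (hquad : QuadProp p W) (X : Subgroup Ω) : RTData p W X where
  Adm T := X ≤ agemoCenter p T
  le := by
    intro T h q hq
    obtain ⟨z, hzT, -, rfl⟩ := exists_of_mem_agemoCenter (h hq)
    exact T.pow_mem hzT p
  central := by
    intro T h t ht q hq
    obtain ⟨z, hzT, hzc, rfl⟩ := exists_of_mem_agemoCenter (h hq)
    rw [← conj_pow]
    have : t * z * t⁻¹ = z := by rw [hzc t ht]; group
    rw [this]
  sub := by
    intro T T' h hle hz
    refine h.trans ?_
    unfold agemoCenter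
    apply Subgroup.closure_mono
    rintro _ ⟨z, hzm, rfl⟩
    refine ⟨z, ⟨?_, ?_⟩, rfl⟩
    · apply hz z hzm.1
      intro t ht
      have := Subgroup.mem_centralizer_iff.mp hzm.2 t ht
      rw [this]; group
    · show z ∈ Subgroup.centralizer (T' : Set Ω)
      rw [Subgroup.mem_centralizer_iff]
      intro t ht
      exact Subgroup.mem_centralizer_iff.mp hzm.2 t (hle ht)
  model := by
    intro T _ hT E hE hQc hAdm hfix
    have hXT : X ≤ T := by
      intro q hq
      obtain ⟨z, hzT, -, rfl⟩ := exists_of_mem_agemoCenter (hAdm hq)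
      exact T.pow_mem hzT p
    have hXc : ∀ t ∈ T, ∀ q ∈ X, t * q * t⁻¹ = q := by
      intro t ht q hq
      obtain ⟨z, hzT, hzc, rfl⟩ := exists_of_mem_agemoCenter (hAdm hq)
      rw [← conj_pow]
      have : t * z * t⁻¹ = z := by rw [hzc t ht]; group
      rw [this]
    have hQ : E.IsNormal E.core := core_isNormal E
    have hs : Setup p E E.core := ⟨hT, hE, hQ, hQc⟩
    haveI : Finite ↥E.core := finite_of_le hQ.1
    haveI : Finite (Mdl hs) := finite_Mdl hs
    obtain ⟨-, hreal, ⟨TL, hTL⟩, hCL⟩ := isModel hs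
    have hXW : X ≤ WS W T := fun q hq =>
      mem_WS_of_central hWZ hT (hXT hq) (fun t ht => hXc t ht q hq)
    have h1 := image_mem_center_normalizer hW hT hreal (TL : Subgroup (Mdl hs)) hTL hXW hfix
    apply cenAll_of_central_image hreal hXT
    intro q hq
    obtain ⟨z, hzT, hzc, rfl⟩ := exists_of_mem_agemoCenter (hAdm hq)
    have hzTL : ext1 (mIota hs) z ∈ (TL : Subgroup (Mdl hs)) := by
      rw [hTL]; exact ext1_mem_range (mIota hs) hzT
    have hzcL : ∀ y ∈ (TL : Subgroup (Mdl hs)), y * ext1 (mIota hs) z = ext1 (mIota hs) z * y := by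
      intro y hy
      rw [hTL] at hy
      obtain ⟨s, rfl⟩ := hy
      rw [← ext1_coe (mIota hs) s, ← ext1_mul (mIota hs) s.2 hzT, ← ext1_mul (mIota hs) hzT s.2, hzc s s.2]
    have hpow : ext1 (mIota hs) (z ^ p) = (ext1 (mIota hs) z) ^ p := by
      rw [ext1_apply (mIota hs) hzT, ext1_apply (mIota hs) (T.pow_mem hzT p), ← map_pow]
      rfl
    have hzN : ∀ g ∈ Subgroup.normalizer (((W ↥(TL : Subgroup (Mdl hs))).map
        (TL : Subgroup (Mdl hs)).subtype : Subgroup (Mdl hs)) : Set (Mdl hs)),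
        g * (ext1 (mIota hs) z) ^ p = (ext1 (mIota hs) z) ^ p * g := by
      intro g hg
      obtain ⟨w, hw, hwe⟩ := h1 _ hq
      rw [SetLike.mem_coe, Subgroup.mem_center_iff] at hw
      have h2 := hw ⟨g, hg⟩
      have h3 := congrArg Subtype.val h2
      rw [Subgroup.coe_mul, Subgroup.coe_mul] at h3
      have hwe' : (w : Mdl hs) = ext1 (mIota hs) (z ^ p) := hwe
      rw [hwe', hpow] at h3
      exact h3
    have h4 := pth_power_central hW hquad _ (Mdl hs) rfl TL hCL (ext1 (mIota hs) z) hzTL hzcL hzN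
    rw [Subgroup.mem_center_iff, hpow]
    exact h4

/-- A subgroup of a central subgroup is central. -/
theorem isCentral_of_le_of_isCentral (F : FusionSystem S) {X Z : Subgroup Ω} (hZ : F.IsCentral Z)
    (hXZ : X ≤ Z) : F.IsCentral X := by
  obtain ⟨hZS, hcm⟩ := (isCentral_iff_forall_cm F).mp hZ
  rw [isCentral_iff_forall_cm]
  refine ⟨hXZ.trans hZS, fun R θ hθ => ?_⟩
  obtain ⟨θ', h1, h2, h3⟩ := hcm R θ hθ
  exact ⟨θ', h1.mono (sup_le_sup_left hXZ R), h2, fun q hq => h3 q (hXZ hq)⟩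

/-- **`p`-th powers of central elements**: `℧¹(Z(S)) ∩ Z(N_F(W(S))) ≤ Z(F)`. -/
theorem agemoCenter_inf_center_le (hW : PosChar p W)
    (hWZ : ∀ (Q : Type u) [Group Q] [Finite Q], IsPGroup p Q → Subgroup.center Q ≤ W Q)
    (hq : QuadProp p W) [Finite S] (hS : IsPGroup p S) (F : FusionSystem S) (hF : F.IsSaturated p)
    (N : FusionSystem (normalizerIn S (WS W S))) (hN : F.IsNormalizerSystem (WS W S) N) :
    agemoCenter p S ⊓ N.center ≤ F.center := by
  haveI : Finite ↥(normalizerIn S (WS W S)) := finite_of_le (normalizerIn_le S _)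
  have hXN : N.IsCentral (agemoCenter p S ⊓ N.center) :=
    isCentral_of_le_of_isCentral N (center_isCentral N) inf_le_right
  obtain ⟨hXS, hXc, hfix⟩ := fixW_of_isCentral_normalizer hW hWZ hS F N hN hXN
  have hcen := rt_main hW hWZ (agemoData hW hWZ hq (agemoCenter p S ⊓ N.center)) _ _ S hS F hF
    inf_le_left hfix rfl rfl
  exact le_sSup ((isCentral_iff_forall_cm F).mpr ⟨hXS, hcen⟩)

end Cfsg.Agent.Lib.Helper27.KL
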