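import Cfsg.Agent.Lib.Helper27.ModelQuot

/-!
helper27: a realization of a fusion system stays a realization after dividing by a normal `p'`-subgroup.
-/

set_option autoImplicit false
set_option linter.unusedSectionVars false
set_option linter.unusedVariables false

namespace Cfsg.Agent.Lib.Helper27.ModelQuot

open Cfsg Cfsg.FusionSystem Cfsg.Agent.Lib.Helper26

universe u v

variable {Ω : Type u} [Group Ω] {S : Subgroup Ω} {G : Type v} [Group G]

theorem realized_quotient_of_coprime [Finite G] (p : ℕ) [Fact p.Prime] (hS : IsPGroup p S)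
    (F : FusionSystem S) (ι : S →* G) (hreal : F.IsRealizedBy ι) (K : Subgroup G) [hKn : K.Normal]
    (hK : (Nat.card K).Coprime p) : F.IsRealizedBy ((QuotientGroup.mk' K).comp ι) := by
  have hsurj : Function.Surjective (QuotientGroup.mk' K) := QuotientGroup.mk'_surjective K
  obtain ⟨hinj, hreal'⟩ := hreal
  have hTp : IsPGroup p ι.range := hS.of_surjective ι.rangeRestrict ι.rangeRestrict_surjective
  have hinj' : Function.Injective ((QuotientGroup.mk' K).comp ι) := by
    rw [injective_iff_map_eq_one]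
    intro s hs
    have h1 : ι s ∈ K := by
      have : (QuotientGroup.mk' K) (ι s) = 1 := hs
      rwa [QuotientGroup.mk'_apply, QuotientGroup.eq_one_iff] at this
    have h2 : ι s = 1 := by
      apply Cfsg.Agent.Lib.Helper16.eq_one_of_mem_pgroup_of_coprime hTp ⟨s, rfl⟩
      have h3 : orderOf (ι s) ∣ Nat.card K := by
        have := orderOf_dvd_natCard (⟨ι s, h1⟩ : K)
        rwa [Subgroup.orderOf_mk] at this
      exact Nat.Coprime.coprime_dvd_left h3 hK
    exact (injective_iff_map_eq_one ι).mp hinj s h2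
  refine ⟨hinj', ?_⟩
  intro P hP φ hφ
  constructor
  · intro hφF
    obtain ⟨g, hg⟩ := (hreal' P hP φ hφ).mp hφF
    refine ⟨QuotientGroup.mk' K g, fun x => ?_⟩
    show (QuotientGroup.mk' K) (ι ⟨φ x, hφ x⟩) = _
    rw [hg x, map_mul, map_mul, map_inv]
    rfl
  · rintro ⟨gb, hgb⟩
    obtain ⟨g, rfl⟩ := hsurj gb
    have hPp : IsPGroup p P := by
      intro x
      obtain ⟨k, hk⟩ := hS ⟨x, hP x.2⟩
      refine ⟨k, Subtype.ext ?_⟩
      have := congrArg Subtype.val hk
      simpa using this
    set α : P →* G := ι.comp (φ.codRestrict S hφ) with hα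
    set β : P →* G := (MulAut.conj g).toMonoidHom.comp (ι.comp (Subgroup.inclusion hP)) with hβ
    have hmod : ∀ x, (α x)⁻¹ * β x ∈ K := by
      intro x
      have h1 := hgb x
      have h2 : (QuotientGroup.mk' K) (α x) = (QuotientGroup.mk' K) (β x) := by
        show (QuotientGroup.mk' K) (ι ⟨φ x, hφ x⟩) = (QuotientGroup.mk' K) (g * ι ⟨x, hP x.2⟩ * g⁻¹)
        rw [map_mul, map_mul, map_inv]
        exact h1
      rw [QuotientGroup.mk'_apply, QuotientGroup.mk'_apply, QuotientGroup.eq] at h2
      exact h2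
    obtain ⟨k, hk, hkx⟩ := exists_conj_of_mod K hK hPp α β hmod
    refine (hreal' P hP φ hφ).mpr ⟨k * g, fun x => ?_⟩
    have := hkx x
    show ι ⟨φ x, hφ x⟩ = k * g * ι ⟨x, hP x.2⟩ * (k * g)⁻¹
    have h3 : α x = ι ⟨φ x, hφ x⟩ := rfl
    have h4 : β x = g * ι ⟨x, hP x.2⟩ * g⁻¹ := rfl
    rw [← h3, this, h4]
    group

end Cfsg.Agent.Lib.Helper27.ModelQuot
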