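import Cfsg.Agent.Lib.Helper27.FMFactor5
import Cfsg.Agent.Lib.Helper26.FSGroup
import Cfsg.Agent.Lib.Helper27.RealQuot
import Cfsg.Agent.Lib.Helper27.QuotCent

/-!
helper27: for the fusion system of a finite group `G` on a Sylow `p`-subgroup `P` and a fully normalized centric
subgroup `Q`, the group `N_G(Q) / O_{p'}(N_G(Q))` is a model of the normalizer system of `Q`.
-/

set_option autoImplicit false
set_option linter.unusedSectionVars false
set_option linter.unusedVariables false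

namespace Cfsg.Agent.Lib.Helper27.FM

open Cfsg Cfsg.FusionSystem Cfsg.Agent.Lib.Helper26 Cfsg.Agent.Lib.Helper26.ModelThm

universe u

variable {G : Type u} [Group G]

theorem isFM_groupFS_iff (S : Subgroup G) {P : Subgroup G} {θ : G → G} :
    IsFM (groupFusionSystem S) P θ ↔
      P ≤ S ∧ (∀ x ∈ P, θ x ∈ S) ∧ ∃ g : G, ∀ x ∈ P, θ x = g * x * g⁻¹ := by
  constructor
  · rintro ⟨φ, ⟨hP, hφS, g, hg⟩, h1⟩
    refine ⟨hP, fun x hx => ?_, g, fun x hx => ?_⟩
    · rw [← h1 ⟨x, hx⟩]; exact hφS _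
    · rw [← h1 ⟨x, hx⟩]; exact hg _
  · rintro ⟨hP, hθS, g, hg⟩
    refine ⟨conjHom P g, ⟨hP, fun x => ?_, g, fun _ => rfl⟩, fun x => ?_⟩
    · show g * (x : G) * g⁻¹ ∈ S
      rw [← hg x x.2]; exact hθS x x.2
    · show g * (x : G) * g⁻¹ = θ x
      rw [hg x x.2]

/-- The normalizer system of `Q` in `F_S(G)` is realized by `N_G(Q)`. -/
theorem groupFS_normalizer_realized [Finite G] (S : Subgroup G) {Q : Subgroup G} (hQS : Q ≤ S)
    (N : FusionSystem (normalizerIn S Q)) (hN : (groupFusionSystem S).IsNormalizerSystem Q N)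
    (ι₀ : ↥(normalizerIn S Q) →* ↥(Subgroup.normalizer (Q : Set G)))
    (hι₀ : ∀ x, ((ι₀ x : ↥(Subgroup.normalizer (Q : Set G))) : G) = x) :
    N.IsRealizedBy ι₀ := by
  haveI : Finite ↥S := inferInstance
  haveI : Finite ↥Q := inferInstance
  have hTS : normalizerIn S Q ≤ S := normalizerIn_le S Q
  have hinj : Function.Injective ι₀ := by
    intro a b hab
    apply Subtype.ext
    rw [← hι₀ a, ← hι₀ b, hab]
  apply isRealizedBy_of_forall N _ hinj
  intro R θ hRT hθT
  have hcoe : ∀ x ∈ normalizerIn S Q,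
      ((ext1 ι₀ x : ↥(Subgroup.normalizer (Q : Set G))) : G) = x := by
    intro x hx
    rw [ext1_apply _ hx]
    exact hι₀ _
  rw [isFM_normalizer_iff (groupFusionSystem S) hQS N hN]
  constructor
  · rintro ⟨-, -, θ', hθ', hext, hQ'⟩
    obtain ⟨-, -, g, hg⟩ := (isFM_groupFS_iff S).mp hθ'
    have hgN : g ∈ Subgroup.normalizer (Q : Set G) := by
      apply mem_normalizer_of_conj_mem_finite
      intro q hq
      rw [← hg q ((le_sup_right : Q ≤ R ⊔ Q) hq)]
      exact hQ' q hq
    refine ⟨⟨g, hgN⟩, fun x hx => ?_⟩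
    apply Subtype.ext
    rw [Subgroup.coe_mul, Subgroup.coe_mul, Subgroup.coe_inv, hcoe _ (hθT x hx), hcoe _ (hRT hx),
      ← hext x hx, hg x ((le_sup_left : R ≤ R ⊔ Q) hx)]
  · rintro ⟨⟨g, hgN⟩, hg⟩
    have hg' : ∀ x ∈ R, θ x = g * x * g⁻¹ := by
      intro x hx
      have h1 := congrArg Subtype.val (hg x hx)
      rw [Subgroup.coe_mul, Subgroup.coe_mul, Subgroup.coe_inv, hcoe _ (hθT x hx), hcoe _ (hRT hx)] at h1
      exact h1
    refine ⟨hRT, hθT, fun y => g * y * g⁻¹, ?_, fun x hx => (hg' x hx).symm, fun q hq => ?_⟩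
    · rw [isFM_groupFS_iff]
      have hle : R ⊔ Q ≤ S.comap (MulAut.conj g).toMonoidHom := by
        apply sup_le
        · intro x hx
          show g * x * g⁻¹ ∈ S
          rw [← hg' x hx]
          exact hTS (hθT x hx)
        · intro q hq
          show g * q * g⁻¹ ∈ S
          exact hQS ((Subgroup.mem_normalizer_iff.mp hgN q).mp hq)
      exact ⟨sup_le (hRT.trans hTS) hQS, fun y hy => hle hy, g, fun _ _ => rfl⟩
    · exact (Subgroup.mem_normalizer_iff.mp hgN q).mp hq


/-- `N_G(Q) / O_{p'}(N_G(Q))` is a model of the normalizer system of a fully normalized centric `Q`. -/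
theorem groupFS_normalizer_model [Finite G] {p : ℕ} [Fact p.Prime] (P : Sylow p G) {Q : Subgroup G}
    (hfn : (groupFusionSystem (P : Subgroup G)).IsFullyNormalized Q)
    (hc : (groupFusionSystem (P : Subgroup G)).IsCentric Q)
    (N : FusionSystem (normalizerIn (P : Subgroup G) Q))
    (hN : (groupFusionSystem (P : Subgroup G)).IsNormalizerSystem Q N)
    (ι₀ : ↥(normalizerIn (P : Subgroup G) Q) →* ↥(Subgroup.normalizer (Q : Set G)))
    (hι₀ : ∀ x, ((ι₀ x : ↥(Subgroup.normalizer (Q : Set G))) : G) = x) :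
    haveI := Cfsg.Agent.Lib.Helper24.pPrimeCore_normal' (G := ↥(Subgroup.normalizer (Q : Set G))) p
    N.IsModel p (↥(Subgroup.normalizer (Q : Set G)) ⧸ pPrimeCore p ↥(Subgroup.normalizer (Q : Set G)))
      ((QuotientGroup.mk' (pPrimeCore p ↥(Subgroup.normalizer (Q : Set G)))).comp ι₀) := by
  haveI hKn := Cfsg.Agent.Lib.Helper24.pPrimeCore_normal' (G := ↥(Subgroup.normalizer (Q : Set G))) p
  have hQP : Q ≤ (P : Subgroup G) := hfn.1
  have hTp : IsPGroup p ↥(normalizerIn (P : Subgroup G) Q) := P.isPGroup'.to_le inf_le_left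
  have hKcop : (Nat.card ↥(pPrimeCore p ↥(Subgroup.normalizer (Q : Set G)))).Coprime p :=
    Cfsg.Agent.Lib.Helper12.pPrimeCore_coprime p
  obtain ⟨R, hR⟩ := (groupFS_fullyNormalized_iff P hQP).mp hfn
  have hrange : ι₀.range = (normalizerIn (P : Subgroup G) Q).subgroupOf (Subgroup.normalizer (Q : Set G)) := by
    ext x
    rw [Subgroup.mem_subgroupOf]
    constructor
    · rintro ⟨y, rfl⟩
      rw [hι₀ y]
      exact y.2
    · intro hx
      refine ⟨⟨x, hx⟩, ?_⟩
      apply Subtype.ext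
      rw [hι₀]
  set A : Subgroup ↥(Subgroup.normalizer (Q : Set G)) := Q.subgroupOf (Subgroup.normalizer (Q : Set G)) with hA
  haveI hAn : A.Normal := Subgroup.normal_in_normalizer
  have hAp : IsPGroup p A := (P.isPGroup'.to_le hQP).comap_subtype
  have hTA : (R : Subgroup ↥(Subgroup.normalizer (Q : Set G))) ⊓ Subgroup.centralizer (A : Set _) ≤ A := by
    rintro x ⟨hxR, hxC⟩
    have hxR : x ∈ (R : Subgroup ↥(Subgroup.normalizer (Q : Set G))) := hxR
    rw [hR, Subgroup.mem_subgroupOf] at hxR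
    rw [hA, Subgroup.mem_subgroupOf]
    apply hc.2 Q (isConj_refl _ hQP)
    refine ⟨hxR.1, ?_⟩
    show (x : G) ∈ Subgroup.centralizer (Q : Set G)
    rw [Subgroup.mem_centralizer_iff]
    intro q hq
    have h1 := Subgroup.mem_centralizer_iff.mp hxC ⟨q, Subgroup.le_normalizer hq⟩ hq
    exact congrArg Subtype.val h1
  have hcent := Cfsg.Agent.Lib.Helper27.QuotCent.centralizer_map_mk_le A hAp R hTA
  refine ⟨inferInstance, ?_, ?_, ?_⟩
  · exact Cfsg.Agent.Lib.Helper27.ModelQuot.realized_quotient_of_coprime p hTp N ι₀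
      (groupFS_normalizer_realized (P : Subgroup G) hQP N hN ι₀ hι₀) _ hKcop
  · refine ⟨R.mapSurjective (QuotientGroup.mk'_surjective _), ?_⟩
    rw [Sylow.coe_mapSurjective, MonoidHom.range_comp, hrange, hR]
  · have hle : A.map (QuotientGroup.mk' (pPrimeCore p ↥(Subgroup.normalizer (Q : Set G)))) ≤
        pCore p (↥(Subgroup.normalizer (Q : Set G)) ⧸ pPrimeCore p ↥(Subgroup.normalizer (Q : Set G))) := by
      apply Cfsg.Agent.Lib.Helper12.le_pCore' p _ _ (hAp.map _)
      exact Subgroup.Normal.map hAn _ (QuotientGroup.mk'_surjective _)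
    exact (Subgroup.centralizer_le hle).trans (hcent.trans hle)

end Cfsg.Agent.Lib.Helper27.FM
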