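import Mathlib
import Cfsg.Prelude.Def_LocalEven
import Cfsg.Agent.Lib.Helper29.QuadPairFree

/-!
# Lifting normalizers of `p`-subgroups of sections (helper27)

* `involves_of_surjective`: involvement pulls back along surjections.
* `exists_lift_normal_pSubgroup`: Frattini lifting of a normal `p`-subgroup along a surjection.
* `not_involves_normalizer_section`: if `H` is not involved in any `N_G(P)`, `P ≠ 1` a `p`-subgroup
  of `G`, the same holds in every section of `G`.
* `isNormalizerPStable_of_quadCore_ne_bot`: only the nontrivial `p`-subgroups matter for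
  normalizer `p`-stability.
-/

set_option autoImplicit false
set_option linter.style.haveILetI false
set_option linter.unusedSectionVars false

namespace Cfsg.Agent.Lib.Helper27.SectionLift

open Subgroup
open scoped commutatorElement

universe u v w

/-- Involvement pulls back along surjections. -/
theorem involves_of_surjective {H : Type u} [Group H] {A : Type v} [Group A] {B : Type w} [Group B]
    (f : A →* B) (hf : Function.Surjective f) (h : Cfsg.Involves H B) : Cfsg.Involves H A := by
  obtain ⟨K, R, hn, ⟨e⟩⟩ := h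
  refine Cfsg.Agent.Lib.Helper27.involves_of_surjective_on_subgroup (K.comap f)
    ((e.toMonoidHom.comp (QuotientGroup.mk' (R.subgroupOf K))).comp (f.subgroupComap K)) ?_
  intro x
  obtain ⟨y, hy⟩ := QuotientGroup.mk'_surjective (R.subgroupOf K) (e.symm x)
  obtain ⟨z, hz⟩ := MonoidHom.subgroupComap_surjective_of_surjective f K hf y
  refine ⟨z, ?_⟩
  simp only [MonoidHom.coe_comp, Function.comp_apply, hz, hy]
  simp

variable {p : ℕ} [hpF : Fact p.Prime]

/-- Frattini lifting: a normal `p`-subgroup of a quotient is the image of a `p`-subgroup whose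
normalizer covers the quotient. -/
theorem exists_lift_normal_pSubgroup {Y : Type u} {Z : Type v} [Group Y] [Group Z] [Finite Y]
    (f : Y →* Z) (hf : Function.Surjective f) (P : Subgroup Z) [P.Normal] (hP : IsPGroup p P) :
    ∃ Q : Subgroup Y, IsPGroup p Q ∧ Q.map f = P ∧ (normalizer (Q : Set Y)).map f = ⊤ := by
  set M : Subgroup Y := P.comap f with hM
  haveI : M.Normal := Subgroup.Normal.comap inferInstance f
  let Q₀ : Sylow p M := Sylow.nonempty.some
  set Q : Subgroup Y := (Q₀ : Subgroup M).map M.subtype with hQ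
  have hQp : IsPGroup p Q := Q₀.2.map M.subtype
  let f' : M →* P := f.subgroupComap P
  have hf' : Function.Surjective f' := MonoidHom.subgroupComap_surjective_of_surjective f P hf
  have hS : ((Q₀ : Subgroup M).map f') = ⊤ := by
    have h1 := (Q₀.mapSurjective hf').is_maximal' (Q := ⊤)
      (IsPGroup.of_surjective hP (Subgroup.topEquiv (G := P)).symm.toMonoidHom
        (Subgroup.topEquiv (G := P)).symm.surjective) le_top
    rw [h1]
    rfl
  have hmap : Q.map f = P := by
    rw [hQ, Subgroup.map_map]
    have : f.comp M.subtype = P.subtype.comp f' := by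
      ext x
      rfl
    rw [this, ← Subgroup.map_map, hS, ← MonoidHom.range_eq_map, Subgroup.range_subtype]
  refine ⟨Q, hQp, hmap, ?_⟩
  have hfr := Sylow.normalizer_sup_eq_top Q₀
  have h2 : (normalizer ((Q₀ : Subgroup M).map M.subtype : Set Y) ⊔ M).map f = ⊤ := by
    rw [hfr, ← MonoidHom.range_eq_map, MonoidHom.range_eq_top]
    exact hf
  rw [Subgroup.map_sup] at h2
  have h3 : M.map f ≤ (normalizer (Q : Set Y)).map f := by
    rw [hM, Subgroup.map_comap_eq_self_of_surjective hf, ← hmap]
    exact Subgroup.map_mono Subgroup.le_normalizer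
  rw [← h2]
  exact (sup_of_le_left h3).symm

/-- If `H` is not involved in any `N_G(P)` with `P ≠ 1` a `p`-subgroup, the same holds in every
section of `G`. -/
theorem not_involves_normalizer_section {G : Type u} [Group G] [Finite G] {H : Type v} [Group H]
    (h : ∀ P : Subgroup G, IsPGroup p ↥P → P ≠ ⊥ →
      ¬ Cfsg.Involves H ↥(normalizer ((P : Subgroup G) : Set G)))
    (K R : Subgroup G) [hR : (R.subgroupOf K).Normal]
    (P : Subgroup (↥K ⧸ R.subgroupOf K)) (hP : IsPGroup p ↥P) (hne : P ≠ ⊥) :
    ¬ Cfsg.Involves H ↥(normalizer (P : Set (↥K ⧸ R.subgroupOf K))) := by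
  intro hinv
  set Z : Subgroup (↥K ⧸ R.subgroupOf K) := normalizer (P : Set (↥K ⧸ R.subgroupOf K)) with hZ
  set π : ↥K →* (↥K ⧸ R.subgroupOf K) := QuotientGroup.mk' (R.subgroupOf K) with hπ
  have hπs : Function.Surjective π := QuotientGroup.mk'_surjective _
  set Y : Subgroup ↥K := Z.comap π with hY
  let f : Y →* Z := π.subgroupComap Z
  have hf : Function.Surjective f := MonoidHom.subgroupComap_surjective_of_surjective π Z hπs
  haveI : (P.subgroupOf Z).Normal := Subgroup.normal_in_normalizer
  have hP' : IsPGroup p (P.subgroupOf Z) := hP.comap_of_injective _ (Subgroup.subtype_injective _)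
  obtain ⟨Q, hQp, hQmap, hQn⟩ := exists_lift_normal_pSubgroup (p := p) f hf (P.subgroupOf Z) hP'
  have hQne : Q ≠ ⊥ := by
    rintro rfl
    rw [Subgroup.map_bot] at hQmap
    apply hne
    have := hQmap.symm
    rw [Subgroup.subgroupOf_eq_bot] at this
    have hle : P ≤ Z := Subgroup.le_normalizer
    exact (disjoint_of_le_iff_left_eq_bot hle).mp this
  set ι : Y →* G := K.subtype.comp Y.subtype with hι
  have hιi : Function.Injective ι := K.subtype_injective.comp Y.subtype_injective
  set QG : Subgroup G := Q.map ι with hQG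
  have hQGp : IsPGroup p QG := hQp.map ι
  have hQGne : QG ≠ ⊥ := by
    intro h0
    apply hQne
    exact (Subgroup.map_eq_bot_iff_of_injective Q hιi).mp h0
  apply h QG hQGp hQGne
  -- `N_Y(Q)` surjects onto `Z` and embeds into `N_G(QG)`.
  have hle : (normalizer (Q : Set Y)).map ι ≤ normalizer (QG : Set G) :=
    Subgroup.le_normalizer_map ι
  let j : ↥(normalizer (Q : Set Y)) →* ↥(normalizer (QG : Set G)) :=
    (ι.comp (normalizer (Q : Set Y)).subtype).codRestrict _ (fun x =>
      hle (Subgroup.mem_map_of_mem ι x.2))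
  have hj : Function.Injective j := by
    intro x y hxy
    have h0 : (j x : G) = (j y : G) := congrArg Subtype.val hxy
    have h1 : ι (x : Y) = ι (y : Y) := h0
    exact Subtype.ext (hιi h1)
  let g : ↥(normalizer (Q : Set Y)) →* Z := f.comp (normalizer (Q : Set Y)).subtype
  have hg : Function.Surjective g := by
    intro z
    have hz : z ∈ (normalizer (Q : Set Y)).map f := by rw [hQn]; trivial
    obtain ⟨y, hy, rfl⟩ := hz
    exact ⟨⟨y, hy⟩, rfl⟩
  exact Cfsg.Agent.Lib.Helper27.involves_of_injective j hj (involves_of_surjective g hg hinv)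

/-- Normalizer `p`-stability only needs `QuadCore` for the normalizers of the nontrivial
`p`-subgroups. -/
theorem isNormalizerPStable_of_quadCore_ne_bot {G : Type u} [Group G] [Finite G]
    (hQ : ∀ P : Subgroup G, IsPGroup p P → P ≠ ⊥ →
      Cfsg.Agent.Lib.Helper29.QuadPair.QuadCore p ↥(normalizer (P : Set G))) :
    Cfsg.IsNormalizerPStable p G := by
  intro P hPp g hg hquad
  by_cases hPb : P = ⊥
  · have h1 : (QuotientGroup.mk (s := (Subgroup.centralizer (P : Set G)).subgroupOf
        (Subgroup.normalizer (P : Set G))) (⟨g, hg⟩ : ↥(Subgroup.normalizer (P : Set G)))) = 1 := by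
      rw [QuotientGroup.eq_one_iff, Subgroup.mem_subgroupOf, Subgroup.mem_centralizer_iff]
      intro u hu
      rw [hPb] at hu
      have : u = 1 := by simpa using hu
      rw [this]
      simp
    rw [h1]
    exact one_mem _
  set N : Subgroup G := normalizer (P : Set G) with hN
  have hPp' : IsPGroup p (P.subgroupOf N) :=
    hPp.comap_of_injective _ (Subgroup.subtype_injective _)
  have hmapP : (P.subgroupOf N).map N.subtype = P :=
    Subgroup.map_subgroupOf_eq_of_le Subgroup.le_normalizer
  haveI hPn : (P.subgroupOf N).Normal := Subgroup.normal_in_normalizer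
  have hquad' : ⁅⁅P.subgroupOf N, zpowers (⟨g, hg⟩ : N)⁆, zpowers (⟨g, hg⟩ : N)⁆ = ⊥ := by
    rw [← Subgroup.map_eq_bot_iff_of_injective _ N.subtype_injective,
      Subgroup.map_commutator, Subgroup.map_commutator, hmapP, MonoidHom.map_zpowers]
    exact hquad
  have h1 := Cfsg.Agent.Lib.Helper27.OddStable.isPStableOn_of_quadCore_pGroup (hQ P hPp hPb)
    (P.subgroupOf N) hPp' ⟨g, hg⟩ hquad'
  have hCeq : centralizer ((P.subgroupOf N : Subgroup N) : Set N) =
      (centralizer (P : Set G)).subgroupOf N := by
    ext x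
    rw [Subgroup.mem_subgroupOf, Subgroup.mem_centralizer_iff, Subgroup.mem_centralizer_iff]
    constructor
    · intro hx u hu
      have := hx ⟨u, Subgroup.le_normalizer hu⟩ (by
        rw [SetLike.mem_coe, Subgroup.mem_subgroupOf]; exact hu)
      exact congrArg Subtype.val this
    · intro hx u hu
      apply Subtype.ext
      exact hx u (Subgroup.mem_subgroupOf.mp hu)
  let e : (N ⧸ centralizer ((P.subgroupOf N : Subgroup N) : Set N)) ≃*
      (N ⧸ (centralizer (P : Set G)).subgroupOf N) := QuotientGroup.quotientMulEquivOfEq hCeq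
  have hle : (Cfsg.pCore p (N ⧸ centralizer ((P.subgroupOf N : Subgroup N) : Set N))).map
      e.toMonoidHom ≤ Cfsg.pCore p (N ⧸ (centralizer (P : Set G)).subgroupOf N) := by
    apply Cfsg.Agent.Lib.Helper1.le_pCore
    · exact Subgroup.Normal.map (Cfsg.Agent.Lib.Helper1.pCore_normal p _) _ e.surjective
    · exact (Cfsg.Agent.Lib.Helper1.pCore_isPGroup p _).map _
  exact hle (Subgroup.mem_map_of_mem e.toMonoidHom h1)

end Cfsg.Agent.Lib.Helper27.SectionLift
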