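/-
helper27: S4648 (helper1's plan), part A, the CORE lemma (Kuelshammer 1984): in an algebra, if a
subspace `n` is spanned modulo `n²` by `x, y` and `n² ≤ F·[x,y] + n³`, then `n³ ≤ n⁴`
(eight associativity relations modulo `n⁴`; no assumption on the characteristic).
Mathlib only.
-/
import Mathlib

set_option autoImplicit false

namespace Cfsg.Agent.Lib.Helper27.SymAlgK4

variable {F : Type*} [Field F]

/-- the linear algebra behind the core lemma -/
theorem lin_core {V : Type*} [AddCommGroup V] [Module F V] (a b d : F) (P Q R T : V)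
    (E1 : a • R - a • P = 0) (E2 : a • T - b • P = 0) (E3 : b • R - (b - 1) • P = 0)
    (E4 : b • T - d • P = 0) (E5 : (b - 1) • R - a • Q = 0) (E6 : (b - 1) • T - b • Q = 0)
    (E7 : d • R - (b - 1) • Q = 0) (E8 : d • T - d • Q = 0) : P = 0 ∧ Q = 0 := by
  by_cases ha : a = 0
  · subst ha
    by_cases hd : d = 0
    · subst hd
      have h1 : b • P = 0 := by linear_combination (norm := module) (-1 : F) • E2
      have h2 : (b * b) • R = 0 := by
        linear_combination (norm := module) b • E3 + (b - 1) • h1
      have h3 : b • R = 0 := by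
        linear_combination (norm := module) h2 - b • E5
      have hP : P = 0 := by
        linear_combination (norm := module) E3 - h3 + h1
      have h4 : b • T = 0 := by linear_combination (norm := module) E4
      have h5 : (b * b) • Q = 0 := by
        linear_combination (norm := module) (b - 1) • h4 - b • E6
      have h6 : b • Q = 0 := by
        linear_combination (norm := module) h5 + b • E7
      have hQ : Q = 0 := by
        linear_combination (norm := module) h6 + E7
      exact ⟨hP, hQ⟩
    · have h1 : d • (T - Q) = 0 := by linear_combination (norm := module) E8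
      have h2 : T - Q = 0 := by
        rcases smul_eq_zero.mp h1 with h | h
        · exact absurd h hd
        · exact h
      have hT : T = 0 := by
        linear_combination (norm := module) b • h2 - E6
      have hQ : Q = 0 := by
        linear_combination (norm := module) hT - h2
      have h3 : d • P = 0 := by
        linear_combination (norm := module) b • hT - E4
      have hP : P = 0 := by
        rcases smul_eq_zero.mp h3 with h | h
        · exact absurd h hd
        · exact h
      exact ⟨hP, hQ⟩
  · have h1 : a • (R - P) = 0 := by linear_combination (norm := module) E1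
    have h2 : R - P = 0 := by
      rcases smul_eq_zero.mp h1 with h | h
      · exact absurd h ha
      · exact h
    have hP : P = 0 := by
      linear_combination (norm := module) E3 - b • h2
    have hR : R = 0 := by
      linear_combination (norm := module) h2 + hP
    have h3 : a • Q = 0 := by
      linear_combination (norm := module) (b - 1) • hR - E5
    have hQ : Q = 0 := by
      rcases smul_eq_zero.mp h3 with h | h
      · exact absurd h ha
      · exact h
    exact ⟨hP, hQ⟩

variable {C : Type*} [Ring C] [Algebra F C]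

/-- one associativity relation modulo `n⁴` -/
theorem assoc_rel {n : Submodule F C} {u v w c r r' : C} {α β : F}
    (hu : u ∈ n) (hw : w ∈ n) (hr : r ∈ n ^ 3) (hr' : r' ∈ n ^ 3)
    (h1 : u * v = α • c + r) (h2 : v * w = β • c + r') :
    α • (c * w) - β • (u * c) ∈ n ^ 4 := by
  have e : α • (c * w) - β • (u * c) = u * r' - r * w := by
    have h3 : (u * v) * w = u * (v * w) := mul_assoc u v w
    rw [h1, h2, add_mul, mul_add, smul_mul_assoc, mul_smul_comm] at h3
    rw [sub_eq_sub_iff_add_eq_add, h3]
    abel
  rw [e]
  apply Submodule.sub_mem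
  · have h4 : n ^ 4 = n * n ^ 3 := pow_succ' n 3
    rw [h4]
    exact Submodule.mul_mem_mul hu hr'
  · have h4 : n ^ 4 = n ^ 3 * n := pow_succ n 3
    rw [h4]
    exact Submodule.mul_mem_mul hr hw

/-- CORE lemma: `n = Fx + Fy + n²` and `n² ≤ F[x,y] + n³` give `n³ ≤ n⁴`. -/
theorem cube_le_of_sq_le {n : Submodule F C} (x y : C) (hx : x ∈ n) (hy : y ∈ n)
    (hgen : n ≤ Submodule.span F {x} ⊔ Submodule.span F {y} ⊔ n * n)
    (h2 : n * n ≤ Submodule.span F {x * y - y * x} ⊔ n ^ 3) : n ^ 3 ≤ n ^ 4 := by
  set c := x * y - y * x with hc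
  have hcn : c ∈ n * n :=
    Submodule.sub_mem _ (Submodule.mul_mem_mul hx hy) (Submodule.mul_mem_mul hy hx)
  have h4 : n ^ 4 = n * n ^ 3 := pow_succ' n 3
  have h3' : n ^ 3 = n * (n * n) := by rw [← pow_two n, ← pow_succ']
  have h22 : n ^ 4 = (n * n) * (n * n) := by rw [← pow_two n, ← pow_add]
  have dec : ∀ u ∈ n, ∀ v ∈ n, ∃ α : F, ∃ r ∈ n ^ 3, u * v = α • c + r := by
    intro u hu v hv
    have h := h2 (Submodule.mul_mem_mul hu hv)
    rw [Submodule.mem_sup] at h
    obtain ⟨z, hz, r, hr, e⟩ := h
    rw [Submodule.mem_span_singleton] at hz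
    obtain ⟨α, rfl⟩ := hz
    exact ⟨α, r, hr, e.symm⟩
  obtain ⟨a, r1, hr1, e1⟩ := dec x hx x hx
  obtain ⟨b, r2, hr2, e2⟩ := dec x hx y hy
  obtain ⟨b', r3, hr3, e3⟩ := dec y hy x hx
  obtain ⟨d, r4, hr4, e4⟩ := dec y hy y hy
  -- it suffices to show `x * c, y * c ∈ n⁴`
  have key : x * c ∈ n ^ 4 → y * c ∈ n ^ 4 → n ^ 3 ≤ n ^ 4 := by
    intro hP hQ
    calc n ^ 3 = n * (n * n) := h3'
      _ ≤ n * (Submodule.span F {c} ⊔ n ^ 3) := mul_le_mul' le_rfl h2
      _ = n * Submodule.span F {c} ⊔ n * n ^ 3 := Submodule.mul_sup _ _ _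
      _ ≤ n ^ 4 := by
        refine sup_le ?_ (le_of_eq h4.symm)
        calc n * Submodule.span F {c}
            ≤ (Submodule.span F {x} ⊔ Submodule.span F {y} ⊔ n * n) * Submodule.span F {c} :=
              mul_le_mul' hgen le_rfl
          _ = Submodule.span F {x * c} ⊔ Submodule.span F {y * c} ⊔
                (n * n) * Submodule.span F {c} := by
              rw [Submodule.sup_mul, Submodule.sup_mul, Submodule.span_mul_span,
                Submodule.span_mul_span, Set.singleton_mul_singleton, Set.singleton_mul_singleton]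
          _ ≤ n ^ 4 := by
              refine sup_le (sup_le ?_ ?_) ?_
              · rw [Submodule.span_le]
                intro z hz
                rw [Set.mem_singleton_iff] at hz
                rw [hz]
                exact hP
              · rw [Submodule.span_le]
                intro z hz
                rw [Set.mem_singleton_iff] at hz
                rw [hz]
                exact hQ
              · rw [h22]
                refine mul_le_mul' le_rfl ?_
                rw [Submodule.span_le]
                intro z hz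
                rw [Set.mem_singleton_iff] at hz
                rw [hz]
                exact hcn
  by_cases hb : b' = b - 1
  · subst hb
    have E1 := assoc_rel hx hx hr1 hr1 e1 e1
    have E2 := assoc_rel hx hy hr1 hr2 e1 e2
    have E3 := assoc_rel hx hx hr2 hr3 e2 e3
    have E4 := assoc_rel hx hy hr2 hr4 e2 e4
    have E5 := assoc_rel hy hx hr3 hr1 e3 e1
    have E6 := assoc_rel hy hy hr3 hr2 e3 e2
    have E7 := assoc_rel hy hx hr4 hr3 e4 e3
    have E8 := assoc_rel hy hy hr4 hr4 e4 e4
    have tr : ∀ (α β : F) (A B : C), α • A - β • B ∈ n ^ 4 →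
        α • (Submodule.Quotient.mk A : C ⧸ n ^ 4) - β • (Submodule.Quotient.mk B : C ⧸ n ^ 4) = 0 := by
      intro α β A B h
      rw [← Submodule.Quotient.mk_smul, ← Submodule.Quotient.mk_smul, ← Submodule.Quotient.mk_sub]
      exact (Submodule.Quotient.mk_eq_zero _).2 h
    obtain ⟨hP, hQ⟩ := lin_core (V := C ⧸ n ^ 4) a b d (Submodule.Quotient.mk (x * c))
      (Submodule.Quotient.mk (y * c)) (Submodule.Quotient.mk (c * x)) (Submodule.Quotient.mk (c * y))
      (tr _ _ _ _ E1) (tr _ _ _ _ E2) (tr _ _ _ _ E3) (tr _ _ _ _ E4) (tr _ _ _ _ E5)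
      (tr _ _ _ _ E6) (tr _ _ _ _ E7) (tr _ _ _ _ E8)
    exact key ((Submodule.Quotient.mk_eq_zero _).1 hP) ((Submodule.Quotient.mk_eq_zero _).1 hQ)
  · -- then `c ∈ n³`
    have hne : (1 - b + b') ≠ 0 := by
      intro h0
      apply hb
      linear_combination h0
    have hcc : (1 - b + b') • c = r2 - r3 := by
      have h5 : c = (b • c + r2) - (b' • c + r3) := by rw [← e2, ← e3]
      have h6 : (1 - b + b') • c = c - (b • c - b' • c) := by
        rw [add_smul, sub_smul, one_smul]
        abel
      rw [h6]
      nth_rewrite 1 [h5]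
      abel
    have hc3 : c ∈ n ^ 3 := by
      have h7 : c = (1 - b + b')⁻¹ • (r2 - r3) := by
        rw [← hcc, smul_smul, inv_mul_cancel₀ hne, one_smul]
      rw [h7]
      exact Submodule.smul_mem _ _ (Submodule.sub_mem _ hr2 hr3)
    have h8 : n * n ≤ n ^ 3 := by
      refine le_trans h2 (sup_le ?_ le_rfl)
      rw [Submodule.span_le]
      intro z hz
      rw [Set.mem_singleton_iff] at hz
      rw [hz]
      exact hc3
    calc n ^ 3 = n * (n * n) := h3'
      _ ≤ n * n ^ 3 := mul_le_mul' le_rfl h8
      _ = n ^ 4 := h4.symm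

end Cfsg.Agent.Lib.Helper27.SymAlgK4
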