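/-
helper27: S4648 (helper1's plan), part A (Kuelshammer 1984): an augmented symmetric algebra with
nilpotent augmentation ideal and centre of dimension `≤ 4` is commutative.
Extends helper14's `SymAlgA6Core` (`≤ 2`); uses helper21's A0, A1 and the core lemma
`SymAlgK4.cube_le_of_sq_le`.
-/
import Cfsg.Agent.Lib.Helper27.SymAlgK4Core
import Cfsg.Agent.Lib.Helper14.SymAlgA6Core
import Cfsg.Agent.Lib.Helper21.SymAlgA0
import Cfsg.Agent.Lib.Helper21.SymAlgA1

set_option autoImplicit false

namespace Cfsg.Agent.Lib.Helper27.SymAlgK4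

open Cfsg.Agent.Lib.Helper27.SymAlg Cfsg.Agent.Lib.Helper14.SymAlgA6

variable {F : Type*} [Field F] {C : Type*} [Ring C] [Algebra F C]

theorem lam_commSpan {lam : C →ₗ[F] F} (hlam : IsSymForm lam) (z : C) (hz : z ∈ commSpan F C) :
    lam z = 0 := by
  unfold commSpan at hz
  induction hz using Submodule.span_induction with
  | mem c hc =>
    obtain ⟨x, y, rfl⟩ := hc
    rw [map_sub, hlam.comm x y, sub_self]
  | zero => exact map_zero lam
  | add a b _ _ ha hb => rw [map_add, ha, hb, add_zero]
  | smul r a _ ha => rw [map_smul, ha, smul_zero]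

/-- a nonzero element killed by the augmentation ideal is not a sum of commutators -/
theorem socle_not_mem_commSpan {lam : C →ₗ[F] F} (hlam : IsSymForm lam) (aug : C →ₐ[F] F)
    (s : C) (hs : s ≠ 0) (hkill : ∀ j ∈ augIdeal aug, s * j = 0) : s ∉ commSpan F C := by
  intro hmem
  obtain ⟨y, hy⟩ := hlam.nondeg s hs
  apply hy
  have h1 : s * y = aug y • s := by
    have h2 : y = (y - algebraMap F C (aug y)) + algebraMap F C (aug y) := by abel
    have h3 := hkill _ (sub_algebraMap_mem aug y)
    nth_rewrite 1 [h2]
    rw [mul_add, h3, zero_add, Algebra.algebraMap_eq_smul_one, mul_smul_comm, mul_one]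
  rw [h1, map_smul, lam_commSpan hlam s hmem, smul_zero]

theorem commSpan_eq_bot_comm (h : commSpan F C = ⊥) : ∀ x y : C, x * y = y * x := by
  intro x y
  have h1 : x * y - y * x ∈ commSpan F C := Submodule.subset_span ⟨x, y, rfl⟩
  rw [h, Submodule.mem_bot] at h1
  exact sub_eq_zero.mp h1

theorem pow_anti (aug : C →ₐ[F] F) {a b : ℕ} (hb : 1 ≤ b) (hab : b ≤ a) :
    augIdeal aug ^ a ≤ augIdeal aug ^ b := by
  induction a, hab using Nat.le_induction with
  | base => exact le_rfl
  | succ k hk ih =>
    refine le_trans ?_ ih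
    obtain ⟨j, rfl⟩ : ∃ j, k = j + 1 := ⟨k - 1, by omega⟩
    exact pow_succ_le aug j

theorem pow_three_eq_bot_of_le (aug : C →ₐ[F] F) (N : ℕ) (hbot : augIdeal aug ^ N = ⊥)
    (h : augIdeal aug ^ 3 ≤ augIdeal aug ^ 4) : augIdeal aug ^ 3 = ⊥ := by
  have hk : ∀ k : ℕ, augIdeal aug ^ 3 ≤ augIdeal aug ^ (3 + k) := by
    intro k
    induction k with
    | zero => exact le_rfl
    | succ k ih =>
      calc augIdeal aug ^ 3 ≤ augIdeal aug ^ (3 + k) := ih
        _ = augIdeal aug ^ k * augIdeal aug ^ 3 := by rw [← pow_add, add_comm]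
        _ ≤ augIdeal aug ^ k * augIdeal aug ^ 4 := mul_le_mul' le_rfl h
        _ = augIdeal aug ^ (3 + (k + 1)) := by
          rw [← pow_add]
          congr 1
          omega
  have h1 := hk N
  rw [pow_add, hbot, Submodule.mul_bot] at h1
  exact le_bot_iff.mp h1

/-- two generators modulo the square -/
theorem exists_two_generators [FiniteDimensional F C] (aug : C →ₐ[F] F)
    (hdim : Module.finrank F (augIdeal aug) ≤
      Module.finrank F ↥(augIdeal aug * augIdeal aug) + 2) :
    ∃ x ∈ augIdeal aug, ∃ y ∈ augIdeal aug,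
      augIdeal aug ≤ Submodule.span F {x} ⊔ Submodule.span F {y} ⊔
        augIdeal aug * augIdeal aug := by
  have hspan : ∀ z ∈ augIdeal aug, Submodule.span F {z} ≤ augIdeal aug := by
    intro z hz
    rw [Submodule.span_le]
    intro w hw
    rw [Set.mem_singleton_iff] at hw
    rw [hw]
    exact hz
  by_cases h1 : augIdeal aug ≤ augIdeal aug * augIdeal aug
  · exact ⟨0, Submodule.zero_mem _, 0, Submodule.zero_mem _, le_trans h1 le_sup_right⟩
  · obtain ⟨x, hx, hx2⟩ := SetLike.not_le_iff_exists.mp h1
    obtain ⟨W1, hW1⟩ : ∃ W : Submodule F C,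
        W = Submodule.span F {x} ⊔ augIdeal aug * augIdeal aug := ⟨_, rfl⟩
    have hW1le : W1 ≤ augIdeal aug := by
      rw [hW1]
      exact sup_le (hspan x hx) (sq_le aug)
    have hlt1 : augIdeal aug * augIdeal aug < W1 := by
      rw [hW1]
      refine lt_of_le_of_ne le_sup_right ?_
      intro he
      apply hx2
      rw [he]
      exact (le_sup_left : Submodule.span F {x} ≤ _) (Submodule.mem_span_singleton_self x)
    have hd1 := Submodule.finrank_lt_finrank_of_lt hlt1
    by_cases h2 : augIdeal aug ≤ W1
    · refine ⟨x, hx, 0, Submodule.zero_mem _, le_trans h2 ?_⟩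
      rw [hW1]
      exact sup_le (le_trans le_sup_left le_sup_left) le_sup_right
    · obtain ⟨y, hy, hy2⟩ := SetLike.not_le_iff_exists.mp h2
      refine ⟨x, hx, y, hy, ?_⟩
      obtain ⟨W2, hW2⟩ : ∃ W : Submodule F C, W = Submodule.span F {y} ⊔ W1 := ⟨_, rfl⟩
      have hW2le : W2 ≤ augIdeal aug := by
        rw [hW2]
        exact sup_le (hspan y hy) hW1le
      have hlt2 : W1 < W2 := by
        rw [hW2]
        refine lt_of_le_of_ne le_sup_right ?_
        intro he
        apply hy2
        rw [he]
        exact (le_sup_left : Submodule.span F {y} ≤ _) (Submodule.mem_span_singleton_self y)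
      have hd2 := Submodule.finrank_lt_finrank_of_lt hlt2
      have h3 : Module.finrank F (augIdeal aug) ≤ Module.finrank F W2 := by omega
      have h4 : W2 = augIdeal aug := Submodule.eq_of_le_of_finrank_le hW2le h3
      have h5 : W2 ≤ Submodule.span F {x} ⊔ Submodule.span F {y} ⊔
          augIdeal aug * augIdeal aug := by
        rw [hW2, hW1]
        refine sup_le ?_ (sup_le ?_ ?_)
        · exact le_trans le_sup_right le_sup_left
        · exact le_trans le_sup_left le_sup_left
        · exact le_sup_right
      exact le_trans (le_of_eq h4.symm) h5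

/-- the commutators lie in `F[x,y] + n³` -/
theorem commSpan_le_span_sup_cube (aug : C →ₐ[F] F) (x y : C) (hx : x ∈ augIdeal aug)
    (hy : y ∈ augIdeal aug)
    (hgen : augIdeal aug ≤ Submodule.span F {x} ⊔ Submodule.span F {y} ⊔
      augIdeal aug * augIdeal aug) :
    commSpan F C ≤ Submodule.span F {x * y - y * x} ⊔ augIdeal aug ^ 3 := by
  set n := augIdeal aug with hn
  have h3l : n ^ 3 = n * (n * n) := by rw [← pow_two n, ← pow_succ']
  have h3r : n ^ 3 = (n * n) * n := by rw [← pow_two n, ← pow_succ]
  have dec : ∀ a ∈ n, ∃ a1 a2 : F, ∃ a'' ∈ n * n, a = a1 • x + a2 • y + a'' := by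
    intro a ha
    have h := hgen ha
    rw [Submodule.mem_sup] at h
    obtain ⟨p, hp, a'', ha'', e⟩ := h
    rw [Submodule.mem_sup] at hp
    obtain ⟨p1, hp1, p2, hp2, e'⟩ := hp
    rw [Submodule.mem_span_singleton] at hp1 hp2
    obtain ⟨a1, rfl⟩ := hp1
    obtain ⟨a2, rfl⟩ := hp2
    exact ⟨a1, a2, a'', ha'', by rw [← e, ← e']⟩
  have main : ∀ a ∈ n, ∀ b ∈ n, a * b - b * a ∈
      Submodule.span F {x * y - y * x} ⊔ n ^ 3 := by
    intro a ha b hb
    obtain ⟨a1, a2, a'', ha'', ea⟩ := dec a ha
    obtain ⟨b1, b2, b'', hb'', eb⟩ := dec b hb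
    set p := a1 • x + a2 • y with hp
    set q := b1 • x + b2 • y with hq
    have hpn : p ∈ n := Submodule.add_mem _ (Submodule.smul_mem _ _ hx) (Submodule.smul_mem _ _ hy)
    have e1 : a * b - b * a = (a1 * b2 - a2 * b1) • (x * y - y * x) +
        ((p * b'' - b'' * p) + (a'' * b - b * a'')) := by
      have e2 : p * q - q * p = (a1 * b2 - a2 * b1) • (x * y - y * x) := by
        rw [hp, hq]
        simp only [add_mul, mul_add, smul_mul_assoc, mul_smul_comm]
        module
      rw [← e2]
      have e3 : a * b - b * a = (p * b - b * p) + (a'' * b - b * a'') := by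
        rw [ea]
        noncomm_ring
      rw [e3]
      have e4 : p * b - b * p = (p * q - q * p) + (p * b'' - b'' * p) := by
        rw [eb]
        noncomm_ring
      rw [e4]
      abel
    rw [e1]
    refine Submodule.add_mem _ ?_ ?_
    · exact (le_sup_left : Submodule.span F {x * y - y * x} ≤ _)
        (Submodule.smul_mem _ _ (Submodule.mem_span_singleton_self _))
    · refine (le_sup_right : n ^ 3 ≤ _) ?_
      refine Submodule.add_mem _ (Submodule.sub_mem _ ?_ ?_) (Submodule.sub_mem _ ?_ ?_)
      · rw [h3l]
        exact Submodule.mul_mem_mul hpn hb''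
      · rw [h3r]
        exact Submodule.mul_mem_mul hb'' hpn
      · rw [h3r]
        exact Submodule.mul_mem_mul ha'' hb
      · rw [h3l]
        exact Submodule.mul_mem_mul hb ha''
  unfold commSpan
  rw [Submodule.span_le]
  rintro z ⟨a, b, rfl⟩
  have ha := sub_algebraMap_mem aug a
  have hb := sub_algebraMap_mem aug b
  have e : (a - algebraMap F C (aug a)) * (b - algebraMap F C (aug b)) -
      (b - algebraMap F C (aug b)) * (a - algebraMap F C (aug a)) = a * b - b * a := by
    have c1 : algebraMap F C (aug a) * b = b * algebraMap F C (aug a) :=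
      Algebra.commutes _ _
    have c2 : algebraMap F C (aug b) * a = a * algebraMap F C (aug b) :=
      Algebra.commutes _ _
    have c3 : algebraMap F C (aug a) * algebraMap F C (aug b) =
        algebraMap F C (aug b) * algebraMap F C (aug a) := Algebra.commutes _ _
    simp only [sub_mul, mul_sub]
    rw [c1, c2, c3]
    abel
  rw [SetLike.mem_coe, ← e]
  exact main _ ha _ hb

/-- PART A (Kuelshammer): an augmented symmetric algebra with nilpotent augmentation ideal and
centre of dimension `≤ 4` is commutative. -/
theorem comm_of_center_le_four [FiniteDimensional F C] {mu : C →ₗ[F] F} (hmu : IsSymForm mu)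
    (aug : C →ₐ[F] F) (N : ℕ)
    (hN : ∀ f : Fin N → C, (∀ i, aug (f i) = 0) → (List.ofFn f).prod = 0)
    (hZ : Module.finrank F (Subalgebra.center F C) ≤ 4) : ∀ x y : C, x * y = y * x := by
  classical
  have hbotN : augIdeal aug ^ N = ⊥ := pow_eq_bot aug N hN
  have hA0 := Cfsg.Agent.Lib.Helper21.SymAlgA0.finrank_perp hmu (commSpan F C)
  have hA1 := Cfsg.Agent.Lib.Helper21.SymAlgA1.perp_commSpan hmu
  have hZK : Module.finrank F (Subalgebra.center F C) + Module.finrank F (commSpan F C) =
      Module.finrank F C := by
    rw [← hA0, hA1]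
    rfl
  have hJ := finrank_augIdeal (F := F) aug
  have hKle : commSpan F C ≤ augIdeal aug * augIdeal aug := commSpan_le_sq aug
  -- the least exponent killing the augmentation ideal
  have hex : ∃ k, augIdeal aug ^ k = ⊥ := ⟨N, hbotN⟩
  obtain ⟨k0, hk0⟩ : ∃ k0, k0 = Nat.find hex := ⟨_, rfl⟩
  have hk0bot : augIdeal aug ^ k0 = ⊥ := by
    rw [hk0]
    exact Nat.find_spec hex
  rcases Nat.lt_or_ge k0 3 with hlt | hge
  · -- the square vanishes
    have h2 : augIdeal aug * augIdeal aug = ⊥ := by
      rcases Nat.eq_zero_or_pos k0 with h0 | hpos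
      · rw [h0, pow_zero] at hk0bot
        have h1 : (1 : C) ∈ (1 : Submodule F C) := Submodule.one_le.mp le_rfl
        rw [hk0bot, Submodule.mem_bot] at h1
        rw [eq_bot_iff]
        intro z _
        have : z = 0 := by rw [← mul_one z, h1, mul_zero]
        rw [this]
        exact Submodule.zero_mem _
      · have := pow_anti aug hpos (show k0 ≤ 2 by omega)
        rw [hk0bot, pow_two] at this
        exact le_bot_iff.mp this
    apply commSpan_eq_bot_comm (F := F)
    rw [h2] at hKle
    exact le_bot_iff.mp hKle
  · -- `L = k0 - 1 ≥ 2`, a socle element `s` in the `L`-th power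
    obtain ⟨L, hL⟩ : ∃ L, k0 = L + 1 := ⟨k0 - 1, by omega⟩
    have hLne : augIdeal aug ^ L ≠ ⊥ := by
      intro h
      have := Nat.find_min' hex h
      omega
    obtain ⟨s, hsL, hs0⟩ := Submodule.exists_mem_ne_zero_of_ne_bot hLne
    have hkill : ∀ j ∈ augIdeal aug, s * j = 0 := by
      intro j hj
      have h1 : s * j ∈ augIdeal aug ^ L * augIdeal aug := Submodule.mul_mem_mul hsL hj
      rw [← pow_succ, ← hL, hk0bot, Submodule.mem_bot] at h1
      exact h1
    have hsK : s ∉ commSpan F C := socle_not_mem_commSpan hmu aug s hs0 hkill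
    have hs2 : s ∈ augIdeal aug * augIdeal aug := by
      have := pow_anti aug (show 1 ≤ 2 by omega) (show 2 ≤ L by omega) hsL
      rwa [pow_two] at this
    have hKlt : commSpan F C < augIdeal aug * augIdeal aug := by
      refine lt_of_le_of_ne hKle ?_
      intro he
      apply hsK
      rw [he]
      exact hs2
    have hdK := Submodule.finrank_lt_finrank_of_lt hKlt
    by_cases hdim1 : Module.finrank F (augIdeal aug) ≤
        Module.finrank F ↥(augIdeal aug * augIdeal aug) + 1
    · obtain ⟨x, hx, hgen⟩ := exists_generator aug hdim1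
      exact comm_of_generator aug N hN x hx hgen
    · have hdim2 : Module.finrank F (augIdeal aug) ≤
          Module.finrank F ↥(augIdeal aug * augIdeal aug) + 2 := by omega
      obtain ⟨x, hx, y, hy, hgen⟩ := exists_two_generators aug hdim2
      have hKc := commSpan_le_span_sup_cube aug x y hx hy hgen
      -- the cube vanishes
      have h3bot : augIdeal aug ^ 3 = ⊥ := by
        by_contra h3ne
        have hL3 : 3 ≤ L := by
          by_contra hlt3
          apply h3ne
          have := pow_anti aug (show 1 ≤ k0 by omega) (show k0 ≤ 3 by omega)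
          rw [hk0bot] at this
          exact le_bot_iff.mp this
        have hs3 : s ∈ augIdeal aug ^ 3 := pow_anti aug (show 1 ≤ 3 by omega) hL3 hsL
        -- the square is `K + F s`
        have hle : commSpan F C ⊔ Submodule.span F {s} ≤ augIdeal aug * augIdeal aug := by
          refine sup_le hKle ?_
          rw [Submodule.span_le]
          intro w hw
          rw [Set.mem_singleton_iff] at hw
          rw [hw]
          exact hs2
        have hlt : commSpan F C < commSpan F C ⊔ Submodule.span F {s} := by
          refine lt_of_le_of_ne le_sup_left ?_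
          intro he
          apply hsK
          rw [he]
          exact (le_sup_right : Submodule.span F {s} ≤ _) (Submodule.mem_span_singleton_self s)
        have hd := Submodule.finrank_lt_finrank_of_lt hlt
        have heq : commSpan F C ⊔ Submodule.span F {s} = augIdeal aug * augIdeal aug :=
          Submodule.eq_of_le_of_finrank_le hle (by omega)
        have h2 : augIdeal aug * augIdeal aug ≤
            Submodule.span F {x * y - y * x} ⊔ augIdeal aug ^ 3 := by
          rw [← heq]
          refine sup_le hKc (le_trans ?_ le_sup_right)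
          rw [Submodule.span_le]
          intro w hw
          rw [Set.mem_singleton_iff] at hw
          rw [hw]
          exact hs3
        have h34 := cube_le_of_sq_le x y hx hy hgen h2
        exact h3ne (pow_three_eq_bot_of_le aug N hbotN h34)
      -- the square lies in the orthogonal of the augmentation ideal, of dimension one
      have hperp : augIdeal aug * augIdeal aug ≤ perp mu (augIdeal aug) := by
        intro z hz
        rw [mem_perp]
        intro j hj
        have h1 : z * j ∈ (augIdeal aug * augIdeal aug) * augIdeal aug :=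
          Submodule.mul_mem_mul hz hj
        rw [← pow_two (augIdeal aug), ← pow_succ, h3bot, Submodule.mem_bot] at h1
        rw [h1, map_zero]
      have hp := Cfsg.Agent.Lib.Helper21.SymAlgA0.finrank_perp hmu (augIdeal aug)
      have hd2 := Submodule.finrank_mono hperp
      have hK0 : Module.finrank F (commSpan F C) = 0 := by omega
      apply commSpan_eq_bot_comm (F := F)
      exact Submodule.finrank_eq_zero.mp hK0

end Cfsg.Agent.Lib.Helper27.SymAlgK4
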