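/-
helper27: S4648 (helper1's plan): `BlkAlgMainK.blockDegSq_eq_sq_mul_card` with `hcore` discharged by
part A (`SymAlgK4.comm_of_center_le_four`) when `k(B) ≤ 4`.
-/
import Cfsg.Agent.Lib.Helper27.BlkAlgMainK
import Cfsg.Agent.Lib.Helper27.SymAlgK4

set_option autoImplicit false

namespace Cfsg.Agent.Lib.Helper27.BlkAlgMainK4

open Cfsg Cfsg.Agent.Lib.Helper6 Cfsg.Agent.Lib.Helper24
open Cfsg.Agent.Lib.Helper27.SymAlg Cfsg.Agent.Lib.Helper27.BlkAlg
open Cfsg.Agent.Lib.Helper27.BlkAlgMainK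

universe u

/-- `blockDegSq B = n² · k(B)` for a block with one matrix factor and `k(B) ≤ 4` (Kuelshammer) -/
theorem blockDegSq_eq_sq_mul_card_of_le_four (M : Ideal AlgInt) [M.IsMaximal] {G : Type u}
    [Group G] [Fintype G] [Fintype (IrrCharacter G)] {p : ℕ} [Fact p.Prime]
    (hM : IsPModular p M) {B : Set (IrrCharacter G)} (hB : IsPBlock M B)
    (hone : ∀ (l : ℕ) (d : Fin l → ℕ), (∀ i, NeZero (d i)) →
      ∀ π : (ebar_isIdempotentElem M hM hB).Corner →ₐ[ResField M]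
          (Π i : Fin l, Matrix (Fin (d i)) (Fin (d i)) (ResField M)),
        Function.Surjective π →
        (∀ x : (ebar_isIdempotentElem M hM hB).Corner, π x = 0 → IsNilpotent x) → l = 1)
    (hk : Nat.card B ≤ 4) :
    ∃ (n : ℕ) (u : Fin n → Fin n → (ebar_isIdempotentElem M hM hB).Corner), n ≠ 0 ∧
      IsMatrixUnits u ∧ blockDegSq B = n ^ 2 * Nat.card B := by
  have he : IsIdempotentElem (ebar M B) := ebar_isIdempotentElem M hM hB
  have hc := Cfsg.Agent.Lib.Helper18.BlkAlgB3.ebar_comm M B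
  have := Cfsg.Agent.Lib.Helper23.BlkAlgB8.finiteDimensional_corner (F := ResField M) he
  refine blockDegSq_eq_sq_mul_card M hM hB hone ?_
  intro n u _ hu mu hmu aug N hN
  have hZC := Cfsg.Agent.Lib.Helper19.SymAlgA5b.finrank_center_unitsCentralizer
    (F := ResField M) hu
  refine Cfsg.Agent.Lib.Helper27.SymAlgK4.comm_of_center_le_four hmu aug N hN ?_
  rw [hZC, Cfsg.Agent.Lib.Helper23.BlkAlgB8.finrank_center_corner he hc,
    Cfsg.Agent.Lib.Helper22.BlkAlgB5b.finrank_center_block M hM hB]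
  exact hk

end Cfsg.Agent.Lib.Helper27.BlkAlgMainK4
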