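/-
helper27: S4648 (helper1's plan): bridge B1 in the shape `hone` of `BlkAlgMainK4`, and the resulting
dimension formula: a block of `p`-regular rank one with at most four irreducible characters has
`∑_{χ ∈ B} χ(1)² = n² · k(B)`, where `n` is the size of a full set of matrix units of the block algebra.
-/
import Cfsg.Agent.Lib.Helper27.BlkAlgL3
import Cfsg.Agent.Lib.Helper27.BlkAlgMainK4

set_option autoImplicit false

namespace Cfsg.Agent.Lib.Helper27.BlkAlgL

open Cfsg Cfsg.Agent.Lib.Helper6 Cfsg.Agent.Lib.Helper24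
open Cfsg.Agent.Lib.Helper27.SymAlg Cfsg.Agent.Lib.Helper27.BlkAlg
open Cfsg.Agent.Lib.Helper27.BlkAlgMainK

universe u

variable (M : Ideal AlgInt) [hmax : M.IsMaximal] {G : Type u} [Group G] [Fintype G]
variable [Fintype (IrrCharacter G)] {p : ℕ} [hp : Fact p.Prime]

/-- the reduced block idempotent is not zero -/
theorem ebar_ne_zero (hM : IsPModular p M) {B : Set (IrrCharacter G)} (hB : IsPBlock M B) :
    ebar M B ≠ 0 := by
  intro h0
  have h1 := Cfsg.Agent.Lib.Helper22.BlkAlgB5b.finrank_center_block M hM hB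
  have h2 : (Subalgebra.toSubmodule (Subalgebra.center (ResField M)
      (MonoidAlgebra (ResField M) G))).map (LinearMap.mulLeft (ResField M) (ebar M B)) = ⊥ := by
    rw [h0, eq_bot_iff]
    rintro _ ⟨x, _, rfl⟩
    rw [LinearMap.mulLeft_apply, zero_mul]
    exact Submodule.zero_mem _
  rw [h2, finrank_bot] at h1
  obtain ⟨χ₀, rfl⟩ := hB
  have h3 : (blockOf M (χ₀ : G → ℂ)).Nonempty := ⟨χ₀, mem_blockOf_self χ₀⟩
  have h4 : Nat.card (blockOf M (χ₀ : G → ℂ)) ≠ 0 := by
    have : Nonempty (blockOf M (χ₀ : G → ℂ)) := h3.to_subtype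
    exact Nat.card_pos.ne'
  exact h4 h1.symm

/-- BRIDGE B1 in the shape of `hone`: a block of `p`-regular rank one has one matrix factor -/
theorem hone_of_blockRank_one (hM : IsPModular p M) {B : Set (IrrCharacter G)}
    (hB : IsPBlock M B) (hl : blockRank p B = 1) :
    ∀ (l : ℕ) (d : Fin l → ℕ), (∀ i, NeZero (d i)) →
      ∀ π : (ebar_isIdempotentElem M hM hB).Corner →ₐ[ResField M]
          (Π i : Fin l, Matrix (Fin (d i)) (Fin (d i)) (ResField M)),
        Function.Surjective π →
        (∀ x : (ebar_isIdempotentElem M hM hB).Corner, π x = 0 → IsNilpotent x) → l = 1 := by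
  intro l d hd π hπ hnil
  have h1 : l ≤ 1 := by
    rw [← hl]
    exact matrixFactors_le_blockRank M hM hB l d π hπ
  have h2 : l ≠ 0 := by
    intro h0
    subst h0
    have h3 : π 1 = 0 := Subsingleton.elim _ _
    obtain ⟨k, hk⟩ := hnil 1 h3
    rw [one_pow] at hk
    have h4 : ((1 : (ebar_isIdempotentElem M hM hB).Corner)).1 = ebar M B := rfl
    rw [hk] at h4
    exact ebar_ne_zero M hM hB h4.symm
  omega

/-- a block of `p`-regular rank one with at most four irreducible characters:
`∑_{χ ∈ B} χ(1)² = n² · k(B)` (Kuelshammer) -/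
theorem blockDegSq_eq_sq_mul_card_of_rank_one (hM : IsPModular p M) {B : Set (IrrCharacter G)}
    (hB : IsPBlock M B) (hl : blockRank p B = 1) (hk : Nat.card B ≤ 4) :
    ∃ (n : ℕ) (u : Fin n → Fin n → (ebar_isIdempotentElem M hM hB).Corner), n ≠ 0 ∧
      IsMatrixUnits u ∧ blockDegSq B = n ^ 2 * Nat.card B :=
  Cfsg.Agent.Lib.Helper27.BlkAlgMainK4.blockDegSq_eq_sq_mul_card_of_le_four M hM hB
    (hone_of_blockRank_one M hM hB hl) hk

end Cfsg.Agent.Lib.Helper27.BlkAlgL
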