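import Mathlib
import Cfsg.Prelude.Def_ClassicalGeometry
import Cfsg.Prelude.Def_GeometricClasses
import Cfsg.Agent.Lib.Helper2.SOTDefs
import Cfsg.Agent.Lib.Helper2.SOTGDefs

/-!
S5666 (`Sp_a ⊗ O_b` maximal in `Sp_{ab}(q)`, `q` odd), PART (LA) = A-side local analysis (plan §2;
helper27's sub-market of helper2's S5666 market): definitions and the basic block calculus.

`o, o' : Fin a` are the first hyperbolic pair of indices (`o.val = 0`, `o'.val = 1`), `x = e_o`,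
`x* = e_o'`, `R = e_o ⊗ B`, `R^⊥ = ⊕_{i ≠ o'} e_i ⊗ B`.
* `ablk X i j` : the `A`-block `(i,j)` (a `b × b` matrix) of a matrix on `Fin a × Fin b`;
* `rk1 G u v = u v^♭ : y ↦ fB G y v • u`, `refl G d` the reflection, `adjB G σ` the adjoint,
  `IsSelfAdj`, `IsSkewAdj`, `IsOrthB`, `IsScal`, `siegel G z v`;
* `uMat o o' θ ρ Ξ = 1 + Σ_i E_{i,o'} ⊗ θ_i + Σ_j E_{o,j} ⊗ ρ_j + E_{o,o'} ⊗ Ξ` : the general element of the
  unipotent radical `U^x` of the stabiliser of `R` (`θ`, `ρ` supported on the middle indices: `Mid`);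
* `EN o o' = E_{o,o'} ⊗ 1` (so `kA e_o c = 1 - c • EN`), `UA o o' X` : `X` has `U`-form;
* `SX o o' M w` : the matrices `κ` such that `M` contains a `U`-form element with `θ = w ⊗ κ`.
-/

set_option autoImplicit false
set_option linter.unusedSectionVars false
set_option linter.unusedVariables false

namespace Cfsg.Agent.Lib.Helper27.SOTLA
open Matrix
open Cfsg.Agent.Lib.Helper25.Tens Cfsg.Agent.Lib.Helper25.SpT Cfsg.Agent.Lib.Helper19.OSub
open Cfsg.Agent.Lib.Helper2.SOT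
open scoped Kronecker

variable {F : Type*} [Field F] {a b : ℕ}

/-! ### `A`-blocks -/

/-- `A`-block `(i,j)` of a matrix on `Fin a × Fin b` -/
def ablk (X : Matrix (Idx a b) (Idx a b) F) (i j : Fin a) : Matrix (Fin b) (Fin b) F :=
  fun k l => X (i, k) (j, l)

lemma ablk_apply (X : Matrix (Idx a b) (Idx a b) F) (i j : Fin a) (k l : Fin b) :
    ablk X i j k l = X (i, k) (j, l) := rfl

lemma ablk_mul (X Y : Matrix (Idx a b) (Idx a b) F) (i j : Fin a) :
    ablk (X * Y) i j = ∑ m, ablk X i m * ablk Y m j := by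
  ext k l
  simp only [ablk, Matrix.mul_apply, Fintype.sum_prod_type, Matrix.sum_apply]

lemma ablk_one (i j : Fin a) :
    ablk (1 : Matrix (Idx a b) (Idx a b) F) i j = if i = j then 1 else 0 := by
  ext k l
  simp only [ablk, Matrix.one_apply, Prod.mk.injEq]
  by_cases h1 : i = j <;> by_cases h2 : k = l <;> simp [h1, h2, Matrix.one_apply]

lemma ablk_kron (α : Matrix (Fin a) (Fin a) F) (β : Matrix (Fin b) (Fin b) F) (i j : Fin a) :
    ablk (α ⊗ₖ β) i j = α i j • β := by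
  ext k l
  simp only [ablk, Matrix.kroneckerMap_apply, Matrix.smul_apply, smul_eq_mul]

lemma ablk_add (X Y : Matrix (Idx a b) (Idx a b) F) (i j : Fin a) :
    ablk (X + Y) i j = ablk X i j + ablk Y i j := rfl

lemma ablk_sub (X Y : Matrix (Idx a b) (Idx a b) F) (i j : Fin a) :
    ablk (X - Y) i j = ablk X i j - ablk Y i j := rfl

lemma ablk_neg (X : Matrix (Idx a b) (Idx a b) F) (i j : Fin a) :
    ablk (-X) i j = -ablk X i j := rfl

lemma ablk_smul (c : F) (X : Matrix (Idx a b) (Idx a b) F) (i j : Fin a) :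
    ablk (c • X) i j = c • ablk X i j := rfl

lemma ablk_zero (i j : Fin a) : ablk (0 : Matrix (Idx a b) (Idx a b) F) i j = 0 := rfl

lemma ablk_sum {ι : Type*} (s : Finset ι) (f : ι → Matrix (Idx a b) (Idx a b) F) (i j : Fin a) :
    ablk (∑ m ∈ s, f m) i j = ∑ m ∈ s, ablk (f m) i j := by
  ext k l
  simp only [ablk, Matrix.sum_apply]

/-- a matrix is determined by its `A`-blocks -/
lemma ext_ablk {X Y : Matrix (Idx a b) (Idx a b) F} (h : ∀ i j, ablk X i j = ablk Y i j) :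
    X = Y := by
  ext ⟨i, k⟩ ⟨j, l⟩
  exact congrFun (congrFun (h i j) k) l

/-- the action on `e_j ⊗ y` in terms of `A`-blocks -/
lemma mulVec_pt_single_left (X : Matrix (Idx a b) (Idx a b) F) (j : Fin a) (y : Fin b → F) :
    X *ᵥ pt (Pi.single j (1 : F)) y = fun p => (ablk X p.1 j *ᵥ y) p.2 := by
  ext ⟨i, k⟩
  simp only [Matrix.mulVec, dotProduct, pt, ablk, Fintype.sum_prod_type]
  rw [Finset.sum_eq_single j]
  · simp
  · intro j' _ hj'
    simp [hj']
  · simp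

/-! ### algebra on `B` -/

variable (G : Matrix (Fin b) (Fin b) F)

/-- `u v^♭ : y ↦ fB G y v • u` -/
def rk1 (u v : Fin b → F) : Matrix (Fin b) (Fin b) F := Matrix.vecMulVec u (G *ᵥ v)

lemma rk1_mulVec (u v y : Fin b → F) : rk1 G u v *ᵥ y = fB G y v • u := by
  unfold rk1 fB
  rw [Matrix.vecMulVec_mulVec, dotProduct_comm]
  ext i
  simp [mul_comm]

/-- the reflection in the nonsingular vector `d` -/
def refl (d : Fin b → F) : Matrix (Fin b) (Fin b) F := 1 - (2 / fB G d d) • rk1 G d d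

/-- the `fB G`-adjoint -/
noncomputable def adjB (σ : Matrix (Fin b) (Fin b) F) : Matrix (Fin b) (Fin b) F := G⁻¹ * σᵀ * G

/-- `fB G (σ y) y' = fB G y (σ y')` -/
def IsSelfAdj (σ : Matrix (Fin b) (Fin b) F) : Prop := G * σ = σᵀ * G

/-- `fB G (κ y) y' = - fB G y (κ y')` -/
def IsSkewAdj (κ : Matrix (Fin b) (Fin b) F) : Prop := G * κ = -(κᵀ * G)

/-- `fB G (β y) (β y') = fB G y y'` -/
def IsOrthB (β : Matrix (Fin b) (Fin b) F) : Prop := βᵀ * G * β = G

/-- the Siegel element `η_{z,v}` (`z` singular, `v ⊥ z`):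
`y ↦ y + fB y z • v - fB y v • z - (Q(v)/2) fB y z • z` -/
def siegel (z v : Fin b → F) : Matrix (Fin b) (Fin b) F :=
  1 + rk1 G v z - rk1 G z v - (fB G v v / 2) • rk1 G z z

variable {G}

/-- scalar matrices -/
def IsScal (σ : Matrix (Fin b) (Fin b) F) : Prop := ∃ c : F, σ = c • (1 : Matrix (Fin b) (Fin b) F)

lemma isScal_smul_one (c : F) : IsScal (c • (1 : Matrix (Fin b) (Fin b) F)) := ⟨c, rfl⟩

lemma isScal_one : IsScal (1 : Matrix (Fin b) (Fin b) F) := ⟨1, by rw [one_smul]⟩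

lemma isScal_zero : IsScal (0 : Matrix (Fin b) (Fin b) F) := ⟨0, by rw [zero_smul]⟩

/-! ### the unipotent radical `U^x`, `x = e_o` -/

/-- supported on the middle indices -/
def Mid (o o' : Fin a) (θ : Fin a → Matrix (Fin b) (Fin b) F) : Prop := θ o = 0 ∧ θ o' = 0

/-- the general element of `U^x` -/
def uMat (o o' : Fin a) (θ ρ : Fin a → Matrix (Fin b) (Fin b) F) (Ξ : Matrix (Fin b) (Fin b) F) :
    Matrix (Idx a b) (Idx a b) F :=
  1 + ∑ i, Matrix.single i o' (1 : F) ⊗ₖ θ i + ∑ j, Matrix.single o j (1 : F) ⊗ₖ ρ j +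
    Matrix.single o o' (1 : F) ⊗ₖ Ξ

/-- `N = E_{o,o'} ⊗ 1`: `Im N = R`, `Ker N = R^⊥`, `kA e_o c = 1 - c • N` -/
def EN (o o' : Fin a) : Matrix (Idx a b) (Idx a b) F :=
  Matrix.single o o' (1 : F) ⊗ₖ (1 : Matrix (Fin b) (Fin b) F)

/-- `U`-form in terms of `A`-blocks -/
def UA (o o' : Fin a) (X : Matrix (Idx a b) (Idx a b) F) : Prop :=
  (∀ i j : Fin a, i ≠ o → j ≠ o' → ablk X i j = if i = j then 1 else 0) ∧
    ablk X o o = 1 ∧ ablk X o' o' = 1

/-- the matrices `κ` such that `M` contains a `U`-form element with `θ = w ⊗ κ` -/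
def SX (o o' : Fin a) (M : Subgroup (GL (Idx a b) F)) (w : Fin a → F) :
    Set (Matrix (Fin b) (Fin b) F) :=
  {κ | ∃ (ρ : Fin a → Matrix (Fin b) (Fin b) F) (Ξ : Matrix (Fin b) (Fin b) F), Mid o o' ρ ∧
    InM M (uMat o o' (fun i => w i • κ) ρ Ξ)}

/-- the element `α_w ⊗ 1` of `Y_x` (`w` in the middle space `A₀`):
`x' ↦ x' + sf x' e_o • w + sf x' w • e_o` -/
def uAel (o : Fin a) (w : Fin a → F) : GL (Idx a b) F :=
  kA (Pi.single o 1 + w) 1 * kA (Pi.single o 1) (-1) * kA w (-1)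

/-- block-diagonal `α = 1₂ ⊕ φ` w.r.t. `A = ⟨e_o, e_o'⟩ ⊕ A₀` -/
def BlockDiag (o o' : Fin a) (α : Matrix (Fin a) (Fin a) F) : Prop :=
  α o o = 1 ∧ α o' o' = 1 ∧ α o o' = 0 ∧ α o' o = 0 ∧
    ∀ i : Fin a, i ≠ o → i ≠ o' → α i o = 0 ∧ α i o' = 0 ∧ α o i = 0 ∧ α o' i = 0

/-- the torus element `diag(t, t⁻¹, 1, …, 1)` -/
def torA (o o' : Fin a) (t : F) : Matrix (Fin a) (Fin a) F :=
  Matrix.diagonal (fun i => if i = o then t else if i = o' then t⁻¹ else 1)

end Cfsg.Agent.Lib.Helper27.SOTLA
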