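import Cfsg.Agent.Lib.Helper26.FSGroup
import Cfsg.Agent.Lib.Helper26.FSNormalCrit

/-!
Relative version of `Helper26.FSGroup`: the fusion system `F_T(H)` of a subgroup `H` of a finite group on a
Sylow `p`-subgroup `T` of `H` (everything inside an ambient group `G`) is saturated.
-/

set_option autoImplicit false

namespace Cfsg.Agent.Lib.Helper27

open Cfsg Cfsg.FusionSystem Cfsg.Agent.Lib.Helper26

section SubFS

variable {G : Type*} [Group G]

theorem mem_subFS_hom (H T : Subgroup G) (hTH : T ≤ H) (P : Subgroup G) (φ : P →* G) :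
    φ ∈ (fusionSystemOfSubgroup H T hTH).Hom P ↔
      P ≤ T ∧ (∀ x : P, φ x ∈ T) ∧ ∃ g ∈ H, ∀ x : P, φ x = g * (x : G) * g⁻¹ := Iff.rfl

theorem conjHom_mem_subFS {H T : Subgroup G} (hTH : T ≤ H) {P : Subgroup G} (hP : P ≤ T) {g : G} (hg : g ∈ H)
    (h : P.map (MulAut.conj g).toMonoidHom ≤ T) :
    conjHom P g ∈ (fusionSystemOfSubgroup H T hTH).Hom P :=
  ⟨hP, fun x => h ⟨x, x.2, rfl⟩, g, hg, fun _ => rfl⟩

theorem subFS_isConj_iff (H T : Subgroup G) (hTH : T ≤ H) (P Q : Subgroup G) :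
    (fusionSystemOfSubgroup H T hTH).IsConj P Q ↔
      P ≤ T ∧ Q ≤ T ∧ ∃ g ∈ H, P.map (MulAut.conj g).toMonoidHom = Q := by
  constructor
  · rintro ⟨φ, ⟨hP, hφS, g, hgH, hg⟩, rfl⟩
    refine ⟨hP, ?_, g, hgH, ?_⟩
    · rintro _ ⟨x, rfl⟩
      exact hφS x
    · rw [eq_conjHom_of_forall hg, conjHom_range]
  · rintro ⟨hP, hQ, g, hg, rfl⟩
    exact ⟨conjHom P g, conjHom_mem_subFS hTH hP hg hQ, conjHom_range P g⟩

theorem subFS_autGroup_eq {H T : Subgroup G} (hTH : T ≤ H) {Q : Subgroup G} (hQ : Q ≤ T) :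
    (fusionSystemOfSubgroup H T hTH).autGroup Q = autInducedBy H Q := by
  ext α
  rw [mem_autGroup_iff _ hQ, mem_autInducedBy_iff, mem_subFS_hom]
  constructor
  · rintro ⟨-, -, g, hgH, hg⟩
    exact ⟨g, hgH, hg⟩
  · rintro ⟨g, hgH, hg⟩
    exact ⟨hQ, fun x => hQ (α x).2, g, hgH, hg⟩

/-- `N_H(Q)` normalizes `C_H(Q)`. -/
theorem normalizerIn_le_normalizer_centralizerIn (H Q : Subgroup G) :
    normalizerIn H Q ≤ Subgroup.normalizer ((centralizerIn H Q : Subgroup G) : Set G) := by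
  intro x hx
  have h1 : ∀ y : G, y ∈ normalizerIn H Q → ∀ c ∈ centralizerIn H Q, y * c * y⁻¹ ∈ centralizerIn H Q := by
    intro y hy c hc
    refine ⟨H.mul_mem (H.mul_mem hy.1 hc.1) (H.inv_mem hy.1), ?_⟩
    have h2 := normalizer_le_normalizer_centralizer Q hy.2
    exact (Subgroup.mem_normalizer_iff.mp h2 c).mp hc.2
  rw [Subgroup.mem_normalizer_iff]
  intro c
  refine ⟨h1 x hx c, fun h => ?_⟩
  have := h1 x⁻¹ (Subgroup.inv_mem _ hx) _ h
  simpa [mul_assoc] using this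

variable [Finite G] {p : ℕ} [Fact p.Prime]

/-- Fully normalized in `F_T(H)` (with `T` Sylow in `H`) implies `N_T(P)` Sylow in `N_H(P)`. -/
theorem subFS_sylow_normalizer_of_fullyNormalized {H T : Subgroup G} (hTH : T ≤ H)
    (hSyl : ∃ R : Sylow p H, (R : Subgroup H) = T.subgroupOf H) {P : Subgroup G}
    (hP : (fusionSystemOfSubgroup H T hTH).IsFullyNormalized P) :
    ∃ R : Sylow p ↥(normalizerIn H P),
      (R : Subgroup ↥(normalizerIn H P)) = (normalizerIn T P).subgroupOf (normalizerIn H P) := by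
  have hTp : IsPGroup p T := ((sylowIn_iff_card hTH).mp hSyl).1
  have hle : normalizerIn T P ≤ normalizerIn H P := inf_le_inf hTH le_rfl
  rw [sylowIn_iff_card hle]
  refine ⟨hTp.to_le inf_le_left, fun B hBN hB => ?_⟩
  have hPT : P ≤ T := hP.1
  have hPp : IsPGroup p P := hTp.to_le hPT
  have hPB : IsPGroup p (B ⊔ P : Subgroup G) :=
    hB.to_sup_of_normal_right' hPp (hBN.trans inf_le_right)
  have hBPH : B ⊔ P ≤ H := sup_le (hBN.trans inf_le_left) (hPT.trans hTH)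
  obtain ⟨g, hgH, hg⟩ := exists_conj_le_of_sylowIn hSyl hBPH hPB
  have hQT : P.map (MulAut.conj g).toMonoidHom ≤ T := (map_conj_mono le_sup_right g).trans hg
  have hconjPQ : (fusionSystemOfSubgroup H T hTH).IsConj P (P.map (MulAut.conj g).toMonoidHom) :=
    (subFS_isConj_iff _ _ _ _ _).mpr ⟨hPT, hQT, g, hgH, rfl⟩
  have hBle : B.map (MulAut.conj g).toMonoidHom ≤ normalizerIn T (P.map (MulAut.conj g).toMonoidHom) := by
    apply le_inf ((map_conj_mono le_sup_left g).trans hg)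
    rw [← map_conj_normalizer]
    exact map_conj_mono (hBN.trans inf_le_right) g
  calc Nat.card B = Nat.card (B.map (MulAut.conj g).toMonoidHom) := (card_map_conj B g).symm
    _ ≤ Nat.card ↥(normalizerIn T (P.map (MulAut.conj g).toMonoidHom)) := Subgroup.card_le_of_le hBle
    _ ≤ _ := hP.2 _ hconjPQ

/-- If `N_T(Q)` is Sylow in `N_H(Q)`, any `p`-subgroup of `N_T(Q) C_H(Q)` can be conjugated into `N_T(Q)` by an
element of `C_H(Q)`. -/
theorem exists_centralizerIn_conj_le {H T : Subgroup G} (hTH : T ≤ H) (Q : Subgroup G)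
    (hN : ∃ R : Sylow p ↥(normalizerIn H Q),
      (R : Subgroup ↥(normalizerIn H Q)) = (normalizerIn T Q).subgroupOf (normalizerIn H Q))
    {B : Subgroup G} (hB : IsPGroup p B)
    (hBK : B ≤ normalizerIn T Q ⊔ centralizerIn H Q) :
    ∃ c ∈ centralizerIn H Q, B.map (MulAut.conj c).toMonoidHom ≤ normalizerIn T Q := by
  have hNS : normalizerIn T Q ≤ normalizerIn H Q := inf_le_inf hTH le_rfl
  have hCN : centralizerIn H Q ≤ normalizerIn H Q :=
    inf_le_inf le_rfl (Subgroup.centralizer_le_normalizer _)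
  have hK : normalizerIn T Q ⊔ centralizerIn H Q ≤ normalizerIn H Q := sup_le hNS hCN
  have hcard := (sylowIn_iff_card hNS).mp hN
  have hSylK : ∃ R : Sylow p ↥(normalizerIn T Q ⊔ centralizerIn H Q),
      (R : Subgroup _) = (normalizerIn T Q).subgroupOf (normalizerIn T Q ⊔ centralizerIn H Q) := by
    rw [sylowIn_iff_card le_sup_left]
    exact ⟨hcard.1, fun B hBK hB => hcard.2 B (hBK.trans hK) hB⟩
  obtain ⟨k, hkK, hk⟩ := exists_conj_le_of_sylowIn hSylK hBK hB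
  have hkK' : k ∈ ((normalizerIn T Q ⊔ centralizerIn H Q : Subgroup G) : Set G) := hkK
  rw [Subgroup.coe_mul_of_left_le_normalizer_right _ _
    (hNS.trans (normalizerIn_le_normalizer_centralizerIn H Q))] at hkK'
  obtain ⟨s, hs, c, hc, rfl⟩ := hkK'
  refine ⟨c, hc, ?_⟩
  rintro _ ⟨y, hy, rfl⟩
  have h1 : s * c * y * (s * c)⁻¹ ∈ normalizerIn T Q := hk ⟨y, hy, rfl⟩
  have h2 : s⁻¹ * (s * c * y * (s * c)⁻¹) * s ∈ normalizerIn T Q :=
    Subgroup.mul_mem _ (Subgroup.mul_mem _ (Subgroup.inv_mem _ hs) h1) hs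
  have h3 : s⁻¹ * (s * c * y * (s * c)⁻¹) * s = c * y * c⁻¹ := by
    simp [mul_assoc]
  rw [h3] at h2
  exact h2

/-- The surjection `N_H(Q) → Aut_H(Q)`. -/
noncomputable def normalizerInToAut (H Q : Subgroup G) :
    ↥(normalizerIn H Q) →* ↥(autInducedBy H Q) :=
  (Q.normalizerMonoidHom.comp (Subgroup.inclusion (inf_le_right : normalizerIn H Q ≤ _))).codRestrict
    (autInducedBy H Q) (fun x => normalizerMonoidHom_mem_autInducedBy x.2.1 x.2.2)

theorem normalizerInToAut_surjective (H Q : Subgroup G) : Function.Surjective (normalizerInToAut H Q) := by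
  rintro ⟨α, hα⟩
  obtain ⟨g, hgH, hgN, rfl⟩ := (mem_autInducedBy_iff' _ _ _).mp hα
  exact ⟨⟨g, hgH, hgN⟩, rfl⟩

/-- If `N_T(Q)` is Sylow in `N_H(Q)` then `Aut_T(Q)` is Sylow in `Aut_H(Q)`. -/
theorem sylow_autIn_of_sylow_normalizerIn {H T : Subgroup G} (hTH : T ≤ H) (Q : Subgroup G)
    (hN : ∃ R : Sylow p ↥(normalizerIn H Q),
      (R : Subgroup ↥(normalizerIn H Q)) = (normalizerIn T Q).subgroupOf (normalizerIn H Q)) :
    ∃ R : Sylow p ↥(autInducedBy H Q),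
      (R : Subgroup ↥(autInducedBy H Q)) = (autInducedBy T Q).subgroupOf (autInducedBy H Q) := by
  obtain ⟨R, hR⟩ := hN
  refine ⟨R.mapSurjective (normalizerInToAut_surjective H Q), ?_⟩
  rw [Sylow.coe_mapSurjective, hR]
  ext ⟨α, hα⟩
  rw [Subgroup.mem_subgroupOf, Subgroup.mem_map]
  constructor
  · rintro ⟨x, hx, hxα⟩
    rw [Subgroup.mem_subgroupOf] at hx
    have : α = Q.normalizerMonoidHom ⟨x, x.2.2⟩ := by
      have := congrArg Subtype.val hxα
      exact this.symm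
    show α ∈ autInducedBy T Q
    rw [this]
    exact normalizerMonoidHom_mem_autInducedBy hx.1 x.2.2
  · intro h
    obtain ⟨g, hgT, hgN, rfl⟩ := (mem_autInducedBy_iff' _ _ _).mp h
    refine ⟨⟨g, hTH hgT, hgN⟩, ?_, rfl⟩
    rw [Subgroup.mem_subgroupOf]
    exact ⟨hgT, hgN⟩

theorem subFS_fullyAutomized_of_sylow_normalizer {H T : Subgroup G} (hTH : T ≤ H) {Q : Subgroup G}
    (hQ : Q ≤ T)
    (hN : ∃ R : Sylow p ↥(normalizerIn H Q),
      (R : Subgroup ↥(normalizerIn H Q)) = (normalizerIn T Q).subgroupOf (normalizerIn H Q)) :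
    (fusionSystemOfSubgroup H T hTH).IsFullyAutomized p Q := by
  refine ⟨hQ, ?_⟩
  rw [subFS_autGroup_eq hTH hQ]
  exact sylow_autIn_of_sylow_normalizerIn hTH Q hN

theorem subFS_receptive_of_sylow_normalizer {H T : Subgroup G} (hTH : T ≤ H) (hTp : IsPGroup p T)
    {Q : Subgroup G} (hQ : Q ≤ T)
    (hN : ∃ R : Sylow p ↥(normalizerIn H Q),
      (R : Subgroup ↥(normalizerIn H Q)) = (normalizerIn T Q).subgroupOf (normalizerIn H Q)) :
    (fusionSystemOfSubgroup H T hTH).IsReceptive Q := by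
  refine ⟨hQ, ?_⟩
  rintro P φ ⟨hP, hφS, g, hgH, hg⟩ hφQ
  have hφ : φ = conjHom P g := eq_conjHom_of_forall hg
  have hPQ : P.map (MulAut.conj g).toMonoidHom = Q := by rw [← hφQ, hφ, conjHom_range]
  set E := extender T P φ with hE
  have hES : E ≤ T := (extender_le _ _ _).trans inf_le_left
  have hEp : IsPGroup p E := hTp.to_le hES
  -- `E^g ≤ N_T(Q) C_H(Q)`
  have hBK : E.map (MulAut.conj g).toMonoidHom ≤ normalizerIn T Q ⊔ centralizerIn H Q := by
    rintro _ ⟨x, hx, rfl⟩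
    obtain ⟨hxS, hxN, h, hhS, hh⟩ := (mem_extender_iff _ _ _ _).mp hx
    show g * x * g⁻¹ ∈ _
    -- `c = h⁻¹ (g x g⁻¹)` centralizes `Q`
    have hc : h⁻¹ * (g * x * g⁻¹) ∈ Subgroup.centralizer (Q : Set G) := by
      rw [Subgroup.mem_centralizer_iff]
      intro q hq
      rw [← hPQ] at hq
      obtain ⟨y, hy, rfl⟩ := hq
      have hxy : x * y * x⁻¹ ∈ P := (Subgroup.mem_normalizer_iff.mp hxN y).mp hy
      have h1 := hh ⟨y, hy⟩ hxy
      rw [hg, hg] at h1
      show g * y * g⁻¹ * (h⁻¹ * (g * x * g⁻¹)) = h⁻¹ * (g * x * g⁻¹) * (g * y * g⁻¹)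
      have h2 : g * (x * y * x⁻¹) * g⁻¹ = h * (g * y * g⁻¹) * h⁻¹ := h1
      have h3 : g * y * g⁻¹ = h⁻¹ * (g * (x * y * x⁻¹) * g⁻¹) * h := by
        rw [h2]; simp [mul_assoc]
      calc g * y * g⁻¹ * (h⁻¹ * (g * x * g⁻¹))
          = h⁻¹ * (g * (x * y * x⁻¹) * g⁻¹) * h * (h⁻¹ * (g * x * g⁻¹)) := by rw [← h3]
        _ = h⁻¹ * (g * x * g⁻¹) * (g * y * g⁻¹) := by simp [mul_assoc]
    have hcH : h⁻¹ * (g * x * g⁻¹) ∈ H :=
      H.mul_mem (H.inv_mem (hTH hhS)) (H.mul_mem (H.mul_mem hgH (hTH hxS)) (H.inv_mem hgH))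
    -- `g x g⁻¹` normalizes `Q`
    have hgxN : g * x * g⁻¹ ∈ Subgroup.normalizer (Q : Set G) := by
      have : g * x * g⁻¹ ∈ (Subgroup.normalizer (P : Set G)).map (MulAut.conj g).toMonoidHom :=
        ⟨x, hxN, rfl⟩
      rwa [map_conj_normalizer, hPQ] at this
    have hhN : h ∈ Subgroup.normalizer (Q : Set G) := by
      have h1 : h = (g * x * g⁻¹) * (h⁻¹ * (g * x * g⁻¹))⁻¹ := by simp [mul_assoc]
      rw [h1]
      exact Subgroup.mul_mem _ hgxN (Subgroup.inv_mem _ (Subgroup.centralizer_le_normalizer _ hc))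
    have h4 : g * x * g⁻¹ = h * (h⁻¹ * (g * x * g⁻¹)) := by simp [mul_assoc]
    rw [h4]
    exact Subgroup.mul_mem _ (Subgroup.mem_sup_left ⟨hhS, hhN⟩) (Subgroup.mem_sup_right ⟨hcH, hc⟩)
  obtain ⟨c, hc, hcB⟩ := exists_centralizerIn_conj_le hTH Q hN (isPGroup_map_conj hEp g) hBK
  rw [map_conj_map_conj] at hcB
  refine ⟨conjHom E (c * g), conjHom_mem_subFS hTH hES (H.mul_mem hc.1 hgH) (hcB.trans inf_le_left), ?_⟩
  intro x hxP hxE
  rw [hg]
  show c * g * x * (c * g)⁻¹ = g * x * g⁻¹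
  have hq : g * x * g⁻¹ ∈ Q := by rw [← hPQ]; exact ⟨x, hxP, rfl⟩
  have := (Subgroup.mem_centralizer_iff.mp hc.2) _ hq
  calc c * g * x * (c * g)⁻¹ = c * (g * x * g⁻¹) * c⁻¹ := by simp [mul_assoc]
    _ = (g * x * g⁻¹) * c * c⁻¹ := by rw [← this]
    _ = g * x * g⁻¹ := by simp

/-- **Saturation of `F_T(H)` for `T` a Sylow `p`-subgroup of `H`.** -/
theorem subFS_saturated {H T : Subgroup G} (hTH : T ≤ H)
    (hSyl : ∃ R : Sylow p H, (R : Subgroup H) = T.subgroupOf H) :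
    (fusionSystemOfSubgroup H T hTH).IsSaturated p := by
  have hTp : IsPGroup p T := ((sylowIn_iff_card hTH).mp hSyl).1
  intro P hP
  obtain ⟨Q, hPQ, hQn⟩ := exists_fullyNormalized_conj (fusionSystemOfSubgroup H T hTH) hP
  have hN := subFS_sylow_normalizer_of_fullyNormalized hTH hSyl hQn
  exact ⟨Q, hPQ, subFS_fullyAutomized_of_sylow_normalizer hTH hQn.1 hN,
    subFS_receptive_of_sylow_normalizer hTH hTp hQn.1 hN⟩

/-- For `H` normal in `G` and `S` a Sylow `p`-subgroup of `G`, `S ∩ H` is a Sylow `p`-subgroup of `H`. -/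
theorem sylowIn_inf_of_normal (S : Sylow p G) (H : Subgroup G) [H.Normal] :
    ∃ R : Sylow p H, (R : Subgroup H) = ((S : Subgroup G) ⊓ H).subgroupOf H := by
  rw [sylowIn_iff_card inf_le_right]
  refine ⟨S.isPGroup'.to_le inf_le_left, fun B hBH hB => ?_⟩
  obtain ⟨g, hg⟩ := exists_conj_le_sylow S hB
  rw [← card_map_conj B g]
  apply Subgroup.card_le_of_le
  apply le_inf hg
  rintro _ ⟨x, hx, rfl⟩
  exact Subgroup.Normal.conj_mem inferInstance x (hBH hx) g

end SubFS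

end Cfsg.Agent.Lib.Helper27
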