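import Cfsg.Agent.Lib.Helper27.FSTwist
import Cfsg.Agent.Lib.Helper27.FSSubgroupSat
import Cfsg.Agent.Lib.Helper26.FSInvariantFrattini
import Cfsg.Agent.Lib.Helper8.PResidual

set_option autoImplicit false

/-! Subsystems of index prime to `p`: the Frattini decomposition `F = Aut_F(S) ∘ E`. -/

namespace Cfsg.Agent.Lib.Helper27

open Cfsg Cfsg.FusionSystem Cfsg.Agent.Lib.Helper26

variable {Ω : Type*} [Group Ω] {S : Subgroup Ω}

/-- The subgroup of `Aut_F(P)` generated by its elements of `p`-power order, inside `Aut(P)`. -/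
def pgenAut (F : FusionSystem S) (p : ℕ) (P : Subgroup Ω) : Subgroup (MulAut P) :=
  (Subgroup.closure {α : F.autGroup P | ∃ k : ℕ, orderOf α = p ^ k}).map (F.autGroup P).subtype

theorem autInducedBy_self_le_inn' : autInducedBy S S ≤ Inn S := by
  unfold autInducedBy
  rw [Subgroup.closure_le]
  rintro α ⟨g, hg, hα⟩
  refine ⟨⟨g, hg⟩, ?_⟩
  ext x
  rw [hα]
  rfl

/-- An essential subgroup is proper. -/
theorem essential_ne_top [Finite S] {p : ℕ} [Fact p.Prime] (hS : IsPGroup p S) (F : FusionSystem S)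
    (hF : F.IsSaturated p) {Q : Subgroup Ω} (hQ : F.IsEssential p Q) : Q ≠ S := by
  intro hQS
  subst hQS
  obtain ⟨hc, hfn, hnorm, Y, hY⟩ := hQ
  obtain ⟨-, R, hR⟩ := (saturated_fn hS F hF hfn).2
  have heq : (Inn Q).subgroupOf (F.autGroup Q) = (R : Subgroup (F.autGroup Q)) := by
    rw [hR]
    congr 1
    exact le_antisymm (inn_le_autInducedBy le_rfl) autInducedBy_self_le_inn'
  have h1 := hY.1
  rw [← Subgroup.index_eq_card, heq] at h1
  exact R.not_dvd_index h1

/-- The twist system contains the `p`-elements of `Aut_F(P)` for `F`-centric `P` if `E` does. -/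
theorem pgenAut_le_twistSystem (F E : FusionSystem S) (p : ℕ)
    (h : ∀ P : Subgroup Ω, F.IsCentric P → pgenAut F p P ≤ E.autGroup P) {P : Subgroup Ω}
    (hPc : F.IsCentric P) : pgenAut F p P ≤ (twistSystem F E).autGroup P := by
  unfold pgenAut
  rw [MonoidHom.map_closure, Subgroup.closure_le]
  rintro _ ⟨ξ, ⟨k, hk⟩, rfl⟩
  have hP : P ≤ S := hPc.1
  apply Subgroup.subset_closure
  show P.subtype.comp (ξ : MulAut P).toMonoidHom ∈ (twistSystem F E).Hom P
  have hξF : P.subtype.comp (ξ : MulAut P).toMonoidHom ∈ F.Hom P := (mem_autGroup_iff F hP _).mp ξ.2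
  refine ⟨hξF, ?_⟩
  rintro β hβ Q rfl
  have he := resIso_isFIso F hβ hP
  have hQc : F.IsCentric (imgAut β P) :=
    ⟨imgAut_le β P, fun R hR =>
      hPc.2 R (isConj_trans F ((isConj_iff_exists_isFIso F).mpr ⟨resIso F hβ hP, he⟩) hR)⟩
  have hξ'F : MulAut.congr (resIso F hβ hP) (ξ : MulAut P) ∈ F.autGroup (imgAut β P) :=
    congr_mem_autGroup F he ξ.2
  have hord : orderOf (⟨MulAut.congr (resIso F hβ hP) (ξ : MulAut P), hξ'F⟩ : F.autGroup (imgAut β P)) =
      p ^ k := by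
    rw [Subgroup.orderOf_mk, MulEquiv.orderOf_eq, ← hk, Subgroup.orderOf_coe]
  have hmem : MulAut.congr (resIso F hβ hP) (ξ : MulAut P) ∈ E.autGroup (imgAut β P) :=
    h _ hQc ⟨⟨_, hξ'F⟩, Subgroup.subset_closure ⟨k, hord⟩, rfl⟩
  refine ⟨_, (mem_autGroup_iff E (imgAut_le β P) _).mp hmem, ?_⟩
  intro y hy h' z hz
  have e1 := resIso_symm_apply F hβ hP y hy h'
  show (((resIso F hβ hP) ((ξ : MulAut P) ((resIso F hβ hP).symm ⟨β y, h'⟩)) : imgAut β P) : Ω) = _
  rw [e1, resIso_apply]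
  congr 2
  exact Subtype.ext hz.symm

/-- The fusion system of the decomposable maps. -/
def decSystem (E₀ F : FusionSystem S) (hinv : AutInv E₀ F) : FusionSystem S where
  Hom P := {φ | φ ∈ F.Hom P ∧ Dec E₀ F P φ}
  le_of_mem h := F.le_of_mem h.1
  injective_of_mem h := F.injective_of_mem h.1
  conj_mem hP hg := ⟨F.conj_mem hP hg, dec_of_mem (E₀.conj_mem hP hg)⟩
  comp_mem hφ hψ h := ⟨F.comp_mem hφ.1 hψ.1 h, Dec.comp hinv hφ.2 hψ.2 h⟩
  inv_mem := by
    rintro P φ ⟨hφ, hd⟩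
    obtain ⟨ψ, hψ, hψx⟩ := F.inv_mem hφ
    exact ⟨ψ, ⟨hψ, Dec.inv hinv hd ψ hψx⟩, hψx⟩

/-- Frattini decomposition: if the invariant subsystem `E₀` contains the `p`-elements of `Aut_F(P)` for all
`F`-centric `P`, every map of `F` is an element of `Aut_F(S)` composed with a map of `E₀`. -/
theorem hom_subset_decSystem [Finite S] {p : ℕ} [Fact p.Prime] (hS : IsPGroup p S) (F : FusionSystem S)
    (hF : F.IsSaturated p) (E₀ : FusionSystem S) (hE₀F : ∀ P : Subgroup Ω, E₀.Hom P ⊆ F.Hom P)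
    (hinv : AutInv E₀ F) (hK : ∀ P : Subgroup Ω, F.IsCentric P → pgenAut F p P ≤ E₀.autGroup P) :
    ∀ P : Subgroup Ω, F.Hom P ⊆ (decSystem E₀ F hinv).Hom P := by
  apply alperin_strong hS F hF
  intro P hP IH
  rcases hP with rfl | hess
  · intro α hα
    rw [mem_autGroup_iff _ le_rfl]
    exact ⟨(mem_autGroup_iff F le_rfl α).mp hα, dec_of_aut le_rfl hα (fun x => rfl)⟩
  · have hne : P ≠ S := essential_ne_top hS F hF hess
    obtain ⟨hcen, hfn, -⟩ := hess
    have hPS : P ≤ S := hfn.1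
    have hfinP : Finite P := finite_of_le hPS
    obtain ⟨-, R, hR⟩ := (saturated_fn hS F hF hfn).2
    have hRec := saturated_fn_receptive hS F hF hfn
    -- the subgroup generated by the `p`-elements
    let K' : Subgroup ↥(F.autGroup P) := Subgroup.closure {α : F.autGroup P | ∃ k : ℕ, orderOf α = p ^ k}
    have hK'n : K'.Normal := by
      apply Cfsg.Agent.Lib.Helper8.closure_normal_of_conj_invariant
      rintro g s ⟨k, hk⟩
      exact ⟨k, by rw [Cfsg.Agent.Lib.Helper8.orderOf_conj', hk]⟩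
    -- the target subgroup
    let B : Subgroup ↥(F.autGroup P) := ((decSystem E₀ F hinv).autGroup P).subgroupOf (F.autGroup P)
    have hE₀G : E₀.autGroup P ≤ (decSystem E₀ F hinv).autGroup P := by
      apply Subgroup.closure_mono
      intro α hα
      exact ⟨hE₀F P hα, dec_of_mem hα⟩
    have hK'B : K' ≤ B := by
      intro γ hγ
      show (γ : MulAut P) ∈ (decSystem E₀ F hinv).autGroup P
      exact hE₀G (hK P hcen ⟨γ, hγ, rfl⟩)
    obtain ⟨U, hU⟩ := sylowIn_inf_of_normal R K'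
    have hfrat := Sylow.normalizer_sup_eq_top U
    have hUmap : (U : Subgroup ↥K').map K'.subtype = (R : Subgroup ↥(F.autGroup P)) ⊓ K' := by
      rw [hU]
      exact Subgroup.map_subgroupOf_eq_of_le inf_le_right
    rw [hUmap] at hfrat
    obtain ⟨g₀, hg₀N, hg₀P⟩ := exists_mem_normalizerIn_not_mem hS hPS hne
    have hNB : Subgroup.normalizer
        (((R : Subgroup ↥(F.autGroup P)) ⊓ K' : Subgroup ↥(F.autGroup P)) : Set ↥(F.autGroup P)) ≤ B := by
      intro γ hγ
      have hNT : normalizerIn S P ≤ extender S P (equivHom ((γ : MulAut P) : P ≃* P)) := by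
        intro t ht
        have htS : t ∈ S := ht.1
        have htN : t ∈ Subgroup.normalizer (P : Set Ω) := ht.2
        have haF : P.normalizerMonoidHom ⟨t, htN⟩ ∈ F.autGroup P :=
          autInducedBy_le_autGroup F hPS (normalizerMonoidHom_mem_autInducedBy htS htN)
        have haR : (⟨_, haF⟩ : ↥(F.autGroup P)) ∈ (R : Subgroup ↥(F.autGroup P)) := by
          rw [hR, Subgroup.mem_subgroupOf]
          exact normalizerMonoidHom_mem_autInducedBy htS htN
        have haK : (⟨_, haF⟩ : ↥(F.autGroup P)) ∈ K' := by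
          apply Subgroup.subset_closure
          obtain ⟨k, hk⟩ := (IsPGroup.iff_orderOf.mp R.isPGroup') ⟨_, haR⟩
          rw [Subgroup.orderOf_mk] at hk
          exact ⟨k, hk⟩
        have h1 := (Subgroup.mem_normalizer_iff.mp hγ _).mp ⟨haR, haK⟩
        have h2 : (γ * ⟨_, haF⟩ * γ⁻¹ : ↥(F.autGroup P)) ∈ (R : Subgroup ↥(F.autGroup P)) := h1.1
        rw [hR, Subgroup.mem_subgroupOf] at h2
        obtain ⟨h, hhS, hh⟩ := (mem_autInducedBy_iff S P _).mp h2
        rw [mem_extender_iff]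
        refine ⟨htS, htN, h, hhS, fun x hx => ?_⟩
        have h3 := hh ((γ : MulAut P) x)
        have h4 : ((γ * ⟨_, haF⟩ * γ⁻¹ : ↥(F.autGroup P)) : MulAut P) ((γ : MulAut P) x) =
            (γ : MulAut P) ⟨t * x * t⁻¹, hx⟩ := by
          show (γ : MulAut P) ((P.normalizerMonoidHom ⟨t, htN⟩) ((γ : MulAut P)⁻¹ ((γ : MulAut P) x))) = _
          rw [MulAut.inv_apply_self]
          rfl
        rw [h4] at h3
        exact h3
      show (γ : MulAut P) ∈ (decSystem E₀ F hinv).autGroup P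
      exact mem_autGroup_of_extender F (decSystem E₀ F hinv) hRec IH γ.2 (hNT hg₀N) hg₀P
    intro α hα
    have htop : (⟨α, hα⟩ : ↥(F.autGroup P)) ∈ (⊤ : Subgroup ↥(F.autGroup P)) := Subgroup.mem_top _
    rw [← hfrat] at htop
    exact (sup_le hNB hK'B) htop

/-- Transport of automorphisms of a strongly invariant subsystem along isomorphisms of `F`. -/
theorem congr_mem_autGroup_of_strongInv {E₀ F : FusionSystem S} (hSI : StrongInv E₀ F) {Q P : Subgroup Ω}
    {e : Q ≃* P} (he : IsFIso F e) {ζ : MulAut Q} (hζ : ζ ∈ E₀.autGroup Q) :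
    MulAut.congr e ζ ∈ E₀.autGroup P := by
  have hQS : Q ≤ S := he.le_left
  have hPS : P ≤ S := he.le_right
  have hφ : equivHom (ζ : Q ≃* Q) ∈ E₀.Hom Q := (mem_autGroup_iff E₀ hQS ζ).mp hζ
  have hφQ : ∀ x : Q, equivHom (ζ : Q ≃* Q) x ∈ Q := fun x => (ζ x).2
  obtain ⟨χ, hχ, hχ'⟩ := hSI Q Q le_rfl hQS _ hφ hφQ _ he
  have heq : (Q.subgroupOf Q).map (equivHom e) = P := by
    rw [Subgroup.subgroupOf_self, ← MonoidHom.range_eq_map, equivHom_range]
  have h1 := hom_congr E₀ heq hχ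
  rw [mem_autGroup_iff E₀ hPS]
  have h2 : P.subtype.comp (MulAut.congr e ζ).toMonoidHom = χ.comp (Subgroup.inclusion heq.ge) := by
    ext y
    obtain ⟨x, rfl⟩ : ∃ x : Q, e x = y := ⟨e.symm y, by simp⟩
    have h3 := hχ' x ((Subgroup.inclusion heq.ge (e x)).2)
    show ((e (ζ (e.symm (e x))) : P) : Ω) = χ (Subgroup.inclusion heq.ge (e x))
    rw [MulEquiv.symm_apply_apply]
    exact h3.symm
  rw [h2]
  exact h1

/-- If `E₀` is strongly invariant in the saturated system `F`, it contains all `p`-elements of every `Aut_F(P)`. -/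
theorem pgenAut_le_of_strongInv [Finite S] {p : ℕ} [Fact p.Prime] (hS : IsPGroup p S) (F : FusionSystem S)
    (hF : F.IsSaturated p) (E₀ : FusionSystem S) (hSI : StrongInv E₀ F) {P : Subgroup Ω} (hP : P ≤ S) :
    pgenAut F p P ≤ E₀.autGroup P := by
  unfold pgenAut
  rw [MonoidHom.map_closure, Subgroup.closure_le]
  rintro _ ⟨ξ, ⟨k, hk⟩, rfl⟩
  show (ξ : MulAut P) ∈ E₀.autGroup P
  obtain ⟨Q, hPQ, hQn⟩ := exists_fullyNormalized_conj F hP
  have hQS : Q ≤ S := hQn.1
  have hfinQ : Finite Q := finite_of_le hQS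
  obtain ⟨θ, hθ⟩ := (isConj_iff_exists_isFIso F).mp hPQ
  obtain ⟨-, R, hR⟩ := (saturated_fn hS F hF hQn).2
  have hξ₁F : MulAut.congr θ (ξ : MulAut P) ∈ F.autGroup Q := congr_mem_autGroup F hθ ξ.2
  -- the cyclic subgroup generated by the transported element is a `p`-group
  have hord : orderOf (⟨_, hξ₁F⟩ : F.autGroup Q) = p ^ k := by
    rw [Subgroup.orderOf_mk, MulEquiv.orderOf_eq, ← hk, Subgroup.orderOf_coe]
  have hZ : IsPGroup p (Subgroup.zpowers (⟨_, hξ₁F⟩ : F.autGroup Q)) := by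
    apply IsPGroup.of_card (n := k)
    rw [Nat.card_zpowers, hord]
  obtain ⟨γ, hγ⟩ := exists_conj_le_sylow R hZ
  have hmemR : γ * ⟨_, hξ₁F⟩ * γ⁻¹ ∈ (R : Subgroup (F.autGroup Q)) :=
    hγ ⟨_, Subgroup.mem_zpowers _, rfl⟩
  rw [hR, Subgroup.mem_subgroupOf] at hmemR
  have hζ : ((γ * ⟨_, hξ₁F⟩ * γ⁻¹ : F.autGroup Q) : MulAut Q) ∈ E₀.autGroup Q :=
    autInducedBy_le_autGroup E₀ hQS hmemR
  have hγF : IsFIso F ((γ : MulAut Q) : Q ≃* Q) := (mem_autGroup_iff_isFIso F hQS _).mp γ.2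
  have hη : IsFIso F (θ.trans ((γ : MulAut Q) : Q ≃* Q)) := hθ.trans hγF
  have h1 := congr_mem_autGroup_of_strongInv hSI hη.symm hζ
  have e : MulAut.congr (θ.trans ((γ : MulAut Q) : Q ≃* Q)).symm
      ((γ * ⟨_, hξ₁F⟩ * γ⁻¹ : F.autGroup Q) : MulAut Q) = (ξ : MulAut P) := by
    ext x
    simp [MulAut.congr]
  rw [e] at h1
  exact h1

end Cfsg.Agent.Lib.Helper27
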