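import Cfsg.Agent.Lib.Helper26.FSFrobenius
set_option autoImplicit false

/-!
Centric subgroups in saturated fusion systems (helper27's library, on top of helper26's):
* overgroups / conjugates of centric subgroups are centric, centric ⇒ fully centralized;
* [BLO2, A.8]: an automorphism in `Aut_F(N)` which is the identity on a normal centric subgroup `Q` of `N` is
  conjugation by an element of `Z(Q)`;
* a map of `F` whose restriction to a centric subgroup lies in a saturated subsystem `F'` (over the same `S`)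
  lies in `F'`.
-/

namespace Cfsg.Agent.Lib.Helper27

open Cfsg Cfsg.FusionSystem Cfsg.Agent.Lib.Helper26

variable {Ω : Type*} [Group Ω] {S : Subgroup Ω}

/-- The image of a subgroup `Q ≤ R` under a map with source `R`, as a conjugate of `Q`. -/
theorem isConj_map_of_le (F : FusionSystem S) {Q R : Subgroup Ω} (hQR : Q ≤ R) {φ : R →* Ω} (hφ : φ ∈ F.Hom R) :
    F.IsConj Q ((Q.subgroupOf R).map φ) := by
  refine ⟨φ.comp (Subgroup.inclusion hQR), inclusion_comp_mem F hQR hφ, ?_⟩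
  ext z
  constructor
  · rintro ⟨x, rfl⟩
    exact ⟨Subgroup.inclusion hQR x, x.2, rfl⟩
  · rintro ⟨y, hy, rfl⟩
    exact ⟨⟨y, hy⟩, rfl⟩

theorem isCentric_of_isConj (F : FusionSystem S) {Q Q' : Subgroup Ω} (hQ : F.IsCentric Q) (h : F.IsConj Q Q') :
    F.IsCentric Q' :=
  ⟨isConj_le_right F h, fun Q'' h' => hQ.2 Q'' (isConj_trans F h h')⟩

theorem isCentric_of_le (F : FusionSystem S) {Q R : Subgroup Ω} (hQ : F.IsCentric Q) (hQR : Q ≤ R) (hR : R ≤ S) :
    F.IsCentric R := by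
  refine ⟨hR, ?_⟩
  rintro R' ⟨φ, hφ, rfl⟩
  have hconj := isConj_map_of_le F hQR hφ
  have h1 := hQ.2 _ hconj
  intro c hc
  have hc' : c ∈ centralizerIn S ((Q.subgroupOf R).map φ) := by
    rw [mem_centralizerIn_iff] at hc ⊢
    refine ⟨hc.1, fun y hy => hc.2 y ?_⟩
    obtain ⟨x, -, rfl⟩ := hy
    exact ⟨x, rfl⟩
  obtain ⟨x, -, rfl⟩ := h1 hc'
  exact ⟨x, rfl⟩

theorem isCentric_self [Finite S] (F : FusionSystem S) : F.IsCentric S := by
  refine ⟨le_rfl, ?_⟩
  rintro Q ⟨φ, hφ, rfl⟩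
  have hr : φ.range = S := by
    apply Subgroup.eq_of_le_of_card_ge (range_le F hφ)
    rw [Nat.card_congr (MonoidHom.ofInjective (F.injective_of_mem hφ)).toEquiv]
  rw [hr]
  exact centralizerIn_le S S

theorem isCentric_of_subsystem {F F' : FusionSystem S} (hle : ∀ P : Subgroup Ω, F'.Hom P ⊆ F.Hom P)
    {Q : Subgroup Ω} (hQ : F.IsCentric Q) : F'.IsCentric Q := by
  refine ⟨hQ.1, ?_⟩
  rintro Q' ⟨φ, hφ, hr⟩
  exact hQ.2 Q' ⟨φ, hle Q hφ, hr⟩

/-- A centric subgroup is fully centralized. -/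
theorem fullyCentralized_of_isCentric [Finite S] (F : FusionSystem S) {Q : Subgroup Ω} (hQ : F.IsCentric Q) :
    F.IsFullyCentralized Q := by
  refine ⟨hQ.1, fun Q' hconj => ?_⟩
  obtain ⟨e, he⟩ := (isConj_iff_exists_isFIso F).mp hconj
  have hcQ' : centralizerIn S Q' ≤ Q' := hQ.2 Q' hconj
  have hfin : Finite ↥(centralizerIn S Q) := finite_of_le (centralizerIn_le S Q)
  let f : ↥(centralizerIn S Q') → ↥(centralizerIn S Q) := fun c =>
    ⟨(e.symm ⟨c.1, hcQ' c.2⟩ : Q), by
      rw [mem_centralizerIn_iff]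
      refine ⟨hQ.1 (e.symm ⟨c.1, hcQ' c.2⟩).2, fun x hx => ?_⟩
      have h1 : (⟨x, hx⟩ : Q) * e.symm ⟨c.1, hcQ' c.2⟩ = e.symm ⟨c.1, hcQ' c.2⟩ * ⟨x, hx⟩ := by
        apply e.injective
        rw [map_mul, map_mul, MulEquiv.apply_symm_apply]
        apply Subtype.ext
        exact (mem_centralizerIn_iff.mp c.2).2 _ (e ⟨x, hx⟩).2
      exact congrArg Subtype.val h1⟩
  have hf : Function.Injective f := by
    intro c c' h
    have h0 : ((e.symm ⟨c.1, hcQ' c.2⟩ : Q) : Ω) = ((e.symm ⟨c'.1, hcQ' c'.2⟩ : Q) : Ω) :=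
      congrArg (fun t : ↥(centralizerIn S Q) => (t : Ω)) h
    have h1 : (e.symm ⟨c.1, hcQ' c.2⟩ : Q) = e.symm ⟨c'.1, hcQ' c'.2⟩ := Subtype.ext h0
    have h2 := e.symm.injective h1
    apply Subtype.ext
    exact Subtype.mk.inj h2
  exact Nat.card_le_card_of_injective f hf

/-- Iterating an automorphism which multiplies `x` by a fixed element. -/
theorem aut_pow_apply_of_fixed {N : Type*} [Group N] (ψ : MulAut N) {x z : N} (h1 : ψ x = x * z) (h2 : ψ z = z)
    (k : ℕ) : (ψ ^ k) x = x * z ^ k := by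
  induction k with
  | zero => simp
  | succ k ih =>
    rw [pow_succ', MulAut.mul_apply, ih, map_mul, map_pow, h2, h1, pow_succ', mul_assoc]

/-- [BLO2, A.8] for a fully automized `N`. -/
theorem aut_eq_conj_of_fullyAutomized [Finite S] {p : ℕ} [Fact p.Prime] (hS : IsPGroup p S) (F : FusionSystem S)
    {Q N : Subgroup Ω} (hQN : Q ≤ N) (hN : F.IsFullyAutomized p N) (hQ : F.IsCentric Q)
    (hnorm : N ≤ Subgroup.normalizer (Q : Set Ω)) (ψ : MulAut N) (hψ : ψ ∈ F.autGroup N)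
    (hid : ∀ x : N, (x : Ω) ∈ Q → ψ x = x) :
    ∃ z ∈ Q, ∀ x : N, ((ψ x : N) : Ω) = z * x * z⁻¹ := by
  classical
  have hNS : N ≤ S := hN.1
  have hfinQ : Finite Q := finite_of_le hQ.1
  -- `x⁻¹ ψ(x) ∈ Z(Q)`
  have hz : ∀ x : N, ((x⁻¹ * ψ x : N) : Ω) ∈ Q ∧ ψ (x⁻¹ * ψ x) = x⁻¹ * ψ x := by
    intro x
    have hmem : ((x⁻¹ * ψ x : N) : Ω) ∈ Q := by
      apply hQ.2 Q (isConj_refl F hQ.1)
      rw [mem_centralizerIn_iff]
      refine ⟨hNS (x⁻¹ * ψ x).2, fun u hu => ?_⟩
      have hxu : (x : Ω) * u * (x : Ω)⁻¹ ∈ Q := (Subgroup.mem_normalizer_iff.mp (hnorm x.2) u).mp hu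
      have h1 : ψ (x * ⟨u, hQN hu⟩ * x⁻¹) = x * ⟨u, hQN hu⟩ * x⁻¹ := hid _ hxu
      rw [map_mul, map_mul, map_inv, hid ⟨u, hQN hu⟩ hu] at h1
      have h2 : (ψ x : Ω) * u * (ψ x : Ω)⁻¹ = (x : Ω) * u * (x : Ω)⁻¹ := congrArg Subtype.val h1
      show u * ((x : Ω)⁻¹ * (ψ x : Ω)) = (x : Ω)⁻¹ * (ψ x : Ω) * u
      calc u * ((x : Ω)⁻¹ * (ψ x : Ω)) = (x : Ω)⁻¹ * ((x : Ω) * u * (x : Ω)⁻¹) * (ψ x : Ω) := by group
        _ = (x : Ω)⁻¹ * ((ψ x : Ω) * u * (ψ x : Ω)⁻¹) * (ψ x : Ω) := by rw [h2]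
        _ = _ := by group
    exact ⟨hmem, hid _ hmem⟩
  -- `ψ` has `p`-power order
  obtain ⟨m, hm⟩ := IsPGroup.iff_card.mp (hS.to_le hQ.1)
  have hpow : ψ ^ (p ^ m) = 1 := by
    ext x
    have h1 : ψ x = x * (x⁻¹ * ψ x) := by group
    have h2 := aut_pow_apply_of_fixed ψ h1 (hz x).2 (p ^ m)
    rw [h2]
    have h3 : (⟨((x⁻¹ * ψ x : N) : Ω), (hz x).1⟩ : Q) ^ (p ^ m) = 1 := by
      rw [← hm]; exact pow_card_eq_one'
    have h4 : (x⁻¹ * ψ x) ^ (p ^ m) = 1 := by
      apply Subtype.ext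
      have := congrArg Subtype.val h3
      simpa using this
    rw [h4, mul_one]
    rfl
  have hBp : IsPGroup p (Subgroup.zpowers ψ) := by
    rintro ⟨β, hβ⟩
    obtain ⟨k, rfl⟩ := Subgroup.mem_zpowers_iff.mp hβ
    refine ⟨m, ?_⟩
    apply Subtype.ext
    show (ψ ^ k) ^ (p ^ m) = 1
    rw [← zpow_natCast, ← zpow_mul, mul_comm, zpow_mul, zpow_natCast, hpow, one_zpow]
  have hB : Subgroup.zpowers ψ ≤ F.autGroup N := by
    rw [Subgroup.zpowers_le]; exact hψ
  obtain ⟨χ, hχ, hχB⟩ := exists_conj_mem_autInducedBy F hN _ hB hBp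
  obtain ⟨s, hsS, hs⟩ := (mem_autInducedBy_iff S N _).mp (hχB ψ (Subgroup.mem_zpowers ψ))
  -- `s` centralizes `χ(Q)`
  have hχF := (mem_autGroup_iff F hNS χ).mp hχ
  have hconj := isConj_map_of_le F hQN hχF
  have hsc : s ∈ centralizerIn S ((Q.subgroupOf N).map (N.subtype.comp χ.toMonoidHom)) := by
    rw [mem_centralizerIn_iff]
    refine ⟨hsS, ?_⟩
    rintro _ ⟨u, hu, rfl⟩
    have h1 := hs (χ u)
    have h2 : (χ * ψ * χ⁻¹) (χ u) = χ u := by
      show χ (ψ (χ⁻¹ (χ u))) = χ u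
      have : χ⁻¹ (χ u) = u := by simp
      rw [this, hid u hu]
    rw [h2] at h1
    show ((χ u : N) : Ω) * s = s * ((χ u : N) : Ω)
    calc ((χ u : N) : Ω) * s = (s * ((χ u : N) : Ω) * s⁻¹) * s := by rw [← h1]
      _ = _ := by group
  obtain ⟨u₀, hu₀, hu₀s⟩ := hQ.2 _ hconj hsc
  refine ⟨u₀, hu₀, fun x => ?_⟩
  have h1 := hs (χ x)
  have h2 : (χ * ψ * χ⁻¹) (χ x) = χ (ψ x) := by
    show χ (ψ (χ⁻¹ (χ x))) = χ (ψ x)
    have : χ⁻¹ (χ x) = x := by simp
    rw [this]
  rw [h2] at h1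
  have h3 : χ (ψ x) = χ (u₀ * x * u₀⁻¹) := by
    apply Subtype.ext
    rw [h1, map_mul, map_mul, map_inv]
    have : ((χ u₀ : N) : Ω) = s := hu₀s
    rw [← this]
    rfl
  have h4 := χ.injective h3
  rw [h4]
  rfl

/-- [BLO2, A.8]: an automorphism in `Aut_F(N)` restricting to the identity on a normal centric subgroup `Q` of `N`
is conjugation by an element of `Q` (necessarily of `Z(Q)`). -/
theorem aut_eq_conj_of_centric [Finite S] {p : ℕ} [Fact p.Prime] (hS : IsPGroup p S) (F : FusionSystem S)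
    (hF : F.IsSaturated p) {Q N : Subgroup Ω} (hQN : Q ≤ N) (hNS : N ≤ S) (hQ : F.IsCentric Q)
    (hnorm : N ≤ Subgroup.normalizer (Q : Set Ω)) (ψ : MulAut N) (hψ : ψ ∈ F.autGroup N)
    (hid : ∀ x : N, (x : Ω) ∈ Q → ψ x = x) :
    ∃ z ∈ Q, ∀ x : N, ((ψ x : N) : Ω) = z * x * z⁻¹ := by
  classical
  obtain ⟨N', hNN', hfn⟩ := exists_fullyNormalized_conj F hNS
  obtain ⟨θ, hθ⟩ := (isConj_iff_exists_isFIso F).mp hNN'
  have hFA := (saturated_fn hS F hF hfn).2
  have hθF : equivHom θ ∈ F.Hom N := hθ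
  have hconj := isConj_map_of_le F hQN hθF
  have hQ' := isCentric_of_isConj F hQ hconj
  have hQ'N' : (Q.subgroupOf N).map (equivHom θ) ≤ N' := by
    rintro _ ⟨u, -, rfl⟩
    exact (θ u).2
  have hmemQ' : ∀ y : Ω, y ∈ (Q.subgroupOf N).map (equivHom θ) ↔ ∃ u : N, (u : Ω) ∈ Q ∧ ((θ u : N') : Ω) = y := by
    intro y
    constructor
    · rintro ⟨u, hu, rfl⟩
      exact ⟨u, hu, rfl⟩
    · rintro ⟨u, hu, rfl⟩
      exact ⟨u, hu, rfl⟩
  have hconjmem : ∀ (x : N) (y : Ω), y ∈ (Q.subgroupOf N).map (equivHom θ) →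
      ((θ x : N') : Ω) * y * ((θ x : N') : Ω)⁻¹ ∈ (Q.subgroupOf N).map (equivHom θ) := by
    intro x y hy
    obtain ⟨u, hu, rfl⟩ := (hmemQ' y).mp hy
    rw [hmemQ']
    refine ⟨x * u * x⁻¹, (Subgroup.mem_normalizer_iff.mp (hnorm x.2) u).mp hu, ?_⟩
    rw [map_mul, map_mul, map_inv]
    rfl
  have hnorm' : N' ≤ Subgroup.normalizer (((Q.subgroupOf N).map (equivHom θ) : Subgroup Ω) : Set Ω) := by
    intro g hg
    have hgx : ((θ (θ.symm ⟨g, hg⟩) : N') : Ω) = g := by simp
    apply mem_normalizer_of_conj_mem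
    · intro y hy
      have := hconjmem (θ.symm ⟨g, hg⟩) y hy
      rwa [hgx] at this
    · intro y hy
      have := hconjmem (θ.symm ⟨g, hg⟩)⁻¹ y hy
      rw [map_inv] at this
      have h2 : (((θ (θ.symm ⟨g, hg⟩))⁻¹ : N') : Ω) = g⁻¹ := by simp
      rw [h2, inv_inv] at this
      exact this
  have hψ' : MulAut.congr θ ψ ∈ F.autGroup N' := congr_mem_autGroup F hθ hψ
  have happ : ∀ x : N, (MulAut.congr θ ψ) (θ x) = θ (ψ x) := by
    intro x
    show θ (ψ (θ.symm (θ x))) = θ (ψ x)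
    rw [MulEquiv.symm_apply_apply]
  have hid' : ∀ y : N', (y : Ω) ∈ (Q.subgroupOf N).map (equivHom θ) → (MulAut.congr θ ψ) y = y := by
    intro y hy
    obtain ⟨u, hu, huy⟩ := (hmemQ' y).mp hy
    have : y = θ u := Subtype.ext huy.symm
    rw [this, happ, hid u hu]
  obtain ⟨z', hz', h'⟩ := aut_eq_conj_of_fullyAutomized hS F hQ'N' hFA hQ' hnorm' _ hψ' hid'
  obtain ⟨u₀, hu₀, hu₀z⟩ := (hmemQ' z').mp hz'
  refine ⟨u₀, hu₀, fun x => ?_⟩
  have h1 := h' (θ x)
  rw [happ] at h1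
  have h2 : θ (ψ x) = θ (u₀ * x * u₀⁻¹) := by
    apply Subtype.ext
    rw [h1, map_mul, map_mul, map_inv, ← hu₀z]
    rfl
  have h3 := θ.injective h2
  rw [h3]
  rfl

/-- A map of `F` whose restriction to an `F`-centric subgroup lies in the saturated subsystem `F'` (over the same `S`)
lies in `F'`. -/
theorem mem_of_restrict_centric_mem [Finite S] {p : ℕ} [Fact p.Prime] (hS : IsPGroup p S) (F F' : FusionSystem S)
    (hF : F.IsSaturated p) (hF' : F'.IsSaturated p) (hle : ∀ P : Subgroup Ω, F'.Hom P ⊆ F.Hom P)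
    {R : Subgroup Ω} {ψ : R →* Ω} (hψ : ψ ∈ F.Hom R) (Q : Subgroup Ω) (hQR : Q ≤ R) (hQ : F.IsCentric Q)
    (hres : ψ.comp (Subgroup.inclusion hQR) ∈ F'.Hom Q) : ψ ∈ F'.Hom R := by
  classical
  have hRS := hom_le F hψ
  have hfinR : Finite R := finite_of_le hRS
  have main : ∀ d : ℕ, ∀ (Q : Subgroup Ω) (hQR : Q ≤ R), F.IsCentric Q →
      ψ.comp (Subgroup.inclusion hQR) ∈ F'.Hom Q → Nat.card R - Nat.card Q = d → ψ ∈ F'.Hom R := by
    intro d
    induction d using Nat.strong_induction_on with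
    | _ d ih =>
      intro Q hQR hQ hres hd
      by_cases hQeq : Q = R
      · subst hQeq
        have : ψ.comp (Subgroup.inclusion hQR) = ψ := by ext x; rfl
        rwa [this] at hres
      · have hpR : IsPGroup p R := hS.to_le hRS
        obtain ⟨g, hgN, hgQ⟩ := exists_mem_normalizerIn_not_mem hpR hQR hQeq
        have hNR : normalizerIn R Q ≤ R := normalizerIn_le R Q
        have hQN : Q ≤ normalizerIn R Q := le_normalizerIn hQR
        have hNS : normalizerIn R Q ≤ S := hNR.trans hRS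
        have hnorm : normalizerIn R Q ≤ Subgroup.normalizer (Q : Set Ω) := inf_le_right
        have hfinN : Finite ↥(normalizerIn R Q) := finite_of_le hNS
        have hlt : Nat.card Q < Nat.card ↥(normalizerIn R Q) := by
          rcases (Subgroup.card_le_of_le hQN).lt_or_eq with h | h
          · exact h
          · exfalso
            have := Subgroup.eq_of_le_of_card_ge hQN h.ge
            rw [this] at hgQ
            exact hgQ hgN
        have hNle : Nat.card ↥(normalizerIn R Q) ≤ Nat.card R := Subgroup.card_le_of_le hNR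
        -- the restriction to `Q` and its image
        have hconj' : F'.IsConj Q (ψ.comp (Subgroup.inclusion hQR)).range := ⟨_, hres, rfl⟩
        have hconjF : F.IsConj Q (ψ.comp (Subgroup.inclusion hQR)).range := ⟨_, hle Q hres, rfl⟩
        have hQ'c := isCentric_of_isConj F hQ hconjF
        have hQ'c' : F'.IsCentric (ψ.comp (Subgroup.inclusion hQR)).range := isCentric_of_subsystem hle hQ'c
        have hrec : F'.IsReceptive (ψ.comp (Subgroup.inclusion hQR)).range :=
          saturated_fc hS F' hF' (fullyCentralized_of_isCentric F' hQ'c')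
        obtain ⟨ψ₁, hψ₁, hext⟩ := hrec.2 Q _ hres rfl
        have hNext : normalizerIn R Q ≤ extender S Q (ψ.comp (Subgroup.inclusion hQR)) := by
          intro g hg
          rw [mem_extender_iff]
          refine ⟨hNS hg, hnorm hg, ψ ⟨g, hNR hg⟩, hom_apply_mem F hψ _, fun x hx => ?_⟩
          show ψ ⟨g * x * g⁻¹, hQR hx⟩ = ψ ⟨g, hNR hg⟩ * ψ ⟨x, hQR x.2⟩ * (ψ ⟨g, hNR hg⟩)⁻¹
          rw [← map_inv, ← map_mul, ← map_mul]
          rfl
        have hψ₁N' : ψ₁.comp (Subgroup.inclusion hNext) ∈ F'.Hom (normalizerIn R Q) :=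
          inclusion_comp_mem F' hNext hψ₁
        have hψ₁N : ψ₁.comp (Subgroup.inclusion hNext) ∈ F.Hom (normalizerIn R Q) := hle _ hψ₁N'
        have hψN : ψ.comp (Subgroup.inclusion hNR) ∈ F.Hom (normalizerIn R Q) := inclusion_comp_mem F hNR hψ
        have hagree : ∀ x : ↥(normalizerIn R Q), (x : Ω) ∈ Q →
            (ψ₁.comp (Subgroup.inclusion hNext)) x = (ψ.comp (Subgroup.inclusion hNR)) x := by
          intro x hx
          exact hext x hx (hNext x.2)
        -- ranges agree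
        have hrle : (ψ.comp (Subgroup.inclusion hNR)).range ≤ (ψ₁.comp (Subgroup.inclusion hNext)).range := by
          rintro _ ⟨g, rfl⟩
          have hc : ((ψ₁.comp (Subgroup.inclusion hNext)) g)⁻¹ * (ψ.comp (Subgroup.inclusion hNR)) g ∈
              centralizerIn S (ψ.comp (Subgroup.inclusion hQR)).range := by
            rw [mem_centralizerIn_iff]
            refine ⟨S.mul_mem (S.inv_mem (hom_apply_mem F hψ₁N g)) (hom_apply_mem F hψN g), ?_⟩
            rintro _ ⟨x, rfl⟩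
            have hxg : ((g * ⟨x, hQN x.2⟩ * g⁻¹ : ↥(normalizerIn R Q)) : Ω) ∈ Q :=
              (Subgroup.mem_normalizer_iff.mp (hnorm g.2) x).mp x.2
            have h1 := hagree _ hxg
            rw [map_mul, map_mul, map_inv, map_mul, map_mul, map_inv, hagree ⟨x, hQN x.2⟩ x.2] at h1
            have hy : (ψ.comp (Subgroup.inclusion hQR)) x = (ψ.comp (Subgroup.inclusion hNR)) ⟨x, hQN x.2⟩ := rfl
            rw [hy]
            generalize (ψ.comp (Subgroup.inclusion hNR)) ⟨x, hQN x.2⟩ = y at h1 ⊢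
            generalize (ψ.comp (Subgroup.inclusion hNR)) g = a at h1 ⊢
            generalize (ψ₁.comp (Subgroup.inclusion hNext)) g = b at h1 ⊢
            calc y * (b⁻¹ * a) = b⁻¹ * (b * y * b⁻¹) * a := by group
              _ = b⁻¹ * (a * y * a⁻¹) * a := by rw [h1]
              _ = _ := by group
          obtain ⟨x₀, hx₀⟩ := hQ'c.2 _ (isConj_refl F hQ'c.1) hc
          refine ⟨g * ⟨x₀, hQN x₀.2⟩, ?_⟩
          rw [map_mul, hagree ⟨x₀, hQN x₀.2⟩ x₀.2]
          have : (ψ.comp (Subgroup.inclusion hNR)) ⟨x₀, hQN x₀.2⟩ = (ψ.comp (Subgroup.inclusion hQR)) x₀ := rfl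
          rw [this, hx₀]
          group
        have hrange : (ψ.comp (Subgroup.inclusion hNR)).range = (ψ₁.comp (Subgroup.inclusion hNext)).range := by
          have hfin2 : Finite ↥(ψ₁.comp (Subgroup.inclusion hNext)).range := finite_of_le (range_le F hψ₁N)
          apply Subgroup.eq_of_le_of_card_ge hrle
          rw [← Nat.card_congr (MonoidHom.ofInjective (F.injective_of_mem hψ₁N)).toEquiv,
            ← Nat.card_congr (MonoidHom.ofInjective (F.injective_of_mem hψN)).toEquiv]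
        -- the two isomorphisms onto the common image
        have he₁F' : IsFIso F' (homEquiv F' hψ₁N' rfl) := homEquiv_isFIso F' hψ₁N' rfl
        have he₁F : IsFIso F (homEquiv F' hψ₁N' rfl) := by
          unfold IsFIso
          rw [equivHom_homEquiv]
          exact hψ₁N
        have he₂F : IsFIso F (homEquiv F hψN hrange) := homEquiv_isFIso F hψN hrange
        have hβF : ((homEquiv F hψN hrange).trans (homEquiv F' hψ₁N' rfl).symm : MulAut ↥(normalizerIn R Q)) ∈
            F.autGroup (normalizerIn R Q) := by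
          rw [mem_autGroup_iff_isFIso F hNS]
          exact he₂F.trans he₁F.symm
        have hβid : ∀ x : ↥(normalizerIn R Q), (x : Ω) ∈ Q →
            ((homEquiv F hψN hrange).trans (homEquiv F' hψ₁N' rfl).symm : MulAut ↥(normalizerIn R Q)) x = x := by
          intro x hx
          show (homEquiv F' hψ₁N' rfl).symm ((homEquiv F hψN hrange) x) = x
          have : (homEquiv F hψN hrange) x = (homEquiv F' hψ₁N' rfl) x := by
            apply Subtype.ext
            exact (hagree x hx).symm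
          rw [this, MulEquiv.symm_apply_apply]
        obtain ⟨z, hzQ, hz⟩ := aut_eq_conj_of_centric hS F hF hQN hNS hQ hnorm _ hβF hβid
        have hβF' : IsFIso F' ((homEquiv F hψN hrange).trans (homEquiv F' hψ₁N' rfl).symm) := by
          unfold IsFIso
          have : equivHom ((homEquiv F hψN hrange).trans (homEquiv F' hψ₁N' rfl).symm) =
              conjHom (normalizerIn R Q) z := by
            ext x
            exact hz x
          rw [this]
          exact F'.conj_mem hNS (hQ.1 hzQ)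
        have he₂eq : homEquiv F hψN hrange =
            ((homEquiv F hψN hrange).trans (homEquiv F' hψ₁N' rfl).symm).trans (homEquiv F' hψ₁N' rfl) := by
          ext x
          simp
        have he₂F' : IsFIso F' (homEquiv F hψN hrange) := by
          rw [he₂eq]
          exact hβF'.trans he₁F'
        have hψN' : ψ.comp (Subgroup.inclusion hNR) ∈ F'.Hom (normalizerIn R Q) := by
          have := he₂F'
          unfold IsFIso at this
          rwa [equivHom_homEquiv] at this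
        exact ih (Nat.card R - Nat.card ↥(normalizerIn R Q)) (by omega) (normalizerIn R Q) hNR
          (isCentric_of_le F hQ hQN hNS) hψN' rfl
  exact main _ Q hQR hQ hres rfl

end Cfsg.Agent.Lib.Helper27
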