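/-
helper27: S3611 market "PD", leaf PDAFF: an element normalizing ⟨x⟩ is affine in the coordinates of x.
-/
import Mathlib

set_option autoImplicit false

namespace Cfsg.Agent.Lib.Helper27.PDAFF

open MulAction

theorem pow_smul_coord {G Ω : Type*} [Group G] [MulAction G Ω] {p : ℕ}
    (x : G) (e : ZMod p ≃ Ω) (hx : ∀ j : ZMod p, x • e j = e (j + 1)) (k : ℕ) (i : ZMod p) :
    x ^ k • e i = e (i + k) := by
  induction k generalizing i with
  | zero => simp
  | succ k ih =>
    rw [pow_succ, mul_smul, hx, ih]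
    congr 1
    push_cast
    ring

/-- **PDAFF**.  An element normalizing `⟨x⟩` is affine in the coordinates of `x`. -/
theorem PDAFF {G Ω : Type*} [Group G] [MulAction G Ω] {p : ℕ} [Fact p.Prime]
    (x : G) (e : ZMod p ≃ Ω) (hx : ∀ j : ZMod p, x • e j = e (j + 1))
    (P : Subgroup G) (hxP : x ∈ P) (hP : ∀ y ∈ P, ∃ k : ℕ, y = x ^ k)
    (n : G) (hn : n ∈ Subgroup.normalizer (P : Set G)) :
    ∃ u b : ZMod p, ∀ j : ZMod p, n • e j = e (u * j + b) := by
  have hmem : n * x * n⁻¹ ∈ P := (Subgroup.mem_normalizer_iff.mp hn x).mp hxP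
  obtain ⟨k, hk⟩ := hP _ hmem
  refine ⟨(k : ZMod p), e.symm (n • e 0), ?_⟩
  have key : ∀ m : ℕ, n • e (m : ZMod p) = e ((k : ZMod p) * (m : ZMod p) + e.symm (n • e 0)) := by
    intro m
    induction m with
    | zero => simp
    | succ m ih =>
      have h1 : n • e ((m + 1 : ℕ) : ZMod p) = (n * x * n⁻¹) • (n • e (m : ZMod p)) := by
        rw [← mul_smul, inv_mul_cancel_right, mul_smul, hx]
        push_cast
        rfl
      rw [h1, ih, hk, pow_smul_coord x e hx]
      congr 1
      push_cast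
      ring
  intro j
  have := key j.val
  rwa [ZMod.natCast_zmod_val] at this

end Cfsg.Agent.Lib.Helper27.PDAFF
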