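/-
helper27: S3611 market "PD", leaf PDFIX: a faithful affine element fixing two points is 1.
-/
import Mathlib

set_option autoImplicit false

namespace Cfsg.Agent.Lib.Helper27.PDFIX

open MulAction

/-- **PDFIX**.  For a faithful action, an affine element fixing two distinct points is `1`. -/
theorem PDFIX {G Ω : Type*} [Group G] [MulAction G Ω] [FaithfulSMul G Ω] {p : ℕ} [Fact p.Prime]
    (e : ZMod p ≃ Ω) (n : G) (u b : ZMod p) (hn : ∀ j : ZMod p, n • e j = e (u * j + b))
    (α β : Ω) (hαβ : α ≠ β) (hα : n • α = α) (hβ : n • β = β) : n = 1 := by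
  obtain ⟨a, rfl⟩ := e.surjective α
  obtain ⟨c, rfl⟩ := e.surjective β
  have hac : a ≠ c := fun h => hαβ (by rw [h])
  rw [hn] at hα hβ
  have h1 : u * a + b = a := e.injective hα
  have h2 : u * c + b = c := e.injective hβ
  have h3 : (u - 1) * (a - c) = 0 := by linear_combination h1 - h2
  have hu : u = 1 := by
    rcases mul_eq_zero.mp h3 with h | h
    · exact sub_eq_zero.mp h
    · exact absurd (sub_eq_zero.mp h) hac
  have hb : b = 0 := by
    rw [hu, one_mul] at h1
    exact left_eq_add.mp h1.symm |> fun h => h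
  apply FaithfulSMul.eq_of_smul_eq_smul (α := Ω)
  intro ω
  obtain ⟨j, rfl⟩ := e.surjective ω
  rw [hn, hu, hb, one_mul, add_zero, one_smul]

end Cfsg.Agent.Lib.Helper27.PDFIX
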