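/-
helper27: S3611 market "PD", leaf PDCOVER: a subgroup N of affine elements with 2|N| = p(p-1) has two orbits on
ordered pairs of distinct points, so G = H N ∪ H g₂ N for H = G_α ∩ G_β (G 2-transitive).
-/
import Mathlib
import Cfsg.Agent.Lib.Helper27.PDFIX

set_option autoImplicit false

namespace Cfsg.Agent.Lib.Helper27.PDCOVER

open MulAction

section

variable {G Ω : Type*} [Group G] [MulAction G Ω]

/-- The orbit map of a subgroup on ordered pairs. -/
def pmap (N : Subgroup G) (y : Ω × Ω) : N → Ω × Ω := fun n => ((n : G) • y.1, (n : G) • y.2)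

theorem pmap_injective [FaithfulSMul G Ω] {p : ℕ} [Fact p.Prime] (e : ZMod p ≃ Ω)
    (N : Subgroup G) (hNaff : ∀ n ∈ N, ∃ u b : ZMod p, ∀ j : ZMod p, n • e j = e (u * j + b))
    (y : Ω × Ω) (hy : y.1 ≠ y.2) : Function.Injective (pmap N y) := by
  intro n m h
  have h1 : (n : G) • y.1 = (m : G) • y.1 := congrArg Prod.fst h
  have h2 : (n : G) • y.2 = (m : G) • y.2 := congrArg Prod.snd h
  have hmem : (m : G)⁻¹ * (n : G) ∈ N := N.mul_mem (N.inv_mem m.2) n.2
  obtain ⟨u, b, hub⟩ := hNaff _ hmem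
  have hfix1 : ((m : G)⁻¹ * (n : G)) • y.1 = y.1 := by rw [mul_smul, h1, inv_smul_smul]
  have hfix2 : ((m : G)⁻¹ * (n : G)) • y.2 = y.2 := by rw [mul_smul, h2, inv_smul_smul]
  have := Cfsg.Agent.Lib.Helper27.PDFIX.PDFIX e _ u b hub y.1 y.2 hy hfix1 hfix2
  apply Subtype.ext
  have h3 : (n : G) = (m : G) := by
    have := congrArg (fun t => (m : G) * t) this
    simpa using this
  exact h3

theorem ncard_range_pmap [Finite G] [FaithfulSMul G Ω] {p : ℕ} [Fact p.Prime] (e : ZMod p ≃ Ω)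
    (N : Subgroup G) (hNaff : ∀ n ∈ N, ∃ u b : ZMod p, ∀ j : ZMod p, n • e j = e (u * j + b))
    (y : Ω × Ω) (hy : y.1 ≠ y.2) : (Set.range (pmap N y)).ncard = Nat.card N := by
  rw [← Nat.card_coe_set_eq]
  exact Nat.card_range_of_injective (pmap_injective e N hNaff y hy)

theorem range_pmap_subset (N : Subgroup G) (y : Ω × Ω) (hy : y.1 ≠ y.2) :
    Set.range (pmap N y) ⊆ {z : Ω × Ω | z.1 ≠ z.2} := by
  rintro z ⟨n, rfl⟩
  show (n : G) • y.1 ≠ (n : G) • y.2
  exact fun h => hy (MulAction.injective _ h)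

theorem ncard_offDiag [Fintype Ω] [DecidableEq Ω] {p : ℕ} (hΩ : Fintype.card Ω = p) :
    ({z : Ω × Ω | z.1 ≠ z.2} : Set (Ω × Ω)).ncard = p * (p - 1) := by
  have h : ({z : Ω × Ω | z.1 ≠ z.2} : Set (Ω × Ω)) = ↑((Finset.univ : Finset Ω).offDiag) := by
    ext z
    simp
  rw [h, Set.ncard_coe_finset, Finset.offDiag_card, Finset.card_univ, hΩ, Nat.mul_sub_one]

end

/-- **PDCOVER**. -/
theorem PDCOVER {G Ω : Type*} [Group G] [Finite G] [MulAction G Ω] [FaithfulSMul G Ω] [Fintype Ω]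
    [DecidableEq Ω] {p : ℕ} [Fact p.Prime] (hΩ : Fintype.card Ω = p)
    (h2 : MulAction.IsMultiplyPretransitive G Ω 2) (e : ZMod p ≃ Ω)
    (N : Subgroup G) (hNaff : ∀ n ∈ N, ∃ u b : ZMod p, ∀ j : ZMod p, n • e j = e (u * j + b))
    (hNcard : 2 * Nat.card N = p * (p - 1)) (α β : Ω) (hαβ : α ≠ β) :
    ∃ g₂ : G, ∀ g : G, ∃ h ∈ stabilizer G α ⊓ stabilizer G β, ∃ n ∈ N,
      g = h * n ∨ g = h * g₂ * n := by
  classical
  set X : Set (Ω × Ω) := {z : Ω × Ω | z.1 ≠ z.2} with hX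
  set O₁ : Set (Ω × Ω) := Set.range (pmap N (α, β)) with hO₁
  have hXfin : X.Finite := Set.toFinite X
  -- the point attached to `g`
  have hz : ∀ g : G, ((g⁻¹ • α, g⁻¹ • β) : Ω × Ω) ∈ X := by
    intro g
    show g⁻¹ • α ≠ g⁻¹ • β
    exact fun h => hαβ (MulAction.injective _ h)
  -- first kind
  have hkind1 : ∀ g : G, ((g⁻¹ • α, g⁻¹ • β) : Ω × Ω) ∈ O₁ →
      ∃ h ∈ stabilizer G α ⊓ stabilizer G β, ∃ n ∈ N, g = h * n := by
    rintro g ⟨n', hn'⟩
    have h1 : (n' : G) • α = g⁻¹ • α := congrArg Prod.fst hn'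
    have h2' : (n' : G) • β = g⁻¹ • β := congrArg Prod.snd hn'
    refine ⟨g * (n' : G), ?_, (n' : G)⁻¹, N.inv_mem n'.2, by group⟩
    rw [Subgroup.mem_inf, mem_stabilizer_iff, mem_stabilizer_iff]
    constructor
    · rw [mul_smul, h1, smul_inv_smul]
    · rw [mul_smul, h2', smul_inv_smul]
  by_cases hall : ∀ z ∈ X, z ∈ O₁
  · refine ⟨1, fun g => ?_⟩
    obtain ⟨h, hh, n, hn, hg⟩ := hkind1 g (hall _ (hz g))
    exact ⟨h, hh, n, hn, Or.inl hg⟩
  · have hex : ∃ y ∈ X, y ∉ O₁ := by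
      by_contra hcon
      apply hall
      intro z hzX
      by_contra hz'
      exact hcon ⟨z, hzX, hz'⟩
    obtain ⟨y, hyX, hyO⟩ := hex
    have hy : y.1 ≠ y.2 := hyX
    set O₂ : Set (Ω × Ω) := Set.range (pmap N y) with hO₂
    have hdisj : Disjoint O₁ O₂ := by
      rw [Set.disjoint_left]
      rintro z ⟨n, hn⟩ ⟨m, hm⟩
      apply hyO
      refine ⟨⟨(m : G)⁻¹ * (n : G), N.mul_mem (N.inv_mem m.2) n.2⟩, ?_⟩
      have e1 : (n : G) • α = (m : G) • y.1 := (congrArg Prod.fst hn).trans (congrArg Prod.fst hm).symm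
      have e2 : (n : G) • β = (m : G) • y.2 := (congrArg Prod.snd hn).trans (congrArg Prod.snd hm).symm
      show ((((m : G)⁻¹ * (n : G)) • α, ((m : G)⁻¹ * (n : G)) • β) : Ω × Ω) = y
      rw [mul_smul, mul_smul, e1, e2, inv_smul_smul, inv_smul_smul]
    have hsub : O₁ ∪ O₂ ⊆ X :=
      Set.union_subset (range_pmap_subset N (α, β) hαβ) (range_pmap_subset N y hy)
    have hcard : (O₁ ∪ O₂).ncard = X.ncard := by
      rw [Set.ncard_union_eq hdisj (Set.toFinite _) (Set.toFinite _),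
        ncard_range_pmap e N hNaff (α, β) hαβ, ncard_range_pmap e N hNaff y hy,
        ncard_offDiag hΩ, ← hNcard]
      ring
    have heq : O₁ ∪ O₂ = X := Set.eq_of_subset_of_ncard_le hsub hcard.ge hXfin
    -- the second representative
    obtain ⟨g', hg'1, hg'2⟩ := MulAction.is_two_pretransitive_iff.mp h2 hαβ hy
    refine ⟨g'⁻¹, fun g => ?_⟩
    have hzg := hz g
    rw [← heq] at hzg
    rcases hzg with h1 | h1
    · obtain ⟨h, hh, n, hn, hg⟩ := hkind1 g h1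
      exact ⟨h, hh, n, hn, Or.inl hg⟩
    · obtain ⟨n', hn'⟩ := h1
      have e1 : (n' : G) • y.1 = g⁻¹ • α := congrArg Prod.fst hn'
      have e2 : (n' : G) • y.2 = g⁻¹ • β := congrArg Prod.snd hn'
      refine ⟨g * (n' : G) * g', ?_, (n' : G)⁻¹, N.inv_mem n'.2, Or.inr (by group)⟩
      rw [Subgroup.mem_inf, mem_stabilizer_iff, mem_stabilizer_iff]
      constructor
      · rw [mul_smul, mul_smul, hg'1, e1, smul_inv_smul]
      · rw [mul_smul, mul_smul, hg'2, e2, smul_inv_smul]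

end Cfsg.Agent.Lib.Helper27.PDCOVER
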