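import Cfsg.Agent.Lib.Helper27.FMFactor4

/-!
helper27: a model of `N_{F/Q}(V)` is a quotient of a model of `N_F(U)`, `U` the full preimage of `V`.
-/

set_option autoImplicit false
set_option linter.unusedSectionVars false
set_option linter.unusedVariables false

namespace Cfsg.Agent.Lib.Helper27.FM

open Cfsg Cfsg.FusionSystem Cfsg.Agent.Lib.Helper26 Cfsg.Agent.Lib.Helper26.ModelThm

universe u u' v

variable {Ω : Type u} [Group Ω] {S : Subgroup Ω} {Ω' : Type u'} [Group Ω'] {S' : Subgroup Ω'}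

theorem exists_surjective_of_factor_model [Finite S] {p : ℕ} [Fact p.Prime] (hS : IsPGroup p S)
    (F : FusionSystem S) (hF : F.IsSaturated p) {Q : Subgroup Ω} (hQ : F.IsNormal Q)
    (θ : S →* Ω') (E : FusionSystem S') (hθ : F.IsSurjectiveMorphism E θ)
    (hker : ∀ s : S, θ s = 1 ↔ (s : Ω) ∈ Q) {V : Subgroup Ω'} (hVfn : E.IsFullyNormalized V)
    (hVc : E.IsCentric V) (Nb : FusionSystem (normalizerIn S' V)) (hNb : E.IsNormalizerSystem V Nb)
    {L' : Type v} [Group L'] (ι' : ↥(normalizerIn S' V) →* L') (hM' : Nb.IsModel p L' ι') :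
    F.IsFullyNormalized (preimageAlong θ V) ∧ F.IsCentric (preimageAlong θ V) ∧
      ∃ (N : FusionSystem (normalizerIn S (preimageAlong θ V)))
        (_ : F.IsNormalizerSystem (preimageAlong θ V) N) (L : Type u) (_ : Group L)
        (ι : ↥(normalizerIn S (preimageAlong θ V)) →* L), N.IsModel p L ι ∧
          ∃ f : L →* L', Function.Surjective f := by
  classical
  have hrange := hθ.2.1
  haveI hfinS' : Finite ↥S' := finite_of_range_eq θ hrange
  have hpS' : IsPGroup p ↥S' := by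
    have : IsPGroup p ↥θ.range := hS.of_surjective θ.rangeRestrict θ.rangeRestrict_surjective
    rwa [hrange] at this
  have hVS' : V ≤ S' := hVfn.1
  have hUS : preimageAlong θ V ≤ S := preimageAlong_le θ V
  have hUfn := isFullyNormalized_pre F E θ hθ hVfn
  have hUc := isCentric_pre F E θ hθ hVc
  refine ⟨hUfn, hUc, ?_⟩
  have hQU : Q ≤ preimageAlong θ V := by
    intro x hx
    rw [mem_pre_iff]
    refine ⟨hQ.1 hx, ?_⟩
    rw [ext1_apply θ (hQ.1 hx), (hker _).mpr hx]
    exact V.one_mem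
  have hN := normalizerSystem_isNormalizerSystem F (preimageAlong θ V) hUS
  have hTS : normalizerIn S (preimageAlong θ V) ≤ S := normalizerIn_le S _
  haveI : Finite ↥(normalizerIn S (preimageAlong θ V)) := finite_of_le hTS
  have hpT : IsPGroup p ↥(normalizerIn S (preimageAlong θ V)) := hS.to_le hTS
  have hUT : preimageAlong θ V ≤ normalizerIn S (preimageAlong θ V) := le_normalizerIn hUS
  have hTbS' : normalizerIn S' V ≤ S' := normalizerIn_le S' V
  haveI : Finite ↥(normalizerIn S' V) := finite_of_le hTbS'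
  have hpTb : IsPGroup p ↥(normalizerIn S' V) := hpS'.to_le hTbS'
  have hVTb : V ≤ normalizerIn S' V := le_normalizerIn hVS'
  have hsatN := normalizerSystem_saturated hS F hF hUfn _ hN
  have h : Setup p (normalizerSystem F (preimageAlong θ V) hUS) (preimageAlong θ V) :=
    ⟨hpT, hsatN, isNormal_of_isNormalizerSystem F hUS _ hN, isCentric_of_isNormalizerSystem F hUc _ hN⟩
  haveI : Finite ↥(preimageAlong θ V) := finite_of_le hUS
  haveI : Finite (Mdl h) := finite_Mdl h
  have hQnN := isNormal_normalizer_of_isNormal F hQ hQU hUS _ hN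
  haveI hBn : ((Q.subgroupOf (normalizerIn S (preimageAlong θ V))).map (mIota h)).Normal :=
    map_normal_of_isNormal (isModel h) hQnN
  have hpreT : preimageAlong θ (normalizerIn S' V) = normalizerIn S (preimageAlong θ V) :=
    pre_normalizerIn θ hrange hVS'
  obtain ⟨ιb, hιb, hKR⟩ := exists_induced_quot θ hrange hker hTbS' hpreT (mIota h) (mIota_injective h)
  have hrealb := realized_factor_normalizer F hQ θ E hθ hker hVS' Nb hNb _ hN (mIota h) (realized h)
    (QG_normal h) ιb hιb hKR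
  set B := (Q.subgroupOf (normalizerIn S (preimageAlong θ V))).map (mIota h) with hBdef
  set Ab : Subgroup (Mdl h ⧸ B) := (QG h).map (QuotientGroup.mk' B) with hAbdef
  haveI hAbn : Ab.Normal := Subgroup.Normal.map (QG_normal h) _ (QuotientGroup.mk'_surjective B)
  have hAbp : IsPGroup p Ab := (QG_isPGroup h).map _
  have hVmap : (V.subgroupOf (normalizerIn S' V)).map ιb = Ab := by
    ext w
    constructor
    · rintro ⟨z, hz, rfl⟩
      have hz' : (z : Ω') ∈ V := hz
      obtain ⟨u, hu, huz⟩ := exists_pre_of_mem θ hrange hVS' hz'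
      have h1 : ιb z = QuotientGroup.mk' B (ext1 (mIota h) u) := by
        rw [← ext1_coe ιb z, ← huz, hKR u (hUT hu)]
      rw [h1]
      exact ⟨ext1 (mIota h) u, ext1_mem_map (mIota h) hu (hUT hu), rfl⟩
    · rintro ⟨a, ha, rfl⟩
      obtain ⟨u, huU, huT, rfl⟩ := (mem_map_subgroupOf_iff (mIota h) _ a).mp ha
      have hz : ext1 θ u ∈ V := ((mem_pre_iff θ V u).mp huU).2
      refine ⟨⟨ext1 θ u, hVTb hz⟩, hz, ?_⟩
      rw [← hKR u huT, ext1_apply ιb (hVTb hz)]
  obtain ⟨T₀, hT₀⟩ := exists_sylow h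
  let Tx : Sylow p (Mdl h ⧸ B) := T₀.mapSurjective (QuotientGroup.mk'_surjective B)
  have hTx : (Tx : Subgroup (Mdl h ⧸ B)) = (mIota h).range.map (QuotientGroup.mk' B) := by
    rw [Sylow.coe_mapSurjective, hT₀]
  have hTA : (Tx : Subgroup (Mdl h ⧸ B)) ⊓ Subgroup.centralizer (Ab : Set (Mdl h ⧸ B)) ≤ Ab := by
    rintro w ⟨hwT, hwC⟩
    rw [SetLike.mem_coe, hTx] at hwT
    obtain ⟨_, ⟨t, rfl⟩, rfl⟩ := hwT
    have htT : (t : Ω) ∈ normalizerIn S (preimageAlong θ V) := t.2
    have hwt : QuotientGroup.mk' B (mIota h t) = ext1 ιb (ext1 θ (t : Ω)) := by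
      rw [hKR t htT, ext1_coe]
    have hθtT : ext1 θ (t : Ω) ∈ normalizerIn S' V := by
      have : (t : Ω) ∈ preimageAlong θ (normalizerIn S' V) := by rw [hpreT]; exact htT
      exact ((mem_pre_iff θ _ _).mp this).2
    have hcent : ext1 θ (t : Ω) ∈ centralizerIn S' V := by
      rw [mem_centralizerIn_iff]
      refine ⟨ext1_mem_of_range θ hrange (hTS htT), fun v hv => ?_⟩
      obtain ⟨u, hu, rfl⟩ := exists_pre_of_mem θ hrange hVS' hv
      have hmem : QuotientGroup.mk' B (ext1 (mIota h) u) ∈ Ab :=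
        ⟨_, ext1_mem_map (mIota h) hu (hUT hu), rfl⟩
      have hc := Subgroup.mem_centralizer_iff.mp hwC _ hmem
      rw [hwt, ← hKR u (hUT hu)] at hc
      have hθuT : ext1 θ u ∈ normalizerIn S' V := hVTb ((mem_pre_iff θ V u).mp hu).2
      rw [← ext1_mul ιb hθuT hθtT, ← ext1_mul ιb hθtT hθuT] at hc
      exact ext1_injOn ιb hιb (Subgroup.mul_mem _ hθuT hθtT) (Subgroup.mul_mem _ hθtT hθuT) hc
    have hV := hVc.2 V (isConj_refl E hVS') hcent
    have htU : (t : Ω) ∈ preimageAlong θ V := (mem_pre_iff θ V _).mpr ⟨hTS htT, hV⟩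
    exact ⟨mIota h t, ⟨t, htU, rfl⟩, rfl⟩
  haveI hKn := Cfsg.Agent.Lib.Helper24.pPrimeCore_normal' (G := Mdl h ⧸ B) p
  have hKcop : (Nat.card ↥(pPrimeCore p (Mdl h ⧸ B))).Coprime p := Cfsg.Agent.Lib.Helper12.pPrimeCore_coprime p
  have hC := Cfsg.Agent.Lib.Helper27.QuotCent.centralizer_map_mk_le Ab hAbp Tx hTA
  have hrealt := Cfsg.Agent.Lib.Helper27.ModelQuot.realized_quotient_of_coprime p hpTb Nb ιb hrealb
    (pPrimeCore p (Mdl h ⧸ B)) hKcop
  have hVmapt : (V.subgroupOf (normalizerIn S' V)).map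
      ((QuotientGroup.mk' (pPrimeCore p (Mdl h ⧸ B))).comp ιb) =
      Ab.map (QuotientGroup.mk' (pPrimeCore p (Mdl h ⧸ B))) := by
    rw [← hVmap, Subgroup.map_map]
  have hNt : ((V.subgroupOf (normalizerIn S' V)).map
      ((QuotientGroup.mk' (pPrimeCore p (Mdl h ⧸ B))).comp ιb)).Normal := by
    rw [hVmapt]
    exact Subgroup.Normal.map hAbn _ (QuotientGroup.mk'_surjective _)
  have hCt : Subgroup.centralizer (((V.subgroupOf (normalizerIn S' V)).map
      ((QuotientGroup.mk' (pPrimeCore p (Mdl h ⧸ B))).comp ιb) : Subgroup _) : Set _) ≤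
      (V.subgroupOf (normalizerIn S' V)).map ((QuotientGroup.mk' (pPrimeCore p (Mdl h ⧸ B))).comp ιb) := by
    rw [hVmapt]
    exact hC
  have hEsat : E.IsSaturated p := surj_saturated p hS F hF E θ hθ
  have hsatNb := normalizerSystem_saturated hpS' E hEsat hVfn Nb hNb
  have hb : Setup p Nb V :=
    ⟨hpTb, hsatNb, isNormal_of_isNormalizerSystem E hVS' Nb hNb, isCentric_of_isNormalizerSystem E hVc Nb hNb⟩
  haveI : Finite ↥V := finite_of_le hVS'
  obtain ⟨Φ, hΦ⟩ := exists_iso_of_realized hb hrealt hNt hCt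
  obtain ⟨Ψ, hΨ⟩ := model_unique hpTb ι' (mIota hb) hM' (isModel hb)
  refine ⟨_, hN, Mdl h, inferInstance, mIota h, isModel h,
    (Ψ.symm.toMonoidHom.comp Φ.symm.toMonoidHom).comp
      ((QuotientGroup.mk' (pPrimeCore p (Mdl h ⧸ B))).comp (QuotientGroup.mk' B)), ?_⟩
  intro y
  obtain ⟨w, hw⟩ := QuotientGroup.mk'_surjective (pPrimeCore p (Mdl h ⧸ B)) (Φ (Ψ y))
  obtain ⟨x, hx⟩ := QuotientGroup.mk'_surjective B w
  refine ⟨x, ?_⟩
  show Ψ.symm (Φ.symm (QuotientGroup.mk' _ (QuotientGroup.mk' B x))) = y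
  rw [hx, hw]
  simp

end Cfsg.Agent.Lib.Helper27.FM
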