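import Cfsg.Agent.Lib.Helper27.KL13
import Cfsg.Agent.Lib.Helper27.FSCentric
import Cfsg.Agent.Lib.Helper26.GT8
import Cfsg.Agent.S5240
import Cfsg.Agent.S5241

/-!
helper27: the ZJ-theorem for fusion systems in functor form (after Kessar–Linckelmann): for a Glauberman functor `W`
and a saturated `Qd(p)`-free fusion system `F` over `S`, the subgroup `W(S)` is normal in `F`.
-/

set_option autoImplicit false
set_option linter.unusedSectionVars false
set_option linter.unusedVariables false

namespace Cfsg.Agent.Lib.Helper27.KL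

open Cfsg Cfsg.FusionSystem Cfsg.Agent.Lib.Helper26 Cfsg.Agent.Lib.Helper27.FM
  Cfsg.Agent.Lib.Helper27.ModelRad

universe u

/-- The induction hypothesis at `(n, m)`. -/
def IHzj (p : ℕ) (W : ∀ (Q : Type u) [Group Q], Subgroup Q) (n m : ℕ) : Prop :=
  ∀ (Ω : Type u) [Group Ω] (S : Subgroup Ω) [Finite S], IsPGroup p S → ∀ F : FusionSystem S,
    F.IsSaturated p → F.IsSectionFree p ↥(Cfsg.qd p) →
    (Nat.card S < n ∨ (Nat.card S = n ∧ GT.mu F < m)) → F.IsNormal (WS W S)

variable {Ω : Type u} [Group Ω] {S : Subgroup Ω} {p : ℕ} [Fact p.Prime]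
  {W : ∀ (Q : Type u) [Group Q], Subgroup Q}

theorem ih_sub {n m : ℕ} (IH : IHzj p W n m) [Finite S] (hS : IsPGroup p S) (F : FusionSystem S)
    (hF : F.IsSaturated p) (hn : Nat.card S = n) (hm : GT.mu F = m) {T : Subgroup Ω} (hTS : T ≤ S)
    (E : FusionSystem T) (hE : E.IsSaturated p) (hEfree : E.IsSectionFree p ↥(Cfsg.qd p))
    (hle : ∀ P, E.Hom P ⊆ F.Hom P) (hne : ¬ ∀ P, F.Hom P ⊆ E.Hom P) : E.IsNormal (WS W T) := by
  haveI : Finite ↥T := finite_of_le hTS
  have hpT : IsPGroup p T := hS.to_le hTS
  rcases (Subgroup.card_le_of_le hTS).lt_or_eq with h | h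
  · exact IH Ω T hpT E hE hEfree (Or.inl (hn ▸ h))
  · have hTS' : T = S := Subgroup.eq_of_le_of_card_ge hTS h.ge
    subst hTS'
    exact IH Ω T hpT E hE hEfree (Or.inr ⟨hn, hm ▸ GT.mu_lt hS E F hF hle hne⟩)

theorem isCentric_of_isNormal_of_centralizerIn_le [Finite S] (F : FusionSystem S) {Q : Subgroup Ω}
    (hQ : F.IsNormal Q) (h : centralizerIn S Q ≤ Q) : F.IsCentric Q := by
  refine ⟨hQ.1, fun Q' hconj => ?_⟩
  rw [eq_of_isConj_of_stronglyClosed F (stronglyClosed_of_isNormal F hQ) hconj]
  exact h

theorem isNormal_of_forall_normalizerHom (F : FusionSystem S) {U : Subgroup Ω} (hU : U ≤ S)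
    (h : ∀ P, F.Hom P ⊆ (normalizerSystem F U hU).Hom P) : F.IsNormal U := by
  refine ⟨hU, fun P φ hφ => ?_⟩
  obtain ⟨-, -, -, hex⟩ := h P hφ
  exact hex

/-- The inductive step. -/
theorem zj_step (hW : PosChar p W) (hW3 : GlaubProp p W) {n m : ℕ} (IH : IHzj p W n m) [Finite S]
    (hS : IsPGroup p S) (F : FusionSystem S) (hF : F.IsSaturated p)
    (hfree : F.IsSectionFree p ↥(Cfsg.qd p)) (hn : Nat.card S = n) (hm : GT.mu F = m) :
    F.IsNormal (WS W S) := by
  have hQ : F.IsNormal F.core := core_isNormal F
  have hQS : F.core ≤ S := hQ.1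
  have hsc := stronglyClosed_of_isNormal F hQ
  by_cases hQbot : F.core = ⊥
  · -- trivial core: local-to-global
    apply isNormal_of_local hW hS F hF
    intro U hU hUne hUfn
    have hE := normalizerSystem_isNormalizerSystem F U hU
    apply ih_sub IH hS F hF hn hm (normalizerIn_le S U) _ (normalizerSystem_saturated hS F hF hUfn _ hE)
      (Cfsg.Agent.S5240.result p hS F hF hfree U hUfn _ hE) (fun P φ hφ => hφ.1)
    intro hall
    have hUn : F.IsNormal U := isNormal_of_forall_normalizerHom F hU hall
    have : U ≤ F.core := le_sSup hUn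
    rw [hQbot] at this
    exact hUne (le_bot_iff.mp this)
  · by_cases hQc : F.IsCentric F.core
    · exact isNormal_WS_of_constrained hW hW3 hS F hF hfree hQ hQc
    · haveI : Finite ↥F.core := finite_of_le hQS
      have hSN : S ≤ Subgroup.normalizer (F.core : Set Ω) := le_normalizer_of_stronglyClosed F hsc
      have hQn : ∀ s ∈ S, ∀ q ∈ F.core, s * q * s⁻¹ ∈ F.core := fun s hs q hq =>
        (Subgroup.mem_normalizer_iff.mp (hSN hs) q).mp hq
      have hVn : ∀ s ∈ S, ∀ u ∈ WS W S, s * u * s⁻¹ ∈ WS W S := fun s hs u hu =>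
        hW.conj_mem hS (Subgroup.le_normalizer hs) hu
      by_cases hD : ∀ P, F.Hom P ⊆ (scSystem F F.core hQS hQn).Hom P
      · -- every map acts on the core as an element of `S`: pass to the quotient
        exfalso
        have hall : ∀ (R : Subgroup Ω) (θ : Ω → Ω), IsFM F R θ → SC F F.core R θ := by
          intro R θ hθ
          obtain ⟨φ, hφ, h1⟩ := hθ
          exact (isFM_scSystem_iff F F.core hQS hQn).mp ⟨φ, hD R hφ, h1⟩
        haveI hnorm : (F.core.subgroupOf S).Normal := by
          constructor
          intro q hq s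
          rw [Subgroup.mem_subgroupOf] at hq ⊢
          exact hQn s s.2 q hq
        obtain ⟨E, hE⟩ := exists_factorSystem_quotient F F.core hsc
        have hθ := factorSystem_isSurjectiveMorphism hS F hF F.core hsc _ E hE
        have hEsat := surj_saturated p hS F hF E _ hθ
        have hEfree := Cfsg.Agent.S5241.result p hS F hF F.core hQ hfree _ E hE
        have hpTop : IsPGroup p (⊤ : Subgroup (↥S ⧸ F.core.subgroupOf S)) :=
          (hS.to_quotient (F.core.subgroupOf S)).to_subgroup ⊤
        have hcard : Nat.card (⊤ : Subgroup (↥S ⧸ F.core.subgroupOf S)) < n := by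
          rw [Subgroup.card_top, ← hn, Subgroup.card_eq_card_quotient_mul_card_subgroup (F.core.subgroupOf S)]
          have h1 : 1 < Nat.card ↥(F.core.subgroupOf S) := by
            rw [Subgroup.one_lt_card_iff_ne_bot]
            intro h
            apply hQbot
            rw [Subgroup.subgroupOf_eq_bot] at h
            exact disjoint_iff.mp h ▸ (inf_eq_left.mpr hQS).symm
          have h2 : 0 < Nat.card (↥S ⧸ F.core.subgroupOf S) := Nat.card_pos
          nlinarith
        have hV' := IH _ ⊤ hpTop E hEsat hEfree (Or.inl hcard)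
        have hV := isNormal_preimage_of_forall_sc hS F hF hQ hall hE hV'
        have hVQ : preimageAlong (QuotientGroup.mk' (F.core.subgroupOf S))
            (WS W (⊤ : Subgroup (↥S ⧸ F.core.subgroupOf S))) ≤ F.core := le_sSup hV
        -- the quotient is nontrivial
        have hQneS : F.core ≠ S := by
          intro h
          apply hQc
          rw [h]
          exact Cfsg.Agent.Lib.Helper27.isCentric_self F
        have htop : (⊤ : Subgroup (↥S ⧸ F.core.subgroupOf S)) ≠ ⊥ := by
          intro h
          apply hQneS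
          apply le_antisymm hQS
          intro s hs
          have h1 : (QuotientGroup.mk' (F.core.subgroupOf S) ⟨s, hs⟩) ∈
              (⊤ : Subgroup (↥S ⧸ F.core.subgroupOf S)) := Subgroup.mem_top _
          rw [h, Subgroup.mem_bot, QuotientGroup.mk'_apply, QuotientGroup.eq_one_iff] at h1
          exact h1
        have hne := hW.WS_ne_bot hpTop htop
        apply hne
        rw [eq_bot_iff]
        intro v' hv'
        obtain ⟨s, rfl⟩ := QuotientGroup.mk'_surjective (F.core.subgroupOf S) v'
        have hsV : (s : Ω) ∈ preimageAlong (QuotientGroup.mk' (F.core.subgroupOf S))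
            (WS W (⊤ : Subgroup (↥S ⧸ F.core.subgroupOf S))) := by
          rw [mem_preimageAlong_iff]
          exact ⟨s.2, hv'⟩
        have hsQ := hVQ hsV
        rw [Subgroup.mem_bot, QuotientGroup.mk'_apply, QuotientGroup.eq_one_iff]
        exact hsQ
      · -- generation by `S C_F(Q)` and `N_F(Q C_S(Q))`
        have hDn : (scSystem F F.core hQS hQn).IsNormal (WS W S) :=
          ih_sub IH hS F hF hn hm le_rfl _ (scSystem_saturated hS F hF F.core hQS hQn)
            (scSystem_sectionFree hS F hF hfree hQ hQn) (scSystem_le F F.core hQS hQn) hD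
        have hRS : F.core ⊔ centralizerIn S F.core ≤ S := sup_le hQS (centralizerIn_le S F.core)
        have hRn : ∀ s ∈ S, ∀ r ∈ F.core ⊔ centralizerIn S F.core,
            s * r * s⁻¹ ∈ F.core ⊔ centralizerIn S F.core := fun s hs =>
          conj_mem_sup_of_forall (hQn s hs) (fun c hc => conj_mem_centralizerIn hQn hs hc)
        haveI : Finite ↥(F.core ⊔ centralizerIn S F.core) := finite_of_le hRS
        have hNR : normalizerIn S (F.core ⊔ centralizerIn S F.core) = S :=
          le_antisymm (normalizerIn_le S _) (fun s hs => ⟨hs, mem_normalizer_of_conj_mem_finite (hRn s hs)⟩)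
        have hRfn : F.IsFullyNormalized (F.core ⊔ centralizerIn S F.core) :=
          GT.isFullyNormalized_of_normalizerIn_eq F hRS hNR
        have hE₀ := normalizerSystem_isNormalizerSystem F _ hRS
        have hne₀ : ¬ ∀ P, F.Hom P ⊆ (normalizerSystem F _ hRS).Hom P := by
          intro hall
          have hRnorm : F.IsNormal (F.core ⊔ centralizerIn S F.core) :=
            isNormal_of_forall_normalizerHom F hRS hall
          have h1 : F.core ⊔ centralizerIn S F.core ≤ F.core := le_sSup hRnorm
          exact hQc (isCentric_of_isNormal_of_centralizerIn_le F hQ (le_sup_right.trans h1))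
        have hEn : (normalizerSystem F _ hRS).IsNormal
            (WS W (normalizerIn S (F.core ⊔ centralizerIn S F.core))) :=
          ih_sub IH hS F hF hn hm (normalizerIn_le S _) _ (normalizerSystem_saturated hS F hF hRfn _ hE₀)
            (Cfsg.Agent.S5240.result p hS F hF hfree _ hRfn _ hE₀) (fun P φ hφ => hφ.1) hne₀
        rw [WS_congr W hNR] at hEn
        exact isNormal_of_gen hS F hF hQ hQn (WS_le W S) hVn hDn hRS hEn

/-- **The ZJ-theorem for fusion systems, functor form**: `W(S)` is normal in `F`. -/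
theorem zj_main (hW : PosChar p W) (hW3 : GlaubProp p W) :
    ∀ (n m : ℕ) (Ω : Type u) [Group Ω] (S : Subgroup Ω) [Finite S], IsPGroup p S → ∀ F : FusionSystem S,
      F.IsSaturated p → F.IsSectionFree p ↥(Cfsg.qd p) → Nat.card S = n → GT.mu F = m →
      F.IsNormal (WS W S) := by
  intro n
  induction n using Nat.strong_induction_on with
  | _ n ihn =>
    intro m
    induction m using Nat.strong_induction_on with
    | _ m ihm =>
      intro Ω _ S _ hS F hF hfree hn hm
      apply zj_step hW hW3 (n := n) (m := m) ?_ hS F hF hfree hn hm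
      intro Ω' _ S' _ hS' F' hF' hfree' hlt
      rcases hlt with h | ⟨h1, h2⟩
      · exact ihn _ h _ Ω' S' hS' F' hF' hfree' rfl rfl
      · exact ihm _ h2 Ω' S' hS' F' hF' hfree' h1 rfl

theorem zj_isNormal (hW : PosChar p W) (hW3 : GlaubProp p W) [Finite S] (hS : IsPGroup p S)
    (F : FusionSystem S) (hF : F.IsSaturated p) (hfree : F.IsSectionFree p ↥(Cfsg.qd p)) :
    F.IsNormal (WS W S) :=
  zj_main hW hW3 _ _ Ω S hS F hF hfree rfl rfl

end Cfsg.Agent.Lib.Helper27.KL
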