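import Mathlib
import Cfsg.Prelude.Def_ClassicalGeometry
import Cfsg.Prelude.Def_GeometricClasses
import Cfsg.Agent.Lib.Helper5.SpMax
import Cfsg.Agent.Lib.Helper2.SpSubDefs
import Cfsg.Agent.Lib.Helper2.SpSubBasic
import Cfsg.Agent.Lib.Helper29.SpSubB
import Cfsg.Agent.Lib.Helper9.SpSubT

/-!
# S5650 (helper2's market), leaves E2 + E3 (helper27), core form with E1 as a hypothesis

`nr_pair`: if `S_{a,b}(κ) T_a(ν) ∈ M` for rational independent `a ⊥ b` then `κ ∈ F₀`.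
`nrT`: if `T_a(c) ∈ M` for rational `a ≠ 0` then `c ∈ F₀`.
-/

set_option autoImplicit false
set_option linter.unusedSimpArgs false
set_option linter.unusedVariables false

open Cfsg Matrix Cfsg.Agent.Lib.Helper5 Cfsg.Agent.Lib.Helper5.SpMax Cfsg.Agent.Lib.Helper2.SpSub

namespace Cfsg.Agent.Lib.Helper27.SpSubLeaf

variable {F : Type*} [Field F] {m : ℕ}

theorem symp_swap0 {a b : Fin m ⊕ Fin m → F} (h : sympForm m F a b = 0) :
    sympForm m F b a = 0 := by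
  rw [sympForm_swap, h, neg_zero]

/-- `tvc a ν` commutes with every symplectic `x` fixing `a`. -/
theorem tvc_comm_of_fix {x : GL (Fin m ⊕ Fin m) F} (hx : x ∈ spGL m F) {a : Fin m ⊕ Fin m → F}
    (hxa : mv x a = a) (ν : F) : x * tvc a ν = tvc a ν * x := by
  have h := conj_tvc hx a ν
  rw [show ((x : Matrix (Fin m ⊕ Fin m) (Fin m ⊕ Fin m) F) *ᵥ a) = a from hxa] at h
  calc x * tvc a ν = x * tvc a ν * x⁻¹ * x := by group
    _ = tvc a ν * x := by rw [h]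

/-- (E2) -/
theorem nr_pair_of [Fintype F] {F₀ : Subfield F} (hm : 3 ≤ m) {M : Subgroup (GL (Fin m ⊕ Fin m) F)}
    (h : Ctx F₀ M)
    (hE1 : ∀ {i j : Fin m}, i ≠ j → ∀ {c : F}, Sab (ee i) (ff j) c ∈ M → c ∈ F₀) {a b : Fin m ⊕ Fin m → F} (ha : RatV F₀ a) (hb : RatV F₀ b)
    (hab : sympForm m F a b = 0) (hind : ∀ s t : F, s • a + t • b = 0 → s = 0 ∧ t = 0)
    {κ ν : F} (hc : Sab a b κ * tvc a ν ∈ M) : κ ∈ F₀ := by
  -- indices
  set i1 : Fin m := ⟨0, by omega⟩ with hi1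
  set i2 : Fin m := ⟨1, by omega⟩ with hi2
  set i3 : Fin m := ⟨2, by omega⟩ with hi3
  have h12 : i1 ≠ i2 := by rw [hi1, hi2]; intro hh; simp [Fin.ext_iff] at hh
  have h13 : i1 ≠ i3 := by rw [hi1, hi3]; intro hh; simp [Fin.ext_iff] at hh
  have h23 : i2 ≠ i3 := by rw [hi2, hi3]; intro hh; simp [Fin.ext_iff] at hh
  obtain ⟨g, hgH, hg1, hg2⟩ :=
    Cfsg.Agent.Lib.Helper9.SpSubLeaf.exists_H0_map_pair F₀ hm h12 ha hb hab hind
  have hgM : g ∈ M := h.le hgH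
  have hgsp : g ∈ spGL m F := h.le_sp hgM
  have hginvsp : g⁻¹ ∈ spGL m F := (spGL m F).inv_mem hgsp
  -- conjugate by g⁻¹
  have e1 : mv g⁻¹ a = ee i1 := by rw [← hg1, mv_inv_mv]
  have e2 : mv g⁻¹ b = ee i2 := by rw [← hg2, mv_inv_mv]
  have hconj : g⁻¹ * (Sab a b κ * tvc a ν) * g =
      Sab (ee i1) (ee i2) κ * tvc (ee i1) ν := by
    have c1 := conj_Sab hginvsp a b κ
    have c2 := conj_tvc hginvsp a ν
    rw [inv_inv] at c1 c2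
    rw [e1, e2] at c1
    rw [show ((g⁻¹ : GL (Fin m ⊕ Fin m) F) : Matrix (Fin m ⊕ Fin m) (Fin m ⊕ Fin m) F) *ᵥ a
      = ee i1 from e1] at c2
    rw [← c1, ← c2]
    group
  have hST : Sab (ee i1 : Fin m ⊕ Fin m → F) (ee i2) κ * tvc (ee i1) ν ∈ M := by
    rw [← hconj]
    exact M.mul_mem (M.mul_mem (M.inv_mem hgM) hc) hgM
  -- Z = S_{f_2, f_3}(1)
  have hZH : Sab (ff i2 : Fin m ⊕ Fin m → F) (ff i3) 1 ∈ H0 m F₀ :=
    Sab_mem_H0 (ratV_ff i2) (ratV_ff i3) F₀.one_mem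
  have hZM := h.le hZH
  have hZsp := h.le_sp hZM
  have hff : sympForm m F (ff i2 : Fin m ⊕ Fin m → F) (ff i3) = 0 := B_ff_ff i2 i3
  have hZe1 : mv (Sab (ff i2 : Fin m ⊕ Fin m → F) (ff i3) 1) (ee i1) = ee i1 := by
    rw [Sab_mulVec hff, B_ee_ff, B_ee_ff, if_neg h12, if_neg h13]
    simp
  have hcomm := tvc_comm_of_fix hZsp hZe1 ν
  -- the commutator
  have hB2 := Cfsg.Agent.Lib.Helper29.SpSubLeaf.Sab_comm (a := (ee i1 : Fin m ⊕ Fin m → F))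
    (b := ee i2) (b' := ff i2) (d := ff i3) (B_ee_ee i1 i2) hff
    (by rw [B_ee_ff, if_neg h12]) (by rw [B_ee_ff, if_neg h13]) (by rw [B_ee_ff, if_neg h23]) κ 1
  rw [B_ff_ee, if_pos rfl, mul_one, mul_one] at hB2
  have hcm : (Sab (ee i1 : Fin m ⊕ Fin m → F) (ee i2) κ * tvc (ee i1) ν) *
      Sab (ff i2) (ff i3) 1 * (Sab (ee i1) (ee i2) κ * tvc (ee i1) ν)⁻¹ *
      (Sab (ff i2) (ff i3) 1)⁻¹ = Sab (ee i1) (ff i3) κ := by
    rw [← hB2]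
    have : tvc (ee i1 : Fin m ⊕ Fin m → F) ν * Sab (ff i2) (ff i3) 1 * (tvc (ee i1) ν)⁻¹ =
        Sab (ff i2) (ff i3) 1 := by
      rw [← hcomm]; group
    calc _ = Sab (ee i1 : Fin m ⊕ Fin m → F) (ee i2) κ *
          (tvc (ee i1) ν * Sab (ff i2) (ff i3) 1 * (tvc (ee i1) ν)⁻¹) *
          (Sab (ee i1) (ee i2) κ)⁻¹ * (Sab (ff i2) (ff i3) 1)⁻¹ := by group
      _ = _ := by rw [this]
  have hmem : Sab (ee i1 : Fin m ⊕ Fin m → F) (ff i3) κ ∈ M := by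
    rw [← hcm]
    exact M.mul_mem (M.mul_mem (M.mul_mem hST hZM) (M.inv_mem hST)) (M.inv_mem hZM)
  exact hE1 h13 hmem

/-- (E3) -/
theorem nrT_of [Fintype F] {F₀ : Subfield F} (hm : 3 ≤ m) {M : Subgroup (GL (Fin m ⊕ Fin m) F)}
    (h : Ctx F₀ M)
    (hE1 : ∀ {i j : Fin m}, i ≠ j → ∀ {c : F}, Sab (ee i) (ff j) c ∈ M → c ∈ F₀) {a : Fin m ⊕ Fin m → F} (ha : RatV F₀ a) (ha0 : a ≠ 0) {c : F}
    (hc : tvc a c ∈ M) : c ∈ F₀ := by
  set i1 : Fin m := ⟨0, by omega⟩ with hi1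
  set i2 : Fin m := ⟨1, by omega⟩ with hi2
  have h12 : i1 ≠ i2 := by rw [hi1, hi2]; intro hh; simp [Fin.ext_iff] at hh
  obtain ⟨g, hgH, hg1⟩ :=
    Cfsg.Agent.Lib.Helper9.SpSubLeaf.exists_H0_map_ee F₀ (by omega : 2 ≤ m) i1 ha ha0
  have hgM : g ∈ M := h.le hgH
  have hgsp : g ∈ spGL m F := h.le_sp hgM
  have hginvsp : g⁻¹ ∈ spGL m F := (spGL m F).inv_mem hgsp
  have e1 : mv g⁻¹ a = ee i1 := by rw [← hg1, mv_inv_mv]
  have hT1 : tvc (ee i1 : Fin m ⊕ Fin m → F) c ∈ M := by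
    have c2 := conj_tvc hginvsp a c
    rw [inv_inv, show ((g⁻¹ : GL (Fin m ⊕ Fin m) F) : Matrix (Fin m ⊕ Fin m) (Fin m ⊕ Fin m) F) *ᵥ a
      = ee i1 from e1] at c2
    rw [← c2]
    exact M.mul_mem (M.mul_mem (M.inv_mem hgM) hc) hgM
  -- X = S_{e_2, f_1}(1)
  have hef : sympForm m F (ee i2 : Fin m ⊕ Fin m → F) (ff i1) = 0 := by
    rw [B_ee_ff, if_neg (Ne.symm h12)]
  have hXH : Sab (ee i2 : Fin m ⊕ Fin m → F) (ff i1) 1 ∈ H0 m F₀ :=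
    Sab_mem_H0 (ratV_ee i2) (ratV_ff i1) F₀.one_mem
  have hXM := h.le hXH
  have hXsp := h.le_sp hXM
  have hXe1 : mv (Sab (ee i2 : Fin m ⊕ Fin m → F) (ff i1) 1) (ee i1) = ee i1 + (-ee i2) := by
    rw [Sab_mulVec hef, B_ee_ee, B_ee_ff, if_pos rfl]
    simp
  have hT2 : tvc ((ee i1 : Fin m ⊕ Fin m → F) + (-ee i2)) c ∈ M := by
    have c2 := conj_tvc hXsp (ee i1 : Fin m ⊕ Fin m → F) c
    rw [show ((Sab (ee i2 : Fin m ⊕ Fin m → F) (ff i1) 1 : GL (Fin m ⊕ Fin m) F) :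
      Matrix (Fin m ⊕ Fin m) (Fin m ⊕ Fin m) F) *ᵥ (ee i1) = ee i1 + (-ee i2) from hXe1] at c2
    rw [← c2]
    exact M.mul_mem (M.mul_mem hXM hT1) (M.inv_mem hXM)
  have horth : sympForm m F (ee i1 : Fin m ⊕ Fin m → F) (-ee i2) = 0 := by
    rw [show (-ee i2 : Fin m ⊕ Fin m → F) = (-1 : F) • ee i2 by rw [neg_one_smul],
      sympForm_smul_right, B_ee_ee, mul_zero]
  have horth' : sympForm m F (-ee i2 : Fin m ⊕ Fin m → F) (ee i1) = 0 := symp_swap0 horth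
  rw [tvc_add_orth horth] at hT2
  -- so tvc (-e_2) c * Sab e_1 (-e_2) c ∈ M
  have h3 : tvc (-ee i2 : Fin m ⊕ Fin m → F) c * Sab (ee i1) (-ee i2) c ∈ M := by
    have : tvc (-ee i2 : Fin m ⊕ Fin m → F) c * Sab (ee i1) (-ee i2) c =
        (tvc (ee i1) c)⁻¹ * (tvc (ee i1) c * tvc (-ee i2) c * Sab (ee i1) (-ee i2) c) := by group
    rw [this]
    exact M.mul_mem (M.inv_mem hT1) hT2
  -- commute
  have hfix : mv (Sab (ee i1 : Fin m ⊕ Fin m → F) (-ee i2) c) (-ee i2) = -ee i2 := by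
    rw [Sab_mulVec horth, sympForm_self, horth']
    simp
  have hcomm := tvc_comm_of_fix (Sab_mem_sp (ee i1 : Fin m ⊕ Fin m → F) (-ee i2) c) hfix c
  rw [← hcomm, Sab_symm horth] at h3
  -- apply E2
  refine nr_pair_of hm h hE1 (a := -ee i2) (b := ee i1) (ratV_neg (ratV_ee i2)) (ratV_ee i1) horth' ?_ h3
  intro s t hst
  have hA := congrFun hst (Sum.inl i2)
  have hB := congrFun hst (Sum.inl i1)
  have hne : (Sum.inl i1 : Fin m ⊕ Fin m) ≠ Sum.inl i2 := fun hh => h12 (Sum.inl.inj hh)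
  simp only [Pi.add_apply, Pi.smul_apply, Pi.neg_apply, Pi.zero_apply, ee, smul_eq_mul,
    Pi.single_eq_same, Pi.single_eq_of_ne hne, Pi.single_eq_of_ne hne.symm] at hA hB
  constructor
  · simpa using hA
  · simpa using hB

end Cfsg.Agent.Lib.Helper27.SpSubLeaf
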