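import Mathlib
import Cfsg.Prelude.Def_ClassicalGeometry
import Cfsg.Prelude.Def_GeometricClasses
import Cfsg.Agent.Lib.Helper5.SpMax
import Cfsg.Agent.Lib.Helper2.SpSubDefs
import Cfsg.Agent.Lib.Helper29.SpSubE1core
import Cfsg.Agent.Lib.Helper8.SpSubE0
import Cfsg.Agent.Lib.Helper27.SpSubE23core

/-!
# S5650 (helper2's market), leaves E2 + E3 (helper27), exact signatures
-/

set_option autoImplicit false

open Cfsg Matrix Cfsg.Agent.Lib.Helper5 Cfsg.Agent.Lib.Helper5.SpMax Cfsg.Agent.Lib.Helper2.SpSub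

namespace Cfsg.Agent.Lib.Helper27.SpSubLeaf

variable {F : Type*} [Field F] {m : ℕ}

/-- (E1), exact leaf form, from helper29's core and helper8's E0 (own copy) -/
theorem nrS_e23 [Fintype F] {F₀ : Subfield F} (hm : 3 ≤ m) {M : Subgroup (GL (Fin m ⊕ Fin m) F)}
    (h : Ctx F₀ M) {i j : Fin m} (hij : i ≠ j) {c : F} (hc : Sab (ee i) (ff j) c ∈ M) : c ∈ F₀ :=
  Cfsg.Agent.Lib.Helper29.SpSubLeaf.nrS_of hm h
    (Cfsg.Agent.Lib.Helper8.SpSubLeaf.sp_le_of_top F₀ hm h.le h.le_sp) hij hc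

/-- (E2) -/
theorem nr_pair [Fintype F] {F₀ : Subfield F} (hm : 3 ≤ m) {M : Subgroup (GL (Fin m ⊕ Fin m) F)}
    (h : Ctx F₀ M) {a b : Fin m ⊕ Fin m → F} (ha : RatV F₀ a) (hb : RatV F₀ b)
    (hab : sympForm m F a b = 0) (hind : ∀ s t : F, s • a + t • b = 0 → s = 0 ∧ t = 0)
    {κ ν : F} (hc : Sab a b κ * tvc a ν ∈ M) : κ ∈ F₀ :=
  nr_pair_of hm h (fun hij _ hc => nrS_e23 hm h hij hc)
    ha hb hab hind hc

/-- (E3) -/
theorem nrT [Fintype F] {F₀ : Subfield F} (hm : 3 ≤ m) {M : Subgroup (GL (Fin m ⊕ Fin m) F)}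
    (h : Ctx F₀ M) {a : Fin m ⊕ Fin m → F} (ha : RatV F₀ a) (ha0 : a ≠ 0) {c : F}
    (hc : tvc a c ∈ M) : c ∈ F₀ :=
  nrT_of hm h (fun hij _ hc => nrS_e23 hm h hij hc) ha ha0 hc

end Cfsg.Agent.Lib.Helper27.SpSubLeaf
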