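import Mathlib
import Cfsg.Prelude.Def_GeometricClasses
import Cfsg.Agent.Lib.Helper25.SpTDefs

/-!
S5704 (`Sp_a ⊗ Sp_b` maximal in `Ω⁺_{ab}(q)`), Stage III (G) (helper27's sub-market): definitions.

Standing hypotheses `GCtx`: helper25's model `Ctx a b Q`, `M ≤ Ω`, and all basic `K`-elements
`kA x c = τ_{x,c} ⊗ 1`, `kB y c = 1 ⊗ τ_{y,c}` lie in `M`.
`RR Q M x y x' y'`: all root elements `rt Q (pt x y) (pt x' y') c`, `c ∈ F`, lie in `M`.
Type predicates `P1`, `P3`, `P4`, `P6`, `P7`, `PAll`.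
-/

set_option autoImplicit false
set_option linter.unusedSectionVars false
set_option linter.unusedVariables false

namespace Cfsg.Agent.Lib.Helper27.SpTG
open Matrix QuadraticMap
open Cfsg.Agent.Lib.Helper25.Tens Cfsg.Agent.Lib.Helper25.SpT Cfsg.Agent.Lib.Helper19.OSub

variable {F : Type*} [Field F] {a b : ℕ}

/-- the standing hypotheses of Stage III -/
structure GCtx (a b : ℕ) (Q : QuadraticForm F (Idx a b → F))
    (M : Subgroup (GL (Idx a b) F)) : Prop extends Ctx a b Q where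
  le_om : M ≤ Cfsg.Geo.omegaGL ⇑Q
  hA : ∀ (x : Fin a → F) (c : F), (kA x c : GL (Idx a b) F) ∈ M
  hB : ∀ (y : Fin b → F) (c : F), (kB y c : GL (Idx a b) F) ∈ M

/-- all root elements `x_{x⊗y, x'⊗y'}(c)` lie in `M` -/
def RR (Q : QuadraticForm F (Idx a b → F)) (M : Subgroup (GL (Idx a b) F))
    (x : Fin a → F) (y : Fin b → F) (x' : Fin a → F) (y' : Fin b → F) : Prop :=
  ∀ c : F, rt Q (pt x y) (pt x' y') c ∈ M

/-- type T1 everywhere: `x ⊗ y`, `x' ⊗ y` with `x' ⊥ x` -/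
def P1 (Q : QuadraticForm F (Idx a b → F)) (M : Subgroup (GL (Idx a b) F)) : Prop :=
  ∀ (x x' : Fin a → F) (y : Fin b → F), sf x x' = 0 → RR Q M x y x' y

/-- type T3 everywhere: `x ⊗ y`, `x ⊗ y'` with `y' ⊥ y` -/
def P3 (Q : QuadraticForm F (Idx a b → F)) (M : Subgroup (GL (Idx a b) F)) : Prop :=
  ∀ (x : Fin a → F) (y y' : Fin b → F), sf y y' = 0 → RR Q M x y x y'

/-- type T4 everywhere: `x ⊗ y`, `x ⊗ y'` -/
def P4 (Q : QuadraticForm F (Idx a b → F)) (M : Subgroup (GL (Idx a b) F)) : Prop :=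
  ∀ (x : Fin a → F) (y y' : Fin b → F), RR Q M x y x y'

/-- type T6 everywhere: `x ⊗ y`, `x' ⊗ y'` with `x' ⊥ x` -/
def P6 (Q : QuadraticForm F (Idx a b → F)) (M : Subgroup (GL (Idx a b) F)) : Prop :=
  ∀ (x x' : Fin a → F) (y y' : Fin b → F), sf x x' = 0 → RR Q M x y x' y'

/-- type T7 everywhere: `x ⊗ y`, `x' ⊗ y'` with `y' ⊥ y` -/
def P7 (Q : QuadraticForm F (Idx a b → F)) (M : Subgroup (GL (Idx a b) F)) : Prop :=
  ∀ (x x' : Fin a → F) (y y' : Fin b → F), sf y y' = 0 → RR Q M x y x' y'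

/-- all pure root elements lie in `M` -/
def PAll (Q : QuadraticForm F (Idx a b → F)) (M : Subgroup (GL (Idx a b) F)) : Prop :=
  ∀ (x x' : Fin a → F) (y y' : Fin b → F), RR Q M x y x' y'

/-- the action of the symplectic transvection `τ_{z,μ}` on vectors -/
def tva {n : ℕ} (z : Fin n → F) (μ : F) (x : Fin n → F) : Fin n → F := x + (μ * sf x z) • z

end Cfsg.Agent.Lib.Helper27.SpTG
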