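import Mathlib
import Cfsg.Agent.Lib.Helper25.SpTNDefs

/-!
S5704, part (N2), the pure algebra leaves (exact signatures of `notes/S5704_N2_leaves.lean`):
`scalar_of_conj_stv` (N2e-alg), `exists_not_eigen`, `scalar_of_alt_two` (N2g-alg).
-/

set_option autoImplicit false
set_option linter.unusedSectionVars false
set_option linter.unusedVariables false

namespace Cfsg.Agent.Lib.Helper27.SpTNLeaf
open Matrix QuadraticMap
open Cfsg.Agent.Lib.Helper25.Tens Cfsg.Agent.Lib.Helper25.TensLeaves Cfsg.Agent.Lib.Helper19.OSub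
open Cfsg.Agent.Lib.Helper25.SpT
open scoped Kronecker

variable {F : Type*} [Field F] [Fintype F] {a b : ℕ} {Q : QuadraticForm F (Idx a b → F)}
  {M : Subgroup (GL (Idx a b) F)}

/-- a matrix all of whose vectors are eigenvectors is scalar -/
theorem isScalarMat_of_forall_dep (Θ : Matrix (Fin a) (Fin a) F)
    (h : ∀ y : Fin a → F, ¬ LinearIndependent F ![y, Θ *ᵥ y]) : IsScalarMat Θ := by
  obtain ⟨c, hc⟩ := LinearMap.exists_eq_smul_id_of_forall_notLinearIndependent
    (f := Matrix.mulVecLin Θ) (fun v => by simpa using h v)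
  refine ⟨c, ?_⟩
  ext i j
  have h1 := congrFun (LinearMap.congr_fun hc (Pi.single j 1)) i
  simp only [Matrix.mulVecLin_apply, Matrix.mulVec_single_one, LinearMap.smul_apply,
    Module.End.one_apply, Pi.smul_apply, smul_eq_mul] at h1
  rw [Matrix.smul_apply, Matrix.one_apply, smul_eq_mul]
  rw [show Θ i j = Θ.col j i from rfl, h1, Pi.single_apply]

/-- (N2g-alg) a non-scalar `Θ` has a non-eigenvector -/
theorem exists_not_eigen (Θ : Matrix (Fin a) (Fin a) F) (hΘ : ¬ IsScalarMat Θ) :
    ∃ y : Fin a → F, LinearIndependent F ![y, Θ *ᵥ y] := by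
  by_contra hcon
  push Not at hcon
  exact hΘ (isScalarMat_of_forall_dep Θ hcon)

/-- (N2g-alg) an alternating-self-adjoint `Θ` on a 2-dimensional space is scalar -/
theorem scalar_of_alt_two (ha : a = 2) (Θ : Matrix (Fin a) (Fin a) F)
    (hΘ : ∀ x : Fin a → F, sf x (Θ *ᵥ x) = 0) : IsScalarMat Θ := by
  subst ha
  have hsf : ∀ x y : Fin 2 → F, sf x y = x 0 * y 1 - x 1 * y 0 := by
    intro x y
    rw [sf_eq_sum]
    simp only [Fin.sum_univ_two, Jm_apply]
    simp
    ring
  have h0 := hΘ ![1, 0]
  have h1 := hΘ ![0, 1]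
  have h2 := hΘ ![1, 1]
  rw [hsf] at h0 h1 h2
  simp [Matrix.mulVec, dotProduct, Fin.sum_univ_two] at h0 h1 h2
  refine ⟨Θ 0 0, ?_⟩
  ext i j
  fin_cases i <;> fin_cases j
  · simp
  · simp [h1]
  · simp [h0]
  · simp only [Fin.mk_one, Fin.isValue, Matrix.smul_apply, Matrix.one_apply_eq, smul_eq_mul, mul_one]
    rw [h0, h1] at h2
    linear_combination h2

/-- for `x ≠ 0` and `4 ≤ a` some `v ⊥ x` is not a multiple of `x` -/
theorem exists_perp_not_span (hea : Even a) (h4 : 4 ≤ a) {x : Fin a → F} (hx : x ≠ 0) :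
    ∃ v : Fin a → F, sf v x = 0 ∧ ∀ t : F, v ≠ t • x := by
  by_contra hcon
  push Not at hcon
  let φ : (Fin a → F) →ₗ[F] F :=
    { toFun := fun v => sf v x
      map_add' := fun v w => sf_add_left v w x
      map_smul' := fun c v => by simp [sf_smul_left] }
  have hker : LinearMap.ker φ ≤ Submodule.span F {x} := by
    intro v hv
    obtain ⟨t, ht⟩ := hcon v hv
    rw [ht]
    exact Submodule.smul_mem _ _ (Submodule.mem_span_singleton_self x)
  have h1 := Submodule.finrank_mono hker
  have h2 : Module.finrank F (Submodule.span F {x}) ≤ 1 := by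
    have := finrank_span_le_card (R := F) ({x} : Set (Fin a → F))
    simpa using this
  have h3 := φ.finrank_range_add_finrank_ker
  have h4' : Module.finrank F (LinearMap.range φ) ≤ 1 := by
    have := Submodule.finrank_le (LinearMap.range φ)
    simpa using this
  have h5 : Module.finrank F (Fin a → F) = a := by simp
  omega

/-- (N2e-alg) pure matrix algebra: `θ - ατα⁻¹` scalar for all symplectic transvections `α` ⇒ `θ` scalar -/
theorem scalar_of_conj_stv (ha : 2 ≤ a) (hea : Even a) (hex : ¬ (Fintype.card F = 2 ∧ a = 2))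
    (θ : Matrix (Fin a) (Fin a) F)
    (hθ : ∀ (x : Fin a → F) (c : F), IsScalarMat (θ - (stv x c : Matrix (Fin a) (Fin a) F) * θ *
      (((stv x c)⁻¹ : GL (Fin a) F) : Matrix (Fin a) (Fin a) F))) : IsScalarMat θ := by
  classical
  -- the basic equation (E)
  have hE : ∀ (x : Fin a → F) (c : F), ∃ s : F, ∀ v : Fin a → F,
      (c * sf v x) • (θ *ᵥ x) - (c * sf (θ *ᵥ v) x) • x = s • v + (s * (c * sf v x)) • x := by
    intro x c
    obtain ⟨s, hs⟩ := hθ x c
    refine ⟨s, fun v => ?_⟩
    have h1 : θ * (stv x c : Matrix (Fin a) (Fin a) F) - (stv x c : Matrix (Fin a) (Fin a) F) * θ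
        = s • (stv x c : Matrix (Fin a) (Fin a) F) := by
      have := congrArg (· * (stv x c : Matrix (Fin a) (Fin a) F)) hs
      simp only [sub_mul, Matrix.mul_assoc, Units.inv_mul, Matrix.mul_one, Matrix.smul_mul,
        Matrix.one_mul] at this
      exact this
    have h2 := congrArg (· *ᵥ v) h1
    simp only [Matrix.sub_mulVec, ← Matrix.mulVec_mulVec, stv_mulVec, Matrix.smul_mulVec,
      Matrix.mulVec_add, Matrix.mulVec_smul] at h2
    rw [smul_add, smul_smul] at h2
    rw [← h2]
    abel
  -- Claim A: every `x ≠ 0` is an eigenvector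
  have hdep : ∀ x : Fin a → F, x ≠ 0 → ∃ t : F, θ *ᵥ x = t • x := by
    intro x hx
    obtain ⟨v₀, hv₀⟩ := exists_sf_ne_zero hea hx
    have hv₀' : sf v₀ x ≠ 0 := by rw [sf_skew]; exact neg_ne_zero.2 hv₀
    obtain ⟨s, hs⟩ := hE x 1
    have hsx := hs x
    rw [sf_self, mul_zero, zero_smul, zero_sub, mul_zero, zero_smul, add_zero, one_mul] at hsx
    have hsσ : s = - sf (θ *ᵥ x) x := by
      have h0 : (s + sf (θ *ᵥ x) x) • x = 0 := by rw [add_smul, ← hsx]; simp
      rcases smul_eq_zero.1 h0 with h | h
      · linear_combination h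
      · exact absurd h hx
    have hs0 : s = 0 := by
      by_cases h4 : 4 ≤ a
      · obtain ⟨v, hv, hvn⟩ := exists_perp_not_span hea h4 hx
        have h1 := hs v
        rw [hv, mul_zero, zero_smul, zero_sub, mul_zero, zero_smul, add_zero, one_mul] at h1
        by_contra hne
        apply hvn (-(sf (θ *ᵥ v) x) / s)
        have h2 : v = s⁻¹ • (s • v) := by rw [smul_smul, inv_mul_cancel₀ hne, one_smul]
        calc v = s⁻¹ • (s • v) := h2
          _ = s⁻¹ • (-(sf (θ *ᵥ v) x • x)) := by rw [← h1]
          _ = (-(sf (θ *ᵥ v) x) / s) • x := by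
            rw [smul_neg, smul_smul, ← neg_smul]
            congr 1
            field_simp
      · have ha2 : a = 2 := by obtain ⟨k, hk⟩ := hea; omega
        have hF : Fintype.card F ≠ 2 := fun h => hex ⟨h, ha2⟩
        obtain ⟨c', hc'0, hc'1⟩ : ∃ c' : F, c' ≠ 0 ∧ c' ≠ 1 := by
          by_contra hcon
          push Not at hcon
          have hle : Fintype.card F ≤ 2 := by
            have hsub : (Finset.univ : Finset F) ⊆ {0, 1} := by
              intro c _
              by_cases hc : c = 0
              · simp [hc]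
              · simp [hcon c hc]
            calc Fintype.card F = (Finset.univ : Finset F).card := rfl
              _ ≤ ({0, 1} : Finset F).card := Finset.card_le_card hsub
              _ ≤ 2 := Finset.card_le_two
          have := Fintype.one_lt_card (α := F)
          omega
        obtain ⟨s', hs'⟩ := hE x c'
        have hsx' := hs' x
        simp only [sf_self, mul_zero, zero_smul, zero_sub, add_zero] at hsx'
        have hsσ' : s' = - (c' * sf (θ *ᵥ x) x) := by
          have h0 : (s' + c' * sf (θ *ᵥ x) x) • x = 0 := by rw [add_smul, ← hsx']; simp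
          rcases smul_eq_zero.1 h0 with h | h
          · linear_combination h
          · exact absurd h hx
        have h1 := hs v₀
        have h1' := hs' v₀
        simp only [one_mul] at h1
        have h3 : (c' * (c' - 1) * sf (θ *ᵥ x) x * sf v₀ x) • x = 0 := by
          rw [hsσ] at h1
          rw [hsσ'] at h1'
          linear_combination (norm := module) h1' - c' • h1
        rcases smul_eq_zero.1 h3 with h | h
        · have hc1 : c' - 1 ≠ 0 := sub_ne_zero.2 hc'1
          have : sf (θ *ᵥ x) x = 0 := by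
            rcases mul_eq_zero.1 h with h | h
            · rcases mul_eq_zero.1 h with h | h
              · rcases mul_eq_zero.1 h with h | h
                · exact absurd h hc'0
                · exact absurd h hc1
              · exact h
            · exact absurd h hv₀'
          rw [hsσ, this, neg_zero]
        · exact absurd h hx
    have h1 := hs v₀
    simp only [hs0, zero_smul, zero_mul, add_zero, one_mul] at h1
    refine ⟨sf (θ *ᵥ v₀) x / sf v₀ x, ?_⟩
    have h2 : θ *ᵥ x = (sf v₀ x)⁻¹ • (sf v₀ x • (θ *ᵥ x)) := by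
      rw [smul_smul, inv_mul_cancel₀ hv₀', one_smul]
    rw [h2, sub_eq_zero.1 h1, smul_smul]
    congr 1
    field_simp
  apply isScalarMat_of_forall_dep
  intro y hy
  by_cases hy0 : y = 0
  · have := hy.ne_zero 0
    simp [hy0] at this
  · obtain ⟨t, ht⟩ := hdep y hy0
    rw [ht, LinearIndependent.pair_iff] at hy
    have := hy t (-1) (by simp)
    simp at this

end Cfsg.Agent.Lib.Helper27.SpTNLeaf
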