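/-
helper27: S4539 (major subsection `(z, b)` with `l(b) ≤ 2` ⇒ `k(B) ≤ p^d`), definitions.
`nMat p e ζ ζ'` = the integer `p^d ⟨ζ°, ζ'°⟩` (`d` the defect of the block `e`),
`zCoeff C e z χ ζ` = the coefficient of `ζ ∈ e` in the class function `c ↦ χ (z c)` on `C`.
-/
import Mathlib
import Cfsg.Agent.Lib.Helper23.SubsecD

set_option autoImplicit false

namespace Cfsg.Agent.Lib.Helper27.MajSub

open Cfsg Cfsg.Agent.CharLib Cfsg.Agent.Lib.Helper24 Cfsg.Agent.Lib.Helper6 Cfsg.Agent.Lib.Helper23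
open Cfsg.Agent.Lib.Helper23.Subsec
open scoped ComplexConjugate

universe u

/-- `c` is a unit of the local ring at `M`. -/
def LocUnit (M : Ideal AlgInt) (c : ℂ) : Prop := MemLocalRing M c ∧ ¬ MemLocalIdeal M c

/-- The integer matrix `p^d ⟨ζ°, ζ'°⟩` of a set `e` of irreducible characters (a block) of `C`:
`[ζ̃, ζ'] / p^m` on `e × e`, `m` the least `p`-adic valuation of a degree in `e`; zero elsewhere. -/
noncomputable def nMat {C : Type u} [Group C] [Fintype C] (p : ℕ) [Fact p.Prime]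
    (e : Set (IrrCharacter C)) (ζ ζ' : IrrCharacter C) : ℤ :=
  open Classical in
  if ζ ∈ e ∧ ζ' ∈ e then tildeInt p ζ ζ' / (p : ℤ) ^ minVal p e else 0

/-- The coefficient of `ζ ∈ e` in the class function `c ↦ χ (z c)` of `C` (zero off `e`). -/
noncomputable def zCoeff {G : Type u} [Group G] (C : Subgroup G) [Fintype C]
    (e : Set (IrrCharacter C)) (z : G) (χ : IrrCharacter G) (ζ : IrrCharacter C) : ℂ :=
  open Classical in
  if ζ ∈ e then classInner (fun c : C => (χ : G → ℂ) (z * (c : G))) (ζ : C → ℂ) else 0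

/-- The generalized decomposition numbers of `χ` at `(z, e)` relative to the integer columns `d`. -/
noncomputable def gdec {G : Type u} [Group G] (C : Subgroup G) [Fintype C]
    [Fintype (IrrCharacter C)] (e : Set (IrrCharacter C)) {r : ℕ}
    (d : Matrix (IrrCharacter C) (Fin r) ℤ) (z : G) (χ : IrrCharacter G) (i : Fin r) : ℂ :=
  ∑ ζ : IrrCharacter C, zCoeff C e z χ ζ * (d ζ i : ℂ)

end Cfsg.Agent.Lib.Helper27.MajSub
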