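import Mathlib
import Cfsg.Agent.Lib.Helper20.AschDefs
import Cfsg.Agent.Lib.Helper18.AschA89Defs

set_option autoImplicit false
set_option linter.unusedSectionVars false
set_option linter.unusedVariables false

namespace Cfsg.Agent.Lib.Helper27.AschLeaf
open Matrix Cfsg.Geo Cfsg.Agent.Lib.Helper20.Asch Cfsg.Agent.Lib.Helper18.AschA89
open scoped Kronecker

variable {F : Type*} [Field F] {n : ℕ}

/-- PS3a (M): a full system of matrix units acting irreducibly on `V ≠ 0` has a basis `v` of `V` with
`EE x y (v z) = [y = z] v x`. -/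
theorem exists_unit_basis {ι : Type} [Fintype ι] [DecidableEq ι] (hn : 0 < n)
    (EE : ι → ι → Matrix (Fin n) (Fin n) F) (hEE : IsUnits EE)
    (hirr : ∀ W : Submodule F (Fin n → F), (∀ x y, W.map (Matrix.toLin' (EE x y)) ≤ W) → W = ⊥ ∨ W = ⊤) :
    ∃ v : ι → (Fin n → F), LinearIndependent F v ∧ Submodule.span F (Set.range v) = ⊤ ∧
      ∀ x y z, EE x y *ᵥ v z = if y = z then v x else 0 := by
  classical
  -- some diagonal unit is non-zero
  have h1 : (1 : Matrix (Fin n) (Fin n) F) ≠ 0 := by
    intro h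
    have := congrFun (congrFun h ⟨0, hn⟩) ⟨0, hn⟩
    simp at this
  obtain ⟨x₀, hx₀⟩ : ∃ x₀, EE x₀ x₀ ≠ 0 := by
    by_contra hcon
    push Not at hcon
    apply h1
    rw [← hEE.sum]
    exact Finset.sum_eq_zero fun x _ => hcon x
  obtain ⟨w, hw⟩ : ∃ w : Fin n → F, EE x₀ x₀ *ᵥ w ≠ 0 := by
    by_contra hcon
    push Not at hcon
    apply hx₀
    ext i j
    have := congrFun (hcon (Pi.single j 1)) i
    rw [Matrix.mulVec_single_one] at this
    simpa using this
  set u := EE x₀ x₀ *ᵥ w with hu
  let v : ι → (Fin n → F) := fun x => EE x x₀ *ᵥ u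
  have hact : ∀ x y z, EE x y *ᵥ v z = if y = z then v x else 0 := by
    intro x y z
    change EE x y *ᵥ (EE z x₀ *ᵥ u) = _
    rw [Matrix.mulVec_mulVec, hEE.mul]
    split_ifs with h
    · rfl
    · rw [Matrix.zero_mulVec]
  have hvx₀ : v x₀ = u := by
    change EE x₀ x₀ *ᵥ u = u
    rw [hu, Matrix.mulVec_mulVec, hEE.mul, if_pos rfl]
  refine ⟨v, ?_, ?_, hact⟩
  · rw [Fintype.linearIndependent_iff]
    intro c hc y
    have h2 := congrArg (fun t => EE x₀ y *ᵥ t) hc
    simp only [Matrix.mulVec_sum, Matrix.mulVec_smul, hact, Matrix.mulVec_zero] at h2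
    rw [Finset.sum_eq_single y] at h2
    · rw [if_pos rfl, hvx₀] at h2
      rcases smul_eq_zero.mp h2 with h | h
      · exact h
      · exact absurd h hw
    · intro z _ hzy
      rw [if_neg (Ne.symm hzy), smul_zero]
    · intro h; exact absurd (Finset.mem_univ y) h
  · have hW : ∀ x y, (Submodule.span F (Set.range v)).map (Matrix.toLin' (EE x y)) ≤
        Submodule.span F (Set.range v) := by
      intro x y
      rw [Submodule.map_span]
      apply Submodule.span_le.mpr
      rintro _ ⟨_, ⟨z, rfl⟩, rfl⟩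
      rw [Matrix.toLin'_apply, hact]
      split_ifs
      · exact Submodule.subset_span ⟨x, rfl⟩
      · exact Submodule.zero_mem _
    rcases hirr _ hW with h | h
    · exfalso
      have : v x₀ ∈ Submodule.span F (Set.range v) := Submodule.subset_span ⟨x₀, rfl⟩
      rw [h, Submodule.mem_bot, hvx₀] at this
      exact hw this
    · exact h

end Cfsg.Agent.Lib.Helper27.AschLeaf
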