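import Mathlib
import Cfsg.Agent.Lib.Helper20.AschDefs
import Cfsg.Agent.Lib.Helper18.AschA89Defs

set_option autoImplicit false
set_option linter.unusedSectionVars false
set_option linter.unusedVariables false

namespace Cfsg.Agent.Lib.Helper27.AschLeaf
open Matrix Cfsg.Geo Cfsg.Agent.Lib.Helper20.Asch Cfsg.Agent.Lib.Helper18.AschA89
open scoped Kronecker

variable {F : Type*} [Field F] {n : ℕ}

/-- matrices with the same columns are equal -/
lemma mat_ext_cols (A B : Matrix (Fin n) (Fin n) F)
    (h : ∀ j, A *ᵥ Pi.single j 1 = B *ᵥ Pi.single j 1) : A = B := by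
  ext i j
  have := congrFun (h j) i
  rw [Matrix.mulVec_single_one, Matrix.mulVec_single_one] at this
  exact this

/-- PS3b (M): a system of matrices acting on a basis `v` (indexed by `ι`) like the standard matrix units is the standard
system in the coordinates of `v`. -/
theorem conjR_of_unit_basis {ι : Type} [Fintype ι] [DecidableEq ι]
    (EE : ι → ι → Matrix (Fin n) (Fin n) F) (v : ι → (Fin n → F)) (hli : LinearIndependent F v)
    (hsp : Submodule.span F (Set.range v) = ⊤)
    (hact : ∀ x y z, EE x y *ᵥ v z = if y = z then v x else 0) :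
    ∃ (e : Fin n ≃ ι) (P : GL (Fin n) F), ∀ x y, EE x y = conjR e P (Matrix.single x y (1 : F)) := by
  classical
  let b : Module.Basis ι F (Fin n → F) := Module.Basis.mk hli hsp.ge
  have hcard : Fintype.card ι = n := by
    have h1 := Module.finrank_eq_card_basis b
    rw [Module.finrank_fin_fun] at h1
    exact h1.symm
  let e : Fin n ≃ ι := (Fintype.equivFinOfCardEq hcard).symm
  let Pm : Matrix (Fin n) (Fin n) F := Matrix.of fun i j => v (e j) i
  have hPcol : ∀ j, Pm *ᵥ Pi.single j 1 = v (e j) := by
    intro j
    rw [Matrix.mulVec_single_one]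
    rfl
  have hPunit : IsUnit Pm := by
    rw [← Matrix.linearIndependent_cols_iff_isUnit]
    exact hli.comp e e.injective
  obtain ⟨P, hP⟩ := hPunit
  have hPi : Pm * ((P⁻¹ : GL (Fin n) F) : Matrix (Fin n) (Fin n) F) = 1 := by
    rw [← hP, ← Units.val_mul, mul_inv_cancel, Units.val_one]
  refine ⟨e, P, fun x y => ?_⟩
  unfold conjR
  rw [hP]
  -- `EE x y * Pm = Pm * reindex (single x y 1)`
  have hkey : EE x y * Pm = Pm * Matrix.reindex e.symm e.symm (Matrix.single x y (1 : F)) := by
    apply mat_ext_cols
    intro j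
    rw [← Matrix.mulVec_mulVec, ← Matrix.mulVec_mulVec, hPcol, hact]
    have hcolj : Matrix.reindex e.symm e.symm (Matrix.single x y (1 : F)) *ᵥ Pi.single j 1 =
        if y = e j then Pi.single (e.symm x) 1 else 0 := by
      rw [Matrix.mulVec_single_one]
      ext i
      simp only [Matrix.reindex_apply, Equiv.symm_symm, Matrix.col_apply, Matrix.submatrix_apply,
        Matrix.single_apply]
      by_cases hy : y = e j
      · rw [if_pos hy]
        by_cases hx : x = e i
        · rw [if_pos ⟨hx, hy⟩, hx, Equiv.symm_apply_apply, Pi.single_eq_same]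
        · rw [if_neg (fun h => hx h.1)]
          rw [Pi.single_eq_of_ne]
          intro h
          apply hx
          rw [h, Equiv.apply_symm_apply]
      · rw [if_neg hy, if_neg (fun h => hy h.2)]
        rfl
    rw [hcolj]
    split_ifs with hy
    · rw [hPcol, Equiv.apply_symm_apply]
    · rw [Matrix.mulVec_zero]
  calc EE x y = EE x y * (Pm * ((P⁻¹ : GL (Fin n) F) : Matrix (Fin n) (Fin n) F)) := by
        rw [hPi, mul_one]
    _ = _ := by rw [← mul_assoc, hkey]

end Cfsg.Agent.Lib.Helper27.AschLeaf
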