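import Mathlib
import Cfsg.Agent.Lib.Helper20.AschDefs

set_option autoImplicit false
set_option linter.unusedSectionVars false
set_option linter.unusedVariables false

namespace Cfsg.Agent.Lib.Helper27.AschLeaf
open Matrix Cfsg.Geo Cfsg.Agent.Lib.Helper20.Asch
open scoped Kronecker

variable {F : Type*} [Field F] [Fintype F] {n : ℕ} {H N : Subgroup (GL (Fin n) F)}

lemma conjR_swap {s k : ℕ} (e : Fin n ≃ Fin s × Fin k) (P : GL (Fin n) F)
    (a : Matrix (Fin s) (Fin s) F) (b : Matrix (Fin k) (Fin k) F) :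
    conjR e P (a ⊗ₖ b) = conjR (e.trans (Equiv.prodComm (Fin s) (Fin k))) P (b ⊗ₖ a) := by
  unfold conjR
  congr 2
  ext i j
  simp only [Matrix.reindex_apply, Matrix.submatrix_apply, Equiv.symm_symm, Equiv.trans_apply,
    Equiv.prodComm_apply, Matrix.kroneckerMap_apply, Prod.fst_swap, Prod.snd_swap]
  exact mul_comm _ _

/-- SW: swapping the two tensor factors. -/
theorem tensorProductSubgroup_swap {s k : ℕ} (e : Fin n ≃ Fin s × Fin k) (P : GL (Fin n) F) :
    tensorProductSubgroup s k e P =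
      tensorProductSubgroup k s (e.trans (Equiv.prodComm (Fin s) (Fin k))) P := by
  ext g
  rw [mem_tensorProductSubgroup_iff, mem_tensorProductSubgroup_iff]
  constructor
  · rintro ⟨a, b, h⟩
    exact ⟨b, a, by rw [h, conjR_swap]⟩
  · rintro ⟨b, a, h⟩
    exact ⟨a, b, by rw [h, ← conjR_swap]⟩

end Cfsg.Agent.Lib.Helper27.AschLeaf
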