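import Mathlib
set_option autoImplicit false

/-!
Fixed points of a finite group `G` acting on a finite abelian `p`-group `V`: if `H ≤ G` has index prime to `p` then
`C_V(G)` is a direct factor of `C_V(H)` (transfer / averaging argument). (helper27's library)
-/

namespace Cfsg.Agent.Lib.Helper27

section FixedSplit

variable {G V : Type*} [Group G] [CommGroup V]

/-- fixed points of a subgroup `H` under the action `ρ`. -/
def fixedBySubgroup (ρ : G →* MulAut V) (H : Subgroup G) : Subgroup V where
  carrier := {v | ∀ h ∈ H, ρ h v = v}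
  one_mem' := fun h _ => map_one _
  mul_mem' := fun {a b} ha hb h hh => by rw [map_mul, ha h hh, hb h hh]
  inv_mem' := fun {a} ha h hh => by rw [map_inv, ha h hh]

theorem mem_fixedBySubgroup (ρ : G →* MulAut V) (H : Subgroup G) (v : V) :
    v ∈ fixedBySubgroup ρ H ↔ ∀ h ∈ H, ρ h v = v := Iff.rfl

theorem fixedBySubgroup_anti (ρ : G →* MulAut V) {H K : Subgroup G} (h : H ≤ K) :
    fixedBySubgroup ρ K ≤ fixedBySubgroup ρ H := fun _ hv g hg => hv g (h hg)

/-- the action of `g` on an `H`-fixed vector depends only on the coset `gH`. -/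
theorem apply_eq_of_coset_eq (ρ : G →* MulAut V) (H : Subgroup G) {v : V} (hv : v ∈ fixedBySubgroup ρ H)
    {g₁ g₂ : G} (h : (g₁ : G ⧸ H) = g₂) : ρ g₁ v = ρ g₂ v := by
  have h1 : g₁⁻¹ * g₂ ∈ H := QuotientGroup.eq.mp h
  have h2 : g₂ = g₁ * (g₁⁻¹ * g₂) := by group
  rw [h2, map_mul, MulAut.mul_apply, hv _ h1]

variable [Finite G]

/-- the transfer (norm) map relative to `H`. -/
noncomputable def transferMap (ρ : G →* MulAut V) (H : Subgroup G) : V →* V :=
  letI : Fintype (G ⧸ H) := Fintype.ofFinite _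
  { toFun := fun v => ∏ q : G ⧸ H, ρ (Quotient.out q) v
    map_one' := by simp
    map_mul' := fun x y => by
      simp only [map_mul]
      exact Finset.prod_mul_distrib }

theorem transferMap_apply (ρ : G →* MulAut V) (H : Subgroup G) (v : V) :
    letI : Fintype (G ⧸ H) := Fintype.ofFinite _
    transferMap ρ H v = ∏ q : G ⧸ H, ρ (Quotient.out q) v := rfl

theorem transferMap_mem_fixed (ρ : G →* MulAut V) (H : Subgroup G) {v : V} (hv : v ∈ fixedBySubgroup ρ H) :
    transferMap ρ H v ∈ fixedBySubgroup ρ ⊤ := by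
  let _ : Fintype (G ⧸ H) := Fintype.ofFinite _
  intro g _
  rw [transferMap_apply, map_prod]
  refine Fintype.prod_equiv (MulAction.toPerm g : Equiv.Perm (G ⧸ H)) _ _ (fun q => ?_)
  rw [← MulAut.mul_apply, ← map_mul]
  apply apply_eq_of_coset_eq ρ H hv
  show ((g * Quotient.out q : G) : G ⧸ H) = ((Quotient.out (g • q) : G) : G ⧸ H)
  rw [QuotientGroup.out_eq']
  have : ((g * Quotient.out q : G) : G ⧸ H) = g • ((Quotient.out q : G) : G ⧸ H) := rfl
  rw [this, QuotientGroup.out_eq']

theorem transferMap_of_fixed (ρ : G →* MulAut V) (H : Subgroup G) {v : V} (hv : v ∈ fixedBySubgroup ρ ⊤) :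
    transferMap ρ H v = v ^ H.index := by
  let _ : Fintype (G ⧸ H) := Fintype.ofFinite _
  rw [transferMap_apply, Finset.prod_congr rfl (fun q _ => hv _ (Subgroup.mem_top _)), Finset.prod_const,
    Finset.card_univ, Subgroup.index, Nat.card_eq_fintype_card]

/-- **Splitting of fixed points.** -/
theorem exists_compl_fixed [Finite V] (ρ : G →* MulAut V) (H : Subgroup G) {p : ℕ} [Fact p.Prime]
    (hV : IsPGroup p V) (hH : ¬ p ∣ H.index) :
    ∃ K : Subgroup V, K ≤ fixedBySubgroup ρ H ∧ fixedBySubgroup ρ ⊤ ⊓ K = ⊥ ∧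
      fixedBySubgroup ρ ⊤ ⊔ K = fixedBySubgroup ρ H := by
  have hp : p.Prime := Fact.out
  have hcop : ∀ v : V, (H.index).Coprime (orderOf v) := by
    intro v
    obtain ⟨k, hk⟩ := IsPGroup.iff_orderOf.mp hV v
    rw [hk]
    exact Nat.Coprime.pow_right k ((Nat.Prime.coprime_iff_not_dvd hp).mpr hH).symm
  refine ⟨fixedBySubgroup ρ H ⊓ (transferMap ρ H).ker, inf_le_left, ?_, ?_⟩
  · rw [eq_bot_iff]
    rintro v ⟨hvG, -, hvk⟩
    rw [Subgroup.mem_bot]
    have h1 : transferMap ρ H v = 1 := hvk
    rw [transferMap_of_fixed ρ H hvG] at h1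
    have h3 : orderOf v ∣ H.index := orderOf_dvd_of_pow_eq_one h1
    have h4 : orderOf v = 1 := Nat.eq_one_of_dvd_coprimes (hcop v) h3 dvd_rfl
    exact orderOf_eq_one_iff.mp h4
  · apply le_antisymm
    · exact sup_le (fixedBySubgroup_anti ρ le_top) inf_le_left
    · intro v hv
      have hu := transferMap_mem_fixed ρ H hv
      obtain ⟨m, hm⟩ := exists_pow_eq_self_of_coprime (hcop (transferMap ρ H v))
      have hw : (transferMap ρ H v) ^ m ∈ fixedBySubgroup ρ ⊤ := Subgroup.pow_mem _ hu m
      have htw : transferMap ρ H ((transferMap ρ H v) ^ m) = transferMap ρ H v := by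
        rw [transferMap_of_fixed ρ H hw, ← pow_mul, mul_comm, pow_mul, hm]
      have hk : v * ((transferMap ρ H v) ^ m)⁻¹ ∈ fixedBySubgroup ρ H ⊓ (transferMap ρ H).ker := by
        refine ⟨Subgroup.mul_mem _ hv (Subgroup.inv_mem _ (fixedBySubgroup_anti ρ le_top hw)), ?_⟩
        show transferMap ρ H (v * ((transferMap ρ H v) ^ m)⁻¹) = 1
        rw [map_mul, map_inv, htw, mul_inv_cancel]
      have : v = (transferMap ρ H v) ^ m * (v * ((transferMap ρ H v) ^ m)⁻¹) := by
        rw [mul_comm v, mul_inv_cancel_left]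
      rw [this]
      exact Subgroup.mul_mem _ (Subgroup.mem_sup_left hw) (Subgroup.mem_sup_right hk)

end FixedSplit

section CenterAut

open scoped IsMulCommutative

variable {Q : Type*} [Group Q]

theorem aut_apply_mem_center (α : MulAut Q) {z : Q} (hz : z ∈ Subgroup.center Q) : α z ∈ Subgroup.center Q := by
  rw [Subgroup.mem_center_iff] at hz ⊢
  intro g
  have h1 := hz (α⁻¹ g)
  have h2 := congrArg α h1
  rw [map_mul, map_mul] at h2
  have h3 : α (α⁻¹ g) = g := by simp
  rw [h3] at h2
  exact h2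

/-- restriction of automorphisms to the centre. -/
def centerAut : MulAut Q →* MulAut (Subgroup.center Q) where
  toFun α :=
    { toFun := fun z => ⟨α z, aut_apply_mem_center α z.2⟩
      invFun := fun z => ⟨α⁻¹ z, aut_apply_mem_center α⁻¹ z.2⟩
      left_inv := fun z => by apply Subtype.ext; simp
      right_inv := fun z => by apply Subtype.ext; simp
      map_mul' := fun x y => by apply Subtype.ext; simp }
  map_one' := by ext z; rfl
  map_mul' := fun α β => by ext z; rfl

@[simp] theorem centerAut_apply_coe (α : MulAut Q) (z : Subgroup.center Q) :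
    ((centerAut α z : Subgroup.center Q) : Q) = α z := rfl

end CenterAut

end Cfsg.Agent.Lib.Helper27
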