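import Mathlib
import Cfsg.Agent.Lib.Helper1.PRDefs
import Cfsg.Agent.Lib.Helper10.DWDefs

/-! Helper27 library: leaf DW-BFAITH of helper10's S3616 market ("DW"): the point stabilizer of a
faithful action acts faithfully on the remaining points. -/

set_option autoImplicit false
set_option linter.unusedVariables false

namespace Cfsg.Agent.Lib.Helper27.DWBFAITH

open MulAction Cfsg.Agent.Lib.Helper10.DWDefs
open scoped Pointwise

/-- **DW-BFAITH**. -/
theorem DWBFAITH {X Ω : Type*} [Group X] [MulAction X Ω] [FaithfulSMul X Ω] (a : Ω) :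
    FaithfulSMul ↥(stabilizer X a) ↥(SubMulAction.ofStabilizer X a) := by
  constructor
  intro g h hgh
  apply Subtype.ext
  apply FaithfulSMul.eq_of_smul_eq_smul (α := Ω)
  intro ω
  by_cases hω : ω = a
  · rw [hω]
    have h1 : (g : X) • a = a := mem_stabilizer_iff.mp g.2
    have h2 : (h : X) • a = a := mem_stabilizer_iff.mp h.2
    rw [h1, h2]
  · have hmem : ω ∈ SubMulAction.ofStabilizer X a :=
      (SubMulAction.mem_ofStabilizer_iff X a).mpr hω
    have := hgh ⟨ω, hmem⟩
    exact congrArg Subtype.val this

end Cfsg.Agent.Lib.Helper27.DWBFAITH
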