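import Mathlib
import Cfsg.Agent.Lib.Helper1.PRDefs
import Cfsg.Agent.Lib.Helper10.DWDefs
import Cfsg.Agent.Lib.Helper24.TWGAL

/-! Helper27 library: leaf DW-BSOL of helper10's S3616 market ("DW") (Galois): in a soluble faithful
transitive group of prime degree `p` the Sylow `p`-subgroup is normal.  (`|G| = p d`, `d ∣ p - 1` by
helper24's TWGAL; Sylow counting.) -/

set_option autoImplicit false
set_option linter.unusedVariables false

namespace Cfsg.Agent.Lib.Helper27.DWBSOL

open MulAction Cfsg.Agent.Lib.Helper10.DWDefs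
open scoped Pointwise

/-- **DW-BSOL** (Galois). -/
theorem DWBSOL {G Ω : Type*} [Group G] [Finite G] [MulAction G Ω] [FaithfulSMul G Ω] [Finite Ω]
    (p : ℕ) (hp : p.Prime) (hΩ : Nat.card Ω = p) (htrans : IsPretransitive G Ω)
    (hsol : Group.IsSolvable G) (P : Sylow p G) : ((P : Subgroup G)).Normal := by
  have : Fact p.Prime := ⟨hp⟩
  obtain ⟨d, hd, hcard⟩ := Cfsg.Agent.Lib.Helper24.TWGAL.TWGAL p hp hΩ htrans hsol
  have hp1 : 1 ≤ p - 1 := by have := hp.two_le; omega
  have hdle : d ≤ p - 1 := Nat.le_of_dvd (by omega) hd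
  have hdpos : 0 < d := Nat.pos_of_dvd_of_pos hd (by omega)
  -- `p ∣ |P|`
  have hpP : p ∣ Nat.card ↥(P : Subgroup G) :=
    P.dvd_card_of_dvd_card (by rw [hcard]; exact dvd_mul_right p d)
  obtain ⟨k, hk⟩ := hpP
  have hidx : (P : Subgroup G).index * Nat.card ↥(P : Subgroup G) = Nat.card G :=
    Subgroup.index_mul_card _
  rw [hk, hcard] at hidx
  have hidx' : (P : Subgroup G).index * k = d := by
    have : p * ((P : Subgroup G).index * k) = p * d := by rw [← hidx]; ring
    exact Nat.eq_of_mul_eq_mul_left hp.pos this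
  have hile : (P : Subgroup G).index ≤ d :=
    Nat.le_of_dvd hdpos ⟨k, hidx'.symm⟩
  -- the number of Sylow subgroups
  have h1 := card_sylow_modEq_one p G
  have h2 := P.card_dvd_index
  have hipos : 0 < (P : Subgroup G).index := by
    rcases Nat.eq_zero_or_pos (P : Subgroup G).index with h0 | h0
    · rw [h0, zero_mul] at hidx'
      omega
    · exact h0
  have hnle : Nat.card (Sylow p G) ≤ (P : Subgroup G).index := Nat.le_of_dvd hipos h2
  have hnlt : Nat.card (Sylow p G) < p := by omega
  have hn1 : Nat.card (Sylow p G) = 1 := by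
    have h3 : Nat.card (Sylow p G) % p = 1 % p := h1
    rw [Nat.mod_eq_of_lt hnlt, Nat.mod_eq_of_lt hp.one_lt] at h3
    exact h3
  rw [P.card_eq_index_normalizer] at hn1
  have := Subgroup.index_eq_one.mp hn1
  exact Subgroup.normalizer_eq_top_iff.mp this

end Cfsg.Agent.Lib.Helper27.DWBSOL
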