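import Mathlib
import Cfsg.Agent.Lib.Helper1.PRDefs
import Cfsg.Agent.Lib.Helper10.DWDefs

/-! Helper27 library: leaf DW-ZPRIM of helper10's S3616 market ("DW"): if `X_{ab}` is primitive on
`Ω ∖ {a,b}` (type-level form: stabilizer of `b` in `X_a` on the points of `Ω ∖ {a}` other than `b`),
then so is the setwise stabilizer `X_{{a,b}}`. -/

set_option autoImplicit false
set_option linter.unusedVariables false

namespace Cfsg.Agent.Lib.Helper27.DWZPRIM

open MulAction Cfsg.Agent.Lib.Helper10.DWDefs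
open scoped Pointwise

/-- **DW-ZPRIM**. -/
theorem DWZPRIM {X Ω : Type*} [Group X] [MulAction X Ω] (a b : Ω) (hba : b ≠ a)
    (h : IsPreprimitive
      ↥(stabilizer ↥(stabilizer X a)
        (⟨b, (SubMulAction.mem_ofStabilizer_iff X a).mpr hba⟩ : ↥(SubMulAction.ofStabilizer X a)))
      ↥(SubMulAction.ofStabilizer ↥(stabilizer X a)
        (⟨b, (SubMulAction.mem_ofStabilizer_iff X a).mpr hba⟩ :
          ↥(SubMulAction.ofStabilizer X a)))) :
    IsPreprimitive ↥(stabilizer X (({a, b} : Set Ω)ᶜ)) ↥(({a, b} : Set Ω)ᶜ) := by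
  set b' : ↥(SubMulAction.ofStabilizer X a) :=
    ⟨b, (SubMulAction.mem_ofStabilizer_iff X a).mpr hba⟩ with hb'
  -- the group map
  have hφmem : ∀ g : ↥(stabilizer ↥(stabilizer X a) b'),
      ((g : ↥(stabilizer X a)) : X) ∈ stabilizer X (({a, b} : Set Ω)ᶜ) := by
    intro g
    rw [_root_.stabilizer_compl, mem_stabilizer_iff]
    have h1 : ((g : ↥(stabilizer X a)) : X) • a = a := mem_stabilizer_iff.mp (g : ↥(stabilizer X a)).2
    have h2 : ((g : ↥(stabilizer X a)) : X) • b = b := by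
      have := mem_stabilizer_iff.mp g.2
      exact congrArg Subtype.val this
    rw [Set.smul_set_insert, Set.smul_set_singleton, h1, h2]
  let φ : ↥(stabilizer ↥(stabilizer X a) b') → ↥(stabilizer X (({a, b} : Set Ω)ᶜ)) :=
    fun g => ⟨((g : ↥(stabilizer X a)) : X), hφmem g⟩
  -- the point map
  have hfmem : ∀ ω : ↥(SubMulAction.ofStabilizer ↥(stabilizer X a) b'),
      ((ω : ↥(SubMulAction.ofStabilizer X a)) : Ω) ∈ (({a, b} : Set Ω)ᶜ) := by
    intro ω
    have h1 : ((ω : ↥(SubMulAction.ofStabilizer X a)) : Ω) ≠ a :=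
      (SubMulAction.mem_ofStabilizer_iff X a).mp (ω : ↥(SubMulAction.ofStabilizer X a)).2
    have h2 : (ω : ↥(SubMulAction.ofStabilizer X a)) ≠ b' :=
      (SubMulAction.mem_ofStabilizer_iff _ b').mp ω.2
    simp only [Set.mem_compl_iff, Set.mem_insert_iff, Set.mem_singleton_iff, not_or]
    refine ⟨h1, ?_⟩
    intro hb
    apply h2
    exact Subtype.ext hb
  let f : ↥(SubMulAction.ofStabilizer ↥(stabilizer X a) b') →ₑ[φ] ↥(({a, b} : Set Ω)ᶜ) :=
    { toFun := fun ω => ⟨((ω : ↥(SubMulAction.ofStabilizer X a)) : Ω), hfmem ω⟩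
      map_smul' := by
        intro g ω
        apply Subtype.ext
        rfl }
  have hsurj : Function.Surjective f := by
    rintro ⟨ω, hω⟩
    simp only [Set.mem_compl_iff, Set.mem_insert_iff, Set.mem_singleton_iff, not_or] at hω
    have h1 : ω ∈ SubMulAction.ofStabilizer X a := (SubMulAction.mem_ofStabilizer_iff X a).mpr hω.1
    have h2 : (⟨ω, h1⟩ : ↥(SubMulAction.ofStabilizer X a)) ∈
        SubMulAction.ofStabilizer ↥(stabilizer X a) b' := by
      rw [SubMulAction.mem_ofStabilizer_iff]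
      intro hcon
      apply hω.2
      exact congrArg Subtype.val hcon
    exact ⟨⟨⟨ω, h1⟩, h2⟩, rfl⟩
  exact IsPreprimitive.of_surjective (f := f) hsurj

end Cfsg.Agent.Lib.Helper27.DWZPRIM
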