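/-
helper27: definitions for the proof that the Steinberg character is the only irreducible character of
`p`-defect zero (S2318): the spherical function of a class function with respect to a subgroup `U`,
and the package of hypotheses "split (B,N)-pair with root subgroups of order `q`".
-/
import Mathlib
import Cfsg.Agent.Lib.Helper6.BNStA

set_option autoImplicit false

namespace Cfsg.Agent.Lib.Helper27.GG

open Cfsg Cfsg.Agent.Lib.Helper3.BN Cfsg.Agent.Lib.Helper3.WordLen Cfsg.Agent.Lib.Helper6.BNSt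
open scoped ComplexConjugate

variable {G : Type*} [Group G]

/-- the right `U`-average of a function: `c(g) = |U|⁻¹ Σ_{u ∈ U} χ(g u)` -/
noncomputable def sph (U : Subgroup G) (χ : G → ℂ) (g : G) : ℂ :=
  (Nat.card U : ℂ)⁻¹ * ∑ᶠ u : U, χ (g * (u : G))

/-- a *spherical function* for `U`: bi-`U`-invariant, `c 1 = 1`, hermitian, and multiplicative for the
convolution over `U` -/
structure IsSph (U : Subgroup G) (c : G → ℂ) : Prop where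
  one : c 1 = 1
  left : ∀ u ∈ U, ∀ g, c (u * g) = c g
  right : ∀ u ∈ U, ∀ g, c (g * u) = c g
  inv : ∀ g, c g⁻¹ = conj (c g)
  conv : ∀ g g', (Nat.card U : ℂ)⁻¹ * ∑ᶠ u : U, c (g * (u : G) * g') = c g * c g'

/-- split (B,N)-pair with root subgroups of order `q`: `B = U ⋊ H`, `H = B ⊓ N` commutative, and for
every distinguished generator `s = sOf i` subgroups `X i`, `Us i` of `U` with `U = Us i · X i`,
`s (Us i) s⁻¹ ≤ U`, `|X i| = q`, the rank one relation `s x s⁻¹ ∈ U h s U` (`x ∈ X i`, `x ≠ 1`), with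
`h = 1` for at least one `x`, the `h`'s generating `H`; `n⁻¹ (X i) n ≤ U` whenever `ℓ(s w) > ℓ(w)`;
`|B s B| = q |B|` and `|U| = q ^ ℓ(w₀)`. -/
structure SplitBN [Finite G] (P : Cfsg.BNPair G) (U : Subgroup G) (q : ℕ) where
  hq : 2 ≤ q
  hUB : U ≤ P.B
  hUn : ∀ b ∈ P.B, ∀ u ∈ U, b * u * b⁻¹ ∈ U
  hBUH : ∀ b ∈ P.B, ∃ u ∈ U, ∃ h ∈ P.B ⊓ P.N, b = u * h
  hUH : U ⊓ (P.B ⊓ P.N) = ⊥
  hHcomm : ∀ h ∈ P.B ⊓ P.N, ∀ h' ∈ P.B ⊓ P.N, h * h' = h' * h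
  ι : Type
  sOf : ι → G
  hS : P.S = Set.range sOf
  X : ι → Subgroup G
  Us : ι → Subgroup G
  hX : ∀ i, X i ≤ U
  hUs : ∀ i, Us i ≤ U
  hXU : ∀ i, ∀ u ∈ U, ∃ y ∈ Us i, ∃ x ∈ X i, u = y * x
  hXUs : ∀ i, X i ⊓ Us i = ⊥
  hcardX : ∀ i, Nat.card (X i) = q
  hsUs : ∀ i, ∀ y ∈ Us i, sOf i * y * (sOf i)⁻¹ ∈ U
  hrank1 : ∀ i, ∀ x ∈ X i, x ≠ 1 → ∃ u₁ ∈ U, ∃ h ∈ P.B ⊓ P.N, ∃ u₂ ∈ U,
    sOf i * x * (sOf i)⁻¹ = u₁ * h * sOf i * u₂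
  hrank1_one : ∀ i, ∃ x ∈ X i, x ≠ 1 ∧ ∃ u₁ ∈ U, ∃ u₂ ∈ U, sOf i * x * (sOf i)⁻¹ = u₁ * sOf i * u₂
  hHgen : P.B ⊓ P.N ≤ Subgroup.closure {h | h ∈ P.B ⊓ P.N ∧ ∃ i, ∃ x ∈ X i, x ≠ 1 ∧
    ∃ u₁ ∈ U, ∃ u₂ ∈ U, sOf i * x * (sOf i)⁻¹ = u₁ * h * sOf i * u₂}
  hpos : ∀ i (hs : sOf i ∈ P.S) (n : G) (hn : n ∈ P.N),
    len (Sbar P) (mkW P n hn) < len (Sbar P) (sb P (sOf i) hs * mkW P n hn) →
      ∀ x ∈ X i, n⁻¹ * x * n ∈ U
  hcardC : ∀ i (hs : sOf i ∈ P.S), Nat.card (C P (sb P (sOf i) hs)) = q * Nat.card P.B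
  hcardU : Nat.card U = q ^ len (Sbar P) (w0 P)

end Cfsg.Agent.Lib.Helper27.GG
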