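import Mathlib
import Cfsg.Agent.Lib.Helper11.Om3Tools

/-! Helper27 library: leaf GT of helper11's S2144 market ("OM3"): three pairwise perpendicular
vectors of the same nonzero norm in `<x, u>^⊥` (Gram-Schmidt + the `(c₁ + c₂, c₁ - c₂)` trick). -/

set_option autoImplicit false

open Cfsg.Agent.Lib.Helper11.Om3 MulAction
open scoped Pointwise

namespace Cfsg.Agent.Lib.Helper27.Om3Leaf

variable {F V G : Type*} [Field F] [AddCommGroup V] [Module F V] [Group G] [DistribMulAction G V]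
  (S : Setting F V G)

/-- membership in the orthogonal of a span -/
theorem mem_orthogonal_span_iff' (s : Set V) (z : V) :
    z ∈ S.B.orthogonal (Submodule.span F s) ↔ ∀ u ∈ s, S.B u z = 0 := by
  rw [S.mem_orthogonal]
  constructor
  · intro h u hu
    exact h u (Submodule.subset_span hu)
  · intro h u hu
    induction hu using Submodule.span_induction with
    | mem u hu => exact h u hu
    | zero => exact S.Bzero_left z
    | add u v _ _ hu hv => rw [S.Badd_left, hu, hv, add_zero]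
    | smul c u _ hu => rw [S.Bsmul_left, hu, mul_zero]

/-- Gram-Schmidt step: `c₁, c₂` are zero or nonsingular, perpendicular to `x`, `u` and each other;
then `<x, u, c₁, c₂>^⊥` contains a nonsingular vector. -/
theorem exists_nonsing_perp [Finite V] {m : ℕ} (hV : Nat.card V = 3 ^ (2 * m + 1)) (hm : 3 ≤ m)
    {x u c₁ c₂ : V} (hx : S.Q x = 0) (hu : S.Q u = 0) (hxu : S.B x u = 0)
    (h1 : c₁ = 0 ∨ S.Q c₁ ≠ 0) (h2 : c₂ = 0 ∨ S.Q c₂ ≠ 0)
    (hx1 : S.B x c₁ = 0) (hu1 : S.B u c₁ = 0) (hx2 : S.B x c₂ = 0) (hu2 : S.B u c₂ = 0)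
    (h12 : S.B c₁ c₂ = 0) :
    ∃ c, S.B x c = 0 ∧ S.B u c = 0 ∧ S.B c₁ c = 0 ∧ S.B c₂ c = 0 ∧ S.Q c ≠ 0 := by
  classical
  by_contra hcon
  have : Finite F := S.finite_F
  set W : Submodule F V := Submodule.span F ({x, u, c₁, c₂} : Set V) with hW
  set U : Submodule F V := S.B.orthogonal W with hU
  have memU : ∀ w, w ∈ U ↔ S.B x w = 0 ∧ S.B u w = 0 ∧ S.B c₁ w = 0 ∧ S.B c₂ w = 0 := by
    intro w
    rw [hU, hW, mem_orthogonal_span_iff']
    simp only [Set.mem_insert_iff, Set.mem_singleton_iff, forall_eq_or_imp, forall_eq]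
  -- `Q` vanishes on `U`
  have hQU : ∀ w ∈ U, S.Q w = 0 := by
    intro w hw
    by_contra hne
    obtain ⟨a, b, c, d⟩ := (memU w).mp hw
    exact hcon ⟨w, a, b, c, d, hne⟩
  -- so `U ≤ U^⊥ = W`
  have hUW : U ≤ W := by
    intro w hw
    rw [← S.orthogonal_orthogonal_eq W, S.mem_orthogonal]
    intro w' hw'
    have h3 := S.Q_add w' w
    rw [hQU _ (U.add_mem hw' hw), hQU _ hw', hQU _ hw] at h3
    have : S.B w' w = 0 := by linear_combination -h3
    exact this
  -- `U ≤ <x, u>`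
  have hUxu : U ≤ Submodule.span F ({x, u} : Set V) := by
    intro w hw
    have hwW := hUW hw
    rw [hW] at hwW
    obtain ⟨a, z1, hz1, rfl⟩ := Submodule.mem_span_insert.mp hwW
    obtain ⟨b, z2, hz2, rfl⟩ := Submodule.mem_span_insert.mp hz1
    obtain ⟨d1, z3, hz3, rfl⟩ := Submodule.mem_span_insert.mp hz2
    obtain ⟨d2, rfl⟩ := Submodule.mem_span_singleton.mp hz3
    obtain ⟨_, _, hc1, hc2⟩ := (memU _).mp hw
    have e1 : d1 • c₁ = 0 := by
      rcases h1 with h | h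
      · rw [h, smul_zero]
      · have : d1 * S.Q c₁ = 0 := by
          simp only [S.Badd_right, S.Bsmul_right, S.B_self, S.B_symm c₁ x, S.B_symm c₁ u, hx1, hu1,
            h12, mul_zero, zero_add, add_zero, mul_neg] at hc1
          linear_combination -hc1
        rcases mul_eq_zero.mp this with h' | h'
        · rw [h', zero_smul]
        · exact absurd h' h
    have e2 : d2 • c₂ = 0 := by
      rcases h2 with h | h
      · rw [h, smul_zero]
      · have : d2 * S.Q c₂ = 0 := by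
          simp only [S.Badd_right, S.Bsmul_right, S.B_self, S.B_symm c₂ x, S.B_symm c₂ u,
            S.B_symm c₂ c₁, hx2, hu2, h12, mul_zero, zero_add, mul_neg] at hc2
          linear_combination -hc2
        rcases mul_eq_zero.mp this with h' | h'
        · rw [h', zero_smul]
        · exact absurd h' h
    rw [e1, e2, add_zero, add_zero]
    exact Submodule.add_mem _ (Submodule.smul_mem _ _ (Submodule.subset_span (by simp)))
      (Submodule.smul_mem _ _ (Submodule.subset_span (by simp)))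
  -- cardinalities
  have hcW : Nat.card W ≤ 81 := by
    rw [S.card_submodule_eq_three_pow W]
    have : Module.finrank F W ≤ 4 := by
      have h := finrank_span_finset_le_card (R := F) ({x, u, c₁, c₂} : Finset V)
      have h4 : ({x, u, c₁, c₂} : Finset V).card ≤ 4 := Finset.card_le_four
      have e : ((({x, u, c₁, c₂} : Finset V) : Set V)) = ({x, u, c₁, c₂} : Set V) := by
        ext z; simp
      rw [e] at h
      exact h.trans h4
    calc 3 ^ Module.finrank F W ≤ 3 ^ 4 := Nat.pow_le_pow_right (by norm_num) this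
      _ = 81 := by norm_num
  have hcU : Nat.card U ≤ 9 := by
    have h1' : Nat.card U ≤ Nat.card (Submodule.span F ({x, u} : Set V)) :=
      Nat.card_le_card_of_injective (Submodule.inclusion hUxu) (Submodule.inclusion_injective hUxu)
    rw [S.card_submodule_eq_three_pow (Submodule.span F ({x, u} : Set V))] at h1'
    have : Module.finrank F (Submodule.span F ({x, u} : Set V)) ≤ 2 := by
      have h := finrank_span_finset_le_card (R := F) ({x, u} : Finset V)
      have h4 : ({x, u} : Finset V).card ≤ 2 := Finset.card_le_two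
      have e : ((({x, u} : Finset V) : Set V)) = ({x, u} : Set V) := by
        ext z; simp
      rw [e] at h
      exact h.trans h4
    calc Nat.card U ≤ 3 ^ Module.finrank F (Submodule.span F ({x, u} : Set V)) := h1'
      _ ≤ 3 ^ 2 := Nat.pow_le_pow_right (by norm_num) this
      _ = 9 := by norm_num
  have hprod : Nat.card W * Nat.card U = Nat.card V := S.card_mul_card_orthogonal W
  rw [hV] at hprod
  have h7 : 3 ^ 7 ≤ 3 ^ (2 * m + 1) := Nat.pow_le_pow_right (by norm_num) (by omega)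
  have : Nat.card W * Nat.card U ≤ 81 * 9 := Nat.mul_le_mul hcW hcU
  have h37 : 3 ^ 7 = 2187 := by norm_num
  omega

/-- the `(c₁ + c₂, c₁ - c₂)` trick -/
theorem trick {x u c₁ c₂ c₃ : V} (hx1 : S.B x c₁ = 0) (hu1 : S.B u c₁ = 0) (hx2 : S.B x c₂ = 0)
    (hu2 : S.B u c₂ = 0) (hx3 : S.B x c₃ = 0) (hu3 : S.B u c₃ = 0) (h12 : S.B c₁ c₂ = 0)
    (h13 : S.B c₁ c₃ = 0) (h23 : S.B c₂ c₃ = 0) (hq : S.Q c₁ ≠ 0) (h2 : S.Q c₂ = S.Q c₁)
    (h3 : S.Q c₃ = -S.Q c₁) :
    ∃ c c' c'' : V, S.B x c = 0 ∧ S.B u c = 0 ∧ S.B x c' = 0 ∧ S.B u c' = 0 ∧ S.B x c'' = 0 ∧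
      S.B u c'' = 0 ∧ S.Q c ≠ 0 ∧ S.Q c' = S.Q c ∧ S.Q c'' = S.Q c ∧ S.B c c' = 0 ∧ S.B c c'' = 0 ∧
      S.B c' c'' = 0 := by
  have h21 : S.B c₂ c₁ = 0 := by rw [S.B_symm]; exact h12
  have two := S.two_eq
  have hQp : S.Q (c₁ + c₂) = -S.Q c₁ := by
    rw [S.Q_add_of_perp h12, h2]
    linear_combination S.Q c₁ * S.three
  have hQm : S.Q (c₁ - c₂) = -S.Q c₁ := by
    rw [S.Q_sub, h12, h2]
    linear_combination S.Q c₁ * S.three
  refine ⟨c₁ + c₂, c₁ - c₂, c₃, ?_, ?_, ?_, ?_, hx3, hu3, ?_, ?_, ?_, ?_, ?_, ?_⟩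
  · rw [S.Badd_right, hx1, hx2, add_zero]
  · rw [S.Badd_right, hu1, hu2, add_zero]
  · rw [S.Bsub_right, hx1, hx2, sub_zero]
  · rw [S.Bsub_right, hu1, hu2, sub_zero]
  · rw [hQp]; exact neg_ne_zero.mpr hq
  · rw [hQm, hQp]
  · rw [h3, hQp]
  · rw [S.Badd_left, S.Bsub_right, S.Bsub_right, S.B_self, S.B_self, h12, h21, h2]; ring
  · rw [S.Badd_left, h13, h23, add_zero]
  · rw [S.Bsub_left, h13, h23, sub_zero]

/-- GT: three pairwise perpendicular vectors of the same nonzero norm in `<x, u>^⊥`. -/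
theorem exists_orth_triple [Finite V] {m : ℕ} (hV : Nat.card V = 3 ^ (2 * m + 1)) (hm : 3 ≤ m)
    {x u : V} (hx : S.Q x = 0) (hu : S.Q u = 0) (hxu : S.B x u = 0) :
    ∃ c c' c'' : V, S.B x c = 0 ∧ S.B u c = 0 ∧ S.B x c' = 0 ∧ S.B u c' = 0 ∧ S.B x c'' = 0 ∧
      S.B u c'' = 0 ∧ S.Q c ≠ 0 ∧ S.Q c' = S.Q c ∧ S.Q c'' = S.Q c ∧ S.B c c' = 0 ∧ S.B c c'' = 0 ∧
      S.B c' c'' = 0 := by
  obtain ⟨c₁, hx1, hu1, -, -, hq1⟩ := exists_nonsing_perp S hV hm hx hu hxu (c₁ := 0) (c₂ := 0)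
    (Or.inl rfl) (Or.inl rfl) (S.Bzero_right x) (S.Bzero_right u) (S.Bzero_right x)
    (S.Bzero_right u) (S.Bzero_right 0)
  obtain ⟨c₂, hx2, hu2, h12, -, hq2⟩ := exists_nonsing_perp S hV hm hx hu hxu (c₁ := c₁) (c₂ := 0)
    (Or.inr hq1) (Or.inl rfl) hx1 hu1 (S.Bzero_right x) (S.Bzero_right u) (S.Bzero_right c₁)
  obtain ⟨c₃, hx3, hu3, h13, h23, hq3⟩ := exists_nonsing_perp S hV hm hx hu hxu (c₁ := c₁) (c₂ := c₂)
    (Or.inr hq1) (Or.inr hq2) hx1 hu1 hx2 hu2 h12
  have h21 : S.B c₂ c₁ = 0 := by rw [S.B_symm]; exact h12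
  have h31 : S.B c₃ c₁ = 0 := by rw [S.B_symm]; exact h13
  have h32 : S.B c₃ c₂ = 0 := by rw [S.B_symm]; exact h23
  -- nonzero scalars are `1` or `-1`
  have key : ∀ a b : F, a ≠ 0 → b ≠ 0 → b = a ∨ b = -a := by
    intro a b ha hb
    rcases S.h3 a with h | h | h
    · exact absurd h ha
    · rcases S.h3 b with h' | h' | h'
      · exact absurd h' hb
      · left; rw [h, h']
      · right; rw [h, h']
    · rcases S.h3 b with h' | h' | h'
      · exact absurd h' hb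
      · right; rw [h, h', neg_neg]
      · left; rw [h, h']
  rcases key _ _ hq1 hq2 with e2 | e2
  · rcases key _ _ hq1 hq3 with e3 | e3
    · exact ⟨c₁, c₂, c₃, hx1, hu1, hx2, hu2, hx3, hu3, hq1, e2, e3, h12, h13, h23⟩
    · exact trick S hx1 hu1 hx2 hu2 hx3 hu3 h12 h13 h23 hq1 e2 e3
  · rcases key _ _ hq1 hq3 with e3 | e3
    · -- `Q c₃ = Q c₁`, `Q c₂ = -Q c₁`
      exact trick S hx1 hu1 hx3 hu3 hx2 hu2 h13 h12 h32 hq1 e3 e2
    · -- `Q c₂ = Q c₃ = -Q c₁`
      have e3' : S.Q c₃ = S.Q c₂ := by rw [e3, e2]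
      have e1' : S.Q c₁ = -S.Q c₂ := by rw [e2, neg_neg]
      exact trick S hx2 hu2 hx3 hu3 hx1 hu1 h23 h21 h31 hq2 e3' e1'

end Cfsg.Agent.Lib.Helper27.Om3Leaf
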