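import Mathlib
import Cfsg.Agent.Lib.Helper11.Om3Tools
import Cfsg.Agent.Lib.Helper27.Om3GT

/-! Helper27 library: leaf GB of helper11's S2144 market ("OM3"): two singular vectors have a common
perpendicular singular vector outside both lines.  (Three pairwise perpendicular vectors `c, c', c''`
of the same norm in `<z, p>^⊥`; the vectors `c ± c' ± c''` are singular and pairwise non-proportional.) -/

set_option autoImplicit false

open Cfsg.Agent.Lib.Helper11.Om3 MulAction
open scoped Pointwise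

namespace Cfsg.Agent.Lib.Helper27.Om3Leaf

variable {F V G : Type*} [Field F] [AddCommGroup V] [Module F V] [Group G] [DistribMulAction G V]
  (S : Setting F V G)

/-- Gram-Schmidt step for ARBITRARY `x`, `u`: `c₁, c₂` are zero or nonsingular, perpendicular to `x`, `u` and each other;
then `<x, u, c₁, c₂>^⊥` contains a nonsingular vector. -/
theorem exists_nonsing_perp' [Finite V] {m : ℕ} (hV : Nat.card V = 3 ^ (2 * m + 1)) (hm : 3 ≤ m)
    {x u c₁ c₂ : V}
    (h1 : c₁ = 0 ∨ S.Q c₁ ≠ 0) (h2 : c₂ = 0 ∨ S.Q c₂ ≠ 0)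
    (hx1 : S.B x c₁ = 0) (hu1 : S.B u c₁ = 0) (hx2 : S.B x c₂ = 0) (hu2 : S.B u c₂ = 0)
    (h12 : S.B c₁ c₂ = 0) :
    ∃ c, S.B x c = 0 ∧ S.B u c = 0 ∧ S.B c₁ c = 0 ∧ S.B c₂ c = 0 ∧ S.Q c ≠ 0 := by
  classical
  by_contra hcon
  have : Finite F := S.finite_F
  set W : Submodule F V := Submodule.span F ({x, u, c₁, c₂} : Set V) with hW
  set U : Submodule F V := S.B.orthogonal W with hU
  have memU : ∀ w, w ∈ U ↔ S.B x w = 0 ∧ S.B u w = 0 ∧ S.B c₁ w = 0 ∧ S.B c₂ w = 0 := by
    intro w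
    rw [hU, hW, mem_orthogonal_span_iff']
    simp only [Set.mem_insert_iff, Set.mem_singleton_iff, forall_eq_or_imp, forall_eq]
  -- `Q` vanishes on `U`
  have hQU : ∀ w ∈ U, S.Q w = 0 := by
    intro w hw
    by_contra hne
    obtain ⟨a, b, c, d⟩ := (memU w).mp hw
    exact hcon ⟨w, a, b, c, d, hne⟩
  -- so `U ≤ U^⊥ = W`
  have hUW : U ≤ W := by
    intro w hw
    rw [← S.orthogonal_orthogonal_eq W, S.mem_orthogonal]
    intro w' hw'
    have h3 := S.Q_add w' w
    rw [hQU _ (U.add_mem hw' hw), hQU _ hw', hQU _ hw] at h3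
    have : S.B w' w = 0 := by linear_combination -h3
    exact this
  -- `U ≤ <x, u>`
  have hUxu : U ≤ Submodule.span F ({x, u} : Set V) := by
    intro w hw
    have hwW := hUW hw
    rw [hW] at hwW
    obtain ⟨a, z1, hz1, rfl⟩ := Submodule.mem_span_insert.mp hwW
    obtain ⟨b, z2, hz2, rfl⟩ := Submodule.mem_span_insert.mp hz1
    obtain ⟨d1, z3, hz3, rfl⟩ := Submodule.mem_span_insert.mp hz2
    obtain ⟨d2, rfl⟩ := Submodule.mem_span_singleton.mp hz3
    obtain ⟨_, _, hc1, hc2⟩ := (memU _).mp hw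
    have e1 : d1 • c₁ = 0 := by
      rcases h1 with h | h
      · rw [h, smul_zero]
      · have : d1 * S.Q c₁ = 0 := by
          simp only [S.Badd_right, S.Bsmul_right, S.B_self, S.B_symm c₁ x, S.B_symm c₁ u, hx1, hu1,
            h12, mul_zero, zero_add, add_zero, mul_neg] at hc1
          linear_combination -hc1
        rcases mul_eq_zero.mp this with h' | h'
        · rw [h', zero_smul]
        · exact absurd h' h
    have e2 : d2 • c₂ = 0 := by
      rcases h2 with h | h
      · rw [h, smul_zero]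
      · have : d2 * S.Q c₂ = 0 := by
          simp only [S.Badd_right, S.Bsmul_right, S.B_self, S.B_symm c₂ x, S.B_symm c₂ u,
            S.B_symm c₂ c₁, hx2, hu2, h12, mul_zero, zero_add, mul_neg] at hc2
          linear_combination -hc2
        rcases mul_eq_zero.mp this with h' | h'
        · rw [h', zero_smul]
        · exact absurd h' h
    rw [e1, e2, add_zero, add_zero]
    exact Submodule.add_mem _ (Submodule.smul_mem _ _ (Submodule.subset_span (by simp)))
      (Submodule.smul_mem _ _ (Submodule.subset_span (by simp)))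
  -- cardinalities
  have hcW : Nat.card W ≤ 81 := by
    rw [S.card_submodule_eq_three_pow W]
    have : Module.finrank F W ≤ 4 := by
      have h := finrank_span_finset_le_card (R := F) ({x, u, c₁, c₂} : Finset V)
      have h4 : ({x, u, c₁, c₂} : Finset V).card ≤ 4 := Finset.card_le_four
      have e : ((({x, u, c₁, c₂} : Finset V) : Set V)) = ({x, u, c₁, c₂} : Set V) := by
        ext z; simp
      rw [e] at h
      exact h.trans h4
    calc 3 ^ Module.finrank F W ≤ 3 ^ 4 := Nat.pow_le_pow_right (by norm_num) this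
      _ = 81 := by norm_num
  have hcU : Nat.card U ≤ 9 := by
    have h1' : Nat.card U ≤ Nat.card (Submodule.span F ({x, u} : Set V)) :=
      Nat.card_le_card_of_injective (Submodule.inclusion hUxu) (Submodule.inclusion_injective hUxu)
    rw [S.card_submodule_eq_three_pow (Submodule.span F ({x, u} : Set V))] at h1'
    have : Module.finrank F (Submodule.span F ({x, u} : Set V)) ≤ 2 := by
      have h := finrank_span_finset_le_card (R := F) ({x, u} : Finset V)
      have h4 : ({x, u} : Finset V).card ≤ 2 := Finset.card_le_two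
      have e : ((({x, u} : Finset V) : Set V)) = ({x, u} : Set V) := by
        ext z; simp
      rw [e] at h
      exact h.trans h4
    calc Nat.card U ≤ 3 ^ Module.finrank F (Submodule.span F ({x, u} : Set V)) := h1'
      _ ≤ 3 ^ 2 := Nat.pow_le_pow_right (by norm_num) this
      _ = 9 := by norm_num
  have hprod : Nat.card W * Nat.card U = Nat.card V := S.card_mul_card_orthogonal W
  rw [hV] at hprod
  have h7 : 3 ^ 7 ≤ 3 ^ (2 * m + 1) := Nat.pow_le_pow_right (by norm_num) (by omega)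
  have : Nat.card W * Nat.card U ≤ 81 * 9 := Nat.mul_le_mul hcW hcU
  have h37 : 3 ^ 7 = 2187 := by norm_num
  omega

/-- GT for ARBITRARY `x`, `u`: three pairwise perpendicular vectors of the same nonzero norm in `<x, u>^⊥`. -/
theorem exists_orth_triple' [Finite V] {m : ℕ} (hV : Nat.card V = 3 ^ (2 * m + 1)) (hm : 3 ≤ m)
    (x u : V) :
    ∃ c c' c'' : V, S.B x c = 0 ∧ S.B u c = 0 ∧ S.B x c' = 0 ∧ S.B u c' = 0 ∧ S.B x c'' = 0 ∧
      S.B u c'' = 0 ∧ S.Q c ≠ 0 ∧ S.Q c' = S.Q c ∧ S.Q c'' = S.Q c ∧ S.B c c' = 0 ∧ S.B c c'' = 0 ∧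
      S.B c' c'' = 0 := by
  obtain ⟨c₁, hx1, hu1, -, -, hq1⟩ := exists_nonsing_perp' S hV hm (x := x) (u := u) (c₁ := 0) (c₂ := 0)
    (Or.inl rfl) (Or.inl rfl) (S.Bzero_right x) (S.Bzero_right u) (S.Bzero_right x)
    (S.Bzero_right u) (S.Bzero_right 0)
  obtain ⟨c₂, hx2, hu2, h12, -, hq2⟩ := exists_nonsing_perp' S hV hm (x := x) (u := u) (c₁ := c₁) (c₂ := 0)
    (Or.inr hq1) (Or.inl rfl) hx1 hu1 (S.Bzero_right x) (S.Bzero_right u) (S.Bzero_right c₁)
  obtain ⟨c₃, hx3, hu3, h13, h23, hq3⟩ := exists_nonsing_perp' S hV hm (x := x) (u := u) (c₁ := c₁) (c₂ := c₂)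
    (Or.inr hq1) (Or.inr hq2) hx1 hu1 hx2 hu2 h12
  have h21 : S.B c₂ c₁ = 0 := by rw [S.B_symm]; exact h12
  have h31 : S.B c₃ c₁ = 0 := by rw [S.B_symm]; exact h13
  have h32 : S.B c₃ c₂ = 0 := by rw [S.B_symm]; exact h23
  -- nonzero scalars are `1` or `-1`
  have key : ∀ a b : F, a ≠ 0 → b ≠ 0 → b = a ∨ b = -a := by
    intro a b ha hb
    rcases S.h3 a with h | h | h
    · exact absurd h ha
    · rcases S.h3 b with h' | h' | h'
      · exact absurd h' hb
      · left; rw [h, h']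
      · right; rw [h, h']
    · rcases S.h3 b with h' | h' | h'
      · exact absurd h' hb
      · right; rw [h, h', neg_neg]
      · left; rw [h, h']
  rcases key _ _ hq1 hq2 with e2 | e2
  · rcases key _ _ hq1 hq3 with e3 | e3
    · exact ⟨c₁, c₂, c₃, hx1, hu1, hx2, hu2, hx3, hu3, hq1, e2, e3, h12, h13, h23⟩
    · exact trick S hx1 hu1 hx2 hu2 hx3 hu3 h12 h13 h23 hq1 e2 e3
  · rcases key _ _ hq1 hq3 with e3 | e3
    · -- `Q c₃ = Q c₁`, `Q c₂ = -Q c₁`
      exact trick S hx1 hu1 hx3 hu3 hx2 hu2 h13 h12 h32 hq1 e3 e2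
    · -- `Q c₂ = Q c₃ = -Q c₁`
      have e3' : S.Q c₃ = S.Q c₂ := by rw [e3, e2]
      have e1' : S.Q c₁ = -S.Q c₂ := by rw [e2, neg_neg]
      exact trick S hx2 hu2 hx3 hu3 hx1 hu1 h23 h21 h31 hq2 e3' e1'

/-- two vectors with the same nonzero product against `c` and different products against `c'`
are not both multiples of `v`. -/
theorem not_both_mem_line {c c' u u' v : V} {q : F} (hq : q ≠ 0) (h1 : S.B c u = q)
    (h1' : S.B c u' = q) (hne : S.B c' u ≠ S.B c' u') (hu : ∃ a : F, u = a • v)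
    (hu' : ∃ a : F, u' = a • v) : False := by
  obtain ⟨a, rfl⟩ := hu
  obtain ⟨b, rfl⟩ := hu'
  rw [S.Bsmul_right] at h1 h1'
  have hcv : S.B c v ≠ 0 := by
    intro h
    rw [h, mul_zero] at h1
    exact hq h1.symm
  have hab : a = b := by
    have : a * S.B c v = b * S.B c v := by rw [h1, h1']
    exact mul_right_cancel₀ hcv this
  apply hne
  rw [hab]

/-- GB: two singular vectors have a common perpendicular singular vector outside both lines. -/
theorem exists_sing_perp_ne [Finite V] {m : ℕ} (hV : Nat.card V = 3 ^ (2 * m + 1))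
    (hs : Nat.card {v : V // S.Q v = 0} = 3 ^ (2 * m)) (hm : 3 ≤ m)
    {z p : V} (hz : S.Q z = 0) (hp : S.Q p = 0) :
    ∃ u, u ≠ 0 ∧ S.Q u = 0 ∧ S.B u z = 0 ∧ S.B u p = 0 ∧ (¬ ∃ a : F, u = a • z) ∧
      (¬ ∃ a : F, u = a • p) := by
  obtain ⟨c, c', c'', hzc, hpc, hzc', hpc', hzc'', hpc'', hq, hq', hq'', h12, h13, h23⟩ :=
    exists_orth_triple' S hV hm z p
  have h21 : S.B c' c = 0 := by rw [S.B_symm]; exact h12
  have h31 : S.B c'' c = 0 := by rw [S.B_symm]; exact h13
  have h32 : S.B c'' c' = 0 := by rw [S.B_symm]; exact h23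
  set q : F := S.Q c with hqdef
  have hnq : -q ≠ 0 := neg_ne_zero.mpr hq
  have hqq : q ≠ -q := by
    intro h
    have h2 : (2 : F) * q = 0 := by linear_combination h
    rw [S.two_eq] at h2
    have : q = 0 := by linear_combination -h2
    exact hq this
  -- the three candidates
  set u₁ : V := c + c' + c'' with hu₁
  set u₂ : V := c + c' - c'' with hu₂
  set u₃ : V := c - c' + c'' with hu₃
  -- products against `c`, `c'`, `c''`
  have b1 : S.B c u₁ = -q := by
    rw [hu₁, S.Badd_right, S.Badd_right, S.B_self, h12, h13]; ring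
  have b2 : S.B c u₂ = -q := by
    rw [hu₂, S.Bsub_right, S.Badd_right, S.B_self, h12, h13]; ring
  have b3 : S.B c u₃ = -q := by
    rw [hu₃, S.Badd_right, S.Bsub_right, S.B_self, h12, h13]; ring
  have b1' : S.B c' u₁ = -q := by
    rw [hu₁, S.Badd_right, S.Badd_right, S.B_self, h21, h23, hq']; ring
  have b2' : S.B c' u₂ = -q := by
    rw [hu₂, S.Bsub_right, S.Badd_right, S.B_self, h21, h23, hq']; ring
  have b3' : S.B c' u₃ = q := by
    rw [hu₃, S.Badd_right, S.Bsub_right, S.B_self, h21, h23, hq']; ring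
  have b1'' : S.B c'' u₁ = -q := by
    rw [hu₁, S.Badd_right, S.Badd_right, S.B_self, h31, h32, hq'']; ring
  have b2'' : S.B c'' u₂ = q := by
    rw [hu₂, S.Bsub_right, S.Badd_right, S.B_self, h31, h32, hq'']; ring
  have b3'' : S.B c'' u₃ = -q := by
    rw [hu₃, S.Badd_right, S.Bsub_right, S.B_self, h31, h32, hq'']; ring
  -- singular
  have hQ3 : q + q + q = 0 := S.fthree q
  have Q1 : S.Q u₁ = 0 := by
    have e1 : S.B (c + c') c'' = 0 := by rw [S.Badd_left, h13, h23, add_zero]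
    rw [hu₁, S.Q_add_of_perp e1, S.Q_add_of_perp h12, hq', hq'']
    exact hQ3
  have Q2 : S.Q u₂ = 0 := by
    have e1 : S.B (c + c') c'' = 0 := by rw [S.Badd_left, h13, h23, add_zero]
    rw [hu₂, S.Q_sub, e1, S.Q_add_of_perp h12, hq', hq'', sub_zero]
    exact hQ3
  have Q3 : S.Q u₃ = 0 := by
    have e1 : S.B (c - c') c'' = 0 := by rw [S.Bsub_left, h13, h23, sub_zero]
    rw [hu₃, S.Q_add_of_perp e1, S.Q_sub, h12, hq', hq'', sub_zero]
    exact hQ3
  -- perpendicular to `z`, `p`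
  have perp : ∀ w : V, S.B w c = 0 → S.B w c' = 0 → S.B w c'' = 0 →
      S.B u₁ w = 0 ∧ S.B u₂ w = 0 ∧ S.B u₃ w = 0 := by
    intro w hc hc' hc''
    have e : S.B c w = 0 := by rw [S.B_symm]; exact hc
    have e' : S.B c' w = 0 := by rw [S.B_symm]; exact hc'
    have e'' : S.B c'' w = 0 := by rw [S.B_symm]; exact hc''
    refine ⟨?_, ?_, ?_⟩
    · rw [hu₁, S.Badd_left, S.Badd_left, e, e', e'']; ring
    · rw [hu₂, S.Bsub_left, S.Badd_left, e, e', e'']; ring
    · rw [hu₃, S.Badd_left, S.Bsub_left, e, e', e'']; ring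
  obtain ⟨z1, z2, z3⟩ := perp z hzc hzc' hzc''
  obtain ⟨p1, p2, p3⟩ := perp p hpc hpc' hpc''
  -- nonzero
  have nz : ∀ w : V, S.B c w = -q → w ≠ 0 := by
    intro w hw h0
    rw [h0, S.Bzero_right] at hw
    exact hnq hw.symm
  -- the pigeonhole
  have d12 : ∀ v : V, (∃ a : F, u₁ = a • v) → (∃ a : F, u₂ = a • v) → False := fun v h h' =>
    not_both_mem_line S hnq b1 b2 (c' := c'') (by rw [b1'', b2'']; exact fun h => hqq h.symm) h h'
  have d13 : ∀ v : V, (∃ a : F, u₁ = a • v) → (∃ a : F, u₃ = a • v) → False := fun v h h' =>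
    not_both_mem_line S hnq b1 b3 (c' := c') (by rw [b1', b3']; exact fun h => hqq h.symm) h h'
  have d23 : ∀ v : V, (∃ a : F, u₂ = a • v) → (∃ a : F, u₃ = a • v) → False := fun v h h' =>
    not_both_mem_line S hnq b2 b3 (c' := c') (by rw [b2', b3']; exact fun h => hqq h.symm) h h'
  by_contra hcon
  have blocked : ∀ w : V, w ≠ 0 → S.Q w = 0 → S.B w z = 0 → S.B w p = 0 →
      (∃ a : F, w = a • z) ∨ (∃ a : F, w = a • p) := by
    intro w hw0 hwQ hwz hwp
    by_contra hn
    rw [not_or] at hn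
    exact hcon ⟨w, hw0, hwQ, hwz, hwp, hn.1, hn.2⟩
  rcases blocked u₁ (nz _ b1) Q1 z1 p1 with a1 | a1 <;>
  rcases blocked u₂ (nz _ b2) Q2 z2 p2 with a2 | a2 <;>
  rcases blocked u₃ (nz _ b3) Q3 z3 p3 with a3 | a3
  · exact d12 z a1 a2
  · exact d12 z a1 a2
  · exact d13 z a1 a3
  · exact d23 p a2 a3
  · exact d23 z a2 a3
  · exact d13 p a1 a3
  · exact d12 p a1 a2
  · exact d12 p a1 a2

end Cfsg.Agent.Lib.Helper27.Om3Leaf
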