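import Mathlib
import Cfsg.Agent.Lib.Helper11.Om3Tools

/-! Helper27 library: leaf GC of helper11's S2144 market ("OM3"): the five counts in `x^⊥`
(`x ≠ 0` singular).  Key: on `{w | B x w ≠ 0}` the form `Q` takes each value exactly once on every
coset `w + <x>`. -/

set_option autoImplicit false

open Cfsg.Agent.Lib.Helper11.Om3 MulAction
open scoped Pointwise

namespace Cfsg.Agent.Lib.Helper27.Om3Leaf

variable {F V G : Type*} [Field F] [AddCommGroup V] [Module F V] [Group G] [DistribMulAction G V]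
  (S : Setting F V G)

/-- splitting a count along a second predicate -/
theorem card_split [Finite V] (p q : V → Prop) :
    Nat.card {w : V // p w} = Nat.card {w : V // q w ∧ p w} + Nat.card {w : V // ¬ q w ∧ p w} := by
  classical
  have e : {w : V // p w} ≃ {w : V // q w ∧ p w} ⊕ {w : V // ¬ q w ∧ p w} :=
    { toFun := fun w => if h : q w.1 then Sum.inl ⟨w.1, h, w.2⟩ else Sum.inr ⟨w.1, h, w.2⟩
      invFun := fun s => Sum.elim (fun w => ⟨w.1, w.2.2⟩) (fun w => ⟨w.1, w.2.2⟩) s
      left_inv := by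
        intro w
        by_cases h : q w.1 <;> simp [h]
      right_inv := by
        rintro (⟨w, hq, hp⟩ | ⟨w, hq, hp⟩)
        · simp [hq]
        · simp [hq] }
  rw [Nat.card_congr e, Nat.card_sum]

/-- on the complement of `x^⊥` every `Q`-class has a third of the elements -/
theorem three_mul_card_nperp_class [Finite V] {x : V} (hx : S.Q x = 0) (c : F) :
    3 * Nat.card {w : V // ¬ S.B x w = 0 ∧ S.Q w = c} = Nat.card {w : V // ¬ S.B x w = 0} := by
  classical
  have : Finite F := S.finite_F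
  have hxx : S.B x x = 0 := S.B_self_of_sing hx
  have hQ : ∀ (w : V) (a : F), S.Q (w - a • x) = S.Q w - a * S.B x w := by
    intro w a
    rw [S.Q_sub, S.Q_smul, hx, S.Bsmul_right, S.B_symm w x]; ring
  have hB : ∀ (w : V) (a : F), S.B x (w - a • x) = S.B x w := by
    intro w a
    rw [S.Bsub_right, S.Bsmul_right, hxx]; ring
  let e : {w : V // ¬ S.B x w = 0} ≃ {w : V // ¬ S.B x w = 0 ∧ S.Q w = c} × F :=
    { toFun := fun w => (⟨w.1 - ((S.Q w.1 - c) * (S.B x w.1)⁻¹) • x, by
          rw [hB]; exact w.2, by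
          rw [hQ, mul_assoc, inv_mul_cancel₀ w.2]; ring⟩, (S.Q w.1 - c) * (S.B x w.1)⁻¹)
      invFun := fun p => ⟨p.1.1 + p.2 • x, by
          have h := hB p.1.1 (-p.2)
          rw [neg_smul, sub_neg_eq_add] at h
          rw [h]; exact p.1.2.1⟩
      left_inv := by
        intro w
        apply Subtype.ext
        simp only
        rw [sub_add_cancel]
      right_inv := by
        rintro ⟨⟨v, hv, hvc⟩, a⟩
        have h1 : S.B x (v + a • x) = S.B x v := by
          have h := hB v (-a)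
          rw [neg_smul, sub_neg_eq_add] at h
          exact h
        have h2 : S.Q (v + a • x) = c + a * S.B x v := by
          have h := hQ v (-a)
          rw [neg_smul, sub_neg_eq_add] at h
          rw [h, hvc]; ring
        have h3 : (S.Q (v + a • x) - c) * (S.B x (v + a • x))⁻¹ = a := by
          rw [h1, h2]
          field_simp
          ring
        apply Prod.ext
        · apply Subtype.ext
          simp only
          rw [h3, add_sub_cancel_right]
        · simp only
          exact h3 }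
  rw [Nat.card_congr e, Nat.card_prod, S.natCard_F, mul_comm]

/-- the complement of `x^⊥` has `2 |V| / 3` elements -/
theorem card_nperp [Finite V] {x : V} (hx0 : x ≠ 0) :
    3 * Nat.card {w : V // ¬ S.B x w = 0} = 2 * Nat.card V := by
  have h1 := S.three_mul_card_perp hx0
  have h2 := card_split (fun _ : V => True) (fun w => S.B x w = 0)
  have e1 : Nat.card {w : V // True} = Nat.card V :=
    Nat.card_congr (Equiv.subtypeUnivEquiv (fun _ => trivial))
  have e2 : Nat.card {w : V // S.B x w = 0 ∧ True} = Nat.card {w : V // S.B x w = 0} :=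
    Nat.card_congr (Equiv.subtypeEquivRight (fun w => iff_of_eq (and_true _)))
  have e3 : Nat.card {w : V // ¬ S.B x w = 0 ∧ True} = Nat.card {w : V // ¬ S.B x w = 0} :=
    Nat.card_congr (Equiv.subtypeEquivRight (fun w => iff_of_eq (and_true _)))
  rw [e1, e2, e3] at h2
  omega

/-- every `Q`-class meets the complement of `x^⊥` in `2 · 3^(2m-1)` elements -/
theorem card_nperp_class [Finite V] {m : ℕ} (hV : Nat.card V = 3 ^ (2 * m + 1)) (hm : 1 ≤ m)
    {x : V} (hx0 : x ≠ 0) (hx : S.Q x = 0) (c : F) :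
    Nat.card {w : V // ¬ S.B x w = 0 ∧ S.Q w = c} = 2 * 3 ^ (2 * m - 1) := by
  have h1 := three_mul_card_nperp_class S hx c
  have h2 := card_nperp S hx0
  rw [hV] at h2
  have e : 3 ^ (2 * m + 1) = 9 * 3 ^ (2 * m - 1) := by
    have : 2 * m + 1 = (2 * m - 1) + 2 := by omega
    rw [this, pow_add]; ring
  omega

/-- GC0: number of singular vectors of `x^⊥` (including the three multiples of `x`). -/
theorem card_perp_sing [Finite V] {m : ℕ} (hV : Nat.card V = 3 ^ (2 * m + 1))
    (hs : Nat.card {v : V // S.Q v = 0} = 3 ^ (2 * m)) (hm : 1 ≤ m) {x : V}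
    (hx0 : x ≠ 0) (hx : S.Q x = 0) :
    Nat.card {w : V // S.B x w = 0 ∧ S.Q w = 0} = 3 ^ (2 * m - 1) := by
  have h1 := card_split (fun w : V => S.Q w = 0) (fun w => S.B x w = 0)
  rw [hs, card_nperp_class S hV hm hx0 hx 0] at h1
  have e : 3 ^ (2 * m) = 3 * 3 ^ (2 * m - 1) := by
    have : 2 * m = (2 * m - 1) + 1 := by omega
    rw [this, pow_add]; simp; ring
  omega

/-- GC1: number of vectors of `x^⊥` with `Q = 1`. -/
theorem card_perp_one [Finite V] {m : ℕ} (hV : Nat.card V = 3 ^ (2 * m + 1))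
    (h1 : Nat.card {v : V // S.Q v = 1} = 3 ^ (2 * m) + 3 ^ m) (hm : 1 ≤ m) {x : V}
    (hx0 : x ≠ 0) (hx : S.Q x = 0) :
    Nat.card {w : V // S.B x w = 0 ∧ S.Q w = 1} = 3 ^ (2 * m - 1) + 3 ^ m := by
  have h2 := card_split (fun w : V => S.Q w = 1) (fun w => S.B x w = 0)
  rw [h1, card_nperp_class S hV hm hx0 hx 1] at h2
  have e : 3 ^ (2 * m) = 3 * 3 ^ (2 * m - 1) := by
    have : 2 * m = (2 * m - 1) + 1 := by omega
    rw [this, pow_add]; simp; ring
  omega

/-- the number of vectors with `Q = -1` -/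
theorem card_neg [Finite V] {m : ℕ} (hV : Nat.card V = 3 ^ (2 * m + 1))
    (hs : Nat.card {v : V // S.Q v = 0} = 3 ^ (2 * m))
    (h1 : Nat.card {v : V // S.Q v = 1} = 3 ^ (2 * m) + 3 ^ m) :
    Nat.card {v : V // S.Q v = -1} + 3 ^ m = 3 ^ (2 * m) := by
  have a1 := card_split (fun _ : V => True) (fun w => S.Q w = 0)
  have a2 := card_split (fun w : V => ¬ S.Q w = 0) (fun w => S.Q w = 1)
  have e1 : Nat.card {w : V // True} = Nat.card V :=
    Nat.card_congr (Equiv.subtypeUnivEquiv (fun _ => trivial))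
  have e2 : Nat.card {w : V // S.Q w = 0 ∧ True} = Nat.card {w : V // S.Q w = 0} :=
    Nat.card_congr (Equiv.subtypeEquivRight (fun w => iff_of_eq (and_true _)))
  have e3 : Nat.card {w : V // ¬ S.Q w = 0 ∧ True} = Nat.card {w : V // ¬ S.Q w = 0} :=
    Nat.card_congr (Equiv.subtypeEquivRight (fun w => iff_of_eq (and_true _)))
  have e4 : Nat.card {w : V // S.Q w = 1 ∧ ¬ S.Q w = 0} = Nat.card {w : V // S.Q w = 1} :=
    Nat.card_congr (Equiv.subtypeEquivRight (fun w => by
      constructor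
      · exact fun h => h.1
      · intro h
        exact ⟨h, by rw [h]; exact one_ne_zero⟩))
  have e5 : Nat.card {w : V // ¬ S.Q w = 1 ∧ ¬ S.Q w = 0} = Nat.card {w : V // S.Q w = -1} :=
    Nat.card_congr (Equiv.subtypeEquivRight (fun w => by
      constructor
      · rintro ⟨h1', h0⟩
        rcases S.h3 (S.Q w) with h | h | h
        · exact absurd h h0
        · exact absurd h h1'
        · exact h
      · intro h
        rw [h]
        refine ⟨fun h' => S.one_ne_neg_one h'.symm, ?_⟩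
        intro h'
        have : (1 : F) = 0 := by linear_combination -h'
        exact one_ne_zero this))
  rw [e1, e2, e3, hs, hV] at a1
  rw [e4, e5, h1] at a2
  have e : 3 ^ (2 * m + 1) = 3 * 3 ^ (2 * m) := by rw [pow_succ]; ring
  omega

/-- GC2: number of vectors of `x^⊥` with `Q = -1`. -/
theorem card_perp_neg [Finite V] {m : ℕ} (hV : Nat.card V = 3 ^ (2 * m + 1))
    (hs : Nat.card {v : V // S.Q v = 0} = 3 ^ (2 * m))
    (h1 : Nat.card {v : V // S.Q v = 1} = 3 ^ (2 * m) + 3 ^ m) (hm : 1 ≤ m) {x : V}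
    (hx0 : x ≠ 0) (hx : S.Q x = 0) :
    Nat.card {w : V // S.B x w = 0 ∧ S.Q w = -1} = 3 ^ (2 * m - 1) - 3 ^ m := by
  have h2 := card_split (fun w : V => S.Q w = -1) (fun w => S.B x w = 0)
  have h3 := card_neg S hV hs h1
  rw [card_nperp_class S hV hm hx0 hx (-1)] at h2
  have e : 3 ^ (2 * m) = 3 * 3 ^ (2 * m - 1) := by
    have : 2 * m = (2 * m - 1) + 1 := by omega
    rw [this, pow_add]; simp; ring
  omega

include S in
/-- the multiples of a nonzero vector: exactly three -/
theorem card_line [Finite V] {x : V} (hx0 : x ≠ 0) :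
    Nat.card {w : V // ∃ a : F, w = a • x} = 3 := by
  have : Finite F := S.finite_F
  have e : F ≃ {w : V // ∃ a : F, w = a • x} :=
    Equiv.ofBijective (fun a => ⟨a • x, a, rfl⟩) ⟨by
      intro a b hab
      have h : a • x = b • x := congrArg Subtype.val hab
      have h2 : (a - b) • x = 0 := by rw [sub_smul, h, sub_self]
      rcases smul_eq_zero.mp h2 with h3 | h3
      · exact sub_eq_zero.mp h3
      · exact absurd h3 hx0, by
      rintro ⟨w, a, rfl⟩
      exact ⟨a, rfl⟩⟩
  rw [← Nat.card_congr e, S.natCard_F]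

/-- GC0': number of singular vectors of `x^⊥ ∖ <x>`. -/
theorem card_class_zero [Finite V] {m : ℕ} (hV : Nat.card V = 3 ^ (2 * m + 1))
    (hs : Nat.card {v : V // S.Q v = 0} = 3 ^ (2 * m)) (hm : 1 ≤ m) {x : V}
    (hx0 : x ≠ 0) (hx : S.Q x = 0) :
    Nat.card {w : V // S.B x w = 0 ∧ (¬ ∃ a : F, w = a • x) ∧ S.Q w = 0} = 3 ^ (2 * m - 1) - 3 := by
  have h0 := card_perp_sing S hV hs hm hx0 hx
  have h2 := card_split (fun w : V => S.B x w = 0 ∧ S.Q w = 0) (fun w => ∃ a : F, w = a • x)
  have e1 : Nat.card {w : V // (∃ a : F, w = a • x) ∧ S.B x w = 0 ∧ S.Q w = 0} =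
      Nat.card {w : V // ∃ a : F, w = a • x} :=
    Nat.card_congr (Equiv.subtypeEquivRight (fun w => by
      constructor
      · exact fun h => h.1
      · rintro ⟨a, rfl⟩
        refine ⟨⟨a, rfl⟩, ?_, ?_⟩
        · rw [S.Bsmul_right, S.B_self_of_sing hx, mul_zero]
        · rw [S.Q_smul, hx, mul_zero]))
  have e2 : Nat.card {w : V // (¬ ∃ a : F, w = a • x) ∧ S.B x w = 0 ∧ S.Q w = 0} =
      Nat.card {w : V // S.B x w = 0 ∧ (¬ ∃ a : F, w = a • x) ∧ S.Q w = 0} :=
    Nat.card_congr (Equiv.subtypeEquivRight (fun w => by tauto))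
  rw [e1, e2, card_line S hx0, h0] at h2
  omega

/-- GCc: every `Q`-class of `x^⊥ ∖ <x>` has at least `3^(2m-1) - 3^m` elements. -/
theorem card_class_ge [Finite V] {m : ℕ} (hV : Nat.card V = 3 ^ (2 * m + 1))
    (hs : Nat.card {v : V // S.Q v = 0} = 3 ^ (2 * m))
    (h1 : Nat.card {v : V // S.Q v = 1} = 3 ^ (2 * m) + 3 ^ m) (hm : 1 ≤ m) {x : V}
    (hx0 : x ≠ 0) (hx : S.Q x = 0) (c : F) :
    3 ^ (2 * m - 1) - 3 ^ m ≤
      Nat.card {w : V // S.B x w = 0 ∧ (¬ ∃ a : F, w = a • x) ∧ S.Q w = c} := by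
  have h3m : 3 ≤ 3 ^ m := by
    calc 3 = 3 ^ 1 := by norm_num
      _ ≤ 3 ^ m := Nat.pow_le_pow_right (by norm_num) hm
  -- for `c ≠ 0` the multiples of `x` are not in the class
  have hne : ∀ c' : F, c' ≠ 0 →
      Nat.card {w : V // S.B x w = 0 ∧ (¬ ∃ a : F, w = a • x) ∧ S.Q w = c'} =
        Nat.card {w : V // S.B x w = 0 ∧ S.Q w = c'} := by
    intro c' hc'
    apply Nat.card_congr
    apply Equiv.subtypeEquivRight
    intro w
    constructor
    · exact fun h => ⟨h.1, h.2.2⟩
    · rintro ⟨hb, hq⟩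
      refine ⟨hb, ?_, hq⟩
      rintro ⟨a, rfl⟩
      rw [S.Q_smul, hx, mul_zero] at hq
      exact hc' hq.symm
  rcases S.h3 c with rfl | rfl | rfl
  · rw [card_class_zero S hV hs hm hx0 hx]
    omega
  · rw [hne 1 one_ne_zero, card_perp_one S hV h1 hm hx0 hx]
    exact (Nat.sub_le _ _).trans (Nat.le_add_right _ _)
  · have hm1 : (-1 : F) ≠ 0 := by
      intro h
      have : (1 : F) = 0 := by linear_combination -h
      exact one_ne_zero this
    rw [hne (-1) hm1, card_perp_neg S hV hs h1 hm hx0 hx]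

end Cfsg.Agent.Lib.Helper27.Om3Leaf
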