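/-
Schur multiplier theory, part 1 (helper27): general group theory.
* `finite_commutator_of_central`: central extension of a finite group has finite commutator subgroup (Schur).
* `map_mult_eq`: comparing central extensions.
* `exists_central_complement`: splitting off the part of a central subgroup that injects into a finite rank
  free abelian group.
-/
import Mathlib
import Cfsg.Prelude.Def_KGroupFacts

set_option autoImplicit false

namespace Cfsg.Agent.Lib.Helper27.Schur

universe u v w

open Subgroup
open scoped commutatorElement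

section General

variable {H : Type v} [Group H] {G : Type u} [Group G]

theorem commutatorElement_mul_central_left (a b z : H) (hz : z ∈ center H) : ⁅a * z, b⁆ = ⁅a, b⁆ := by
  rw [mem_center_iff] at hz
  rw [commutatorElement_def, commutatorElement_def, mul_inv_rev]
  have h1 : z * b = b * z := (hz b).symm
  calc a * z * b * (z⁻¹ * a⁻¹) * b⁻¹ = a * (z * b) * z⁻¹ * a⁻¹ * b⁻¹ := by group
    _ = a * (b * z) * z⁻¹ * a⁻¹ * b⁻¹ := by rw [h1]
    _ = a * b * a⁻¹ * b⁻¹ := by group

theorem commutatorElement_mul_central_right (a b z : H) (hz : z ∈ center H) : ⁅a, b * z⁆ = ⁅a, b⁆ := by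
  rw [mem_center_iff] at hz
  rw [commutatorElement_def, commutatorElement_def, mul_inv_rev]
  have h1 : z * a⁻¹ = a⁻¹ * z := (hz a⁻¹).symm
  calc a * (b * z) * a⁻¹ * (z⁻¹ * b⁻¹) = a * b * (z * a⁻¹) * z⁻¹ * b⁻¹ := by group
    _ = a * b * (a⁻¹ * z) * z⁻¹ * b⁻¹ := by rw [h1]
    _ = a * b * a⁻¹ * b⁻¹ := by group

/-- the commutator of two elements only depends on the cosets modulo a central subgroup -/
theorem commutatorElement_mul_central (a b z₁ z₂ : H) (h₁ : z₁ ∈ center H)
    (h₂ : z₂ ∈ center H) : ⁅a * z₁, b * z₂⁆ = ⁅a, b⁆ := by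
  rw [commutatorElement_mul_central_left _ _ _ h₁, commutatorElement_mul_central_right _ _ _ h₂]

/-- Schur: if the centre has finite index, there are finitely many commutators. -/
theorem finite_commutatorSet_of_finiteIndex_center [(center H).FiniteIndex] : Finite (commutatorSet H) := by
  classical
  have hfin : Finite (H ⧸ center H) := inferInstance
  -- the map (H/Z)² → H
  let f : (H ⧸ center H) × (H ⧸ center H) → H := fun p =>
    ⁅(Quotient.out p.1 : H), (Quotient.out p.2 : H)⁆
  have hsub : commutatorSet H ⊆ Set.range f := by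
    rintro x ⟨a, b, rfl⟩
    refine ⟨((a : H ⧸ center H), (b : H ⧸ center H)), ?_⟩
    show ⁅(Quotient.out (a : H ⧸ center H) : H), (Quotient.out (b : H ⧸ center H) : H)⁆ = ⁅a, b⁆
    have ha : (a⁻¹ * Quotient.out (a : H ⧸ center H) : H) ∈ center H := by
      rw [← QuotientGroup.eq]; exact (QuotientGroup.out_eq' _).symm
    have hb : (b⁻¹ * Quotient.out (b : H ⧸ center H) : H) ∈ center H := by
      rw [← QuotientGroup.eq]; exact (QuotientGroup.out_eq' _).symm
    have := commutatorElement_mul_central a b _ _ ha hb
    rwa [mul_inv_cancel_left, mul_inv_cancel_left] at this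
  exact (Set.finite_range f).subset hsub |>.to_subtype

/-- Schur: a central extension of a finite group has finite commutator subgroup. -/
theorem finite_commutator_of_central [Finite G] (ρ : H →* G) (hc : ρ.ker ≤ center H) :
    Finite (commutator H) := by
  have h1 : ρ.ker.FiniteIndex := by
    have : Finite (H ⧸ ρ.ker) := Finite.of_equiv _ (QuotientGroup.quotientKerEquivRange ρ).toEquiv.symm
    exact Subgroup.finiteIndex_of_finite_quotient
  have h2 : (center H).FiniteIndex := Subgroup.finiteIndex_of_le hc
  have := finite_commutatorSet_of_finiteIndex_center (H := H)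
  infer_instance

/-- comparing central extensions: if `φ : H → E` is compatible with `ρ : H → G` (surjective) and the central
extension `σ : E → G`, then `φ` maps `ker ρ ∩ H'` onto `ker σ ∩ E'`. -/
theorem map_mult_eq {E : Type w} [Group E] (ρ : H →* G) (hρ : Function.Surjective ρ) (σ : E →* G)
    (hσ : σ.ker ≤ center E) (φ : H →* E) (hφ : σ.comp φ = ρ) :
    (ρ.ker ⊓ commutator H).map φ = σ.ker ⊓ commutator E := by
  apply le_antisymm
  · rintro _ ⟨h, ⟨h1, h2⟩, rfl⟩
    have h1' : ρ h = 1 := h1
    refine ⟨?_, ?_⟩
    · show σ (φ h) = 1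
      rw [← h1', ← hφ]; rfl
    · have : (commutator H).map φ ≤ commutator E := by
        rw [_root_.commutator_def, _root_.commutator_def, Subgroup.map_commutator]
        exact Subgroup.commutator_mono le_top le_top
      exact this ⟨h, h2, rfl⟩
  · -- `E' ≤ φ(H')`
    have hE : commutator E ≤ (commutator H).map φ := by
      rw [commutator_eq_closure, Subgroup.closure_le]
      rintro _ ⟨e₁, e₂, rfl⟩
      obtain ⟨h₁, hh₁⟩ := hρ (σ e₁)
      obtain ⟨h₂, hh₂⟩ := hρ (σ e₂)
      have k₁ : (φ h₁)⁻¹ * e₁ ∈ σ.ker := by
        rw [MonoidHom.mem_ker, map_mul, map_inv, ← hh₁, ← hφ]; simp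
      have k₂ : (φ h₂)⁻¹ * e₂ ∈ σ.ker := by
        rw [MonoidHom.mem_ker, map_mul, map_inv, ← hh₂, ← hφ]; simp
      have := commutatorElement_mul_central (φ h₁) (φ h₂) _ _ (hσ k₁) (hσ k₂)
      rw [mul_inv_cancel_left, mul_inv_cancel_left] at this
      rw [SetLike.mem_coe, this, ← map_commutatorElement]
      exact ⟨⁅h₁, h₂⁆, commutator_mem_commutator (mem_top _) (mem_top _), rfl⟩
    rintro e ⟨he1, he2⟩
    obtain ⟨h, hh, rfl⟩ := hE he2
    refine ⟨h, ⟨?_, hh⟩, rfl⟩
    have he1' : σ (φ h) = 1 := he1
    show ρ h = 1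
    rw [← hφ]
    exact he1'

/-- splitting: if `f` maps `H` to a free abelian group of finite rank and `A` is a central subgroup, then
`A ∩ ker f` has a complement in `A`. -/
theorem exists_central_complement {M' : Type*} [CommGroup M'] {ι : Type*} [Finite ι]
    (b : Module.Basis ι ℤ (Additive M')) (A : Subgroup H) (hA : A ≤ center H) (f : H →* M') :
    ∃ S : Subgroup H, S ≤ A ∧ S ⊓ f.ker = ⊥ ∧ A ≤ S ⊔ (A ⊓ f.ker) := by
  classical
  letI : CommGroup ↥A :=
    { (inferInstance : Group ↥A) with
      mul_comm := fun x y => Subtype.ext (by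
        have := hA x.2
        rw [mem_center_iff] at this
        exact (this y.1).symm) }
  let g : Additive ↥A →+ Additive M' := MonoidHom.toAdditive (f.comp A.subtype)
  let gl : Additive ↥A →ₗ[ℤ] Additive M' := g.toIntLinearMap
  let N : Submodule ℤ (Additive M') := LinearMap.range gl
  obtain ⟨n, ⟨bN⟩⟩ := Submodule.nonempty_basis_of_pid b N
  haveI : Module.Free ℤ N := Module.Free.of_basis bN
  obtain ⟨s, hs⟩ := LinearMap.exists_rightInverse_of_surjective gl.rangeRestrict
    (LinearMap.range_rangeRestrict gl)
  -- `S` = image of `s`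
  let S₀ : Subgroup ↥A := AddSubgroup.toSubgroup' (s.toAddMonoidHom.range)
  refine ⟨S₀.map A.subtype, ?_, ?_, ?_⟩
  · rintro _ ⟨x, -, rfl⟩; exact x.2
  · rw [eq_bot_iff]
    rintro _ ⟨⟨x, ⟨y, hy⟩, rfl⟩, hx2⟩
    -- x = s y, f x = 1 so y = 0
    have hx2' : f (x : H) = 1 := hx2
    have h1 : gl.rangeRestrict (s y) = y := by
      have := LinearMap.congr_fun hs y
      rw [LinearMap.comp_apply, LinearMap.id_apply] at this
      exact this
    have h2 : gl (s y) = 0 := by
      have : s y = Additive.ofMul x := hy
      rw [this]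
      show Additive.ofMul (f (x : H)) = 0
      rw [hx2']; rfl
    have h3 : y = 0 := by
      rw [← h1]
      apply Subtype.ext
      exact h2
    have h4 : Additive.ofMul x = (0 : Additive ↥A) := by
      have : s y = Additive.ofMul x := hy
      rw [← this, h3, map_zero]
    have h5 : x = 1 := by
      have := congrArg Additive.toMul h4
      simpa using this
    rw [mem_bot, h5]; rfl
  · intro a ha
    let a' : ↥A := ⟨a, ha⟩
    let y : N := gl.rangeRestrict (Additive.ofMul a')
    let c : ↥A := Additive.toMul (s y)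
    have hc : c ∈ S₀ := ⟨y, rfl⟩
    have h1 : gl.rangeRestrict (s y) = y := by
      have := LinearMap.congr_fun hs y
      rw [LinearMap.comp_apply, LinearMap.id_apply] at this
      exact this
    have h2 : f (c : H) = f a := by
      have : gl (s y) = gl (Additive.ofMul a') := by
        have := congrArg Subtype.val h1
        exact this
      exact congrArg Additive.toMul this
    have h3 : a = (c : H) * ((c : H)⁻¹ * a) := by group
    rw [h3]
    apply Subgroup.mul_mem_sup
    · exact ⟨c, hc, rfl⟩
    · refine ⟨A.mul_mem (A.inv_mem c.2) ha, ?_⟩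
      show f ((c : H)⁻¹ * a) = 1
      rw [map_mul, map_inv, h2, inv_mul_cancel]

end General

end Cfsg.Agent.Lib.Helper27.Schur
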