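/-
Schur multiplier theory, part 2 (helper27): the Hopf formula.
For `π : FreeGroup α →* G` surjective with kernel `R`: `HopfGroup π = F/[F,R]`, `hopfHom π : F/[F,R] → G`,
`mult π = (R ∩ F')/[F,R]`.
-/
import Cfsg.Agent.Lib.Helper27.Schur1

set_option autoImplicit false

namespace Cfsg.Agent.Lib.Helper27.Schur

universe u v w

open Subgroup
open scoped commutatorElement

section Free

variable {α : Type v} {G : Type u} [Group G] (π : FreeGroup α →* G)

/-- `[F, R]` where `R = ker π` -/
def comFR : Subgroup (FreeGroup α) := ⁅(⊤ : Subgroup (FreeGroup α)), π.ker⁆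

instance comFR_normal : (comFR π).Normal := by unfold comFR; infer_instance

theorem comFR_le_ker : comFR π ≤ π.ker := Subgroup.commutator_le_right _ _

theorem comFR_le_commutator : comFR π ≤ commutator (FreeGroup α) := by
  rw [_root_.commutator_def]; exact Subgroup.commutator_mono le_rfl le_top

/-- `F/[F,R]` -/
abbrev HopfGroup : Type v := FreeGroup α ⧸ comFR π

/-- the induced map `F/[F,R] → G` -/
def hopfHom : HopfGroup π →* G := QuotientGroup.lift (comFR π) π (comFR_le_ker π)

@[simp] theorem hopfHom_mk (x : FreeGroup α) : hopfHom π (x : HopfGroup π) = π x := rfl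

theorem hopfHom_surjective (hπ : Function.Surjective π) : Function.Surjective (hopfHom π) :=
  QuotientGroup.lift_surjective_of_surjective _ _ hπ _

theorem hopfHom_ker_le_center : (hopfHom π).ker ≤ center (HopfGroup π) := by
  intro x hx
  obtain ⟨f, rfl⟩ := QuotientGroup.mk_surjective x
  have hf : f ∈ π.ker := hx
  rw [mem_center_iff]
  intro y
  obtain ⟨g, rfl⟩ := QuotientGroup.mk_surjective y
  have h1 : ⁅g, f⁆ ∈ comFR π := Subgroup.commutator_mem_commutator (mem_top g) hf
  have h2 : ((⁅g, f⁆ : FreeGroup α) : HopfGroup π) = 1 := (QuotientGroup.eq_one_iff _).mpr h1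
  rw [commutatorElement_def] at h2
  have h3 : ((g : HopfGroup π) * f * (g : HopfGroup π)⁻¹ * (f : HopfGroup π)⁻¹) = 1 := by
    simpa using h2
  calc (g : HopfGroup π) * f = ((g : HopfGroup π) * f * (g : HopfGroup π)⁻¹ * (f : HopfGroup π)⁻¹) * (f * g) := by
        group
    _ = f * g := by rw [h3, one_mul]

/-- lifting to central extensions -/
theorem exists_lift {E : Type w} [Group E] (σ : E →* G) (hσ : Function.Surjective σ)
    (hc : σ.ker ≤ center E) : ∃ φ : HopfGroup π →* E, σ.comp φ = hopfHom π := by
  classical
  choose s hs using hσ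
  let ψ : FreeGroup α →* E := FreeGroup.lift (fun a => s (π (FreeGroup.of a)))
  have hψ : σ.comp ψ = π := by
    ext a
    simp [ψ, hs]
  have hker : comFR π ≤ ψ.ker := by
    unfold comFR
    rw [Subgroup.commutator_le]
    intro g _ r hr
    have hr' : ψ r ∈ σ.ker := by
      show σ (ψ r) = 1
      have : σ (ψ r) = π r := by rw [← hψ]; rfl
      rw [this]; exact hr
    have hz := hc hr'
    rw [mem_center_iff] at hz
    show ψ ⁅g, r⁆ = 1
    rw [map_commutatorElement, commutatorElement_eq_one_iff_mul_comm]
    exact hz (ψ g)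
  refine ⟨QuotientGroup.lift (comFR π) ψ hker, ?_⟩
  apply MonoidHom.ext
  intro x
  obtain ⟨f, rfl⟩ := QuotientGroup.mk_surjective x
  show σ (ψ f) = π f
  rw [← hψ]; rfl

/-- the abelianization map on `F/[F,R]` -/
def abHom : HopfGroup π →* Abelianization (FreeGroup α) :=
  QuotientGroup.lift (comFR π) Abelianization.of (by
    rw [Abelianization.ker_of]; exact comFR_le_commutator π)

theorem abHom_ker : (abHom π).ker = commutator (HopfGroup π) := by
  apply le_antisymm
  · intro x hx
    obtain ⟨f, rfl⟩ := QuotientGroup.mk_surjective x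
    have hf : f ∈ (Abelianization.of : FreeGroup α →* _).ker := hx
    rw [Abelianization.ker_of] at hf
    have : (commutator (FreeGroup α)).map (QuotientGroup.mk' (comFR π)) ≤ commutator (HopfGroup π) := by
      rw [_root_.commutator_def, _root_.commutator_def, Subgroup.map_commutator]
      exact Subgroup.commutator_mono le_top le_top
    exact this ⟨f, hf, rfl⟩
  · exact Abelianization.commutator_subset_ker _

/-- the multiplier `(R ∩ F')/[F,R]` -/
def mult : Subgroup (HopfGroup π) := (hopfHom π).ker ⊓ commutator (HopfGroup π)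

theorem mult_le_center : mult π ≤ center (HopfGroup π) := inf_le_left.trans (hopfHom_ker_le_center π)

instance multCommGroup : CommGroup ↥(mult π) :=
  { (inferInstance : Group ↥(mult π)) with
    mul_comm := fun x y => Subtype.ext (by
      have := mult_le_center π x.2
      rw [mem_center_iff] at this
      exact (this y.1).symm) }

/-- the universal property: the multiplier maps onto `ker σ ∩ E'` for every central extension `σ`. -/
theorem exists_surjective_mult (hπ : Function.Surjective π) {E : Type w} [Group E] (σ : E →* G)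
    (hσ : Function.Surjective σ) (hc : σ.ker ≤ center E) :
    ∃ θ : ↥(mult π) →* ↥(σ.ker ⊓ commutator E), Function.Surjective θ := by
  obtain ⟨φ, hφ⟩ := exists_lift π σ hσ hc
  have h : (mult π).map φ = σ.ker ⊓ commutator E :=
    map_mult_eq (hopfHom π) (hopfHom_surjective π hπ) σ hc φ hφ
  refine ⟨(MulEquiv.subgroupCongr h).toMonoidHom.comp (φ.subgroupMap (mult π)), ?_⟩
  intro y
  obtain ⟨x, hx⟩ := φ.subgroupMap_surjective (mult π) ((MulEquiv.subgroupCongr h).symm y)
  refine ⟨x, ?_⟩
  show (MulEquiv.subgroupCongr h) ((φ.subgroupMap (mult π)) x) = y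
  rw [hx, MulEquiv.apply_symm_apply]

theorem finite_mult [Finite G] : Finite ↥(mult π) := by
  have := finite_commutator_of_central (hopfHom π) (hopfHom_ker_le_center π)
  exact Finite.of_injective (Subgroup.inclusion (inf_le_right : mult π ≤ commutator (HopfGroup π)))
    (Subgroup.inclusion_injective _)

end Free

end Cfsg.Agent.Lib.Helper27.Schur
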