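/-
Schur multiplier theory, part 3 (helper27): existence of covers, `HasSchurMultiplier G (mult π)`, uniqueness.
-/
import Cfsg.Agent.Lib.Helper27.Schur2

set_option autoImplicit false

namespace Cfsg.Agent.Lib.Helper27.Schur

universe u v w

open Subgroup
open scoped commutatorElement

section Cover

variable {α : Type v} {G : Type u} [Group G] (π : FreeGroup α →* G)

/-- a basis of the abelianization of a free group -/
noncomputable def abBasis (α : Type v) : Module.Basis α ℤ (Additive (Abelianization (FreeGroup α))) :=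
  (Finsupp.basisSingleOne (R := ℤ) (ι := α)).map (FreeAbelianGroup.equivFinsupp α).symm.toIntLinearEquiv

/-- complements of the multiplier in `R/[F,R]`, inside a given subgroup `N`. -/
theorem exists_complement_le [Finite α] (N : Subgroup (HopfGroup π)) (hN : N ≤ (hopfHom π).ker)
    (hN2 : (hopfHom π).ker ≤ N ⊔ mult π) :
    ∃ S : Subgroup (HopfGroup π), S ≤ N ∧ S ⊓ commutator (HopfGroup π) = ⊥ ∧
      (hopfHom π).ker ≤ S ⊔ mult π := by
  obtain ⟨S, hS1, hS2, hS3⟩ := exists_central_complement (abBasis α) N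
    (hN.trans (hopfHom_ker_le_center π)) (abHom π)
  rw [abHom_ker] at hS2 hS3
  refine ⟨S, hS1, hS2, hN2.trans ?_⟩
  apply sup_le
  · apply hS3.trans
    apply sup_le le_sup_left
    exact (inf_le_inf_right _ hN).trans le_sup_right
  · exact le_sup_right

theorem exists_complement [Finite α] :
    ∃ S : Subgroup (HopfGroup π), S ≤ (hopfHom π).ker ∧ S ⊓ commutator (HopfGroup π) = ⊥ ∧
      (hopfHom π).ker ≤ S ⊔ mult π :=
  exists_complement_le π _ le_rfl le_sup_left

variable {π}

theorem normal_of_le_ker {S : Subgroup (HopfGroup π)} (hS : S ≤ (hopfHom π).ker) : S.Normal := by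
  constructor
  intro n hn g
  have := hopfHom_ker_le_center π (hS hn)
  rw [mem_center_iff] at this
  rw [this g, mul_inv_cancel_right]
  exact hn

/-- the extension `F/[F,R]S → G` -/
def coverHom (S : Subgroup (HopfGroup π)) [S.Normal] (hS : S ≤ (hopfHom π).ker) : HopfGroup π ⧸ S →* G :=
  QuotientGroup.lift S (hopfHom π) hS

theorem coverHom_mk (S : Subgroup (HopfGroup π)) [S.Normal] (hS : S ≤ (hopfHom π).ker) (x : HopfGroup π) :
    coverHom S hS (x : HopfGroup π ⧸ S) = hopfHom π x := rfl

theorem coverHom_surjective (hπ : Function.Surjective π) (S : Subgroup (HopfGroup π)) [S.Normal]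
    (hS : S ≤ (hopfHom π).ker) : Function.Surjective (coverHom S hS) :=
  QuotientGroup.lift_surjective_of_surjective _ _ (hopfHom_surjective π hπ) _

theorem coverHom_ker (S : Subgroup (HopfGroup π)) [S.Normal] (hS : S ≤ (hopfHom π).ker) :
    (coverHom S hS).ker = (hopfHom π).ker.map (QuotientGroup.mk' S) :=
  QuotientGroup.ker_lift _ _ _

theorem coverHom_ker_le_center (S : Subgroup (HopfGroup π)) [S.Normal] (hS : S ≤ (hopfHom π).ker) :
    (coverHom S hS).ker ≤ center (HopfGroup π ⧸ S) := by
  rw [coverHom_ker]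
  rintro _ ⟨x, hx, rfl⟩
  have := hopfHom_ker_le_center π hx
  rw [mem_center_iff] at this ⊢
  intro y
  obtain ⟨y, rfl⟩ := QuotientGroup.mk_surjective y
  show ((y * x : HopfGroup π) : HopfGroup π ⧸ S) = ((x * y : HopfGroup π) : HopfGroup π ⧸ S)
  rw [this y]

theorem coverHom_ker_eq (S : Subgroup (HopfGroup π)) [S.Normal] (hS : S ≤ (hopfHom π).ker)
    (hS3 : (hopfHom π).ker ≤ S ⊔ mult π) :
    (coverHom S hS).ker = (mult π).map (QuotientGroup.mk' S) := by
  rw [coverHom_ker]
  apply le_antisymm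
  · refine (Subgroup.map_mono hS3).trans ?_
    rw [Subgroup.map_sup]
    apply sup_le
    · rintro _ ⟨s, hs, rfl⟩
      have : (QuotientGroup.mk' S) s = 1 := (QuotientGroup.eq_one_iff _).mpr hs
      rw [this]; exact one_mem _
    · exact le_rfl
  · exact Subgroup.map_mono inf_le_left

theorem coverHom_ker_le_commutator (S : Subgroup (HopfGroup π)) [S.Normal] (hS : S ≤ (hopfHom π).ker)
    (hS3 : (hopfHom π).ker ≤ S ⊔ mult π) :
    (coverHom S hS).ker ≤ commutator (HopfGroup π ⧸ S) := by
  rw [coverHom_ker_eq S hS hS3]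
  refine (Subgroup.map_mono (inf_le_right : mult π ≤ commutator (HopfGroup π))).trans ?_
  rw [_root_.commutator_def, _root_.commutator_def, Subgroup.map_commutator]
  exact Subgroup.commutator_mono le_top le_top

theorem coverHom_isStem (hπ : Function.Surjective π) (S : Subgroup (HopfGroup π)) [S.Normal]
    (hS : S ≤ (hopfHom π).ker) (hS3 : (hopfHom π).ker ≤ S ⊔ mult π) :
    Cfsg.IsStemExtension (coverHom S hS) :=
  ⟨coverHom_surjective hπ S hS, coverHom_ker_le_center S hS, coverHom_ker_le_commutator S hS hS3⟩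

/-- the kernel of the cover is the multiplier -/
noncomputable def coverKerEquiv (S : Subgroup (HopfGroup π)) [S.Normal] (hS : S ≤ (hopfHom π).ker)
    (hS2 : S ⊓ commutator (HopfGroup π) = ⊥) (hS3 : (hopfHom π).ker ≤ S ⊔ mult π) :
    ↥(mult π) ≃* ↥(coverHom S hS).ker := by
  have h := coverHom_ker_eq S hS hS3
  refine (MulEquiv.ofBijective ((QuotientGroup.mk' S).subgroupMap (mult π)) ⟨?_, ?_⟩).trans
    (MulEquiv.subgroupCongr h.symm)
  · rw [← MonoidHom.ker_eq_bot_iff, eq_bot_iff]
    intro x hx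
    have h1 : (QuotientGroup.mk' S) (x : HopfGroup π) = 1 := by
      have := congrArg Subtype.val (show ((QuotientGroup.mk' S).subgroupMap (mult π)) x = 1 from hx)
      exact this
    have h2 : (x : HopfGroup π) ∈ S := (QuotientGroup.eq_one_iff _).mp h1
    have h3 : (x : HopfGroup π) ∈ S ⊓ commutator (HopfGroup π) := ⟨h2, x.2.2⟩
    rw [hS2, mem_bot] at h3
    rw [mem_bot]; exact Subtype.ext h3
  · exact MonoidHom.subgroupMap_surjective _ _

theorem coverKerEquiv_apply (S : Subgroup (HopfGroup π)) [S.Normal] (hS : S ≤ (hopfHom π).ker)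
    (hS2 : S ⊓ commutator (HopfGroup π) = ⊥) (hS3 : (hopfHom π).ker ≤ S ⊔ mult π) (x : ↥(mult π)) :
    ((coverKerEquiv S hS hS2 hS3 x : ↥(coverHom S hS).ker) : HopfGroup π ⧸ S) = ((x : HopfGroup π) : HopfGroup π ⧸ S) :=
  rfl

theorem finite_cover [Finite G] (S : Subgroup (HopfGroup π)) [S.Normal] (hS : S ≤ (hopfHom π).ker)
    (hS2 : S ⊓ commutator (HopfGroup π) = ⊥) (hS3 : (hopfHom π).ker ≤ S ⊔ mult π) :
    Finite (HopfGroup π ⧸ S) := by
  have h1 : Finite ↥(coverHom S hS).ker := by
    have := finite_mult π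
    exact Finite.of_equiv _ (coverKerEquiv S hS hS2 hS3).toEquiv
  have h2 : Finite ((HopfGroup π ⧸ S) ⧸ (coverHom S hS).ker) :=
    Finite.of_equiv _ (QuotientGroup.quotientKerEquivRange (coverHom S hS)).toEquiv.symm
  exact Finite.of_subgroup_quotient (coverHom S hS).ker

end Cover

end Cfsg.Agent.Lib.Helper27.Schur
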