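/-
Schur multiplier theory, part 4 (helper27): `HasSchurMultiplier G (mult π)`, uniqueness, universal property
for arbitrary central extensions.
-/
import Cfsg.Agent.Lib.Helper27.Schur3

set_option autoImplicit false

namespace Cfsg.Agent.Lib.Helper27.Schur

universe u v w

open Subgroup
open scoped commutatorElement

/-- for a stem extension the multiplier maps onto the kernel -/
theorem exists_surjective_mult_stem {α : Type v} {G : Type u} [Group G] (π : FreeGroup α →* G)
    (hπ : Function.Surjective π) {E : Type w} [Group E] (σ : E →* G) (hσ : Cfsg.IsStemExtension σ) :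
    ∃ θ : ↥(mult π) →* ↥σ.ker, Function.Surjective θ := by
  obtain ⟨θ, hθ⟩ := exists_surjective_mult π hπ σ hσ.1 hσ.2.1
  have h : σ.ker ⊓ commutator E = σ.ker := inf_eq_left.mpr hσ.2.2
  refine ⟨(MulEquiv.subgroupCongr h).toMonoidHom.comp θ, ?_⟩
  intro y
  obtain ⟨x, hx⟩ := hθ ((MulEquiv.subgroupCongr h).symm y)
  refine ⟨x, ?_⟩
  show (MulEquiv.subgroupCongr h) (θ x) = y
  rw [hx, MulEquiv.apply_symm_apply]

/-- **Hopf formula**: the multiplier of a finite group is `(R ∩ F')/[F,R]`. -/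
theorem hasSchurMultiplier_mult {α G : Type u} [Group G] [Finite G] [Finite α] (π : FreeGroup α →* G)
    (hπ : Function.Surjective π) : Cfsg.HasSchurMultiplier G ↥(mult π) := by
  constructor
  · obtain ⟨S, hS1, hS2, hS3⟩ := exists_complement π
    haveI : S.Normal := normal_of_le_ker hS1
    exact ⟨HopfGroup π ⧸ S, inferInstance, finite_cover S hS1 hS2 hS3, coverHom S hS1,
      coverHom_isStem hπ S hS1 hS3, ⟨(coverKerEquiv S hS1 hS2 hS3).symm⟩⟩
  · intro Γ _ _ σ hσ
    exact exists_surjective_mult_stem π hπ σ hσ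

/-- uniqueness of the multiplier -/
theorem nonempty_mulEquiv_mult {α G : Type u} [Group G] [Finite G] [Finite α] (π : FreeGroup α →* G)
    (hπ : Function.Surjective π) {A : Type v} [CommGroup A] (hA : Cfsg.HasSchurMultiplier G A) :
    Nonempty (A ≃* ↥(mult π)) := by
  obtain ⟨⟨Γ, _, _, σ, hσ, ⟨e⟩⟩, hA2⟩ := hA
  obtain ⟨⟨Γ₀, _, _, σ₀, hσ₀, ⟨e₀⟩⟩, -⟩ := hasSchurMultiplier_mult π hπ
  obtain ⟨f₁, hf₁⟩ := exists_surjective_mult_stem π hπ σ hσ
  obtain ⟨f₂, hf₂⟩ := hA2 Γ₀ σ₀ hσ₀
  haveI : Finite A := Finite.of_equiv _ e.toEquiv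
  haveI : Finite ↥(mult π) := finite_mult π
  -- g₁ : mult → A surjective, g₂ : A → mult surjective
  have hg₁ : Function.Surjective (e.toMonoidHom.comp f₁) := e.surjective.comp hf₁
  have hg₂ : Function.Surjective (e₀.toMonoidHom.comp f₂) := e₀.surjective.comp hf₂
  have c1 : Nat.card A ≤ Nat.card ↥(mult π) := Nat.card_le_card_of_surjective _ hg₁
  have c2 : Nat.card ↥(mult π) ≤ Nat.card A := Nat.card_le_card_of_surjective _ hg₂
  have hbij : Function.Bijective (e₀.toMonoidHom.comp f₂) :=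
    (Nat.bijective_iff_surjective_and_card _).mpr ⟨hg₂, le_antisymm c1 c2⟩
  exact ⟨MulEquiv.ofBijective _ hbij⟩

/-- the standard presentation of a group -/
def stdPres (G : Type u) [Group G] : FreeGroup G →* G := FreeGroup.lift id

theorem stdPres_surjective (G : Type u) [Group G] : Function.Surjective (stdPres G) := fun g =>
  ⟨FreeGroup.of g, by simp [stdPres]⟩

/-- **universal property** of the Schur multiplier: for every central extension `σ : E → G` of a finite
group `G` (with `E` arbitrary, possibly infinite), `ker σ ∩ E'` is a homomorphic image of the multiplier. -/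
theorem exists_surjective_of_hasSchurMultiplier {G : Type u} [Group G] [Finite G] {A : Type v} [CommGroup A]
    (hA : Cfsg.HasSchurMultiplier G A) {E : Type w} [Group E] (σ : E →* G) (hσ : Function.Surjective σ)
    (hc : σ.ker ≤ center E) : ∃ θ : A →* ↥(σ.ker ⊓ commutator E), Function.Surjective θ := by
  obtain ⟨e⟩ := nonempty_mulEquiv_mult (stdPres G) (stdPres_surjective G) hA
  obtain ⟨θ, hθ⟩ := exists_surjective_mult (stdPres G) (stdPres_surjective G) σ hσ hc
  exact ⟨θ.comp e.toMonoidHom, hθ.comp e.surjective⟩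

theorem finite_of_hasSchurMultiplier {G : Type u} [Group G] {A : Type v} [CommGroup A]
    (hA : Cfsg.HasSchurMultiplier G A) : Finite A := by
  obtain ⟨⟨Γ, _, _, σ, hσ, ⟨e⟩⟩, -⟩ := hA
  exact Finite.of_equiv _ e.toEquiv

/-- every finite group has a Schur multiplier -/
theorem exists_hasSchurMultiplier (G : Type u) [Group G] [Finite G] :
    Cfsg.HasSchurMultiplier G ↥(mult (stdPres G)) :=
  hasSchurMultiplier_mult _ (stdPres_surjective G)

/-- two multipliers of the same group are isomorphic -/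
theorem nonempty_mulEquiv_of_hasSchurMultiplier {G : Type u} [Group G] [Finite G] {A : Type v} {B : Type w}
    [CommGroup A] [CommGroup B] (hA : Cfsg.HasSchurMultiplier G A) (hB : Cfsg.HasSchurMultiplier G B) :
    Nonempty (A ≃* B) := by
  obtain ⟨e₁⟩ := nonempty_mulEquiv_mult (stdPres G) (stdPres_surjective G) hA
  obtain ⟨e₂⟩ := nonempty_mulEquiv_mult (stdPres G) (stdPres_surjective G) hB
  exact ⟨e₁.trans e₂.symm⟩

/-- transport along an isomorphism of the multiplier -/
theorem hasSchurMultiplier_of_mulEquiv {G : Type u} [Group G] {A : Type v} {B : Type w}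
    [CommGroup A] [CommGroup B] (hA : Cfsg.HasSchurMultiplier G A) (e : A ≃* B) :
    Cfsg.HasSchurMultiplier G B := by
  obtain ⟨⟨Γ, i1, i2, σ, hσ, ⟨e'⟩⟩, hA2⟩ := hA
  refine ⟨⟨Γ, i1, i2, σ, hσ, ⟨e'.trans e⟩⟩, ?_⟩
  intro Γ' _ _ σ' hσ'
  obtain ⟨f, hf⟩ := hA2 Γ' σ' hσ'
  exact ⟨f.comp e.symm.toMonoidHom, hf.comp e.symm.surjective⟩

end Cfsg.Agent.Lib.Helper27.Schur
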