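/-
Schur multiplier theory, part 5 (helper27): covers over a given stem extension; universe polymorphic
versions of the Hopf formula.
-/
import Cfsg.Agent.Lib.Helper27.Schur4

set_option autoImplicit false

namespace Cfsg.Agent.Lib.Helper27.Schur

universe u v w

open Subgroup
open scoped commutatorElement

section Over

variable {α : Type v} {G : Type u} [Group G] (π : FreeGroup α →* G)

/-- a lift of the Hopf group to a stem extension is surjective -/
theorem lift_surjective_of_stem (hπ : Function.Surjective π) {E : Type w} [Group E] (σ : E →* G)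
    (hσ : Cfsg.IsStemExtension σ) (φ : HopfGroup π →* E) (hφ : σ.comp φ = hopfHom π) :
    Function.Surjective φ := by
  have h : (mult π).map φ = σ.ker ⊓ commutator E :=
    map_mult_eq (hopfHom π) (hopfHom_surjective π hπ) σ hσ.2.1 φ hφ
  rw [inf_eq_left.mpr hσ.2.2] at h
  intro d
  obtain ⟨x, hx⟩ := hopfHom_surjective π hπ (σ d)
  have h1 : (φ x)⁻¹ * d ∈ σ.ker := by
    show σ ((φ x)⁻¹ * d) = 1
    have : σ (φ x) = hopfHom π x := by rw [← hφ]; rfl
    rw [map_mul, map_inv, this, hx, inv_mul_cancel]
  rw [← h] at h1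
  obtain ⟨t, -, ht⟩ := h1
  refine ⟨x * t, ?_⟩
  rw [map_mul, ht, mul_inv_cancel_left]

/-- the kernel of a lift to a stem extension, together with the multiplier, generates `R/[F,R]` -/
theorem ker_le_ker_lift_sup_mult (hπ : Function.Surjective π) {E : Type w} [Group E] (σ : E →* G)
    (hσ : Cfsg.IsStemExtension σ) (φ : HopfGroup π →* E) (hφ : σ.comp φ = hopfHom π) :
    φ.ker ≤ (hopfHom π).ker ∧ (hopfHom π).ker ≤ φ.ker ⊔ mult π := by
  have h : (mult π).map φ = σ.ker ⊓ commutator E :=
    map_mult_eq (hopfHom π) (hopfHom_surjective π hπ) σ hσ.2.1 φ hφ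
  rw [inf_eq_left.mpr hσ.2.2] at h
  constructor
  · intro x hx
    show hopfHom π x = 1
    rw [← hφ]
    show σ (φ x) = 1
    rw [show φ x = 1 from hx, map_one]
  · intro a ha
    have h1 : φ a ∈ σ.ker := by
      show σ (φ a) = 1
      have : σ (φ a) = hopfHom π a := by rw [← hφ]; rfl
      rw [this]; exact ha
    rw [← h] at h1
    obtain ⟨t, ht, hta⟩ := h1
    have h2 : a * t⁻¹ ∈ φ.ker := by
      show φ (a * t⁻¹) = 1
      rw [map_mul, map_inv, hta, mul_inv_cancel]
    have : a = (a * t⁻¹) * t := by group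
    rw [this]
    exact Subgroup.mul_mem_sup h2 ht

/-- every finite stem extension is a quotient of a cover built from the Hopf group -/
theorem exists_cover_over [Finite α] (hπ : Function.Surjective π) {E : Type w} [Group E] (σ : E →* G)
    (hσ : Cfsg.IsStemExtension σ) :
    ∃ (S : Subgroup (HopfGroup π)) (hS : S ≤ (hopfHom π).ker) (_ : S.Normal),
      S ⊓ commutator (HopfGroup π) = ⊥ ∧ (hopfHom π).ker ≤ S ⊔ mult π ∧
      ∃ β : HopfGroup π ⧸ S →* E, Function.Surjective β ∧ σ.comp β = coverHom S hS := by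
  obtain ⟨φ, hφ⟩ := exists_lift π σ hσ.1 hσ.2.1
  obtain ⟨h1, h2⟩ := ker_le_ker_lift_sup_mult π hπ σ hσ φ hφ
  obtain ⟨S, hS1, hS2, hS3⟩ := exists_complement_le π φ.ker h1 h2
  have hSn : S.Normal := normal_of_le_ker (hS1.trans h1)
  refine ⟨S, hS1.trans h1, hSn, hS2, hS3, QuotientGroup.lift S φ hS1, ?_, ?_⟩
  · exact QuotientGroup.lift_surjective_of_surjective _ _ (lift_surjective_of_stem π hπ σ hσ φ hφ) _
  · apply MonoidHom.ext
    intro x
    obtain ⟨x, rfl⟩ := QuotientGroup.mk_surjective x
    show σ (φ x) = hopfHom π x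
    rw [← hφ]; rfl

end Over

/-- finite groups can be moved to any universe -/
theorem exists_mulEquiv_of_finite (X : Type w) [Group X] [Finite X] :
    ∃ (Y : Type u) (_ : Group Y), Nonempty (Y ≃* X) := by
  let e : ULift.{u} (Fin (Nat.card X)) ≃ X := Equiv.ulift.trans (Finite.equivFin X).symm
  letI : Group (ULift.{u} (Fin (Nat.card X))) := e.group
  exact ⟨ULift.{u} (Fin (Nat.card X)), inferInstance, ⟨e.mulEquiv⟩⟩

/-- **Hopf formula**, universe polymorphic -/
theorem hasSchurMultiplier_mult' {α : Type w} {G : Type u} [Group G] [Finite G] [Finite α]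
    (π : FreeGroup α →* G) (hπ : Function.Surjective π) : Cfsg.HasSchurMultiplier G ↥(mult π) := by
  constructor
  · obtain ⟨S, hS1, hS2, hS3⟩ := exists_complement π
    haveI : S.Normal := normal_of_le_ker hS1
    haveI := finite_cover S hS1 hS2 hS3
    obtain ⟨Y, iY, ⟨e⟩⟩ := exists_mulEquiv_of_finite.{u} (HopfGroup π ⧸ S)
    have hst := coverHom_isStem hπ S hS1 hS3
    refine ⟨Y, iY, Finite.of_equiv _ e.symm.toEquiv, (coverHom S hS1).comp e.toMonoidHom, ⟨?_, ?_, ?_⟩, ⟨?_⟩⟩
    · exact hst.1.comp e.surjective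
    · intro y hy
      have h1 : e y ∈ (coverHom S hS1).ker := hy
      have h2 := hst.2.1 h1
      rw [mem_center_iff] at h2 ⊢
      intro z
      apply e.injective
      rw [map_mul, map_mul]
      exact h2 (e z)
    · intro y hy
      have h1 : e y ∈ (coverHom S hS1).ker := hy
      have h2 := hst.2.2 h1
      have h3 : (commutator (HopfGroup π ⧸ S)).map e.symm.toMonoidHom ≤ commutator Y := by
        rw [_root_.commutator_def, _root_.commutator_def, Subgroup.map_commutator]
        exact Subgroup.commutator_mono le_top le_top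
      have := h3 ⟨e y, h2, rfl⟩
      simpa using this
    · -- kernel ≃ mult
      have hk : ((coverHom S hS1).comp e.toMonoidHom).ker = (coverHom S hS1).ker.comap e.toMonoidHom := rfl
      refine (MulEquiv.subgroupCongr hk).trans ?_
      refine MulEquiv.trans ?_ (coverKerEquiv S hS1 hS2 hS3).symm
      exact
        { toFun := fun y => ⟨e y.1, y.2⟩
          invFun := fun x => ⟨e.symm x.1, by
            show e (e.symm x.1) ∈ (coverHom S hS1).ker
            rw [MulEquiv.apply_symm_apply]; exact x.2⟩
          left_inv := fun y => Subtype.ext (by simp)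
          right_inv := fun x => Subtype.ext (by simp)
          map_mul' := fun y z => Subtype.ext (by
            show e ((y * z : ↥((coverHom S hS1).ker.comap e.toMonoidHom)) : Y) = e y.1 * e z.1
            rw [Subgroup.coe_mul, map_mul]) }
  · intro Γ _ _ σ hσ
    exact exists_surjective_mult_stem π hπ σ hσ

/-- uniqueness of the multiplier, universe polymorphic -/
theorem nonempty_mulEquiv_mult' {α : Type w} {G : Type u} [Group G] [Finite G] [Finite α]
    (π : FreeGroup α →* G) (hπ : Function.Surjective π) {A : Type v} [CommGroup A]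
    (hA : Cfsg.HasSchurMultiplier G A) : Nonempty (A ≃* ↥(mult π)) :=
  nonempty_mulEquiv_of_hasSchurMultiplier hA (hasSchurMultiplier_mult' π hπ)

end Cfsg.Agent.Lib.Helper27.Schur

namespace Cfsg.Agent.Lib.Helper27.Schur

universe u v w

open Subgroup
open scoped commutatorElement

/-- elements of `F` whose image in the Hopf group lies in the commutator subgroup lie in `F'` -/
theorem mem_commutator_of_mk_mem {α : Type v} {G : Type u} [Group G] (π : FreeGroup α →* G)
    (f : FreeGroup α) (hf : (f : HopfGroup π) ∈ commutator (HopfGroup π)) : f ∈ commutator (FreeGroup α) := by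
  rw [← abHom_ker] at hf
  have : Abelianization.of f = 1 := hf
  rw [← Abelianization.ker_of]
  exact this

theorem mk_mem_commutator {α : Type v} {G : Type u} [Group G] (π : FreeGroup α →* G)
    (f : FreeGroup α) (hf : f ∈ commutator (FreeGroup α)) : (f : HopfGroup π) ∈ commutator (HopfGroup π) := by
  have : (commutator (FreeGroup α)).map (QuotientGroup.mk' (comFR π)) ≤ commutator (HopfGroup π) := by
    rw [_root_.commutator_def, _root_.commutator_def, Subgroup.map_commutator]
    exact Subgroup.commutator_mono le_top le_top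
  exact this ⟨f, hf, rfl⟩

/-- `mult π = ⊥` means `R ∩ F' ≤ [F,R]` -/
theorem mem_comFR_of_mult_eq_bot {α : Type v} {G : Type u} [Group G] (π : FreeGroup α →* G)
    (h : mult π = ⊥) (f : FreeGroup α) (hf1 : f ∈ π.ker) (hf2 : f ∈ commutator (FreeGroup α)) :
    f ∈ comFR π := by
  have h1 : (f : HopfGroup π) ∈ mult π := ⟨hf1, mk_mem_commutator π f hf2⟩
  rw [h, mem_bot] at h1
  exact (QuotientGroup.eq_one_iff _).mp h1

/-- a group with trivial multiplier: `mult π = ⊥` for every finite presentation -/
theorem mult_eq_bot_of_trivial {α : Type w} {G : Type u} [Group G] [Finite G] [Finite α]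
    (π : FreeGroup α →* G) (hπ : Function.Surjective π) (hG : Cfsg.HasCyclicSchurMultiplier G 1) :
    mult π = ⊥ := by
  obtain ⟨e⟩ := nonempty_mulEquiv_mult' π hπ hG
  rw [eq_bot_iff]
  intro x hx
  have : Subsingleton (Multiplicative (ZMod 1)) := by
    have : Subsingleton (ZMod 1) := by change Subsingleton (Fin 1); infer_instance
    exact inferInstanceAs (Subsingleton (ZMod 1))
  have h1 : e.symm ⟨x, hx⟩ = e.symm 1 := Subsingleton.elim _ _
  have h2 := e.symm.injective h1
  rw [mem_bot]
  exact congrArg Subtype.val h2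

/-- a stem extension by a group with trivial multiplier is a Schur cover (kernel ≅ multiplier) -/
theorem nonempty_mulEquiv_ker_of_trivial {Q : Type u} [Group Q] [Finite Q] {Γ : Type v} [Group Γ] [Finite Γ]
    (σ : Γ →* Q) (hσ : Cfsg.IsStemExtension σ) (hΓ : Cfsg.HasCyclicSchurMultiplier Γ 1) :
    Nonempty (↥(mult (stdPres Q)) ≃* ↥σ.ker) := by
  classical
  set π := stdPres Q with hπdef
  have hπ : Function.Surjective π := stdPres_surjective Q
  obtain ⟨φ, hφ⟩ := exists_lift π σ hσ.1 hσ.2.1
  have hφs := lift_surjective_of_stem π hπ σ hσ φ hφ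
  let ψ : FreeGroup Q →* Γ := φ.comp (QuotientGroup.mk' (comFR π))
  have hψs : Function.Surjective ψ := hφs.comp (QuotientGroup.mk'_surjective _)
  have hmult := mult_eq_bot_of_trivial ψ hψs hΓ
  have hσψ : ∀ f, σ (ψ f) = π f := fun f => by
    have : σ (φ (f : HopfGroup π)) = hopfHom π f := by rw [← hφ]; rfl
    exact this
  have hker : ψ.ker ≤ π.ker := by
    intro f hf
    show π f = 1
    rw [← hσψ, show ψ f = 1 from hf, map_one]
  have hcom : comFR ψ ≤ comFR π := Subgroup.commutator_mono le_rfl hker
  have h : (mult π).map φ = σ.ker := by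
    have := map_mult_eq (hopfHom π) (hopfHom_surjective π hπ) σ hσ.2.1 φ hφ
    rw [inf_eq_left.mpr hσ.2.2] at this
    exact this
  have hinj : Function.Injective (φ.subgroupMap (mult π)) := by
    rw [← MonoidHom.ker_eq_bot_iff, eq_bot_iff]
    intro x hx
    have h1 : φ (x : HopfGroup π) = 1 := congrArg Subtype.val (show (φ.subgroupMap (mult π)) x = 1 from hx)
    obtain ⟨f, hf⟩ := QuotientGroup.mk_surjective (x : HopfGroup π)
    have h2 : f ∈ commutator (FreeGroup Q) := mem_commutator_of_mk_mem π f (by rw [hf]; exact x.2.2)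
    have h3 : f ∈ ψ.ker := by
      show φ ((f : HopfGroup π)) = 1
      rw [hf]; exact h1
    have h4 := hcom (mem_comFR_of_mult_eq_bot ψ hmult f h3 h2)
    have h5 : (f : HopfGroup π) = 1 := (QuotientGroup.eq_one_iff _).mpr h4
    rw [mem_bot]
    apply Subtype.ext
    rw [← hf]; exact h5
  exact ⟨(MulEquiv.ofBijective (φ.subgroupMap (mult π)) ⟨hinj, φ.subgroupMap_surjective _⟩).trans
    (MulEquiv.subgroupCongr h)⟩

end Cfsg.Agent.Lib.Helper27.Schur
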