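import Mathlib
import Cfsg.Agent.Lib.Helper11.T23UDefs
import Cfsg.Agent.Lib.Helper11.UTNN1b
import Cfsg.Agent.Lib.Helper23.UTNNG
import Cfsg.Agent.Lib.Helper23.UTG
import Cfsg.Agent.Lib.Helper16.TWUIITorus

/-!
S5801 conjunct (8), market C4U (notes/S5801_C4_leaves.lean), leaf **L1**: `Stab_M(R_x) ≤ KG`
(with **R1** as a hypothesis `hR1`; the leaf itself is `L1_of h (fun x hx0 hx g hg Ξ hZ => R1 h hx0 hx hg hZ) hx0 hx hm hst`).
-/

set_option autoImplicit false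
set_option linter.unusedSectionVars false
set_option linter.unusedVariables false

namespace Cfsg.Agent.Lib.Helper27.C4UL1
open Matrix Module
open Cfsg.Agent.Lib.Helper25.Tens Cfsg.Agent.Lib.Helper25.TensLeaf Cfsg.Agent.Lib.Helper25.TensLeaves
open Cfsg.Agent.Lib.Helper20.UT Cfsg.Agent.Lib.Helper20.UTN Cfsg.Agent.Lib.Helper5.UTG
open Cfsg.Agent.Lib.Helper11.T23U
open scoped Kronecker

variable {F : Type*} [Field F] [Fintype F] {q : ℕ} {M : Subgroup (GL (Idx 2 3) F)}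

/-- a left inverse of `pt x ·` -/
lemma ctA_single_pt {a b : ℕ} {x : Fin a → F} {i₀ : Fin a} (hi : x i₀ ≠ 0) (z : Fin b → F) :
    ctA (Pi.single i₀ (x i₀)⁻¹) (pt x z) = z := by
  rw [ctA_pt, single_dotProduct, inv_mul_cancel₀ hi, one_smul]

/-- the matrix of a stabilising element on the fibre -/
lemma exists_P {a b : ℕ} {x : Fin a → F} (hx0 : x ≠ 0) {m : GL (Idx a b) F}
    (hst : m ∈ StabA (b := b) x) :
    ∃ P : Matrix (Fin b) (Fin b) F, ∀ y, mv m (pt x y) = pt x (P *ᵥ y) := by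
  obtain ⟨i₀, hi⟩ : ∃ i₀, x i₀ ≠ 0 := by
    by_contra hcon
    push Not at hcon
    exact hx0 (funext hcon)
  let ψ : (Fin b → F) →ₗ[F] (Fin b → F) :=
    { toFun := fun y => ctA (Pi.single i₀ (x i₀)⁻¹) (mv m (pt x y))
      map_add' := by
        intro y y'
        rw [pt_add_right, mv_add, ctA_add]
      map_smul' := by
        intro c y
        rw [pt_smul_right, mv_smul, ctA_smul]
        rfl }
  refine ⟨LinearMap.toMatrix' ψ, ?_⟩
  intro y
  rw [LinearMap.toMatrix'_mulVec]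
  obtain ⟨y', hy'⟩ := mem_FibA.mp ((mem_StabA.mp hst (pt x y)).mp (mem_FibA.mpr ⟨y, rfl⟩))
  change mv m (pt x y) = pt x (ctA (Pi.single i₀ (x i₀)⁻¹) (mv m (pt x y)))
  rw [hy', ctA_single_pt hi]

/-- the contraction `c_x` of `m⁻¹ v` for an isometry `m` acting on `x ⊗ B` by `P` -/
lemma ctA_inv_of_iso {a b : ℕ} (hF : Fintype.card F = q ^ 2) {m : GL (Idx a b) F}
    (hm : m ∈ GUI a b q F) {x : Fin a → F} (P : Matrix (Fin b) (Fin b) F)
    (hP : ∀ y, mv m (pt x y) = pt x (P *ᵥ y)) (v : Idx a b → F) :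
    ctA (cj q x) (mv m⁻¹ v) = adjM q P *ᵥ ctA (cj q x) v := by
  apply Cfsg.Agent.Lib.Helper11.UTNLeaf.hv_ext_left hF
  intro y
  rw [← hv_pt_right', ← mem_GUI.1 hm (mv m⁻¹ v) (pt x y), mv_mv_inv, hP, hv_pt_right',
    ← Cfsg.Agent.Lib.Helper11.UTNLeaf.hv_adjM_right hF]

/-- `m (kA x c) m⁻¹ = u_x(c • P P†)` -/
lemma IsZA_conj_kA {a b : ℕ} (hF : Fintype.card F = q ^ 2) {m : GL (Idx a b) F}
    (hm : m ∈ GUI a b q F) {x : Fin a → F} (hx : hv q x x = 0) (P : Matrix (Fin b) (Fin b) F)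
    (hP : ∀ y, mv m (pt x y) = pt x (P *ᵥ y)) (c : F) :
    IsZA q x (m * kA q x c hx * m⁻¹) (c • (P * adjM q P)) := by
  intro v
  rw [mv_mul, mv_mul, Cfsg.Agent.Lib.Helper20.UTLeaf.mv_kA, mv_add, mv_mv_inv, mv_smul, hP,
    ctA_inv_of_iso hF hm P hP, Matrix.smul_mulVec, pt_smul_right, ← Matrix.mulVec_mulVec]

/-- in `F²` the perp of a nonzero isotropic vector is its own line -/
lemma exists_smul_of_perp2 (hF : Fintype.card F = q ^ 2) {x u : Fin 2 → F} (hx0 : x ≠ 0)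
    (hx : hv q x x = 0) (hu : hv q u x = 0) : ∃ t : F, u = t • x := by
  have hq0 : q ≠ 0 := Cfsg.Agent.Lib.Helper11.UTNLeaf.q_ne_zero_of_card hF
  simp only [hv, Fin.sum_univ_two] at hx hu
  have h0 : x 0 ≠ 0 := by
    intro h
    rw [h, zero_pow hq0, mul_zero, zero_add] at hx
    have h1 : x 1 = 0 := by
      rcases mul_eq_zero.mp hx with h1 | h1
      · exact h1
      · exact pow_eq_zero_iff hq0 |>.mp h1
    apply hx0
    ext i; fin_cases i
    · exact h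
    · exact h1
  have h1 : x 1 ≠ 0 := by
    intro h
    rw [h, zero_pow hq0, mul_zero, add_zero] at hx
    rcases mul_eq_zero.mp hx with h2 | h2
    · exact h0 h2
    · exact h0 (pow_eq_zero_iff hq0 |>.mp h2)
  have h1q : x 1 ^ q ≠ 0 := pow_ne_zero _ h1
  refine ⟨u 0 / x 0, ?_⟩
  ext i; fin_cases i
  · simp only [Fin.zero_eta, Pi.smul_apply, smul_eq_mul]
    field_simp
  · simp only [Fin.mk_one, Pi.smul_apply, smul_eq_mul]
    have e1 : x 0 ^ q = -(x 1 * x 1 ^ q) / x 0 := by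
      field_simp
      linear_combination hx
    rw [e1] at hu
    have e2 : (u 1 - u 0 / x 0 * x 1) * x 1 ^ q = 0 := by
      field_simp
      field_simp at hu
      linear_combination hu
    rcases mul_eq_zero.mp e2 with h | h
    · exact sub_eq_zero.mp h
    · exact absurd h h1q

/-- `ker c_x = x ⊗ B` for `a = 2`, `x` isotropic -/
lemma exists_pt_of_ctA_zero {b : ℕ} (hF : Fintype.card F = q ^ 2) {x : Fin 2 → F} (hx0 : x ≠ 0)
    (hx : hv q x x = 0) {w : Idx 2 b → F} (hw : ctA (cj q x) w = 0) :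
    ∃ t : Fin b → F, w = pt x t := by
  have hl : ∀ l : Fin b, ∃ t : F, (fun i => w (i, l)) = t • x := by
    intro l
    apply exists_smul_of_perp2 hF hx0 hx
    have := congrFun hw l
    simpa [ctA, cj, hv] using this
  choose t ht using hl
  refine ⟨t, ?_⟩
  ext ⟨i, l⟩
  have := congrFun (ht l) i
  simp only [Pi.smul_apply, smul_eq_mul] at this
  rw [this, pt]
  ring

/-- an isometry fixing `x ⊗ B` pointwise is some `u_x(Ξ)` (`a = 2`) -/
lemma exists_IsZA_of_fix {b : ℕ} (hF : Fintype.card F = q ^ 2) {x : Fin 2 → F} (hx0 : x ≠ 0)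
    (hx : hv q x x = 0) {n : GL (Idx 2 b) F} (hn : n ∈ GUI 2 b q F)
    (hfix : ∀ y : Fin b → F, mv n (pt x y) = pt x y) :
    ∃ Ξ : Matrix (Fin b) (Fin b) F, IsZA q x n Ξ := by
  obtain ⟨i₀, hi⟩ : ∃ i₀, x i₀ ≠ 0 := by
    by_contra hcon
    push Not at hcon
    exact hx0 (funext hcon)
  obtain ⟨x', hx'x', hx'x, hxx'⟩ := Cfsg.Agent.Lib.Helper23.UTNLeaf.exists_partner hF hx0 hx
  have key1 : ∀ v, ∃ t : Fin b → F, mv n v - v = pt x t := by
    intro v
    apply exists_pt_of_ctA_zero hF hx0 hx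
    apply Cfsg.Agent.Lib.Helper11.UTNLeaf.hv_ext_left hF
    intro y
    rw [← hv_pt_right', hv_sub_left, hv_zero_left]
    nth_rewrite 1 [← hfix y]
    rw [mem_GUI.1 hn, sub_self]
  let ψ : (Idx 2 b → F) →ₗ[F] (Fin b → F) :=
    { toFun := fun v => ctA (Pi.single i₀ (x i₀)⁻¹) (mv n v - v)
      map_add' := by
        intro v w
        rw [mv_add, ← ctA_add]
        congr 1
        abel
      map_smul' := by
        intro c v
        rw [mv_smul, ← smul_sub, ctA_smul]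
        rfl }
  have hψ : ∀ v, mv n v - v = pt x (ψ v) := by
    intro v
    obtain ⟨t, ht⟩ := key1 v
    change mv n v - v = pt x (ctA (Pi.single i₀ (x i₀)⁻¹) (mv n v - v))
    rw [ht, ctA_single_pt hi]
  let φ : (Fin b → F) →ₗ[F] (Fin b → F) := ψ.comp (ptR x')
  refine ⟨LinearMap.toMatrix' φ, ?_⟩
  intro v
  rw [LinearMap.toMatrix'_mulVec]
  have hz : ctA (cj q x) (v - pt x' (ctA (cj q x) v)) = 0 := by
    have : v - pt x' (ctA (cj q x) v) = v + (-1 : F) • pt x' (ctA (cj q x) v) := by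
      rw [neg_one_smul, sub_eq_add_neg]
    rw [this, ctA_add, ctA_smul, ctA_cj_pt, hx'x, one_smul, neg_one_smul, add_neg_cancel]
  obtain ⟨t₀, ht₀⟩ := exists_pt_of_ctA_zero hF hx0 hx hz
  have h0 : ψ (v - pt x' (ctA (cj q x) v)) = 0 := by
    change ctA (Pi.single i₀ (x i₀)⁻¹) (mv n (v - pt x' (ctA (cj q x) v)) - (v - pt x' (ctA (cj q x) v))) = 0
    rw [ht₀, hfix, sub_self]
    ext l; simp [ctA]
  have h1 : ψ v = φ (ctA (cj q x) v) := by
    have : ψ v = ψ (v - pt x' (ctA (cj q x) v)) + ψ (pt x' (ctA (cj q x) v)) := by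
      rw [← map_add, sub_add_cancel]
    rw [this, h0, zero_add]
    rfl
  rw [← h1, ← hψ v]
  abel

/-- `u_x(Ξ)` has determinant one -/
lemma det_eq_one_of_IsZA {a b : ℕ} {x : Fin a → F} (hx : hv q x x = 0) {n : GL (Idx a b) F}
    {Ξ : Matrix (Fin b) (Fin b) F} (hZ : IsZA q x n Ξ) :
    (n : Matrix (Idx a b) (Idx a b) F).det = 1 := by
  obtain ⟨p, hCp⟩ := CharP.exists F
  have := hCp
  have : Fact p.Prime := ⟨CharP.char_is_prime F p⟩
  let N : (Idx a b → F) →ₗ[F] (Idx a b → F) :=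
    { toFun := fun v => pt x (Ξ *ᵥ ctA (cj q x) v)
      map_add' := fun v w => by rw [ctA_add, Matrix.mulVec_add, pt_add_right]
      map_smul' := fun d v => by
        rw [ctA_smul, Matrix.mulVec_smul, pt_smul_right, RingHom.id_apply] }
  have hg : ∀ v, mv n v = v + N v := fun v => hZ v
  have hN : ∀ v, N (N v) = 0 := by
    intro v
    change pt x (Ξ *ᵥ ctA (cj q x) (pt x (Ξ *ᵥ ctA (cj q x) v))) = 0
    rw [ctA_cj_pt, hx, zero_smul, Matrix.mulVec_zero, pt_zero_right]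
  have hnp : n ^ p = 1 := by
    apply ext_mv
    intro v
    rw [Cfsg.Agent.Lib.Helper20.UTLeaf.mv_pow_of_sq_zero _ N hg hN, CharP.cast_eq_zero, zero_smul,
      add_zero, mv_one]
  have hd : ((n : Matrix (Idx a b) (Idx a b) F).det) ^ p = 1 ^ p := by
    rw [one_pow, ← Matrix.det_pow, ← Units.val_pow_eq_pow_val, hnp, Units.val_one, Matrix.det_one]
  exact frobenius_inj F p hd

/-- `u_x(c • 1) = kA x c` -/
lemma eq_kA_of_IsZA {a b : ℕ} {x : Fin a → F} (hx : hv q x x = 0) {n : GL (Idx a b) F} {c : F}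
    (hZ : IsZA q x n (c • (1 : Matrix (Fin b) (Fin b) F))) : n = kA q x c hx := by
  apply ext_mv
  intro v
  rw [hZ v, Cfsg.Agent.Lib.Helper20.UTLeaf.mv_kA, Matrix.smul_mulVec, Matrix.one_mulVec, pt_smul_right]

/-- the torus element `x ↦ l x`, `x' ↦ l^(-q) x'` of `GU_2` for a hyperbolic pair -/
lemma exists_torus2 (hF : Fintype.card F = q ^ 2) {x : Fin 2 → F} (hx0 : x ≠ 0) (hx : hv q x x = 0)
    {l : F} (hl0 : l ≠ 0) :
    ∃ α : GL (Fin 2) F, (∀ u v, hv q (mv α u) (mv α v) = hv q u v) ∧ mv α x = l • x := by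
  have hq0 : q ≠ 0 := Cfsg.Agent.Lib.Helper11.UTNLeaf.q_ne_zero_of_card hF
  obtain ⟨x', hx'x', hx'x, hxx'⟩ := Cfsg.Agent.Lib.Helper23.UTNLeaf.exists_partner hF hx0 hx
  have hlq0 : l ^ q ≠ 0 := pow_ne_zero _ hl0
  have hqq : (l ^ q) ^ q = l := pow_q_pow_q' hF l
  have hone : ((-1 : F)) ^ q = -1 := by rw [neg_pow_q hF, one_pow]
  set s : F := l - 1 with hs
  set r : F := (l ^ q)⁻¹ - 1 with hr
  have hsq : s ^ q = l ^ q - 1 := by
    rw [hs, sub_eq_add_neg, add_pow_q hF, hone, ← sub_eq_add_neg]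
  have hrq : r ^ q = l⁻¹ - 1 := by
    rw [hr, sub_eq_add_neg, add_pow_q hF, hone, inv_pow, hqq, ← sub_eq_add_neg]
  have H1 : r ^ q + s + s * r ^ q = 0 := by
    rw [hrq, hs]
    field_simp
    ring
  have H2 : s ^ q + r + r * s ^ q = 0 := by
    rw [hsq, hr]
    field_simp
    ring
  have H3 : (0 : F) ^ q + 0 + 0 * (0 : F) ^ q * hv q (0 : Fin 2 → F) 0 = 0 := by
    rw [zero_pow hq0]; ring
  have hw0 : hv q (0 : Fin 2 → F) x = 0 := hv_zero_left q x
  have hw0' : hv q (0 : Fin 2 → F) x' = 0 := hv_zero_left q x'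
  have hdet : (Cfsg.Agent.Lib.Helper16.TWUIILeaf.torM q x x' 0 s r 0).det ≠ 0 := by
    rw [Cfsg.Agent.Lib.Helper16.TWUIILeaf.torM_det hF x x' 0 s r 0 hx'x' hxx' hw0 hw0', hs, hr]
    simp only [zero_mul, add_zero, mul_one]
    have : (1 : F) + (l - 1) = l := by ring
    have h2 : (1 : F) + ((l ^ q)⁻¹ - 1) = (l ^ q)⁻¹ := by ring
    rw [this, h2]
    exact mul_ne_zero hl0 (inv_ne_zero hlq0)
  refine ⟨Matrix.GeneralLinearGroup.mkOfDetNeZero _ hdet, ?_, ?_⟩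
  · intro u v
    exact Cfsg.Agent.Lib.Helper16.TWUIILeaf.torM_isom hF x x' 0 s r 0 hx hx'x' hxx' hw0 hw0' H1 H2 H3 u v
  · change Cfsg.Agent.Lib.Helper16.TWUIILeaf.torM q x x' 0 s r 0 *ᵥ x = l • x
    rw [Cfsg.Agent.Lib.Helper16.TWUIILeaf.torM_mulVec, hxx', hx, hs]
    simp only [mul_one, mul_zero, zero_smul, add_zero, smul_zero]
    rw [sub_smul, one_smul]
    abel

/-- **L1** (with **R1** as a hypothesis): `Stab_M(R_x) ≤ KG`. -/
theorem L1_of (h : MC q M)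
    (hR1 : ∀ x : Fin 2 → F, x ≠ 0 → hv q x x = 0 → ∀ g : GL (Idx 2 3) F, g ∈ M →
      ∀ Ξ : Matrix (Fin 3) (Fin 3) F, IsZA q x g Ξ → IsScalarMat Ξ)
    {x : Fin 2 → F} (hx0 : x ≠ 0) (hx : hv q x x = 0) {m : GL (Idx 2 3) F} (hm : m ∈ M)
    (hst : m ∈ StabA (b := 3) x) : m ∈ KG 2 3 F := by
  have hF := h.hF
  have hq0 : q ≠ 0 := Cfsg.Agent.Lib.Helper11.UTNLeaf.q_ne_zero_of_card hF
  have hmG : m ∈ GUI 2 3 q F := (h.le_G hm).1
  have hmdet : (m : Matrix (Idx 2 3) (Idx 2 3) F).det = 1 := (mem_SLG_iff _).1 (h.le_G hm).2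
  obtain ⟨P, hP⟩ := exists_P hx0 hst
  obtain ⟨c₀, hc₀0, hc₀⟩ := Cfsg.Agent.Lib.Helper23.UTLeaf.exists_skew (q := q) hF
  have hkA : (kA q x c₀ hx : GL (Idx 2 3) F) ∈ M :=
    h.le ⟨kA_mem_KG q x c₀ hx, Cfsg.Agent.Lib.Helper20.UTLeaf.kA_mem_GS hF x hc₀ hx⟩
  have hconj : m * kA q x c₀ hx * m⁻¹ ∈ M := M.mul_mem (M.mul_mem hm hkA) (M.inv_mem hm)
  obtain ⟨s, hs⟩ := hR1 x hx0 hx _ hconj _ (IsZA_conj_kA hF hmG hx P hP c₀)
  obtain ⟨ν, hν⟩ : ∃ ν : F, ν = c₀⁻¹ * s := ⟨_, rfl⟩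
  have hPP : P * adjM q P = ν • (1 : Matrix (Fin 3) (Fin 3) F) := by
    have : c₀⁻¹ • (c₀ • (P * adjM q P)) = c₀⁻¹ • (s • (1 : Matrix (Fin 3) (Fin 3) F)) := by rw [hs]
    rwa [smul_smul, inv_mul_cancel₀ hc₀0, one_smul, smul_smul, ← hν] at this
  -- `P` is injective, hence a unit
  have hPinj : Function.Injective P.mulVec := by
    intro y y' hyy
    have h1 : mv m (pt x y) = mv m (pt x y') := by rw [hP, hP, hyy]
    have h2 := mv_injective m h1
    have h3 : pt x (y - y') = 0 := by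
      have : pt x (y - y') = pt x y + (-1 : F) • pt x y' := by
        rw [← pt_smul_right, ← pt_add_right]; congr 1; rw [neg_one_smul, sub_eq_add_neg]
      rw [this, h2, neg_one_smul, add_neg_cancel]
    rcases (pt_eq_zero_iff x (y - y')).mp h3 with h4 | h4
    · exact absurd h4 hx0
    · exact sub_eq_zero.mp h4
  have hPu : IsUnit P := Matrix.mulVec_injective_iff_isUnit.mp hPinj
  have hν0 : ν ≠ 0 := by
    intro h0
    rw [h0, zero_smul] at hPP
    have h1 : adjM q P = 0 := by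
      have hinv : ((hPu.unit⁻¹ : (Matrix (Fin 3) (Fin 3) F)ˣ) : Matrix (Fin 3) (Fin 3) F) * P = 1 := by
        have := Units.inv_mul hPu.unit
        rwa [IsUnit.unit_spec] at this
      calc adjM q P = (((hPu.unit⁻¹ : (Matrix (Fin 3) (Fin 3) F)ˣ) : Matrix (Fin 3) (Fin 3) F) * P) *
            adjM q P := by rw [hinv, one_mul]
        _ = 0 := by rw [mul_assoc, hPP, mul_zero]
    have h2 : P = 0 := by
      ext i j
      have := congrFun (congrFun h1 j) i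
      rw [adjM_apply] at this
      simpa using pow_eq_zero_iff hq0 |>.mp this
    rw [h2] at hPu
    exact not_isUnit_zero hPu
  have hAP : adjM q P * P = ν • (1 : Matrix (Fin 3) (Fin 3) F) := by
    have h1 : P * (ν⁻¹ • adjM q P) = 1 := by
      rw [Matrix.mul_smul, hPP, smul_smul, inv_mul_cancel₀ hν0, one_smul]
    have h2 := mul_eq_one_comm.mp h1
    rw [Matrix.smul_mul] at h2
    have : ν • (ν⁻¹ • (adjM q P * P)) = ν • (1 : Matrix (Fin 3) (Fin 3) F) := by rw [h2]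
    rwa [smul_smul, mul_inv_cancel₀ hν0, one_smul] at this
  -- `ν` is fixed by the Frobenius
  have hsim : ∀ u v : Fin 3 → F, hv q (P *ᵥ u) (P *ᵥ v) = ν ^ q * hv q u v := by
    intro u v
    rw [hv_adjM hF, Matrix.mulVec_mulVec, hAP, Matrix.smul_mulVec, Matrix.one_mulVec, hv_smul_right]
  have hsim' : ∀ u v : Fin 3 → F, hv q (P *ᵥ u) (P *ᵥ v) = ν * hv q u v := by
    intro u v
    rw [Cfsg.Agent.Lib.Helper11.UTNLeaf.hv_adjM_right hF, Matrix.mulVec_mulVec, hAP, Matrix.smul_mulVec,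
      Matrix.one_mulVec, hv_smul_left]
  have hνq : ν ^ q = ν := by
    have h1 := hsim (Pi.single 0 1) (Pi.single 0 1)
    rw [hsim', Cfsg.Agent.Lib.Helper11.UTNLeaf.hv_single_right_one hF, Pi.single_eq_same, mul_one, mul_one] at h1
    exact h1.symm
  -- `ν = l^(q+1)`
  have hf := hv_unitary (n := 3) hF
  obtain ⟨l, hl⟩ := Cfsg.Agent.Lib.Helper5.UForm.norm_surj hf.involutive hf.ne_refl ν hν0
    (by rw [Cfsg.Agent.Lib.Helper5.HermBridge.frobQ_apply]; exact hνq)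
  rw [Cfsg.Agent.Lib.Helper5.HermBridge.frobQ_apply] at hl
  have hl0 : l ≠ 0 := by
    rintro rfl
    rw [zero_mul] at hl
    exact hν0 hl.symm
  obtain ⟨α, hα, hαx⟩ := exists_torus2 hF hx0 hx hl0
  -- `β = l⁻¹ P`
  have hβdet : (l⁻¹ • P).det ≠ 0 := by
    rw [Matrix.det_smul]
    apply mul_ne_zero (pow_ne_zero _ (inv_ne_zero hl0))
    exact (Matrix.isUnit_iff_isUnit_det P).mp hPu |>.ne_zero
  obtain ⟨β, hβ⟩ : ∃ β : GL (Fin 3) F, (β : Matrix (Fin 3) (Fin 3) F) = l⁻¹ • P :=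
    ⟨Matrix.GeneralLinearGroup.mkOfDetNeZero _ hβdet, rfl⟩
  have hβmv : ∀ u, mv β u = l⁻¹ • (P *ᵥ u) := by
    intro u
    unfold mv
    rw [hβ, Matrix.smul_mulVec]
  have hβiso : ∀ u v, hv q (mv β u) (mv β v) = hv q u v := by
    intro u v
    rw [hβmv, hβmv, hv_smul_left, hv_smul_right, hsim', inv_pow, ← hl]
    field_simp
  have hkG : kel α β ∈ GUI 2 3 q F := Cfsg.Agent.Lib.Helper23.UTNLeaf.kel_mem_GUI hF α β hα hβiso
  have hkpt : ∀ y, mv (kel α β : GL (Idx 2 3) F) (pt x y) = pt x (P *ᵥ y) := by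
    intro y
    have := kel_mulVec_pt α β x y
    unfold mv at hαx hβmv ⊢
    rw [this, hαx, hβmv, pt_smul_left, pt_smul_right, smul_smul, mul_inv_cancel₀ hl0, one_smul]
  -- `n = k⁻¹ m` fixes `x ⊗ B` pointwise
  have hnG : (kel α β)⁻¹ * m ∈ GUI 2 3 q F := (GUI 2 3 q F).mul_mem ((GUI 2 3 q F).inv_mem hkG) hmG
  have hnfix : ∀ y : Fin 3 → F, mv ((kel α β)⁻¹ * m) (pt x y) = pt x y := by
    intro y
    rw [mv_mul, hP, ← hkpt, mv_inv_mv]
  obtain ⟨Ξ, hZ⟩ := exists_IsZA_of_fix hF hx0 hx hnG hnfix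
  have hndet := det_eq_one_of_IsZA hx hZ
  have hkdet : ((kel α β : GL (Idx 2 3) F) : Matrix (Idx 2 3) (Idx 2 3) F).det = 1 := by
    have h1 : (kel α β : GL (Idx 2 3) F) * ((kel α β)⁻¹ * m) = m := by
      rw [← mul_assoc, mul_inv_cancel, one_mul]
    have h2 := congrArg (fun g : GL (Idx 2 3) F => (g : Matrix (Idx 2 3) (Idx 2 3) F).det) h1
    simp only [Units.val_mul, Matrix.det_mul] at h2
    rw [Units.val_mul, Matrix.det_mul] at hndet
    rw [hndet, mul_one, hmdet] at h2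
    exact h2
  have hkM : kel α β ∈ M := h.le ⟨kel_mem_KG α β, hkG, (mem_SLG_iff _).2 hkdet⟩
  have hnM : (kel α β)⁻¹ * m ∈ M := M.mul_mem (M.inv_mem hkM) hm
  obtain ⟨c', hc'⟩ := hR1 x hx0 hx _ hnM _ hZ
  rw [hc'] at hZ
  have hn := eq_kA_of_IsZA hx hZ
  have hm' : m = kel α β * kA q x c' hx := by
    rw [← hn, ← mul_assoc, mul_inv_cancel, one_mul]
  rw [hm']
  exact (KG 2 3 F).mul_mem (kel_mem_KG α β) (kA_mem_KG q x c' hx)

end Cfsg.Agent.Lib.Helper27.C4UL1
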