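import Mathlib
import Cfsg.Prelude.Def_ClassicalGeometry
import Cfsg.Prelude.Def_GeometricClasses
import Cfsg.Agent.Lib.Helper5.NDMax
import Cfsg.Agent.Lib.Helper25.OmegaNonMax
import Cfsg.Agent.Lib.Helper1.C3ODefs
import Cfsg.Agent.Lib.Helper1.C3OCalc

/-!
helper27: S5700 leaves CP (`core_P`), CL (`core_line`), CG (`core_good`) in core form: the leaves F4, G3, G4, G5
enter as explicit hypotheses (statement defs below unfold to the leaf statements).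
-/

set_option autoImplicit false
set_option linter.unusedSectionVars false
set_option linter.unusedVariables false

namespace Cfsg.Agent.Lib.Helper27.C3OCore
open Module QuadraticMap Matrix Cfsg.Agent.Lib.Helper25.CD Cfsg.Agent.Lib.Helper25.Spin
  Cfsg.Agent.Lib.Helper25.Fam Cfsg.Agent.Lib.Helper25.Siegel
  Cfsg.Agent.Lib.Helper25.PS Cfsg.Agent.Lib.Helper25.OGeom Cfsg.Agent.Lib.Helper15
  Cfsg.Agent.Lib.Helper5.TSMax Cfsg.Agent.Lib.Helper5.NSMax Cfsg.Agent.Lib.Helper5.PairMax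
  Cfsg.Agent.Lib.Helper5.NDMax Cfsg.Agent.Lib.Helper1.C3O

variable {ι : Type} [Fintype ι] [DecidableEq ι] {F : Type*} [Field F] [Fintype F]
  {Q : QuadraticForm F (ι → F)}

/-- statement of leaf F4 -/
def F4Stmt (Q : QuadraticForm F (ι → F)) : Prop :=
  ∀ {M : Subgroup ↥(Cfsg.isometryGroup F ⇑Q)} {u u' y y' : ι → F}, Q u = 0 → Q u' = 0 →
    polar Q u u' = 0 → InA Q M u y → InA Q M u' y' → polar Q u y = 0 → polar Q u' y' = 0 →
    polar Q y u' = 0 → polar Q y' u = 0 → polar Q y y' ≠ 0 → InA Q M u u'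

/-- statement of leaf G3 -/
def G3Stmt (Q : QuadraticForm F (ι → F)) : Prop :=
  ∀ (l : List (ι → F)), l.length ≤ 3 → ∀ (N : Submodule F (ι → F)),
    (∃ x₀ : ι → F, (∀ y ∈ l, polar Q y x₀ = 0) ∧ x₀ ∉ N) → ∀ {x : ι → F},
    (∀ y ∈ l, polar Q y x = 0) →
    x ∈ Submodule.span F {s : ι → F | Q s = 0 ∧ (∀ y ∈ l, polar Q y s = 0) ∧ s ∉ N}

/-- statement of leaf G4 -/
def G4Stmt (Q : QuadraticForm F (ι → F)) : Prop :=
  ∀ (l : List (ι → F)) {z : ι → F}, z ∉ Submodule.span F {y : ι → F | y ∈ l} →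
    ∃ p : ι → F, (∀ y ∈ l, polar Q y p = 0) ∧ polar Q z p ≠ 0

/-- statement of leaf G5 -/
def G5Stmt (Q : QuadraticForm F (ι → F)) : Prop :=
  ∀ (l : List (ι → F)) (N : Submodule F (ι → F)), finrank F N + l.length < Fintype.card ι →
    ∃ x : ι → F, (∀ y ∈ l, polar Q y x = 0) ∧ x ∉ N

theorem list3_eq (a b c : ι → F) : {y : ι → F | y ∈ [a, b, c]} = ({a, b, c} : Set (ι → F)) := by
  ext y
  simp

theorem list2_eq (a b : ι → F) : {y : ι → F | y ∈ [a, b]} = ({a, b} : Set (ι → F)) := by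
  ext y
  simp

theorem list_cons_eq (a : ι → F) (r : List (ι → F)) :
    {y : ι → F | y ∈ a :: r} = insert a {y : ι → F | y ∈ r} := by
  ext y
  simp

/-- CP (core): `⟨u, Ju, J'u⟩^⊥` lies in the root module of `u` -/
theorem core_P_of (f4 : F4Stmt Q) (g3 : G3Stmt Q) (g4 : G4Stmt Q) {t ν : F}
    {J J' : Matrix ι ι F} (hJ : CS Q t ν J) (hJ' : CS Q t ν J')
    {M : Subgroup ↥(Cfsg.isometryGroup F ⇑Q)} (hA : Adm Q M J) (hA' : Adm Q M J') {u : ι → F}
    (hu : Q u = 0) (hnot : ¬ KL J u (J' *ᵥ u)) {x : ι → F}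
    (hx : ∀ y ∈ [u, J *ᵥ u, J' *ᵥ u], polar Q y x = 0) : InA Q M u x := by
  obtain ⟨z, hz⟩ : ∃ z, z = J *ᵥ (J' *ᵥ u) := ⟨_, rfl⟩
  have hzn : z ∉ Submodule.span F {y : ι → F | y ∈ [u, J *ᵥ u, J' *ᵥ u]} := by
    rw [list3_eq, Submodule.mem_span_triple]
    rintro ⟨α, β, γ, e⟩
    apply hnot
    apply hJ.KL_of_resolvent γ
    refine ⟨α, β, ?_⟩
    rw [← hz, ← e]
    module
  obtain ⟨x₀, hx₀, hzx₀⟩ := g4 [u, J *ᵥ u, J' *ᵥ u] hzn
  obtain ⟨N, hN⟩ : ∃ N : Submodule F (ι → F), N = LinearMap.ker (polarBilin Q z) := ⟨_, rfl⟩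
  have hmemN : ∀ s, s ∈ N ↔ polar Q z s = 0 := by
    intro s
    rw [hN, LinearMap.mem_ker, polarBilin_apply_apply]
  have hspan := g3 [u, J *ᵥ u, J' *ᵥ u] (by simp) N
    ⟨x₀, hx₀, fun h => hzx₀ ((hmemN _).1 h)⟩ hx
  have hle : Submodule.span F {s : ι → F | Q s = 0 ∧
      (∀ y ∈ [u, J *ᵥ u, J' *ᵥ u], polar Q y s = 0) ∧ s ∉ N} ≤ AS M u hu := by
    rw [Submodule.span_le]
    rintro s ⟨hQs, hls, hsN⟩
    have hus : polar Q u s = 0 := hls u (by simp)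
    have hJus : polar Q (J *ᵥ u) s = 0 := hls _ (by simp)
    have hJ'us : polar Q (J' *ᵥ u) s = 0 := hls _ (by simp)
    refine ⟨hus, ?_⟩
    refine f4 hu hQs hus (hA' u hu) (hA s hQs) ?_ ?_ hJ'us ?_ ?_
    · rw [hJ'.pself, hu, mul_zero]
    · rw [hJ.pself, hQs, mul_zero]
    · rw [hJ.adj, polar_comm Q s u, hus, polar_comm Q s (J *ᵥ u), hJus]
      simp
    · rw [hJ.polar_right, hJ'us, ← hz]
      intro h0
      apply hsN
      rw [hmemN]
      simpa using h0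
  exact (hle hspan).2

/-- CL (core) -/
theorem core_line_of (f4 : F4Stmt Q) (g3 : G3Stmt Q) (g4 : G4Stmt Q) (g5 : G5Stmt Q)
    (hn : 13 ≤ Fintype.card ι) {t ν : F}
    {J₁ : Matrix ι ι F} (hJ₁ : CS Q t ν J₁) {M : Subgroup ↥(Cfsg.isometryGroup F ⇑Q)}
    (hA : Adm Q M J₁) {u : ι → F} (hu : Q u = 0) (r : List (ι → F)) (hr : r.length ≤ 3)
    (hur : u ∈ r) (hJur : J₁ *ᵥ u ∈ r)
    (hP : ∀ x : ι → F, (∀ y ∈ r, polar Q y x = 0) → InA Q M u x) {x : ι → F}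
    (h1 : polar Q u x = 0) (h2 : polar Q (J₁ *ᵥ u) x = 0) : InA Q M u x := by
  classical
  obtain ⟨R, hR⟩ : ∃ R : Submodule F (ι → F), R = Submodule.span F {y : ι → F | y ∈ r} :=
    ⟨_, rfl⟩
  obtain ⟨N, hN⟩ : ∃ N : Submodule F (ι → F), N = R ⊔ R.map (Matrix.mulVecLin J₁) := ⟨_, rfl⟩
  have hRfin : finrank F R ≤ 3 := by
    have e : {y : ι → F | y ∈ r} = ((r.toFinset : Finset (ι → F)) : Set (ι → F)) := by
      ext y
      simp
    rw [hR, e]
    exact (finrank_span_finset_le_card (R := F) r.toFinset).trans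
      ((List.toFinset_card_le r).trans hr)
  have hNfin : finrank F N ≤ 6 := by
    rw [hN]
    have h3 := Submodule.finrank_add_le_finrank_add_finrank R (R.map (Matrix.mulVecLin J₁))
    have h4 := Submodule.finrank_map_le (Matrix.mulVecLin J₁) R
    omega
  obtain ⟨x₀, hx₀, hx₀N⟩ := g5 [u, J₁ *ᵥ u] N (by simp only [List.length_cons, List.length_nil]; omega)
  have hspan := g3 [u, J₁ *ᵥ u] (by simp) N ⟨x₀, hx₀, hx₀N⟩ (x := x) (by
    intro y hy
    simp only [List.mem_cons, List.not_mem_nil, or_false] at hy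
    rcases hy with rfl | rfl
    · exact h1
    · exact h2)
  have hle : Submodule.span F {s : ι → F | Q s = 0 ∧
      (∀ y ∈ [u, J₁ *ᵥ u], polar Q y s = 0) ∧ s ∉ N} ≤ AS M u hu := by
    rw [Submodule.span_le]
    rintro s ⟨hQs, hls, hsN⟩
    have hus : polar Q u s = 0 := hls u (by simp)
    have hJus : polar Q (J₁ *ᵥ u) s = 0 := hls _ (by simp)
    refine ⟨hus, ?_⟩
    have hzn : J₁ *ᵥ s ∉ Submodule.span F {y : ι → F | y ∈ s :: r} := by
      rw [list_cons_eq, Submodule.mem_span_insert]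
      rintro ⟨γ, l₀, hl₀, e⟩
      rw [← hR] at hl₀
      apply hsN
      have h5 := hJ₁.resolvent γ s
      have e' : J₁ *ᵥ s - γ • s = l₀ := by rw [e]; module
      rw [e'] at h5
      have h6 : (γ * γ - t * γ + ν) • s ∈ N := by
        rw [← h5, hN]
        apply Submodule.sub_mem
        · exact Submodule.mem_sup_left (R.smul_mem _ hl₀)
        · apply Submodule.mem_sup_right
          exact Submodule.mem_map.2 ⟨l₀, hl₀, rfl⟩
      have h7 := N.smul_mem (γ * γ - t * γ + ν)⁻¹ h6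
      rwa [smul_smul, inv_mul_cancel₀ (hJ₁.irr γ), one_smul] at h7
    obtain ⟨z, hzl, hzJ⟩ := g4 (s :: r) hzn
    have hzr : ∀ y ∈ r, polar Q y z = 0 := fun y hy => hzl y (List.mem_cons_of_mem _ hy)
    have hsz : polar Q s z = 0 := hzl s (by simp)
    refine f4 hu hQs hus (hP z hzr) (hA s hQs) (hzr u hur) ?_ ?_ ?_ ?_
    · rw [hJ₁.pself, hQs, mul_zero]
    · rw [polar_comm]; exact hsz
    · rw [hJ₁.adj, polar_comm Q s u, hus, polar_comm Q s (J₁ *ᵥ u), hJus]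
      simp
    · rw [polar_comm]; exact hzJ
  exact (hle hspan).2

/-- CG (core) -/
theorem core_good_of (f4 : F4Stmt Q) (g3 : G3Stmt Q) (g4 : G4Stmt Q) (g5 : G5Stmt Q)
    (hn : 13 ≤ Fintype.card ι) {t ν : F}
    {J J' : Matrix ι ι F} (hJ : CS Q t ν J) (hJ' : CS Q t ν J')
    {M : Subgroup ↥(Cfsg.isometryGroup F ⇑Q)} (hA : Adm Q M J) (hA' : Adm Q M J') {u : ι → F}
    (hu0 : u ≠ 0) (hu : Q u = 0) (hnot : ¬ KL J u (J' *ᵥ u)) : Good Q M (mk' Q u hu0 hu) := by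
  have hP : ∀ x : ι → F, (∀ y ∈ [u, J *ᵥ u, J' *ᵥ u], polar Q y x = 0) → InA Q M u x :=
    fun x hx => core_P_of f4 g3 g4 hJ hJ' hA hA' hu hnot hx
  have L : ∀ x : ι → F, polar Q u x = 0 → polar Q (J *ᵥ u) x = 0 → InA Q M u x :=
    fun x h1 h2 => core_line_of f4 g3 g4 g5 hn hJ hA hu [u, J *ᵥ u, J' *ᵥ u] (by simp) (by simp)
      (by simp) hP h1 h2
  have L' : ∀ x : ι → F, polar Q u x = 0 → polar Q (J' *ᵥ u) x = 0 → InA Q M u x :=
    fun x h1 h2 => core_line_of f4 g3 g4 g5 hn hJ' hA' hu [u, J *ᵥ u, J' *ᵥ u] (by simp) (by simp)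
      (by simp) hP h1 h2
  have hzn : J *ᵥ u ∉ Submodule.span F {y : ι → F | y ∈ [u, J' *ᵥ u]} := by
    rw [list2_eq, Submodule.mem_span_pair]
    rintro ⟨α, β, e⟩
    by_cases hβ : β = 0
    · subst hβ
      rw [zero_smul, add_zero] at e
      have h0 := hJ.comb_eq_zero hu0 (s := α) (r := -1) (by rw [e]; module)
      exact one_ne_zero (neg_eq_zero.1 h0.2)
    · apply hnot
      refine ⟨-(β⁻¹ * α), β⁻¹, ?_⟩
      rw [← e, smul_add, smul_smul, smul_smul, inv_mul_cancel₀ hβ]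
      module
  obtain ⟨w, hwl, hwJ⟩ := g4 [u, J' *ᵥ u] hzn
  have huw : polar Q u w = 0 := hwl u (by simp)
  have hJ'uw : polar Q (J' *ᵥ u) w = 0 := hwl _ (by simp)
  apply good_of_all hu0 hu
  intro v huv
  obtain ⟨c, hc⟩ : ∃ c, c = polar Q (J *ᵥ u) v / polar Q (J *ᵥ u) w := ⟨_, rfl⟩
  have e : v = (v - c • w) + c • w := by module
  have h1 : polar Q u (v - c • w) = 0 := by
    rw [polar_sub_right, polar_smul_right, huv, huw]; simp
  have h2 : polar Q (J *ᵥ u) (v - c • w) = 0 := by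
    rw [polar_sub_right, polar_smul_right, hc, smul_eq_mul, div_mul_cancel₀ _ hwJ, sub_self]
  have h3 : polar Q u (c • w) = 0 := by rw [polar_smul_right, huw, smul_zero]
  rw [e]
  exact InA.add hu h1 h3 (L _ h1 h2) ((L' w huw hJ'uw).smul c)

end Cfsg.Agent.Lib.Helper27.C3OCore
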