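import Mathlib
import Cfsg.Agent.Lib.Helper20.AschDefs

set_option autoImplicit false
set_option linter.unusedSectionVars false
set_option linter.unusedVariables false

namespace Cfsg.Agent.Lib.Helper27.AschLeaf
open Matrix Cfsg.Geo Cfsg.Agent.Lib.Helper20.Asch
open scoped Kronecker

variable {F : Type*} [Field F] [Fintype F] {n : ℕ} {H N : Subgroup (GL (Fin n) F)}

/-- pairs as functions on `Fin 2` -/
def pairEquiv (m : ℕ) : Fin m × Fin m ≃ (Fin 2 → Fin m) := (piFinTwoEquiv (fun _ => Fin m)).symm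

lemma glReindex_apply' {κ ι : Type} [Fintype κ] [DecidableEq κ] [Fintype ι] [DecidableEq ι]
    (ε : κ ≃ ι) (g : GL κ F) (i j : ι) :
    ((glReindex ε g : GL ι F) : Matrix ι ι F) i j = (g : Matrix κ κ F) (ε.symm i) (ε.symm j) := rfl

/-- TW2: two equal factors: the tensor product subgroup lies in a tensor wreath subgroup with `t = 2`. -/
theorem tensorProductSubgroup_le_wreath {m : ℕ} (e : Fin n ≃ Fin m × Fin m) (P : GL (Fin n) F) :
    ∃ e' : Fin n ≃ (Fin 2 → Fin m), tensorProductSubgroup m m e P ≤ tensorWreathSubgroup m 2 e' P := by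
  refine ⟨e.trans (pairEquiv m), ?_⟩
  unfold tensorProductSubgroup tensorWreathSubgroup
  apply Subgroup.map_mono
  rintro _ ⟨g₁, ⟨a, b, hab⟩, rfl⟩
  refine ⟨glReindex (pairEquiv m) g₁, ?_, ?_⟩
  · apply Subgroup.subset_closure
    left
    refine ⟨![a, b], fun x y => ?_⟩
    rw [glReindex_apply', hab, Fin.prod_univ_two]
    rfl
  · apply Units.ext
    ext i j
    rfl

end Cfsg.Agent.Lib.Helper27.AschLeaf
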