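import Cfsg.Agent.S5290
set_option autoImplicit false

/-!
Weakly normal subsystems: transport of subgroups normal in the subsystem under `Aut_F(T)`, and
`O_p(E) ⊴ F` for `E` weakly normal in `F`. (helper27's library, on top of helper26's)
-/

namespace Cfsg.Agent.Lib.Helper27

open Cfsg Cfsg.FusionSystem Cfsg.Agent.Lib.Helper26

variable {Ω : Type*} [Group Ω] {S T : Subgroup Ω}

/-- The image of `P ∩ T` under an automorphism of `T`. -/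
abbrev img (α : MulAut T) (P : Subgroup Ω) : Subgroup Ω :=
  (P.subgroupOf T).map (T.subtype.comp α.toMonoidHom)

theorem mem_img {α : MulAut T} {P : Subgroup Ω} {y : Ω} :
    y ∈ img α P ↔ ∃ x : T, (x : Ω) ∈ P ∧ ((α x : T) : Ω) = y := by
  constructor
  · rintro ⟨x, hx, rfl⟩
    exact ⟨x, hx, rfl⟩
  · rintro ⟨x, hx, rfl⟩
    exact ⟨x, hx, rfl⟩

theorem img_le (α : MulAut T) (P : Subgroup Ω) : img α P ≤ T := by
  rintro _ ⟨x, -, rfl⟩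
  exact (α x).2

theorem apply_mem_img (α : MulAut T) {P : Subgroup Ω} (x : T) (hx : (x : Ω) ∈ P) :
    ((α x : T) : Ω) ∈ img α P := ⟨x, hx, rfl⟩

theorem img_mono (α : MulAut T) {P Q : Subgroup Ω} (h : P ≤ Q) : img α P ≤ img α Q := by
  intro y hy
  obtain ⟨x, hx, rfl⟩ := mem_img.mp hy
  exact apply_mem_img α x (h hx)

theorem img_img_inv (α : MulAut T) {P : Subgroup Ω} (hP : P ≤ T) : img α (img α⁻¹ P) = P := by
  ext y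
  rw [mem_img]
  constructor
  · rintro ⟨x, hx, rfl⟩
    obtain ⟨w, hw, hwx⟩ := mem_img.mp hx
    have e : α⁻¹ w = x := Subtype.ext hwx
    rw [← e]
    simpa using hw
  · intro hy
    refine ⟨α⁻¹ ⟨y, hP hy⟩, apply_mem_img _ _ hy, ?_⟩
    simp

/-- Transport of normality: if `E` is invariant under `Aut_F(T)` and `R ⊴ E` then `α(R) ⊴ E`. -/
theorem isNormal_img (E : FusionSystem T) (F : FusionSystem S)
    (hinv : ∀ (P : Subgroup Ω) (hPT : P ≤ T) (φ : P →* Ω), φ ∈ E.Hom P → ∀ α ∈ F.autGroup T,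
      ∃ χ ∈ E.Hom ((P.subgroupOf T).map (T.subtype.comp α.toMonoidHom)),
        ∀ (x : P) (hφx : φ x ∈ T)
          (hαx : ((α ⟨x, hPT x.2⟩ : T) : Ω) ∈ (P.subgroupOf T).map (T.subtype.comp α.toMonoidHom)),
          χ ⟨(α ⟨x, hPT x.2⟩ : T), hαx⟩ = ((α ⟨φ x, hφx⟩ : T) : Ω))
    {α : MulAut T} (hα : α ∈ F.autGroup T) {R : Subgroup Ω} (hR : E.IsNormal R) :
    E.IsNormal (img α R) := by
  refine ⟨img_le α R, fun P ψ hψ => ?_⟩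
  have hPT : P ≤ T := (E.le_of_mem hψ).1
  have hψT : ∀ x : P, ψ x ∈ T := (E.le_of_mem hψ).2
  have hβ : α⁻¹ ∈ F.autGroup T := inv_mem hα
  obtain ⟨χ₁, hχ₁, hχ₁'⟩ := hinv P hPT ψ hψ α⁻¹ hβ
  obtain ⟨ψ₂, hψ₂, hψ₂χ, hψ₂R⟩ := hR.2 _ χ₁ hχ₁
  have hP₂T : img α⁻¹ P ⊔ R ≤ T := sup_le (img_le _ _) hR.1
  have hψ₂T : ∀ y, ψ₂ y ∈ T := (E.le_of_mem hψ₂).2
  obtain ⟨hψ₂R1, hψ₂R2⟩ := (map_subgroupOf_eq_iff ψ₂).mp hψ₂R
  obtain ⟨χ₃, hχ₃, hχ₃'⟩ := hinv _ hP₂T ψ₂ hψ₂ α hα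
  have hle : P ⊔ img α R ≤ img α (img α⁻¹ P ⊔ R) := by
    apply sup_le
    · intro x hx
      refine mem_img.mpr ⟨α⁻¹ ⟨x, hPT hx⟩, ?_, ?_⟩
      · exact Subgroup.mem_sup_left (apply_mem_img _ ⟨x, hPT hx⟩ hx)
      · simp
    · intro y hy
      obtain ⟨x, hx, rfl⟩ := mem_img.mp hy
      exact mem_img.mpr ⟨x, Subgroup.mem_sup_right hx, rfl⟩
  have key : ∀ a b : ↥(img α (img α⁻¹ P ⊔ R)), (a : Ω) = b → χ₃ a = χ₃ b := fun a b h => by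
    rw [Subtype.ext h]
  -- the basic formula for χ₃
  have hχ₃'' : ∀ (y : T) (hy : (y : Ω) ∈ img α⁻¹ P ⊔ R) (h' : ((α y : T) : Ω) ∈ img α (img α⁻¹ P ⊔ R)),
      χ₃ ⟨(α y : T), h'⟩ = ((α ⟨ψ₂ ⟨y, hy⟩, hψ₂T _⟩ : T) : Ω) := by
    intro y hy h'
    exact hχ₃' ⟨y, hy⟩ (hψ₂T _) h'
  refine ⟨χ₃.comp (Subgroup.inclusion hle), inclusion_comp_mem E hle hχ₃, fun x => ?_, ?_⟩
  · have hyP : ((α⁻¹ ⟨x, hPT x.2⟩ : T) : Ω) ∈ img α⁻¹ P := apply_mem_img _ ⟨(x : Ω), hPT x.2⟩ x.2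
    have hyP₂ : ((α⁻¹ ⟨x, hPT x.2⟩ : T) : Ω) ∈ img α⁻¹ P ⊔ R := Subgroup.mem_sup_left hyP
    have hαy : α (α⁻¹ ⟨x, hPT x.2⟩) = ⟨x, hPT x.2⟩ := by simp
    have h3 := hχ₃'' (α⁻¹ ⟨x, hPT x.2⟩) hyP₂ (apply_mem_img _ _ hyP₂)
    have h2 : ψ₂ ⟨(α⁻¹ ⟨x, hPT x.2⟩ : T), hyP₂⟩ = χ₁ ⟨(α⁻¹ ⟨x, hPT x.2⟩ : T), hyP⟩ := hψ₂χ ⟨_, hyP⟩
    have h1 : χ₁ ⟨(α⁻¹ ⟨x, hPT x.2⟩ : T), hyP⟩ = ((α⁻¹ ⟨ψ x, hψT x⟩ : T) : Ω) := hχ₁' x (hψT x) hyP
    have e : (⟨ψ₂ ⟨(α⁻¹ ⟨x, hPT x.2⟩ : T), hyP₂⟩, hψ₂T _⟩ : T) = α⁻¹ ⟨ψ x, hψT x⟩ :=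
      Subtype.ext (h2.trans h1)
    rw [e] at h3
    have e2 : α (α⁻¹ ⟨ψ x, hψT x⟩) = ⟨ψ x, hψT x⟩ := by simp
    rw [e2] at h3
    show χ₃ (Subgroup.inclusion hle (Subgroup.inclusion le_sup_left x)) = ψ x
    refine (key _ _ ?_).trans h3
    show (x : Ω) = ((α (α⁻¹ ⟨x, hPT x.2⟩) : T) : Ω)
    rw [hαy]
  · rw [map_subgroupOf_eq_iff]
    constructor
    · intro y hy
      obtain ⟨w, hw, hwy⟩ := mem_img.mp hy
      have hw₂ : (w : Ω) ∈ img α⁻¹ P ⊔ R := Subgroup.mem_sup_right hw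
      have h3 := hχ₃'' w hw₂ (apply_mem_img _ _ hw₂)
      have e : (χ₃.comp (Subgroup.inclusion hle)) y = χ₃ ⟨(α w : T), apply_mem_img _ _ hw₂⟩ := by
        show χ₃ (Subgroup.inclusion hle y) = _
        apply key
        exact hwy.symm
      rw [e, h3]
      exact apply_mem_img α _ (hψ₂R1 ⟨w, hw₂⟩ hw)
    · intro z hz
      obtain ⟨v, hv, rfl⟩ := mem_img.mp hz
      obtain ⟨w', hw', hw'v⟩ := hψ₂R2 v hv
      have hw'T : (w' : Ω) ∈ T := hP₂T w'.2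
      have hmem : ((α ⟨w', hw'T⟩ : T) : Ω) ∈ img α R := apply_mem_img α ⟨w', hw'T⟩ hw'
      refine ⟨⟨(α ⟨w', hw'T⟩ : T), Subgroup.mem_sup_right hmem⟩, hmem, ?_⟩
      have h3 := hχ₃'' ⟨w', hw'T⟩ w'.2 (apply_mem_img _ _ w'.2)
      show χ₃ (Subgroup.inclusion hle _) = _
      have e : (⟨ψ₂ ⟨(⟨w', hw'T⟩ : T), w'.2⟩, hψ₂T _⟩ : T) = v := Subtype.ext hw'v
      rw [e] at h3
      refine (key _ _ ?_).trans h3
      rfl

/-- For `E` weakly normal in `F`, a largest subgroup normal in `E` is normal in `F`. -/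
theorem isNormal_of_largest_of_isWeaklyNormalIn [Finite S] {p : ℕ} [Fact p.Prime] (hS : IsPGroup p S)
    (F : FusionSystem S) (E : FusionSystem T) (hE : E.IsWeaklyNormalIn F p) {N : Subgroup Ω}
    (hN : E.IsNormal N) (hmax : ∀ Q : Subgroup Ω, E.IsNormal Q → Q ≤ N) : F.IsNormal N := by
  obtain ⟨hEsat, hFsat, hsub, hTsc, hinv, hfr⟩ := hE
  have hTS : T ≤ S := hTsc.1
  have hNT : N ≤ T := hN.1
  have hNS : N ≤ S := hNT.trans hTS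
  have hNsc : E.StronglyClosed N := stronglyClosed_of_isNormal E hN
  have himg : ∀ α ∈ F.autGroup T, img α N ≤ N := fun α hα => hmax _ (isNormal_img E F hinv hα hN)
  have hinvN : ∀ α ∈ F.autGroup T, ∀ x : T, (x : Ω) ∈ N → ((α x : T) : Ω) ∈ N :=
    fun α hα x hx => himg α hα (apply_mem_img α x hx)
  have himg_eq : ∀ α ∈ F.autGroup T, img α N = N := by
    intro α hα
    apply le_antisymm (himg α hα)
    have h1 := img_mono α (himg α⁻¹ (inv_mem hα))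
    rwa [img_img_inv α hNT] at h1
  have hsc : F.StronglyClosed N := by
    refine ⟨hNS, fun P hPN φ hφ x => ?_⟩
    obtain ⟨α, hα, φ₀, hφ₀, hφφ₀⟩ := hfr P (hPN.trans hNT) φ hφ
    have h0 : φ₀ x ∈ N := hNsc.2 P hPN φ₀ hφ₀ x
    rw [hφφ₀ x (hNT h0)]
    exact hinvN α hα _ h0
  have hfr' : ∀ (R : Subgroup Ω), R ≤ N → ∀ (φ : R →* Ω), φ ∈ F.Hom R →
      ∃ α ∈ F.autGroup N, ∃ φ₀ ∈ (innerFusionSystem N).Hom R,
        ∀ (x : R) (hx : φ₀ x ∈ N), φ x = ((α ⟨φ₀ x, hx⟩ : N) : Ω) := by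
    intro R hRN φ hφ
    obtain ⟨α, hα, φ₀, hφ₀, hφφ₀⟩ := hfr R (hRN.trans hNT) φ hφ
    obtain ⟨ψ₀, hψ₀, hψ₀φ₀, hψ₀N⟩ := hN.2 R φ₀ hφ₀
    have hαF := (mem_autGroup_iff F hTS α).mp hα
    have hγ₁ : restrictAut ψ₀ (E.injective_of_mem hψ₀) le_sup_right hψ₀N ∈ F.autGroup N := by
      rw [mem_autGroup_iff F hNS]
      have h1 : ψ₀.comp (Subgroup.inclusion le_sup_right) ∈ F.Hom N :=
        hsub _ (inclusion_comp_mem E le_sup_right hψ₀)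
      exact h1
    have hγ₂ : restrictAut (T.subtype.comp α.toMonoidHom) (F.injective_of_mem hαF) hNT (himg_eq α hα)
        ∈ F.autGroup N := by
      rw [mem_autGroup_iff F hNS]
      have h1 := inclusion_comp_mem F hNT hαF
      exact h1
    refine ⟨_, mul_mem hγ₂ hγ₁, R.subtype, ⟨hRN, 1, N.one_mem, fun x => by simp⟩, fun x hx => ?_⟩
    have h0 : φ₀ x ∈ N := hNsc.2 R hRN φ₀ hφ₀ x
    rw [hφφ₀ x (hNT h0), MulAut.mul_apply, restrictAut_apply]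
    show ((α ⟨φ₀ x, hNT h0⟩ : T) : Ω) = ((α (Subgroup.inclusion hNT _) : T) : Ω)
    congr 2
    apply Subtype.ext
    show φ₀ x = ((restrictAut ψ₀ (E.injective_of_mem hψ₀) le_sup_right hψ₀N ⟨x, hx⟩ : N) : Ω)
    rw [restrictAut_apply, ← hψ₀φ₀ x]
    rfl
  rw [isNormal_iff_stronglyClosed_le_centric_radical hS F hFsat]
  exact ⟨hsc, fun P hc hr => Cfsg.Agent.S5290.le_of_inner_invariant hS F hsc hfr' hc hr⟩

/-- For `E` weakly normal in `F`, `O_p(E)` is normal in `F`. -/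
theorem core_isNormal_of_isWeaklyNormalIn [Finite S] {p : ℕ} [Fact p.Prime] (hS : IsPGroup p S)
    (F : FusionSystem S) (E : FusionSystem T) (hE : E.IsWeaklyNormalIn F p) : F.IsNormal E.core := by
  have hTS : T ≤ S := hE.2.2.2.1.1
  have hfinT : Finite T := finite_of_le hTS
  exact isNormal_of_largest_of_isWeaklyNormalIn hS F E hE (core_isNormal E) (fun Q hQ => le_sSup hQ)

end Cfsg.Agent.Lib.Helper27
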