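import Mathlib
import Cfsg.Agent.Lib.Helper17.SLMDefs

set_option autoImplicit false
set_option linter.unusedSectionVars false
set_option linter.unusedVariables false

namespace Cfsg.Agent.Lib.Helper27.SLMLeaf

open Cfsg.Geo Matrix Module Cfsg.Agent.Lib.Helper17.SLM

/-- the dimension of an internal direct sum -/
theorem finrank_eq_sum_of_indep {K V ι : Type*} [Field K] [AddCommGroup V] [Module K V]
    [FiniteDimensional K V] [Fintype ι] [DecidableEq ι] (U : ι → Submodule K V) (hi : iSupIndep U)
    (hs : iSup U = ⊤) : finrank K V = ∑ i, finrank K (U i) := by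
  have hint := DirectSum.isInternal_submodule_of_iSupIndep_of_iSup_eq_top hi hs
  have e := LinearEquiv.ofBijective (DirectSum.coeLinearMap U) hint
  rw [← e.finrank_eq, Module.finrank_directSum]

variable {n : ℕ} {F : Type*} [Field F] [Fintype F]

/-- N1.  `n = finrank (⨆ D i) = Σ finrank (D i) = t m`. -/
theorem mdec_card {t m : ℕ} {D : Fin t → Submodule F (Fin n → F)} (hD : IsMDecomposition m D) : t * m = n := by
  have h := finrank_eq_sum_of_indep D hD.indep hD.iSup_eq_top
  rw [Module.finrank_fin_fun] at h
  rw [h, Finset.sum_congr rfl (fun i _ => hD.finrank_eq i), Finset.sum_const, Finset.card_univ,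
    Fintype.card_fin, smul_eq_mul]

end Cfsg.Agent.Lib.Helper27.SLMLeaf
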