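import Cfsg.Prelude.Def_GeometricClasses

/-!
# "Every maximal subgroup of Sp_n(q) is geometric or residual" (rows S5787 S5790 S5805 S5823 S5844 S5868): definitions (helper27)

`GoodSp m F M`: `M` is a member (already intersected with `spGL m F`) of one of the symplectic classes of
`Cfsg.Geo.InSymplecticClass` which in addition satisfies the side conditions of the tables
(non-degenerate 2-spaces: `q ≥ 3`; two Lagrangians, `n = 4`: `q ≥ 5`; unitary overfield, `n = 4`: `q ≥ 5`;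
tensor with an orthogonal 3-space: `q ≥ 5`; `2 ⊗ 4`: the 4-space is not of plus type).  Plan: notes/SpnMax_plan.md.
-/

set_option autoImplicit false

namespace Cfsg.Agent.Lib.Helper27.SpM

open Cfsg Cfsg.Geo Matrix

/-- the refined symplectic classes -/
def GoodSp (m : ℕ) (F : Type*) [Field F] [Fintype F] (M : Subgroup (GL (Fin m ⊕ Fin m) F)) : Prop :=
  (∃ W : Submodule F (Fin m ⊕ Fin m → F), W ≠ ⊥ ∧ IsTotallySingularFor (sympForm m F) W ∧
      M = subspaceStabilizer W ⊓ spGL m F) ∨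
  (∃ W : Submodule F (Fin m ⊕ Fin m → F), W ≠ ⊥ ∧ IsNondegenerateOn (sympForm m F) W ∧ Module.finrank F W < m ∧
      M = subspaceStabilizer W ⊓ spGL m F) ∨
  (∃ (t k : ℕ) (D : Fin t → Submodule F (Fin m ⊕ Fin m → F)), IsNondegenerateMDecomposition (sympForm m F) k D ∧
      (k = 2 → 3 ≤ Fintype.card F) ∧ M = decompositionStabilizer D ⊓ spGL m F) ∨
  (∃ (D : Fin 2 → Submodule F (Fin m ⊕ Fin m → F)), Odd (Fintype.card F) ∧ IsMDecomposition m D ∧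
      (∀ i, IsTotallySingularFor (sympForm m F) (D i)) ∧ (m = 2 → 5 ≤ Fintype.card F) ∧
      M = decompositionStabilizer D ⊓ spGL m F) ∨
  (∃ (F₀ : Subfield F) (r : ℕ) (P : GL (Fin m ⊕ Fin m) F) (ζ : F), r.Prime ∧ Fintype.card F = Nat.card F₀ ^ r ∧ ζ ≠ 0 ∧
      IsFormRationalStructure (sympForm m F) F₀ ζ P ∧ M = subfieldSubgroup F₀ P ⊓ spGL m F) ∨
  (∃ (R : Subgroup (GL (Fin m ⊕ Fin m) F)) (p k : ℕ), IsSymplecticTypeGroup 2 R ∧
      ActsAbsolutelyIrreducibly (matrixSet R) ∧ R ≤ similarityGroup (sympForm m F) ∧ p.Prime ∧ Odd p ∧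
      Fintype.card F = p ∧ Nat.card R = 2 ^ (1 + 2 * k) ∧ Nat.card (Subgroup.center R) = 2 ∧ IsOfMinusType k R ∧
      M = subgroupNormalizer R ⊓ spGL m F) ∨
  (∃ Q : (Fin m ⊕ Fin m → F) → F, ¬ Odd (Fintype.card F) ∧ IsNondegenerateQuadraticForm Q ∧
      (∀ u v, QuadraticMap.polar Q u v = sympForm m F u v) ∧ M = quadSimilarityGroup Q ⊓ spGL m F) ∨
  (∃ (r : ℕ) (K : Subalgebra F (Matrix (Fin m ⊕ Fin m) (Fin m ⊕ Fin m) F)), r.Prime ∧ IsFieldSubalgebra r K ∧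
      IsSelfAdjointFor (sympForm m F) K ∧ (∀ k ∈ K, ∀ v, sympForm m F (k *ᵥ v) v = 0) ∧
      M = subalgebraNormalizer K ⊓ spGL m F) ∨
  (∃ K : Subalgebra F (Matrix (Fin m ⊕ Fin m) (Fin m ⊕ Fin m) F), Odd (Fintype.card F) ∧ IsFieldSubalgebra 2 K ∧
      IsAdjointClosedFor (sympForm m F) K ∧ ¬ IsSelfAdjointFor (sympForm m F) K ∧ (m = 2 → 5 ≤ Fintype.card F) ∧
      M = subalgebraNormalizer K ⊓ spGL m F) ∨
  (∃ (n₁ n₂ : ℕ) (e : (Fin m ⊕ Fin m) ≃ Fin n₁ × Fin n₂) (P : GL (Fin m ⊕ Fin m) F)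
      (f₁ : (Fin n₁ → F) → (Fin n₁ → F) → F) (f₂ : (Fin n₂ → F) → (Fin n₂ → F) → F),
      Odd (Fintype.card F) ∧ 3 ≤ n₂ ∧ IsSymplecticForm f₁ ∧ IsSymmetricForm f₂ ∧
      IsTensorFormStructure id (sympForm m F) f₁ f₂ e P ∧ (n₂ = 3 → 5 ≤ Fintype.card F) ∧
      (n₁ = 2 → n₂ = 4 → ¬ IsPlusTypeOn (fun v : Fin n₂ → F => f₂ v v) ⊤) ∧
      M = tensorProductSubgroup n₁ n₂ e P ⊓ spGL m F) ∨
  (∃ (k t : ℕ) (e : (Fin m ⊕ Fin m) ≃ (Fin t → Fin k)) (P : GL (Fin m ⊕ Fin m) F) (f₁ : (Fin k → F) → (Fin k → F) → F),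
      Odd (Fintype.card F) ∧ Odd t ∧ 3 ≤ t ∧ ¬ (Fintype.card F = 3 ∧ k = 2) ∧ IsSymplecticForm f₁ ∧
      IsTensorPowerFormStructure id (sympForm m F) f₁ e P ∧ M = tensorWreathSubgroup k t e P ⊓ spGL m F)

/-- the conclusion of the refined theorem -/
def ConclSp (m : ℕ) (F : Type*) [Field F] [Fintype F] (H : Subgroup (GL (Fin m ⊕ Fin m) F)) : Prop :=
  (∃ M : Subgroup (GL (Fin m ⊕ Fin m) F), GoodSp m F M ∧ H = M) ∨ InSymplecticResidualClass H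

/-- the conclusion of Aschbacher's theorem for `Sp` (S5662, helper29), used as a black box -/
def AschSp (m : ℕ) (F : Type*) [Field F] [Fintype F] (H : Subgroup (GL (Fin m ⊕ Fin m) F)) : Prop :=
  (∃ M : Subgroup (GL (Fin m ⊕ Fin m) F), InSymplecticClass m F M ∧ H ≤ M) ∨ InSymplecticResidualClass H

/-- the statement of S5662 for the pair `(m, F)` -/
def AschSpStmt (m : ℕ) (F : Type*) [Field F] [Fintype F] : Prop :=
  ∀ H : Subgroup (GL (Fin m ⊕ Fin m) F), H ≤ spGL m F →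
    H ⊔ (scalars (Fin m ⊕ Fin m) F ⊓ spGL m F) ≠ spGL m F → AschSp m F H

/-- every class member lies in a refined one -/
def Refines (m : ℕ) (F : Type*) [Field F] [Fintype F] : Prop :=
  ∀ M : Subgroup (GL (Fin m ⊕ Fin m) F), InSymplecticClass m F M → ∃ M', GoodSp m F M' ∧ M ≤ M'

/-- `G` is transitive on the non-zero vectors -/
def TransNZ {ι : Type} [Fintype ι] [DecidableEq ι] {F : Type*} [Field F] (G : Subgroup (GL ι F)) : Prop :=
  ∀ u v : ι → F, u ≠ 0 → v ≠ 0 → ∃ g ∈ G, (g : Matrix ι ι F) *ᵥ u = v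

end Cfsg.Agent.Lib.Helper27.SpM
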