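import Mathlib
import Cfsg.Agent.Lib.Helper27.SpMDefs
import Cfsg.Agent.Lib.Helper9.SpSubT

/-!
# SpnMax tools (helper27): `spGL m F` is transitive on the non-zero vectors (T1)
-/

set_option autoImplicit false
set_option linter.unusedSectionVars false
set_option linter.unusedVariables false

namespace Cfsg.Agent.Lib.Helper27.SpMLeaf

open Cfsg Cfsg.Geo Matrix Cfsg.Agent.Lib.Helper27.SpM

variable {m : ℕ} {F : Type*} [Field F]

/-- T1.  `Sp_2m(F)` is transitive on the non-zero vectors. -/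
theorem exists_sp_map_vec {u v : Fin m ⊕ Fin m → F} (hu : u ≠ 0) (hv : v ≠ 0) :
    ∃ g ∈ spGL m F, (g : Matrix (Fin m ⊕ Fin m) (Fin m ⊕ Fin m) F) *ᵥ u = v := by
  have hr : ∀ x : Fin m ⊕ Fin m → F, Cfsg.Agent.Lib.Helper2.SpSub.RatV (⊤ : Subfield F) x :=
    fun x i => Subfield.mem_top _
  obtain ⟨h, hh, hhu⟩ := Cfsg.Agent.Lib.Helper9.SpSubLeaf.exists_Rg_map (⊤ : Subfield F) (hr u) (hr v) hu hv
  exact ⟨h, hh.1, hhu⟩

/-- T1 in the form used by the generic properness leaves. -/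
theorem transNZ_sp : TransNZ (spGL m F) := fun u v hu hv => exists_sp_map_vec hu hv

end Cfsg.Agent.Lib.Helper27.SpMLeaf
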