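import Mathlib
import Cfsg.Agent.S0775
import Cfsg.Agent.Lib.Helper14.SympCount

/-!
# S2316 (number of `p`-elements of `Sp_{2m}(q)` is `q^(2m²)`): frozen definitions

Vocabulary of the leaf market `notes/S2316_leaves.lean` (planner: helper27).
Proof = Moebius / Steinberg alternating sum over the totally isotropic subspaces fixed pointwise.
-/

set_option autoImplicit false

namespace Cfsg.Agent.Lib.Helper27.SpU

open Cfsg Matrix

/-- `g` has `p`-power order. -/
def IsPElt (p : ℕ) {G : Type*} [Monoid G] (g : G) : Prop := ∃ k : ℕ, orderOf g = p ^ k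

variable {F : Type*} [Field F] {m : ℕ}

/-- The space of fixed vectors of a symplectic matrix. -/
def fixSp (g : Matrix.symplecticGroup (Fin m) F) : Submodule F (Fin m ⊕ Fin m → F) :=
  LinearMap.ker (Matrix.toLin' (g : Matrix (Fin m ⊕ Fin m) (Fin m ⊕ Fin m) F) - 1)

theorem mem_fixSp (g : Matrix.symplecticGroup (Fin m) F) (v : Fin m ⊕ Fin m → F) :
    v ∈ fixSp g ↔ (g : Matrix (Fin m ⊕ Fin m) (Fin m ⊕ Fin m) F) *ᵥ v = v := by
  unfold fixSp
  rw [LinearMap.mem_ker, LinearMap.sub_apply, Matrix.toLin'_apply, Module.End.one_apply, sub_eq_zero]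

/-- Totally isotropic subspaces. -/
def TIsub (W : Submodule F (Fin m ⊕ Fin m → F)) : Prop :=
  ∀ u ∈ W, ∀ v ∈ W, Cfsg.sympForm m F u v = 0

/-- The Moebius weight `(-1)^d q^(d(d-1)/2)` of a `d`-dimensional subspace. -/
def mu (q d : ℕ) : ℤ := (-1) ^ d * (q : ℤ) ^ (d * (d - 1) / 2)

/-- The number of `p`-elements of `Sp_{2m}(F)`. -/
noncomputable def uCount (p : ℕ) (F : Type*) [Field F] (m : ℕ) : ℕ :=
  Nat.card {g : Matrix.symplecticGroup (Fin m) F // IsPElt p g}

/-- The number of `p`-elements of `Sp_{2m}(F)` fixing `W` pointwise. -/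
noncomputable def cW (p : ℕ) (W : Submodule F (Fin m ⊕ Fin m → F)) : ℕ :=
  Nat.card {g : Matrix.symplecticGroup (Fin m) F // IsPElt p g ∧ W ≤ fixSp g}

/-- The standard totally isotropic tuple `e_1, …, e_d` of `F^(2(d+k))`. -/
def stdTup (F : Type*) [Field F] (d k : ℕ) : Cfsg.Agent.S0775.Tup F (d + k) d :=
  fun i => Pi.single (Sum.inl (Fin.castAdd k i)) 1

/-- The exponent of the unipotent radical of the pointwise stabiliser of `e_1, …, e_d`. -/
def eExp (d k : ℕ) : ℕ := 2 * d * k + d * (d + 1) / 2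

end Cfsg.Agent.Lib.Helper27.SpU
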