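import Mathlib

/-!
helper27: U3 KILL11 (S2148 market "U3", planner helper12): the case `q = 11`, `|H| = 1332 * 330`.
Sylow counting for the prime 37 (`n_37 ∈ {1, 297, 3960}`), Burnside's transfer theorem, and a fixed-point
count for a subgroup of order 11 on an orbit of length 36.
-/

set_option autoImplicit false
set_option maxRecDepth 100000

namespace Cfsg.Agent.Lib.Helper27.U3Leaf

open MulAction

/-- the divisors of `11880` congruent to `1` modulo `37` -/
theorem sylow37_count : ∀ k : ℕ, k ∣ 11880 → k % 37 = 1 → k = 1 ∨ k = 297 ∨ k = 3960 := by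
  intro k hd hm
  have hle : k ≤ 11880 := Nat.le_of_dvd (by norm_num) hd
  obtain ⟨j, rfl⟩ : ∃ j, k = 37 * j + 1 := ⟨k / 37, by omega⟩
  have hj : j ≤ 321 := by omega
  clear hm hle
  interval_cases j <;> omega

/-- the core of KILL11 inside a group `H` acting on a set `Ω` -/
theorem kill11_core {H Ω : Type*} [Group H] [Finite H] [MulAction H Ω] (x0 : Ω)
    (hH : Nat.card H = 439560) (hstab : Nat.card (stabilizer H x0) = 330)
    (ZH : Subgroup H) (hZc : ZH ≤ Subgroup.center H) (hZ : Nat.card ZH = 3)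
    (D : Subgroup H) (hD : Nat.card D = 11) (hDfix : D ≤ stabilizer H x0)
    (hsemi : ∀ d ∈ D, d ≠ 1 → ∀ y : Ω, d • y = y → y = x0)
    (hNb : ∀ S : Sylow 37 H, Nat.card S = 37 →
      Nat.card ↥(Subgroup.normalizer ((S : Subgroup H) : Set H)) ≤ 143856) : False := by
  have hp37 : Fact (Nat.Prime 37) := ⟨by norm_num⟩
  have hp11 : Fact (Nat.Prime 11) := ⟨by norm_num⟩
  obtain ⟨S⟩ : Nonempty (Sylow 37 H) := inferInstance
  have hScard : Nat.card S = 37 := by
    rw [Sylow.card_eq_multiplicity, hH]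
    have e : (439560 : ℕ) = 37 * 11880 := by norm_num
    rw [e, Nat.factorization_mul (by norm_num) (by norm_num), Finsupp.add_apply,
      Nat.Prime.factorization_self (by norm_num),
      Nat.factorization_eq_zero_of_not_dvd (by norm_num), add_zero, pow_one]
  have hidx : (S : Subgroup H).index = 11880 := by
    have h1 := (S : Subgroup H).card_mul_index
    rw [hScard, hH] at h1
    omega
  have hn_dvd : Nat.card (Sylow 37 H) ∣ 11880 := by
    rw [← hidx]
    exact Sylow.card_dvd_index S
  have hn_mod : Nat.card (Sylow 37 H) % 37 = 1 := by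
    have h2 := card_sylow_modEq_one 37 H
    unfold Nat.ModEq at h2
    rw [h2]
  have hn_cases := sylow37_count _ hn_dvd hn_mod
  have hNidx : Nat.card (Sylow 37 H) =
      (Subgroup.normalizer ((S : Subgroup H) : Set H)).index := Sylow.card_eq_index_normalizer S
  have hNcard : Nat.card ↥(Subgroup.normalizer ((S : Subgroup H) : Set H)) *
      Nat.card (Sylow 37 H) = 439560 := by
    rw [hNidx, Subgroup.card_mul_index, hH]
  have hNle := hNb S hScard
  have hZN : ZH ≤ Subgroup.normalizer ((S : Subgroup H) : Set H) := by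
    intro z hz
    rw [Subgroup.mem_normalizer_iff]
    intro x
    have hc : ∀ g : H, g * z = z * g := fun g => (Subgroup.mem_center_iff.mp (hZc hz)) g
    have : z * x * z⁻¹ = x := by
      rw [← hc x, mul_assoc, mul_inv_cancel, mul_one]
    rw [this]
  have h3 : 3 ∣ Nat.card ↥(Subgroup.normalizer ((S : Subgroup H) : Set H)) := by
    rw [← hZ]
    exact Subgroup.card_dvd_of_le hZN
  have hn : Nat.card (Sylow 37 H) = 3960 := by
    rcases hn_cases with h | h | h
    · rw [h] at hNcard; omega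
    · rw [h] at hNcard; omega
    · exact h
  have hNcard' : Nat.card ↥(Subgroup.normalizer ((S : Subgroup H) : Set H)) = 111 := by
    rw [hn] at hNcard; omega
  have hSN : (S : Subgroup H) ≤ Subgroup.normalizer ((S : Subgroup H) : Set H) :=
    Subgroup.le_normalizer
  have hsup : (S : Subgroup H) ⊔ ZH = Subgroup.normalizer ((S : Subgroup H) : Set H) := by
    apply Subgroup.eq_of_le_of_card_ge (sup_le hSN hZN)
    have d1 : 37 ∣ Nat.card ↥((S : Subgroup H) ⊔ ZH) := by
      have h1 := Subgroup.card_dvd_of_le (le_sup_left : (S : Subgroup H) ≤ (S : Subgroup H) ⊔ ZH)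
      rwa [hScard] at h1
    have d2 : 3 ∣ Nat.card ↥((S : Subgroup H) ⊔ ZH) := by
      have h1 := Subgroup.card_dvd_of_le (le_sup_right : ZH ≤ (S : Subgroup H) ⊔ ZH)
      rwa [hZ] at h1
    have d3 : 37 * 3 ∣ Nat.card ↥((S : Subgroup H) ⊔ ZH) :=
      Nat.Coprime.mul_dvd_of_dvd_of_dvd (by norm_num) d1 d2
    rw [hNcard']
    exact Nat.le_of_dvd Nat.card_pos d3
  have hcyc : IsCyclic ↥(S : Subgroup H) := isCyclic_of_prime_card hScard
  have hcomm : ∀ a ∈ (S : Subgroup H), ∀ b ∈ (S : Subgroup H), a * b = b * a := by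
    intro a ha b hb
    have h1 := Std.Commutative.comm (op := fun x y : ↥(S : Subgroup H) => x * y) ⟨a, ha⟩ ⟨b, hb⟩
    exact congrArg Subtype.val h1
  have hP : Subgroup.normalizer ((S : Subgroup H) : Set H) ≤
      Subgroup.centralizer ((S : Subgroup H) : Set H) := by
    rw [← hsup]
    apply sup_le
    · intro a ha
      rw [Subgroup.mem_centralizer_iff]
      intro b hb
      exact hcomm b hb a ha
    · intro z hz
      rw [Subgroup.mem_centralizer_iff]
      intro b _
      exact (Subgroup.mem_center_iff.mp (hZc hz)) b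
  have hcompl := MonoidHom.ker_transferSylow_isComplement' S hP
  obtain ⟨K, hKdef⟩ : ∃ K : Subgroup H, K = (MonoidHom.transferSylow S hP).ker := ⟨_, rfl⟩
  rw [← hKdef] at hcompl
  have hKcard : Nat.card K * 37 = 439560 := by
    have h1 := hcompl.card_mul_card
    rw [hScard, hH] at h1
    exact h1
  have hKidx : K.index = 37 := by
    have h1 := K.card_mul_index
    rw [hH] at h1
    have h2 : Nat.card K = 11880 := by omega
    rw [h2] at h1
    omega
  have hKn : K.Normal := by rw [hKdef]; exact MonoidHom.normal_ker _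
  -- the stabiliser lies in `K`
  have hstabK : stabilizer H x0 ≤ K := by
    intro x hx
    have hx330 : x ^ 330 = 1 := by
      have h1 : (⟨x, hx⟩ : stabilizer H x0) ^ 330 = 1 := by
        rw [← hstab]; exact pow_card_eq_one'
      exact congrArg Subtype.val h1
    have h37 : x ^ 37 ∈ K := by
      rw [← hKidx]; exact K.pow_index_mem x
    have h1 : x ^ 3960 = 1 := by
      rw [show 3960 = 330 * 12 by norm_num, pow_mul, hx330, one_pow]
    have h2 : x ^ 3960 = (x ^ 37) ^ 107 * x := by
      rw [← pow_mul, ← pow_succ]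
    rw [h1] at h2
    have h4 : x = ((x ^ 37) ^ 107)⁻¹ := eq_inv_of_mul_eq_one_right h2.symm
    rw [h4]
    exact K.inv_mem (K.pow_mem h37 107)
  -- the `K`-orbit of `x0` has 36 points
  have hstabKcard : Nat.card (stabilizer ↥K x0) = 330 := by
    rw [← hstab]
    refine Nat.card_congr
      { toFun := fun k => ⟨(k.1 : H), k.2⟩
        invFun := fun h => ⟨⟨h.1, hstabK h.2⟩, h.2⟩
        left_inv := fun k => rfl
        right_inv := fun h => rfl }
  have horb : Nat.card (orbit ↥K x0) = 36 := by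
    have h1 : Nat.card (orbit ↥K x0) = (stabilizer ↥K x0).index :=
      Nat.card_congr (orbitEquivQuotientStabilizer ↥K x0)
    have h2 : Nat.card K = 11880 := by omega
    have h3 := (stabilizer ↥K x0).card_mul_index
    rw [hstabKcard, h2, ← h1] at h3
    omega
  -- `D` acts on this orbit with the single fixed point `x0`
  have hDK : D ≤ K := hDfix.trans hstabK
  obtain ⟨D', hD'def⟩ : ∃ D' : Subgroup ↥K, D' = D.subgroupOf K := ⟨_, rfl⟩
  subst hD'def
  have hD'card : Nat.card ↥(D.subgroupOf K) = 11 := by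
    rw [← hD]
    exact Nat.card_congr (Subgroup.subgroupOfEquivOfLe hDK).toEquiv
  have hD'p : IsPGroup 11 ↥(D.subgroupOf K) :=
    IsPGroup.of_card (n := 1) (by rw [hD'card, pow_one])
  have hfinorb : Finite (orbit ↥K x0) := Nat.finite_of_card_ne_zero (by rw [horb]; norm_num)
  have hmod := hD'p.card_modEq_card_fixedPoints (orbit ↥K x0)
  have hD'mem : ∀ d : ↥(D.subgroupOf K), ((d : ↥K) : H) ∈ D :=
    fun d => Subgroup.mem_subgroupOf.mp d.2
  have hnt : Nontrivial ↥(D.subgroupOf K) := by
    rw [← Finite.one_lt_card_iff_nontrivial, hD'card]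
    norm_num
  obtain ⟨d0, hd0⟩ := exists_ne (1 : ↥(D.subgroupOf K))
  have hd0' : ((d0 : ↥K) : H) ≠ 1 := by
    intro h
    apply hd0
    apply Subtype.ext
    apply Subtype.ext
    exact h
  have hfixed : ∀ y : orbit ↥K x0, y ∈ fixedPoints ↥(D.subgroupOf K) (orbit ↥K x0) → (y : Ω) = x0 := by
    intro y hy
    have h1 : d0 • y = y := hy d0
    have h2 : ((d0 : ↥K) : H) • (y : Ω) = (y : Ω) := congrArg Subtype.val h1
    exact hsemi _ (hD'mem d0) hd0' _ h2
  have hfix : Nat.card (fixedPoints ↥(D.subgroupOf K) (orbit ↥K x0)) = 1 := by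
    rw [Nat.card_eq_one_iff_unique]
    constructor
    · constructor
      rintro ⟨a, ha⟩ ⟨b, hb⟩
      apply Subtype.ext
      apply Subtype.ext
      rw [hfixed a ha, hfixed b hb]
    · refine ⟨⟨⟨x0, mem_orbit_self x0⟩, ?_⟩⟩
      intro d
      apply Subtype.ext
      have h1 : ((d : ↥K) : H) • x0 = x0 := hDfix (hD'mem d)
      exact h1
  rw [horb, hfix] at hmod
  exact absurd hmod (by decide)

/-- A9 KILL11-abs (`q = 11`, `|H| = 1332 * 330`). -/
theorem kill11_abs {G : Type*} [Group G] [Finite G] (P H Z D : Subgroup G)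
    (hH : Nat.card H = 439560) (hK : Nat.card ↥(H ⊓ P) = 330)
    (hZH : Z ≤ H) (hZc : Z ≤ Subgroup.center G) (hZ : Nat.card Z = 3)
    (hDK : D ≤ H ⊓ P) (hD : Nat.card D = 11)
    (hsemi : ∀ x ∈ D, x ≠ 1 → ∀ g : G, g ∉ P → g⁻¹ * x * g ∉ P)
    (hN : ∀ R : Subgroup G, Nat.card R = 37 →
      Nat.card ↥(Subgroup.normalizer (R : Set G)) ≤ 143856) : False := by
  obtain ⟨x0, hx0⟩ : ∃ x0 : G ⧸ P, x0 = ((1 : G) : G ⧸ P) := ⟨_, rfl⟩
  have hsmul : ∀ (h : ↥H) (g : G), h • ((g : G) : G ⧸ P) = (((h : G) * g : G) : G ⧸ P) :=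
    fun h g => rfl
  have hstab_mem : ∀ h : ↥H, h ∈ stabilizer ↥H x0 ↔ (h : G) ∈ P := by
    intro h
    rw [mem_stabilizer_iff, hx0, hsmul, QuotientGroup.eq, mul_one, mul_one]
    exact P.inv_mem_iff
  have hDH : D ≤ H := hDK.trans inf_le_left
  refine kill11_core (H := ↥H) (Ω := G ⧸ P) x0 hH ?_ (Z.subgroupOf H) ?_ ?_ (D.subgroupOf H) ?_ ?_
    ?_ ?_
  · rw [← hK]
    refine Nat.card_congr
      { toFun := fun h => ⟨(h.1 : G), ⟨h.1.2, (hstab_mem h.1).mp h.2⟩⟩
        invFun := fun y => ⟨⟨y.1, y.2.1⟩, (hstab_mem _).mpr y.2.2⟩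
        left_inv := fun h => rfl
        right_inv := fun y => rfl }
  · intro z hz
    rw [Subgroup.mem_center_iff]
    intro g
    apply Subtype.ext
    exact (Subgroup.mem_center_iff.mp (hZc (Subgroup.mem_subgroupOf.mp hz))) (g : G)
  · rw [← hZ]
    exact Nat.card_congr (Subgroup.subgroupOfEquivOfLe hZH).toEquiv
  · rw [← hD]
    exact Nat.card_congr (Subgroup.subgroupOfEquivOfLe hDH).toEquiv
  · intro d hd
    exact (hstab_mem d).mpr (hDK (Subgroup.mem_subgroupOf.mp hd)).2
  · intro d hd hd1 y hy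
    induction y using QuotientGroup.induction_on with
    | H g =>
      rw [hsmul, QuotientGroup.eq] at hy
      rw [hx0, QuotientGroup.eq, mul_one]
      by_contra hg
      have hgP : g ∉ P := fun h => hg (P.inv_mem h)
      have hd1' : (d : G) ≠ 1 := fun h => hd1 (Subtype.ext h)
      apply hsemi (d : G) (Subgroup.mem_subgroupOf.mp hd) hd1' g hgP
      have h1 := P.inv_mem hy
      have h2 : (((d : G) * g)⁻¹ * g)⁻¹ = g⁻¹ * (d : G) * g := by group
      rwa [h2] at h1
  · intro S hS
    have hR : Nat.card ↥((S : Subgroup ↥H).map H.subtype) = 37 := by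
      rw [Subgroup.card_map_of_injective H.subtype_injective, hS]
    have h1 := hN _ hR
    have h2 := Subgroup.card_le_of_le
      (Subgroup.le_normalizer_map (H := (S : Subgroup ↥H)) H.subtype)
    rw [Subgroup.card_map_of_injective H.subtype_injective] at h2
    exact h2.trans h1

end Cfsg.Agent.Lib.Helper27.U3Leaf
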