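import Mathlib

/-!
helper27: U3 KILL9 (S2148 market "U3", planner helper12): a group of order `730 * 108`, `730 * 162` or
`730 * 81` has a normal Sylow 73-subgroup, so it cannot sit in a group in which the normalizers of the
subgroups of order 73 have order at most `52560`.
-/

set_option autoImplicit false
set_option maxRecDepth 100000

namespace Cfsg.Agent.Lib.Helper27.U3Leaf

/-- the Sylow counting step: for `|H| = p * m`, `p ∤ m`, if the only divisor of `m` congruent to `1`
modulo `p` is `1`, then `H` normalizes a subgroup of order `p`. -/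
theorem exists_normal_of_sylow_count {G : Type*} [Group G] [Finite G] (H : Subgroup G) (p m : ℕ)
    [Fact p.Prime] (hH : Nat.card H = p * m) (hpm : ¬ p ∣ m)
    (hdiv : ∀ n : ℕ, n ∣ m → n % p = 1 → n = 1) :
    ∃ R : Subgroup G, Nat.card R = p ∧ H ≤ Subgroup.normalizer (R : Set G) := by
  have hp : p.Prime := Fact.out
  have hm0 : m ≠ 0 := by
    rintro rfl
    exact hpm (dvd_zero p)
  obtain ⟨S⟩ : Nonempty (Sylow p H) := inferInstance
  have hScard : Nat.card S = p := by
    rw [Sylow.card_eq_multiplicity, hH, Nat.factorization_mul hp.ne_zero hm0, Finsupp.add_apply,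
      hp.factorization_self, Nat.factorization_eq_zero_of_not_dvd hpm, add_zero, pow_one]
  have hidx : (S : Subgroup H).index = m := by
    have h1 := (S : Subgroup H).card_mul_index
    rw [hScard, hH] at h1
    exact Nat.eq_of_mul_eq_mul_left hp.pos h1
  have hn1 : Nat.card (Sylow p H) = 1 := by
    apply hdiv
    · rw [← hidx]
      exact Sylow.card_dvd_index S
    · have h2 := card_sylow_modEq_one p H
      unfold Nat.ModEq at h2
      rw [h2, Nat.mod_eq_of_lt hp.one_lt]
  have hnormal : (S : Subgroup H).Normal := by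
    have : Subsingleton (Sylow p H) := (Nat.card_eq_one_iff_unique.mp hn1).1
    exact Sylow.normal_of_subsingleton S
  refine ⟨(S : Subgroup H).map H.subtype, ?_, ?_⟩
  · rw [Subgroup.card_map_of_injective H.subtype_injective, hScard]
  · intro h hh
    rw [Subgroup.mem_normalizer_iff]
    intro x
    constructor
    · rintro ⟨s, hs, rfl⟩
      refine ⟨⟨h, hh⟩ * s * ⟨h, hh⟩⁻¹, hnormal.conj_mem s hs ⟨h, hh⟩, ?_⟩
      simp
    · rintro ⟨s, hs, hx⟩
      have h3 := hnormal.conj_mem s hs (⟨h, hh⟩⁻¹ : H)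
      refine ⟨(⟨h, hh⟩⁻¹ : H) * s * (⟨h, hh⟩⁻¹ : H)⁻¹, h3, ?_⟩
      have : (H.subtype s : G) = h * x * h⁻¹ := hx
      simp only [inv_inv, map_mul, map_inv, Subgroup.subtype_apply] at *
      rw [this]
      group

/-- A8 KILL9-abs (`q = 9`, `|H| = 730 * |K|`, `|K| ∈ {108, 162, 81}`). -/
theorem kill9_abs {G : Type*} [Group G] [Finite G] (H : Subgroup G)
    (hH : Nat.card H = 78840 ∨ Nat.card H = 118260 ∨ Nat.card H = 59130)
    (hN : ∀ R : Subgroup G, Nat.card R = 73 →
      Nat.card ↥(Subgroup.normalizer (R : Set G)) ≤ 52560) : False := by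
  have : Fact (Nat.Prime 73) := ⟨by norm_num⟩
  have key : ∀ m : ℕ, Nat.card H = 73 * m → ¬ 73 ∣ m → 52560 < 73 * m →
      (∀ n : ℕ, n ∣ m → n % 73 = 1 → n = 1) → False := by
    intro m hm h73 hlt hdiv
    obtain ⟨R, hR, hle⟩ := exists_normal_of_sylow_count H 73 m hm h73 hdiv
    have h1 := Subgroup.card_le_of_le hle
    have h2 := hN R hR
    omega
  rcases hH with h | h | h
  · refine key 1080 (by rw [h]) (by norm_num) (by norm_num) ?_
    intro n hn h1
    have hle : n ≤ 1080 := Nat.le_of_dvd (by norm_num) hn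
    have hall : ∀ k ≤ 1080, k ∣ 1080 → k % 73 = 1 → k = 1 := by decide
    exact hall n hle hn h1
  · refine key 1620 (by rw [h]) (by norm_num) (by norm_num) ?_
    intro n hn h1
    have hle : n ≤ 1620 := Nat.le_of_dvd (by norm_num) hn
    have hall : ∀ k ≤ 1620, k ∣ 1620 → k % 73 = 1 → k = 1 := by decide
    exact hall n hle hn h1
  · refine key 810 (by rw [h]) (by norm_num) (by norm_num) ?_
    intro n hn h1
    have hle : n ≤ 810 := Nat.le_of_dvd (by norm_num) hn
    have hall : ∀ k ≤ 810, k ∣ 810 → k % 73 = 1 → k = 1 := by decide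
    exact hall n hle hn h1

end Cfsg.Agent.Lib.Helper27.U3Leaf
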