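import Mathlib
import Cfsg.Agent.Lib.Helper20.AschDefs
import Cfsg.Agent.Lib.Helper20.SympC2
import Cfsg.Agent.Lib.Helper24.AschA7Defs

set_option autoImplicit false
set_option linter.unusedSectionVars false
set_option linter.unusedVariables false

namespace Cfsg.Agent.Lib.Helper27.AschA7Leaf
open Matrix Cfsg.Geo Cfsg.Agent.Lib.Helper20.Asch Cfsg.Agent.Lib.Helper24.AschA7
open scoped Kronecker commutatorElement

variable {F : Type*} [Field F] [Fintype F] {n : ℕ} {H N : Subgroup (GL (Fin n) F)}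

/-- an element of `GL` whose matrix is a scalar matrix is in `scalars` -/
lemma mem_scalars_of_eq_smul (x : GL (Fin n) F) (c : F)
    (h : (x : Matrix (Fin n) (Fin n) F) = c • (1 : Matrix (Fin n) (Fin n) F)) : x ∈ scalars (Fin n) F := by
  rw [mem_scalars_iff]
  by_cases hc : c = 0
  · subst hc
    rw [zero_smul] at h
    have h1 : (1 : Matrix (Fin n) (Fin n) F) = 0 := by
      have := x.mul_inv
      rw [h, zero_mul] at this
      exact this.symm
    refine ⟨1, ?_⟩
    rw [h, Units.val_one, one_smul, h1]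
  · exact ⟨Units.mk0 c hc, h⟩

/-- an element of an absolutely irreducible group commuting with the whole group is a scalar -/
lemma mem_scalars_of_commutes (habs : AbsIrr N) (x : GL (Fin n) F)
    (h : ∀ y ∈ N, x * y = y * x) : x ∈ scalars (Fin n) F := by
  obtain ⟨c, hc⟩ := habs.2 (x : Matrix (Fin n) (Fin n) F) (by
    rintro _ ⟨y, hy, rfl⟩
    rw [← Units.val_mul, ← Units.val_mul, h y hy])
  exact mem_scalars_of_eq_smul x c hc

/-- L3.  `x` is not central (B1), so `y x y⁻¹ = λ x` for some `y ∈ N` and a scalar `λ ≠ 1`; `tr x = λ tr x`. -/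
theorem trace_eq_zero (habs : AbsIrr N) (hcomm : ⁅N, N⁆ ≤ scalars (Fin n) F) {x : GL (Fin n) F} (hx : x ∈ N)
    (hxs : x ∉ scalars (Fin n) F) : Matrix.trace (x : Matrix (Fin n) (Fin n) F) = 0 := by
  have hex : ∃ y ∈ N, x * y ≠ y * x := by
    by_contra hcon
    push Not at hcon
    exact hxs (mem_scalars_of_commutes habs x hcon)
  obtain ⟨y, hy, hxy⟩ := hex
  have hsc : ⁅y, x⁆ ∈ scalars (Fin n) F := hcomm (Subgroup.commutator_mem_commutator hy hx)
  rw [mem_scalars_iff] at hsc
  obtain ⟨c, hc⟩ := hsc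
  have hc1 : (c : F) ≠ 1 := by
    intro h1
    apply hxy
    rw [h1, one_smul] at hc
    have h2 : ⁅y, x⁆ = 1 := Units.ext hc
    rw [commutatorElement_eq_one_iff_mul_comm] at h2
    exact h2.symm
  -- `y x y⁻¹ = c x`
  have h1 : y * x * y⁻¹ = ⁅y, x⁆ * x := by
    rw [commutatorElement_def]; group
  have h2 : (y : Matrix (Fin n) (Fin n) F) * (x : Matrix (Fin n) (Fin n) F) *
      ((y⁻¹ : GL (Fin n) F) : Matrix (Fin n) (Fin n) F) = (c : F) • (x : Matrix (Fin n) (Fin n) F) := by
    have := congrArg (fun g : GL (Fin n) F => (g : Matrix (Fin n) (Fin n) F)) h1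
    simp only [Units.val_mul] at this
    rw [this, hc, Matrix.smul_mul, one_mul]
  have h3 : Matrix.trace ((y : Matrix (Fin n) (Fin n) F) * (x : Matrix (Fin n) (Fin n) F) *
      ((y⁻¹ : GL (Fin n) F) : Matrix (Fin n) (Fin n) F)) = Matrix.trace (x : Matrix (Fin n) (Fin n) F) := by
    rw [Matrix.trace_mul_comm, ← mul_assoc, ← Units.val_mul, inv_mul_cancel, Units.val_one, one_mul]
  rw [h2, Matrix.trace_smul, smul_eq_mul] at h3
  have h4 : ((c : F) - 1) * Matrix.trace (x : Matrix (Fin n) (Fin n) F) = 0 := by linear_combination h3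
  rcases mul_eq_zero.mp h4 with h | h
  · exact absurd (sub_eq_zero.mp h) hc1
  · exact h

end Cfsg.Agent.Lib.Helper27.AschA7Leaf
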