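import Mathlib
import Cfsg.Agent.Lib.Helper20.AschDefs
import Cfsg.Agent.Lib.Helper20.SympC2
import Cfsg.Agent.Lib.Helper24.AschA7Defs
import Cfsg.Agent.Lib.Helper27.AschA7L3

set_option autoImplicit false
set_option linter.style.haveILetI false
set_option linter.unusedSectionVars false
set_option linter.unusedVariables false

namespace Cfsg.Agent.Lib.Helper27.AschA7Leaf
open Matrix Cfsg.Geo Cfsg.Agent.Lib.Helper20.Asch Cfsg.Agent.Lib.Helper24.AschA7
open scoped Kronecker commutatorElement

variable {F : Type*} [Field F] [Fintype F] {n : ℕ} {H N : Subgroup (GL (Fin n) F)}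

/-- B1 (own copy): the centre of an absolutely irreducible group consists of its scalars -/
lemma mem_center_iff_scalar' (habs : AbsIrr N) (x : N) :
    x ∈ Subgroup.center N ↔ (x : GL (Fin n) F) ∈ scalars (Fin n) F := by
  constructor
  · intro hx
    apply mem_scalars_of_commutes habs
    intro y hy
    have := (Subgroup.mem_center_iff.mp hx) ⟨y, hy⟩
    have h2 := congrArg (fun g : N => (g : GL (Fin n) F)) this
    simpa using h2.symm
  · intro hx
    rw [Subgroup.mem_center_iff]
    intro g
    rw [mem_scalars_iff] at hx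
    obtain ⟨c, hc⟩ := hx
    apply Subtype.ext
    apply Units.ext
    simp only [Subgroup.coe_mul, Units.val_mul, hc, Matrix.mul_smul, Matrix.smul_mul, mul_one, one_mul]

/-- the elementary matrix as a product of a column and a row -/
def Eij (F : Type*) [Field F] {n : ℕ} (i j : Fin n) : Matrix (Fin n) (Fin n) F :=
  vecMulVec (Pi.single i 1) (Pi.single j 1)

lemma sandwich_apply (x : Matrix (Fin n) (Fin n) F) (i j a b : Fin n) :
    (xᵀ * Eij F i j * x) a b = x i a * x j b := by
  unfold Eij
  rw [Matrix.mul_vecMulVec, Matrix.vecMulVec_mul, Matrix.vecMulVec_apply, Matrix.mulVec_single_one,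
    Matrix.single_one_vecMul]
  rfl

/-- L7. -/
theorem exists_invariant_bilinear (habs : AbsIrr N) (h2 : (2 : F) ≠ 0) (hn0 : (n : F) ≠ 0)
    (hZ : Nat.card (Subgroup.center N) = 2)
    (htr : ∀ x ∈ N, x ∉ scalars (Fin n) F → Matrix.trace (x : Matrix (Fin n) (Fin n) F) = 0) :
    ∃ B : Matrix (Fin n) (Fin n) F, B ≠ 0 ∧
      ∀ x ∈ N, (x : Matrix (Fin n) (Fin n) F)ᵀ * B * (x : Matrix (Fin n) (Fin n) F) = B := by
  classical
  letI : Fintype N := Fintype.ofFinite N
  by_contra hcon
  push Not at hcon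
  -- the averaged forms
  let B : Fin n → Fin n → Matrix (Fin n) (Fin n) F := fun i j =>
    ∑ x : N, ((x : GL (Fin n) F) : Matrix (Fin n) (Fin n) F)ᵀ * Eij F i j *
      ((x : GL (Fin n) F) : Matrix (Fin n) (Fin n) F)
  have hinv : ∀ i j, ∀ y ∈ N, (y : Matrix (Fin n) (Fin n) F)ᵀ * B i j * (y : Matrix (Fin n) (Fin n) F) = B i j := by
    intro i j y hy
    change (y : Matrix (Fin n) (Fin n) F)ᵀ * (∑ x : N, _) * (y : Matrix (Fin n) (Fin n) F) = ∑ x : N, _
    rw [Finset.mul_sum, Finset.sum_mul]
    rw [← Equiv.sum_comp (Equiv.mulRight (⟨y, hy⟩ : N))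
      (fun x : N => ((x : GL (Fin n) F) : Matrix (Fin n) (Fin n) F)ᵀ * Eij F i j *
        ((x : GL (Fin n) F) : Matrix (Fin n) (Fin n) F))]
    refine Finset.sum_congr rfl fun x _ => ?_
    simp only [Equiv.coe_mulRight, Subgroup.coe_mul, Units.val_mul, Matrix.transpose_mul, mul_assoc]
  have hB0 : ∀ i j, B i j = 0 := by
    intro i j
    by_contra h
    obtain ⟨x, hx, hne⟩ := hcon (B i j) h
    exact hne (hinv i j x hx)
  -- the sum of the squares of the traces
  have hsum : ∑ x : N, (Matrix.trace ((x : GL (Fin n) F) : Matrix (Fin n) (Fin n) F)) ^ 2 = 0 := by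
    have h1 : ∑ i, ∑ j, (B i j) i j = 0 := by
      simp only [hB0, Matrix.zero_apply, Finset.sum_const_zero]
    rw [← h1]
    simp only [B, Matrix.sum_apply, sandwich_apply]
    have e1 : ∀ i : Fin n, ∑ j : Fin n, ∑ x : N,
        ((x : GL (Fin n) F) : Matrix (Fin n) (Fin n) F) i i * ((x : GL (Fin n) F) : Matrix (Fin n) (Fin n) F) j j =
        ∑ x : N, ∑ j : Fin n,
        ((x : GL (Fin n) F) : Matrix (Fin n) (Fin n) F) i i * ((x : GL (Fin n) F) : Matrix (Fin n) (Fin n) F) j j :=
      fun i => Finset.sum_comm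
    rw [Finset.sum_congr rfl (fun i _ => e1 i), Finset.sum_comm]
    refine Finset.sum_congr rfl fun x _ => ?_
    rw [Matrix.trace, sq, Finset.sum_mul_sum]
    rfl
  -- evaluate it
  have hval : ∀ x : N, (Matrix.trace ((x : GL (Fin n) F) : Matrix (Fin n) (Fin n) F)) ^ 2 =
      if x ∈ Subgroup.center N then (n : F) ^ 2 else 0 := by
    intro x
    split_ifs with hx
    · have hx2 : (⟨x, hx⟩ : Subgroup.center N) ^ 2 = 1 := by
        rw [← hZ]; exact pow_card_eq_one'
      have hx2' : (x : GL (Fin n) F) ^ 2 = 1 := by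
        have := congrArg (fun g : Subgroup.center N => ((g : N) : GL (Fin n) F)) hx2
        simpa using this
      obtain ⟨c, hc⟩ := (mem_scalars_iff _).mp ((mem_center_iff_scalar' habs x).mp hx)
      have hcc : ((c : F) ^ 2) • (1 : Matrix (Fin n) (Fin n) F) = 1 := by
        have := congrArg (fun g : GL (Fin n) F => (g : Matrix (Fin n) (Fin n) F)) hx2'
        simp only [Units.val_pow_eq_pow_val, Units.val_one, hc] at this
        rw [smul_pow, one_pow] at this
        exact this
      rw [hc, Matrix.trace_smul, Matrix.trace_one, Fintype.card_fin, smul_eq_mul, mul_pow]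
      by_cases hn : n = 0
      · subst hn; simp
      · have h00 : ((c : F) ^ 2) = 1 := by
          have := congrFun (congrFun hcc ⟨0, Nat.pos_of_ne_zero hn⟩) ⟨0, Nat.pos_of_ne_zero hn⟩
          simpa using this
        rw [h00, one_mul]
    · rw [htr x x.2 (fun h => hx ((mem_center_iff_scalar' habs x).mpr h))]
      ring
  rw [Finset.sum_congr rfl (fun x _ => hval x), Finset.sum_ite, Finset.sum_const_zero, add_zero,
    Finset.sum_const] at hsum
  have hcard : (Finset.univ.filter (fun x : N => x ∈ Subgroup.center N)).card = 2 := by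
    rw [← hZ, Nat.card_eq_fintype_card, Fintype.card_subtype]
  rw [hcard] at hsum
  have : (2 : F) * (n : F) ^ 2 = 0 := by
    rw [← hsum]; simp [two_mul]
  rcases mul_eq_zero.mp this with h | h
  · exact h2 h
  · exact hn0 ((pow_eq_zero_iff (two_ne_zero)).mp h)
end Cfsg.Agent.Lib.Helper27.AschA7Leaf
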