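import Mathlib
import Cfsg.Agent.Lib.Helper20.AschDefs
import Cfsg.Agent.Lib.Helper20.SympC2
import Cfsg.Agent.Lib.Helper24.AschA7Defs
import Cfsg.Agent.Lib.Helper27.AschA7L7

set_option autoImplicit false
set_option linter.style.haveILetI false
set_option linter.unusedSectionVars false
set_option linter.unusedVariables false

namespace Cfsg.Agent.Lib.Helper27.AschA7Leaf
open Matrix Cfsg.Geo Cfsg.Agent.Lib.Helper20.Asch Cfsg.Agent.Lib.Helper24.AschA7
open scoped Kronecker commutatorElement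

variable {F : Type*} [Field F] [Fintype F] {n : ℕ} {H N : Subgroup (GL (Fin n) F)}

/-- the matrix of an element of `N` -/
abbrev mat (x : N) : Matrix (Fin n) (Fin n) F := ((x : GL (Fin n) F) : Matrix (Fin n) (Fin n) F)

lemma mat_mul (x y : N) : mat (x * y) = mat x * mat y := rfl

lemma mat_one : mat (1 : N) = 1 := rfl

lemma mat_inv_mul (x : N) : mat x⁻¹ * mat x = 1 := by
  rw [← mat_mul, inv_mul_cancel, mat_one]

lemma mat_mul_inv (x : N) : mat x * mat x⁻¹ = 1 := by
  rw [← mat_mul, mul_inv_cancel, mat_one]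

lemma mat_injective : Function.Injective (mat : N → Matrix (Fin n) (Fin n) F) := by
  intro x y h
  exact Subtype.ext (Units.ext h)

/-- the commutator of two elements of `N` is a scalar matrix -/
lemma mat_comm_eq (hn : 0 < n) (hcomm : ⁅N, N⁆ ≤ scalars (Fin n) F) (y t : N) :
    mat ⁅y, t⁆ = (mat ⁅y, t⁆ ⟨0, hn⟩ ⟨0, hn⟩) • (1 : Matrix (Fin n) (Fin n) F) := by
  have h1 : ((⁅y, t⁆ : N) : GL (Fin n) F) ∈ scalars (Fin n) F := by
    apply hcomm
    have : ((⁅y, t⁆ : N) : GL (Fin n) F) = ⁅(y : GL (Fin n) F), (t : GL (Fin n) F)⁆ := by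
      simp [commutatorElement_def]
    rw [this]
    exact Subgroup.commutator_mem_commutator y.2 t.2
  obtain ⟨c, hc⟩ := (mem_scalars_iff _).mp h1
  have hc' : mat ⁅y, t⁆ = (c : F) • (1 : Matrix (Fin n) (Fin n) F) := hc
  rw [hc']
  simp

lemma scal_calc (A Ai : Matrix (Fin n) (Fin n) F) (c c' : F) (h : A * Ai = 1) :
    A * (c' • (1 : Matrix (Fin n) (Fin n) F)) * Ai * (c • (1 : Matrix (Fin n) (Fin n) F)) =
      (c * c') • (1 : Matrix (Fin n) (Fin n) F) := by
  rw [Matrix.mul_smul, mul_one, Matrix.mul_smul, mul_one, Matrix.smul_mul, h, smul_smul]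

/-- the character `y ↦ ⁅y, t⁆` -/
noncomputable def lam (hn : 0 < n) (hcomm : ⁅N, N⁆ ≤ scalars (Fin n) F) (t : N) : N →* F where
  toFun y := mat ⁅y, t⁆ ⟨0, hn⟩ ⟨0, hn⟩
  map_one' := by
    have : (⁅(1 : N), t⁆ : N) = 1 := by simp [commutatorElement_def]
    rw [this, mat_one]
    simp
  map_mul' y y' := by
    have h1 : (⁅y * y', t⁆ : N) = y * ⁅y', t⁆ * y⁻¹ * ⁅y, t⁆ := by
      simp only [commutatorElement_def]; group
    have h2 : mat (y * ⁅y', t⁆ * y⁻¹ * ⁅y, t⁆) =
        (mat ⁅y, t⁆ ⟨0, hn⟩ ⟨0, hn⟩ * mat ⁅y', t⁆ ⟨0, hn⟩ ⟨0, hn⟩) • (1 : Matrix (Fin n) (Fin n) F) := by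
      rw [mat_mul, mat_mul, mat_mul]
      have e1 := mat_comm_eq hn hcomm y' t
      have e2 := mat_comm_eq hn hcomm y t
      set c' := mat ⁅y', t⁆ ⟨0, hn⟩ ⟨0, hn⟩
      set c := mat ⁅y, t⁆ ⟨0, hn⟩ ⟨0, hn⟩
      rw [e1, e2]
      exact scal_calc _ _ c c' (mat_mul_inv y)
    rw [h1, h2]
    simp

lemma lam_apply (hn : 0 < n) (hcomm : ⁅N, N⁆ ≤ scalars (Fin n) F) (t y : N) :
    lam hn hcomm t y = mat ⁅y, t⁆ ⟨0, hn⟩ ⟨0, hn⟩ := rfl

/-- conjugation multiplies by the character -/
lemma conj_eq_lam (hn : 0 < n) (hcomm : ⁅N, N⁆ ≤ scalars (Fin n) F) (t y : N) :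
    mat y * mat t * mat y⁻¹ = lam hn hcomm t y • mat t := by
  have h1 : y * t * y⁻¹ = ⁅y, t⁆ * t := by
    simp only [commutatorElement_def]; group
  rw [← mat_mul, ← mat_mul, h1, mat_mul, mat_comm_eq hn hcomm y t, Matrix.smul_mul, one_mul]
  rfl

/-- equal characters: same coset of the centre -/
lemma inv_mul_mem_center_of_lam_eq (hn : 0 < n) (hcomm : ⁅N, N⁆ ≤ scalars (Fin n) F) (t t' : N)
    (h : lam hn hcomm t = lam hn hcomm t') : t'⁻¹ * t ∈ Subgroup.center N := by
  rw [Subgroup.mem_center_iff]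
  intro g
  have h1 : ∀ y : N, (⁅y, t⁆ : N) = ⁅y, t'⁆ := by
    intro y
    apply mat_injective
    rw [mat_comm_eq hn hcomm y t, mat_comm_eq hn hcomm y t']
    have := DFunLike.congr_fun h y
    rw [lam_apply, lam_apply] at this
    rw [this]
  have h2 := h1 g⁻¹
  simp only [commutatorElement_def, inv_inv] at h2
  calc g * (t'⁻¹ * t) = t'⁻¹ * (g * (g⁻¹ * t' * g * t'⁻¹)) * t := by group
    _ = t'⁻¹ * (g * (g⁻¹ * t * g * t⁻¹)) * t := by rw [h2]
    _ = t'⁻¹ * t * g := by group

/-- representatives of the cosets of the centre are linearly independent -/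
lemma linearIndependent_out (hn : 0 < n) (hcomm : ⁅N, N⁆ ≤ scalars (Fin n) F) :
    LinearIndependent F (fun q : N ⧸ Subgroup.center N => mat (Quotient.out q)) := by
  classical
  haveI : Finite N := inferInstance
  letI : Fintype (N ⧸ Subgroup.center N) := Fintype.ofFinite _
  -- the characters are pairwise distinct
  have hinj : Function.Injective (fun q : N ⧸ Subgroup.center N => lam hn hcomm (Quotient.out q)) := by
    intro q q' h
    have h1 := inv_mul_mem_center_of_lam_eq hn hcomm _ _ h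
    have h2 : (QuotientGroup.mk (Quotient.out q') : N ⧸ Subgroup.center N) = QuotientGroup.mk (Quotient.out q) :=
      QuotientGroup.eq.mpr h1
    rw [QuotientGroup.out_eq', QuotientGroup.out_eq'] at h2
    exact h2.symm
  have hli : LinearIndependent F (fun q : N ⧸ Subgroup.center N =>
      ((lam hn hcomm (Quotient.out q) : N →* F) : N → F)) :=
    (linearIndependent_monoidHom N F).comp _ hinj
  rw [Fintype.linearIndependent_iff]
  intro c hc q
  -- conjugate the relation
  have hrel : ∀ y : N, ∑ q : N ⧸ Subgroup.center N,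
      (c q * lam hn hcomm (Quotient.out q) y) • mat (Quotient.out q) = 0 := by
    intro y
    have h1 : mat y * (∑ q : N ⧸ Subgroup.center N, c q • mat (Quotient.out q)) * mat y⁻¹ = 0 := by
      rw [hc, mul_zero, zero_mul]
    rw [Finset.mul_sum, Finset.sum_mul] at h1
    rw [← h1]
    refine Finset.sum_congr rfl fun q _ => ?_
    rw [Matrix.mul_smul, Matrix.smul_mul, conj_eq_lam hn hcomm, smul_smul]
  -- entrywise
  have hent : ∀ a b : Fin n, c q * mat (Quotient.out q) a b = 0 := by
    intro a b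
    have h2 : ∑ q : N ⧸ Subgroup.center N, (c q * mat (Quotient.out q) a b) •
        ((lam hn hcomm (Quotient.out q) : N →* F) : N → F) = 0 := by
      funext y
      have := congrFun (congrFun (hrel y) a) b
      rw [Matrix.sum_apply, Matrix.zero_apply] at this
      rw [Finset.sum_apply, Pi.zero_apply, ← this]
      refine Finset.sum_congr rfl fun q _ => ?_
      rw [Pi.smul_apply, Matrix.smul_apply, smul_eq_mul, smul_eq_mul]
      ring
    exact (Fintype.linearIndependent_iff.mp hli) _ h2 q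
  -- some entry of an invertible matrix is non-zero
  by_contra hcq
  have h0 : mat (Quotient.out q) = 0 := by
    ext a b
    rcases mul_eq_zero.mp (hent a b) with h | h
    · exact absurd h hcq
    · exact h
  have h1 := mat_mul_inv (Quotient.out q)
  rw [h0, zero_mul] at h1
  have := congrFun (congrFun h1 ⟨0, hn⟩) ⟨0, hn⟩
  simp at this

/-- representatives of the cosets of the centre span the enveloping algebra -/
lemma span_out_eq_top (habs : AbsIrr N) (henv : Env N = ⊤) :
    Submodule.span F (Set.range (fun q : N ⧸ Subgroup.center N => mat (Quotient.out q))) = ⊤ := by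
  rw [eq_top_iff]
  have h1 : (⊤ : Submodule F (Matrix (Fin n) (Fin n) F)) = Subalgebra.toSubmodule (Env N) := by
    rw [henv]; simp
  rw [h1]
  unfold Env
  rw [Algebra.adjoin_eq_span]
  apply Submodule.span_le.mpr
  -- the closure of `matrixSet N` is `matrixSet N`
  have hcl : (Submonoid.closure (matrixSet N) : Set (Matrix (Fin n) (Fin n) F)) ⊆ matrixSet N := by
    let M : Submonoid (Matrix (Fin n) (Fin n) F) :=
      Submonoid.map (Units.coeHom (Matrix (Fin n) (Fin n) F)) N.toSubmonoid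
    have hM : (M : Set (Matrix (Fin n) (Fin n) F)) = matrixSet N := rfl
    rw [← hM]
    exact Submonoid.closure_le.mpr (by rw [hM])
  intro X hX
  obtain ⟨x, hx, rfl⟩ := hcl hX
  -- `x = t_q * z` with `z` central, hence scalar
  set q : N ⧸ Subgroup.center N := QuotientGroup.mk (⟨x, hx⟩ : N) with hq
  have hz : (Quotient.out q)⁻¹ * (⟨x, hx⟩ : N) ∈ Subgroup.center N := by
    apply QuotientGroup.eq.mp
    rw [QuotientGroup.out_eq']
  obtain ⟨c, hc⟩ := (mem_scalars_iff _).mp ((mem_center_iff_scalar' habs _).mp hz)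
  have hc' : mat ((Quotient.out q)⁻¹ * (⟨x, hx⟩ : N)) = (c : F) • (1 : Matrix (Fin n) (Fin n) F) := hc
  have hx' : (x : Matrix (Fin n) (Fin n) F) = (c : F) • mat (Quotient.out q) := by
    have : (x : Matrix (Fin n) (Fin n) F) = mat (Quotient.out q) * mat ((Quotient.out q)⁻¹ * (⟨x, hx⟩ : N)) := by
      rw [← mat_mul, mul_inv_cancel_left]
    rw [this, hc', Matrix.mul_smul, mul_one]
  change (x : Matrix (Fin n) (Fin n) F) ∈ _
  rw [hx']
  exact Submodule.smul_mem _ _ (Submodule.subset_span ⟨q, rfl⟩)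

/-- L2. -/
theorem card_eq_sq_mul (hn : 0 < n) (habs : AbsIrr N) (henv : Env N = ⊤) (hcomm : ⁅N, N⁆ ≤ scalars (Fin n) F) :
    Nat.card N = n * n * Nat.card (Subgroup.center N) := by
  classical
  haveI : Finite N := inferInstance
  letI : Fintype (N ⧸ Subgroup.center N) := Fintype.ofFinite _
  let b : Module.Basis (N ⧸ Subgroup.center N) F (Matrix (Fin n) (Fin n) F) :=
    Module.Basis.mk (linearIndependent_out hn hcomm) (by rw [span_out_eq_top habs henv])
  have h1 : Module.finrank F (Matrix (Fin n) (Fin n) F) = Fintype.card (N ⧸ Subgroup.center N) :=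
    Module.finrank_eq_card_basis b
  rw [Module.finrank_matrix, Fintype.card_fin, Module.finrank_self, mul_one] at h1
  rw [Subgroup.card_eq_card_quotient_mul_card_subgroup (Subgroup.center N), Nat.card_eq_fintype_card, ← h1]

end Cfsg.Agent.Lib.Helper27.AschA7Leaf
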