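import Mathlib
import Cfsg.Agent.Lib.Helper20.AschDefs
import Cfsg.Agent.Lib.Helper20.SympC2
import Cfsg.Agent.Lib.Helper24.AschA7Defs
import Cfsg.Agent.Lib.Helper27.AschO4

set_option autoImplicit false
set_option linter.unusedSectionVars false
set_option linter.unusedVariables false

namespace Cfsg.Agent.Lib.Helper27.AschA7Leaf
open Matrix Cfsg.Geo Cfsg.Agent.Lib.Helper20.Asch Cfsg.Agent.Lib.Helper24.AschA7
open Cfsg.Agent.Lib.Helper27.AschO4
open scoped Kronecker commutatorElement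

variable {F : Type*} [Field F] [Fintype F] {n : ℕ} {H N : Subgroup (GL (Fin n) F)}

/-- an invariant non-zero bilinear form of an irreducible group is non-degenerate -/
lemma det_ne_zero_of_invariant (hirr : Irr N) (B : Matrix (Fin n) (Fin n) F)
    (hB0 : B ≠ 0) (hB : ∀ x ∈ N, (x : Matrix (Fin n) (Fin n) F)ᵀ * B * (x : Matrix (Fin n) (Fin n) F) = B) :
    B.det ≠ 0 := by
  intro hdet
  -- the kernel
  let W : Submodule F (Fin n → F) := LinearMap.ker (Matrix.toLin' B)
  have hW : ∀ s ∈ matrixSet N, W.map (Matrix.toLin' s) ≤ W := by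
    rintro _ ⟨x, hx, rfl⟩ _ ⟨v, hv, rfl⟩
    have hv' : B *ᵥ v = 0 := by simpa [W] using hv
    change Matrix.toLin' (x : Matrix (Fin n) (Fin n) F) v ∈ W
    rw [LinearMap.mem_ker, Matrix.toLin'_apply, Matrix.toLin'_apply]
    -- `B x = (x⁻¹)ᵀ B`
    have h1 := hB x⁻¹ (N.inv_mem hx)
    have h2 : ((x⁻¹ : GL (Fin n) F) : Matrix (Fin n) (Fin n) F) * (x : Matrix (Fin n) (Fin n) F) = 1 := by
      rw [← Units.val_mul, inv_mul_cancel, Units.val_one]
    have h3 : B * (x : Matrix (Fin n) (Fin n) F) =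
        ((x⁻¹ : GL (Fin n) F) : Matrix (Fin n) (Fin n) F)ᵀ * B := by
      calc B * (x : Matrix (Fin n) (Fin n) F)
          = ((x⁻¹ : GL (Fin n) F) : Matrix (Fin n) (Fin n) F)ᵀ * B *
              ((x⁻¹ : GL (Fin n) F) : Matrix (Fin n) (Fin n) F) * (x : Matrix (Fin n) (Fin n) F) := by
            rw [h1]
        _ = _ := by rw [mul_assoc, h2, mul_one]
    rw [Matrix.mulVec_mulVec, h3, ← Matrix.mulVec_mulVec, hv', Matrix.mulVec_zero]
  rcases hirr W hW with h | h
  · obtain ⟨v, hv0, hv⟩ := Matrix.exists_mulVec_eq_zero_iff.mpr hdet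
    have : v ∈ W := by
      rw [LinearMap.mem_ker, Matrix.toLin'_apply]; exact hv
    rw [h] at this
    exact hv0 ((Submodule.mem_bot F).mp this)
  · apply hB0
    ext i j
    have : (Pi.single j 1 : Fin n → F) ∈ W := by rw [h]; trivial
    rw [LinearMap.mem_ker, Matrix.toLin'_apply, Matrix.mulVec_single_one] at this
    have := congrFun this i
    simpa using this

/-- L8.  `ker B` is `N`-invariant and proper, so `B` is invertible; `B⁻¹ Bᵀ` commutes with `N`, so `Bᵀ = c B`, `c² = 1`: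
`c = 1` gives the quadratic form `Q v = v ⬝ᵥ B *ᵥ v` (polar form `2 B`), `c = -1` the symplectic form `u ⬝ᵥ B *ᵥ v`. -/
theorem form_of_invariant_bilinear (habs : AbsIrr N) (h2 : (2 : F) ≠ 0) (B : Matrix (Fin n) (Fin n) F)
    (hB0 : B ≠ 0) (hB : ∀ x ∈ N, (x : Matrix (Fin n) (Fin n) F)ᵀ * B * (x : Matrix (Fin n) (Fin n) F) = B) :
    (∃ Q : (Fin n → F) → F, IsNondegenerateQuadraticForm Q ∧ FixesQuadForm (matrixSet N) Q) ∨
      (∃ f : (Fin n → F) → (Fin n → F) → F, IsSymplecticForm f ∧ FixesForm (matrixSet N) f) := by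
  have hdet : B.det ≠ 0 := det_ne_zero_of_invariant habs.1 B hB0 hB
  have hunit : IsUnit B.det := isUnit_iff_ne_zero.mpr hdet
  have hBi : B⁻¹ * B = 1 := Matrix.nonsing_inv_mul B hunit
  have hBi' : B * B⁻¹ = 1 := Matrix.mul_nonsing_inv B hunit
  -- `B x = (x⁻¹)ᵀ B` and `Bᵀ x = (x⁻¹)ᵀ Bᵀ`
  have hkey : ∀ x ∈ N, ∀ C : Matrix (Fin n) (Fin n) F,
      (∀ y ∈ N, (y : Matrix (Fin n) (Fin n) F)ᵀ * C * (y : Matrix (Fin n) (Fin n) F) = C) →
      C * (x : Matrix (Fin n) (Fin n) F) = ((x⁻¹ : GL (Fin n) F) : Matrix (Fin n) (Fin n) F)ᵀ * C := by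
    intro x hx C hC
    have h1 := hC x⁻¹ (N.inv_mem hx)
    have h2 : ((x⁻¹ : GL (Fin n) F) : Matrix (Fin n) (Fin n) F) * (x : Matrix (Fin n) (Fin n) F) = 1 := by
      rw [← Units.val_mul, inv_mul_cancel, Units.val_one]
    calc C * (x : Matrix (Fin n) (Fin n) F)
        = ((x⁻¹ : GL (Fin n) F) : Matrix (Fin n) (Fin n) F)ᵀ * C *
            ((x⁻¹ : GL (Fin n) F) : Matrix (Fin n) (Fin n) F) * (x : Matrix (Fin n) (Fin n) F) := by
          rw [h1]
      _ = _ := by rw [mul_assoc, h2, mul_one]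
  have hBt : ∀ y ∈ N, (y : Matrix (Fin n) (Fin n) F)ᵀ * Bᵀ * (y : Matrix (Fin n) (Fin n) F) = Bᵀ := by
    intro y hy
    have := congrArg Matrix.transpose (hB y hy)
    rw [Matrix.transpose_mul, Matrix.transpose_mul, Matrix.transpose_transpose, ← mul_assoc] at this
    exact this
  -- `B⁻¹ Bᵀ` commutes with `N`
  have hcommM : ∀ s ∈ matrixSet N, (B⁻¹ * Bᵀ) * s = s * (B⁻¹ * Bᵀ) := by
    rintro _ ⟨x, hx, rfl⟩
    have e1 : B * ((B⁻¹ * Bᵀ) * (x : Matrix (Fin n) (Fin n) F)) =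
        B * ((x : Matrix (Fin n) (Fin n) F) * (B⁻¹ * Bᵀ)) := by
      calc B * ((B⁻¹ * Bᵀ) * (x : Matrix (Fin n) (Fin n) F))
          = (B * B⁻¹) * (Bᵀ * (x : Matrix (Fin n) (Fin n) F)) := by simp only [mul_assoc]
        _ = ((x⁻¹ : GL (Fin n) F) : Matrix (Fin n) (Fin n) F)ᵀ * Bᵀ := by
            rw [hBi', one_mul, hkey x hx Bᵀ hBt]
        _ = ((x⁻¹ : GL (Fin n) F) : Matrix (Fin n) (Fin n) F)ᵀ * B * (B⁻¹ * Bᵀ) := by
            rw [mul_assoc, ← mul_assoc B, hBi', one_mul]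
        _ = B * ((x : Matrix (Fin n) (Fin n) F) * (B⁻¹ * Bᵀ)) := by
            rw [← hkey x hx B hB]; simp only [mul_assoc]
    have := congrArg (fun T => B⁻¹ * T) e1
    simp only [← mul_assoc, hBi, one_mul] at this
    simpa only [mul_assoc] using this
  obtain ⟨c, hc⟩ := habs.2 _ hcommM
  have hBtc : Bᵀ = c • B := by
    have := congrArg (fun T => B * T) hc
    simp only [← mul_assoc, hBi', one_mul] at this
    rw [this, Matrix.mul_smul, mul_one]
  have hcc : c * c = 1 := by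
    have h1 : B = (c * c) • B := by
      conv_lhs => rw [← Matrix.transpose_transpose B, hBtc, Matrix.transpose_smul, hBtc, smul_smul]
    by_contra hne
    apply hB0
    have h3 : (1 - c * c) • B = 0 := by
      rw [sub_smul, one_smul, ← h1, sub_self]
    rcases smul_eq_zero.mp h3 with h4 | h4
    · exact absurd (sub_eq_zero.mp h4).symm hne
    · exact h4
  have hc1 : c = 1 ∨ c = -1 := by
    have : (c - 1) * (c + 1) = 0 := by linear_combination hcc
    rcases mul_eq_zero.mp this with h | h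
    · left; linear_combination h
    · right; linear_combination h
  have hfix : ∀ s ∈ matrixSet N, ∀ u v : Fin n → F, bf B (s *ᵥ u) (s *ᵥ v) = bf B u v := by
    rintro _ ⟨x, hx, rfl⟩ u v
    rw [← bf_congr, hB x hx]
  rcases hc1 with rfl | rfl
  · left
    rw [one_smul] at hBtc
    exact ⟨fun v => bf B v v, quad_of_symm B hBtc h2 hdet, fun s hs v => hfix s hs v v⟩
  · right
    have halt : ∀ v, bf B v v = 0 := by
      intro v
      have h1 : bf B v v = bf Bᵀ v v := by
        unfold bf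
        rw [Matrix.dotProduct_mulVec, ← Matrix.mulVec_transpose, dotProduct_comm]
      rw [hBtc] at h1
      have h3 : bf ((-1 : F) • B) v v = - bf B v v := by
        unfold bf
        rw [Matrix.smul_mulVec, dotProduct_smul, smul_eq_mul]; ring
      rw [h3] at h1
      have h4 : (2 : F) * bf B v v = 0 := by linear_combination h1
      rcases mul_eq_zero.mp h4 with h | h
      · exact absurd h h2
      · exact h
    exact ⟨bf B, symp_of_alt B halt hdet, hfix⟩

end Cfsg.Agent.Lib.Helper27.AschA7Leaf
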