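import Mathlib
import Cfsg.Prelude.Def_Classical
import Cfsg.Prelude.Def_ClassicalGeometry
import Cfsg.Prelude.Def_GeometricClasses
import Cfsg.Agent.Lib.Helper5.SUMax
import Cfsg.Agent.Lib.Helper5.UForm
import Cfsg.Agent.Lib.Helper5.HermBridge
import Cfsg.Agent.Lib.Helper22.C3LDefs
import Cfsg.Agent.Lib.Helper22.C3LTool
import Cfsg.Agent.Lib.Helper16.C3uDefs
import Cfsg.Agent.Lib.Helper12.C3uF
import Cfsg.Agent.Lib.Helper27.C3u2CW0

/-!
S5840 / S5801 unitary C3, stage (A) (planner helper6/helper13): leaf **CW1** (helper27).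
A totally isotropic `F`-subspace of `F`-dimension at least `[E:F]` contains a non-zero `E`-isotropic
vector: `F₀ = Fix(c ↦ c^q)` (`fix0`, `[F:F₀] = 2`: `finrank_fix0`), `Z = {e : st e = e, τ e = 0}` (`zE`) has
`F₀`-dimension `< [E:F]` (`finrank_zE_lt`), and `w ↦ fE w w` maps `W` into `Z`: Chevalley-Warning (CW0).
-/

set_option autoImplicit false
set_option linter.unusedSectionVars false
set_option linter.unusedVariables false

namespace Cfsg.Agent.Lib.Helper27.C3u2Leaf
open Cfsg Matrix Module Cfsg.Agent.Lib.Helper5.SpMax Cfsg.Agent.Lib.Helper5.SUMax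
  Cfsg.Agent.Lib.Helper22.C3L Cfsg.Agent.Lib.Helper16.C3u Cfsg.Agent.Lib.Helper5.HermBridge

universe u
variable {F : Type u} [Field F] [Fintype F] {n q : ℕ} {E : Type u} [Field E] [Algebra F E]

local notation "𝕍" => (Fin n → F)
local notation "𝕄" => Matrix (Fin n) (Fin n) F

/-- the fixed field of `c ↦ c ^ q` -/
noncomputable def fix0 (hF : Fintype.card F = q ^ 2) : Subfield F :=
  ((frobQ hF : F ≃+* F) : F →+* F).eqLocusField (RingHom.id F)

theorem mem_fix0 (hF : Fintype.card F = q ^ 2) (c : F) : c ∈ fix0 hF ↔ c ^ q = c := Iff.rfl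

/-- decomposition `x = a + θ b` with `a, b` fixed -/
theorem decomp_fix0 (hF : Fintype.card F = q ^ 2) {θ : F} (hθ : θ ^ q ≠ θ) (x : F) :
    ∃ a ∈ fix0 hF, ∃ b ∈ fix0 hF, x = a + θ * b := by
  have hd : θ - θ ^ q ≠ 0 := fun h => hθ (sub_eq_zero.mp h).symm
  have hb : ((x - x ^ q) / (θ - θ ^ q)) ^ q = (x - x ^ q) / (θ - θ ^ q) := by
    have h1 : ((x - x ^ q) / (θ - θ ^ q)) ^ q = frobQ hF ((x - x ^ q) / (θ - θ ^ q)) := rfl
    rw [h1, map_div₀, map_sub, map_sub]
    simp only [frobQ_apply, pow_q_pow_q hF]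
    rw [← neg_sub x (x ^ q), ← neg_sub θ (θ ^ q), neg_div_neg_eq]
  refine ⟨x - θ * ((x - x ^ q) / (θ - θ ^ q)), ?_, (x - x ^ q) / (θ - θ ^ q), hb, by ring⟩
  rw [mem_fix0]
  have h1 : (x - θ * ((x - x ^ q) / (θ - θ ^ q))) ^ q =
      frobQ hF (x - θ * ((x - x ^ q) / (θ - θ ^ q))) := rfl
  rw [h1, map_sub, map_mul]
  simp only [frobQ_apply]
  rw [hb]
  field_simp
  ring


/-- the `F₀`-linear map `(a, b) ↦ a + θ b` -/
noncomputable def pairF (hF : Fintype.card F = q ^ 2) (θ : F) :
    (fix0 hF × fix0 hF) →ₗ[fix0 hF] F where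
  toFun p := (p.1 : F) + θ * (p.2 : F)
  map_add' p p' := by
    simp only [Prod.fst_add, Prod.snd_add, Subfield.coe_add]
    ring
  map_smul' c p := by
    simp only [Prod.smul_fst, Prod.smul_snd, smul_eq_mul, Subfield.coe_mul, RingHom.id_apply,
      Subfield.smul_def]
    ring

theorem pairF_bijective (hF : Fintype.card F = q ^ 2) {θ : F} (hθ : θ ^ q ≠ θ) :
    Function.Bijective (pairF hF θ) := by
  constructor
  · rw [← LinearMap.ker_eq_bot, LinearMap.ker_eq_bot']
    rintro ⟨a, b⟩ hab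
    have hab' : (a : F) + θ * (b : F) = 0 := hab
    have hb0 : (b : F) = 0 := by
      by_contra hb
      apply hθ
      have hθe : θ = - (a : F) / (b : F) := by
        field_simp
        linear_combination hab'
      have hmem : θ ∈ fix0 hF := by
        rw [hθe]
        exact (fix0 hF).div_mem ((fix0 hF).neg_mem a.2) b.2
      exact (mem_fix0 hF θ).mp hmem
    have ha0 : (a : F) = 0 := by
      rw [hb0, mul_zero, add_zero] at hab'
      exact hab'
    ext
    · exact ha0
    · exact hb0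
  · intro x
    obtain ⟨a, ha, b, hb, hx⟩ := decomp_fix0 hF hθ x
    exact ⟨(⟨a, ha⟩, ⟨b, hb⟩), hx.symm⟩

theorem finrank_fix0 (hF : Fintype.card F = q ^ 2) : finrank (fix0 hF) F = 2 := by
  obtain ⟨θ, hθ⟩ := Cfsg.Agent.Lib.Helper12.C3uLeaf.exists_pow_ne hF
  have e := LinearEquiv.ofBijective (pairF hF θ) (pairF_bijective hF hθ)
  rw [← e.finrank_eq, Module.finrank_prod, Module.finrank_self]


theorem st_fsmul (S : KU n q F E) (c : F) (e : E) : S.st (c • e) = (c ^ q) • S.st e := by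
  rw [Algebra.smul_def, map_mul, S.st_alg, ← Algebra.smul_def]

/-- the fixed points of `st`, as an `F₀`-subspace -/
def fixE (S : KU n q F E) (hF : Fintype.card F = q ^ 2) : Submodule (fix0 hF) E where
  carrier := {e | S.st e = e}
  add_mem' := by
    intro a b ha hb
    show S.st (a + b) = a + b
    rw [map_add, ha, hb]
  zero_mem' := map_zero _
  smul_mem' := by
    intro c e he
    show S.st (c • e) = c • e
    rw [Subfield.smul_def, st_fsmul, (mem_fix0 hF (c : F)).mp c.2, he]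

theorem mem_fixE (S : KU n q F E) (hF : Fintype.card F = q ^ 2) (e : E) :
    e ∈ fixE S hF ↔ S.st e = e := Iff.rfl

/-- the fixed points of `st` killed by `τ`, as an `F₀`-subspace -/
def zE (S : KU n q F E) (hF : Fintype.card F = q ^ 2) : Submodule (fix0 hF) E where
  carrier := {e | S.st e = e ∧ S.τ e = 0}
  add_mem' := by
    intro a b ha hb
    show S.st (a + b) = a + b ∧ S.τ (a + b) = 0
    rw [map_add, ha.1, hb.1, map_add, ha.2, hb.2, add_zero]
    exact ⟨rfl, rfl⟩
  zero_mem' := ⟨map_zero _, map_zero _⟩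
  smul_mem' := by
    intro c e he
    show S.st (c • e) = c • e ∧ S.τ (c • e) = 0
    rw [Subfield.smul_def, st_fsmul, (mem_fix0 hF (c : F)).mp c.2, he.1, map_smul, he.2, smul_zero]
    exact ⟨rfl, rfl⟩

theorem mem_zE (S : KU n q F E) (hF : Fintype.card F = q ^ 2) (e : E) :
    e ∈ zE S hF ↔ S.st e = e ∧ S.τ e = 0 := Iff.rfl

theorem zE_lt_fixE (S : KU n q F E) (hF : Fintype.card F = q ^ 2) (hn : 0 < n) :
    zE S hF < fixE S hF := by
  refine lt_of_le_of_ne (fun e he => he.1) ?_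
  intro heq
  obtain ⟨θ, hθ⟩ := Cfsg.Agent.Lib.Helper12.C3uLeaf.exists_pow_ne hF
  obtain ⟨e, he⟩ := Cfsg.Agent.Lib.Helper12.C3uLeaf.exists_tau_ne_zero S hn
  apply he
  have h1 : e + S.st e ∈ fixE S hF := by
    rw [mem_fixE, map_add, S.st_st, add_comm]
  have h2 : θ • e + S.st (θ • e) ∈ fixE S hF := by
    rw [mem_fixE, map_add, S.st_st, add_comm]
  rw [← heq] at h1 h2
  have t1 : S.τ e + (S.τ e) ^ q = 0 := by
    have := h1.2
    rwa [map_add, S.τ_st] at this
  have t2 : θ * S.τ e + (θ * S.τ e) ^ q = 0 := by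
    have := h2.2
    rwa [map_add, S.τ_st, map_smul, smul_eq_mul] at this
  have hd : θ - θ ^ q ≠ 0 := fun h => hθ (sub_eq_zero.mp h).symm
  have h3 : (S.τ e) ^ q = - S.τ e := by linear_combination t1
  rw [mul_pow, h3] at t2
  have h4 : (θ - θ ^ q) * S.τ e = 0 := by linear_combination t2
  rcases mul_eq_zero.mp h4 with h | h
  · exact absurd h hd
  · exact h

/-- the `F₀`-linear map `(A, B) ↦ A + θ B` on the fixed points of `st` -/
noncomputable def pairE (S : KU n q F E) (hF : Fintype.card F = q ^ 2) (θ : F) :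
    (fixE S hF × fixE S hF) →ₗ[fix0 hF] E where
  toFun p := (p.1 : E) + θ • (p.2 : E)
  map_add' p p' := by
    simp only [Prod.fst_add, Prod.snd_add, Submodule.coe_add, smul_add]
    abel
  map_smul' c p := by
    simp only [Prod.smul_fst, Prod.smul_snd, Submodule.coe_smul, RingHom.id_apply,
      Subfield.smul_def, smul_add, smul_smul, mul_comm]

theorem pairE_injective (S : KU n q F E) (hF : Fintype.card F = q ^ 2) {θ : F} (hθ : θ ^ q ≠ θ) :
    Function.Injective (pairE S hF θ) := by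
  rw [← LinearMap.ker_eq_bot, LinearMap.ker_eq_bot']
  rintro ⟨A, B⟩ hAB
  have h1 : (A : E) + θ • (B : E) = 0 := hAB
  have h2 : (A : E) + (θ ^ q) • (B : E) = 0 := by
    have := congrArg S.st h1
    rwa [map_add, st_fsmul, map_zero, A.2, B.2] at this
  have hd : θ - θ ^ q ≠ 0 := fun h => hθ (sub_eq_zero.mp h).symm
  have h3 : (θ - θ ^ q) • (B : E) = 0 := by
    rw [sub_smul]
    linear_combination (exp := 1) h1 - h2
  have hB : (B : E) = 0 := by
    rcases smul_eq_zero.mp h3 with h | h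
    · exact absurd h hd
    · exact h
  have hA : (A : E) = 0 := by
    rw [hB, smul_zero, add_zero] at h1
    exact h1
  ext
  · exact hA
  · exact hB


theorem finrank_zE_lt (S : KU n q F E) (hF : Fintype.card F = q ^ 2) [FiniteDimensional F E]
    (hn : 0 < n) : finrank (fix0 hF) (zE S hF) < finrank F E := by
  have : Finite E := Module.finite_of_finite F
  have : Module.Finite (fix0 hF) E := Module.Finite.of_finite
  obtain ⟨θ, hθ⟩ := Cfsg.Agent.Lib.Helper12.C3uLeaf.exists_pow_ne hF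
  have h1 : finrank (fix0 hF) (fixE S hF × fixE S hF) ≤ finrank (fix0 hF) E :=
    LinearMap.finrank_le_finrank_of_injective (pairE_injective S hF hθ)
  rw [Module.finrank_prod] at h1
  have h2 : finrank (fix0 hF) F * finrank F E = finrank (fix0 hF) E :=
    Module.finrank_mul_finrank (fix0 hF) F E
  rw [finrank_fix0] at h2
  have h3 : finrank (fix0 hF) (zE S hF) < finrank (fix0 hF) (fixE S hF) :=
    Submodule.finrank_lt_finrank_of_lt (zE_lt_fixE S hF hn)
  omega


/-- **CW1** a totally isotropic `F`-subspace of `F`-dimension `≥ [E:F]` contains a non-zero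
`E`-isotropic vector -/
theorem exists_iso_of_ti (S : KU n q F E) (hF : Fintype.card F = q ^ 2) [FiniteDimensional F E]
    (hn : 0 < n) (W : Submodule F 𝕍) (hW : ∀ x ∈ W, Cfsg.hermForm n F q x x = 0)
    (hdim : finrank F E ≤ finrank F W) : ∃ w ∈ W, w ≠ 0 ∧ S.fE w w = 0 := by
  have : Finite E := Module.finite_of_finite F
  have : Module.Finite (fix0 hF) E := Module.Finite.of_finite
  have : Module.Finite (fix0 hF) W := Module.Finite.of_finite
  haveI : Fintype (fix0 hF) := Fintype.ofFinite _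
  obtain ⟨P, hP⟩ := LinearMap.exists_leftInverse_of_injective (zE S hF).subtype
    (Submodule.ker_subtype _)
  have hc : ∀ c : fix0 hF, ((c : F)) ^ q = (c : F) := fun c => (mem_fix0 hF (c : F)).mp c.2
  let B : W →ₗ[fix0 hF] W →ₗ[fix0 hF] zE S hF :=
    LinearMap.mk₂ (fix0 hF) (fun x y => P (S.fE (x : 𝕍) (y : 𝕍)))
      (by
        intro x x' y
        show P (S.fE ((x + x' : W) : 𝕍) (y : 𝕍)) = _
        rw [Submodule.coe_add, S.add_left, map_add])
      (by
        intro c x y
        show P (S.fE ((c • x : W) : 𝕍) (y : 𝕍)) = _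
        have h0 : ((c • x : W) : 𝕍) = (c : F) • (x : 𝕍) := rfl
        rw [h0, S.fE_fsmul_left, ← Subfield.smul_def, map_smul])
      (by
        intro x y y'
        show P (S.fE (x : 𝕍) ((y + y' : W) : 𝕍)) = _
        rw [Submodule.coe_add, S.fE_add_right, map_add])
      (by
        intro c x y
        show P (S.fE (x : 𝕍) ((c • y : W) : 𝕍)) = _
        have h0 : ((c • y : W) : 𝕍) = (c : F) • (y : 𝕍) := rfl
        rw [h0, S.fE_fsmul_right, hc c, ← Subfield.smul_def, map_smul])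
  have hBapp : ∀ x y : W, B x y = P (S.fE (x : 𝕍) (y : 𝕍)) := fun x y => rfl
  have h2 : finrank (fix0 hF) F * finrank F W = finrank (fix0 hF) W :=
    Module.finrank_mul_finrank (fix0 hF) F W
  rw [finrank_fix0] at h2
  have h3 := finrank_zE_lt S hF hn
  have h4 : 2 * finrank (fix0 hF) (zE S hF) < finrank (fix0 hF) W := by omega
  obtain ⟨w, hw0, hw⟩ := exists_ne_zero_bilin_self_eq_zero B h4
  refine ⟨(w : 𝕍), w.2, fun h => hw0 (Subtype.ext h), ?_⟩
  have hmem : S.fE (w : 𝕍) (w : 𝕍) ∈ zE S hF := by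
    refine ⟨S.st_fE_self _, ?_⟩
    rw [← S.form_eq']
    exact hW _ w.2
  have h5 : P (S.fE (w : 𝕍) (w : 𝕍)) = ⟨S.fE (w : 𝕍) (w : 𝕍), hmem⟩ :=
    LinearMap.congr_fun hP ⟨_, hmem⟩
  rw [hBapp, h5] at hw
  exact congrArg Subtype.val hw

end Cfsg.Agent.Lib.Helper27.C3u2Leaf
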