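import Mathlib
import Cfsg.Prelude.Def_Classical
import Cfsg.Prelude.Def_ClassicalGeometry
import Cfsg.Prelude.Def_GeometricClasses
import Cfsg.Agent.Lib.Helper5.SUMax
import Cfsg.Agent.Lib.Helper5.UForm
import Cfsg.Agent.Lib.Helper5.HermBridge
import Cfsg.Agent.Lib.Helper22.C3LDefs
import Cfsg.Agent.Lib.Helper22.C3LTool
import Cfsg.Agent.Lib.Helper16.C3uDefs
import Cfsg.Agent.Lib.Helper12.C3uF
import Cfsg.Agent.Lib.Helper27.C3u2CW1

/-!
S5840 conjunct (7), rank-one unitary C3 (planner helper13, notes/S5840_C3_leaves.lean): the cardinality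
leaves **KC1** `card_fixed`, **KC2** `card_skew`, **KC3** `card_K0_le`, **KC4** `card_tminus_le` (helper27).
Built on `fix0 hF` (`= F_q`, `card_fix0`), `fixE`, `zE` of `Helper27.C3u2CW1`; new here: `finrank_fixE`
(`dim_{F_q} Fix(st) = [E:F]`), `decomp_fixE`, `exists_skew0` (`a₀ ∈ F`, `a₀ ≠ 0`, `a₀^q = -a₀`).
-/

set_option autoImplicit false
set_option linter.unusedSectionVars false
set_option linter.unusedVariables false

namespace Cfsg.Agent.Lib.Helper27.C3qLeaf
open Cfsg Matrix Module Cfsg.Agent.Lib.Helper5.SpMax Cfsg.Agent.Lib.Helper5.SUMax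
  Cfsg.Agent.Lib.Helper22.C3L Cfsg.Agent.Lib.Helper16.C3u Cfsg.Agent.Lib.Helper5.HermBridge
  Cfsg.Agent.Lib.Helper27.C3u2Leaf

universe u
variable {F : Type u} [Field F] [Fintype F] {n q : ℕ} {E : Type u} [Field E] [Algebra F E]

local notation "𝕍" => (Fin n → F)
local notation "𝕄" => Matrix (Fin n) (Fin n) F

/-- `|F_q| = q` -/
theorem card_fix0 (hF : Fintype.card F = q ^ 2) : Nat.card (fix0 hF) = q := by
  have h1 : Nat.card F = Nat.card (fix0 hF) ^ finrank (fix0 hF) F :=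
    Module.natCard_eq_pow_finrank
  rw [finrank_fix0, Nat.card_eq_fintype_card, hF] at h1
  exact (Nat.pow_left_injective (n := 2) (by norm_num) h1).symm

/-- a non-zero skew scalar -/
theorem exists_skew0 (hF : Fintype.card F = q ^ 2) : ∃ a : F, a ≠ 0 ∧ a ^ q = -a := by
  obtain ⟨θ, hθ⟩ := Cfsg.Agent.Lib.Helper12.C3uLeaf.exists_pow_ne hF
  refine ⟨θ - θ ^ q, fun h => hθ (sub_eq_zero.mp h).symm, ?_⟩
  have h1 : (θ - θ ^ q) ^ q = frobQ hF (θ - θ ^ q) := rfl
  rw [h1, map_sub]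
  simp only [frobQ_apply, pow_q_pow_q hF]
  ring

/-- decomposition `e = A + θ B` with `A, B` fixed by `st` -/
theorem decomp_fixE (S : KU n q F E) (hF : Fintype.card F = q ^ 2) {θ : F} (hθ : θ ^ q ≠ θ)
    (e : E) : ∃ A ∈ fixE S hF, ∃ B ∈ fixE S hF, e = A + θ • B := by
  have hd : θ - θ ^ q ≠ 0 := fun h => hθ (sub_eq_zero.mp h).symm
  have hdq : (θ - θ ^ q) ^ q = -(θ - θ ^ q) := by
    have h1 : (θ - θ ^ q) ^ q = frobQ hF (θ - θ ^ q) := rfl
    rw [h1, map_sub]
    simp only [frobQ_apply, pow_q_pow_q hF]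
    ring
  have hB : S.st ((θ - θ ^ q)⁻¹ • (e - S.st e)) = (θ - θ ^ q)⁻¹ • (e - S.st e) := by
    rw [st_fsmul, inv_pow, hdq, map_sub, S.st_st, inv_neg, neg_smul, ← smul_neg, neg_sub]
  have h3 : (θ - θ ^ q) • ((θ - θ ^ q)⁻¹ • (e - S.st e)) = e - S.st e := by
    rw [smul_smul, mul_inv_cancel₀ hd, one_smul]
  obtain ⟨B, hBdef⟩ : ∃ B, B = (θ - θ ^ q)⁻¹ • (e - S.st e) := ⟨_, rfl⟩
  rw [← hBdef] at hB h3
  refine ⟨e - θ • B, ?_, B, hB, by abel⟩
  rw [mem_fixE, map_sub, st_fsmul, hB]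
  rw [sub_smul] at h3
  have h4 : θ ^ q • B = θ • B - (e - S.st e) := by
    rw [← h3]; abel
  rw [h4]
  abel

theorem pairE_bijective (S : KU n q F E) (hF : Fintype.card F = q ^ 2) {θ : F} (hθ : θ ^ q ≠ θ) :
    Function.Bijective (pairE S hF θ) := by
  refine ⟨pairE_injective S hF hθ, fun e => ?_⟩
  obtain ⟨A, hA, B, hB, he⟩ := decomp_fixE S hF hθ e
  exact ⟨(⟨A, hA⟩, ⟨B, hB⟩), he.symm⟩

/-- `dim_{F_q} Fix(st) = [E:F]` -/
theorem finrank_fixE (S : KU n q F E) (hF : Fintype.card F = q ^ 2) [FiniteDimensional F E] :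
    finrank (fix0 hF) (fixE S hF) = finrank F E := by
  have : Finite E := Module.finite_of_finite F
  have : Module.Finite (fix0 hF) E := Module.Finite.of_finite
  obtain ⟨θ, hθ⟩ := Cfsg.Agent.Lib.Helper12.C3uLeaf.exists_pow_ne hF
  have e := LinearEquiv.ofBijective (pairE S hF θ) (pairE_bijective S hF hθ)
  have h1 := e.finrank_eq
  rw [Module.finrank_prod] at h1
  have h2 : finrank (fix0 hF) F * finrank F E = finrank (fix0 hF) E :=
    Module.finrank_mul_finrank (fix0 hF) F E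
  rw [finrank_fix0] at h2
  omega

/-- **KC1** -/
theorem card_fixed (S : KU n q F E) (hF : Fintype.card F = q ^ 2) [FiniteDimensional F E] :
    Nat.card {e : E // S.st e = e} = q ^ finrank F E := by
  have : Finite E := Module.finite_of_finite F
  have : Module.Finite (fix0 hF) (fixE S hF) := Module.Finite.of_finite
  have h1 : Nat.card (fixE S hF) = Nat.card (fix0 hF) ^ finrank (fix0 hF) (fixE S hF) :=
    Module.natCard_eq_pow_finrank
  rw [card_fix0, finrank_fixE] at h1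
  exact h1

/-- **KC2** -/
theorem card_skew (S : KU n q F E) (hF : Fintype.card F = q ^ 2) [FiniteDimensional F E] :
    Nat.card {e : E // S.st e = -e} = q ^ finrank F E := by
  rw [← card_fixed S hF]
  obtain ⟨a, ha0, ha⟩ := exists_skew0 hF
  have hai : (a⁻¹) ^ q = -a⁻¹ := by rw [inv_pow, ha, inv_neg]
  refine Nat.card_congr
    { toFun := fun e => ⟨a⁻¹ • e.1, by rw [st_fsmul, hai, e.2, neg_smul, smul_neg, neg_neg]⟩
      invFun := fun e => ⟨a • e.1, by rw [st_fsmul, ha, e.2, neg_smul]⟩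
      left_inv := fun e => Subtype.ext (by
        show a • a⁻¹ • e.1 = e.1
        rw [smul_smul, mul_inv_cancel₀ ha0, one_smul])
      right_inv := fun e => Subtype.ext (by
        show a⁻¹ • a • e.1 = e.1
        rw [smul_smul, inv_mul_cancel₀ ha0, one_smul]) }

/-- **KC3** the hermitian elements of trace zero: at most `q ^ (r - 1)` -/
theorem card_K0_le (S : KU n q F E) (hF : Fintype.card F = q ^ 2) (hn : 0 < n)
    [FiniteDimensional F E] :
    Nat.card {z : E // S.st z = z ∧ S.τ z = 0} * q ≤ q ^ finrank F E := by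
  have : Finite E := Module.finite_of_finite F
  have : Module.Finite (fix0 hF) (zE S hF) := Module.Finite.of_finite
  have h1 : Nat.card (zE S hF) = Nat.card (fix0 hF) ^ finrank (fix0 hF) (zE S hF) :=
    Module.natCard_eq_pow_finrank
  rw [card_fix0] at h1
  have h2 : Nat.card {z : E // S.st z = z ∧ S.τ z = 0} = q ^ finrank (fix0 hF) (zE S hF) := h1
  rw [h2, ← pow_succ]
  have hq : 0 < q := by
    rcases Nat.eq_zero_or_pos q with h | h
    · rw [h] at hF
      have := Fintype.card_pos (α := F)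
      rw [hF] at this
      norm_num at this
    · exact h
  exact Nat.pow_le_pow_right hq (finrank_zE_lt S hF hn)

/-- **KC4** -/
theorem card_tminus_le (hF : Fintype.card F = q ^ 2) : Nat.card {c : F // c ^ q = -c} ≤ q := by
  obtain ⟨a, ha0, ha⟩ := exists_skew0 hF
  have hai : (a⁻¹) ^ q = -a⁻¹ := by rw [inv_pow, ha, inv_neg]
  have hinj : Function.Injective (fun c : {c : F // c ^ q = -c} =>
      (⟨a⁻¹ * c.1, by rw [mem_fix0, mul_pow, hai, c.2]; ring⟩ : fix0 hF)) := by
    intro c c' h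
    have h1 : a⁻¹ * c.1 = a⁻¹ * c'.1 := congrArg Subtype.val h
    exact Subtype.ext (mul_left_cancel₀ (inv_ne_zero ha0) h1)
  have := Nat.card_le_card_of_injective _ hinj
  rwa [card_fix0] at this

end Cfsg.Agent.Lib.Helper27.C3qLeaf
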