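import Mathlib
import Cfsg.Prelude.Def_Classical
import Cfsg.Prelude.Def_ClassicalGeometry
import Cfsg.Prelude.Def_GeometricClasses
import Cfsg.Agent.Lib.Helper5.SUMax
import Cfsg.Agent.Lib.Helper5.UForm
import Cfsg.Agent.Lib.Helper16.C3uDefs
import Cfsg.Agent.Lib.Helper13.C3qDefs
import Cfsg.Agent.Lib.Helper13.C3qMDefs
import Cfsg.Agent.Lib.Helper12.C3uF
import Cfsg.Agent.Lib.Helper27.C3qKC

/-!
S5840 conjunct (7), module theorem MOD (planner helper13, notes/S5840_C3_MOD_leaves.lean): leaf **M4**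
`exists_k0` (helper27): a generator `k₀ = e₀^(q+1)` of `Fix(st)ˣ` (order `q^5 - 1`).
Also `st_eq_of_pow` : for `[E:F] = r`, an element with `x ^ (q^r) = x` is fixed by `st`.
-/

set_option autoImplicit false
set_option linter.unusedSectionVars false
set_option linter.unusedVariables false

namespace Cfsg.Agent.Lib.Helper27.C3qModLeaf
open Cfsg Matrix Module Cfsg.Agent.Lib.Helper16.C3u Cfsg.Agent.Lib.Helper13.C3q

universe u
variable {F : Type u} [Field F] [Fintype F] {n q : ℕ} {E : Type u} [Field E] [Algebra F E]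

theorem two_le_q (hF : Fintype.card F = q ^ 2) : 2 ≤ q := by
  have h1 : 1 < Fintype.card F := Fintype.one_lt_card
  rw [hF] at h1
  by_contra h
  have : q = 0 ∨ q = 1 := by omega
  rcases this with h | h <;> rw [h] at h1 <;> norm_num at h1

/-- the roots of `X^(q^r) - X` are exactly the fixed points of `st` (`r = [E:F]`) -/
theorem st_eq_of_pow (S : KU n q F E) (hF : Fintype.card F = q ^ 2) [FiniteDimensional F E]
    {x : E} (hx : x ^ (q ^ finrank F E) = x) : S.st x = x := by
  classical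
  have hfin : Finite E := Module.finite_of_finite F
  have : Fintype E := Fintype.ofFinite E
  have hq := two_le_q hF
  set N := q ^ finrank F E with hN
  have hN1 : 1 < N := Nat.one_lt_pow (Module.finrank_pos).ne' (by omega)
  -- the fixed field
  let K₀ : Subfield E := (S.st : E →+* E).eqLocusField (RingHom.id E)
  have hmem : ∀ y : E, y ∈ K₀ ↔ S.st y = y := fun y => Iff.rfl
  have : Fintype K₀ := Fintype.ofFinite K₀
  have hcard : Fintype.card K₀ = N := by
    rw [← Nat.card_eq_fintype_card]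
    exact Cfsg.Agent.Lib.Helper27.C3qLeaf.card_fixed S hF
  have hpow : ∀ y : K₀, (y : E) ^ N = (y : E) := by
    intro y
    have h1 := FiniteField.pow_card y
    rw [hcard] at h1
    have h2 := congrArg (Subtype.val : K₀ → E) h1
    rwa [SubmonoidClass.coe_pow] at h2
  -- roots of the polynomial
  have hP0 : (Polynomial.X ^ N - Polynomial.X : Polynomial E) ≠ 0 :=
    FiniteField.X_pow_card_sub_X_ne_zero E hN1
  have hdeg : (Polynomial.X ^ N - Polynomial.X : Polynomial E).natDegree = N :=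
    FiniteField.X_pow_card_sub_X_natDegree_eq E hN1
  set R : Finset E := (Polynomial.X ^ N - Polynomial.X : Polynomial E).roots.toFinset with hR
  have hRmem : ∀ y : E, y ∈ R ↔ y ^ N = y := by
    intro y
    rw [hR, Multiset.mem_toFinset, Polynomial.mem_roots hP0, Polynomial.IsRoot.def,
      Polynomial.eval_sub, Polynomial.eval_pow, Polynomial.eval_X, sub_eq_zero]
  set A : Finset E := Finset.univ.map ⟨(Subtype.val : K₀ → E), Subtype.val_injective⟩ with hA
  have hAR : A ⊆ R := by
    intro y hy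
    rw [hA, Finset.mem_map] at hy
    obtain ⟨z, -, rfl⟩ := hy
    exact (hRmem _).mpr (hpow z)
  have hAcard : A.card = N := by
    rw [hA, Finset.card_map, Finset.card_univ, hcard]
  have hRcard : R.card ≤ A.card := by
    rw [hAcard]
    calc R.card ≤ Multiset.card (Polynomial.X ^ N - Polynomial.X : Polynomial E).roots :=
          Multiset.toFinset_card_le _
      _ ≤ (Polynomial.X ^ N - Polynomial.X : Polynomial E).natDegree := Polynomial.card_roots' _
      _ = N := hdeg
  have hEq : A = R := Finset.eq_of_subset_of_card_le hAR hRcard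
  have hxR : x ∈ R := (hRmem x).mpr hx
  rw [← hEq, hA, Finset.mem_map] at hxR
  obtain ⟨z, -, hz⟩ := hxR
  rw [← hz]
  exact (hmem _).mp z.2

/-- **M4** a generator of `E₀ˣ` which is a `(q+1)`-th power -/
theorem exists_k0 (S : KU n q F E) (hF : Fintype.card F = q ^ 2) (hn : 0 < n)
    [FiniteDimensional F E] (hr5 : finrank F E = 5) :
    ∃ e₀ : E, e₀ ≠ 0 ∧ S.st (e₀ ^ (q + 1)) = e₀ ^ (q + 1) ∧ orderOf (e₀ ^ (q + 1)) = q ^ 5 - 1 := by
  classical
  have hfin : Finite E := Module.finite_of_finite F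
  have : Fintype E := Fintype.ofFinite E
  have hq := two_le_q hF
  have hcardE : Nat.card E = q ^ 10 := by
    rw [Module.natCard_eq_pow_finrank (K := F) (V := E), hr5, Nat.card_eq_fintype_card, hF,
      ← pow_mul]
  have hcardU : Nat.card Eˣ = q ^ 10 - 1 := by rw [Nat.card_units, hcardE]
  obtain ⟨γ, hγ⟩ := IsCyclic.exists_generator (α := Eˣ)
  have hordγ : orderOf γ = q ^ 10 - 1 := by
    rw [orderOf_eq_card_of_forall_mem_zpowers hγ, hcardU]
  have hdvd : q + 1 ∣ q ^ 5 + 1 := by
    have := Odd.nat_add_dvd_pow_add_pow q 1 (n := 5) (by decide)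
    rwa [one_pow] at this
  obtain ⟨m, hm⟩ := hdvd
  have hq5 : 1 ≤ q ^ 5 := Nat.one_le_pow _ _ (by omega)
  have hfac : q ^ 10 - 1 = (q ^ 5 - 1) * (q ^ 5 + 1) := by
    have h1 : q ^ 10 = q ^ 5 * q ^ 5 := by rw [← pow_add]
    rw [h1]
    zify [hq5, Nat.one_le_pow 5 q (by omega), Nat.mul_le_mul hq5 hq5]
    ring
  have hordk : orderOf ((γ ^ m) ^ (q + 1)) = q ^ 5 - 1 := by
    rw [← pow_mul, mul_comm, ← hm, orderOf_pow, hordγ, hfac,
      Nat.gcd_eq_right (Dvd.intro_left _ rfl), Nat.mul_div_cancel _ (by omega)]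
  refine ⟨((γ ^ m : Eˣ) : E), Units.ne_zero _, ?_, ?_⟩
  · apply st_eq_of_pow S hF
    rw [hr5]
    have h1 : ((γ ^ m) ^ (q + 1)) ^ (q ^ 5 - 1) = 1 := by
      rw [← hordk]
      exact pow_orderOf_eq_one _
    have h2 : (((γ ^ m : Eˣ) : E) ^ (q + 1)) ^ (q ^ 5 - 1) = 1 := by
      have := congrArg (Units.val) h1
      simpa using this
    have h3 : q ^ 5 = (q ^ 5 - 1) + 1 := by omega
    rw [h3, pow_succ, h2, one_mul]
  · rw [← Units.val_pow_eq_pow_val, orderOf_units]
    exact hordk

end Cfsg.Agent.Lib.Helper27.C3qModLeaf
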