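import Mathlib
import Cfsg.Prelude.Def_Classical
import Cfsg.Prelude.Def_ClassicalGeometry
import Cfsg.Prelude.Def_GeometricClasses
import Cfsg.Agent.Lib.Helper5.SUMax
import Cfsg.Agent.Lib.Helper5.UForm
import Cfsg.Agent.Lib.Helper5.HermBridge
import Cfsg.Agent.Lib.Helper16.C3uDefs
import Cfsg.Agent.Lib.Helper13.C3qDefs
import Cfsg.Agent.Lib.Helper13.C3qMDefs
import Cfsg.Agent.Lib.Helper12.C3uF

/-!
S5840 conjunct (7), module theorem MOD (planner helper13, notes/S5840_C3_MOD_leaves.lean): leaf **M3**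
`smul_mem` (helper27): an additive group of `F`-linear maps stable under the torus `X ↦ e^(q+1) X (st e)^(q+1)`
is stable under multiplication by `F_q = {s : s^q = s}`.
-/

set_option autoImplicit false
set_option linter.unusedSectionVars false
set_option linter.unusedVariables false

namespace Cfsg.Agent.Lib.Helper27.C3qModLeaf
open Cfsg Matrix Module Cfsg.Agent.Lib.Helper16.C3u Cfsg.Agent.Lib.Helper13.C3q
  Cfsg.Agent.Lib.Helper5.HermBridge

universe u
variable {F : Type u} [Field F] [Fintype F] {n q : ℕ} {E : Type u} [Field E] [Algebra F E]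

/-- squares of fixed scalars act on `𝒳` -/
theorem sq_smul_mem (S : KU n q F E) (hF : Fintype.card F = q ^ 2) (𝒳 : AddSubgroup (E →ₗ[F] E))
    (htor : ∀ e : E, e ≠ 0 → ∀ X ∈ 𝒳,
      (LinearMap.mulLeft F (e ^ (q + 1))) ∘ₗ X ∘ₗ (LinearMap.mulLeft F (S.st e ^ (q + 1))) ∈ 𝒳)
    (t : F) (ht : t ^ q = t) (X : E →ₗ[F] E) (hX : X ∈ 𝒳) : (t * t) • X ∈ 𝒳 := by
  by_cases ht0 : t = 0
  · rw [ht0, zero_mul, zero_smul]
    exact 𝒳.zero_mem
  obtain ⟨z, hz⟩ := Cfsg.Agent.Lib.Helper5.UForm.norm_surj (σ := frobQ hF) (pow_q_pow_q hF)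
    (herm_unitary (n := 1) hF).ne_refl t ht0 ht
  rw [frobQ_apply] at hz
  have hz0 : z ≠ 0 := by
    rintro rfl
    rw [zero_mul] at hz
    exact ht0 hz.symm
  have he0 : algebraMap F E z ≠ 0 := by
    intro h
    exact hz0 ((algebraMap F E).injective (by rw [h, map_zero]))
  have h1 := htor (algebraMap F E z) he0 X hX
  have hzq : z ^ (q + 1) = t := by rw [pow_succ, mul_comm]; exact hz
  have hzq' : (z ^ q) ^ (q + 1) = t := by
    rw [← pow_mul, mul_comm, pow_mul, hzq, ht]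
  have h2 : (LinearMap.mulLeft F (algebraMap F E z ^ (q + 1))) ∘ₗ X ∘ₗ
      (LinearMap.mulLeft F (S.st (algebraMap F E z) ^ (q + 1))) = (t * t) • X := by
    ext y
    rw [S.st_alg, ← map_pow, ← map_pow, hzq, hzq']
    simp only [LinearMap.comp_apply, LinearMap.mulLeft_apply, LinearMap.smul_apply]
    rw [← Algebra.smul_def, ← Algebra.smul_def, map_smul, smul_smul]
  rw [h2] at h1
  exact h1

/-- **M3** `F₀`-stability -/
theorem smul_mem (S : KU n q F E) (hF : Fintype.card F = q ^ 2) (𝒳 : AddSubgroup (E →ₗ[F] E))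
    (htor : ∀ e : E, e ≠ 0 → ∀ X ∈ 𝒳,
      (LinearMap.mulLeft F (e ^ (q + 1))) ∘ₗ X ∘ₗ (LinearMap.mulLeft F (S.st e ^ (q + 1))) ∈ 𝒳) :
    ∀ s : F, s ^ q = s → ∀ X ∈ 𝒳, s • X ∈ 𝒳 := by
  intro s hs X hX
  by_cases h2 : (2 : F) = 0
  · -- characteristic two: `s = t * t` with `t = s ^ (q / 2)`
    have hq2 : 2 ∣ q := by
      have h3 : ((2 : ℕ) : F) = 0 := by exact_mod_cast h2
      have hp : CharP F (ringChar F) := ringChar.charP F
      have h4 : ringChar F ∣ 2 := (CharP.cast_eq_zero_iff F (ringChar F) 2).mp h3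
      have h5 : ringChar F = 2 := by
        rcases (Nat.dvd_prime Nat.prime_two).mp h4 with h | h
        · exact absurd h (CharP.ringChar_ne_one)
        · exact h
      have h6 : (2 : ℕ) ∣ Fintype.card F := by
        exact Nat.dvd_of_mod_eq_zero (FiniteField.even_card_of_char_two h5)
      rw [hF] at h6
      exact Nat.Prime.dvd_of_dvd_pow Nat.prime_two h6
    obtain ⟨k, hk⟩ := hq2
    have ht : (s ^ k) ^ q = s ^ k := by rw [← pow_mul, mul_comm, pow_mul, hs]
    have hst : s ^ k * s ^ k = s := by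
      rw [← pow_add, ← two_mul, ← hk, hs]
    have := sq_smul_mem S hF 𝒳 htor (s ^ k) ht X hX
    rwa [hst] at this
  · -- odd characteristic: `s = ((s+1)/2)^2 - ((s-1)/2)^2`
    have h2q : (2 : F) ^ q = 2 := by
      have h1 : (2 : F) ^ q = frobQ hF 2 := rfl
      rw [h1, map_ofNat]
    have ht1 : ((s + 1) / 2) ^ q = (s + 1) / 2 := by
      have h1 : ((s + 1) / 2) ^ q = frobQ hF ((s + 1) / 2) := rfl
      rw [h1, map_div₀, map_add, map_one, map_ofNat, frobQ_apply, hs]
    have ht2 : ((s - 1) / 2) ^ q = (s - 1) / 2 := by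
      have h1 : ((s - 1) / 2) ^ q = frobQ hF ((s - 1) / 2) := rfl
      rw [h1, map_div₀, map_sub, map_one, map_ofNat, frobQ_apply, hs]
    have h3 := sq_smul_mem S hF 𝒳 htor _ ht1 X hX
    have h4 := sq_smul_mem S hF 𝒳 htor _ ht2 X hX
    have h5 := 𝒳.sub_mem h3 h4
    have h7 : s = (s + 1) / 2 * ((s + 1) / 2) - (s - 1) / 2 * ((s - 1) / 2) := by
      field_simp
      ring
    have h6 : ((s + 1) / 2 * ((s + 1) / 2)) • X - ((s - 1) / 2 * ((s - 1) / 2)) • X = s • X := by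
      conv_rhs => rw [h7]
      exact (sub_smul _ _ X).symm
    rwa [h6] at h5

end Cfsg.Agent.Lib.Helper27.C3qModLeaf
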