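import Mathlib
import Cfsg.Prelude.Def_Classical
import Cfsg.Agent.Lib.Helper16.SLMinDefs

/-!
# S2345 (minimal degree of `Ω⁺_{2n}(q)`): definitions (planner: helper27)

* `Siegel F n H` : the *Siegel datum* of a group `H`: the abelian radical `rad R = [[1, R - Rᵀ],[0, 1]]`
  (`R` any `n × n` matrix), the Levi factor `levi g = [[g, 0],[0, g⁻ᵀ]]` (`g ∈ SL_n`), the torus elements
  `tor a s = levi (diag (1,..,s²,..,1))`, the double swaps `w a b` (`e_a ↔ f_a`, `e_b ↔ f_b`), and the relations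
  between them.  All representation-theoretic leaves are stated for an abstract group `H` with such a datum;
  the concrete leaves construct one for `H = Ω⁺_{2n}(F)`.
* the weights of `rad` are indexed by `v : Fin n × Fin n → F`, read as the matrix `toM v`;
  `radv D r = D.rad (toM r)` is the root map in the sense of `Helper16.SLMin.wt`.
* the matrices `radMat`, `leviMat`, `swapMat` (for the concrete leaves).
* the numbers `bnd`, `R2`, `Lcount`.
-/

set_option autoImplicit false
set_option linter.unusedSectionVars false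

namespace Cfsg.Agent.Lib.Helper27.OPMin

open Matrix

section mat

variable {F : Type*} [Field F] {n : ℕ}

/-- the matrix of a function on pairs -/
def toM (v : Fin n × Fin n → F) : Matrix (Fin n) (Fin n) F := Matrix.of fun i j => v (i, j)

/-- the function on pairs of a matrix -/
def ofM (V : Matrix (Fin n) (Fin n) F) : Fin n × Fin n → F := fun p => V p.1 p.2

@[simp] theorem toM_apply (v : Fin n × Fin n → F) (i j : Fin n) : toM v i j = v (i, j) := rfl

@[simp] theorem ofM_apply (V : Matrix (Fin n) (Fin n) F) (p : Fin n × Fin n) :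
    ofM V p = V p.1 p.2 := rfl

@[simp] theorem toM_ofM (V : Matrix (Fin n) (Fin n) F) : toM (ofM V) = V := rfl

@[simp] theorem ofM_toM (v : Fin n × Fin n → F) : ofM (toM v) = v := rfl

theorem toM_add (v w : Fin n × Fin n → F) : toM (v + w) = toM v + toM w := rfl

theorem toM_zero : toM (0 : Fin n × Fin n → F) = 0 := rfl

theorem ofM_add (V W : Matrix (Fin n) (Fin n) F) : ofM (V + W) = ofM V + ofM W := rfl

theorem ofM_zero : ofM (0 : Matrix (Fin n) (Fin n) F) = 0 := rfl

theorem ofM_injective : Function.Injective (ofM : Matrix (Fin n) (Fin n) F → _) := by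
  intro V W h
  have := congrArg toM h
  simpa using this

/-- the decomposable alternating matrix `a bᵀ - b aᵀ` -/
def wedge (a b : Fin n → F) : Matrix (Fin n) (Fin n) F := vecMulVec a b - vecMulVec b a

theorem wedge_apply (a b : Fin n → F) (i j : Fin n) : wedge a b i j = a i * b j - b i * a j := by
  simp [wedge, vecMulVec_apply]

/-- alternating matrices: zero diagonal and skew-symmetric -/
def IsAltM (V : Matrix (Fin n) (Fin n) F) : Prop := (∀ i, V i i = 0) ∧ ∀ i j, V j i = - V i j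

theorem isAltM_wedge (a b : Fin n → F) : IsAltM (wedge a b) := by
  refine ⟨fun i => ?_, fun i j => ?_⟩
  · rw [wedge_apply]; ring
  · rw [wedge_apply, wedge_apply]; ring

/-- the diagonal matrix with `s²` at `a` and `1` elsewhere -/
def dsq (a : Fin n) (s : Fˣ) : Matrix (Fin n) (Fin n) F :=
  Matrix.diagonal fun i => if i = a then ((s : F)) ^ 2 else 1

end mat

/-- The Siegel datum of a group `H` (see the header). -/
structure Siegel (F : Type*) [Field F] (n : ℕ) (H : Type*) [Group H] where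
  /-- `[[1, R - Rᵀ],[0, 1]]` -/
  rad : Matrix (Fin n) (Fin n) F → H
  /-- `[[g, 0],[0, g⁻ᵀ]]` -/
  levi : SpecialLinearGroup (Fin n) F →* H
  /-- `levi (dsq a s)` -/
  tor : Fin n → Fˣ → H
  /-- the double swap `e_a ↔ f_a`, `e_b ↔ f_b` -/
  w : Fin n → Fin n → H
  rad_add : ∀ R S, rad (R + S) = rad R * rad S
  rad_of_symm : ∀ R, Rᵀ = R → rad R = 1
  levi_rad : ∀ (g : SpecialLinearGroup (Fin n) F) (R : Matrix (Fin n) (Fin n) F),
    levi g * rad R * (levi g)⁻¹ =
      rad ((g : Matrix (Fin n) (Fin n) F) * R * (g : Matrix (Fin n) (Fin n) F)ᵀ)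
  tor_rad : ∀ (a : Fin n) (s : Fˣ) (R : Matrix (Fin n) (Fin n) F),
    tor a s * rad R * (tor a s)⁻¹ = rad (dsq a s * R * dsq a s)
  w_rad_comm : ∀ (a b : Fin n) (R : Matrix (Fin n) (Fin n) F),
    (∀ i j, R i j ≠ 0 → i ≠ a ∧ i ≠ b ∧ j ≠ a ∧ j ≠ b) → w a b * rad R = rad R * w a b
  w_rad_single_left : ∀ (a b i : Fin n) (_ : a ≠ b) (hia : i ≠ a) (_ : i ≠ b) (t : F),
    w a b * rad (Matrix.single i a t) * (w a b)⁻¹ = levi (SpecialLinearGroup.transvection hia t)
  w_rad_single_right : ∀ (a b i : Fin n) (_ : a ≠ b) (_ : i ≠ a) (hib : i ≠ b) (t : F),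
    w a b * rad (Matrix.single i b t) * (w a b)⁻¹ = levi (SpecialLinearGroup.transvection hib t)

namespace Siegel

variable {F : Type*} [Field F] {n : ℕ} {H : Type*} [Group H]

/-- the root map of the radical, in the sense of `Helper16.SLMin.wt` -/
def radv (D : Siegel F n H) (r : Fin n × Fin n → F) : H := D.rad (toM r)

theorem rad_zero (D : Siegel F n H) : D.rad 0 = 1 := D.rad_of_symm 0 (Matrix.transpose_zero)

theorem rad_comm (D : Siegel F n H) (R S : Matrix (Fin n) (Fin n) F) :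
    D.rad R * D.rad S = D.rad S * D.rad R := by
  rw [← D.rad_add, ← D.rad_add, add_comm]

theorem rad_neg (D : Siegel F n H) (R : Matrix (Fin n) (Fin n) F) : D.rad (-R) = (D.rad R)⁻¹ := by
  rw [eq_inv_iff_mul_eq_one, ← D.rad_add, neg_add_cancel, D.rad_zero]

theorem rad_transpose (D : Siegel F n H) (R : Matrix (Fin n) (Fin n) F) :
    D.rad Rᵀ = (D.rad R)⁻¹ := by
  rw [eq_inv_iff_mul_eq_one, ← D.rad_add]
  apply D.rad_of_symm
  rw [Matrix.transpose_add, Matrix.transpose_transpose, add_comm]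

theorem rad_sub (D : Siegel F n H) (R S : Matrix (Fin n) (Fin n) F) :
    D.rad (R - S) = D.rad R * (D.rad S)⁻¹ := by
  rw [sub_eq_add_neg, D.rad_add, D.rad_neg]

theorem radv_zero (D : Siegel F n H) : D.radv 0 = 1 := D.rad_zero

theorem radv_add (D : Siegel F n H) (r s : Fin n × Fin n → F) :
    D.radv (r + s) = D.radv r * D.radv s := by
  unfold radv
  rw [toM_add, D.rad_add]

end Siegel

section numbers

/-- the bound `(q^n - 1)(q^(n-1) + q)/(q^2 - 1)` of S2345 -/
def bnd (q n : ℕ) : ℕ := (q ^ n - 1) * (q ^ (n - 1) + q) / (q ^ 2 - 1)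

/-- the number `(q^n - 1)(q^(n-1) - 1)/(q^2 - 1)` of alternating `n × n` matrices of rank `2` -/
def R2 (q n : ℕ) : ℕ := (q ^ n - 1) * (q ^ (n - 1) - 1) / (q ^ 2 - 1)

/-- the number of long root elements of `Ω⁺_{2n}(q)` -/
def Lcount (q n : ℕ) : ℕ :=
  (q ^ n - 1) * (q ^ (n - 1) + 1) * (q ^ (n - 1) - 1) * (q ^ (n - 2) + 1) / (q ^ 2 - 1)

end numbers

section concrete

variable {F : Type*} [Field F] {n : ℕ}

/-- `[[1, R - Rᵀ],[0, 1]]` -/
def radMat (R : Matrix (Fin n) (Fin n) F) : Matrix (Fin n ⊕ Fin n) (Fin n ⊕ Fin n) F :=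
  fromBlocks 1 (R - Rᵀ) 0 1

/-- `[[g, 0],[0, (g⁻¹)ᵀ]]` -/
noncomputable def leviMat (g : Matrix (Fin n) (Fin n) F) : Matrix (Fin n ⊕ Fin n) (Fin n ⊕ Fin n) F :=
  fromBlocks g 0 0 (g⁻¹)ᵀ

/-- the swap `e_a ↔ f_a` -/
def swapMat (a : Fin n) : Matrix (Fin n ⊕ Fin n) (Fin n ⊕ Fin n) F :=
  fromBlocks (1 - Matrix.single a a 1) (Matrix.single a a 1) (Matrix.single a a 1)
    (1 - Matrix.single a a 1)

/-- the swap of the two halves, `e_i ↔ f_i` for all `i` -/
def swapAllMat : Matrix (Fin n ⊕ Fin n) (Fin n ⊕ Fin n) F := fromBlocks 0 1 1 0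

end concrete

end Cfsg.Agent.Lib.Helper27.OPMin
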