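import Mathlib
import Cfsg.Prelude.Def_ClassicalGeometry
import Cfsg.Prelude.Def_GeometricClasses
import Cfsg.Agent.Lib.Helper5.TSMax
import Cfsg.Agent.Lib.Helper19.OSubDefs
import Cfsg.Agent.Lib.Helper19.OSubBasic
import Cfsg.Agent.Lib.Helper19.OSubDescent
import Cfsg.Agent.Lib.Helper27.OSubC2core

/-!
helper27: S5683 / S5702 leaf C1 (`nr`), core version: T2, SP, DEC and the frame F1 are explicit hypotheses.
-/

set_option autoImplicit false
set_option linter.unusedSectionVars false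
set_option linter.unusedVariables false

namespace Cfsg.Agent.Lib.Helper27.OSubCore
open Cfsg Matrix QuadraticMap Module Cfsg.Agent.Lib.Helper25.Siegel Cfsg.Agent.Lib.Helper19.OSub
open scoped commutatorElement

variable {ι : Type} [Fintype ι] [DecidableEq ι] {F : Type*} [Field F] [Fintype F]
  {F₀ : Subfield F} {Q : QuadraticForm F (ι → F)} {M : Subgroup (GL ι F)}

/-- the statement of leaf T2 -/
def T2Stmt (F₀ : Subfield F) (Q : QuadraticForm F (ι → F)) : Prop :=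
  ∀ {a v a' v' : ι → F}, RatV F₀ a → RatV F₀ v → RatV F₀ a' → RatV F₀ v' → Q a = 0 → Q v = 0 →
    Q a' = 0 → Q v' = 0 → polar Q a v = 0 → polar Q a' v' = 0 →
    LinearIndependent F ![a, v] → LinearIndependent F ![a', v'] →
    ∃ g ∈ H0 F₀ Q, (∀ x, RatV F₀ x → RatV F₀ (mv g x)) ∧ (∀ x, RatV F₀ x → RatV F₀ (mv g⁻¹ x)) ∧
      (∃ s ∈ F₀, s ≠ 0 ∧ mv g a = s • a') ∧ ∃ s' ∈ F₀, s' ≠ 0 ∧ mv g v = s' • v'

theorem H0_le_iso : H0 F₀ Q ≤ Cfsg.isometryGroup F ⇑Q :=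
  fun _ hg => omegaGL_le_iso (Subgroup.mem_inf.1 hg).2

/-- two vectors with a dual pair are linearly independent -/
theorem indep_of_dual {x y x' y' : ι → F} (h1 : polar Q x' x = 1) (h2 : polar Q x' y = 0)
    (h3 : polar Q y' x = 0) (h4 : polar Q y' y = 1) : LinearIndependent F ![x, y] := by
  rw [LinearIndependent.pair_iff]
  intro s t hst
  have e1 := congrArg (polar Q x') hst
  have e2 := congrArg (polar Q y') hst
  rw [polar_add_right, polar_smul_right, polar_smul_right, polar_zero_right] at e1 e2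
  rw [h1, h2] at e1
  rw [h3, h4] at e2
  simp only [smul_eq_mul, mul_one, mul_zero, add_zero, zero_add] at e1 e2
  exact ⟨e1, e2⟩

/-- root elements on a dependent pair are trivial -/
theorem rt_eq_one_of_dep {u v : ι → F} (hd : ¬ LinearIndependent F ![u, v]) (c : F) :
    rt Q u v c = 1 := by
  by_cases hh : Q u = 0 ∧ Q v = 0 ∧ polar Q u v = 0
  · obtain ⟨hu, hv, huv⟩ := hh
    rw [LinearIndependent.pair_iff] at hd
    push Not at hd
    obtain ⟨s, t, hst, hne⟩ := hd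
    apply gl_ext
    intro x
    rw [mv_rt hu hv huv, mv_one]
    have hp : s * polar Q u x + t * polar Q v x = 0 := by
      have := congrArg (fun y => polar Q y x) hst
      simp only [polar_add_left, polar_smul_left, polar_zero_left, smul_eq_mul] at this
      exact this
    obtain ⟨w, hw⟩ : ∃ w, w = polar Q u x • v - polar Q v x • u := ⟨_, rfl⟩
    have hs : s • w = 0 := by
      have e2 : s • w = (s * polar Q u x) • v - polar Q v x • (s • u) := by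
        rw [hw]; module
      have e3 : s • u = -(t • v) := eq_neg_of_add_eq_zero_left hst
      have e4 : s * polar Q u x = -(t * polar Q v x) := eq_neg_of_add_eq_zero_left hp
      rw [e2, e3, e4]
      module
    have ht : t • w = 0 := by
      have e2 : t • w = polar Q u x • (t • v) - (t * polar Q v x) • u := by
        rw [hw]; module
      have e3 : t • v = -(s • u) := eq_neg_of_add_eq_zero_right hst
      have e4 : t * polar Q v x = -(s * polar Q u x) := eq_neg_of_add_eq_zero_right hp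
      rw [e2, e3, e4]
      module
    have hw0 : w = 0 := by
      by_cases hs0 : s = 0
      · have ht0 : t ≠ 0 := hne hs0
        rcases smul_eq_zero.1 ht with h0 | h0
        · exact absurd h0 ht0
        · exact h0
      · rcases smul_eq_zero.1 hs with h0 | h0
        · exact absurd h0 hs0
        · exact h0
    rw [← hw, hw0, smul_zero, add_zero]
  · exact rt_of_not hh c

/-- transfer of root elements along `T2` -/
theorem transfer (t2 : T2Stmt F₀ Q) (hle : H0 F₀ Q ≤ M) {a v a' v' : ι → F} (ha : RatV F₀ a)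
    (hv : RatV F₀ v) (ha' : RatV F₀ a') (hv' : RatV F₀ v') (hQa : Q a = 0) (hQv : Q v = 0)
    (hQa' : Q a' = 0) (hQv' : Q v' = 0) (hav : polar Q a v = 0) (hav' : polar Q a' v' = 0)
    (hi : LinearIndependent F ![a, v]) (hi' : LinearIndependent F ![a', v']) :
    ∃ σ ∈ F₀, σ ≠ 0 ∧ ∀ c, rt Q a v c ∈ M → rt Q a' v' (σ * c) ∈ M := by
  obtain ⟨g, hgH, -, -, ⟨s, hs, hs0, hga⟩, s', hs', hs'0, hgv⟩ :=
    t2 ha hv ha' hv' hQa hQv hQa' hQv' hav hav' hi hi'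
  refine ⟨s' * s, F₀.mul_mem hs' hs, mul_ne_zero hs'0 hs0, fun c hc => ?_⟩
  have hgM : g ∈ M := hle hgH
  have h1 : g * rt Q a v c * g⁻¹ ∈ M := M.mul_mem (M.mul_mem hgM hc) (M.inv_mem hgM)
  rw [conj_rt (H0_le_iso hgH), hga, hgv] at h1
  have hQv'' : Q (s' • v') = 0 := by rw [QuadraticMap.map_smul, hQv', smul_zero]
  have hav'' : polar Q a' (s' • v') = 0 := by rw [polar_smul_right, hav', smul_zero]
  rw [rt_smul_left hQa' hQv'' hav'', rt_smul_right hQa' hQv' hav', ← mul_assoc] at h1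
  exact h1

/-- C1 (core) -/
theorem nr_of (sp : SPStmt F₀ Q) (dec : DECStmt Q) (t2 : T2Stmt F₀ Q) (h : Ctx F₀ Q M)
    (fr : Frame F₀ Q 6) {u v : ι → F} (hu : RatV F₀ u) (hv : RatV F₀ v) (hQu : Q u = 0)
    (hQv : Q v = 0) (huv : polar Q u v = 0) (hi : LinearIndependent F ![u, v]) {c : F}
    (hc : rt Q u v c ∈ M) : c ∈ F₀ := by
  classical
  have hq : QCtx F₀ Q := h.toQCtx
  have n01 : (0 : Fin 6) ≠ 1 := by decide
  have n02 : (0 : Fin 6) ≠ 2 := by decide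
  have n12 : (1 : Fin 6) ≠ 2 := by decide
  have ef : ∀ i, polar Q (fr.e i) (fr.f i) = 1 := fun i => by rw [fr.ef, if_pos rfl]
  have fe : ∀ i, polar Q (fr.f i) (fr.e i) = 1 := fun i => by rw [polar_comm, ef]
  have efn : ∀ i j, i ≠ j → polar Q (fr.e i) (fr.f j) = 0 := fun i j hij => by
    rw [fr.ef, if_neg hij]
  have fen : ∀ i j, i ≠ j → polar Q (fr.f i) (fr.e j) = 0 := fun i j hij => by
    rw [polar_comm, efn j i (Ne.symm hij)]
  -- the independent pairs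
  have i01 : LinearIndependent F ![fr.e 0, fr.e 1] :=
    indep_of_dual (fe 0) (fen 0 1 n01) (fen 1 0 (Ne.symm n01)) (fe 1)
  have i02 : LinearIndependent F ![fr.e 0, fr.e 2] :=
    indep_of_dual (fe 0) (fen 0 2 n02) (fen 2 0 (Ne.symm n02)) (fe 2)
  have i21 : LinearIndependent F ![fr.f 2, fr.e 1] :=
    indep_of_dual (ef 2) (fr.ee 2 1) (fr.ff 1 2) (fe 1)
  -- transfers
  obtain ⟨s₁, hs₁, hs₁0, tr₁⟩ := transfer t2 h.le (fr.rat_e 0) (fr.rat_e 1) (fr.rat_e 0)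
    (fr.rat_e 2) (fr.Qe 0) (fr.Qe 1) (fr.Qe 0) (fr.Qe 2) (fr.ee 0 1) (fr.ee 0 2) i01 i02
  obtain ⟨s₂, hs₂, hs₂0, tr₂⟩ := transfer t2 h.le (fr.rat_e 0) (fr.rat_e 1) (fr.rat_f 2)
    (fr.rat_e 1) (fr.Qe 0) (fr.Qe 1) (fr.Qf 2) (fr.Qe 1) (fr.ee 0 1) (fen 2 1 (Ne.symm n12))
    i01 i21
  -- the key closure property
  have key : ∀ c₁ c₂ : F, rt Q (fr.e 0) (fr.e 1) c₁ ∈ M → rt Q (fr.e 0) (fr.e 1) c₂ ∈ M →
      rt Q (fr.e 0) (fr.e 1) (-(s₁ * s₂) * (c₁ * c₂)) ∈ M := by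
    intro c₁ c₂ h1 h2
    have m1 := tr₁ c₁ h1
    have m2 := tr₂ c₂ h2
    have hcm := rt_comm (Q := Q) (u := fr.e 0) (v := fr.e 1) (w := fr.e 2) (w' := fr.f 2)
      (fr.Qe 0) (fr.Qe 1) (fr.Qe 2) (fr.Qf 2) (fr.ee 0 1) (fr.ee 0 2) (fr.ee 1 2)
      (efn 0 2 n02) (efn 1 2 n12) (ef 2) (s₁ * c₁) (s₂ * c₂)
    have e : -(s₁ * s₂) * (c₁ * c₂) = -(s₁ * c₁ * (s₂ * c₂)) := by ring
    rw [e, ← hcm, commutatorElement_def]
    exact M.mul_mem (M.mul_mem (M.mul_mem m1 m2) (M.inv_mem m1)) (M.inv_mem m2)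
  have hF₀ : ∀ r ∈ F₀, rt Q (fr.e 0) (fr.e 1) r ∈ M := fun r hr =>
    h.le (rt_mem_H0 hq (fr.rat_e 0) (fr.rat_e 1) hr)
  have hσ : -(s₁ * s₂) ∈ F₀ := F₀.neg_mem (F₀.mul_mem hs₁ hs₂)
  have hσ0 : -(s₁ * s₂) ≠ 0 := neg_ne_zero.2 (mul_ne_zero hs₁0 hs₂0)
  have hmul : ∀ c₁ c₂ : F, rt Q (fr.e 0) (fr.e 1) c₁ ∈ M → rt Q (fr.e 0) (fr.e 1) c₂ ∈ M →
      rt Q (fr.e 0) (fr.e 1) (c₁ * c₂) ∈ M := by
    intro c₁ c₂ h1 h2
    have h3 := key (-(s₁ * s₂))⁻¹ c₁ (hF₀ _ (F₀.inv_mem hσ)) h1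
    have e : -(s₁ * s₂) * ((-(s₁ * s₂))⁻¹ * c₁) = c₁ := by
      rw [← mul_assoc, mul_inv_cancel₀ hσ0, one_mul]
    rw [e] at h3
    -- now c₁ = σ c₁' with c₁' := σ⁻¹ c₁ ... use key with σ⁻¹ c₁
    have h4 : rt Q (fr.e 0) (fr.e 1) ((-(s₁ * s₂))⁻¹ * c₁) ∈ M := by
      have h5 := key ((-(s₁ * s₂))⁻¹ * (-(s₁ * s₂))⁻¹) c₁
        (hF₀ _ (F₀.mul_mem (F₀.inv_mem hσ) (F₀.inv_mem hσ))) h1
      have e5 : -(s₁ * s₂) * ((-(s₁ * s₂))⁻¹ * (-(s₁ * s₂))⁻¹ * c₁) = (-(s₁ * s₂))⁻¹ * c₁ := by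
        rw [← mul_assoc, ← mul_assoc, mul_inv_cancel₀ hσ0, one_mul]
      rw [e5] at h5
      exact h5
    have h6 := key _ c₂ h4 h2
    have e6 : -(s₁ * s₂) * ((-(s₁ * s₂))⁻¹ * c₁ * c₂) = c₁ * c₂ := by
      rw [← mul_assoc, ← mul_assoc, mul_inv_cancel₀ hσ0, one_mul]
    rw [e6] at h6
    exact h6
  -- the subalgebra
  let A : Subalgebra F₀ F :=
    { carrier := {c | rt Q (fr.e 0) (fr.e 1) c ∈ M}
      mul_mem' := fun {a b} ha hb => hmul a b ha hb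
      one_mem' := hF₀ 1 F₀.one_mem
      add_mem' := fun {a b} ha hb => by
        show rt Q (fr.e 0) (fr.e 1) (a + b) ∈ M
        rw [← rt_mul]
        exact M.mul_mem ha hb
      zero_mem' := hF₀ 0 F₀.zero_mem
      algebraMap_mem' := fun r => hF₀ _ r.2 }
  have hA : ∀ c, c ∈ A ↔ rt Q (fr.e 0) (fr.e 1) c ∈ M := fun c => Iff.rfl
  have hsimple := Subalgebra.isSimpleOrder_of_finrank_prime F₀ F h.prime
  rcases hsimple.eq_bot_or_eq_top A with hbot | htop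
  · -- A = F₀
    obtain ⟨σ, hσ', hσ'0, tr⟩ := transfer t2 h.le hu hv (fr.rat_e 0) (fr.rat_e 1) hQu hQv
      (fr.Qe 0) (fr.Qe 1) huv (fr.ee 0 1) hi i01
    have hm : σ * c ∈ A := (hA _).2 (tr c hc)
    rw [hbot, Algebra.mem_bot] at hm
    obtain ⟨r, hr⟩ := hm
    have hr' : σ * c ∈ F₀ := by rw [← hr]; exact r.2
    have : c = σ⁻¹ * (σ * c) := by rw [← mul_assoc, inv_mul_cancel₀ hσ'0, one_mul]
    rw [this]
    exact F₀.mul_mem (F₀.inv_mem hσ') hr'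
  · -- A = F : contradiction
    exfalso
    apply h.ne
    apply omega_le_of_all_of sp dec hq fr
    intro u' v' hu' hv' c'
    by_cases hh : Q u' = 0 ∧ Q v' = 0 ∧ polar Q u' v' = 0
    · obtain ⟨hQu', hQv', huv'⟩ := hh
      by_cases hi' : LinearIndependent F ![u', v']
      · obtain ⟨σ, hσ', hσ'0, tr⟩ := transfer t2 h.le (fr.rat_e 0) (fr.rat_e 1) hu' hv' (fr.Qe 0)
          (fr.Qe 1) hQu' hQv' (fr.ee 0 1) huv' i01 hi'
        have hm : σ⁻¹ * c' ∈ A := by rw [htop]; exact Algebra.mem_top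
        have := tr _ ((hA _).1 hm)
        rw [← mul_assoc, mul_inv_cancel₀ hσ'0, one_mul] at this
        exact this
      · rw [rt_eq_one_of_dep hi']
        exact M.one_mem
    · rw [rt_of_not hh]
      exact M.one_mem

end Cfsg.Agent.Lib.Helper27.OSubCore
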