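import Mathlib
import Cfsg.Prelude.Def_ClassicalGeometry
import Cfsg.Prelude.Def_GeometricClasses
import Cfsg.Agent.Lib.Helper5.TSMax
import Cfsg.Agent.Lib.Helper19.OSubDefs
import Cfsg.Agent.Lib.Helper19.OSubBasic
import Cfsg.Agent.Lib.Helper19.OSubDescent
import Cfsg.Agent.Lib.Helper20.OSubSP
import Cfsg.Agent.Lib.Helper20.OSubDEC
import Cfsg.Agent.Lib.Helper18.OSubF12
import Cfsg.Agent.Lib.Helper27.OSubC2core

/-!
helper27: S5683 / S5702 leaf C2 (`omega_le_of_all`), exact signature of `notes/S5683_leaves.lean`.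
-/

set_option autoImplicit false
set_option linter.unusedSectionVars false
set_option linter.unusedVariables false

namespace Cfsg.Agent.Lib.Helper27.OSubLeaf
open Cfsg Matrix QuadraticMap Module Cfsg.Agent.Lib.Helper25.Siegel Cfsg.Agent.Lib.Helper19.OSub
open scoped commutatorElement

variable {ι : Type} [Fintype ι] [DecidableEq ι] {F : Type*} [Field F] [Fintype F]
  {F₀ : Subfield F} {Q : QuadraticForm F (ι → F)} {M : Subgroup (GL ι F)}

theorem spStmt : Cfsg.Agent.Lib.Helper27.OSubCore.SPStmt F₀ Q :=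
  fun hQe₁ hQf₁ h11 h01 h01' _ hx =>
    Cfsg.Agent.Lib.Helper20.OSubLeaf.exists_sing_decomp hQe₁ hQf₁ h11 h01 h01' hx

theorem decStmt : Cfsg.Agent.Lib.Helper27.OSubCore.DECStmt Q :=
  fun hQa l hl _ hQv hav _ hv =>
    Cfsg.Agent.Lib.Helper20.OSubLeaf.rt_list_prod hQa l hl hQv hav hv

/-- C2 (GEN): if all `x_{u,v}(c)`, `u, v` rational, `c ∈ F` lie in `M`, then `M ≥ Ω` -/
theorem omega_le_of_all (h : QCtx F₀ Q)
    (hall : ∀ u v : ι → F, RatV F₀ u → RatV F₀ v → ∀ c : F, rt Q u v c ∈ M) :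
    Cfsg.Geo.omegaGL ⇑Q ≤ M := by
  obtain ⟨fr⟩ := Cfsg.Agent.Lib.Helper18.OSubLeaf.exists_frame h
  exact Cfsg.Agent.Lib.Helper27.OSubCore.omega_le_of_all_of spStmt decStmt h fr hall

end Cfsg.Agent.Lib.Helper27.OSubLeaf
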