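import Mathlib
import Cfsg.Prelude.Def_ClassicalGeometry
import Cfsg.Prelude.Def_GeometricClasses
import Cfsg.Agent.Lib.Helper5.TSMax
import Cfsg.Agent.Lib.Helper19.OSubDefs
import Cfsg.Agent.Lib.Helper19.OSubBasic
import Cfsg.Agent.Lib.Helper19.OSubDescent
import Cfsg.Agent.Lib.Helper18.OSubF12
import Cfsg.Agent.Lib.Helper27.OSubP1core

/-!
helper27: S5683 / S5702 leaf E (`easy_case`), core version: T1, N1, L1b, SP and the frame are explicit
hypotheses (F2 is used directly).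
-/

set_option autoImplicit false
set_option linter.unusedSectionVars false
set_option linter.unusedVariables false

namespace Cfsg.Agent.Lib.Helper27.OSubCore
open Cfsg Matrix QuadraticMap Module Cfsg.Agent.Lib.Helper25.Siegel Cfsg.Agent.Lib.Helper19.OSub
open scoped commutatorElement

variable {ι : Type} [Fintype ι] [DecidableEq ι] {F : Type*} [Field F] [Fintype F]
  {F₀ : Subfield F} {Q : QuadraticForm F (ι → F)} {M : Subgroup (GL ι F)}

/-- in a quadratic extension every vector is `b₀ y₁ + b₁ y₂` with `y₁, y₂` rational -/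
theorem exists_rat_decomp (hr : Module.finrank F₀ F = 2) :
    ∃ b₀ b₁ : F, ∀ x : ι → F, ∃ y₁ y₂ : ι → F, RatV F₀ y₁ ∧ RatV F₀ y₂ ∧ x = b₀ • y₁ + b₁ • y₂ := by
  obtain ⟨b⟩ : Nonempty (Basis (Fin 2) F₀ F) := ⟨Module.finBasisOfFinrankEq F₀ F hr⟩
  refine ⟨b 0, b 1, fun x => ?_⟩
  refine ⟨fun i => ((b.repr (x i) 0 : F₀) : F), fun i => ((b.repr (x i) 1 : F₀) : F),
    fun i => (b.repr (x i) 0).2, fun i => (b.repr (x i) 1).2, ?_⟩
  funext i
  have := b.sum_repr (x i)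
  rw [Fin.sum_univ_two] at this
  rw [Pi.add_apply, Pi.smul_apply, Pi.smul_apply, smul_eq_mul, smul_eq_mul]
  conv_lhs => rw [← this]
  rw [Subfield.smul_def, Subfield.smul_def, smul_eq_mul, smul_eq_mul]
  ring

/-- E (core) -/
theorem easy_case_of (sp : SPStmt F₀ Q) (t1 : T1Stmt F₀ Q) (n1 : N1Stmt F₀ Q M)
    (l1b : L1bStmt F₀ Q M) (h : Ctx F₀ Q M) (fr : Frame F₀ Q 6)
    (hr : Module.finrank F₀ F = 2) {g : GL ι F} (hg : g ∈ M) :
    g ∈ Cfsg.Geo.subfieldSubgroup F₀ (1 : GL ι F) := by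
  have hq : QCtx F₀ Q := h.toQCtx
  have ef : ∀ i, polar Q (fr.e i) (fr.f i) = 1 := fun i => by rw [fr.ef, if_pos rfl]
  have he0 : fr.e 0 ≠ 0 := by
    intro h0
    have := ef 0
    rw [h0, polar_zero_left] at this
    exact zero_ne_one this
  obtain ⟨b₀, b₁, hdec⟩ := exists_rat_decomp (ι := ι) (F₀ := F₀) hr
  obtain ⟨y₁, y₂, hy₁, hy₂, hx⟩ := hdec (mv g (fr.e 0))
  obtain ⟨d₁, d₁', d₂, d₂', h₁, h₂, h12, h12', h1'2, h1'2', p1, p1', p2, p2', q1, q1', q2, q2'⟩ :=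
    Cfsg.Agent.Lib.Helper18.OSubLeaf.exists_perp_pairs hq hy₁ hy₂
  have key : ∀ d, polar Q y₁ d = 0 → polar Q y₂ d = 0 → polar Q (mv g (fr.e 0)) d = 0 := by
    intro d e1 e2
    rw [hx, polar_add_left, polar_smul_left, polar_smul_left, e1, e2]
    simp
  exact mem_of_perp_pairs_of sp t1 n1 l1b h fr hg (fr.rat_e 0) he0 (fr.Qe 0) h₁ h₂ h12 h12' h1'2
    h1'2' (key _ p1 q1) (key _ p1' q1') (key _ p2 q2) (key _ p2' q2')

end Cfsg.Agent.Lib.Helper27.OSubCore
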