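import Mathlib
import Cfsg.Agent.Lib.Helper27.A7BlkE

/-!
# The principal `p`-block for `|P| = p`, `C(P) = P`, `|N(P)| = 2p`, part A (helper27)

For a group whose Sylow `p`-subgroup `P` has prime order `p ≥ 5`, `C(P) = P`, `|N(P) : C(P)| = 2`,
the Brauer–Leonard theorem (`m = 2`) gives the principal `p`-block `X ∪ Y` with
`∑_{χ ∈ X} a_χ² = 2`, the relation `κ η + ∑ a_χ χ = 0` (`κ = ± 1`) on the `p`-regular elements,
and the vanishing of all other irreducible characters on the elements of order `p`.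
(Generic clone of `A7Blk.bl7_extract_val`.)
-/

set_option autoImplicit false
set_option linter.unusedSectionVars false
set_option linter.style.haveILetI false

namespace Cfsg.Agent.Lib.Helper27.BLTwo

open MulAction Cfsg Cfsg.Agent.Lib.Helper8.SmallSimple Cfsg.Agent.Lib.Helper8.SmallSimple2
  Cfsg.Agent.Lib.Helper7 Cfsg.Agent.Lib.Helper19.Ord4032 Cfsg.Agent.CharLib
  Cfsg.Agent.Lib.Helper24 Cfsg.Agent.Lib.Helper12.BSF Cfsg.Agent.Lib.Helper6
  Cfsg.Agent.Lib.Helper5.M11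
open scoped ComplexConjugate

universe u

variable {G : Type u} [Group G] [Finite G]

/-- the integer arithmetic of the Brauer–Leonard norm equation for `m = 2` -/
theorem norm_arith (t d δ S : ℤ) (ht : 2 ≤ t) (hδ : δ = 1 ∨ δ = -1) (hS : 1 ≤ S)
    (h : (d - δ) ^ 2 + (t - 1) * d ^ 2 + S = 3) :
    ((t * d - δ = 1 ∨ t * d - δ = -1) ∧ S = 2) ∨ (t = 3 ∧ d = δ ∧ S = 1) := by
  have hd2 : d ^ 2 ≤ 2 := by
    have h2 : 0 ≤ (t - 2) * d ^ 2 := mul_nonneg (by linarith) (sq_nonneg d)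
    nlinarith [sq_nonneg (d - δ)]
  have hd1 : -1 ≤ d := by nlinarith
  have hd1' : d ≤ 1 := by nlinarith
  rcases hδ with rfl | rfl
  · interval_cases d
    · exfalso
      nlinarith
    · left
      exact ⟨Or.inr (by ring), by linarith⟩
    · have h3 : t - 1 + S = 3 := by linarith
      have ht3 : t ≤ 3 := by linarith
      interval_cases t
      · left
        exact ⟨Or.inl (by norm_num), by linarith⟩
      · right
        exact ⟨rfl, rfl, by linarith⟩
  · interval_cases d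
    · have h3 : t - 1 + S = 3 := by linarith
      have ht3 : t ≤ 3 := by linarith
      interval_cases t
      · left
        exact ⟨Or.inr (by norm_num), by linarith⟩
      · right
        exact ⟨rfl, rfl, by linarith⟩
    · left
      exact ⟨Or.inl (by ring), by linarith⟩
    · exfalso
      nlinarith

set_option maxHeartbeats 1600000 in
/-- the data of the principal `p`-block when `|P| = p`, `C(P) = P`, `|N(P) : C(P)| = 2` -/
theorem bl_two_extract (p : ℕ) [hp : Fact p.Prime] (h5 : 5 ≤ p)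
    (P : Sylow p G) (hP : Nat.card ↥(P : Subgroup G) = p)
    (hCc : Nat.card ↥(Subgroup.centralizer ((P : Subgroup G) : Set G)) = p)
    (hr : (Subgroup.centralizer ((P : Subgroup G) : Set G)).relIndex
      (Subgroup.normalizer ((P : Subgroup G) : Set G)) = 2) :
    ∃ (Xf Yf : Finset (IrrCharacter G)) (χ₁ : IrrCharacter G) (a : IrrCharacter G → ℤ)
      (κ : ℤ),
      χ₁ ∈ Xf ∧ (χ₁ : G → ℂ) = (fun _ => 1) ∧ a χ₁ = 1 ∧ (∀ χ ∈ Xf, a χ ≠ 0) ∧
      Yf.Nonempty ∧ Disjoint Xf Yf ∧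
      (κ = 1 ∨ κ = -1) ∧ ∑ χ ∈ Xf, a χ ^ 2 = 2 ∧
      (∀ η ∈ Yf, ∀ η' ∈ Yf, ∀ g : G, ¬ p ∣ orderOf g → (η : G → ℂ) g = (η' : G → ℂ) g) ∧
      (∀ η ∈ Yf, ∀ g : G, ¬ p ∣ orderOf g →
        (κ : ℂ) * (η : G → ℂ) g + ∑ χ ∈ Xf, (a χ : ℂ) * (χ : G → ℂ) g = 0) ∧
      (∀ χ ∈ Xf, ∀ y ∈ (P : Subgroup G), y ≠ 1 → (χ : G → ℂ) y = (a χ : ℂ)) ∧
      (∀ χ : IrrCharacter G, χ ∉ Xf → χ ∉ Yf →
        ∀ y ∈ (P : Subgroup G), y ≠ 1 → (χ : G → ℂ) y = 0) := by
  classical
  letI : Fintype G := Fintype.ofFinite G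
  letI : Fintype (IrrCharacter G) := fintypeIrr G
  letI : Fintype ↥(P : Subgroup G) := Fintype.ofFinite _
  have hpp : p.Prime := hp.out
  have hCN : Subgroup.centralizer ((P : Subgroup G) : Set G) ≤
      Subgroup.normalizer ((P : Subgroup G) : Set G) := Subgroup.centralizer_le_normalizer _
  have hab : IsMulCommutative ↥P := by
    have hcyc : IsCyclic ↥(P : Subgroup G) := isCyclic_of_prime_card hP
    exact IsCyclic.isMulCommutative
  have hcyc := exists_cyc_of_relIndex_prime _ _ hCN 2 (by norm_num) hr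
  have hzpow : ∀ y : G, y ∈ (P : Subgroup G) → y ≠ 1 →
      Subgroup.zpowers y = (P : Subgroup G) := by
    intro y hyP hy1
    apply le_antisymm
    · rw [Subgroup.zpowers_le]; exact hyP
    · exact le_zpowers_of_card_prime p (P : Subgroup G) hP y hyP hy1
  have hfrob : ∀ y : G, y ∈ (P : Subgroup G) → y ≠ 1 →
      Subgroup.centralizer ({y} : Set G) ⊓ Subgroup.normalizer ((P : Subgroup G) : Set G) =
        Subgroup.centralizer ((P : Subgroup G) : Set G) := by
    intro y hyP hy1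
    rw [← centralizer_zpowers_eq', hzpow y hyP hy1]
    exact inf_eq_left.mpr hCN
  have hCy : ∀ y : G, y ∈ (P : Subgroup G) → y ≠ 1 →
      Nat.card ↥(Subgroup.centralizer ({y} : Set G)) = p := by
    intro y hyP hy1
    rw [← centralizer_zpowers_eq', hzpow y hyP hy1, hCc]
  have hppart : ∀ y : G, y ∈ (P : Subgroup G) → y ≠ 1 → IsPPart p y y := by
    intro y hyP hy1
    have hord : orderOf y = p := orderOf_eq_of_card_prime p (P : Subgroup G) hP y hyP hy1
    refine ⟨1, mul_one _, Commute.one_right _, ⟨1, by rw [hord, pow_one]⟩, ?_⟩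
    rw [orderOf_one]
    exact hpp.one_lt.ne' ∘ Nat.dvd_one.mp
  obtain ⟨M, hM⟩ := exists_isPModular p
  have hcardP : Nat.card P = p := hP
  obtain ⟨s, X, Y, hs, hB, hdisj, hXc, hYc, ⟨χ₁, hχ₁X, hχ₁⟩, a, d, δ, ζ, hδ, hX, -, -, -, -, heq,
    hYreg, hrel⟩ := brauer_leonard_main p M hM P hab 2 (by norm_num) (by rw [hcardP]; omega) hr
      hcyc hfrob
  rw [hcardP] at hYc heq hrel
  have hXfin : X.Finite := Set.toFinite X
  have hYfin : Y.Finite := Set.toFinite Y
  have ht2 : 2 ≤ (p - 1) / 2 := by omega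
  have hrt : ((p : ℤ) - 1) / ((2 : ℕ) : ℤ) = (((p - 1) / 2 : ℕ) : ℤ) := by
    rw [Int.natCast_div, Nat.cast_sub hpp.pos]
    simp
  rw [hrt, finsum_mem_eq_finite_toFinset_sum _ hXfin] at heq
  have h21 : (((2 : ℕ) : ℤ) + 1) = 3 := by norm_num
  rw [h21] at heq
  clear hrt
  generalize (p - 1) / 2 = t at hYc heq hrel ht2
  have hYne : hYfin.toFinset.Nonempty := by
    rw [← Finset.card_pos, ← Set.ncard_eq_toFinset_card Y hYfin, ← Nat.card_coe_set_eq, hYc]
    omega
  have hrel' : ∀ η ∈ Y, ∀ g : G, ¬ p ∣ orderOf g →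
      ((t : ℂ) * d - δ) * (η : G → ℂ) g +
        ∑ χ ∈ hXfin.toFinset, (a χ : ℂ) * (χ : G → ℂ) g = 0 := by
    intro η hη g hg
    have := hrel η hη g hg
    rw [finsum_mem_eq_finite_toFinset_sum _ hXfin] at this
    exact this
  obtain ⟨y, hyP, hy⟩ := exists_prime_order_mem (P : Subgroup G) p (by rw [hP])
  have hy1 : y ≠ 1 := by
    intro h
    rw [h, orderOf_one] at hy
    omega
  have ha1 : a χ₁ = 1 := by
    have h1 := (hX χ₁ hχ₁X).2 y y (hppart y hyP hy1) hyP hy1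
    rw [hχ₁] at h1
    have h2 : ((a χ₁ : ℤ) : ℂ) = ((1 : ℤ) : ℂ) := by rw [← h1]; norm_num
    exact_mod_cast h2
  have hmemX : ∀ χ, χ ∈ hXfin.toFinset ↔ χ ∈ X := fun χ => Set.Finite.mem_toFinset hXfin
  have hmemY : ∀ χ, χ ∈ hYfin.toFinset ↔ χ ∈ Y := fun χ => Set.Finite.mem_toFinset hYfin
  have hXY : ∀ χ, χ ∈ X → χ ∈ Y → False := fun χ h1 h2 =>
    (Set.disjoint_left.mp hdisj h1) h2
  -- characters outside the principal block
  have hvanish : ∀ χ : IrrCharacter G, χ ∉ hXfin.toFinset → χ ∉ hYfin.toFinset →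
      ∀ w : G, w ∈ (P : Subgroup G) → w ≠ 1 → (χ : G → ℂ) w = 0 := by
    intro χ hχX hχY
    have hχB : χ ∉ principalBlock M G := by
      rw [hB]
      rintro (h | h)
      · exact hχX ((hmemX χ).mpr h)
      · exact hχY ((hmemY χ).mpr h)
    have hBfin : (principalBlock M G).Finite := Set.toFinite _
    intro w hwP hw1
    have h1 := BLFrob.sum_sq hM (P := P) hfrob hab w hwP hw1
    have h2 := sum_irr_mul_conj (G := G) w w
    rw [Cfsg.Agent.Lib.Helper19.Ord720.classInd_self, one_mul, hCy w hwP hw1] at h2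
    rw [hP, finsum_mem_eq_finite_toFinset_sum _ hBfin] at h1
    have h3 : ∑ ψ ∈ Finset.univ \ hBfin.toFinset,
        (ψ : G → ℂ) w * conj ((ψ : G → ℂ) w) = 0 := by
      have := Finset.sum_sdiff (Finset.subset_univ hBfin.toFinset)
        (f := fun ψ : IrrCharacter G => (ψ : G → ℂ) w * conj ((ψ : G → ℂ) w))
      rw [h1, h2] at this
      linear_combination this
    have h4 : ∑ ψ ∈ Finset.univ \ hBfin.toFinset, ‖(ψ : G → ℂ) w‖ ^ 2 = 0 := by
      have h5 : ∀ ψ : IrrCharacter G, (ψ : G → ℂ) w * conj ((ψ : G → ℂ) w) =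
          ((‖(ψ : G → ℂ) w‖ ^ 2 : ℝ) : ℂ) := by
        intro ψ
        rw [Complex.mul_conj']
        push_cast
        rfl
      simp only [h5] at h3
      exact_mod_cast h3
    have hmem : χ ∈ Finset.univ \ hBfin.toFinset := by
      rw [Finset.mem_sdiff]
      exact ⟨Finset.mem_univ _, by rw [Set.Finite.mem_toFinset]; exact hχB⟩
    have h6 := (Finset.sum_eq_zero_iff_of_nonneg (fun ψ _ => sq_nonneg _)).mp h4 χ hmem
    exact norm_eq_zero.mp ((pow_eq_zero_iff (two_ne_zero)).mp h6)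
  have hχ₁Xf : χ₁ ∈ hXfin.toFinset := (hmemX χ₁).mpr hχ₁X
  have hsum1 : 1 ≤ ∑ χ ∈ hXfin.toFinset, a χ ^ 2 := by
    have := Finset.single_le_sum (f := fun χ => a χ ^ 2) (fun x _ => sq_nonneg (a x)) hχ₁Xf
    have h' : a χ₁ ^ 2 ≤ ∑ χ ∈ hXfin.toFinset, a χ ^ 2 := this
    rw [ha1] at h'
    linarith
  have htZ : (2 : ℤ) ≤ (t : ℤ) := by exact_mod_cast ht2
  have hκcast : ((t : ℂ) * d - δ) =
      (((t : ℤ) * d - δ : ℤ) : ℂ) := by push_cast; ring
  have hκsum : ((t : ℤ) * d - δ = 1 ∨ (t : ℤ) * d - δ = -1) ∧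
      ∑ χ ∈ hXfin.toFinset, a χ ^ 2 = 2 := by
    rcases norm_arith _ d δ _ htZ hδ hsum1 (by linarith) with h | ⟨h3, hdδ, hS1⟩
    · exact h
    · exfalso
      -- `X = {χ₁}` and the degree relation `2 δ η(1) + 1 = 0` is impossible
      have hXeq : ∀ χ ∈ hXfin.toFinset, χ = χ₁ := by
        intro χ hχ
        by_contra hne
        have hsub : ({χ₁, χ} : Finset (IrrCharacter G)) ⊆ hXfin.toFinset := by
          intro ψ hψ
          rcases Finset.mem_insert.mp hψ with rfl | hψ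
          · exact hχ₁Xf
          · rw [Finset.mem_singleton] at hψ
            rw [hψ]; exact hχ
        have hle := Finset.sum_le_sum_of_subset_of_nonneg hsub
          (f := fun χ : IrrCharacter G => a χ ^ 2) (fun _ _ _ => sq_nonneg _)
        rw [Finset.sum_pair (fun h => hne h.symm), ha1, hS1] at hle
        have h0 : a χ ^ 2 ≤ 0 := by linarith
        have h0' : a χ ^ 2 = 0 := le_antisymm h0 (sq_nonneg _)
        exact (hX χ ((hmemX χ).mp hχ)).1 (pow_eq_zero_iff (two_ne_zero) |>.mp h0')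
      have hXsing : hXfin.toFinset = {χ₁} := by
        apply Finset.eq_singleton_iff_unique_mem.mpr
        exact ⟨hχ₁Xf, hXeq⟩
      obtain ⟨η, hη⟩ := hYne
      have hrel1 := hrel' η ((hmemY η).mp hη) 1
        (by rw [orderOf_one]; exact hpp.one_lt.ne' ∘ Nat.dvd_one.mp)
      rw [hXsing, Finset.sum_singleton, ha1, hχ₁, irr_apply_one] at hrel1
      have h3' : (t : ℂ) = 3 := by
        have : ((t : ℤ) : ℂ) = ((3 : ℤ) : ℂ) := by rw [h3]
        exact_mod_cast this
      rw [h3', hdδ] at hrel1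
      have hZ : (2 * δ * (charDegree (η : G → ℂ) : ℤ) + 1 : ℤ) = 0 := by
        have : ((2 * δ * (charDegree (η : G → ℂ) : ℤ) + 1 : ℤ) : ℂ) = ((0 : ℤ) : ℂ) := by
          push_cast
          linear_combination hrel1
        exact_mod_cast this
      rcases hδ with rfl | rfl <;> omega
  refine ⟨hXfin.toFinset, hYfin.toFinset, χ₁, a, (t : ℤ) * d - δ, hχ₁Xf, hχ₁, ha1,
    fun χ hχ => (hX χ ((hmemX χ).mp hχ)).1, hYne, ?_, hκsum.1, hκsum.2, ?_, ?_,
    fun χ hχ y hyP' hy1' => (hX χ ((hmemX χ).mp hχ)).2 y y (hppart y hyP' hy1') hyP' hy1', hvanish⟩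
  · rw [Finset.disjoint_left]
    intro χ h1 h2
    exact hXY χ ((hmemX χ).mp h1) ((hmemY χ).mp h2)
  · intro η hη η' hη' g hg
    exact hYreg η ((hmemY η).mp hη) η' ((hmemY η').mp hη') g hg
  · intro η hη g hg
    have := hrel' η ((hmemY η).mp hη) g hg
    rw [hκcast] at this
    exact this

end Cfsg.Agent.Lib.Helper27.BLTwo
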