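import Mathlib
import Cfsg.Agent.Lib.Helper27.BLTwoA

/-!
# The principal `p`-block for `|P| = p`, `C(P) = P`, `|N(P)| = 2p`, part B (helper27)

* `Blk2 p x Yf f a e κ`: the principal block is `{1, x} ∪ Yf`, `x` of degree `f` with value
  `a = ± 1` on the elements of order `p`, the exceptional characters `Yf` of degree `e`,
  `κ η + 1 + a x = 0` on the `p`-regular elements, all other irreducible characters vanish on the
  elements of order `p`;
* `exists_blk2`;
* `Blk2.pair_count`: the class multiplication coefficients with an element of order `p`;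
* `Blk2.pair_count_self`: `#{s ~ z, s⁻¹ y ~ z} |C(z)|² f (f + a) = |G| (f - x(z))²`.
-/

set_option autoImplicit false
set_option linter.unusedSectionVars false
set_option linter.style.haveILetI false

namespace Cfsg.Agent.Lib.Helper27.BLTwo

open Cfsg Cfsg.Agent.CharLib Cfsg.Agent.Lib.Helper24 Cfsg.Agent.Lib.Helper5.L33
open scoped ComplexConjugate

universe u

variable {G : Type u} [Group G] [Finite G]

/-- the data of the principal `p`-block -/
structure Blk2 (p : ℕ) (x : IrrCharacter G) (Yf : Finset (IrrCharacter G))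
    (f : ℕ) (a : ℤ) (e : ℕ) (κ : ℤ) : Prop where
  dx : charDegree (x : G → ℂ) = f
  neY : Yf.Nonempty
  dY : ∀ η ∈ Yf, charDegree (η : G → ℂ) = e
  nxY : x ∉ Yf
  tx : (x : G → ℂ) ≠ (fun _ => 1)
  tY : ∀ η ∈ Yf, (η : G → ℂ) ≠ (fun _ => 1)
  ha : a = 1 ∨ a = -1
  hκ : κ = 1 ∨ κ = -1
  vp : ∀ y : G, orderOf y = p → (x : G → ℂ) y = (a : ℂ)
  rel : ∀ η ∈ Yf, ∀ g : G, ¬ p ∣ orderOf g →
    (κ : ℂ) * (η : G → ℂ) g + 1 + (a : ℂ) * (x : G → ℂ) g = 0
  rest : ∀ χ : IrrCharacter G, (χ : G → ℂ) ≠ (fun _ => 1) → χ ≠ x → χ ∉ Yf →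
    ∀ y : G, orderOf y = p → (χ : G → ℂ) y = 0

/-- an element of order `p` is conjugate to an element of a given Sylow `p`-subgroup -/
theorem exists_conj_mem_sylow (p : ℕ) [hp : Fact p.Prime] (P : Sylow p G)
    (y : G) (hy : orderOf y = p) :
    ∃ g : G, g * y * g⁻¹ ∈ (P : Subgroup G) ∧ g * y * g⁻¹ ≠ 1 := by
  have hpg : IsPGroup p ↥(Subgroup.zpowers y) := by
    apply IsPGroup.of_card (n := 1)
    rw [Nat.card_zpowers, hy, pow_one]
  obtain ⟨Q, hQ⟩ := hpg.exists_le_sylow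
  obtain ⟨g, hg⟩ := MulAction.exists_smul_eq G Q P
  refine ⟨g, ?_, ?_⟩
  · rw [← hg]
    have hyQ : y ∈ (Q : Subgroup G) := hQ (Subgroup.mem_zpowers y)
    rw [Sylow.coe_subgroup_smul]
    exact ⟨y, hyQ, rfl⟩
  · intro h
    have : y = 1 := by
      calc y = g⁻¹ * (g * y * g⁻¹) * g := by group
        _ = 1 := by rw [h]; group
    rw [this, orderOf_one] at hy
    exact hp.out.one_lt.ne hy

set_option maxHeartbeats 800000 in
/-- **the principal `p`-block** when `|P| = p`, `C(P) = P`, `|N(P)| = 2 p` -/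
theorem exists_blk2 (p : ℕ) [hp : Fact p.Prime] (h5 : 5 ≤ p)
    (P : Sylow p G) (hP : Nat.card ↥(P : Subgroup G) = p)
    (hCc : Nat.card ↥(Subgroup.centralizer ((P : Subgroup G) : Set G)) = p)
    (hr : (Subgroup.centralizer ((P : Subgroup G) : Set G)).relIndex
      (Subgroup.normalizer ((P : Subgroup G) : Set G)) = 2) :
    ∃ (x : IrrCharacter G) (Yf : Finset (IrrCharacter G)) (f : ℕ) (a : ℤ) (e : ℕ) (κ : ℤ),
      Blk2 p x Yf f a e κ := by
  classical
  letI : Fintype G := Fintype.ofFinite G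
  letI : Fintype (IrrCharacter G) := fintypeIrr G
  obtain ⟨Xf, Yf, χ₁, a, κ, hχ₁X, hχ₁, ha1, ha0, hYne, hdisj, hκ, hsum, hYreg, hrel,
    hXval, hvan⟩ := bl_two_extract p h5 P hP hCc hr
  have hreg1 : ¬ p ∣ orderOf (1 : G) := by
    rw [orderOf_one]; exact hp.out.one_lt.ne' ∘ Nat.dvd_one.mp
  obtain ⟨η₀, hη₀⟩ := hYne
  have hdegY : ∀ η ∈ Yf, charDegree (η : G → ℂ) = charDegree (η₀ : G → ℂ) := by
    intro η hη
    have h := hYreg η hη η₀ hη₀ 1 hreg1
    rw [irr_apply_one, irr_apply_one] at h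
    exact_mod_cast h
  obtain ⟨x1, x2, h12, hXeq, hax1, hax2⟩ := sq_sum_two Xf a ha0 hsum
  -- the non-trivial character of `Xf`
  obtain ⟨x, hxX, hxne, hax, hXf_mem⟩ : ∃ x, x ∈ Xf ∧ x ≠ χ₁ ∧ (a x = 1 ∨ a x = -1) ∧
      ∀ χ ∈ Xf, χ = χ₁ ∨ χ = x := by
    have hmem : χ₁ = x1 ∨ χ₁ = x2 := by
      rw [hXeq] at hχ₁X
      simpa using hχ₁X
    rcases hmem with h | h
    · refine ⟨x2, by rw [hXeq]; simp, fun h' => h12 (h.symm.trans h'.symm), hax2, ?_⟩
      intro χ hχ
      rw [hXeq] at hχ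
      rcases Finset.mem_insert.mp hχ with h' | h'
      · left; rw [h', h]
      · right; exact Finset.mem_singleton.mp h'
    · refine ⟨x1, by rw [hXeq]; simp, fun h' => h12 (h'.trans h), hax1, ?_⟩
      intro χ hχ
      rw [hXeq] at hχ
      rcases Finset.mem_insert.mp hχ with h' | h'
      · right; exact h'
      · left; rw [Finset.mem_singleton.mp h', h]
  have hXfeq : Xf = {χ₁, x} := by
    apply Finset.ext
    intro χ
    constructor
    · intro hχ
      rcases hXf_mem χ hχ with rfl | rfl <;> simp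
    · intro hχ
      rcases Finset.mem_insert.mp hχ with rfl | h'
      · exact hχ₁X
      · rw [Finset.mem_singleton.mp h']; exact hxX
  have hnotY : ∀ χ ∈ Xf, χ ∉ Yf := fun χ hχ => Finset.disjoint_left.mp hdisj hχ
  have hval : ∀ χ ∈ Xf, ∀ y : G, orderOf y = p → (χ : G → ℂ) y = (a χ : ℂ) := by
    intro χ hχ y hy
    obtain ⟨g, hgP, hg1⟩ := exists_conj_mem_sylow p P y hy
    have hcl : IsClassFunction G (χ : G → ℂ) :=
      IsCharacter.isClassFunction (IsIrrCharacter.isCharacter χ.2)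
    rw [← hcl y g]
    exact hXval χ hχ _ hgP hg1
  have hvanp : ∀ χ : IrrCharacter G, χ ∉ Xf → χ ∉ Yf → ∀ y : G, orderOf y = p →
      (χ : G → ℂ) y = 0 := by
    intro χ hχX hχY y hy
    obtain ⟨g, hgP, hg1⟩ := exists_conj_mem_sylow p P y hy
    have hcl : IsClassFunction G (χ : G → ℂ) :=
      IsCharacter.isClassFunction (IsIrrCharacter.isCharacter χ.2)
    rw [← hcl y g]
    exact hvan χ hχX hχY _ hgP hg1
  have hne_triv : ∀ χ : IrrCharacter G, χ ≠ χ₁ → (χ : G → ℂ) ≠ (fun _ => 1) := by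
    intro χ hχ h
    exact hχ (Subtype.ext (h.trans hχ₁.symm))
  refine ⟨x, Yf, charDegree (x : G → ℂ), a x, charDegree (η₀ : G → ℂ), κ, ?_⟩
  refine ⟨rfl, ⟨η₀, hη₀⟩, hdegY, hnotY x hxX, hne_triv x hxne, ?_, hax, hκ,
    fun y hy => hval x hxX y hy, ?_, ?_⟩
  · intro η hη
    apply hne_triv
    intro h
    exact hnotY χ₁ hχ₁X (h ▸ hη)
  · intro η hη g hg
    have h := hrel η hη g hg
    rw [hXfeq, Finset.sum_pair (fun h' => hxne h'.symm), ha1, hχ₁] at h
    push_cast at h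
    linear_combination h
  · intro χ h1 h2 h3 y hy
    apply hvanp χ _ h3 y hy
    intro h
    rcases hXf_mem χ h with rfl | rfl
    · exact h1 hχ₁
    · exact h2 rfl

namespace Blk2

variable {p : ℕ} {x : IrrCharacter G} {Yf : Finset (IrrCharacter G)}
  {f : ℕ} {a : ℤ} {e : ℕ} {κ : ℤ} (B : Blk2 p x Yf f a e κ)

include B

theorem triv_ne_x : triv G ≠ x := by
  intro h
  apply B.tx
  rw [← h]
  rfl

theorem triv_notin : triv G ∉ Yf := by
  intro h
  exact B.tY _ h rfl

theorem apply_one_x : (x : G → ℂ) 1 = f := by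
  rw [irr_apply_one, B.dx]

theorem apply_one_Y {η : IrrCharacter G} (hη : η ∈ Yf) : (η : G → ℂ) 1 = e := by
  rw [irr_apply_one, B.dY η hη]

theorem f_pos : 0 < f := by
  rw [← B.dx]; exact irr_charDegree_pos x

theorem e_pos : 0 < e := by
  obtain ⟨η, hη⟩ := B.neY
  rw [← B.dY η hη]; exact irr_charDegree_pos η

theorem kappa_sq : (κ : ℂ) * κ = 1 := by
  rcases B.hκ with h | h <;> rw [h] <;> norm_num

theorem a_sq : (a : ℂ) * a = 1 := by
  rcases B.ha with h | h <;> rw [h] <;> norm_num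

/-- the degree relation -/
theorem deg_rel [hp : Fact p.Prime] : (κ : ℂ) * e + 1 + (a : ℂ) * f = 0 := by
  obtain ⟨η, hη⟩ := B.neY
  have h := B.rel η hη 1 (by rw [orderOf_one]; exact hp.out.one_lt.ne' ∘ Nat.dvd_one.mp)
  rw [B.apply_one_Y hη, B.apply_one_x] at h
  exact h

/-- the value of an exceptional character on a `p`-regular element -/
theorem eta_eq {η : IrrCharacter G} (hη : η ∈ Yf) (g : G) (hg : ¬ p ∣ orderOf g) :
    (η : G → ℂ) g = -(κ : ℂ) * (1 + (a : ℂ) * (x : G → ℂ) g) := by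
  have h := B.rel η hη g hg
  have hk := B.kappa_sq
  linear_combination (κ : ℂ) * h - (η : G → ℂ) g * hk

open Classical in
/-- the characters outside the principal block -/
noncomputable def restSet (_B : Blk2 p x Yf f a e κ) [Fintype (IrrCharacter G)] :
    Finset (IrrCharacter G) :=
  Finset.univ \ (insert (triv G) (insert x Yf))

theorem mem_restSet [Fintype (IrrCharacter G)] (χ : IrrCharacter G) :
    χ ∈ B.restSet ↔ χ ≠ triv G ∧ χ ≠ x ∧ χ ∉ Yf := by
  classical
  unfold restSet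
  simp only [Finset.mem_sdiff, Finset.mem_univ, true_and, Finset.mem_insert, not_or]

theorem rest_prop [Fintype (IrrCharacter G)] {χ : IrrCharacter G} (hχ : χ ∈ B.restSet) :
    ∀ y : G, orderOf y = p → (χ : G → ℂ) y = 0 := by
  obtain ⟨h1, h2, h3⟩ := (B.mem_restSet χ).mp hχ
  exact B.rest χ (fun h => h1 (eq_triv_of_fun h)) h2 h3

/-- splitting a sum over all irreducible characters -/
theorem sum_split [Fintype (IrrCharacter G)] {M : Type*} [AddCommMonoid M]
    (F : IrrCharacter G → M) :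
    ∑ χ, F χ = F (triv G) + (F x + ∑ η ∈ Yf, F η) + ∑ χ ∈ B.restSet, F χ := by
  classical
  have h1 := Finset.sum_sdiff (Finset.subset_univ (insert (triv G) (insert x Yf)))
    (f := F)
  have e' : B.restSet = Finset.univ \ (insert (triv G) (insert x Yf)) := by
    unfold restSet
    congr
  rw [← h1, ← e', add_comm]
  congr 1
  rw [Finset.sum_insert, Finset.sum_insert B.nxY]
  simp only [Finset.mem_insert, not_or]
  exact ⟨B.triv_ne_x, B.triv_notin⟩

theorem sum_vanish [Fintype (IrrCharacter G)] (F : IrrCharacter G → ℂ)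
    (hF : ∀ χ ∈ B.restSet, F χ = 0) :
    ∑ χ, F χ = F (triv G) + (F x + ∑ η ∈ Yf, F η) := by
  rw [B.sum_split F, Finset.sum_eq_zero hF, add_zero]

/-- the sum of the values of the exceptional characters at an element of order `p` -/
theorem sum_Y_p [hp : Fact p.Prime] (y : G) (hy : orderOf y = p) :
    ∑ η ∈ Yf, (η : G → ℂ) y = κ := by
  classical
  letI : Fintype G := Fintype.ofFinite G
  letI : Fintype (IrrCharacter G) := fintypeIrr G
  have hy1 : ¬ IsConj y 1 := by
    intro h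
    have : y = 1 := isConj_one_left.mp h
    rw [this, orderOf_one] at hy
    exact hp.out.one_lt.ne hy
  have h := sum_irr_mul_conj (G := G) y 1
  rw [Cfsg.Agent.Lib.Helper19.Ord720.classInd_of_not hy1, zero_mul] at h
  rw [B.sum_vanish (fun χ => (χ : G → ℂ) y * conj ((χ : G → ℂ) 1))
    (fun χ hχ => by
      show (χ : G → ℂ) y * conj ((χ : G → ℂ) 1) = 0
      rw [B.rest_prop hχ y hy, zero_mul])] at h
  simp only [triv_apply, B.apply_one_x, B.vp y hy] at h
  have h2 : ∑ η ∈ Yf, (η : G → ℂ) y * conj ((η : G → ℂ) 1) = e * ∑ η ∈ Yf, (η : G → ℂ) y := by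
    rw [Finset.mul_sum]
    apply Finset.sum_congr rfl
    intro η hη
    rw [B.apply_one_Y hη, map_natCast]
    ring
  rw [h2, map_one, map_natCast] at h
  have hd := B.deg_rel
  have he0 : (e : ℂ) ≠ 0 := Nat.cast_ne_zero.mpr B.e_pos.ne'
  have h3 : (e : ℂ) * (∑ η ∈ Yf, (η : G → ℂ) y - κ) = 0 := by
    linear_combination h - hd
  rcases mul_eq_zero.mp h3 with h4 | h4
  · exact absurd h4 he0
  · linear_combination h4

/-- the character sum of the class multiplication coefficient with an element of order `p` -/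
theorem class_sum [hp : Fact p.Prime] [Fintype (IrrCharacter G)] (z z' y : G)
    (hz : ¬ p ∣ orderOf z) (hz' : ¬ p ∣ orderOf z') (hy : orderOf y = p) :
    ∑ χ : IrrCharacter G, (χ : G → ℂ) z * (χ : G → ℂ) z' * (χ : G → ℂ) y⁻¹ / (χ : G → ℂ) 1 =
      1 + (a : ℂ) * ((x : G → ℂ) z * (x : G → ℂ) z') / f +
        (κ : ℂ) * ((1 + (a : ℂ) * (x : G → ℂ) z) * (1 + (a : ℂ) * (x : G → ℂ) z')) / e := by
  have hyi : orderOf y⁻¹ = p := by rw [orderOf_inv]; exact hy
  rw [B.sum_vanish (fun χ => (χ : G → ℂ) z * (χ : G → ℂ) z' * (χ : G → ℂ) y⁻¹ / (χ : G → ℂ) 1)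
    (fun χ hχ => by
      show (χ : G → ℂ) z * (χ : G → ℂ) z' * (χ : G → ℂ) y⁻¹ / (χ : G → ℂ) 1 = 0
      rw [B.rest_prop hχ y⁻¹ hyi, mul_zero, zero_div])]
  simp only [triv_apply, B.apply_one_x, B.vp y⁻¹ hyi]
  have h2 : ∑ η ∈ Yf, (η : G → ℂ) z * (η : G → ℂ) z' * (η : G → ℂ) y⁻¹ / (η : G → ℂ) 1 =
      ((1 + (a : ℂ) * (x : G → ℂ) z) * (1 + (a : ℂ) * (x : G → ℂ) z')) / e *
        ∑ η ∈ Yf, (η : G → ℂ) y⁻¹ := by
    rw [Finset.mul_sum]
    apply Finset.sum_congr rfl
    intro η hη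
    rw [B.apply_one_Y hη, B.eta_eq hη z hz, B.eta_eq hη z' hz']
    have hk := B.kappa_sq
    have he0 : (e : ℂ) ≠ 0 := Nat.cast_ne_zero.mpr B.e_pos.ne'
    field_simp
    linear_combination ((1 + (a : ℂ) * (x : G → ℂ) z) *
        (1 + (a : ℂ) * (x : G → ℂ) z') * (η : G → ℂ) y⁻¹) * hk
  rw [h2, B.sum_Y_p y⁻¹ hyi]
  ring

/-- **the class multiplication coefficients** with an element of order `p` -/
theorem pair_count [hp : Fact p.Prime] (z z' y : G) (hz : ¬ p ∣ orderOf z)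
    (hz' : ¬ p ∣ orderOf z') (hy : orderOf y = p) :
    (Nat.card {s : G // IsConj z s ∧ IsConj z' (s⁻¹ * y)} : ℂ) *
        ((Nat.card ↥(Subgroup.centralizer ({z} : Set G)) : ℂ) *
          (Nat.card ↥(Subgroup.centralizer ({z'} : Set G)) : ℂ)) =
      (Nat.card G : ℂ) * (1 + (a : ℂ) * ((x : G → ℂ) z * (x : G → ℂ) z') / f +
        (κ : ℂ) * ((1 + (a : ℂ) * (x : G → ℂ) z) * (1 + (a : ℂ) * (x : G → ℂ) z')) / e) := by
  classical
  letI : Fintype G := Fintype.ofFinite G
  letI : Fintype (IrrCharacter G) := fintypeIrr G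
  have h1 := Cfsg.Agent.Lib.Helper24.Ord4320.class_mul_count z z' y
  have h2 := Cfsg.Agent.Lib.Helper24.Ord4320.card_pairs_conj z z' y
  rw [B.class_sum z z' y hz hz' hy, h2, ← Nat.card_eq_fintype_card] at h1
  push_cast at h1
  exact h1

/-- the class multiplication coefficient of a `p`-regular class with itself -/
theorem pair_count_self [hp : Fact p.Prime] (z y : G) (hz : ¬ p ∣ orderOf z)
    (hy : orderOf y = p) :
    (Nat.card {s : G // IsConj z s ∧ IsConj z (s⁻¹ * y)} : ℂ) *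
        ((Nat.card ↥(Subgroup.centralizer ({z} : Set G)) : ℂ) *
          (Nat.card ↥(Subgroup.centralizer ({z} : Set G)) : ℂ)) * ((f : ℂ) * ((f : ℂ) + a)) =
      (Nat.card G : ℂ) * ((f : ℂ) - (x : G → ℂ) z) ^ 2 := by
  rw [B.pair_count z z y hz hz hy]
  have hd := B.deg_rel
  have hf0 : (f : ℂ) ≠ 0 := Nat.cast_ne_zero.mpr B.f_pos.ne'
  have he0 : (e : ℂ) ≠ 0 := Nat.cast_ne_zero.mpr B.e_pos.ne'
  generalize (x : G → ℂ) z = c
  generalize (Nat.card G : ℂ) = N
  rcases B.ha with rfl | rfl <;> rcases B.hκ with rfl | rfl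
  · have he : (e : ℂ) = -(1 + f) := by push_cast at hd; linear_combination hd
    rw [he] at he0 ⊢
    have he0' : (1 : ℂ) + f ≠ 0 := neg_ne_zero.mp he0
    push_cast
    field_simp
    ring
  · have he : (e : ℂ) = 1 + f := by push_cast at hd; linear_combination -hd
    rw [he] at he0 ⊢
    push_cast
    field_simp
    ring
  · have he : (e : ℂ) = -(1 - f) := by push_cast at hd; linear_combination hd
    rw [he] at he0 ⊢
    have he0' : (1 : ℂ) - f ≠ 0 := neg_ne_zero.mp he0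
    push_cast
    field_simp
    ring
  · have he : (e : ℂ) = 1 - f := by push_cast at hd; linear_combination -hd
    rw [he] at he0 ⊢
    push_cast
    field_simp
    ring

end Blk2

end Cfsg.Agent.Lib.Helper27.BLTwo
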