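import Mathlib
import Cfsg.Agent.Lib.Helper27.BLTwoB

/-!
# The principal `p`-block for `|P| = p`, `C(P) = P`, `|N(P)| = 2p`, part C (helper27)

**Centralizers of involutions are small**: in a non-abelian simple group `G` with a Sylow
`p`-subgroup `P` of prime order `p ≥ 5`, `C(P) = P`, `|N(P)| = 2 p`, every involution `z` satisfies
`p |C(z)|² ≤ 8 |G|` (`invol_centralizer_bound`).

Proof: the class multiplication coefficient `n = #{s ~ z, s⁻¹ y ~ z}` (`y` of order `p`) satisfies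
`n |C(z)|² f (f + a) = |G| (f - x(z))²`; it is not `0` since `x` is faithful, hence at least `p`
(`⟨y⟩` acts freely by conjugation on the set of these `s`, which all invert `y`), and
`|f - x(z)| ≤ 2 f ≤ 4 (f + a)`.
-/

set_option autoImplicit false
set_option linter.unusedSectionVars false
set_option linter.style.haveILetI false

namespace Cfsg.Agent.Lib.Helper27.BLTwo

open Cfsg Cfsg.Agent.CharLib Cfsg.Agent.Lib.Helper24 Cfsg.Agent.Lib.Helper5.L33
open scoped ComplexConjugate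

universe u

variable {G : Type u} [Group G] [Finite G]

omit [Finite G] in
/-- if `s` and `s⁻¹ y` are conjugate to the involution `z`, then `s` is an involution inverting
`y` -/
theorem inverts_of_pair (z y s : G) (hz : orderOf z = 2) (h1 : IsConj z s)
    (h2 : IsConj z (s⁻¹ * y)) : s * s = 1 ∧ s * y * s⁻¹ = y⁻¹ := by
  have hs : orderOf s = 2 := by
    rw [← Cfsg.Agent.Lib.Helper24.M11Inv.orderOf_eq_of_isConj h1, hz]
  have hs' : orderOf (s⁻¹ * y) = 2 := by
    rw [← Cfsg.Agent.Lib.Helper24.M11Inv.orderOf_eq_of_isConj h2, hz]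
  have hss : s * s = 1 := by
    rw [← pow_two, ← hs]; exact pow_orderOf_eq_one s
  have hss' : (s⁻¹ * y) * (s⁻¹ * y) = 1 := by
    rw [← pow_two, ← hs']; exact pow_orderOf_eq_one _
  have e1 : s⁻¹ = s := inv_eq_of_mul_eq_one_left hss
  refine ⟨hss, ?_⟩
  rw [e1] at hss' ⊢
  have h3 : s * y * s * y = 1 := by
    calc s * y * s * y = (s * y) * (s * y) := by group
      _ = 1 := hss'
  calc s * y * s = (s * y * s * y) * y⁻¹ := by group
    _ = y⁻¹ := by rw [h3, one_mul]

omit [Finite G] in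
/-- an element inverting `y` inverts the powers of `y` -/
theorem inverts_zpowers (y s m : G) (h : s * y * s⁻¹ = y⁻¹) (hm : m ∈ Subgroup.zpowers y) :
    s * m * s⁻¹ = m⁻¹ := by
  obtain ⟨k, rfl⟩ := Subgroup.mem_zpowers_iff.mp hm
  have h1 : s * y ^ k * s⁻¹ = (s * y * s⁻¹) ^ k := by
    have := map_zpow (MulAut.conj s) y k
    simpa [MulAut.conj_apply] using this
  rw [h1, h, inv_zpow]

/-- `⟨y⟩` acts freely by conjugation on `{s ~ z, s⁻¹ y ~ z}` -/
theorem le_card_pairs (p : ℕ) [hp : Fact p.Prime] (hp2 : p ≠ 2) (z y : G)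
    (hz : orderOf z = 2) (hy : orderOf y = p) (s₀ : G) (h1 : IsConj z s₀)
    (h2 : IsConj z (s₀⁻¹ * y)) :
    p ≤ Nat.card {s : G // IsConj z s ∧ IsConj z (s⁻¹ * y)} := by
  obtain ⟨hss, hinv⟩ := inverts_of_pair z y s₀ hz h1 h2
  have hmem : ∀ k : ↥(Subgroup.zpowers y),
      IsConj z ((k : G) * s₀ * (k : G)⁻¹) ∧ IsConj z (((k : G) * s₀ * (k : G)⁻¹)⁻¹ * y) := by
    intro k
    have hky : (k : G) * y = y * (k : G) := by
      obtain ⟨j, hj⟩ := Subgroup.mem_zpowers_iff.mp k.2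
      rw [← hj]
      exact ((Commute.refl y).zpow_left j).eq
    constructor
    · obtain ⟨c, hc⟩ := isConj_iff.mp h1
      apply isConj_iff.mpr
      refine ⟨(k : G) * c, ?_⟩
      rw [← hc]
      group
    · obtain ⟨c, hc⟩ := isConj_iff.mp h2
      apply isConj_iff.mpr
      refine ⟨(k : G) * c, ?_⟩
      have e : ((k : G) * s₀ * (k : G)⁻¹)⁻¹ * y = (k : G) * (s₀⁻¹ * y) * (k : G)⁻¹ := by
        have : (k : G)⁻¹ * y = y * (k : G)⁻¹ := by
          calc (k : G)⁻¹ * y = (k : G)⁻¹ * (y * (k : G)) * (k : G)⁻¹ := by group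
            _ = (k : G)⁻¹ * ((k : G) * y) * (k : G)⁻¹ := by rw [hky]
            _ = y * (k : G)⁻¹ := by group
        calc ((k : G) * s₀ * (k : G)⁻¹)⁻¹ * y = (k : G) * s₀⁻¹ * ((k : G)⁻¹ * y) := by group
          _ = (k : G) * s₀⁻¹ * (y * (k : G)⁻¹) := by rw [this]
          _ = (k : G) * (s₀⁻¹ * y) * (k : G)⁻¹ := by group
      rw [e, ← hc]
      group
  let φ : ↥(Subgroup.zpowers y) → {s : G // IsConj z s ∧ IsConj z (s⁻¹ * y)} :=
    fun k => ⟨(k : G) * s₀ * (k : G)⁻¹, hmem k⟩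
  have hφ : Function.Injective φ := by
    intro k k' hkk
    have h0 : (k : G) * s₀ * (k : G)⁻¹ = (k' : G) * s₀ * (k' : G)⁻¹ := congrArg Subtype.val hkk
    set m : G := (k' : G)⁻¹ * (k : G) with hm
    have hmz : m ∈ Subgroup.zpowers y :=
      Subgroup.mul_mem _ (Subgroup.inv_mem _ k'.2) k.2
    have hcomm : m * s₀ = s₀ * m := by
      calc m * s₀ = (k' : G)⁻¹ * ((k : G) * s₀ * (k : G)⁻¹) * (k : G) := by rw [hm]; group
        _ = (k' : G)⁻¹ * ((k' : G) * s₀ * (k' : G)⁻¹) * (k : G) := by rw [h0]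
        _ = s₀ * m := by rw [hm]; group
    have hminv := inverts_zpowers y s₀ m hinv hmz
    have hmm : m * m = 1 := by
      have h3 : s₀ * m * s₀⁻¹ = m := by rw [← hcomm]; group
      rw [h3] at hminv
      calc m * m = m * m⁻¹ := by rw [← hminv]
        _ = 1 := mul_inv_cancel m
    have hd2 : orderOf m ∣ 2 := orderOf_dvd_of_pow_eq_one (by rw [pow_two]; exact hmm)
    have hdp : orderOf m ∣ p := by
      rw [← hy]
      exact orderOf_dvd_of_mem_zpowers hmz
    have hcop : Nat.Coprime 2 p := by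
      rw [Nat.coprime_comm]
      exact (Nat.coprime_primes hp.out Nat.prime_two).mpr hp2
    have h1' : orderOf m = 1 := Nat.eq_one_of_dvd_coprimes hcop hd2 hdp
    have hm1 : m = 1 := orderOf_eq_one_iff.mp h1'
    apply Subtype.ext
    calc (k : G) = (k' : G) * m := by rw [hm]; group
      _ = (k' : G) := by rw [hm1, mul_one]
  have hcard := Nat.card_le_card_of_injective φ hφ
  rwa [Nat.card_zpowers, hy] at hcard

namespace Blk2

variable {p : ℕ} {x : IrrCharacter G} {Yf : Finset (IrrCharacter G)}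
  {f : ℕ} {a : ℤ} {e : ℕ} {κ : ℤ} (B : Blk2 p x Yf f a e κ)

include B

set_option maxHeartbeats 800000 in
/-- centralizers of involutions are small -/
theorem invol_bound [IsSimpleGroup G] [hp : Fact p.Prime] (hp2 : p ≠ 2) (hf : 2 ≤ f)
    (z y : G) (hz : orderOf z = 2) (hy : orderOf y = p) :
    p * Nat.card ↥(Subgroup.centralizer ({z} : Set G)) ^ 2 ≤ 8 * Nat.card G := by
  classical
  have hzreg : ¬ p ∣ orderOf z := by
    rw [hz]
    intro h
    exact hp2 ((Nat.prime_dvd_prime_iff_eq hp.out Nat.prime_two).mp h)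
  have h := B.pair_count_self z y hzreg hy
  set n := Nat.card {s : G // IsConj z s ∧ IsConj z (s⁻¹ * y)} with hn
  set C := Nat.card ↥(Subgroup.centralizer ({z} : Set G)) with hC
  set N := Nat.card G with hN
  set c := (x : G → ℂ) z with hc
  have hcf : (f : ℂ) - c ≠ 0 := by
    intro h0
    have h1 : (x : G → ℂ) z = (x : G → ℂ) 1 := by
      rw [B.apply_one_x, ← hc]
      linear_combination -h0
    have hz1 := Cfsg.Agent.Lib.Helper27.A7Blk.eq_one_of_apply_eq_apply_one x B.tx z h1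
    rw [hz1, orderOf_one] at hz
    omega
  have hNpos : 0 < N := Nat.card_pos
  have hCpos : 0 < C := Nat.card_pos
  obtain ⟨g, hg, hg1, hfg⟩ : ∃ g : ℕ, (g : ℤ) = (f : ℤ) + a ∧ 1 ≤ g ∧ f ≤ 2 * g := by
    rcases B.ha with rfl | rfl
    · exact ⟨f + 1, by push_cast; ring, by omega, by omega⟩
    · exact ⟨f - 1, by rw [Nat.cast_sub (by omega)]; push_cast; ring, by omega, by omega⟩
  have hgC : ((f : ℂ) + (a : ℂ)) = (g : ℂ) := by
    have : ((g : ℤ) : ℂ) = (((f : ℤ) + a : ℤ) : ℂ) := by rw [hg]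
    push_cast at this
    rw [this]
  rw [hgC] at h
  -- the count is not zero
  have hn0 : n ≠ 0 := by
    intro h0
    rw [h0] at h
    simp only [Nat.cast_zero, zero_mul] at h
    have hN0 : (N : ℂ) ≠ 0 := Nat.cast_ne_zero.mpr hNpos.ne'
    rcases mul_eq_zero.mp h.symm with h1 | h1
    · exact hN0 h1
    · exact hcf (pow_eq_zero_iff (two_ne_zero) |>.mp h1)
  have hne : Nonempty {s : G // IsConj z s ∧ IsConj z (s⁻¹ * y)} := by
    by_contra hemp
    rw [not_nonempty_iff] at hemp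
    apply hn0
    rw [hn]
    exact Nat.card_of_isEmpty
  obtain ⟨⟨s₀, hs1, hs2⟩⟩ := hne
  have hpn : p ≤ n := le_card_pairs p hp2 z y hz hy s₀ hs1 hs2
  -- norms
  have hnorm := congrArg (fun w : ℂ => ‖w‖) h
  simp only [norm_mul, norm_pow, Complex.norm_natCast] at hnorm
  have hcn : ‖(f : ℂ) - c‖ ≤ 2 * (f : ℝ) := by
    have h1 := norm_sub_le (f : ℂ) c
    have h2 := Cfsg.Agent.Lib.Helper27.A7Blk.irr_norm_le x z
    rw [B.dx] at h2
    rw [Complex.norm_natCast] at h1
    rw [← hc] at h2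
    linarith
  have hcn0 : 0 ≤ ‖(f : ℂ) - c‖ := norm_nonneg _
  have hsq : ‖(f : ℂ) - c‖ ^ 2 ≤ (2 * (f : ℝ)) ^ 2 := by
    apply pow_le_pow_left₀ hcn0 hcn
  have hreal : (n : ℝ) * ((C : ℝ) * (C : ℝ)) * ((f : ℝ) * (g : ℝ)) ≤
      (N : ℝ) * (2 * (f : ℝ)) ^ 2 := by
    rw [hnorm]
    exact mul_le_mul_of_nonneg_left hsq (Nat.cast_nonneg _)
  have hnat : n * (C * C) * (f * g) ≤ N * (2 * f) ^ 2 := by
    have : ((n * (C * C) * (f * g) : ℕ) : ℝ) ≤ ((N * (2 * f) ^ 2 : ℕ) : ℝ) := by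
      push_cast
      exact hreal
    exact_mod_cast this
  have hfpos : 0 < f := by omega
  have hfgpos : 0 < f * g := Nat.mul_pos hfpos (by omega)
  -- `p C² (f g) ≤ n C² (f g) ≤ 4 N f² ≤ 8 N (f g)`
  have h1 : p * (C * C) * (f * g) ≤ n * (C * C) * (f * g) := by
    apply Nat.mul_le_mul_right
    apply Nat.mul_le_mul_right
    exact hpn
  have h2 : N * (2 * f) ^ 2 ≤ 8 * N * (f * g) := by
    have : (2 * f) ^ 2 = 4 * f * f := by ring
    rw [this]
    have h3 : 4 * f * f ≤ 8 * (f * g) := by nlinarith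
    calc N * (4 * f * f) ≤ N * (8 * (f * g)) := Nat.mul_le_mul_left _ h3
      _ = 8 * N * (f * g) := by ring
  have h3 : p * (C * C) * (f * g) ≤ 8 * N * (f * g) := le_trans h1 (le_trans hnat h2)
  have h4 := Nat.le_of_mul_le_mul_right h3 hfgpos
  rw [pow_two]
  exact h4

end Blk2

/-- **Centralizers of involutions are small**: `G` non-abelian simple, `P` a Sylow `p`-subgroup
of prime order `p ≥ 5` with `C(P) = P`, `|N(P)| = 2 p`; then `p |C(z)|² ≤ 8 |G|` for every
involution `z`. -/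
theorem invol_centralizer_bound [IsSimpleGroup G] (hG : ¬ IsMulCommutative G)
    (p : ℕ) [hp : Fact p.Prime] (h5 : 5 ≤ p)
    (P : Sylow p G) (hP : Nat.card ↥(P : Subgroup G) = p)
    (hCc : Nat.card ↥(Subgroup.centralizer ((P : Subgroup G) : Set G)) = p)
    (hr : (Subgroup.centralizer ((P : Subgroup G) : Set G)).relIndex
      (Subgroup.normalizer ((P : Subgroup G) : Set G)) = 2)
    (z : G) (hz : orderOf z = 2) :
    p * Nat.card ↥(Subgroup.centralizer ({z} : Set G)) ^ 2 ≤ 8 * Nat.card G := by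
  obtain ⟨x, Yf, f, a, e, κ, B⟩ := exists_blk2 p h5 P hP hCc hr
  have hperf := Cfsg.Agent.Lib.Helper12.BSF.commutator_eq_top_of_simple hG
  have hf1 : f ≠ 1 := by
    intro h
    apply B.tx
    exact Cfsg.Agent.Lib.Helper12.BSF.eq_one_of_charDegree_one hperf x (by rw [B.dx]; exact h)
  have hf : 2 ≤ f := by
    have := B.f_pos
    omega
  obtain ⟨y, -, hy⟩ := Cfsg.Agent.Lib.Helper19.Ord4032.exists_prime_order_mem (P : Subgroup G) p
    (by rw [hP])
  exact B.invol_bound (by omega) hf z y hz hy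

end Cfsg.Agent.Lib.Helper27.BLTwo
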