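import Mathlib
import Cfsg.Agent.Lib.Helper27.BLTwoC
import Cfsg.Agent.Lib.Helper1.OrdTools
import Cfsg.Agent.Lib.Helper20.SuzCenter

/-!
# Order 5760: the case of `576` Sylow `5`-subgroups (helper27)

A simple group of order `5760 = 2⁷ · 3² · 5` does not have `576` Sylow `5`-subgroups: otherwise
`|N(P)| = 10`, `C(P) = P`, and `BLTwo.invol_centralizer_bound` gives `5 |C(z)|² ≤ 8 · 5760` for every
involution `z`; but a central involution of a Sylow `2`-subgroup has `128 ∣ |C(z)|`.
-/

set_option autoImplicit false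
set_option linter.unusedSectionVars false
set_option linter.style.haveILetI false

namespace Cfsg.Agent.Lib.Helper27.Ord5760

open Cfsg.Agent.Lib.Helper7

/-- a central involution of a Sylow `2`-subgroup -/
theorem exists_two_central {G : Type*} [Group G] [Finite G] (S : Sylow 2 G)
    (hS : 1 < Nat.card ↥(S : Subgroup G)) :
    ∃ z : G, orderOf z = 2 ∧ (S : Subgroup G) ≤ Subgroup.centralizer ({z} : Set G) := by
  haveI : Fact (Nat.Prime 2) := ⟨Nat.prime_two⟩
  haveI : Nontrivial ↥(S : Subgroup G) := Finite.one_lt_card_iff_nontrivial.mp hS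
  obtain ⟨z, hzc, hz1, hzz⟩ :=
    Cfsg.Agent.Lib.Helper20.SuzTwist.exists_central_invol (Q := ↥(S : Subgroup G)) S.2
  refine ⟨(z : G), ?_, ?_⟩
  · apply orderOf_eq_prime
    · rw [pow_two]
      have := congrArg Subtype.val hzz
      simpa using this
    · intro h
      exact hz1 (Subtype.ext h)
  · intro s hs
    rw [Subgroup.mem_centralizer_singleton_iff]
    have := congrArg Subtype.val (hzc ⟨s, hs⟩)
    simp only [Subgroup.coe_mul] at this
    exact this.symm

/-- a simple group of order `5760` does not have `576` Sylow `5`-subgroups -/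
theorem not_count_576 {G : Type*} [Group G] [Finite G] [IsSimpleGroup G]
    (h : Nat.card G = 5760) : Nat.card (Sylow 5 G) ≠ 576 := by
  intro h576
  haveI : Fact (Nat.Prime 5) := ⟨by norm_num⟩
  haveI : Fact (Nat.Prime 2) := ⟨Nat.prime_two⟩
  have hnc : ¬ IsMulCommutative G := by
    apply not_comm_of_card_not_prime
    rw [h]; norm_num
  have hG5 : Nat.card G = 5 * 1152 := by rw [h]
  obtain ⟨n, k, hn, hnk, hdata⟩ :=
    Cfsg.Agent.Lib.Helper1.OrdTools.pdata hnc hG5 (by norm_num)
  obtain ⟨P⟩ : Nonempty (Sylow 5 G) := inferInstance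
  obtain ⟨hP, hN, c, r, hC, hcr, hrd, hr1, hrel⟩ := hdata P
  rw [h576] at hn
  have hk : k = 2 := by
    rw [← hn] at hnk
    omega
  rw [hk] at hcr
  have hr2 : r = 2 ∧ c = 1 := by
    have hr_dvd : r ∣ 2 := ⟨c, by rw [← hcr, mul_comm]⟩
    rcases (Nat.dvd_prime Nat.prime_two).mp hr_dvd with h1 | h2
    · exact absurd h1 hr1
    · subst h2
      exact ⟨rfl, by omega⟩
  obtain ⟨rfl, rfl⟩ := hr2
  rw [mul_one] at hC
  -- a 2-central involution
  obtain ⟨S⟩ : Nonempty (Sylow 2 G) := inferInstance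
  have hG2 : Nat.card G = 2 ^ 7 * 45 := by rw [h]; norm_num
  obtain ⟨hS, -⟩ := sylow_card_index_of_pow hG2 (by norm_num) S
  obtain ⟨z, hz, hSz⟩ := exists_two_central S (by rw [hS]; norm_num)
  have hdvd : 128 ∣ Nat.card ↥(Subgroup.centralizer ({z} : Set G)) := by
    have := Subgroup.card_dvd_of_le hSz
    rw [hS] at this
    exact this
  have hbound := Cfsg.Agent.Lib.Helper27.BLTwo.invol_centralizer_bound hnc 5 (le_refl 5) P hP hC
    hrel z hz
  rw [h] at hbound
  have hpos : 0 < Nat.card ↥(Subgroup.centralizer ({z} : Set G)) := Nat.card_pos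
  have hle : 128 ≤ Nat.card ↥(Subgroup.centralizer ({z} : Set G)) := Nat.le_of_dvd hpos hdvd
  nlinarith

end Cfsg.Agent.Lib.Helper27.Ord5760
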