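/-
helper27: conjugacy of cyclic subgroups of order `d` in a finite group whose `s`-subgroups are cyclic
for all primes `s ∣ d` and in which the centralizers of elements of prime order `p ∣ d` are commutative.
General group theory, no Lie theory.
-/
import Mathlib

set_option autoImplicit false

namespace Cfsg.Agent.Lib.Helper27.ReeCent

open Subgroup

section ConjCyclic

variable {G : Type*} [Group G] [Finite G]

/-- if the Sylow `s`-subgroups are cyclic, so is every `s`-subgroup -/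
theorem isCyclic_of_isPGroup_of_sylow {s : ℕ} [Fact s.Prime]
    (hsyl : ∀ S : Sylow s G, IsCyclic (S : Subgroup G)) (Q : Subgroup G) (hQ : IsPGroup s Q) :
    IsCyclic Q := by
  obtain ⟨S, hS⟩ := hQ.exists_le_sylow
  have := hsyl S
  have e : Q ≃* (Q.subgroupOf (S : Subgroup G)) := (Subgroup.subgroupOfEquivOfLe hS).symm
  exact isCyclic_of_surjective e.symm e.symm.surjective

/-- a subgroup of exponent dividing `d` has order dividing `d` if the `s`-subgroups of `G` are
cyclic for all primes `s ∣ d` -/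
theorem card_dvd_of_exponent_of_cyclic (d : ℕ) (hd : d ≠ 0)
    (hsyl : ∀ s : ℕ, s.Prime → s ∣ d → ∀ Q : Subgroup G, IsPGroup s Q → IsCyclic Q)
    (T : Subgroup G) (hT : ∀ x ∈ T, x ^ d = 1) : Nat.card T ∣ d := by
  rw [Nat.dvd_iff_prime_pow_dvd_dvd]
  intro s k hs hsk
  rcases Nat.eq_zero_or_pos k with rfl | hk
  · simp
  haveI : Fact s.Prime := ⟨hs⟩
  obtain ⟨Q, hQ⟩ := Sylow.exists_subgroup_card_pow_prime s hsk
  -- `s ∣ d`
  have hsd : s ∣ d := by
    have h1 : s ∣ Nat.card T := dvd_trans (dvd_pow_self s hk.ne') hsk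
    obtain ⟨x, hx⟩ := exists_prime_orderOf_dvd_card' s h1
    have h2 : (x : G) ^ d = 1 := hT x x.2
    have h3 : x ^ d = 1 := Subtype.ext (by rw [Subgroup.coe_pow, h2, Subgroup.coe_one])
    rw [← hx]
    exact orderOf_dvd_of_pow_eq_one h3
  let Q' : Subgroup G := Q.map T.subtype
  have hQ'c : Nat.card Q' = s ^ k := by
    rw [Subgroup.card_map_of_injective T.subtype_injective, hQ]
  have hQ'p : IsPGroup s Q' := IsPGroup.of_card hQ'c
  have hcyc : IsCyclic Q' := hsyl s hs hsd Q' hQ'p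
  obtain ⟨z, hz⟩ := hcyc.exists_generator
  have hzo : orderOf z = s ^ k := by
    rw [orderOf_eq_card_of_forall_mem_zpowers hz, hQ'c]
  have hzT : (z : G) ∈ T := by
    obtain ⟨w, _, hw⟩ := z.2
    rw [← hw]
    exact w.2
  have h4 : z ^ d = 1 := Subtype.ext (by rw [Subgroup.coe_pow, hT _ hzT, Subgroup.coe_one])
  rw [← hzo]
  exact orderOf_dvd_of_pow_eq_one h4

/-- two subgroups of order `d` of a commutative subgroup `C` coincide, if the `s`-subgroups of `G`
are cyclic for all primes `s ∣ d` -/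
theorem eq_of_card_eq_of_comm (d : ℕ)
    (hsyl : ∀ s : ℕ, s.Prime → s ∣ d → ∀ Q : Subgroup G, IsPGroup s Q → IsCyclic Q)
    (C : Subgroup G) (hC : ∀ a ∈ C, ∀ b ∈ C, a * b = b * a)
    (A B : Subgroup G) (hAC : A ≤ C) (hBC : B ≤ C) (hAd : Nat.card A = d) (hBd : Nat.card B = d) :
    A = B := by
  have hd : d ≠ 0 := by
    rw [← hAd]
    exact Nat.card_pos.ne'
  let T : Subgroup G :=
    { carrier := {x | x ∈ C ∧ x ^ d = 1}
      mul_mem' := by
        rintro a b ⟨ha, ha'⟩ ⟨hb, hb'⟩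
        refine ⟨C.mul_mem ha hb, ?_⟩
        rw [(show Commute a b from hC a ha b hb).mul_pow, ha', hb', one_mul]
      one_mem' := ⟨C.one_mem, one_pow _⟩
      inv_mem' := by
        rintro a ⟨ha, ha'⟩
        exact ⟨C.inv_mem ha, by rw [inv_pow, ha', inv_one]⟩ }
  have hTd : Nat.card T ∣ d := card_dvd_of_exponent_of_cyclic d hd hsyl T (fun x hx => hx.2)
  have key : ∀ A : Subgroup G, A ≤ C → Nat.card A = d → A = T := by
    intro A hAC hAd
    have hAT : A ≤ T := by
      intro x hx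
      refine ⟨hAC hx, ?_⟩
      have h1 : (⟨x, hx⟩ : A) ^ Nat.card A = 1 := pow_card_eq_one'
      rw [hAd] at h1
      have h2 := congrArg Subtype.val h1
      simpa using h2
    apply Subgroup.eq_of_le_of_card_ge hAT
    rw [hAd]
    exact Nat.le_of_dvd (Nat.pos_of_ne_zero hd) hTd
  rw [key A hAC hAd, key B hBC hBd]

/-- the image of `zpowers y` under conjugation -/
theorem map_conj_zpowers (g y : G) :
    (Subgroup.zpowers y).map (MulAut.conj g).toMonoidHom = Subgroup.zpowers (g * y * g⁻¹) := by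
  rw [MonoidHom.map_zpowers]
  rfl

/-- elements of the same prime order `p` generate conjugate subgroups, if the Sylow `p`-subgroups are
cyclic -/
theorem exists_conj_zpowers_eq (p : ℕ) (hp : p.Prime)
    (hsyl : ∀ Q : Subgroup G, IsPGroup p Q → IsCyclic Q)
    (y₁ y₂ : G) (h₁ : orderOf y₁ = p) (h₂ : orderOf y₂ = p) :
    ∃ g : G, Subgroup.zpowers (g * y₁ * g⁻¹) = Subgroup.zpowers y₂ := by
  haveI : Fact p.Prime := ⟨hp⟩
  have hP : ∀ y : G, orderOf y = p → IsPGroup p (Subgroup.zpowers y) := by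
    intro y hy
    apply IsPGroup.of_card (n := 1)
    rw [Nat.card_zpowers, hy, pow_one]
  obtain ⟨S₁, hS₁⟩ := (hP y₁ h₁).exists_le_sylow
  obtain ⟨S₂, hS₂⟩ := (hP y₂ h₂).exists_le_sylow
  obtain ⟨g, hg⟩ := MulAction.exists_smul_eq G S₁ S₂
  refine ⟨g, ?_⟩
  have hcyc : IsCyclic (S₂ : Subgroup G) := hsyl _ S₂.2
  have hcomm : ∀ a ∈ (S₂ : Subgroup G), ∀ b ∈ (S₂ : Subgroup G), a * b = b * a := by
    intro a ha b hb
    have hmc : IsMulCommutative ↥(S₂ : Subgroup G) := IsCyclic.isMulCommutative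
    have := hmc.is_comm.comm ⟨a, ha⟩ ⟨b, hb⟩
    exact congrArg Subtype.val this
  have hmem : g * y₁ * g⁻¹ ∈ (S₂ : Subgroup G) := by
    rw [← hg]
    rw [Sylow.coe_subgroup_smul, Subgroup.mem_smul_pointwise_iff_exists]
    exact ⟨y₁, hS₁ (Subgroup.mem_zpowers y₁), rfl⟩
  apply eq_of_card_eq_of_comm p
    (fun s hs hsp Q hQ => by
      have : s = p := (Nat.prime_dvd_prime_iff_eq hs hp).1 hsp
      subst this
      exact hsyl Q hQ)
    (S₂ : Subgroup G) hcomm
  · rw [Subgroup.zpowers_le]; exact hmem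
  · exact hS₂
  · rw [Nat.card_zpowers, orderOf_conj_eq]; exact h₁
  · rw [Nat.card_zpowers]; exact h₂
where
  orderOf_conj_eq {g y : G} : orderOf (g * y * g⁻¹) = orderOf y := by
    have : g * y * g⁻¹ = MulAut.conj g y := rfl
    rw [this, MulEquiv.orderOf_eq]

/-- **Conjugacy of cyclic subgroups of order `d`**: if for all primes `s ∣ d` the `s`-subgroups of
`G` are cyclic and the centralizers of elements of prime order `p ∣ d` are commutative, then any two
cyclic subgroups of order `d` are conjugate. -/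
theorem exists_conj_of_cyclic (d : ℕ)
    (hsyl : ∀ s : ℕ, s.Prime → s ∣ d → ∀ Q : Subgroup G, IsPGroup s Q → IsCyclic Q)
    (hcent : ∀ (y : G) (p : ℕ), p.Prime → p ∣ d → orderOf y = p →
      ∀ a ∈ Subgroup.centralizer ({y} : Set G), ∀ b ∈ Subgroup.centralizer ({y} : Set G),
        a * b = b * a)
    (A B : Subgroup G) (hA : IsCyclic A) (hB : IsCyclic B)
    (hAd : Nat.card A = d) (hBd : Nat.card B = d) :
    ∃ g : G, B = A.map (MulAut.conj g).toMonoidHom := by
  have hd : d ≠ 0 := by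
    rw [← hAd]
    exact Nat.card_pos.ne'
  rcases eq_or_ne d 1 with rfl | hd1
  · refine ⟨1, ?_⟩
    rw [(Subgroup.card_eq_one).1 hAd, (Subgroup.card_eq_one).1 hBd, Subgroup.map_bot]
  -- a prime divisor
  obtain ⟨p, hp, hpd⟩ := Nat.exists_prime_and_dvd hd1
  -- elements of order `p` in `A` and `B`
  have hel : ∀ A : Subgroup G, IsCyclic A → Nat.card A = d →
      ∃ y ∈ A, orderOf y = p := by
    intro A hA hAd
    obtain ⟨a, ha⟩ := hA.exists_generator
    have hao : orderOf a = d := by rw [orderOf_eq_card_of_forall_mem_zpowers ha, hAd]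
    obtain ⟨e, he⟩ := hpd
    have he0 : e ≠ 0 := by
      rintro rfl
      exact hd (by rw [he, mul_zero])
    refine ⟨((a ^ e : A) : G), (a ^ e).2, ?_⟩
    rw [Subgroup.orderOf_coe, orderOf_pow_of_dvd he0 (by rw [hao, he]; exact dvd_mul_left e p), hao, he]
    exact Nat.mul_div_cancel _ (Nat.pos_of_ne_zero he0)
  obtain ⟨y₁, hy₁A, hy₁⟩ := hel A hA hAd
  obtain ⟨y₂, hy₂B, hy₂⟩ := hel B hB hBd
  obtain ⟨g, hg⟩ := exists_conj_zpowers_eq p hp (hsyl p hp hpd) y₁ y₂ hy₁ hy₂
  refine ⟨g, ?_⟩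
  set A' : Subgroup G := A.map (MulAut.conj g).toMonoidHom with hA'
  have hy₂A' : y₂ ∈ A' := by
    have h1 : g * y₁ * g⁻¹ ∈ A' := ⟨y₁, hy₁A, rfl⟩
    have h2 : y₂ ∈ Subgroup.zpowers (g * y₁ * g⁻¹) := by
      rw [hg]; exact Subgroup.mem_zpowers y₂
    exact (Subgroup.zpowers_le.2 h1) h2
  have hA'comm : ∀ a ∈ A', ∀ b ∈ A', a * b = b * a := by
    rintro _ ⟨a, ha, rfl⟩ _ ⟨b, hb, rfl⟩
    have hmc : IsMulCommutative ↥A := IsCyclic.isMulCommutative
    have h1 := congrArg Subtype.val (hmc.is_comm.comm ⟨a, ha⟩ ⟨b, hb⟩)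
    have h2 : a * b = b * a := h1
    rw [← map_mul, ← map_mul, h2]
  have hBcomm : ∀ a ∈ B, ∀ b ∈ B, a * b = b * a := by
    intro a ha b hb
    have hmc : IsMulCommutative ↥B := IsCyclic.isMulCommutative
    exact congrArg Subtype.val (hmc.is_comm.comm ⟨a, ha⟩ ⟨b, hb⟩)
  have hA'C : A' ≤ Subgroup.centralizer ({y₂} : Set G) := by
    intro x hx
    rw [Subgroup.mem_centralizer_iff]
    intro z hz
    rw [Set.mem_singleton_iff] at hz
    subst hz
    exact (hA'comm x hx z hy₂A').symm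
  have hBC : B ≤ Subgroup.centralizer ({y₂} : Set G) := by
    intro x hx
    rw [Subgroup.mem_centralizer_iff]
    intro z hz
    rw [Set.mem_singleton_iff] at hz
    subst hz
    exact (hBcomm x hx z hy₂B).symm
  have hA'd : Nat.card A' = d := by
    rw [hA', Subgroup.card_map_of_injective (MulAut.conj g).injective, hAd]
  exact (eq_of_card_eq_of_comm d hsyl _ (hcent y₂ p hp hpd hy₂) A' B hA'C hBC hA'd hBd).symm

end ConjCyclic

end Cfsg.Agent.Lib.Helper27.ReeCent
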