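/-
helper27: centralizers in the Ree groups `²G₂(q)`.
Part A: matrix-level facts in helper7's model (fixed points of the twisting automorphism):
the Weyl element inverts the torus; centralizers of odd-order torus elements; centralizers of
unipotent elements lie in the Borel subgroup.
-/
import Cfsg.Agent.Lib.Helper7.G2Tw21
import Cfsg.Agent.Lib.Helper7.G2Tw15
import Cfsg.Agent.Lib.Helper7.G2Tw18

set_option autoImplicit false

namespace Cfsg.Agent.Lib.Helper27.ReeCent

open Cfsg Cfsg.Lie Matrix Cfsg.Agent.Lib.Helper7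

section
variable {F : Type*} [Field F]
variable {τ : ↥(chevG2.group F) ≃* ↥(chevG2.group F)} {θ : ℕ} (hτ : TauData F τ θ)
include hτ

/-- the Weyl element inverts the fixed torus -/
theorem n0_conj_torus (h : GL chevG2.Idx F) (hh : h ∈ chevG2.diagonalSubgroup F ⊓ fixTau F τ) :
    n0G2 F * h * (n0G2 F)⁻¹ = h⁻¹ := by
  have hH := (Subgroup.mem_inf.mp hh).1
  have hF := (Subgroup.mem_inf.mp hh).2
  have hnF : n0G2 F ∈ fixTau F τ := n0G2_mem_fixTau hτ
  have h'H : n0G2 F * h * (n0G2 F)⁻¹ ∈ chevG2.diagonalSubgroup F :=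
    conj_diagonal_mem _ _ (n0G2_mem_monomial F) hH
  have h'F : n0G2 F * h * (n0G2 F)⁻¹ ∈ fixTau F τ :=
    Subgroup.mul_mem _ (Subgroup.mul_mem _ hnF hF) (Subgroup.inv_mem _ hnF)
  obtain ⟨χ, hχ, e⟩ := mem_diagonalSubgroup_char chevG2 mem_G2 F h hH
  obtain ⟨χ', hχ', e'⟩ := mem_diagonalSubgroup_char chevG2 mem_G2 F _ h'H
  obtain ⟨-, c, hc, hact⟩ := n0G2_actsAs hτ 11 (by decide)
  have hneg : chevG2.neg 11 = 0 := by decide
  rw [hneg] at hact
  have key : χ' 0 = χ 11 := by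
    have h1 := diagGL_xGL_comm chevG2 mem_G2 F _ χ' hχ' e' 0 c
    have h2 := diagGL_xGL_comm chevG2 mem_G2 F h χ hχ e 11 1
    have h3 : n0G2 F * h * (n0G2 F)⁻¹ * xGL chevG2 mem_G2 F 0 c =
        xGL chevG2 mem_G2 F 0 (c * χ 11) * (n0G2 F * h * (n0G2 F)⁻¹) := by
      have hc1 : xGL chevG2 mem_G2 F 0 c = n0G2 F * xGL chevG2 mem_G2 F 11 1 * (n0G2 F)⁻¹ := by
        rw [hact 1, mul_one]
      have hc2 : xGL chevG2 mem_G2 F 0 (c * χ 11) =
          n0G2 F * xGL chevG2 mem_G2 F 11 (χ 11 * 1) * (n0G2 F)⁻¹ := by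
        rw [hact (χ 11 * 1), mul_one]
      rw [hc1, hc2]
      have : n0G2 F * h * (n0G2 F)⁻¹ * (n0G2 F * xGL chevG2 mem_G2 F 11 1 * (n0G2 F)⁻¹) =
          n0G2 F * (h * xGL chevG2 mem_G2 F 11 1) * (n0G2 F)⁻¹ := by group
      rw [this, h2]
      group
    rw [h1] at h3
    have h4 := xGL_param_inj chevG2 mem_G2 F 0 (by decide) _ _ (mul_right_cancel h3)
    have : χ' 0 * c = χ 11 * c := by rw [h4, mul_comm]
    exact mul_right_cancel₀ hc this
  have hneg0 : χ 11 = (χ 0)⁻¹ := hχ.negC 0 (by decide) (by decide)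
  have hprod : n0G2 F * h * (n0G2 F)⁻¹ * h = 1 := by
    apply fixH_eq_one hτ _ (Subgroup.mem_inf.mpr ⟨Subgroup.mul_mem _ h'H hH, Subgroup.mul_mem _ h'F hF⟩)
    rw [chi0_mul _ _ h'H hH, chi0_diag _ _ e', chi0_diag _ _ e, key, hneg0]
    exact inv_mul_cancel₀ (hχ.ne0 0 (by decide))
  exact eq_inv_of_mul_eq_one_left hprod

/-- conjugation by a torus element preserves `U¹` -/
theorem conj_torus_unip (h : GL chevG2.Idx F) (hh : h ∈ chevG2.diagonalSubgroup F ⊓ fixTau F τ)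
    (u : GL chevG2.Idx F) (hu : u ∈ chevG2.posUnipotent F ⊓ fixTau F τ) :
    h * u * h⁻¹ ∈ chevG2.posUnipotent F ⊓ fixTau F τ := by
  have hhH := (Subgroup.mem_inf.mp hh).1
  have hhF := (Subgroup.mem_inf.mp hh).2
  refine Subgroup.mem_inf.mpr ⟨?_, Subgroup.mul_mem _ (Subgroup.mul_mem _ hhF (Subgroup.mem_inf.mp hu).2)
    (Subgroup.inv_mem _ hhF)⟩
  have hnorm := diagonalSubgroup_le_normalizer_posUnipotent chevG2 mem_G2 F hhH
  rw [Subgroup.mem_set_normalizer_iff] at hnorm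
  exact (hnorm _).mp (Subgroup.mem_inf.mp hu).1

/-- the centralizer (in the fixed points) of a non-identity torus element of odd order is contained
in the torus -/
theorem cent_torus (h : GL chevG2.Idx F) (hfix : h ∈ chevG2.diagonalSubgroup F ⊓ fixTau F τ)
    (h1 : h ≠ 1) (hodd : Odd (orderOf h)) (g : GL chevG2.Idx F) (hg : g ∈ fixTau F τ)
    (hc : g * h = h * g) : g ∈ chevG2.diagonalSubgroup F := by
  have hH := (Subgroup.mem_inf.mp hfix).1
  have hF := (Subgroup.mem_inf.mp hfix).2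
  have hsq : h * h ≠ 1 := by
    intro h2
    have hd : orderOf h ∣ 2 := by
      apply orderOf_dvd_of_pow_eq_one
      rw [pow_two]; exact h2
    have : orderOf h = 1 := by
      rcases (Nat.dvd_prime Nat.prime_two).mp hd with h3 | h3
      · exact h3
      · rw [h3] at hodd
        exact absurd hodd (by decide)
    exact h1 (orderOf_eq_one_iff.mp this)
  rcases fix_cases hτ g hg with hB | ⟨b, hb, u, hu, eg⟩
  · obtain ⟨k, hk, u, hu, rfl⟩ := fix_borel hτ g (Subgroup.mem_inf.mpr ⟨hB, hg⟩)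
    have hkH := (Subgroup.mem_inf.mp hk).1
    have hcomm : h * k = k * h := diagonal_comm h k hH hkH
    have hu1 : u = 1 := by
      apply odd_centralizer_trivial hτ h hfix h1 hodd u hu
      have : k * (u * h) = k * (h * u) := by
        calc k * (u * h) = k * u * h := by group
          _ = h * (k * u) := hc
          _ = (h * k) * u := by group
          _ = (k * h) * u := by rw [hcomm]
          _ = k * (h * u) := by group
      exact (mul_left_cancel this).symm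
    rw [hu1, mul_one]
    exact hkH
  · exfalso
    obtain ⟨k, hk, v, hv, rfl⟩ := fix_borel hτ b hb
    have hkH := (Subgroup.mem_inf.mp hk).1
    have hcomm : h * k = k * h := diagonal_comm h k hH hkH
    have hinv : h⁻¹ ∈ chevG2.diagonalSubgroup F ⊓ fixTau F τ := Subgroup.inv_mem _ hfix
    have hN : n0G2 F * h⁻¹ = h * n0G2 F := by
      have := n0_conj_torus hτ h⁻¹ hinv
      rw [inv_inv] at this
      calc n0G2 F * h⁻¹ = (n0G2 F * h⁻¹ * (n0G2 F)⁻¹) * n0G2 F := by group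
        _ = h * n0G2 F := by rw [this]
    have hv2 := conj_torus_unip hτ h hfix v hv
    have hu2 := conj_torus_unip hτ h hfix u hu
    have e1 : h * g * h⁻¹ = g := by
      rw [← hc]; group
    have e2 : h * g * h⁻¹ = k * (h * v * h⁻¹) * (h * h) * n0G2 F * (h * u * h⁻¹) := by
      rw [eg]
      calc h * (k * v * n0G2 F * u) * h⁻¹ = (h * k) * v * n0G2 F * u * h⁻¹ := by group
        _ = (k * h) * v * n0G2 F * u * h⁻¹ := by rw [hcomm]
        _ = k * (h * v * h⁻¹) * h * (n0G2 F * h⁻¹) * (h * u * h⁻¹) := by group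
        _ = k * (h * v * h⁻¹) * h * (h * n0G2 F) * (h * u * h⁻¹) := by rw [hN]
        _ = k * (h * v * h⁻¹) * (h * h) * n0G2 F * (h * u * h⁻¹) := by group
    have e3 : k * (h * v * h⁻¹) * (h * h) * n0G2 F * (h * u * h⁻¹) = k * v * n0G2 F * u := by
      rw [← e2, e1, eg]
    have e4 : (n0G2 F)⁻¹ * (v⁻¹ * (h * v * h⁻¹) * (h * h)) * n0G2 F = u * (h * u * h⁻¹)⁻¹ := by
      have : (n0G2 F)⁻¹ * (v⁻¹ * (h * v * h⁻¹) * (h * h)) * n0G2 F =
          (n0G2 F)⁻¹ * v⁻¹ * k⁻¹ * (k * (h * v * h⁻¹) * (h * h) * n0G2 F * (h * u * h⁻¹)) *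
            (h * u * h⁻¹)⁻¹ := by group
      rw [this, e3]
      group
    have hU : ∀ x, x ∈ chevG2.posUnipotent F ⊓ fixTau F τ → x ∈ chevG2.borelSubgroup F := fun x hx =>
      posUnipotent_le_borel chevG2 mem_G2 F (Subgroup.mem_inf.mp hx).1
    have hhhH : h * h ∈ chevG2.diagonalSubgroup F := Subgroup.mul_mem _ hH hH
    have hkB : v⁻¹ * (h * v * h⁻¹) * (h * h) ∈ chevG2.borelSubgroup F :=
      Subgroup.mul_mem _ (Subgroup.mul_mem _ (Subgroup.inv_mem _ (hU _ hv)) (hU _ hv2))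
        (diagonal_le_borel chevG2 mem_G2 F hhhH)
    have hkB' : (n0G2 F)⁻¹ * (v⁻¹ * (h * v * h⁻¹) * (h * h)) * n0G2 F ∈ chevG2.borelSubgroup F := by
      rw [e4]
      exact Subgroup.mul_mem _ (hU _ hu) (Subgroup.inv_mem _ (hU _ hu2))
    have hkD := borel_inf_conj_n0 hτ _ hkB hkB'
    -- the unipotent part is trivial
    have hw : v⁻¹ * (h * v * h⁻¹) ∈ chevG2.posUnipotent F ⊓ chevG2.diagonalSubgroup F := by
      refine Subgroup.mem_inf.mpr ⟨Subgroup.mul_mem _ (Subgroup.inv_mem _ (Subgroup.mem_inf.mp hv).1)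
        (Subgroup.mem_inf.mp hv2).1, ?_⟩
      have : v⁻¹ * (h * v * h⁻¹) = v⁻¹ * (h * v * h⁻¹) * (h * h) * (h * h)⁻¹ := by group
      rw [this]
      exact Subgroup.mul_mem _ hkD (Subgroup.inv_mem _ hhhH)
    rw [posUnipotent_inf_diagonalSubgroup chevG2 mem_G2 F, Subgroup.mem_bot] at hw
    rw [hw, one_mul] at e4
    have hz : (n0G2 F)⁻¹ * (h * h) * n0G2 F ∈ chevG2.posUnipotent F ⊓ chevG2.diagonalSubgroup F := by
      refine Subgroup.mem_inf.mpr ⟨?_, ?_⟩
      · rw [e4]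
        exact Subgroup.mul_mem _ (Subgroup.mem_inf.mp hu).1
          (Subgroup.inv_mem _ (Subgroup.mem_inf.mp hu2).1)
      · have := conj_diagonal_mem (n0G2 F)⁻¹ (h * h) (Subgroup.inv_mem _ (n0G2_mem_monomial F)) hhhH
        rwa [inv_inv] at this
    rw [posUnipotent_inf_diagonalSubgroup chevG2 mem_G2 F, Subgroup.mem_bot] at hz
    apply hsq
    have : h * h = n0G2 F * ((n0G2 F)⁻¹ * (h * h) * n0G2 F) * (n0G2 F)⁻¹ := by group
    rw [this, hz]
    group

/-- the centralizer (in the fixed points) of a non-identity element of `U¹` is contained in the Borel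
subgroup -/
theorem cent_unip_le_borel (x : GL chevG2.Idx F) (hx : x ∈ chevG2.posUnipotent F) (hx1 : x ≠ 1)
    (g : GL chevG2.Idx F) (hg : g ∈ fixTau F τ) (hc : g * x = x * g) :
    g ∈ chevG2.borelSubgroup F := by
  by_contra hgB
  apply hx1
  apply TI_aux hτ g hg hgB x hx
  have : g⁻¹ * x * g = x := by
    rw [mul_assoc, ← hc]; group
  rw [this]
  exact hx

end

end Cfsg.Agent.Lib.Helper27.ReeCent
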