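/-
helper27: centralizers in the Ree groups `²G₂(q)`.
Part B: general group theory: conjugating `p`-elements into a subgroup containing a Sylow
`p`-subgroup; transitivity of `2^3 : 7`; centralizers of cyclic subgroups from those of elements of
prime order; groups with Klein four Sylow 2-subgroups and abelian involution centralizers.
-/
import Mathlib
import Cfsg.Agent.Lib.Helper17.CoprimeGen

set_option autoImplicit false

namespace Cfsg.Agent.Lib.Helper27.ReeCent

open Subgroup

section Sylow

variable {G : Type*} [Group G] [Finite G]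

/-- a `p`-element is conjugate into any subgroup whose index is prime to `p` -/
theorem exists_conj_mem_of_card_mul (p : ℕ) [Fact p.Prime] (T : Subgroup G) (r : ℕ)
    (hcard : Nat.card G = Nat.card T * r) (hr : ¬ p ∣ r) (y : G)
    (hy : IsPGroup p ↥(Subgroup.zpowers y)) : ∃ g : G, g * y * g⁻¹ ∈ T := by
  have hp : p.Prime := Fact.out
  have hr0 : r ≠ 0 := by
    rintro rfl
    exact hr (dvd_zero p)
  have hT0 : Nat.card T ≠ 0 := Nat.card_pos.ne'
  obtain ⟨Q₀⟩ : Nonempty (Sylow p ↥T) := inferInstance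
  have hQcard : Nat.card ↥((Q₀ : Subgroup ↥T).map T.subtype) = p ^ (Nat.card G).factorization p := by
    rw [Subgroup.card_map_of_injective T.subtype_injective, Sylow.card_eq_multiplicity, hcard,
      Nat.factorization_mul hT0 hr0, Finsupp.add_apply, Nat.factorization_eq_zero_of_not_dvd hr,
      add_zero]
  obtain ⟨P', hP'⟩ := hy.exists_le_sylow
  obtain ⟨g, hg⟩ := MulAction.exists_smul_eq G P' (Sylow.ofCard _ hQcard)
  refine ⟨g, ?_⟩
  have hyP' : y ∈ (P' : Subgroup G) := hP' (Subgroup.mem_zpowers y)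
  have h1 : g * y * g⁻¹ ∈ ((g • P' : Sylow p G) : Subgroup G) := by
    rw [Sylow.coe_subgroup_smul, Subgroup.mem_pointwise_smul_iff_inv_smul_mem, MulAut.smul_def,
      MulAut.inv_apply, MulAut.conj_symm_apply]
    have : g⁻¹ * (g * y * g⁻¹) * g = y := by group
    rw [this]
    exact hyP'
  rw [hg] at h1
  have h2 : g * y * g⁻¹ ∈ (Q₀ : Subgroup ↥T).map T.subtype := h1
  obtain ⟨z, -, hz⟩ := Subgroup.mem_map.mp h2
  rw [← hz]
  exact z.2

/-- an element of prime order generates a `p`-group -/
theorem isPGroup_zpowers_of_orderOf (p : ℕ) [Fact p.Prime] (y : G) (hy : orderOf y = p) :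
    IsPGroup p ↥(Subgroup.zpowers y) := by
  apply IsPGroup.of_card (n := 1)
  rw [Nat.card_zpowers, hy, pow_one]

end Sylow

section Frob

variable {G : Type*} [Group G]

theorem conj_iterate' (x : G) (k : ℕ) (s : G) :
    (fun t => x * t * x⁻¹)^[k] s = x ^ k * s * (x ^ k)⁻¹ := by
  induction k with
  | zero => simp
  | succ k ih =>
    rw [Function.iterate_succ_apply', ih, pow_succ']
    group

/-- an element of order 7 normalizing and not centralizing a group of order 8 permutes the
non-identity elements transitively -/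
theorem frob7_transitive (S : Subgroup G) (hcard : Nat.card S = 8)
    (x : G) (hx7 : x ^ 7 = 1) (hxS : ∀ s ∈ S, x * s * x⁻¹ ∈ S) (a : G) (haS : a ∈ S)
    (hxa : x * a * x⁻¹ ≠ a) (s : G) (hs : s ∈ S) (hs1 : s ≠ 1) :
    ∃ k : ℕ, s = x ^ k * a * (x ^ k)⁻¹ := by
  set f : G → G := fun t => x * t * x⁻¹ with hf
  have ha1 : a ≠ 1 := by
    rintro rfl
    apply hxa
    group
  have hA_mem : ∀ k, f^[k] a ∈ S := by
    intro k
    induction k with
    | zero => exact haS
    | succ k ih => rw [Function.iterate_succ_apply']; exact hxS _ ih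
  have hA7 : f^[7] a = a := by
    rw [hf, conj_iterate' x 7, hx7]
    simp
  have hper : Function.minimalPeriod f a = 7 := by
    have h1 : Function.IsPeriodicPt f 7 a := hA7
    have h2 := h1.minimalPeriod_dvd
    rcases (Nat.dvd_prime (by norm_num : Nat.Prime 7)).mp h2 with h3 | h3
    · exfalso
      apply hxa
      exact Function.minimalPeriod_eq_one_iff_isFixedPt.mp h3
    · exact h3
  have hinj : ∀ i < 7, ∀ j < 7, f^[i] a = f^[j] a → i = j := by
    intro i hi j hj hij
    have := Function.iterate_injOn_Iio_minimalPeriod (f := f) (x := a)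
    rw [hper] at this
    exact this hi hj hij
  have hA_ne : ∀ k, f^[k] a ≠ 1 := by
    intro k hk
    apply ha1
    rw [hf, conj_iterate'] at hk
    have : a = (x ^ k)⁻¹ * (x ^ k * a * (x ^ k)⁻¹) * x ^ k := by group
    rw [this, hk]
    group
  have hfin : Finite ↥S := Nat.finite_of_card_ne_zero (by rw [hcard]; norm_num)
  have hSfin : (S : Set G).Finite := Set.toFinite _
  have h1 : ((fun k => f^[k] a) '' Set.Iio 7) ⊆ (S : Set G) \ {1} := by
    rintro _ ⟨k, _, rfl⟩
    exact ⟨hA_mem k, hA_ne k⟩
  have h2 : ((fun k => f^[k] a) '' Set.Iio 7).ncard = 7 := by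
    rw [Set.InjOn.ncard_image]
    · rw [← Nat.card_coe_set_eq]
      simp
    · intro i hi j hj hij
      exact hinj i hi j hj hij
  have h3 : ((S : Set G) \ {1}).ncard = 7 := by
    rw [Set.ncard_sdiff_singleton_of_mem S.one_mem, ← Nat.card_coe_set_eq]
    show Nat.card ↥S - 1 = 7
    rw [hcard]
  have h4 := Set.eq_of_subset_of_ncard_le h1 (by rw [h2, h3]) (hSfin.subset Set.sdiff_subset)
  have : s ∈ (S : Set G) \ {1} := ⟨hs, hs1⟩
  rw [← h4] at this
  obtain ⟨k, -, rfl⟩ := this
  exact ⟨k, conj_iterate' x k a⟩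

end Frob

section Cyclic

variable {G : Type*} [Group G] [Finite G]

/-- if the centralizer of every element of prime order of a commutative subgroup `H` is
commutative, then every nontrivial subgroup of `H` has the same centralizer as `H`, namely the
centralizer of any element of prime order of `H` -/
theorem centralizer_eq_of_prime_elements (H : Subgroup G)
    (hH : ∀ a ∈ H, ∀ b ∈ H, a * b = b * a)
    (hcent : ∀ y ∈ H, (orderOf y).Prime →
      ∀ a ∈ Subgroup.centralizer ({y} : Set G), ∀ b ∈ Subgroup.centralizer ({y} : Set G), a * b = b * a)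
    (A : Subgroup G) (hA : A ≤ H) (hA1 : A ≠ ⊥) :
    ∃ y ∈ A, (orderOf y).Prime ∧ Subgroup.centralizer (A : Set G) = Subgroup.centralizer ({y} : Set G) ∧
      Subgroup.centralizer (H : Set G) = Subgroup.centralizer ({y} : Set G) := by
  -- an element of prime order in `A`
  have hcardA : Nat.card A ≠ 1 := by
    intro h
    exact hA1 (Subgroup.card_eq_one.mp h)
  obtain ⟨p, hp, hpA⟩ := Nat.exists_prime_and_dvd hcardA
  haveI : Fact p.Prime := ⟨hp⟩
  obtain ⟨y₀, hy₀⟩ := exists_prime_orderOf_dvd_card' (G := ↥A) p hpA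
  have hyo : orderOf (y₀ : G) = p := by rw [Subgroup.orderOf_coe]; exact hy₀
  refine ⟨y₀, y₀.2, by rw [hyo]; exact hp, ?_, ?_⟩
  · apply le_antisymm
    · apply Subgroup.centralizer_le
      rw [Set.singleton_subset_iff]
      exact y₀.2
    · intro g hg
      rw [Subgroup.mem_centralizer_iff]
      intro a ha
      have hay : (a : G) ∈ Subgroup.centralizer ({(y₀ : G)} : Set G) := by
        rw [Subgroup.mem_centralizer_iff]
        intro z hz
        rw [Set.mem_singleton_iff] at hz
        rw [hz]
        exact hH _ (hA y₀.2) _ (hA ha)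
      exact hcent _ (hA y₀.2) (by rw [hyo]; exact hp) _ hay _ hg
  · apply le_antisymm
    · apply Subgroup.centralizer_le
      rw [Set.singleton_subset_iff]
      exact hA y₀.2
    · intro g hg
      rw [Subgroup.mem_centralizer_iff]
      intro a ha
      have hay : (a : G) ∈ Subgroup.centralizer ({(y₀ : G)} : Set G) := by
        rw [Subgroup.mem_centralizer_iff]
        intro z hz
        rw [Set.mem_singleton_iff] at hz
        rw [hz]
        exact hH _ (hA y₀.2) _ ha
      exact hcent _ (hA y₀.2) (by rw [hyo]; exact hp) _ hay _ hg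

end Cyclic

section Klein

variable {C : Type*} [Group C] [Finite C]

/-- a finite group of order prime to 3 whose Sylow 2-subgroups have exponent 2 and in which the
centralizer of every involution is commutative of order `4n`, `n` odd, is itself commutative of order
`4n` (Burnside's transfer theorem and coprime generation) -/
theorem klein_cent (n : ℕ) (hn : Odd n)
    (hexp : ∀ S : Sylow 2 C, ∀ x ∈ S, x * x = 1)
    (hinv : ∃ t : C, t ≠ 1 ∧ t * t = 1)
    (hcent : ∀ t : C, t ≠ 1 → t * t = 1 →
      (∀ a ∈ Subgroup.centralizer ({t} : Set C), ∀ b ∈ Subgroup.centralizer ({t} : Set C), a * b = b * a) ∧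
        Nat.card (Subgroup.centralizer ({t} : Set C)) = 4 * n)
    (h3 : ¬ 3 ∣ Nat.card C) :
    (∀ a b : C, a * b = b * a) ∧ Nat.card C = 4 * n := by
  haveI : Fact (Nat.Prime 2) := ⟨Nat.prime_two⟩
  obtain ⟨t₀, ht₀1, ht₀2⟩ := hinv
  have hz : IsPGroup 2 ↥(Subgroup.zpowers t₀) := by
    apply IsPGroup.of_card (n := 1)
    rw [Nat.card_zpowers, pow_one]
    exact orderOf_eq_prime (by rw [pow_two]; exact ht₀2) ht₀1
  obtain ⟨P, hP⟩ := hz.exists_le_sylow
  have ht₀P : t₀ ∈ (P : Subgroup C) := hP (Subgroup.mem_zpowers t₀)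
  have hPexp := hexp P
  have hPcomm : ∀ a ∈ (P : Subgroup C), ∀ b ∈ (P : Subgroup C), a * b = b * a := by
    intro a ha b hb
    have hinvS : ∀ s ∈ (P : Subgroup C), s⁻¹ = s := fun s hs =>
      inv_eq_of_mul_eq_one_left (hPexp s hs)
    calc a * b = (a * b)⁻¹ := (hinvS _ (mul_mem ha hb)).symm
      _ = b⁻¹ * a⁻¹ := mul_inv_rev a b
      _ = b * a := by rw [hinvS a ha, hinvS b hb]
  obtain ⟨D, hD⟩ : ∃ D : Subgroup C, D = Subgroup.centralizer ({t₀} : Set C) := ⟨_, rfl⟩
  obtain ⟨hDcomm, hDcard⟩ := hcent t₀ ht₀1 ht₀2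
  rw [← hD] at hDcomm hDcard
  have hPD : (P : Subgroup C) ≤ D := by
    intro s hs
    rw [hD, Subgroup.mem_centralizer_iff]
    intro z hz
    rw [Set.mem_singleton_iff] at hz
    rw [hz]
    exact hPcomm _ ht₀P _ hs
  -- the order of `P`
  have hPcard : Nat.card (P : Subgroup C) = 4 := by
    have h1 : Nat.card (P : Subgroup C) ∣ 4 * n := by
      rw [← hDcard]; exact Subgroup.card_dvd_of_le hPD
    have h2 := P.card_eq_multiplicity
    have h4C : 4 ∣ Nat.card C := by
      have : Nat.card D ∣ Nat.card C := Subgroup.card_subgroup_dvd_card D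
      rw [hDcard] at this
      exact dvd_trans (dvd_mul_right 4 n) this
    obtain ⟨k, hk⟩ : ∃ k, k = (Nat.card C).factorization 2 := ⟨_, rfl⟩
    rw [← hk] at h2
    have hk2 : k ≤ 2 := by
      rw [h2] at h1
      have hcop : Nat.Coprime (2 ^ k) n := Nat.Coprime.pow_left k (Nat.coprime_two_left.mpr hn)
      have h5 : 2 ^ k ∣ 2 ^ 2 := hcop.dvd_of_dvd_mul_right h1
      exact (Nat.pow_dvd_pow_iff_le_right (by norm_num)).mp h5
    have hk2' : 2 ≤ k := by
      rw [hk]
      exact (Nat.Prime.pow_dvd_iff_le_factorization Nat.prime_two Nat.card_pos.ne').mp h4C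
    rw [h2, le_antisymm hk2 hk2']
    norm_num
  -- all involutions of `P` have centralizer `D`
  have hcentP : ∀ t ∈ (P : Subgroup C), t ≠ 1 → Subgroup.centralizer ({t} : Set C) = D := by
    intro t ht ht1
    obtain ⟨-, hc⟩ := hcent t ht1 (hPexp t ht)
    symm
    apply Subgroup.eq_of_le_of_card_ge
    · intro d hd
      rw [Subgroup.mem_centralizer_iff]
      intro z hz
      rw [Set.mem_singleton_iff] at hz
      rw [hz]
      exact hDcomm _ (hPD ht) _ hd
    · rw [hc, hDcard]
  -- the normalizer of `P` centralizes `P`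
  have hNC : Subgroup.normalizer ((P : Subgroup C) : Set C) ≤
      Subgroup.centralizer ((P : Subgroup C) : Set C) := by
    intro g hg
    rw [Subgroup.mem_centralizer_iff]
    intro t ht
    by_cases ht1 : t = 1
    · rw [ht1]; simp
    obtain ⟨a, b, hb, ho⟩ := Nat.exists_eq_two_pow_mul_odd (orderOf_pos g).ne'
    have hgb : g ^ b ∈ (P : Subgroup C) := by
      have h1 : (g ^ b) ^ (2 ^ a) = 1 := by
        rw [← pow_mul, mul_comm, ← ho]; exact pow_orderOf_eq_one g
      obtain ⟨j, -, hj⟩ := (Nat.dvd_prime_pow Nat.prime_two).mp (orderOf_dvd_of_pow_eq_one h1)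
      have hz2 : IsPGroup 2 ↥(Subgroup.zpowers (g ^ b)) :=
        IsPGroup.of_card (n := j) (by rw [Nat.card_zpowers, hj])
      have hle : Subgroup.zpowers (g ^ b) ≤ Subgroup.normalizer ((P : Subgroup C) : Set C) := by
        rw [Subgroup.zpowers_le]; exact pow_mem hg b
      have hsup := IsPGroup.to_sup_of_normal_right' hz2 P.isPGroup' hle
      have := P.is_maximal' hsup le_sup_right
      rw [← this]
      exact Subgroup.mem_sup_left (Subgroup.mem_zpowers _)
    obtain ⟨f, hf⟩ : ∃ f : C → C, f = fun s => g * s * g⁻¹ := ⟨_, rfl⟩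
    have hfP : ∀ s ∈ (P : Subgroup C), f s ∈ (P : Subgroup C) := by
      intro s hs
      rw [hf]
      exact (Subgroup.mem_set_normalizer_iff.mp hg s).mp hs
    have hper : Function.IsPeriodicPt f b t := by
      show f^[b] t = t
      rw [hf, conj_iterate', hPcomm _ hgb _ ht]
      group
    obtain ⟨d, hd⟩ : ∃ d, d = Function.minimalPeriod f t := ⟨_, rfl⟩
    have hdb : d ∣ b := by rw [hd]; exact hper.minimalPeriod_dvd
    have hmem : ∀ k, f^[k] t ∈ (P : Subgroup C) := by
      intro k
      induction k with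
      | zero => exact ht
      | succ k ih => rw [Function.iterate_succ_apply']; exact hfP _ ih
    have hne : ∀ k, f^[k] t ≠ 1 := by
      intro k hk
      apply ht1
      rw [hf, conj_iterate'] at hk
      have : t = (g ^ k)⁻¹ * (g ^ k * t * (g ^ k)⁻¹) * g ^ k := by group
      rw [this, hk]
      group
    have hd3 : d ≤ 3 := by
      have h1 : ((fun k => f^[k] t) '' Set.Iio d) ⊆ ((P : Subgroup C) : Set C) \ {1} := by
        rintro _ ⟨k, _, rfl⟩
        exact ⟨hmem k, hne k⟩
      have h2 : ((fun k => f^[k] t) '' Set.Iio d).ncard = d := by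
        rw [Set.InjOn.ncard_image]
        · rw [← Nat.card_coe_set_eq]
          simp
        · rw [hd]
          exact Function.iterate_injOn_Iio_minimalPeriod
      have h3' : (((P : Subgroup C) : Set C) \ {1}).ncard = 3 := by
        rw [Set.ncard_sdiff_singleton_of_mem (one_mem _), ← Nat.card_coe_set_eq]
        show Nat.card ↥(P : Subgroup C) - 1 = 3
        rw [hPcard]
      have := Set.ncard_le_ncard h1 (Set.toFinite _)
      rw [h2, h3'] at this
      exact this
    have hbpos : 0 < b := hb.pos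
    have hdpos : 0 < d := by rw [hd]; exact hper.minimalPeriod_pos hbpos
    have hdodd : Odd d := Odd.of_dvd_nat hb hdb
    have hd1 : d = 1 := by
      interval_cases d
      · rfl
      · exact absurd hdodd (by decide)
      · exfalso
        apply h3
        exact dvd_trans hdb (dvd_trans ⟨2 ^ a, by rw [ho, mul_comm]⟩ (orderOf_dvd_natCard g))
    have hfix : f t = t := by
      rw [hd] at hd1
      exact Function.minimalPeriod_eq_one_iff_isFixedPt.mp hd1
    rw [hf] at hfix
    have hfix' : g * t * g⁻¹ = t := hfix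
    have : g * t = t * g := by
      calc g * t = (g * t * g⁻¹) * g := by group
        _ = t * g := by rw [hfix']
    exact this.symm
  -- Burnside's transfer theorem
  have hcompl := MonoidHom.ker_transferSylow_isComplement' P hNC
  obtain ⟨Kk, hKk⟩ : ∃ Kk : Subgroup C, Kk = (MonoidHom.transferSylow P hNC).ker := ⟨_, rfl⟩
  rw [← hKk] at hcompl
  haveI hKn : Kk.Normal := by rw [hKk]; infer_instance
  have hKodd : ¬ 2 ∣ Nat.card Kk := by
    have h1 := hcompl.index_eq_card
    have h2 := P.card_coprime_index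
    rw [h1, hPcard] at h2
    have h4 : Nat.Coprime 2 (Nat.card Kk) := Nat.Coprime.coprime_dvd_left (by norm_num) h2
    exact (Nat.Prime.coprime_iff_not_dvd Nat.prime_two).mp h4
  -- a second involution in `P`
  obtain ⟨t₂, ht₂P, ht₂1, ht₂0⟩ : ∃ t₂ ∈ (P : Subgroup C), t₂ ≠ 1 ∧ t₂ ≠ t₀ := by
    by_contra hcon
    push Not at hcon
    have hsub : ((P : Subgroup C) : Set C) ⊆ {1, t₀} := by
      intro s hs
      by_cases hs1 : s = 1
      · left; exact hs1
      · right; exact hcon s hs hs1
    have h1 := Set.ncard_le_ncard hsub (Set.toFinite _)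
    have h2 : (((P : Subgroup C) : Set C)).ncard = 4 := by
      rw [← Nat.card_coe_set_eq]; exact hPcard
    have h3' : ({1, t₀} : Set C).ncard ≤ 2 := Set.ncard_insert_le _ _ |>.trans (by simp)
    omega
  haveI : IsMulCommutative ↥(P : Subgroup C) := ⟨⟨fun x y => Subtype.ext (hPcomm _ x.2 _ y.2)⟩⟩
  have hcop : (Nat.card ↥(P : Subgroup C)).Coprime (Nat.card Kk) := by
    rw [hPcard]
    have h4 : Nat.Coprime 2 (Nat.card Kk) := (Nat.Prime.coprime_iff_not_dvd Nat.prime_two).mpr hKodd
    exact Nat.Coprime.pow_left 2 h4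
  have hsq1 : ∀ t ∈ (P : Subgroup C), t ^ 2 ∈ Subgroup.centralizer (Kk : Set C) := by
    intro t ht
    rw [pow_two, hPexp t ht]
    exact one_mem _
  have hgen := Cfsg.Agent.Lib.Helper17.le_iSup_centralizer_pair (P : Subgroup C) Kk
    (by rw [Subgroup.normalizer_eq_top]; exact le_top) hcop 2 hKodd t₀ t₂ ht₀P ht₂P
    (hsq1 t₀ ht₀P) (hsq1 t₂ ht₂P)
  have hKD : Kk ≤ D := by
    refine le_trans hgen (sup_le (iSup_le fun j => ?_) ?_)
    · have hmemj : t₀ * t₂ ^ j ∈ (P : Subgroup C) := mul_mem ht₀P (pow_mem ht₂P j)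
      have hnej : t₀ * t₂ ^ j ≠ 1 := by
        intro h
        have h5 : t₂ ^ j = t₀ := by
          have : t₂ ^ j = t₀⁻¹ := eq_inv_of_mul_eq_one_right h
          rw [this]
          exact inv_eq_of_mul_eq_one_left ht₀2
        rcases Nat.even_or_odd' j with ⟨i, rfl | rfl⟩
        · rw [pow_mul, pow_two, hPexp t₂ ht₂P, one_pow] at h5
          exact ht₀1 h5.symm
        · rw [pow_succ, pow_mul, pow_two, hPexp t₂ ht₂P, one_pow, one_mul] at h5
          exact ht₂0 h5
      rw [hcentP _ hmemj hnej]
      exact inf_le_right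
    · rw [hcentP _ ht₂P ht₂1]
      exact inf_le_right
  have htop : D = ⊤ := by
    rw [eq_top_iff, ← hcompl.sup_eq_top]
    exact sup_le hKD hPD
  constructor
  · intro a b
    exact hDcomm a (by rw [htop]; trivial) b (by rw [htop]; trivial)
  · rw [← hDcard, htop, Subgroup.card_top]

end Klein

end Cfsg.Agent.Lib.Helper27.ReeCent
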