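/-
helper27: centralizers in the Ree groups `²G₂(q)`.
Part C: in `PSL₂(q)`, `q` odd, the centralizer of an element of odd prime order `p`, `p ∤ q(q-1)`, is
commutative of order `(q+1)/2`; the same in `Z₂ × PSL₂(q)`.
-/
import Mathlib
import Cfsg.Agent.Lib.Helper13.SL2SylowOdd
import Cfsg.Agent.Lib.Helper13.PSL2ClassSizeOdd

set_option autoImplicit false

namespace Cfsg.Agent.Lib.Helper27.ReeCent

open Matrix Cfsg.Agent.Lib.Helper13

section PSL

variable {F : Type*} [Field F] [Fintype F]

theorem zSL_mul_self : zSL F * zSL F = 1 := by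
  apply Subtype.ext
  change (zSL F : Matrix (Fin 2) (Fin 2) F) * (zSL F : Matrix (Fin 2) (Fin 2) F) = 1
  rw [zSL_coe]
  ext i j
  fin_cases i <;> fin_cases j <;> simp [Matrix.mul_apply, Fin.sum_univ_two]

theorem zSL_pow_odd (p : ℕ) (hp : Odd p) : zSL F ^ p = zSL F := by
  obtain ⟨k, rfl⟩ := hp
  rw [pow_succ, pow_mul, pow_two, zSL_mul_self, one_pow, one_mul]

theorem zSL_comm (g : SpecialLinearGroup (Fin 2) F) : zSL F * g = g * zSL F :=
  ((Subgroup.mem_center_iff.mp zSL_mem_center) g).symm

/-- the centralizer in `PSL₂(q)` of an element of odd prime order `p ∤ q (q - 1)` -/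
theorem psl2_centralizer_odd_prime (ℓ : ℕ) [Fact ℓ.Prime] [CharP F ℓ] (h2 : (2 : F) ≠ 0)
    (p : ℕ) (hp : p.Prime) (hp2 : p ≠ 2) (hpℓ : p ≠ ℓ) (hpq : ¬ p ∣ Fintype.card F - 1)
    (ybar : ProjectiveSpecialLinearGroup (Fin 2) F) (hy : orderOf ybar = p) :
    (∀ a ∈ Subgroup.centralizer ({ybar} : Set (ProjectiveSpecialLinearGroup (Fin 2) F)),
      ∀ b ∈ Subgroup.centralizer ({ybar} : Set (ProjectiveSpecialLinearGroup (Fin 2) F)), a * b = b * a) ∧
      2 * Nat.card (Subgroup.centralizer ({ybar} : Set (ProjectiveSpecialLinearGroup (Fin 2) F))) =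
        Fintype.card F + 1 := by
  have hpodd : Odd p := hp.odd_of_ne_two hp2
  haveI : Fact p.Prime := ⟨hp⟩
  obtain ⟨y₀, rfl⟩ := QuotientGroup.mk_surjective ybar
  -- a lift of order `p`
  obtain ⟨y, hymk, hyp⟩ : ∃ y : SpecialLinearGroup (Fin 2) F,
      (QuotientGroup.mk y : ProjectiveSpecialLinearGroup (Fin 2) F) = QuotientGroup.mk y₀ ∧ y ^ p = 1 := by
    have h1 : (QuotientGroup.mk y₀ : ProjectiveSpecialLinearGroup (Fin 2) F) ^ p = 1 := by
      rw [← hy]; exact pow_orderOf_eq_one _
    rw [← QuotientGroup.mk_pow, QuotientGroup.eq_one_iff] at h1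
    rcases center_cases _ h1 with h | h
    · exact ⟨y₀, rfl, h⟩
    · refine ⟨zSL F * y₀, ?_, ?_⟩
      · rw [QuotientGroup.mk_mul, (QuotientGroup.eq_one_iff _).mpr zSL_mem_center, one_mul]
      · rw [(show Commute (zSL F) y₀ from zSL_comm y₀).mul_pow, h, zSL_pow_odd p hpodd, zSL_mul_self]
  rw [← hymk] at hy ⊢
  have hy1 : y ≠ 1 := by
    rintro rfl
    rw [QuotientGroup.mk_one, orderOf_one] at hy
    exact hp.one_lt.ne hy
  have hyord : orderOf y = p := orderOf_eq_prime hyp hy1
  have htr : (y : Matrix (Fin 2) (Fin 2) F).trace ^ 2 ≠ 4 := by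
    intro h4
    have h6 := pow_char_mul_two_of_trace_sq ℓ y h4
    have hd : p ∣ ℓ * 2 := by rw [← hyord]; exact orderOf_dvd_of_pow_eq_one h6
    rcases (Nat.Prime.dvd_mul hp).mp hd with h | h
    · exact hpℓ ((Nat.prime_dvd_prime_iff_eq hp Fact.out).mp h)
    · exact hp2 ((Nat.prime_dvd_prime_iff_eq hp Nat.prime_two).mp h)
  obtain ⟨T, hT⟩ : ∃ T : Subgroup (SpecialLinearGroup (Fin 2) F),
      T = Subgroup.centralizer ({y} : Set (SpecialLinearGroup (Fin 2) F)) := ⟨_, rfl⟩
  have hTcyc : IsCyclic ↥T := by rw [hT]; exact isCyclic_centralizer y htr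
  have hTcomm : ∀ a ∈ T, ∀ b ∈ T, a * b = b * a := by
    intro a ha b hb
    haveI := hTcyc
    have hmc : IsMulCommutative ↥T := IsCyclic.isMulCommutative
    have := hmc.is_comm.comm (⟨a, ha⟩ : ↥T) ⟨b, hb⟩
    exact congrArg Subtype.val this
  have hyT : y ∈ T := by rw [hT]; exact self_mem_centralizer y
  have hTcard : Nat.card ↥T = Fintype.card F + 1 := by
    have hpT : p ∣ Nat.card ↥T := by
      have := orderOf_dvd_natCard (⟨y, hyT⟩ : ↥T)
      rwa [← Subgroup.orderOf_coe, Subgroup.coe_mk, hyord] at this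
    rcases card_centralizer_cases y htr with h | h
    · rw [hT, h] at hpT
      exact absurd hpT hpq
    · rw [hT]; exact h
  have hzT : Subgroup.center (SpecialLinearGroup (Fin 2) F) ≤ T := by
    rw [hT]
    exact Subgroup.center_le_centralizer _
  -- the centralizer downstairs is the image of `T`
  have himage : Subgroup.centralizer
      ({(QuotientGroup.mk y : ProjectiveSpecialLinearGroup (Fin 2) F)} : Set (ProjectiveSpecialLinearGroup (Fin 2) F)) =
      T.map (QuotientGroup.mk' (Subgroup.center (SpecialLinearGroup (Fin 2) F))) := by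
    apply le_antisymm
    · intro x hx
      obtain ⟨g, rfl⟩ := QuotientGroup.mk_surjective x
      rw [Subgroup.mem_centralizer_iff] at hx
      have hx' := hx _ (Set.mem_singleton _)
      -- `g y g⁻¹ y⁻¹` is central
      have hc : g * y * g⁻¹ * y⁻¹ ∈ Subgroup.center (SpecialLinearGroup (Fin 2) F) := by
        rw [← QuotientGroup.eq_one_iff, QuotientGroup.mk_mul, QuotientGroup.mk_mul, QuotientGroup.mk_mul,
          QuotientGroup.mk_inv, QuotientGroup.mk_inv, ← hx']
        group
      refine Subgroup.mem_map.mpr ⟨g, ?_, rfl⟩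
      rw [hT, mem_centralizer_singleton_comm]
      rcases center_cases _ hc with h | h
      · have : g * y = (g * y * g⁻¹ * y⁻¹) * y * g := by group
        rw [this, h, one_mul]
      · exfalso
        have h5 : g * y * g⁻¹ = zSL F * y := by
          have : g * y * g⁻¹ = (g * y * g⁻¹ * y⁻¹) * y := by group
          rw [this, h]
        have h6 : (g * y * g⁻¹) ^ p = 1 := by
          rw [conj_pow, hyp]; group
        rw [h5, (show Commute (zSL F) y from zSL_comm y).mul_pow, hyp, zSL_pow_odd p hpodd, mul_one] at h6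
        exact zSL_ne_one h2 h6
    · intro x hx
      obtain ⟨g, hg, rfl⟩ := Subgroup.mem_map.mp hx
      rw [hT, mem_centralizer_singleton_comm] at hg
      rw [Subgroup.mem_centralizer_iff]
      intro z hz
      rw [Set.mem_singleton_iff] at hz
      rw [hz]
      show (QuotientGroup.mk y : ProjectiveSpecialLinearGroup (Fin 2) F) * QuotientGroup.mk g =
        QuotientGroup.mk g * QuotientGroup.mk y
      rw [← QuotientGroup.mk_mul, ← QuotientGroup.mk_mul, hg]
  constructor
  · intro a ha b hb
    rw [himage] at ha hb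
    obtain ⟨a', ha', rfl⟩ := Subgroup.mem_map.mp ha
    obtain ⟨b', hb', rfl⟩ := Subgroup.mem_map.mp hb
    rw [← map_mul, ← map_mul, hTcomm a' ha' b' hb']
  · rw [himage]
    have hidx := Subgroup.index_map_eq T
      (QuotientGroup.mk'_surjective (Subgroup.center (SpecialLinearGroup (Fin 2) F)))
      (by rw [QuotientGroup.ker_mk']; exact hzT)
    have h1 := Subgroup.card_mul_index
      (T.map (QuotientGroup.mk' (Subgroup.center (SpecialLinearGroup (Fin 2) F))))
    have h2' := Subgroup.card_mul_index T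
    have h3 := Subgroup.card_eq_card_quotient_mul_card_subgroup
      (Subgroup.center (SpecialLinearGroup (Fin 2) F))
    rw [card_center_SL2 h2] at h3
    rw [hidx] at h1
    have hidx0 : T.index ≠ 0 := Subgroup.index_ne_zero_of_finite
    have h4 : Nat.card ↥T * T.index =
        2 * Nat.card ↥(T.map (QuotientGroup.mk' (Subgroup.center (SpecialLinearGroup (Fin 2) F)))) * T.index := by
      rw [h2', h3]
      have : Nat.card (SpecialLinearGroup (Fin 2) F ⧸ Subgroup.center (SpecialLinearGroup (Fin 2) F)) =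
          Nat.card (ProjectiveSpecialLinearGroup (Fin 2) F) := rfl
      rw [this, ← h1]
      ring
    have h5 := Nat.eq_of_mul_eq_mul_right (Nat.pos_of_ne_zero hidx0) h4
    rw [← h5, hTcard]

end PSL

section Prod

variable {F : Type*} [Field F] [Fintype F]

/-- the centralizer in `Z₂ × PSL₂(q)` of an element of odd prime order `p ∤ q (q - 1)` is
commutative of order `q + 1` -/
theorem prod_centralizer_odd_prime (ℓ : ℕ) [Fact ℓ.Prime] [CharP F ℓ] (h2 : (2 : F) ≠ 0)
    (p : ℕ) (hp : p.Prime) (hp2 : p ≠ 2) (hpℓ : p ≠ ℓ) (hpq : ¬ p ∣ Fintype.card F - 1)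
    (w : Multiplicative (ZMod 2) × ProjectiveSpecialLinearGroup (Fin 2) F) (hw : orderOf w = p) :
    (∀ a ∈ Subgroup.centralizer ({w} : Set (Multiplicative (ZMod 2) × ProjectiveSpecialLinearGroup (Fin 2) F)),
      ∀ b ∈ Subgroup.centralizer ({w} : Set (Multiplicative (ZMod 2) × ProjectiveSpecialLinearGroup (Fin 2) F)),
        a * b = b * a) ∧
      Nat.card (Subgroup.centralizer
        ({w} : Set (Multiplicative (ZMod 2) × ProjectiveSpecialLinearGroup (Fin 2) F))) =
        Fintype.card F + 1 := by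
  haveI : Fact p.Prime := ⟨hp⟩
  obtain ⟨z, ybar⟩ := w
  have hwp : ((z, ybar) : Multiplicative (ZMod 2) × ProjectiveSpecialLinearGroup (Fin 2) F) ^ p = 1 := by
    rw [← hw]; exact pow_orderOf_eq_one _
  have hzp : z ^ p = 1 := congrArg Prod.fst hwp
  have hyp : ybar ^ p = 1 := congrArg Prod.snd hwp
  have hz2 : z ^ 2 = 1 := by
    have hc : Nat.card (Multiplicative (ZMod 2)) = 2 := by
      rw [Nat.card_eq_fintype_card]; rfl
    have := pow_card_eq_one' (G := Multiplicative (ZMod 2)) (x := z)
    rwa [hc] at this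
  have hz1 : z = 1 := by
    have := pow_gcd_eq_one.mpr ⟨hzp, hz2⟩
    have hg : Nat.gcd p 2 = 1 := by
      rw [Nat.coprime_comm.mp ((Nat.coprime_primes Nat.prime_two hp).mpr (Ne.symm hp2))]
    rwa [hg, pow_one] at this
  subst hz1
  have hy1 : ybar ≠ 1 := by
    rintro rfl
    have : orderOf ((1, 1) : Multiplicative (ZMod 2) × ProjectiveSpecialLinearGroup (Fin 2) F) = 1 := by
      rw [orderOf_eq_one_iff]; rfl
    rw [this] at hw
    exact hp.one_lt.ne hw
  have hyord : orderOf ybar = p := orderOf_eq_prime hyp hy1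
  obtain ⟨hcomm, hcard⟩ := psl2_centralizer_odd_prime ℓ h2 p hp hp2 hpℓ hpq ybar hyord
  have hmem : ∀ x : Multiplicative (ZMod 2) × ProjectiveSpecialLinearGroup (Fin 2) F,
      x ∈ Subgroup.centralizer
        ({((1 : Multiplicative (ZMod 2)), ybar)} : Set (Multiplicative (ZMod 2) × ProjectiveSpecialLinearGroup (Fin 2) F)) ↔
      x.2 ∈ Subgroup.centralizer ({ybar} : Set (ProjectiveSpecialLinearGroup (Fin 2) F)) := by
    intro x
    rw [mem_centralizer_singleton_comm, mem_centralizer_singleton_comm]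
    constructor
    · intro h
      exact congrArg Prod.snd h
    · intro h
      apply Prod.ext
      · simp
      · exact h
  constructor
  · intro a ha b hb
    rw [hmem] at ha hb
    apply Prod.ext
    · exact mul_comm _ _
    · exact hcomm _ ha _ hb
  · have heq : Subgroup.centralizer
        ({((1 : Multiplicative (ZMod 2)), ybar)} : Set (Multiplicative (ZMod 2) × ProjectiveSpecialLinearGroup (Fin 2) F)) =
        (⊤ : Subgroup (Multiplicative (ZMod 2))).prod
          (Subgroup.centralizer ({ybar} : Set (ProjectiveSpecialLinearGroup (Fin 2) F))) := by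
      ext x
      rw [hmem, Subgroup.mem_prod]
      simp
    rw [heq, Nat.card_congr (Subgroup.prodEquiv _ _).toEquiv, Nat.card_prod, Subgroup.card_top]
    have : Nat.card (Multiplicative (ZMod 2)) = 2 := by
      rw [Nat.card_eq_fintype_card]; rfl
    rw [this, hcard]

end Prod

end Cfsg.Agent.Lib.Helper27.ReeCent
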