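/-
helper27: centralizers in the Ree groups `²G₂(q)`, `q = 3^(2m+1)`.
Part D: the group-level facts: torus, Borel subgroup, centralizers of torus elements of odd order,
centralizers of elements of order 3, conjugacy of involutions.
-/
import Cfsg.Agent.Lib.Helper27.ReeCentA
import Cfsg.Agent.Lib.Helper27.ReeCentB
import Cfsg.Agent.Lib.Helper27.ReeCentC
import Cfsg.Agent.Lib.Helper7.ReeSyl3
import Cfsg.Agent.S1069
import Cfsg.Agent.S1157

set_option autoImplicit false

namespace Cfsg.Agent.Lib.Helper27.ReeCent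

open Cfsg Cfsg.Lie Matrix Cfsg.Agent.Lib.Helper7

section General

variable {G : Type*} [Group G]

theorem mem_cent_singleton (g h : G) :
    h ∈ Subgroup.centralizer ({g} : Set G) ↔ h * g = g * h := by
  rw [Subgroup.mem_centralizer_iff]
  simp only [Set.mem_singleton_iff, forall_eq]
  exact eq_comm

/-- the centralizer of a conjugate -/
theorem centralizer_conj (g y : G) :
    Subgroup.centralizer ({g * y * g⁻¹} : Set G) =
      (Subgroup.centralizer ({y} : Set G)).map (MulAut.conj g).toMonoidHom := by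
  ext x
  rw [Subgroup.mem_map, mem_cent_singleton]
  constructor
  · intro hx
    refine ⟨g⁻¹ * x * g, ?_, ?_⟩
    · rw [mem_cent_singleton]
      have : g⁻¹ * x * g * y = g⁻¹ * (x * (g * y * g⁻¹)) * g := by group
      rw [this, hx]
      group
    · simp only [MulEquiv.coe_toMonoidHom, MulAut.conj_apply]
      group
  · rintro ⟨z, hz, rfl⟩
    rw [mem_cent_singleton] at hz
    simp only [MulEquiv.coe_toMonoidHom, MulAut.conj_apply]
    have : g * z * g⁻¹ * (g * y * g⁻¹) = g * (z * y) * g⁻¹ := by group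
    rw [this, hz]
    group

theorem card_centralizer_conj (g y : G) :
    Nat.card (Subgroup.centralizer ({g * y * g⁻¹} : Set G)) =
      Nat.card (Subgroup.centralizer ({y} : Set G)) := by
  rw [centralizer_conj, Subgroup.card_map_of_injective (MulAut.conj g).injective]

theorem comm_centralizer_conj (g y : G)
    (h : ∀ a ∈ Subgroup.centralizer ({y} : Set G), ∀ b ∈ Subgroup.centralizer ({y} : Set G), a * b = b * a) :
    ∀ a ∈ Subgroup.centralizer ({g * y * g⁻¹} : Set G),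
      ∀ b ∈ Subgroup.centralizer ({g * y * g⁻¹} : Set G), a * b = b * a := by
  intro a ha b hb
  rw [centralizer_conj] at ha hb
  obtain ⟨a', ha', rfl⟩ := Subgroup.mem_map.mp ha
  obtain ⟨b', hb', rfl⟩ := Subgroup.mem_map.mp hb
  rw [← map_mul, ← map_mul, h a' ha' b' hb']

theorem orderOf_conj' (g y : G) : orderOf (g * y * g⁻¹) = orderOf y := by
  have : g * y * g⁻¹ = MulAut.conj g y := by simp [MulAut.conj_apply]
  rw [this, MulEquiv.orderOf_eq]

/-- centralizers under an isomorphism -/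
theorem mem_centralizer_equiv {A B : Type*} [Group A] [Group B] (e : A ≃* B) (x g : A) :
    g ∈ Subgroup.centralizer ({x} : Set A) ↔ e g ∈ Subgroup.centralizer ({e x} : Set B) := by
  rw [mem_cent_singleton, mem_cent_singleton, ← map_mul, ← map_mul]
  exact ⟨fun h => congrArg e h, fun h => e.injective h⟩

theorem card_centralizer_equiv {A B : Type*} [Group A] [Group B] (e : A ≃* B) (x : A) :
    Nat.card (Subgroup.centralizer ({x} : Set A)) = Nat.card (Subgroup.centralizer ({e x} : Set B)) :=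
  Nat.card_congr (e.toEquiv.subtypeEquiv (fun g => mem_centralizer_equiv e x g))

/-- 2-elements are involutions when the Sylow 2-subgroups have exponent 2 -/
theorem sq_eq_one_of_two_power [Finite G] (hexp : ∀ S : Sylow 2 G, ∀ x ∈ S, x * x = 1)
    (x : G) (n : ℕ) (hx : x ^ (2 ^ n) = 1) : x * x = 1 := by
  haveI : Fact (Nat.Prime 2) := ⟨Nat.prime_two⟩
  obtain ⟨j, -, hj⟩ := (Nat.dvd_prime_pow Nat.prime_two).mp (orderOf_dvd_of_pow_eq_one hx)
  have hz : IsPGroup 2 ↥(Subgroup.zpowers x) :=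
    IsPGroup.of_card (n := j) (by rw [Nat.card_zpowers, hj])
  obtain ⟨S, hS⟩ := hz.exists_le_sylow
  exact hexp S x (hS (Subgroup.mem_zpowers x))

end General

section Ree

variable {K : Type*} [Field K] [Fintype K] {m : ℕ}

/-- the torus `H¹` of the Ree group -/
def reeTorus (K : Type*) [Field K] (m : ℕ) : Subgroup ↥(twistedG2 K (3 ^ m)) :=
  (chevG2.diagonalSubgroup K).subgroupOf (twistedG2 K (3 ^ m))

/-- the Borel subgroup `B¹` of the Ree group -/
def reeBorel (K : Type*) [Field K] (m : ℕ) : Subgroup ↥(twistedG2 K (3 ^ m)) :=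
  (chevG2.borelSubgroup K).subgroupOf (twistedG2 K (3 ^ m))

/-- the unipotent subgroup `U¹` of the Ree group -/
def reeUnip (K : Type*) [Field K] (m : ℕ) : Subgroup ↥(twistedG2 K (3 ^ m)) :=
  (chevG2.posUnipotent K).subgroupOf (twistedG2 K (3 ^ m))

omit [Fintype K] in
theorem mem_reeTorus (g : ↥(twistedG2 K (3 ^ m))) :
    g ∈ reeTorus K m ↔ (g : GL chevG2.Idx K) ∈ chevG2.diagonalSubgroup K := Subgroup.mem_subgroupOf

omit [Fintype K] in
theorem mem_reeBorel (g : ↥(twistedG2 K (3 ^ m))) :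
    g ∈ reeBorel K m ↔ (g : GL chevG2.Idx K) ∈ chevG2.borelSubgroup K := Subgroup.mem_subgroupOf

omit [Fintype K] in
theorem mem_reeUnip (g : ↥(twistedG2 K (3 ^ m))) :
    g ∈ reeUnip K m ↔ (g : GL chevG2.Idx K) ∈ chevG2.posUnipotent K := Subgroup.mem_subgroupOf

theorem card_subgroupOf_eq {G : Type*} [Group G] (H L : Subgroup G) :
    Nat.card ↥(H.subgroupOf L) = Nat.card ↥(H ⊓ L) := by
  rw [← Subgroup.inf_subgroupOf_right]
  exact Nat.card_congr (Subgroup.subgroupOfEquivOfLe inf_le_right).toEquiv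

variable (hK : Fintype.card K = 3 ^ (2 * m + 1))
include hK

theorem card_reeTorus : Nat.card ↥(reeTorus K m) = 3 ^ (2 * m + 1) - 1 := by
  unfold reeTorus
  rw [card_subgroupOf_eq]
  obtain ⟨τ, hτ⟩ := exists_tauData hK
  have hsq := sq_dichotomy_of_card hK
  rw [twistedG2_eq_fixTau hτ hsq, card_fixH hτ hsq, Nat.card_eq_fintype_card, hK]

theorem isCyclic_reeTorus : IsCyclic ↥(reeTorus K m) := by
  unfold reeTorus
  rw [← Subgroup.inf_subgroupOf_right]
  haveI := ree_torus_isCyclic hK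
  exact isCyclic_of_surjective (Subgroup.subgroupOfEquivOfLe
    (inf_le_right : chevG2.diagonalSubgroup K ⊓ twistedG2 K (3 ^ m) ≤ twistedG2 K (3 ^ m))).symm
    (MulEquiv.surjective _)

theorem card_reeUnip : Nat.card ↥(reeUnip K m) = (3 ^ (2 * m + 1)) ^ 3 := by
  unfold reeUnip
  rw [card_subgroupOf_eq]
  obtain ⟨τ, hτ⟩ := exists_tauData hK
  have hsq := sq_dichotomy_of_card hK
  rw [twistedG2_eq_fixTau hτ hsq, card_posUnipotent_inf_fixTau hτ, Nat.card_eq_fintype_card, hK]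

theorem card_reeBorel : Nat.card ↥(reeBorel K m) = (3 ^ (2 * m + 1) - 1) * (3 ^ (2 * m + 1)) ^ 3 := by
  unfold reeBorel
  rw [card_subgroupOf_eq]
  obtain ⟨τ, hτ⟩ := exists_tauData hK
  have hsq := sq_dichotomy_of_card hK
  rw [twistedG2_eq_fixTau hτ hsq, card_fixBorel hτ, card_fixH hτ hsq, card_posUnipotent_inf_fixTau hτ,
    Nat.card_eq_fintype_card, hK]

/-- the centralizer of a non-identity element of odd order of the torus is contained in the torus -/
theorem ree_cent_torus (h : ↥(twistedG2 K (3 ^ m))) (hT : h ∈ reeTorus K m) (h1 : h ≠ 1)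
    (hodd : Odd (orderOf h)) :
    Subgroup.centralizer ({h} : Set ↥(twistedG2 K (3 ^ m))) ≤ reeTorus K m := by
  obtain ⟨τ, hτ⟩ := exists_tauData hK
  have hsq := sq_dichotomy_of_card hK
  have htw := twistedG2_eq_fixTau hτ hsq
  intro g hg
  rw [mem_cent_singleton] at hg
  rw [mem_reeTorus] at hT ⊢
  refine cent_torus hτ (h : GL chevG2.Idx K) (Subgroup.mem_inf.mpr ⟨hT, htw ▸ h.2⟩) ?_ ?_
    (g : GL chevG2.Idx K) (htw ▸ g.2) (congrArg Subtype.val hg)
  · intro h'
    exact h1 (Subtype.ext h')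
  · rwa [Subgroup.orderOf_coe]

/-- the centralizer of a non-identity element of `U¹` is contained in `B¹` -/
theorem ree_cent_unip (x : ↥(twistedG2 K (3 ^ m))) (hx : x ∈ reeUnip K m) (hx1 : x ≠ 1) :
    Subgroup.centralizer ({x} : Set ↥(twistedG2 K (3 ^ m))) ≤ reeBorel K m := by
  obtain ⟨τ, hτ⟩ := exists_tauData hK
  have hsq := sq_dichotomy_of_card hK
  have htw := twistedG2_eq_fixTau hτ hsq
  intro g hg
  rw [mem_cent_singleton] at hg
  rw [mem_reeUnip] at hx
  rw [mem_reeBorel]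
  refine cent_unip_le_borel hτ (x : GL chevG2.Idx K) hx ?_ (g : GL chevG2.Idx K) (htw ▸ g.2)
    (congrArg Subtype.val hg)
  intro h'
  exact hx1 (Subtype.ext h')

end Ree

section Ree2

variable {K : Type*} [Field K] [Fintype K] {m : ℕ} (hK : Fintype.card K = 3 ^ (2 * m + 1))
include hK

/-- an element of prime order `p ∣ (q-1)/2` has cyclic centralizer of order `q - 1` -/
theorem ree_cent_prime_torus (y : ↥(twistedG2 K (3 ^ m))) (p : ℕ) (hp : p.Prime) (hy : orderOf y = p)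
    (hpd : p ∣ (3 ^ (2 * m + 1) - 1) / 2) :
    IsCyclic ↥(Subgroup.centralizer ({y} : Set ↥(twistedG2 K (3 ^ m)))) ∧
      Nat.card ↥(Subgroup.centralizer ({y} : Set ↥(twistedG2 K (3 ^ m)))) = 3 ^ (2 * m + 1) - 1 := by
  haveI : Fact p.Prime := ⟨hp⟩
  obtain ⟨k, hk⟩ := three_pow_mod_eight m
  have hcardG := Cfsg.Agent.S1069.result hK
  have hcardT := card_reeTorus hK
  have hcyc := isCyclic_reeTorus hK
  rw [hk] at hpd hcardG hcardT ⊢
  have e1 : 8 * k + 3 - 1 = 2 * (4 * k + 1) := by omega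
  have e2 : (8 * k + 3 - 1) / 2 = 4 * k + 1 := by omega
  rw [e2] at hpd
  have hp2 : p ≠ 2 := by
    rintro rfl
    omega
  have hpodd : Odd p := hp.odd_of_ne_two hp2
  -- `p` does not divide the index of the torus
  have hr : ¬ p ∣ (8 * k + 3) ^ 3 * ((8 * k + 3) ^ 3 + 1) := by
    intro h
    rcases (Nat.Prime.dvd_mul hp).mp h with h | h
    · have h1 : p ∣ 8 * k + 3 := hp.dvd_of_dvd_pow h
      have h2 : p ∣ 2 * (4 * k + 1) := dvd_mul_of_dvd_right hpd 2
      have h3 : p ∣ 8 * k + 3 - 2 * (4 * k + 1) := Nat.dvd_sub h1 h2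
      have h4 : 8 * k + 3 - 2 * (4 * k + 1) = 1 := by omega
      rw [h4] at h3
      exact hp.one_lt.ne' (Nat.dvd_one.mp h3)
    · have h1 : (8 * k + 3) ^ 3 + 1 = (4 * k + 1) * (2 * ((8 * k + 3) ^ 2 + (8 * k + 3) + 1)) + 2 := by
        ring
      rw [h1] at h
      have h2 : p ∣ 2 := (Nat.dvd_add_right (dvd_mul_of_dvd_left hpd _)).mp h
      exact hp2 ((Nat.prime_dvd_prime_iff_eq hp Nat.prime_two).mp h2)
  have hcard : Nat.card ↥(twistedG2 K (3 ^ m)) =
      Nat.card ↥(reeTorus K m) * ((8 * k + 3) ^ 3 * ((8 * k + 3) ^ 3 + 1)) := by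
    rw [hcardG, hcardT]; ring
  obtain ⟨g, hg⟩ := exists_conj_mem_of_card_mul p (reeTorus K m) _ hcard hr y
    (isPGroup_zpowers_of_orderOf p y hy)
  have hy'ord : orderOf (g * y * g⁻¹) = p := by rw [orderOf_conj', hy]
  have hy'1 : g * y * g⁻¹ ≠ 1 := by
    intro h
    rw [h, orderOf_one] at hy'ord
    exact hp.one_lt.ne hy'ord
  have hTcomm : ∀ a ∈ reeTorus K m, ∀ b ∈ reeTorus K m, a * b = b * a := by
    intro a ha b hb
    have hmc : IsMulCommutative ↥(reeTorus K m) := IsCyclic.isMulCommutative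
    exact congrArg Subtype.val (hmc.is_comm.comm (⟨a, ha⟩ : ↥(reeTorus K m)) ⟨b, hb⟩)
  have hcent : Subgroup.centralizer ({g * y * g⁻¹} : Set ↥(twistedG2 K (3 ^ m))) = reeTorus K m := by
    apply le_antisymm
    · exact ree_cent_torus hK _ hg hy'1 (by rw [hy'ord]; exact hpodd)
    · intro a ha
      rw [mem_cent_singleton]
      exact hTcomm a ha _ hg
  constructor
  · have e := Subgroup.equivMapOfInjective
      (Subgroup.centralizer ({y} : Set ↥(twistedG2 K (3 ^ m)))) (MulAut.conj g).toMonoidHom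
      (MulAut.conj g).injective
    rw [← centralizer_conj, hcent] at e
    exact isCyclic_of_surjective e.symm e.symm.surjective
  · rw [← card_centralizer_conj g y, hcent, hcardT]

/-- the centralizer of an element of order 3 has order dividing `|B¹|` -/
theorem ree_card_cent_three (x : ↥(twistedG2 K (3 ^ m))) (hx : orderOf x = 3) :
    Nat.card ↥(Subgroup.centralizer ({x} : Set ↥(twistedG2 K (3 ^ m)))) ∣
      (3 ^ (2 * m + 1) - 1) * (3 ^ (2 * m + 1)) ^ 3 := by
  haveI : Fact (Nat.Prime 3) := ⟨Nat.prime_three⟩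
  have hcardG := Cfsg.Agent.S1069.result hK
  have hcardU := card_reeUnip hK
  obtain ⟨q, hq⟩ : ∃ q, q = 3 ^ (2 * m + 1) := ⟨_, rfl⟩
  rw [← hq] at hcardG hcardU ⊢
  have hq3 : q % 3 = 0 := by
    rw [hq, pow_succ]
    exact Nat.mul_mod_left _ _
  have hqpos : 0 < q := by rw [hq]; positivity
  have hr : ¬ 3 ∣ (q - 1) * (q ^ 3 + 1) := by
    rw [Nat.dvd_iff_mod_eq_zero, Nat.mul_mod]
    have h1 : (q - 1) % 3 = 2 := by omega
    have h2 : (q ^ 3 + 1) % 3 = 1 := by
      rw [Nat.add_mod, Nat.pow_mod, hq3]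
    rw [h1, h2]
    norm_num
  have hcard : Nat.card ↥(twistedG2 K (3 ^ m)) = Nat.card ↥(reeUnip K m) * ((q - 1) * (q ^ 3 + 1)) := by
    rw [hcardG, hcardU]; ring
  obtain ⟨g, hg⟩ := exists_conj_mem_of_card_mul 3 (reeUnip K m) _ hcard hr x
    (isPGroup_zpowers_of_orderOf 3 x hx)
  have hx'1 : g * x * g⁻¹ ≠ 1 := by
    intro h
    have := orderOf_conj' g x
    rw [h, orderOf_one, hx] at this
    omega
  have hle := ree_cent_unip hK _ hg hx'1
  have := Subgroup.card_dvd_of_le hle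
  rw [card_centralizer_conj, card_reeBorel hK, ← hq] at this
  exact this

/-- all involutions of the Ree group are conjugate -/
theorem ree_involution_conj (hm : 1 ≤ m) (a t : ↥(twistedG2 K (3 ^ m))) (ha1 : a ≠ 1)
    (ha2 : a * a = 1) (ht1 : t ≠ 1) (ht2 : t * t = 1) : ∃ g : ↥(twistedG2 K (3 ^ m)), t = g * a * g⁻¹ := by
  haveI : Fact (Nat.Prime 2) := ⟨Nat.prime_two⟩
  haveI : Fact (Nat.Prime 7) := ⟨by norm_num⟩
  obtain ⟨a₀, ha₀H, ha₀1, ha₀2⟩ := ReeSyl.exists_torus_involution hK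
  have hsyl := (Cfsg.Agent.S1152.result hK a₀ ha₀H ha₀1 ha₀2).2
  have hzp : ∀ s : ↥(twistedG2 K (3 ^ m)), s ≠ 1 → s * s = 1 → IsPGroup 2 ↥(Subgroup.zpowers s) := by
    intro s hs1 hs2
    apply isPGroup_zpowers_of_orderOf 2 s
    exact orderOf_eq_prime (by rw [pow_two]; exact hs2) hs1
  obtain ⟨S, hS⟩ := (hzp t ht1 ht2).exists_le_sylow
  have htS : t ∈ (S : Subgroup ↥(twistedG2 K (3 ^ m))) := hS (Subgroup.mem_zpowers t)
  obtain ⟨hScard, hSexp⟩ := hsyl S
  obtain ⟨hSC, hSN⟩ := Cfsg.Agent.S1157.result hm hK S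
  obtain ⟨g₁, hg₁⟩ := exists_conj_mem_of_card_mul 2 (S : Subgroup ↥(twistedG2 K (3 ^ m)))
    (S : Subgroup ↥(twistedG2 K (3 ^ m))).index (Subgroup.card_mul_index _).symm S.not_dvd_index a
    (hzp a ha1 ha2)
  have ha'1 : g₁ * a * g₁⁻¹ ≠ 1 := by
    intro h
    apply ha1
    have : a = g₁⁻¹ * (g₁ * a * g₁⁻¹) * g₁ := by group
    rw [this, h]
    group
  -- an element of order 7 in the normalizer
  obtain ⟨x', hx'⟩ := exists_prime_orderOf_dvd_card'
    (G := ↥(Subgroup.normalizer ((S : Subgroup ↥(twistedG2 K (3 ^ m))) : Set ↥(twistedG2 K (3 ^ m))))) 7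
    (by rw [hSN]; norm_num)
  have hxo : orderOf (x' : ↥(twistedG2 K (3 ^ m))) = 7 := by rw [Subgroup.orderOf_coe]; exact hx'
  have hx7 : (x' : ↥(twistedG2 K (3 ^ m))) ^ 7 = 1 := by rw [← hxo]; exact pow_orderOf_eq_one _
  have hxS : ∀ s ∈ (S : Subgroup ↥(twistedG2 K (3 ^ m))),
      (x' : ↥(twistedG2 K (3 ^ m))) * s * (x' : ↥(twistedG2 K (3 ^ m)))⁻¹ ∈
        (S : Subgroup ↥(twistedG2 K (3 ^ m))) := by
    intro s hs
    exact (Subgroup.mem_set_normalizer_iff.mp x'.2 s).mp hs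
  obtain ⟨s, hsS, hxs⟩ : ∃ s ∈ (S : Subgroup ↥(twistedG2 K (3 ^ m))),
      (x' : ↥(twistedG2 K (3 ^ m))) * s * (x' : ↥(twistedG2 K (3 ^ m)))⁻¹ ≠ s := by
    by_contra hcon
    push Not at hcon
    have hxC : (x' : ↥(twistedG2 K (3 ^ m))) ∈ Subgroup.centralizer
        ((S : Subgroup ↥(twistedG2 K (3 ^ m))) : Set ↥(twistedG2 K (3 ^ m))) := by
      rw [Subgroup.mem_centralizer_iff]
      intro s hs
      have := hcon s hs
      calc s * (x' : ↥(twistedG2 K (3 ^ m))) =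
          ((x' : ↥(twistedG2 K (3 ^ m))) * s * (x' : ↥(twistedG2 K (3 ^ m)))⁻¹) *
            (x' : ↥(twistedG2 K (3 ^ m))) := by rw [this]
        _ = (x' : ↥(twistedG2 K (3 ^ m))) * s := by group
    rw [hSC] at hxC
    have hd : orderOf (⟨(x' : ↥(twistedG2 K (3 ^ m))), hxC⟩ : ↥(S : Subgroup ↥(twistedG2 K (3 ^ m)))) ∣ 8 := by
      rw [← hScard]; exact orderOf_dvd_natCard _
    rw [← Subgroup.orderOf_coe, Subgroup.coe_mk, hxo] at hd
    omega
  obtain ⟨i, hi⟩ := frob7_transitive (S : Subgroup ↥(twistedG2 K (3 ^ m))) hScard _ hx7 hxS s hsS hxs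
    t htS ht1
  obtain ⟨j, hj⟩ := frob7_transitive (S : Subgroup ↥(twistedG2 K (3 ^ m))) hScard _ hx7 hxS s hsS hxs
    _ hg₁ ha'1
  refine ⟨(x' : ↥(twistedG2 K (3 ^ m))) ^ i * ((x' : ↥(twistedG2 K (3 ^ m))) ^ j)⁻¹ * g₁, ?_⟩
  have hs : s = ((x' : ↥(twistedG2 K (3 ^ m))) ^ j)⁻¹ * (g₁ * a * g₁⁻¹) * (x' : ↥(twistedG2 K (3 ^ m))) ^ j := by
    rw [hj]; group
  rw [hi]
  conv_lhs => rw [hs]
  group

end Ree2

end Cfsg.Agent.Lib.Helper27.ReeCent
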