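/-
helper27: centralizers in the Ree groups `²G₂(q)`, `q = 3^(2m+1)`.
Part E: the centralizer of an element of prime order `p ∣ (q+1)/4` is commutative of order `q+1`.
-/
import Cfsg.Agent.Lib.Helper27.ReeCentD

set_option autoImplicit false

namespace Cfsg.Agent.Lib.Helper27.ReeCent

open Cfsg Cfsg.Lie Matrix Cfsg.Agent.Lib.Helper7

section Ree3

variable {K : Type*} [Field K] [Fintype K] {m : ℕ} (hK : Fintype.card K = 3 ^ (2 * m + 1))
include hK

/-- for an involution `t` and an element `y` of prime order `p ∣ (q+1)/4` commuting with `t`, the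
group `C(t) ∩ C(y)` is commutative of order `q+1` -/
theorem ree_cent_invol_inf (hm : 1 ≤ m) (t y : ↥(twistedG2 K (3 ^ m))) (ht1 : t ≠ 1) (ht2 : t * t = 1)
    (p : ℕ) (hp : p.Prime) (hy : orderOf y = p) (hpd : p ∣ (3 ^ (2 * m + 1) + 1) / 4)
    (hty : t * y = y * t) :
    (∀ u ∈ Subgroup.centralizer ({t} : Set ↥(twistedG2 K (3 ^ m))) ⊓
        Subgroup.centralizer ({y} : Set ↥(twistedG2 K (3 ^ m))),
      ∀ v ∈ Subgroup.centralizer ({t} : Set ↥(twistedG2 K (3 ^ m))) ⊓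
        Subgroup.centralizer ({y} : Set ↥(twistedG2 K (3 ^ m))), u * v = v * u) ∧
      Nat.card ↥(Subgroup.centralizer ({t} : Set ↥(twistedG2 K (3 ^ m))) ⊓
        Subgroup.centralizer ({y} : Set ↥(twistedG2 K (3 ^ m)))) = 3 ^ (2 * m + 1) + 1 := by
  haveI : Fact (Nat.Prime 3) := ⟨Nat.prime_three⟩
  haveI : CharP K 3 := charP3_of_card hK
  obtain ⟨k, hk⟩ := three_pow_mod_eight m
  have h3K : (3 : K) = 0 := by
    have := CharP.cast_eq_zero K 3
    exact_mod_cast this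
  have h2K : (2 : K) ≠ 0 := by
    intro h
    have : (1 : K) = 0 := by linear_combination h3K - h
    exact one_ne_zero this
  have e4 : (8 * k + 3 + 1) / 4 = 2 * k + 1 := by omega
  rw [hk, e4] at hpd
  have h3q : 3 ∣ 8 * k + 3 := by
    rw [← hk, pow_succ]; exact dvd_mul_left 3 _
  have hp2 : p ≠ 2 := by
    rintro rfl
    omega
  have hp3 : p ≠ 3 := by
    rintro rfl
    omega
  have hpq : ¬ p ∣ Fintype.card K - 1 := by
    rw [hK, hk]
    intro h
    have h1 : p ∣ 4 * (2 * k + 1) := dvd_mul_of_dvd_right hpd 4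
    have h2 : p ∣ 4 * (2 * k + 1) - (8 * k + 3 - 1) := Nat.dvd_sub h1 h
    have h4 : 4 * (2 * k + 1) - (8 * k + 3 - 1) = 2 := by omega
    rw [h4] at h2
    exact hp2 ((Nat.prime_dvd_prime_iff_eq hp Nat.prime_two).mp h2)
  -- the torus involution
  obtain ⟨a₀, ha₀H, ha₀1, ha₀2⟩ := ReeSyl.exists_torus_involution hK
  obtain ⟨⟨e⟩, -⟩ := Cfsg.Agent.S1152.result hK a₀ ha₀H ha₀1 ha₀2
  obtain ⟨g, hg⟩ := ree_involution_conj hK hm a₀ t ha₀1 ha₀2 ht1 ht2
  obtain ⟨y', hy'⟩ : ∃ y' : ↥(twistedG2 K (3 ^ m)), y' = g⁻¹ * y * g := ⟨_, rfl⟩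
  have hyy' : y = g * y' * g⁻¹ := by rw [hy']; group
  have hy'ord : orderOf y' = p := by
    have := orderOf_conj' g y'
    rw [← hyy', hy] at this
    exact this.symm
  have hy'C : y' ∈ Subgroup.centralizer ({a₀} : Set ↥(twistedG2 K (3 ^ m))) := by
    rw [mem_cent_singleton, hy']
    have h1 : g * a₀ * g⁻¹ * y = y * (g * a₀ * g⁻¹) := by rw [← hg]; exact hty
    have : g⁻¹ * y * g * a₀ = g⁻¹ * (y * (g * a₀ * g⁻¹)) * g := by group
    rw [this, ← h1]
    group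
  -- reduction to `a₀`, `y'`
  have hmap : Subgroup.centralizer ({t} : Set ↥(twistedG2 K (3 ^ m))) ⊓
      Subgroup.centralizer ({y} : Set ↥(twistedG2 K (3 ^ m))) =
      (Subgroup.centralizer ({a₀} : Set ↥(twistedG2 K (3 ^ m))) ⊓
        Subgroup.centralizer ({y'} : Set ↥(twistedG2 K (3 ^ m)))).map (MulAut.conj g).toMonoidHom := by
    rw [Subgroup.map_inf _ _ _ (MulAut.conj g).injective, ← centralizer_conj, ← centralizer_conj, ← hg,
      ← hyy']
  -- the centralizer inside `C(a₀)`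
  obtain ⟨y₀, hy₀⟩ : ∃ y₀ : ↥(Subgroup.centralizer ({a₀} : Set ↥(twistedG2 K (3 ^ m)))),
      y₀ = ⟨y', hy'C⟩ := ⟨_, rfl⟩
  have hy₀ord : orderOf (e y₀) = p := by
    rw [MulEquiv.orderOf_eq, ← Subgroup.orderOf_coe, hy₀]
    exact hy'ord
  obtain ⟨hcomm, hcard⟩ := prod_centralizer_odd_prime 3 h2K p hp hp2 hp3 hpq (e y₀) hy₀ord
  have hsub := map_centralizer_subtype
    (Subgroup.centralizer ({a₀} : Set ↥(twistedG2 K (3 ^ m)))) y₀
  have hy₀coe : ((y₀ : ↥(Subgroup.centralizer ({a₀} : Set ↥(twistedG2 K (3 ^ m))))) :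
      ↥(twistedG2 K (3 ^ m))) = y' := by rw [hy₀]
  rw [hy₀coe] at hsub
  constructor
  · intro u hu v hv
    rw [hmap] at hu hv
    obtain ⟨u', hu', rfl⟩ := Subgroup.mem_map.mp hu
    obtain ⟨v', hv', rfl⟩ := Subgroup.mem_map.mp hv
    rw [← hsub] at hu' hv'
    obtain ⟨u₀, hu₀, rfl⟩ := Subgroup.mem_map.mp hu'
    obtain ⟨v₀, hv₀, rfl⟩ := Subgroup.mem_map.mp hv'
    have h1 := hcomm (e u₀) ((mem_centralizer_equiv e y₀ u₀).mp hu₀) (e v₀)
      ((mem_centralizer_equiv e y₀ v₀).mp hv₀)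
    rw [← map_mul, ← map_mul] at h1
    have h2 := e.injective h1
    rw [← map_mul, ← map_mul, ← map_mul, ← map_mul, h2]
  · rw [hmap, Subgroup.card_map_of_injective (MulAut.conj g).injective, ← hsub,
      Subgroup.card_map_of_injective (Subgroup.subtype_injective _), card_centralizer_equiv e y₀, hcard, hK]

end Ree3

section Ree4

variable {K : Type*} [Field K] [Fintype K] {m : ℕ} (hK : Fintype.card K = 3 ^ (2 * m + 1))
include hK

/-- the order of the centralizer of the torus involution -/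
theorem card_cent_torus_involution (a₀ : ↥(twistedG2 K (3 ^ m)))
    (ha₀H : (a₀ : GL chevG2.Idx K) ∈ chevG2.diagonalSubgroup K) (ha₀1 : a₀ ≠ 1) (ha₀2 : a₀ * a₀ = 1) :
    Nat.card ↥(Subgroup.centralizer ({a₀} : Set ↥(twistedG2 K (3 ^ m)))) =
      3 ^ (2 * m + 1) * ((3 ^ (2 * m + 1)) ^ 2 - 1) := by
  haveI : Fact (Nat.Prime 3) := ⟨Nat.prime_three⟩
  haveI : CharP K 3 := charP3_of_card hK
  have h3K : (3 : K) = 0 := by
    have := CharP.cast_eq_zero K 3
    exact_mod_cast this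
  have h2K : (2 : K) ≠ 0 := by
    intro h
    have : (1 : K) = 0 := by linear_combination h3K - h
    exact one_ne_zero this
  obtain ⟨⟨e⟩, -⟩ := Cfsg.Agent.S1152.result hK a₀ ha₀H ha₀1 ha₀2
  have hPSL := Cfsg.Agent.Lib.Helper13.card_PSL2_mul_two (F := K) h2K
  rw [Nat.card_congr e.toEquiv, Nat.card_prod]
  have : Nat.card (Multiplicative (ZMod 2)) = 2 := by
    rw [Nat.card_eq_fintype_card]; rfl
  rw [this, mul_comm, hPSL, hK]

/-- an element of prime order `p ∣ (q+1)/4` has commutative centralizer of order `q + 1` -/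
theorem ree_cent_prime_plus (hm : 1 ≤ m) (y : ↥(twistedG2 K (3 ^ m))) (p : ℕ) (hp : p.Prime)
    (hy : orderOf y = p) (hpd : p ∣ (3 ^ (2 * m + 1) + 1) / 4) :
    (∀ a ∈ Subgroup.centralizer ({y} : Set ↥(twistedG2 K (3 ^ m))),
      ∀ b ∈ Subgroup.centralizer ({y} : Set ↥(twistedG2 K (3 ^ m))), a * b = b * a) ∧
      Nat.card ↥(Subgroup.centralizer ({y} : Set ↥(twistedG2 K (3 ^ m)))) = 3 ^ (2 * m + 1) + 1 := by
  haveI : Fact p.Prime := ⟨hp⟩
  haveI : Fact (Nat.Prime 3) := ⟨Nat.prime_three⟩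
  obtain ⟨k, hk⟩ := three_pow_mod_eight m
  have hpd' := hpd
  have e4 : (8 * k + 3 + 1) / 4 = 2 * k + 1 := by omega
  rw [hk, e4] at hpd'
  have h3q : 3 ∣ 8 * k + 3 := by
    rw [← hk, pow_succ]; exact dvd_mul_left 3 _
  have hp2 : p ≠ 2 := by
    rintro rfl
    omega
  have hp3 : p ≠ 3 := by
    rintro rfl
    omega
  have hpq : ¬ p ∣ 8 * k + 3 := by
    intro h
    have h1 : p ∣ 4 * (2 * k + 1) := dvd_mul_of_dvd_right hpd' 4
    have h2 : p ∣ 4 * (2 * k + 1) - (8 * k + 3) := Nat.dvd_sub h1 h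
    have h4 : 4 * (2 * k + 1) - (8 * k + 3) = 1 := by omega
    rw [h4] at h2
    exact hp.one_lt.ne' (Nat.dvd_one.mp h2)
  have hpq1 : ¬ p ∣ 8 * k + 3 - 1 := by
    intro h
    have h1 : p ∣ 4 * (2 * k + 1) := dvd_mul_of_dvd_right hpd' 4
    have h2 : p ∣ 4 * (2 * k + 1) - (8 * k + 3 - 1) := Nat.dvd_sub h1 h
    have h4 : 4 * (2 * k + 1) - (8 * k + 3 - 1) = 2 := by omega
    rw [h4] at h2
    exact hp2 ((Nat.prime_dvd_prime_iff_eq hp Nat.prime_two).mp h2)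
  -- an involution commuting with `y`
  obtain ⟨a₀, ha₀H, ha₀1, ha₀2⟩ := ReeSyl.exists_torus_involution hK
  have hsylG := (Cfsg.Agent.S1152.result hK a₀ ha₀H ha₀1 ha₀2).2
  have hcardG := Cfsg.Agent.S1069.result hK
  have hcardC := card_cent_torus_involution hK a₀ ha₀H ha₀1 ha₀2
  rw [hk] at hcardG hcardC
  have esq : (8 * k + 3) ^ 2 - 1 = 64 * k ^ 2 + 48 * k + 8 := by
    apply Nat.sub_eq_of_eq_add; ring
  have e1 : 8 * k + 3 - 1 = 8 * k + 2 := by omega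
  rw [esq] at hcardC
  rw [e1] at hcardG
  have hcard : Nat.card ↥(twistedG2 K (3 ^ m)) =
      Nat.card ↥(Subgroup.centralizer ({a₀} : Set ↥(twistedG2 K (3 ^ m)))) *
        ((8 * k + 3) ^ 2 * (64 * k ^ 2 + 40 * k + 7)) := by
    rw [hcardG, hcardC]; ring
  have hr : ¬ p ∣ (8 * k + 3) ^ 2 * (64 * k ^ 2 + 40 * k + 7) := by
    intro h
    rcases (Nat.Prime.dvd_mul hp).mp h with h | h
    · exact hpq (hp.dvd_of_dvd_pow h)
    · have h1 : 64 * k ^ 2 + 40 * k + 7 = (2 * k + 1) * (32 * k + 4) + 3 := by ring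
      rw [h1] at h
      have h2 : p ∣ 3 := (Nat.dvd_add_right (dvd_mul_of_dvd_left hpd' _)).mp h
      exact hp3 ((Nat.prime_dvd_prime_iff_eq hp Nat.prime_three).mp h2)
  obtain ⟨g, hg⟩ := exists_conj_mem_of_card_mul p
    (Subgroup.centralizer ({a₀} : Set ↥(twistedG2 K (3 ^ m)))) _ hcard hr y
    (isPGroup_zpowers_of_orderOf p y hy)
  rw [mem_cent_singleton] at hg
  obtain ⟨t₀, ht₀⟩ : ∃ t₀ : ↥(twistedG2 K (3 ^ m)), t₀ = g⁻¹ * a₀ * g := ⟨_, rfl⟩
  have ht₀1 : t₀ ≠ 1 := by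
    intro h
    apply ha₀1
    have : a₀ = g * (g⁻¹ * a₀ * g) * g⁻¹ := by group
    rw [this, ← ht₀, h]
    group
  have ht₀2 : t₀ * t₀ = 1 := by
    rw [ht₀]
    have : g⁻¹ * a₀ * g * (g⁻¹ * a₀ * g) = g⁻¹ * (a₀ * a₀) * g := by group
    rw [this, ha₀2]
    group
  have ht₀y : t₀ * y = y * t₀ := by
    rw [ht₀]
    have h1 : g⁻¹ * a₀ * g * y = g⁻¹ * (a₀ * (g * y * g⁻¹)) * g := by group
    have h2 : y * (g⁻¹ * a₀ * g) = g⁻¹ * (g * y * g⁻¹ * a₀) * g := by group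
    rw [h1, h2, hg]
  -- apply the Klein four theorem to `C(y)`
  obtain ⟨C, hC⟩ : ∃ C : Subgroup ↥(twistedG2 K (3 ^ m)),
      C = Subgroup.centralizer ({y} : Set ↥(twistedG2 K (3 ^ m))) := ⟨_, rfl⟩
  rw [← hC]
  have hyC : y ∈ C := by rw [hC, mem_cent_singleton]
  have hmemC : ∀ x : ↥(twistedG2 K (3 ^ m)), x ∈ C ↔ x * y = y * x := by
    intro x; rw [hC, mem_cent_singleton]
  have key := klein_cent (C := ↥C) (2 * k + 1) ⟨k, rfl⟩ ?_ ?_ ?_ ?_
  · obtain ⟨h1, h2⟩ := key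
    constructor
    · intro a ha b hb
      exact congrArg Subtype.val (h1 ⟨a, ha⟩ ⟨b, hb⟩)
    · rw [h2, hk]; ring
  · -- exponent of the Sylow 2-subgroups
    intro S x hx
    obtain ⟨n, hn⟩ := S.isPGroup' ⟨x, hx⟩
    have hn' : (x : ↥(twistedG2 K (3 ^ m))) ^ (2 ^ n) = 1 := by
      have := congrArg (fun z : ↥(S : Subgroup ↥C) => ((z : ↥C) : ↥(twistedG2 K (3 ^ m)))) hn
      simpa using this
    have := sq_eq_one_of_two_power (fun S => (hsylG S).2) (x : ↥(twistedG2 K (3 ^ m))) n hn'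
    exact Subtype.ext this
  · -- an involution
    refine ⟨⟨t₀, (hmemC t₀).mpr ht₀y⟩, ?_, ?_⟩
    · intro h
      exact ht₀1 (congrArg Subtype.val h)
    · exact Subtype.ext ht₀2
  · -- centralizers of involutions
    intro t ht1 ht2
    have ht1' : (t : ↥(twistedG2 K (3 ^ m))) ≠ 1 := by
      intro h
      exact ht1 (Subtype.ext h)
    have ht2' : (t : ↥(twistedG2 K (3 ^ m))) * (t : ↥(twistedG2 K (3 ^ m))) = 1 :=
      congrArg Subtype.val ht2
    have hty : (t : ↥(twistedG2 K (3 ^ m))) * y = y * (t : ↥(twistedG2 K (3 ^ m))) := (hmemC _).mp t.2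
    obtain ⟨hcomm, hcard'⟩ := ree_cent_invol_inf hK hm (t : ↥(twistedG2 K (3 ^ m))) y ht1' ht2' p hp hy hpd
      hty
    have hsub : (Subgroup.centralizer ({t} : Set ↥C)).map C.subtype =
        Subgroup.centralizer ({(t : ↥(twistedG2 K (3 ^ m)))} : Set ↥(twistedG2 K (3 ^ m))) ⊓
          Subgroup.centralizer ({y} : Set ↥(twistedG2 K (3 ^ m))) := by
      rw [map_centralizer_subtype C t, inf_comm]
      exact congrArg (fun Z => Subgroup.centralizer
        ({(t : ↥(twistedG2 K (3 ^ m)))} : Set ↥(twistedG2 K (3 ^ m))) ⊓ Z) hC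
    constructor
    · intro u hu v hv
      have hu' : (u : ↥(twistedG2 K (3 ^ m))) ∈ (Subgroup.centralizer ({t} : Set ↥C)).map C.subtype :=
        Subgroup.mem_map.mpr ⟨u, hu, rfl⟩
      have hv' : (v : ↥(twistedG2 K (3 ^ m))) ∈ (Subgroup.centralizer ({t} : Set ↥C)).map C.subtype :=
        Subgroup.mem_map.mpr ⟨v, hv, rfl⟩
      rw [hsub] at hu' hv'
      exact Subtype.ext (hcomm _ hu' _ hv')
    · rw [← Subgroup.card_map_of_injective C.subtype_injective, hsub, hcard', hk]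
      ring
  · -- no elements of order 3
    intro h3
    obtain ⟨x, hx⟩ := exists_prime_orderOf_dvd_card' (G := ↥C) 3 h3
    have hxo : orderOf (x : ↥(twistedG2 K (3 ^ m))) = 3 := by rw [Subgroup.orderOf_coe]; exact hx
    have hd := ree_card_cent_three hK (x : ↥(twistedG2 K (3 ^ m))) hxo
    have hyx : y ∈ Subgroup.centralizer ({(x : ↥(twistedG2 K (3 ^ m)))} : Set ↥(twistedG2 K (3 ^ m))) := by
      rw [mem_cent_singleton]
      exact ((hmemC _).mp x.2).symm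
    have hpc : p ∣ Nat.card ↥(Subgroup.centralizer
        ({(x : ↥(twistedG2 K (3 ^ m)))} : Set ↥(twistedG2 K (3 ^ m)))) := by
      have := orderOf_dvd_natCard (⟨y, hyx⟩ : ↥(Subgroup.centralizer
        ({(x : ↥(twistedG2 K (3 ^ m)))} : Set ↥(twistedG2 K (3 ^ m)))))
      rwa [← Subgroup.orderOf_coe, Subgroup.coe_mk, hy] at this
    have := dvd_trans hpc hd
    rw [hk] at this
    rcases (Nat.Prime.dvd_mul hp).mp this with h | h
    · exact hpq1 h
    · exact hpq (hp.dvd_of_dvd_pow h)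

end Ree4

end Cfsg.Agent.Lib.Helper27.ReeCent
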