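/-
helper27: centralizers in the Ree groups `²G₂(q)`, `q = 3^(2m+1)`.
Part F: centralizers of cyclic subgroups of order `(q-1)/2` and `(q+1)/4` (statement S2359).
-/
import Cfsg.Agent.Lib.Helper27.ReeCentE

set_option autoImplicit false

namespace Cfsg.Agent.Lib.Helper27.ReeCent

open Cfsg Cfsg.Lie Matrix Cfsg.Agent.Lib.Helper7

section Ree5

variable {K : Type*} [Field K] [Fintype K] {m : ℕ}

theorem ree_centralizer_cyclic (hm : 1 ≤ m)
    (hK : Fintype.card K = 3 ^ (2 * m + 1)) (H : Subgroup ↥(twistedG2 K (3 ^ m))) (hH : IsCyclic H) :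
    (Nat.card H = (3 ^ (2 * m + 1) - 1) / 2 →
      IsCyclic ↥(Subgroup.centralizer (H : Set ↥(twistedG2 K (3 ^ m)))) ∧
        Nat.card ↥(Subgroup.centralizer (H : Set ↥(twistedG2 K (3 ^ m)))) = 3 ^ (2 * m + 1) - 1 ∧
        ∀ A : Subgroup ↥(twistedG2 K (3 ^ m)), A ≤ H → A ≠ ⊥ →
          Subgroup.centralizer (A : Set ↥(twistedG2 K (3 ^ m))) =
            Subgroup.centralizer (H : Set ↥(twistedG2 K (3 ^ m)))) ∧
    (Nat.card H = (3 ^ (2 * m + 1) + 1) / 4 →
      IsMulCommutative ↥(Subgroup.centralizer (H : Set ↥(twistedG2 K (3 ^ m)))) ∧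
        Nat.card ↥(Subgroup.centralizer (H : Set ↥(twistedG2 K (3 ^ m)))) = 3 ^ (2 * m + 1) + 1 ∧
        (∀ x ∈ Subgroup.centralizer (H : Set ↥(twistedG2 K (3 ^ m))), orderOf x ≠ 4) ∧
        ∀ A : Subgroup ↥(twistedG2 K (3 ^ m)), A ≤ H → A ≠ ⊥ →
          Subgroup.centralizer (A : Set ↥(twistedG2 K (3 ^ m))) =
            Subgroup.centralizer (H : Set ↥(twistedG2 K (3 ^ m)))) := by
  obtain ⟨k, hk⟩ := three_pow_mod_eight m
  have hk3 : 3 ≤ k := by
    have h27 : 3 ^ 3 ≤ 3 ^ (2 * m + 1) := Nat.pow_le_pow_right (by norm_num) (by omega)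
    rw [hk] at h27
    omega
  have hHcomm : ∀ a ∈ H, ∀ b ∈ H, a * b = b * a := by
    intro a ha b hb
    have hmc : IsMulCommutative ↥H := IsCyclic.isMulCommutative
    exact congrArg Subtype.val (hmc.is_comm.comm (⟨a, ha⟩ : ↥H) ⟨b, hb⟩)
  have hdvd : ∀ y ∈ H, orderOf y ∣ Nat.card H := by
    intro y hy
    have := orderOf_dvd_natCard (⟨y, hy⟩ : ↥H)
    rwa [← Subgroup.orderOf_coe, Subgroup.coe_mk] at this
  constructor
  · intro hcard
    have hH1 : H ≠ ⊥ := by
      intro h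
      rw [h, Subgroup.card_bot, hk] at hcard
      omega
    have hcent : ∀ y ∈ H, (orderOf y).Prime →
        ∀ a ∈ Subgroup.centralizer ({y} : Set ↥(twistedG2 K (3 ^ m))),
          ∀ b ∈ Subgroup.centralizer ({y} : Set ↥(twistedG2 K (3 ^ m))), a * b = b * a := by
      intro y hy hp a ha b hb
      have hd := hdvd y hy
      rw [hcard] at hd
      obtain ⟨hcyc, -⟩ := ree_cent_prime_torus hK y _ hp rfl hd
      have hmc : IsMulCommutative ↥(Subgroup.centralizer ({y} : Set ↥(twistedG2 K (3 ^ m)))) :=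
        IsCyclic.isMulCommutative
      exact congrArg Subtype.val (hmc.is_comm.comm
        (⟨a, ha⟩ : ↥(Subgroup.centralizer ({y} : Set ↥(twistedG2 K (3 ^ m))))) ⟨b, hb⟩)
    obtain ⟨y, hyH, hyp, -, hCH⟩ := centralizer_eq_of_prime_elements H hHcomm hcent H le_rfl hH1
    have hd := hdvd y hyH
    rw [hcard] at hd
    obtain ⟨hcyc, hcardC⟩ := ree_cent_prime_torus hK y _ hyp rfl hd
    refine ⟨by rw [hCH]; exact hcyc, by rw [hCH]; exact hcardC, ?_⟩
    intro A hA hA1
    obtain ⟨z, -, -, hCA, hCH'⟩ := centralizer_eq_of_prime_elements H hHcomm hcent A hA hA1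
    rw [hCA, hCH']
  · intro hcard
    have hH1 : H ≠ ⊥ := by
      intro h
      rw [h, Subgroup.card_bot, hk] at hcard
      omega
    have hcent : ∀ y ∈ H, (orderOf y).Prime →
        ∀ a ∈ Subgroup.centralizer ({y} : Set ↥(twistedG2 K (3 ^ m))),
          ∀ b ∈ Subgroup.centralizer ({y} : Set ↥(twistedG2 K (3 ^ m))), a * b = b * a := by
      intro y hy hp
      have hd := hdvd y hy
      rw [hcard] at hd
      exact (ree_cent_prime_plus hK hm y _ hp rfl hd).1
    obtain ⟨y, hyH, hyp, -, hCH⟩ := centralizer_eq_of_prime_elements H hHcomm hcent H le_rfl hH1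
    have hd := hdvd y hyH
    rw [hcard] at hd
    obtain ⟨hcomm, hcardC⟩ := ree_cent_prime_plus hK hm y _ hyp rfl hd
    refine ⟨?_, by rw [hCH]; exact hcardC, ?_, ?_⟩
    · rw [hCH]
      exact ⟨⟨fun a b => Subtype.ext (hcomm _ a.2 _ b.2)⟩⟩
    · intro x _ hx4
      obtain ⟨a₀, ha₀H, ha₀1, ha₀2⟩ := ReeSyl.exists_torus_involution hK
      have hsylG := (Cfsg.Agent.S1152.result hK a₀ ha₀H ha₀1 ha₀2).2
      have h1 : x ^ (2 ^ 2) = 1 := by
        have := pow_orderOf_eq_one x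
        rw [hx4] at this
        exact this
      have h2 := sq_eq_one_of_two_power (fun S => (hsylG S).2) x 2 h1
      have h3 : orderOf x ∣ 2 := orderOf_dvd_of_pow_eq_one (by rw [pow_two]; exact h2)
      rw [hx4] at h3
      omega
    · intro A hA hA1
      obtain ⟨z, -, -, hCA, hCH'⟩ := centralizer_eq_of_prime_elements H hHcomm hcent A hA hA1
      rw [hCA, hCH']

end Ree5

end Cfsg.Agent.Lib.Helper27.ReeCent
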