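/-
helper27: the commutant of an endomorphism `T` of prime order `p` of a vector space of dimension
`e + 1` over `F_q`, where `e ≥ 2` is the order of `q` modulo `p` and `T` has a one-dimensional fixed
space, is commutative (`T` has a cyclic vector, so the commutant is `K[T]`).
Pure linear algebra.
-/
import Mathlib

set_option autoImplicit false

namespace Cfsg.Agent.Lib.Helper27.ReeCent

open Module Polynomial

section Commutant

variable {K V : Type*} [Field K] [Fintype K] [AddCommGroup V] [Module K V] [Module.Finite K V]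

/-- counting fixed points of an endomorphism with `S ^ p = 1` -/
theorem card_modEq_ker_sub_one {p : ℕ} [Fact p.Prime] (S : Module.End K V) (hS : S ^ p = 1) :
    Fintype.card K ^ Module.finrank K V ≡
      Fintype.card K ^ Module.finrank K (LinearMap.ker (S - 1)) [MOD p] := by
  classical
  have hfin : Finite V := Module.finite_of_finite K
  have : Fintype V := Fintype.ofFinite V
  let f : Function.End V := fun v => S v
  have hf : f ^ p ^ 1 = 1 := by
    funext v
    show (⇑S)^[p ^ 1] v = v
    rw [pow_one, ← Module.End.coe_pow, hS]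
    rfl
  have h1 := Equiv.Perm.card_fixedPoints_modEq (f := f) hf
  have h2 : Fintype.card (Function.fixedPoints f) = Fintype.card (LinearMap.ker (S - 1)) := by
    apply Fintype.card_congr
    refine Equiv.subtypeEquivRight ?_
    intro v
    rw [LinearMap.mem_ker, LinearMap.sub_apply, sub_eq_zero]
    rfl
  rw [h2, Module.card_eq_pow_finrank (K := K) (V := V),
    Module.card_eq_pow_finrank (K := K) (V := LinearMap.ker (S - 1))] at h1
  exact h1

variable (T : Module.End K V)

/-- the cyclic submodule `K[T] v` -/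
noncomputable def cycSub (v : V) : Submodule K V :=
  LinearMap.range ((LinearMap.applyₗ v).comp (Polynomial.aeval T).toLinearMap)

omit [Fintype K] [Module.Finite K V] in
theorem mem_cycSub (v u : V) : u ∈ cycSub T v ↔ ∃ b : K[X], (Polynomial.aeval T b) v = u := by
  rw [cycSub, LinearMap.mem_range]
  rfl

omit [Fintype K] [Module.Finite K V] in
theorem self_mem_cycSub (v : V) : v ∈ cycSub T v := by
  rw [mem_cycSub]
  exact ⟨1, by simp⟩

omit [Fintype K] [Module.Finite K V] in
theorem cycSub_invariant (v : V) : ∀ u ∈ cycSub T v, T u ∈ cycSub T v := by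
  intro u hu
  rw [mem_cycSub] at hu ⊢
  obtain ⟨b, rfl⟩ := hu
  refine ⟨X * b, ?_⟩
  rw [map_mul, Polynomial.aeval_X, Module.End.mul_apply]

variable {T} {p : ℕ} [Fact p.Prime] {e : ℕ}

/-- classification of the `T`-invariant subspaces -/
theorem invariant_cases (hT : T ^ p = 1) (he : 2 ≤ e) (hfr : Module.finrank K V = e + 1)
    (hord : orderOf ((Fintype.card K : ℕ) : ZMod p) = e)
    (hF : Module.finrank K (LinearMap.ker (T - 1)) = 1)
    (U : Submodule K V) (hU : ∀ u ∈ U, T u ∈ U) :
    U ≤ LinearMap.ker (T - 1) ∨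
      (Module.finrank K U = e ∧ U ⊓ LinearMap.ker (T - 1) = ⊥) ∨ U = ⊤ := by
  set S : Module.End K U := T.restrict hU with hSdef
  have hS : S ^ p = 1 := by
    rw [hSdef, Module.End.pow_restrict]
    ext u
    rw [LinearMap.restrict_apply]
    simp [hT]
  have hcount := card_modEq_ker_sub_one S hS
  set FU : Submodule K U := LinearMap.ker (S - 1) with hFU
  have hmemFU : ∀ u : U, u ∈ FU ↔ T (u : V) = (u : V) := by
    intro u
    rw [hFU, LinearMap.mem_ker, LinearMap.sub_apply, sub_eq_zero]
    constructor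
    · intro h
      have := congrArg Subtype.val h
      simpa [hSdef] using this
    · intro h
      apply Subtype.ext
      simpa [hSdef] using h
  set c := Module.finrank K FU with hc
  set n := Module.finrank K U with hn
  have hcn : c ≤ n := Submodule.finrank_le FU
  have hn' : n ≤ e + 1 := hfr ▸ Submodule.finrank_le U
  have hc1 : c ≤ 1 := by
    have h1 : FU.map U.subtype ≤ LinearMap.ker (T - 1) := by
      rintro _ ⟨u, hu, rfl⟩
      rw [LinearMap.mem_ker, LinearMap.sub_apply, sub_eq_zero]
      exact (hmemFU u).1 hu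
    have h2 := Submodule.finrank_mono h1
    rw [hF] at h2
    have h3 : Module.finrank K (FU.map U.subtype) = c :=
      (Submodule.equivSubtypeMap U FU).symm.finrank_eq
    omega
  -- the congruence
  have hq0 : ((Fintype.card K : ℕ) : ZMod p) ≠ 0 := by
    intro h0
    have h1 := pow_orderOf_eq_one ((Fintype.card K : ℕ) : ZMod p)
    rw [hord, h0, zero_pow (by omega)] at h1
    exact zero_ne_one h1
  have h2 := (ZMod.natCast_eq_natCast_iff _ _ _).2 hcount
  push_cast at h2
  have h3 : ((Fintype.card K : ℕ) : ZMod p) ^ (n - c) = 1 := by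
    have h4 : ((Fintype.card K : ℕ) : ZMod p) ^ c * ((Fintype.card K : ℕ) : ZMod p) ^ (n - c) =
        ((Fintype.card K : ℕ) : ZMod p) ^ c * 1 := by
      rw [← pow_add, mul_one, ← h2]
      congr 1
      omega
    exact mul_left_cancel₀ (pow_ne_zero _ hq0) h4
  have h5 := orderOf_dvd_of_pow_eq_one h3
  rw [hord] at h5
  obtain ⟨t, ht⟩ := h5
  have ht' : t = 0 ∨ t = 1 := by
    rcases t with _ | _ | t
    · left; rfl
    · right; rfl
    · exfalso
      have : e * (t + 1 + 1) = e * t + 2 * e := by ring
      omega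
  rcases ht' with rfl | rfl
  · -- `n = c`: everything is fixed
    left
    have hnc : c = n := by omega
    have htop : FU = ⊤ := Submodule.eq_top_of_finrank_eq hnc
    intro u hu
    rw [LinearMap.mem_ker, LinearMap.sub_apply, sub_eq_zero]
    have : (⟨u, hu⟩ : U) ∈ FU := htop ▸ Submodule.mem_top
    exact (hmemFU ⟨u, hu⟩).1 this
  · right
    rcases Nat.eq_zero_or_pos c with hc0 | hcpos
    · left
      refine ⟨by omega, ?_⟩
      have hbot : FU = ⊥ := Submodule.finrank_eq_zero.1 hc0
      rw [eq_bot_iff]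
      rintro x ⟨hxU, hxF⟩
      have hxF' : T x = x := by
        rw [SetLike.mem_coe, LinearMap.mem_ker, LinearMap.sub_apply, sub_eq_zero] at hxF
        exact hxF
      have : (⟨x, hxU⟩ : U) ∈ FU := (hmemFU ⟨x, hxU⟩).2 hxF'
      rw [hbot, Submodule.mem_bot] at this
      exact congrArg Subtype.val this
    · right
      apply Submodule.eq_top_of_finrank_eq
      omega

/-- two `T`-invariant subspaces of dimension `e` coincide -/
theorem invariant_unique (hT : T ^ p = 1) (he : 2 ≤ e) (hfr : Module.finrank K V = e + 1)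
    (hord : orderOf ((Fintype.card K : ℕ) : ZMod p) = e)
    (hF : Module.finrank K (LinearMap.ker (T - 1)) = 1)
    (U₁ U₂ : Submodule K V) (hU₁ : ∀ u ∈ U₁, T u ∈ U₁) (hU₂ : ∀ u ∈ U₂, T u ∈ U₂)
    (h₁ : Module.finrank K U₁ = e) (h₂ : Module.finrank K U₂ = e)
    (hb₁ : U₁ ⊓ LinearMap.ker (T - 1) = ⊥) : U₁ = U₂ := by
  have hinv : ∀ u ∈ U₁ ⊓ U₂, T u ∈ U₁ ⊓ U₂ := fun u hu => ⟨hU₁ u hu.1, hU₂ u hu.2⟩
  have hdim := Submodule.finrank_sup_add_finrank_inf_eq U₁ U₂
  have hsup : Module.finrank K ↥(U₁ ⊔ U₂) ≤ e + 1 := hfr ▸ Submodule.finrank_le _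
  have hinf : e - 1 ≤ Module.finrank K ↥(U₁ ⊓ U₂) := by omega
  rcases invariant_cases hT he hfr hord hF (U₁ ⊓ U₂) hinv with h | h | h
  · exfalso
    have h1 : U₁ ⊓ U₂ ≤ U₁ ⊓ LinearMap.ker (T - 1) := le_inf inf_le_left h
    rw [hb₁, le_bot_iff] at h1
    rw [h1, finrank_bot] at hinf
    omega
  · have e1 : U₁ ⊓ U₂ = U₁ := Submodule.eq_of_le_of_finrank_eq inf_le_left (h.1.trans h₁.symm)
    have e2 : U₁ ⊓ U₂ = U₂ := Submodule.eq_of_le_of_finrank_eq inf_le_right (h.1.trans h₂.symm)
    rw [← e1]
    exact e2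
  · exfalso
    have h1 : U₁ = ⊤ := by
      rw [eq_top_iff, ← h]
      exact inf_le_left
    rw [h1, finrank_top, hfr] at h₁
    omega

/-- `T` has a cyclic vector -/
theorem exists_cyclic_vector (hT : T ^ p = 1) (he : 2 ≤ e) (hfr : Module.finrank K V = e + 1)
    (hord : orderOf ((Fintype.card K : ℕ) : ZMod p) = e)
    (hF : Module.finrank K (LinearMap.ker (T - 1)) = 1) :
    ∃ v : V, cycSub T v = ⊤ := by
  have hFtop : LinearMap.ker (T - 1) ≠ ⊤ := by
    intro h
    rw [h, finrank_top, hfr] at hF
    omega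
  -- a proper subspace containing all invariant `e`-dimensional ones
  obtain ⟨W, hWtop, hW⟩ : ∃ W : Submodule K V, W ≠ ⊤ ∧
      ∀ U : Submodule K V, (∀ u ∈ U, T u ∈ U) → Module.finrank K U = e →
        U ⊓ LinearMap.ker (T - 1) = ⊥ → U = W := by
    by_cases hex : ∃ U : Submodule K V, (∀ u ∈ U, T u ∈ U) ∧ Module.finrank K U = e ∧
        U ⊓ LinearMap.ker (T - 1) = ⊥
    · obtain ⟨W, hW1, hW2, hW3⟩ := hex
      refine ⟨W, ?_, ?_⟩
      · intro h
        rw [h, finrank_top, hfr] at hW2
        omega
      · intro U hU1 hU2 hU3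
        exact invariant_unique hT he hfr hord hF U W hU1 hW1 hU2 hW2 hU3
    · refine ⟨⊥, ?_, ?_⟩
      · intro h
        have : Module.finrank K (⊥ : Submodule K V) = e + 1 := by rw [h, finrank_top, hfr]
        rw [finrank_bot] at this
        omega
      · intro U hU1 hU2 hU3
        exact absurd ⟨U, hU1, hU2, hU3⟩ hex
  -- a vector outside both
  obtain ⟨v, hvF, hvW⟩ : ∃ v : V, v ∉ LinearMap.ker (T - 1) ∧ v ∉ W := by
    obtain ⟨a, ha⟩ : ∃ a : V, a ∉ LinearMap.ker (T - 1) := by
      by_contra hcon
      push Not at hcon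
      exact hFtop (eq_top_iff.2 fun x _ => hcon x)
    obtain ⟨b, hb⟩ : ∃ b : V, b ∉ W := by
      by_contra hcon
      push Not at hcon
      exact hWtop (eq_top_iff.2 fun x _ => hcon x)
    by_cases haW : a ∈ W
    · by_cases hbF : b ∈ LinearMap.ker (T - 1)
      · refine ⟨a + b, ?_, ?_⟩
        · intro h
          exact ha (by simpa using Submodule.sub_mem _ h hbF)
        · intro h
          exact hb (by simpa using Submodule.sub_mem _ h haW)
      · exact ⟨b, hbF, hb⟩
    · exact ⟨a, ha, haW⟩
  refine ⟨v, ?_⟩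
  rcases invariant_cases hT he hfr hord hF (cycSub T v) (cycSub_invariant T v) with h | h | h
  · exact absurd (h (self_mem_cycSub T v)) hvF
  · exfalso
    have := hW _ (cycSub_invariant T v) h.1 h.2
    exact hvW (this ▸ self_mem_cycSub T v)
  · exact h

omit [Fintype K] [Module.Finite K V] in
/-- an endomorphism commuting with `T` commutes with the polynomials in `T` -/
theorem commute_aeval (g : Module.End K V) (hg : Commute g T) (b : K[X]) :
    Commute g (Polynomial.aeval T b) := by
  have h1 : T ∈ Subalgebra.centralizer K ({g} : Set (Module.End K V)) := by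
    rw [Subalgebra.mem_centralizer_iff]
    intro x hx
    rw [Set.mem_singleton_iff] at hx
    subst hx
    exact hg.eq
  have h2 : Polynomial.aeval T b ∈ Algebra.adjoin K ({T} : Set (Module.End K V)) :=
    Polynomial.aeval_mem_adjoin_singleton K T
  have h3 : Algebra.adjoin K ({T} : Set (Module.End K V)) ≤
      Subalgebra.centralizer K ({g} : Set (Module.End K V)) :=
    Algebra.adjoin_le (Set.singleton_subset_iff.2 h1)
  have h4 := h3 h2
  rw [Subalgebra.mem_centralizer_iff] at h4
  exact h4 g (Set.mem_singleton g)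

omit [Fintype K] [Module.Finite K V] in
/-- an endomorphism commuting with `T` is a polynomial in `T`, if `T` has a cyclic vector -/
theorem eq_aeval_of_cyclic (v : V) (hv : cycSub T v = ⊤) (g : Module.End K V) (hg : Commute g T) :
    ∃ a : K[X], g = Polynomial.aeval T a := by
  have h1 : g v ∈ cycSub T v := hv ▸ Submodule.mem_top
  rw [mem_cycSub] at h1
  obtain ⟨a, ha⟩ := h1
  refine ⟨a, ?_⟩
  ext u
  have h2 : u ∈ cycSub T v := hv ▸ Submodule.mem_top
  rw [mem_cycSub] at h2
  obtain ⟨c, rfl⟩ := h2
  have h3 := commute_aeval g hg c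
  calc g ((Polynomial.aeval T c) v) = (g * Polynomial.aeval T c) v := rfl
    _ = (Polynomial.aeval T c * g) v := by rw [h3.eq]
    _ = (Polynomial.aeval T c) (g v) := rfl
    _ = (Polynomial.aeval T c) ((Polynomial.aeval T a) v) := by rw [ha]
    _ = (Polynomial.aeval T c * Polynomial.aeval T a) v := rfl
    _ = (Polynomial.aeval T a * Polynomial.aeval T c) v := by
        rw [← map_mul, ← map_mul, mul_comm]
    _ = (Polynomial.aeval T a) ((Polynomial.aeval T c) v) := rfl

/-- **the commutant of `T` is commutative** -/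
theorem commute_of_commute_prime_order (hT : T ^ p = 1) (he : 2 ≤ e)
    (hfr : Module.finrank K V = e + 1)
    (hord : orderOf ((Fintype.card K : ℕ) : ZMod p) = e)
    (hF : Module.finrank K (LinearMap.ker (T - 1)) = 1)
    (g h : Module.End K V) (hg : Commute g T) (hh : Commute h T) : g * h = h * g := by
  obtain ⟨v, hv⟩ := exists_cyclic_vector hT he hfr hord hF
  obtain ⟨a, rfl⟩ := eq_aeval_of_cyclic v hv g hg
  obtain ⟨b, rfl⟩ := eq_aeval_of_cyclic v hv h hh
  rw [← map_mul, ← map_mul, mul_comm]

end Commutant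

end Cfsg.Agent.Lib.Helper27.ReeCent
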