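/-
helper27: centralizers in the Ree groups `²G₂(q)`, `q = 3^(2m+1)`.
Part I: the centralizer of an element of prime order `p ∣ q² - q + 1` is commutative (7-dimensional
module), and cyclic subgroups of order `d` dividing `(q-1)/2`, `(q+1)/4`, `q - r + 1` or `q + r + 1`
(`r = 3^(m+1)`) are conjugate (statement S2358).
-/
import Cfsg.Agent.Lib.Helper27.ReeCentF
import Cfsg.Agent.Lib.Helper27.ReeCentG
import Cfsg.Agent.Lib.Helper27.ReeCentH
import Cfsg.Agent.Lib.Helper13.ReeCycC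

set_option autoImplicit false

namespace Cfsg.Agent.Lib.Helper27.ReeCent

open Cfsg Cfsg.Lie Matrix Cfsg.Agent.Lib.Helper7

section NumberTheory

/-- `(q - r + 1)(q + r + 1) = q² - q + 1` -/
theorem ree_pi_factor (m : ℕ) :
    (3 ^ (2 * m + 1) - 3 ^ (m + 1) + 1) * (3 ^ (2 * m + 1) + 3 ^ (m + 1) + 1) =
      (3 ^ (2 * m + 1)) ^ 2 - 3 ^ (2 * m + 1) + 1 := by
  have h1 : 3 ^ (m + 1) ≤ 3 ^ (2 * m + 1) := Nat.pow_le_pow_right (by norm_num) (by omega)
  have h2 : 3 ^ (2 * m + 1) ≤ (3 ^ (2 * m + 1)) ^ 2 := by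
    have : 1 ≤ 3 ^ (2 * m + 1) := Nat.one_le_pow _ _ (by norm_num)
    nlinarith
  have e1 : (3 : ℤ) ^ (2 * m + 1) = 3 * ((3 : ℤ) ^ m) ^ 2 := by ring
  have e2 : (3 : ℤ) ^ (m + 1) = 3 * (3 : ℤ) ^ m := by ring
  zify [h1, h2]
  rw [e1, e2]
  ring

/-- the prime divisors of the four torus orders are greater than `3` -/
theorem ree_prime_gt_three (m d s : ℕ) (hs : s.Prime) (hsd : s ∣ d)
    (hd : d ∣ (3 ^ (2 * m + 1) - 1) / 2 ∨ d ∣ (3 ^ (2 * m + 1) + 1) / 4 ∨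
      d ∣ 3 ^ (2 * m + 1) - 3 ^ (m + 1) + 1 ∨ d ∣ 3 ^ (2 * m + 1) + 3 ^ (m + 1) + 1) : 3 < s := by
  obtain ⟨k, hk⟩ := three_pow_mod_eight m
  have h1 : 3 ^ (m + 1) ≤ 3 ^ (2 * m + 1) := Nat.pow_le_pow_right (by norm_num) (by omega)
  obtain ⟨j, hj⟩ : ∃ j, 3 ^ (2 * m + 1) = 3 * j := ⟨3 ^ (2 * m), by ring⟩
  obtain ⟨r', hr'⟩ : ∃ r', 3 ^ (m + 1) = 3 * r' := ⟨3 ^ m, by ring⟩
  obtain ⟨b, hb⟩ : ∃ b, 3 ^ (m + 1) = 2 * b + 1 := by
    have : Odd (3 ^ (m + 1)) := Odd.pow (by decide)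
    obtain ⟨b, hb⟩ := this
    exact ⟨b, hb⟩
  by_contra hcon
  have hs2 := hs.two_le
  have hs' : s = 2 ∨ s = 3 := by omega
  have key : ∀ N : ℕ, d ∣ N → ¬ 2 ∣ N → ¬ 3 ∣ N → False := by
    intro N hN h2 h3
    rcases hs' with rfl | rfl
    · exact h2 (dvd_trans hsd hN)
    · exact h3 (dvd_trans hsd hN)
  rcases hd with h | h | h | h
  · exact key _ h (by omega) (by omega)
  · exact key _ h (by omega) (by omega)
  · exact key _ h (by omega) (by omega)
  · exact key _ h (by omega) (by omega)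

end NumberTheory

section Ree6

variable {K : Type*} [Field K] [Fintype K] {m : ℕ} (hK : Fintype.card K = 3 ^ (2 * m + 1))
include hK

/-- the centralizer of an element of prime order `p ∣ q² - q + 1`, `p > 3`, is commutative -/
theorem ree_cent_prime_pi_comm (y : ↥(twistedG2 K (3 ^ m))) (p : ℕ) (hp : p.Prime) (hp3 : 3 < p)
    (hy : orderOf y = p) (hpd : p ∣ (3 ^ (2 * m + 1)) ^ 2 - 3 ^ (2 * m + 1) + 1) :
    ∀ a ∈ Subgroup.centralizer ({y} : Set ↥(twistedG2 K (3 ^ m))),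
      ∀ b ∈ Subgroup.centralizer ({y} : Set ↥(twistedG2 K (3 ^ m))), a * b = b * a := by
  have : Fact p.Prime := ⟨hp⟩
  have : CharP K 3 := charP3_of_card hK
  have hle := Cfsg.Agent.Lib.Helper13.ReeCyc.twistedG2_le_group hK
  let ψ : ↥(chevG2.group K) →* Matrix (Fin 7) (Fin 7) K :=
    psiI chevG2 mem_G2 K iI_G2 iQ_G2 bij_G2 (blkC_x_G2 K)
  let toL : Matrix (Fin 7) (Fin 7) K →* Module.End K (Fin 7 → K) :=
    ((Matrix.toLinAlgEquiv' : Matrix (Fin 7) (Fin 7) K ≃ₐ[K] Module.End K (Fin 7 → K)) :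
      Matrix (Fin 7) (Fin 7) K →* Module.End K (Fin 7 → K))
  let ρ : ↥(twistedG2 K (3 ^ m)) →* Module.End K (Fin 7 → K) :=
    toL.comp (ψ.comp (Subgroup.inclusion hle))
  have hρ : Function.Injective ρ := by
    intro x z hxz
    have h1 : ψ (Subgroup.inclusion hle x) = ψ (Subgroup.inclusion hle z) :=
      (Matrix.toLinAlgEquiv' : Matrix (Fin 7) (Fin 7) K ≃ₐ[K] Module.End K (Fin 7 → K)).injective hxz
    have h2 := psiI_G2_injective K h1
    exact Subgroup.inclusion_injective hle h2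
  have hord : orderOf ((Fintype.card K : ℕ) : ZMod p) = 6 := by
    rw [hK]
    exact Cfsg.Agent.Lib.Helper13.ReeCyc.orderOf_six hp3 _ hpd
  have hfr : Module.finrank K (Fin 7 → K) = 6 + 1 := by rw [Module.finrank_fin_fun]
  have hy1 : y ≠ 1 := by
    rintro rfl
    rw [orderOf_one] at hy
    exact hp.one_lt.ne hy
  have hyp : y ^ p ^ 1 = 1 := by rw [pow_one, ← hy, pow_orderOf_eq_one]
  have hF : Module.finrank K (LinearMap.ker (ρ y - 1)) = 1 :=
    Cfsg.Agent.Lib.Helper13.ReeCyc.finrank_fixSp_eq_one ρ hρ (by norm_num) hfr hord y hy1 1 hyp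
  have hT : ρ y ^ p = 1 := by
    rw [← map_pow, ← hy, pow_orderOf_eq_one, map_one]
  intro a ha b hb
  rw [mem_cent_singleton] at ha hb
  have hca : Commute (ρ a) (ρ y) := by
    show ρ a * ρ y = ρ y * ρ a
    rw [← map_mul, ← map_mul, ha]
  have hcb : Commute (ρ b) (ρ y) := by
    show ρ b * ρ y = ρ y * ρ b
    rw [← map_mul, ← map_mul, hb]
  have := commute_of_commute_prime_order hT (by norm_num) hfr hord hF (ρ a) (ρ b) hca hcb
  apply hρ
  rw [map_mul, map_mul, this]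

/-- **S2358**: cyclic subgroups of order `d` dividing one of the four torus orders are conjugate -/
theorem ree_cyclic_conj (hm : 1 ≤ m) (d : ℕ)
    (hd : d ∣ (3 ^ (2 * m + 1) - 1) / 2 ∨ d ∣ (3 ^ (2 * m + 1) + 1) / 4 ∨
      d ∣ 3 ^ (2 * m + 1) - 3 ^ (m + 1) + 1 ∨ d ∣ 3 ^ (2 * m + 1) + 3 ^ (m + 1) + 1)
    (A B : Subgroup ↥(twistedG2 K (3 ^ m))) (hA : IsCyclic A) (hB : IsCyclic B)
    (hAd : Nat.card A = d) (hBd : Nat.card B = d) :
    ∃ g : ↥(twistedG2 K (3 ^ m)), B = A.map (MulAut.conj g).toMonoidHom := by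
  apply exists_conj_of_cyclic d ?_ ?_ A B hA hB hAd hBd
  · intro s hs hsd Q hQ
    have h3 : 3 < s := ree_prime_gt_three m d s hs hsd hd
    have : Fact s.Prime := ⟨hs⟩
    exact isCyclic_of_isPGroup_of_sylow
      (fun S => Cfsg.Agent.Lib.Helper13.ReeCyc.ree_sylow_cyclic hK h3 S) Q hQ
  · intro y p hp hpd hy
    have h3 : 3 < p := ree_prime_gt_three m d p hp hpd hd
    rcases hd with h | h | h | h
    · obtain ⟨hcyc, -⟩ := ree_cent_prime_torus hK y p hp hy (dvd_trans hpd h)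
      intro a ha b hb
      have hmc : IsMulCommutative ↥(Subgroup.centralizer ({y} : Set ↥(twistedG2 K (3 ^ m)))) :=
        IsCyclic.isMulCommutative
      exact congrArg Subtype.val (hmc.is_comm.comm
        (⟨a, ha⟩ : ↥(Subgroup.centralizer ({y} : Set ↥(twistedG2 K (3 ^ m))))) ⟨b, hb⟩)
    · exact (ree_cent_prime_plus hK hm y p hp hy (dvd_trans hpd h)).1
    · exact ree_cent_prime_pi_comm hK y p hp h3 hy
        (dvd_trans (dvd_trans hpd h) (Dvd.intro _ (ree_pi_factor m)))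
    · exact ree_cent_prime_pi_comm hK y p hp h3 hy
        (dvd_trans (dvd_trans hpd h) (Dvd.intro_left _ (ree_pi_factor m)))

end Ree6

end Cfsg.Agent.Lib.Helper27.ReeCent
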