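/-
helper27: centralizers in the Ree groups `²G₂(q)`, `q = 3^(2m+1)`.
Part J: the centralizer of an element of prime order `p ∣ q² - q + 1` is cyclic of order dividing
`q² - q + 1`.
-/
import Cfsg.Agent.Lib.Helper27.ReeCentI

set_option autoImplicit false

namespace Cfsg.Agent.Lib.Helper27.ReeCent

open Cfsg Cfsg.Lie Matrix Cfsg.Agent.Lib.Helper7

section GeneralJ

variable {G : Type*} [Group G] [Finite G]

/-- a commutative subgroup `C` is cyclic if the `s`-subgroups of `G` are cyclic for all primes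
`s ∣ |C|` -/
theorem isCyclic_of_comm_of_cyclic_sylow (C : Subgroup G) (hC : ∀ a ∈ C, ∀ b ∈ C, a * b = b * a)
    (hsyl : ∀ s : ℕ, s.Prime → s ∣ Nat.card C → ∀ Q : Subgroup G, IsPGroup s Q → IsCyclic Q) :
    IsCyclic C := by
  let _inst : CommGroup ↥C :=
    { (inferInstance : Group ↥C) with mul_comm := fun a b => Subtype.ext (hC a a.2 b b.2) }
  rw [IsCyclic.iff_exponent_eq_card]
  apply Nat.dvd_antisymm Group.exponent_dvd_nat_card
  have hd : Monoid.exponent ↥C ≠ 0 := Monoid.exponent_ne_zero_of_finite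
  apply card_dvd_of_exponent_of_cyclic _ hd ?_ C ?_
  · intro s hs hsd
    exact hsyl s hs (dvd_trans hsd Group.exponent_dvd_nat_card)
  · intro x hx
    have h1 := Monoid.pow_exponent_eq_one (⟨x, hx⟩ : ↥C)
    have h2 := congrArg Subtype.val h1
    simpa using h2

end GeneralJ

section ArithJ

theorem not_dvd_of_dvd_pi (q p : ℕ) (hq : 2 ≤ q) (hp : p.Prime) (hp3 : p ≠ 3)
    (hN : p ∣ q ^ 2 - q + 1) : ¬ p ∣ q ^ 3 * (q ^ 2 - 1) := by
  obtain ⟨j, rfl⟩ : ∃ j, q = j + 2 := ⟨q - 2, by omega⟩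
  have e0 : (j + 2) ^ 2 - (j + 2) = (j + 2) * (j + 1) := by
    apply Nat.sub_eq_of_eq_add; ring
  have e1 : (j + 2) ^ 2 - 1 = (j + 1) * (j + 3) := by
    apply Nat.sub_eq_of_eq_add; ring
  rw [e0] at hN
  rw [e1]
  have hone : ¬ p ∣ 1 := fun h => hp.one_lt.ne' (Nat.dvd_one.mp h)
  intro h
  rcases (Nat.Prime.dvd_mul hp).mp h with h | h
  · have h1 : p ∣ j + 2 := hp.dvd_of_dvd_pow h
    exact hone ((Nat.dvd_add_right (dvd_mul_of_dvd_left h1 _)).mp hN)
  · rcases (Nat.Prime.dvd_mul hp).mp h with h | h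
    · exact hone ((Nat.dvd_add_right (dvd_mul_of_dvd_right h _)).mp hN)
    · have e2 : (j + 2) * (j + 1) + 1 = (j + 3) * j + 3 := by ring
      rw [e2] at hN
      have h3 : p ∣ 3 := (Nat.dvd_add_right (dvd_mul_of_dvd_left h _)).mp hN
      exact hp3 ((Nat.prime_dvd_prime_iff_eq hp Nat.prime_three).mp h3)

end ArithJ

section Ree7

variable {K : Type*} [Field K] [Fintype K] {m : ℕ} (hK : Fintype.card K = 3 ^ (2 * m + 1))
include hK

/-- the order of the centralizer of any involution -/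
theorem ree_card_cent_involution (hm : 1 ≤ m) (t : ↥(twistedG2 K (3 ^ m))) (ht1 : t ≠ 1)
    (ht2 : t * t = 1) :
    Nat.card ↥(Subgroup.centralizer ({t} : Set ↥(twistedG2 K (3 ^ m)))) =
      3 ^ (2 * m + 1) * ((3 ^ (2 * m + 1)) ^ 2 - 1) := by
  obtain ⟨a₀, ha₀H, ha₀1, ha₀2⟩ := ReeSyl.exists_torus_involution hK
  obtain ⟨g, rfl⟩ := ree_involution_conj hK hm a₀ t ha₀1 ha₀2 ht1 ht2
  rw [card_centralizer_conj]
  exact card_cent_torus_involution hK a₀ ha₀H ha₀1 ha₀2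

/-- the centralizer of an element of prime order `s ∣ q (q-1) (q+1)` has order dividing
`q³ (q² - 1)` -/
theorem ree_card_cent_dvd (hm : 1 ≤ m) (z : ↥(twistedG2 K (3 ^ m))) (s : ℕ) (hs : s.Prime)
    (hz : orderOf z = s)
    (hsM : s ∣ 3 ^ (2 * m + 1) * ((3 ^ (2 * m + 1) - 1) * (3 ^ (2 * m + 1) + 1))) :
    Nat.card ↥(Subgroup.centralizer ({z} : Set ↥(twistedG2 K (3 ^ m)))) ∣
      (3 ^ (2 * m + 1)) ^ 3 * ((3 ^ (2 * m + 1)) ^ 2 - 1) := by
  obtain ⟨k, hk⟩ := three_pow_mod_eight m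
  have esq : (3 ^ (2 * m + 1)) ^ 2 - 1 = (3 ^ (2 * m + 1) - 1) * (3 ^ (2 * m + 1) + 1) := by
    rw [hk]
    have : 8 * k + 3 - 1 = 8 * k + 2 := by omega
    rw [this]
    apply Nat.sub_eq_of_eq_add; ring
  by_cases hs2 : s = 2
  · -- an involution
    subst hs2
    have ht1 : z ≠ 1 := by
      rintro rfl
      rw [orderOf_one] at hz
      omega
    have ht2 : z * z = 1 := by
      rw [← pow_two, ← hz, pow_orderOf_eq_one]
    rw [ree_card_cent_involution hK hm z ht1 ht2]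
    exact mul_dvd_mul_right (dvd_pow_self _ (by norm_num)) _
  rcases (Nat.Prime.dvd_mul hs).mp hsM with h | h
  · -- `s = 3`
    have h3 : s = 3 := (Nat.prime_dvd_prime_iff_eq hs Nat.prime_three).mp (hs.dvd_of_dvd_pow h)
    subst h3
    refine dvd_trans (ree_card_cent_three hK z hz) ?_
    rw [esq]
    exact Dvd.intro (3 ^ (2 * m + 1) + 1) (by ring)
  · have hcop : Nat.Coprime s 2 := by
      rw [Nat.coprime_primes hs Nat.prime_two]; exact hs2
    rcases (Nat.Prime.dvd_mul hs).mp h with h | h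
    · -- `s ∣ (q-1)/2`
      have h1 : 3 ^ (2 * m + 1) - 1 = 2 * ((3 ^ (2 * m + 1) - 1) / 2) := by omega
      rw [h1] at h
      have h2 : s ∣ (3 ^ (2 * m + 1) - 1) / 2 := hcop.dvd_of_dvd_mul_left h
      rw [(ree_cent_prime_torus hK z s hs hz h2).2, esq]
      exact dvd_mul_of_dvd_right (dvd_mul_right _ _) _
    · -- `s ∣ (q+1)/4`
      have h1 : 3 ^ (2 * m + 1) + 1 = 2 * (2 * ((3 ^ (2 * m + 1) + 1) / 4)) := by omega
      rw [h1] at h
      have h2 : s ∣ (3 ^ (2 * m + 1) + 1) / 4 :=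
        hcop.dvd_of_dvd_mul_left (hcop.dvd_of_dvd_mul_left h)
      rw [(ree_cent_prime_plus hK hm z s hs hz h2).2, esq]
      exact dvd_mul_of_dvd_right (dvd_mul_left _ _) _

/-- **the centralizer of an element of prime order `p ∣ q² - q + 1` is cyclic of order dividing
`q² - q + 1`** -/
theorem ree_cent_prime_pi (hm : 1 ≤ m) (y : ↥(twistedG2 K (3 ^ m))) (p : ℕ) (hp : p.Prime)
    (hy : orderOf y = p) (hpd : p ∣ (3 ^ (2 * m + 1)) ^ 2 - 3 ^ (2 * m + 1) + 1) :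
    IsCyclic ↥(Subgroup.centralizer ({y} : Set ↥(twistedG2 K (3 ^ m)))) ∧
      Nat.card ↥(Subgroup.centralizer ({y} : Set ↥(twistedG2 K (3 ^ m)))) ∣
        (3 ^ (2 * m + 1)) ^ 2 - 3 ^ (2 * m + 1) + 1 := by
  -- primes dividing `q² - q + 1` are `> 3`
  have hgt : ∀ s : ℕ, s.Prime → s ∣ (3 ^ (2 * m + 1)) ^ 2 - 3 ^ (2 * m + 1) + 1 → 3 < s := by
    intro s hs hsd
    rw [← ree_pi_factor m] at hsd
    rcases (Nat.Prime.dvd_mul hs).mp hsd with h | h
    · exact ree_prime_gt_three m s s hs dvd_rfl (Or.inr (Or.inr (Or.inl h)))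
    · exact ree_prime_gt_three m s s hs dvd_rfl (Or.inr (Or.inr (Or.inr h)))
  have hp3 : 3 < p := hgt p hp hpd
  have hq2 : 2 ≤ 3 ^ (2 * m + 1) := by
    have : 3 ^ 1 ≤ 3 ^ (2 * m + 1) := Nat.pow_le_pow_right (by norm_num) (by omega)
    omega
  have hcomm := ree_cent_prime_pi_comm hK y p hp hp3 hy hpd
  have hpM := not_dvd_of_dvd_pi _ p hq2 hp (by omega) hpd
  have hcardG := Cfsg.Agent.S1069.result hK
  -- the order
  have hcard : Nat.card ↥(Subgroup.centralizer ({y} : Set ↥(twistedG2 K (3 ^ m)))) ∣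
      (3 ^ (2 * m + 1)) ^ 2 - 3 ^ (2 * m + 1) + 1 := by
    rw [Nat.dvd_iff_prime_pow_dvd_dvd]
    intro s k hs hsk
    rcases Nat.eq_zero_or_pos k with rfl | hk
    · simp
    have : Fact s.Prime := ⟨hs⟩
    have h1 : s ∣ Nat.card ↥(Subgroup.centralizer ({y} : Set ↥(twistedG2 K (3 ^ m)))) :=
      dvd_trans (dvd_pow_self s hk.ne') hsk
    obtain ⟨z, hz⟩ := exists_prime_orderOf_dvd_card' s h1
    have hz' : orderOf (z : ↥(twistedG2 K (3 ^ m))) = s := by rw [Subgroup.orderOf_coe]; exact hz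
    have hzy : (z : ↥(twistedG2 K (3 ^ m))) * y = y * (z : ↥(twistedG2 K (3 ^ m))) := by
      have := z.2
      rwa [mem_cent_singleton] at this
    -- `s` does not divide `q (q-1) (q+1)`
    have hsM : ¬ s ∣ 3 ^ (2 * m + 1) * ((3 ^ (2 * m + 1) - 1) * (3 ^ (2 * m + 1) + 1)) := by
      intro h
      have h2 := ree_card_cent_dvd hK hm (z : ↥(twistedG2 K (3 ^ m))) s hs hz' h
      have h3 : y ∈ Subgroup.centralizer ({(z : ↥(twistedG2 K (3 ^ m)))} :
          Set ↥(twistedG2 K (3 ^ m))) := by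
        rw [mem_cent_singleton]; exact hzy.symm
      have h4 : orderOf y ∣ Nat.card ↥(Subgroup.centralizer
          ({(z : ↥(twistedG2 K (3 ^ m)))} : Set ↥(twistedG2 K (3 ^ m)))) :=
        Subgroup.orderOf_dvd_natCard _ h3
      rw [hy] at h4
      exact hpM (dvd_trans h4 h2)
    have hcop : Nat.Coprime (s ^ k)
        ((3 ^ (2 * m + 1)) ^ 3 * (3 ^ (2 * m + 1) - 1) * (3 ^ (2 * m + 1) + 1)) := by
      apply Nat.Coprime.pow_left
      rw [Nat.Prime.coprime_iff_not_dvd hs]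
      intro h
      apply hsM
      rcases (Nat.Prime.dvd_mul hs).mp h with h | h
      · rcases (Nat.Prime.dvd_mul hs).mp h with h | h
        · exact dvd_mul_of_dvd_left (hs.dvd_of_dvd_pow h) _
        · exact dvd_mul_of_dvd_right (dvd_mul_of_dvd_left h _) _
      · exact dvd_mul_of_dvd_right (dvd_mul_of_dvd_right h _) _
    have h5 : s ^ k ∣ Nat.card ↥(twistedG2 K (3 ^ m)) :=
      dvd_trans hsk (Subgroup.card_subgroup_dvd_card _)
    have e3 : (3 ^ (2 * m + 1)) ^ 3 * (3 ^ (2 * m + 1) - 1) * ((3 ^ (2 * m + 1)) ^ 3 + 1) =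
        (3 ^ (2 * m + 1)) ^ 3 * (3 ^ (2 * m + 1) - 1) * (3 ^ (2 * m + 1) + 1) *
          ((3 ^ (2 * m + 1)) ^ 2 - 3 ^ (2 * m + 1) + 1) := by
      have hle : 3 ^ (2 * m + 1) ≤ (3 ^ (2 * m + 1)) ^ 2 := by nlinarith
      have e4 : (3 ^ (2 * m + 1)) ^ 3 + 1 =
          (3 ^ (2 * m + 1) + 1) * ((3 ^ (2 * m + 1)) ^ 2 - 3 ^ (2 * m + 1) + 1) := by
        zify [hle]
        ring
      rw [e4]; ring
    rw [hcardG, e3] at h5
    exact hcop.dvd_of_dvd_mul_left h5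
  refine ⟨?_, hcard⟩
  apply isCyclic_of_comm_of_cyclic_sylow _ hcomm
  intro s hs hsd Q hQ
  have h3 : 3 < s := hgt s hs (dvd_trans hsd hcard)
  have : Fact s.Prime := ⟨hs⟩
  exact isCyclic_of_isPGroup_of_sylow
    (fun S => Cfsg.Agent.Lib.Helper13.ReeCyc.ree_sylow_cyclic hK h3 S) Q hQ

end Ree7

end Cfsg.Agent.Lib.Helper27.ReeCent
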