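/-
helper27: the normalizer of the cyclic subgroup of order `(q+1)/4` of the Ree group `²G₂(q)`.
Part A: facts on `PSL₂(q)`, `q ≡ 3 (mod 4)`: involution centralizers have order `q + 1`; an explicit
Klein four-group with an element of order 3 permuting its involutions (characteristic 3); the same in
`Z₂ × PSL₂(q)`.
-/
import Mathlib
import Cfsg.Agent.Lib.Helper13.SL2OrderFour
import Cfsg.Agent.Lib.Helper13.PSL2ClassSizeOdd
import Cfsg.Agent.Lib.Helper13.PSL2KleinCount
import Cfsg.Agent.Lib.Helper27.ReeCentC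

set_option autoImplicit false

namespace Cfsg.Agent.Lib.Helper27.ReePlus

open Matrix Cfsg.Agent.Lib.Helper13

section PSL

variable {F : Type*} [Field F] [Fintype F]

/-- involution centralizers in `PSL₂(q)`, `q ≡ 3 (mod 4)` -/
theorem psl2_card_centralizer_involution (h2 : (2 : F) ≠ 0) (hq : Fintype.card F % 4 = 3)
    (x : ProjectiveSpecialLinearGroup (Fin 2) F) (hx : orderOf x = 2) :
    Nat.card (Subgroup.centralizer ({x} : Set (ProjectiveSpecialLinearGroup (Fin 2) F))) =
      Fintype.card F + 1 := by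
  obtain ⟨g, rfl, hg⟩ := exists_lift_of_orderOf_two h2 x hx
  have h1 := pslIdx_of_trace_zero h2 g hg
  have h3 := (card_centralizer_of_trace_zero h2 g hg).2 hq
  have h4 := Subgroup.card_mul_index
    (Subgroup.centralizer ({g} : Set (SpecialLinearGroup (Fin 2) F)))
  have h5 := Subgroup.card_mul_index (Subgroup.centralizer
    ({(QuotientGroup.mk g : ProjectiveSpecialLinearGroup (Fin 2) F)} :
      Set (ProjectiveSpecialLinearGroup (Fin 2) F)))
  have h6 := card_PSL2_mul_two (F := F) h2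
  rw [← card_SL2] at h6
  unfold pslIdx at h1
  rw [h3, ← h1, ← h6, ← h5] at h4
  have hpos : 0 < (Subgroup.centralizer
    ({(QuotientGroup.mk g : ProjectiveSpecialLinearGroup (Fin 2) F)} :
      Set (ProjectiveSpecialLinearGroup (Fin 2) F))).index :=
    Nat.pos_of_ne_zero Subgroup.index_ne_zero_of_finite
  have h7 : (Fintype.card F + 1) * (2 * (Subgroup.centralizer
    ({(QuotientGroup.mk g : ProjectiveSpecialLinearGroup (Fin 2) F)} :
      Set (ProjectiveSpecialLinearGroup (Fin 2) F))).index) =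
      Nat.card (Subgroup.centralizer
    ({(QuotientGroup.mk g : ProjectiveSpecialLinearGroup (Fin 2) F)} :
      Set (ProjectiveSpecialLinearGroup (Fin 2) F))) * (2 * (Subgroup.centralizer
    ({(QuotientGroup.mk g : ProjectiveSpecialLinearGroup (Fin 2) F)} :
      Set (ProjectiveSpecialLinearGroup (Fin 2) F))).index) := by
    rw [h4]; ring
  exact (Nat.eq_of_mul_eq_mul_right (by omega) h7).symm

/-- involution centralizers in `Z₂ × PSL₂(q)` -/
theorem prod_card_centralizer_involution (h2 : (2 : F) ≠ 0) (hq : Fintype.card F % 4 = 3)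
    (w : Multiplicative (ZMod 2) × ProjectiveSpecialLinearGroup (Fin 2) F) (hw : orderOf w.2 = 2) :
    Nat.card (Subgroup.centralizer
      ({w} : Set (Multiplicative (ZMod 2) × ProjectiveSpecialLinearGroup (Fin 2) F))) =
      2 * (Fintype.card F + 1) := by
  obtain ⟨z, ybar⟩ := w
  have hcard := psl2_card_centralizer_involution h2 hq ybar hw
  have heq : Subgroup.centralizer
      ({(z, ybar)} : Set (Multiplicative (ZMod 2) × ProjectiveSpecialLinearGroup (Fin 2) F)) =
      (⊤ : Subgroup (Multiplicative (ZMod 2))).prod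
        (Subgroup.centralizer ({ybar} : Set (ProjectiveSpecialLinearGroup (Fin 2) F))) := by
    ext x
    rw [Subgroup.mem_prod, mem_centralizer_singleton_comm, mem_centralizer_singleton_comm]
    constructor
    · intro h
      exact ⟨Subgroup.mem_top _, congrArg Prod.snd h⟩
    · intro h
      apply Prod.ext
      · exact mul_comm _ _
      · exact h.2
  rw [heq, Nat.card_congr (Subgroup.prodEquiv _ _).toEquiv, Nat.card_prod, Subgroup.card_top]
  have : Nat.card (Multiplicative (ZMod 2)) = 2 := by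
    rw [Nat.card_eq_fintype_card]; rfl
  rw [this, hcard]

end PSL

section Explicit

variable {F : Type*} [Field F]

/-- `U₁ = [[0,1],[-1,0]]` -/
def mU (F : Type*) [Field F] : SpecialLinearGroup (Fin 2) F :=
  ⟨!![0, 1; -1, 0], by simp [Matrix.det_fin_two]⟩

/-- `X = [[1,1],[0,1]]` -/
def mX (F : Type*) [Field F] : SpecialLinearGroup (Fin 2) F :=
  ⟨!![1, 1; 0, 1], by simp [Matrix.det_fin_two]⟩

/-- `X⁻¹ = [[1,-1],[0,1]]` -/
def mXi (F : Type*) [Field F] : SpecialLinearGroup (Fin 2) F :=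
  ⟨!![1, -1; 0, 1], by simp [Matrix.det_fin_two]⟩

/-- `U₂ = X U₁ X⁻¹ = [[-1,2],[-1,1]]` -/
def mV (F : Type*) [Field F] : SpecialLinearGroup (Fin 2) F :=
  ⟨!![-1, 2; -1, 1], by simp [Matrix.det_fin_two]; ring⟩

theorem mX_mul_mXi : mX F * mXi F = 1 := by
  apply Subtype.ext
  show (!![1, 1; 0, 1] * !![1, -1; 0, 1] : Matrix (Fin 2) (Fin 2) F) = 1
  ext i j
  fin_cases i <;> fin_cases j <;> simp [Matrix.mul_apply, Fin.sum_univ_two]

theorem mX_inv : (mX F)⁻¹ = mXi F := inv_eq_of_mul_eq_one_right mX_mul_mXi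

theorem mU_mul_self : mU F * mU F = zSL F := by
  apply Subtype.ext
  show (!![0, 1; -1, 0] * !![0, 1; -1, 0] : Matrix (Fin 2) (Fin 2) F) = !![-1, 0; 0, -1]
  ext i j
  fin_cases i <;> fin_cases j <;> simp [Matrix.mul_apply, Fin.sum_univ_two]

theorem mX_conj_mU : mX F * mU F * (mX F)⁻¹ = mV F := by
  rw [mX_inv]
  apply Subtype.ext
  show (!![1, 1; 0, 1] * !![0, 1; -1, 0] * !![1, -1; 0, 1] : Matrix (Fin 2) (Fin 2) F) =
    !![-1, 2; -1, 1]
  ext i j
  fin_cases i <;> fin_cases j <;> simp [Matrix.mul_apply, Fin.sum_univ_two] <;> ring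

theorem mX_cube (h3 : (3 : F) = 0) : mX F * mX F * mX F = 1 := by
  apply Subtype.ext
  show (!![1, 1; 0, 1] * !![1, 1; 0, 1] * !![1, 1; 0, 1] : Matrix (Fin 2) (Fin 2) F) = 1
  ext i j
  fin_cases i <;> fin_cases j <;> simp [Matrix.mul_apply, Fin.sum_univ_two]
  linear_combination h3

theorem mU_mul_mV (h3 : (3 : F) = 0) : mU F * mV F = zSL F * (mV F * mU F) := by
  apply Subtype.ext
  show (!![0, 1; -1, 0] * !![-1, 2; -1, 1] : Matrix (Fin 2) (Fin 2) F) =
    !![-1, 0; 0, -1] * (!![-1, 2; -1, 1] * !![0, 1; -1, 0])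
  ext i j
  fin_cases i <;> fin_cases j <;> simp [Matrix.mul_apply, Fin.sum_univ_two] <;>
    first | ring1 | linear_combination h3 | linear_combination (-1 : F) * h3 |
      linear_combination (2 : F) * h3 | linear_combination (-2 : F) * h3

theorem mX_conj_mV (h3 : (3 : F) = 0) : mX F * mV F * (mX F)⁻¹ = mV F * mU F := by
  rw [mX_inv]
  apply Subtype.ext
  show (!![1, 1; 0, 1] * !![-1, 2; -1, 1] * !![1, -1; 0, 1] : Matrix (Fin 2) (Fin 2) F) =
    !![-1, 2; -1, 1] * !![0, 1; -1, 0]
  ext i j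
  fin_cases i <;> fin_cases j <;> simp [Matrix.mul_apply, Fin.sum_univ_two] <;>
    first | ring1 | linear_combination h3 | linear_combination (-1 : F) * h3 |
      linear_combination (2 : F) * h3 | linear_combination (-2 : F) * h3

theorem mV_ne (h : mV F = mU F ∨ mV F = zSL F * mU F) : False := by
  rcases h with h | h
  · have h1 := congrArg (fun g : SpecialLinearGroup (Fin 2) F => (g : Matrix (Fin 2) (Fin 2) F) 0 0) h
    have h2 : ((-1 : F)) = 0 := h1
    simp at h2
  · have h1 := congrArg (fun g : SpecialLinearGroup (Fin 2) F => (g : Matrix (Fin 2) (Fin 2) F) 0 0) h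
    have h2 : ((-1 : F)) = (!![-1, 0; 0, -1] * !![0, 1; -1, 0] : Matrix (Fin 2) (Fin 2) F) 0 0 := h1
    simp [Matrix.mul_apply, Fin.sum_univ_two] at h2

end Explicit

end Cfsg.Agent.Lib.Helper27.ReePlus
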