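/-
helper27: the normalizer of the cyclic subgroup of order `(q+1)/4` of the Ree group `²G₂(q)`.
Part C: the Ree group inputs (centralizer of a four-group has order `2(q+1)`, no element of `C(u₁)`
swaps `u₂` and `u₁u₂`, an explicit four-group with an element of order 3 acting on it) and the theorem
`exists_cyclic_plus`: there is a cyclic subgroup `A` of order `(q+1)/4` with `|N(A)| = 6(q+1)`.
-/
import Cfsg.Agent.Lib.Helper27.ReePlusA
import Cfsg.Agent.Lib.Helper27.ReePlusB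
import Cfsg.Agent.Lib.Helper27.ReeCentJ

set_option autoImplicit false

namespace Cfsg.Agent.Lib.Helper27.ReePlus

open Cfsg Cfsg.Lie Matrix Cfsg.Agent.Lib.Helper7 Cfsg.Agent.Lib.Helper13
  Cfsg.Agent.Lib.Helper27.ReeCent

section PSLcenter

variable {F : Type*} [Field F] [Fintype F]

/-- the centre of `PSL₂(F)` is trivial (`|F| ≥ 4`, characteristic 3) -/
theorem psl2_center_eq_bot (h4 : 4 ≤ Nat.card F) (h2 : (2 : F) ≠ 0) :
    Subgroup.center (ProjectiveSpecialLinearGroup (Fin 2) F) = ⊥ := by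
  have hs : IsSimpleGroup (ProjectiveSpecialLinearGroup (Fin 2) F) :=
    Matrix.ProjectiveSpecialLinearGroup.rank_two_simple h4
  rcases (inferInstance : (Subgroup.center
    (ProjectiveSpecialLinearGroup (Fin 2) F)).Normal).eq_bot_or_eq_top with h | h
  · exact h
  · exfalso
    have h1 : (QuotientGroup.mk (mU F) : ProjectiveSpecialLinearGroup (Fin 2) F) ∈
        Subgroup.center (ProjectiveSpecialLinearGroup (Fin 2) F) := h ▸ Subgroup.mem_top _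
    rw [Subgroup.mem_center_iff] at h1
    have h2' := h1 (QuotientGroup.mk (mX F))
    -- `mk (X U X⁻¹) = mk U`
    have h3 : (QuotientGroup.mk (mV F) : ProjectiveSpecialLinearGroup (Fin 2) F) =
        QuotientGroup.mk (mU F) := by
      rw [← mX_conj_mU, QuotientGroup.mk_mul, QuotientGroup.mk_mul, h2', QuotientGroup.mk_inv]
      group
    rw [QuotientGroup.eq] at h3
    rcases center_cases _ h3 with h5 | h5
    · apply mV_ne (F := F)
      left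
      have : mU F = mV F * ((mV F)⁻¹ * mU F) := by group
      rw [this, h5, mul_one]
    · apply mV_ne (F := F)
      left
      exfalso
      -- `mU = mV * zSL`
      have h6 : mU F = zSL F * mV F := by
        have : mU F = mV F * ((mV F)⁻¹ * mU F) := by group
        rw [this, h5]
        exact (Subgroup.mem_center_iff.mp zSL_mem_center (mV F))
      apply mV_ne (F := F)
      right
      rw [h6, ← mul_assoc, Cfsg.Agent.Lib.Helper13.zSL_mul_self, one_mul]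

end PSLcenter

section Ree

variable {K : Type*} [Field K] [Fintype K] {m : ℕ} (hK : Fintype.card K = 3 ^ (2 * m + 1))
include hK

theorem ree_field_facts (hm : 1 ≤ m) :
    (2 : K) ≠ 0 ∧ (3 : K) = 0 ∧ Fintype.card K % 4 = 3 ∧ 4 ≤ Nat.card K := by
  have : CharP K 3 := charP3_of_card hK
  obtain ⟨k, hk⟩ := three_pow_mod_eight m
  have h3K : (3 : K) = 0 := by
    have := CharP.cast_eq_zero K 3
    exact_mod_cast this
  have h2K : (2 : K) ≠ 0 := by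
    intro h
    have : (1 : K) = 0 := by linear_combination h3K - h
    exact one_ne_zero this
  refine ⟨h2K, h3K, by rw [hK, hk]; omega, ?_⟩
  rw [Nat.card_eq_fintype_card, hK]
  have : 3 ^ 3 ≤ 3 ^ (2 * m + 1) := Nat.pow_le_pow_right (by norm_num) (by omega)
  omega

/-- the image of the involution `a₀` under an isomorphism `C(a₀) ≃* Z₂ × PSL₂(q)` -/
theorem e_involution (hm : 1 ≤ m) (a₀ : ↥(twistedG2 K (3 ^ m))) (ha₀1 : a₀ ≠ 1)
    (e : ↥(Subgroup.centralizer ({a₀} : Set ↥(twistedG2 K (3 ^ m)))) ≃*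
      Multiplicative (ZMod 2) × ProjectiveSpecialLinearGroup (Fin 2) K)
    (ha₀C : a₀ ∈ Subgroup.centralizer ({a₀} : Set ↥(twistedG2 K (3 ^ m)))) :
    ∃ δ : Multiplicative (ZMod 2), δ ≠ 1 ∧ e ⟨a₀, ha₀C⟩ = (δ, 1) := by
  obtain ⟨h2K, -, -, h4⟩ := ree_field_facts hK hm
  have hcb := psl2_center_eq_bot h4 h2K
  have hcentral : ∀ w : Multiplicative (ZMod 2) × ProjectiveSpecialLinearGroup (Fin 2) K,
      w * e ⟨a₀, ha₀C⟩ = e ⟨a₀, ha₀C⟩ * w := by
    intro w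
    obtain ⟨c, rfl⟩ := e.surjective w
    rw [← map_mul, ← map_mul]
    congr 1
    apply Subtype.ext
    have := c.2
    rw [mem_cent_singleton] at this
    exact this
  have h2 : (e ⟨a₀, ha₀C⟩).2 ∈ Subgroup.center (ProjectiveSpecialLinearGroup (Fin 2) K) := by
    rw [Subgroup.mem_center_iff]
    intro ℓ
    exact congrArg Prod.snd (hcentral (1, ℓ))
  rw [hcb, Subgroup.mem_bot] at h2
  refine ⟨(e ⟨a₀, ha₀C⟩).1, ?_, Prod.ext rfl h2⟩
  intro h1
  apply ha₀1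
  have h3 : e ⟨a₀, ha₀C⟩ = 1 := Prod.ext h1 h2
  have h4' := e.injective (h3.trans (map_one e).symm)
  exact congrArg Subtype.val h4'

/-- the centralizer of a four-group has order `2 (q + 1)` -/
theorem ree_card_cent_four (hm : 1 ≤ m) (u₁ u₂ : ↥(twistedG2 K (3 ^ m))) (hu₁1 : u₁ ≠ 1)
    (hu₁ : u₁ * u₁ = 1) (hu₂1 : u₂ ≠ 1) (hu₂ : u₂ * u₂ = 1) (hne : u₁ ≠ u₂)
    (hcomm : u₁ * u₂ = u₂ * u₁) :
    Nat.card ↥(Subgroup.centralizer ({u₁} : Set ↥(twistedG2 K (3 ^ m))) ⊓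
      Subgroup.centralizer ({u₂} : Set ↥(twistedG2 K (3 ^ m)))) = 2 * (3 ^ (2 * m + 1) + 1) := by
  obtain ⟨h2K, -, hq4, -⟩ := ree_field_facts hK hm
  obtain ⟨a₀, ha₀H, ha₀1, ha₀2⟩ := ReeSyl.exists_torus_involution hK
  obtain ⟨⟨e⟩, -⟩ := Cfsg.Agent.S1152.result hK a₀ ha₀H ha₀1 ha₀2
  obtain ⟨g, hg⟩ := ree_involution_conj hK hm a₀ u₁ ha₀1 ha₀2 hu₁1 hu₁
  obtain ⟨y', hy'⟩ : ∃ y' : ↥(twistedG2 K (3 ^ m)), y' = g⁻¹ * u₂ * g := ⟨_, rfl⟩
  have hyy' : u₂ = g * y' * g⁻¹ := by rw [hy']; group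
  have hy'C : y' ∈ Subgroup.centralizer ({a₀} : Set ↥(twistedG2 K (3 ^ m))) := by
    rw [mem_cent_singleton, hy']
    have h1 : g * a₀ * g⁻¹ * u₂ = u₂ * (g * a₀ * g⁻¹) := by rw [← hg]; exact hcomm
    have : g⁻¹ * u₂ * g * a₀ = g⁻¹ * (u₂ * (g * a₀ * g⁻¹)) * g := by group
    rw [this, ← h1]
    group
  have ha₀C : a₀ ∈ Subgroup.centralizer ({a₀} : Set ↥(twistedG2 K (3 ^ m))) := by
    rw [mem_cent_singleton]
  have hy'sq : y' * y' = 1 := by
    rw [hy']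
    have : g⁻¹ * u₂ * g * (g⁻¹ * u₂ * g) = g⁻¹ * (u₂ * u₂) * g := by group
    rw [this, hu₂]; group
  have hy'1 : y' ≠ 1 := by
    intro h
    apply hu₂1
    rw [hyy', h]; group
  have hy'a : y' ≠ a₀ := by
    intro h
    apply hne
    rw [hg, hyy', h]
  have hmap : Subgroup.centralizer ({u₁} : Set ↥(twistedG2 K (3 ^ m))) ⊓
      Subgroup.centralizer ({u₂} : Set ↥(twistedG2 K (3 ^ m))) =
      (Subgroup.centralizer ({a₀} : Set ↥(twistedG2 K (3 ^ m))) ⊓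
        Subgroup.centralizer ({y'} : Set ↥(twistedG2 K (3 ^ m)))).map (MulAut.conj g).toMonoidHom := by
    rw [Subgroup.map_inf _ _ _ (MulAut.conj g).injective, ← centralizer_conj, ← centralizer_conj, ← hg,
      ← hyy']
  obtain ⟨y₀, hy₀⟩ : ∃ y₀ : ↥(Subgroup.centralizer ({a₀} : Set ↥(twistedG2 K (3 ^ m)))),
      y₀ = ⟨y', hy'C⟩ := ⟨_, rfl⟩
  obtain ⟨δ, hδ, heδ⟩ := e_involution hK hm a₀ ha₀1 e ha₀C
  -- the `PSL₂` component of `e y₀` has order 2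
  have hy₀sq : e y₀ * e y₀ = 1 := by
    rw [← map_mul, hy₀]
    have : (⟨y', hy'C⟩ : ↥(Subgroup.centralizer ({a₀} : Set ↥(twistedG2 K (3 ^ m))))) *
        ⟨y', hy'C⟩ = 1 := Subtype.ext hy'sq
    rw [this, map_one]
  have hw2 : orderOf (e y₀).2 = 2 := by
    apply orderOf_eq_prime
    · rw [pow_two]
      exact congrArg Prod.snd hy₀sq
    · intro h
      -- then `e y₀ = (ε, 1)` is `1` or `e a₀`
      have hcases : ∀ ε δ : Multiplicative (ZMod 2), δ ≠ 1 → ε = 1 ∨ ε = δ := by decide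
      rcases hcases (e y₀).1 δ hδ with h1 | h1
      · apply hy'1
        have h3 : e y₀ = 1 := Prod.ext h1 h
        have h4 := e.injective (h3.trans (map_one e).symm)
        rw [hy₀] at h4
        exact congrArg Subtype.val h4
      · apply hy'a
        have h3 : e y₀ = e ⟨a₀, ha₀C⟩ := by
          rw [heδ]; exact Prod.ext h1 h
        have h4 := e.injective h3
        rw [hy₀] at h4
        exact congrArg Subtype.val h4
  have hcard := prod_card_centralizer_involution h2K hq4 (e y₀) hw2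
  have hsub := map_centralizer_subtype
    (Subgroup.centralizer ({a₀} : Set ↥(twistedG2 K (3 ^ m)))) y₀
  have hy₀coe : ((y₀ : ↥(Subgroup.centralizer ({a₀} : Set ↥(twistedG2 K (3 ^ m))))) :
      ↥(twistedG2 K (3 ^ m))) = y' := by rw [hy₀]
  rw [hy₀coe] at hsub
  rw [hmap, Subgroup.card_map_of_injective (MulAut.conj g).injective, ← hsub,
    Subgroup.card_map_of_injective (Subgroup.subtype_injective _), card_centralizer_equiv e y₀, hcard, hK]

/-- no element centralizing the involution `u₁` maps `u₂ ∈ C(u₁)` to `u₁ u₂` -/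
theorem ree_no_transposition (hm : 1 ≤ m) (u₁ u₂ g : ↥(twistedG2 K (3 ^ m))) (hu₁1 : u₁ ≠ 1)
    (hu₁ : u₁ * u₁ = 1) (hcomm : u₁ * u₂ = u₂ * u₁) (hg : g * u₁ * g⁻¹ = u₁) :
    g * u₂ * g⁻¹ ≠ u₁ * u₂ := by
  intro hcon
  obtain ⟨a₀, ha₀H, ha₀1, ha₀2⟩ := ReeSyl.exists_torus_involution hK
  obtain ⟨⟨e⟩, -⟩ := Cfsg.Agent.S1152.result hK a₀ ha₀H ha₀1 ha₀2
  obtain ⟨h, hh⟩ := ree_involution_conj hK hm a₀ u₁ ha₀1 ha₀2 hu₁1 hu₁
  have ha₀C : a₀ ∈ Subgroup.centralizer ({a₀} : Set ↥(twistedG2 K (3 ^ m))) := by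
    rw [mem_cent_singleton]
  obtain ⟨δ, hδ, heδ⟩ := e_involution hK hm a₀ ha₀1 e ha₀C
  -- conjugate everything by `h`
  obtain ⟨g', hg'⟩ : ∃ g' : ↥(twistedG2 K (3 ^ m)), g' = h⁻¹ * g * h := ⟨_, rfl⟩
  obtain ⟨v, hv⟩ : ∃ v : ↥(twistedG2 K (3 ^ m)), v = h⁻¹ * u₂ * h := ⟨_, rfl⟩
  have ha₀eq : a₀ = h⁻¹ * u₁ * h := by rw [hh]; group
  have hg'C : g' ∈ Subgroup.centralizer ({a₀} : Set ↥(twistedG2 K (3 ^ m))) := by
    rw [mem_cent_singleton, hg', ha₀eq]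
    have h1 : g * u₁ = u₁ * g := by
      calc g * u₁ = (g * u₁ * g⁻¹) * g := by group
        _ = u₁ * g := by rw [hg]
    calc h⁻¹ * g * h * (h⁻¹ * u₁ * h) = h⁻¹ * (g * u₁) * h := by group
      _ = h⁻¹ * (u₁ * g) * h := by rw [h1]
      _ = h⁻¹ * u₁ * h * (h⁻¹ * g * h) := by group
  have hvC : v ∈ Subgroup.centralizer ({a₀} : Set ↥(twistedG2 K (3 ^ m))) := by
    rw [mem_cent_singleton, hv, ha₀eq]
    calc h⁻¹ * u₂ * h * (h⁻¹ * u₁ * h) = h⁻¹ * (u₂ * u₁) * h := by group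
      _ = h⁻¹ * (u₁ * u₂) * h := by rw [hcomm]
      _ = h⁻¹ * u₁ * h * (h⁻¹ * u₂ * h) := by group
  have hrel : g' * v * g'⁻¹ = a₀ * v := by
    rw [hg', hv, ha₀eq]
    calc h⁻¹ * g * h * (h⁻¹ * u₂ * h) * (h⁻¹ * g * h)⁻¹ = h⁻¹ * (g * u₂ * g⁻¹) * h := by group
      _ = h⁻¹ * (u₁ * u₂) * h := by rw [hcon]
      _ = h⁻¹ * u₁ * h * (h⁻¹ * u₂ * h) := by group
  -- in `C(a₀)`
  have hrel' : (⟨g', hg'C⟩ : ↥(Subgroup.centralizer ({a₀} : Set ↥(twistedG2 K (3 ^ m))))) *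
      ⟨v, hvC⟩ * (⟨g', hg'C⟩ : ↥(Subgroup.centralizer ({a₀} : Set ↥(twistedG2 K (3 ^ m)))))⁻¹ =
      ⟨a₀, ha₀C⟩ * ⟨v, hvC⟩ := Subtype.ext hrel
  have h1 := congrArg (fun z => (e z).1) hrel'
  simp only [map_mul, map_inv, Prod.fst_mul, Prod.fst_inv, heδ] at h1
  -- `Z₂` is commutative
  have h2 : (e ⟨g', hg'C⟩).1 * (e ⟨v, hvC⟩).1 * ((e ⟨g', hg'C⟩).1)⁻¹ = (e ⟨v, hvC⟩).1 := by
    rw [mul_comm ((e ⟨g', hg'C⟩).1), mul_assoc, mul_inv_cancel, mul_one]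
  rw [h2] at h1
  apply hδ
  have h3 : 1 * (e ⟨v, hvC⟩).1 = δ * (e ⟨v, hvC⟩).1 := by rw [one_mul]; exact h1
  exact (mul_right_cancel h3).symm

/-- **WP-G** (strong form): a cyclic subgroup `A` of order `(q+1)/4` with normalizer of order
`6 (q+1)`, and every nontrivial subgroup of `A` has the same normalizer -/
theorem exists_cyclic_plus' (hm : 1 ≤ m) :
    ∃ A : Subgroup ↥(twistedG2 K (3 ^ m)), IsCyclic A ∧ Nat.card A = (3 ^ (2 * m + 1) + 1) / 4 ∧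
      Nat.card ↥(Subgroup.normalizer (A : Set ↥(twistedG2 K (3 ^ m)))) =
        6 * (3 ^ (2 * m + 1) + 1) ∧
      ∀ A₀ : Subgroup ↥(twistedG2 K (3 ^ m)), A₀ ≤ A → A₀ ≠ ⊥ →
        Subgroup.normalizer (A₀ : Set ↥(twistedG2 K (3 ^ m))) =
          Subgroup.normalizer (A : Set ↥(twistedG2 K (3 ^ m))) := by
  obtain ⟨h2K, h3K, hq4, h4⟩ := ree_field_facts hK hm
  obtain ⟨k, hk⟩ := three_pow_mod_eight m
  have hk3 : 3 ≤ k := by
    have h27 : 3 ^ 3 ≤ 3 ^ (2 * m + 1) := Nat.pow_le_pow_right (by norm_num) (by omega)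
    rw [hk] at h27
    omega
  obtain ⟨a₀, ha₀H, ha₀1, ha₀2⟩ := ReeSyl.exists_torus_involution hK
  obtain ⟨⟨e⟩, -⟩ := Cfsg.Agent.S1152.result hK a₀ ha₀H ha₀1 ha₀2
  -- the embedding of `PSL₂(q)`
  let ι : ProjectiveSpecialLinearGroup (Fin 2) K →* ↥(twistedG2 K (3 ^ m)) :=
    (Subgroup.subtype _).comp (e.symm.toMonoidHom.comp
      (MonoidHom.inr (Multiplicative (ZMod 2)) (ProjectiveSpecialLinearGroup (Fin 2) K)))
  have hι : Function.Injective ι := by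
    intro a b hab
    have h1 := Subtype.ext_iff.mpr hab
    have h2 := e.symm.injective h1
    exact (Prod.ext_iff.mp h2).2
  let mk : SpecialLinearGroup (Fin 2) K →* ProjectiveSpecialLinearGroup (Fin 2) K :=
    QuotientGroup.mk' _
  have hmkz : mk (zSL K) = 1 := mk_zSL
  obtain ⟨u₁, hu₁def⟩ : ∃ u₁ : ↥(twistedG2 K (3 ^ m)), u₁ = ι (mk (mU K)) := ⟨_, rfl⟩
  obtain ⟨u₂, hu₂def⟩ : ∃ u₂ : ↥(twistedG2 K (3 ^ m)), u₂ = ι (mk (mV K)) := ⟨_, rfl⟩
  obtain ⟨xx, hxdef⟩ : ∃ xx : ↥(twistedG2 K (3 ^ m)), xx = ι (mk (mX K)) := ⟨_, rfl⟩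
  have hu₁ : u₁ * u₁ = 1 := by
    rw [hu₁def, ← map_mul ι, ← map_mul mk, mU_mul_self, hmkz, map_one]
  have hmkU1 : mk (mU K) ≠ 1 := by
    intro h
    exact not_mem_center_of_mul_self h2K (mU K) mU_mul_self ((mk_eq_one_iff' _).mp h)
  have hu₁1 : u₁ ≠ 1 := by
    intro h
    apply hmkU1
    apply hι
    rw [← hu₁def, h, map_one]
  have hmkcomm : mk (mU K) * mk (mV K) = mk (mV K) * mk (mU K) := by
    rw [← map_mul, ← map_mul, mU_mul_mV h3K, map_mul, hmkz, one_mul]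
  have hP1 : mk (mX K) * mk (mU K) * (mk (mX K))⁻¹ = mk (mV K) := by
    rw [← map_inv, ← map_mul, ← map_mul, mX_conj_mU]
  have hP2 : mk (mX K) * mk (mV K) * (mk (mX K))⁻¹ = mk (mU K) * mk (mV K) := by
    rw [← map_inv, ← map_mul, ← map_mul, mX_conj_mV h3K, map_mul, hmkcomm]
  have hu₂ : xx * u₁ * xx⁻¹ = u₂ := by
    rw [hxdef, hu₁def, hu₂def, ← map_inv ι, ← map_mul ι, ← map_mul ι, hP1]
  have hcomm : u₁ * u₂ = u₂ * u₁ := by
    rw [hu₁def, hu₂def, ← map_mul ι, ← map_mul ι, hmkcomm]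
  have hne : u₁ ≠ u₂ := by
    intro h
    rw [hu₁def, hu₂def] at h
    have h1 := hι h
    have h2 : (QuotientGroup.mk (mU K) : ProjectiveSpecialLinearGroup (Fin 2) K) =
        QuotientGroup.mk (mV K) := h1
    rw [QuotientGroup.eq] at h2
    rcases center_cases _ h2 with h5 | h5
    · apply mV_ne (F := K)
      left
      have : mV K = mU K * ((mU K)⁻¹ * mV K) := by group
      rw [this, h5, mul_one]
    · apply mV_ne (F := K)
      right
      have : mV K = mU K * ((mU K)⁻¹ * mV K) := by group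
      rw [this, h5]
      exact (Subgroup.mem_center_iff.mp zSL_mem_center (mU K))
  have hxu₂ : xx * u₂ * xx⁻¹ = u₁ * u₂ := by
    rw [hxdef, hu₁def, hu₂def, ← map_inv ι, ← map_mul ι, ← map_mul ι, hP2, map_mul ι]
  have hu₂sq : u₂ * u₂ = 1 := by
    rw [← hu₂]
    have : xx * u₁ * xx⁻¹ * (xx * u₁ * xx⁻¹) = xx * (u₁ * u₁) * xx⁻¹ := by group
    rw [this, hu₁]; group
  have hu₂1 : u₂ ≠ 1 := by
    intro h
    rw [h] at hu₂
    apply hu₁1
    have : u₁ = xx⁻¹ * (xx * u₁ * xx⁻¹) * xx := by group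
    rw [this, hu₂]; group
  -- apply the abstract theorem with `n = (q+1)/4 = 2k+1`
  have en : (3 ^ (2 * m + 1) + 1) / 4 = 2 * k + 1 := by omega
  obtain ⟨A, hAc, hAn, hAN, hAsub⟩ := exists_cyclic_normalizer (2 * k + 1) (by omega) ⟨k, rfl⟩
    u₁ u₂ xx hu₁ hu₁1 hu₂ hcomm hne hxu₂
    (by rw [ree_card_cent_four hK hm u₁ u₂ hu₁1 hu₁ hu₂1 hu₂sq hne hcomm, hk]; ring)
    (fun g hg => ree_no_transposition hK hm u₁ u₂ g hu₁1 hu₁ hcomm hg)
    (fun y p hp hpn hy => by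
      have hpd : p ∣ (3 ^ (2 * m + 1) + 1) / 4 := by rw [en]; exact hpn
      obtain ⟨h1, h2⟩ := ree_cent_prime_plus hK hm y p hp hy hpd
      refine ⟨h1, ?_⟩
      rw [h2, hk]; ring)
    (fun s hs hsn Q hQ => by
      have h3 : 3 < s := ree_prime_gt_three m ((3 ^ (2 * m + 1) + 1) / 4) s hs (by rw [en]; exact hsn)
        (Or.inr (Or.inl dvd_rfl))
      have : Fact s.Prime := ⟨hs⟩
      exact isCyclic_of_isPGroup_of_sylow
        (fun S => Cfsg.Agent.Lib.Helper13.ReeCyc.ree_sylow_cyclic hK h3 S) Q hQ)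
  refine ⟨A, hAc, by rw [hAn, en], ?_, hAsub⟩
  rw [hAN, hk]; ring

/-- **WP-G**: a cyclic subgroup of order `(q+1)/4` with normalizer of order `6 (q+1)` -/
theorem exists_cyclic_plus (hm : 1 ≤ m) :
    ∃ A : Subgroup ↥(twistedG2 K (3 ^ m)), IsCyclic A ∧ Nat.card A = (3 ^ (2 * m + 1) + 1) / 4 ∧
      Nat.card ↥(Subgroup.normalizer (A : Set ↥(twistedG2 K (3 ^ m)))) =
        6 * (3 ^ (2 * m + 1) + 1) := by
  obtain ⟨A, h1, h2, h3, -⟩ := exists_cyclic_plus' hK hm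
  exact ⟨A, h1, h2, h3⟩

end Ree

end Cfsg.Agent.Lib.Helper27.ReePlus
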