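/-
helper27: elements of even order in the Ree group `²G₂(q)`: their orders divide `6`, `q - 1` or
`(q + 1)/2`, and elements of order `6` and `(q + 1)/2` exist (WP-J for S1159).
-/
import Cfsg.Agent.Lib.Helper27.ReeCentJ
import Cfsg.Agent.Lib.Helper13.PSL2Spectrum

set_option autoImplicit false

namespace Cfsg.Agent.Lib.Helper27.ReeEvenOrd

open Cfsg Cfsg.Lie Matrix Cfsg.Agent.Lib.Helper7 Cfsg.Agent.Lib.Helper13
  Cfsg.Agent.Lib.Helper27.ReeCent

section Ree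

variable {K : Type*} [Field K] [Fintype K] {m : ℕ} (hK : Fintype.card K = 3 ^ (2 * m + 1))

theorem orderOf_zmod_two_dvd (z : Multiplicative (ZMod 2)) : orderOf z ∣ 2 := by
  have h := orderOf_dvd_natCard z
  rw [Nat.card_eq_fintype_card, Fintype.card_multiplicative, ZMod.card] at h
  exact h

theorem orderOf_ofAdd_one : orderOf (Multiplicative.ofAdd (1 : ZMod 2)) = 2 := by
  rw [orderOf_ofAdd_eq_addOrderOf, ZMod.addOrderOf_one]

include hK

/-- element orders in `Z₂ × PSL₂(q)` -/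
theorem orderOf_prod_dvd
    (x : Multiplicative (ZMod 2) × ProjectiveSpecialLinearGroup (Fin 2) K) :
    orderOf x ∣ 6 ∨ orderOf x ∣ 3 ^ (2 * m + 1) - 1 ∨ orderOf x ∣ (3 ^ (2 * m + 1) + 1) / 2 := by
  have : CharP K 3 := charP3_of_card hK
  have : Fact (Nat.Prime 3) := ⟨Nat.prime_three⟩
  obtain ⟨k, hk⟩ := three_pow_mod_eight m
  have hgcd : Nat.gcd 2 (Fintype.card K - 1) = 2 := by
    rw [hK, hk]
    exact Nat.gcd_eq_left ⟨4 * k + 1, by omega⟩
  rw [Prod.orderOf]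
  have h1 : orderOf x.1 ∣ 2 := orderOf_zmod_two_dvd x.1
  rcases PSL2_orderOf_dvd 3 x.2 with h | h | h
  · left
    exact Nat.lcm_dvd (h1.trans (by norm_num)) (h.trans (by norm_num))
  · right; left
    rw [hgcd, hK] at h
    rw [hk] at h ⊢
    have e1 : (8 * k + 3 - 1) / 2 = 4 * k + 1 := by omega
    have e2 : 8 * k + 3 - 1 = 2 * (4 * k + 1) := by omega
    rw [e1] at h
    rw [e2]
    exact Nat.lcm_dvd (h1.trans (dvd_mul_right _ _)) (h.trans (dvd_mul_left _ _))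
  · right; right
    rw [hgcd, hK] at h
    rw [hk] at h ⊢
    have e1 : (8 * k + 3 + 1) / 2 = 2 * (2 * k + 1) := by omega
    rw [e1] at h ⊢
    exact Nat.lcm_dvd (h1.trans (dvd_mul_right _ _)) h

/-- **WP-J (a)**: the order of an element of even order divides `6`, `q - 1` or `(q + 1)/2` -/
theorem ree_even_order_dvd (hm : 1 ≤ m) (g : ↥(twistedG2 K (3 ^ m))) (hg : Even (orderOf g)) :
    orderOf g ∣ 6 ∨ orderOf g ∣ 3 ^ (2 * m + 1) - 1 ∨ orderOf g ∣ (3 ^ (2 * m + 1) + 1) / 2 := by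
  obtain ⟨a₀, ha₀H, ha₀1, ha₀2⟩ := ReeSyl.exists_torus_involution hK
  obtain ⟨⟨e⟩, -⟩ := Cfsg.Agent.S1152.result hK a₀ ha₀H ha₀1 ha₀2
  obtain ⟨c, hc⟩ := hg
  have hpos := orderOf_pos g
  have hc0 : 0 < c := by omega
  have ht2 : g ^ c * g ^ c = 1 := by rw [← pow_add, ← hc, pow_orderOf_eq_one]
  have ht1 : g ^ c ≠ 1 := by
    intro h
    have := Nat.le_of_dvd hc0 (orderOf_dvd_of_pow_eq_one h)
    omega
  obtain ⟨x, hx⟩ := ree_involution_conj hK hm a₀ (g ^ c) ha₀1 ha₀2 ht1 ht2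
  have hgC : x⁻¹ * g * x ∈ Subgroup.centralizer ({a₀} : Set ↥(twistedG2 K (3 ^ m))) := by
    rw [Subgroup.mem_centralizer_singleton_iff]
    have ha : a₀ = x⁻¹ * g ^ c * x := by rw [hx]; group
    have hcomm : g * g ^ c = g ^ c * g := by rw [← pow_succ', ← pow_succ]
    calc x⁻¹ * g * x * a₀ = x⁻¹ * (g * g ^ c) * x := by rw [ha]; group
      _ = x⁻¹ * (g ^ c * g) * x := by rw [hcomm]
      _ = a₀ * (x⁻¹ * g * x) := by rw [ha]; group
  have hord : orderOf (x⁻¹ * g * x) = orderOf g := by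
    have h : x⁻¹ * g * x = MulAut.conj x⁻¹ g := by
      rw [MulAut.conj_apply, inv_inv]
    rw [h, MulEquiv.orderOf_eq]
  have h := orderOf_prod_dvd hK (e ⟨x⁻¹ * g * x, hgC⟩)
  rw [MulEquiv.orderOf_eq, Subgroup.orderOf_mk, hord] at h
  exact h

/-- **WP-J (b)**: there are elements of order `6` and of order `(q + 1)/2` -/
theorem ree_exists_order_six_plus (hm : 1 ≤ m) :
    (∃ g : ↥(twistedG2 K (3 ^ m)), orderOf g = 6) ∧
      (∃ g : ↥(twistedG2 K (3 ^ m)), orderOf g = (3 ^ (2 * m + 1) + 1) / 2) := by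
  have : CharP K 3 := charP3_of_card hK
  have : Fact (Nat.Prime 3) := ⟨Nat.prime_three⟩
  obtain ⟨k, hk⟩ := three_pow_mod_eight m
  have hgcd : Nat.gcd 2 (Fintype.card K - 1) = 2 := by
    rw [hK, hk]
    exact Nat.gcd_eq_left ⟨4 * k + 1, by omega⟩
  have h4 : 4 ≤ Fintype.card K := by
    have h27 : 3 ^ 3 ≤ 3 ^ (2 * m + 1) := Nat.pow_le_pow_right (by norm_num) (by omega)
    rw [hK]; omega
  obtain ⟨a₀, ha₀H, ha₀1, ha₀2⟩ := ReeSyl.exists_torus_involution hK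
  obtain ⟨⟨e⟩, -⟩ := Cfsg.Agent.S1152.result hK a₀ ha₀H ha₀1 ha₀2
  have hspec := PSL2_spectrum (F := K) 3 h4
  have h3mem : (3 : ℕ) ∈ Set.range (orderOf : ProjectiveSpecialLinearGroup (Fin 2) K → ℕ) := by
    rw [hspec]
    left
    exact dvd_rfl
  have hqmem : (3 ^ (2 * m + 1) + 1) / 2 ∈
      Set.range (orderOf : ProjectiveSpecialLinearGroup (Fin 2) K → ℕ) := by
    rw [hspec]
    right; right
    rw [hgcd, hK]
  obtain ⟨l3, hl3⟩ := h3mem
  obtain ⟨lq, hlq⟩ := hqmem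
  have key : ∀ x : Multiplicative (ZMod 2) × ProjectiveSpecialLinearGroup (Fin 2) K,
      ∃ g : ↥(twistedG2 K (3 ^ m)), orderOf g = orderOf x := by
    intro x
    refine ⟨((e.symm x : ↥(Subgroup.centralizer ({a₀} : Set ↥(twistedG2 K (3 ^ m))))) :
      ↥(twistedG2 K (3 ^ m))), ?_⟩
    rw [Subgroup.orderOf_coe, MulEquiv.orderOf_eq]
  constructor
  · obtain ⟨g, hg⟩ := key (Multiplicative.ofAdd (1 : ZMod 2), l3)
    refine ⟨g, ?_⟩
    rw [hg, Prod.orderOf]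
    show Nat.lcm (orderOf (Multiplicative.ofAdd (1 : ZMod 2))) (orderOf l3) = 6
    rw [orderOf_ofAdd_one, hl3]
    rfl
  · obtain ⟨g, hg⟩ := key (1, lq)
    refine ⟨g, ?_⟩
    rw [hg, Prod.orderOf]
    show Nat.lcm (orderOf (1 : Multiplicative (ZMod 2))) (orderOf lq) = _
    rw [orderOf_one, hlq, Nat.lcm_one_left]

end Ree

end Cfsg.Agent.Lib.Helper27.ReeEvenOrd
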