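/-
helper27: counting elements of order `2 j` (`j` odd) in a finite group through the pairs
(element `y` of order `j`, involution commuting with `y`).  Mathlib only.
-/
import Mathlib

set_option autoImplicit false

namespace Cfsg.Agent.Lib.Helper27.ReeTwoMul

section Abstract

variable {G : Type*} [Group G]

theorem gcd_two_mul_succ (j : ℕ) (hj : Odd j) : Nat.gcd (2 * j) (j + 1) = 2 := by
  obtain ⟨k, rfl⟩ := hj
  have h1 : 2 * k + 1 + 1 = 2 * (k + 1) := by ring
  rw [h1, Nat.gcd_mul_left]
  have h2 : Nat.gcd (2 * k + 1) (k + 1) = 1 := by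
    have h3 : 2 * k + 1 = k + (k + 1) := by ring
    rw [h3, Nat.gcd_add_self_left]
    exact (Nat.coprime_self_add_right.mpr (Nat.coprime_one_right k))
  rw [h2]

theorem orderOf_pow_succ (j : ℕ) (hj : Odd j) (g : G) (hg : orderOf g = 2 * j) :
    orderOf (g ^ (j + 1)) = j := by
  rw [orderOf_pow' g (by omega), hg, gcd_two_mul_succ j hj]
  omega

theorem orderOf_pow_self (j : ℕ) (hj : Odd j) (g : G) (hg : orderOf g = 2 * j) :
    orderOf (g ^ j) = 2 := by
  have hj0 : 0 < j := hj.pos
  rw [orderOf_pow' g hj0.ne', hg, Nat.gcd_mul_left_left]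
  exact Nat.mul_div_cancel 2 hj0

theorem orderOf_mul_involution (j : ℕ) (hj : Odd j) (y t : G) (hy : orderOf y = j)
    (ht : orderOf t = 2) (hc : t * y = y * t) : orderOf (y * t) = 2 * j := by
  have hcomm : Commute y t := hc.symm
  have hcop : Nat.Coprime (orderOf y) (orderOf t) := by
    rw [hy, ht]
    exact Nat.coprime_two_right.mpr hj
  rw [hcomm.orderOf_mul_eq_mul_orderOf_of_coprime hcop, hy, ht, mul_comm]

theorem mul_involution_pow_succ (j : ℕ) (hj : Odd j) (y t : G) (hy : orderOf y = j)
    (ht : orderOf t = 2) (hc : t * y = y * t) : (y * t) ^ (j + 1) = y := by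
  have hcomm : Commute y t := hc.symm
  have ht2 : t ^ 2 = 1 := by rw [← ht]; exact pow_orderOf_eq_one t
  have hyj : y ^ j = 1 := by rw [← hy]; exact pow_orderOf_eq_one y
  obtain ⟨k, hk⟩ := hj
  have h1 : j + 1 = 2 * (k + 1) := by omega
  rw [hcomm.mul_pow, pow_succ y j, hyj, one_mul, h1, pow_mul t 2, ht2, one_pow, mul_one]

theorem mul_involution_pow_self (j : ℕ) (hj : Odd j) (y t : G) (hy : orderOf y = j)
    (ht : orderOf t = 2) (hc : t * y = y * t) : (y * t) ^ j = t := by
  have hcomm : Commute y t := hc.symm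
  have ht2 : t ^ 2 = 1 := by rw [← ht]; exact pow_orderOf_eq_one t
  have hyj : y ^ j = 1 := by rw [← hy]; exact pow_orderOf_eq_one y
  obtain ⟨k, hk⟩ := hj
  rw [hcomm.mul_pow, hyj, one_mul, hk, pow_succ, pow_mul t 2, ht2, one_pow, one_mul]

/-- the fibre of `g ↦ g ^ (j+1)` over an element `y` of order `j` -/
noncomputable def fiberEquiv (j : ℕ) (hj : Odd j) (y : G) (hy : orderOf y = j) :
    {g : G // orderOf g = 2 * j ∧ g ^ (j + 1) = y} ≃ {t : G // orderOf t = 2 ∧ t * y = y * t} where
  toFun g := ⟨g.1 ^ j, orderOf_pow_self j hj g.1 g.2.1, by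
    obtain ⟨g, hg1, hg2⟩ := g
    show g ^ j * y = y * g ^ j
    rw [← hg2, ← pow_add, ← pow_add, add_comm]⟩
  invFun t := ⟨y * t.1, orderOf_mul_involution j hj y t.1 hy t.2.1 t.2.2,
    mul_involution_pow_succ j hj y t.1 hy t.2.1 t.2.2⟩
  left_inv g := by
    obtain ⟨g, hg1, hg2⟩ := g
    apply Subtype.ext
    show y * g ^ j = g
    rw [← hg2, ← pow_add]
    have h1 : j + 1 + j = 2 * j + 1 := by ring
    rw [h1, pow_succ, ← hg1, pow_orderOf_eq_one, one_mul]
  right_inv t := by
    apply Subtype.ext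
    show (y * t.1) ^ j = t.1
    exact mul_involution_pow_self j hj y t.1 hy t.2.1 t.2.2

/-- **counting elements of order `2 j`**: if every element of odd order `j` commutes with exactly
`c` involutions, then there are `c` times as many elements of order `2 j` as of order `j` -/
theorem card_orderOf_two_mul [Finite G] (j c : ℕ) (hj : Odd j)
    (h : ∀ y : G, orderOf y = j → Nat.card {t : G // orderOf t = 2 ∧ t * y = y * t} = c) :
    Nat.card {g : G // orderOf g = 2 * j} = c * Nat.card {g : G // orderOf g = j} := by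
  classical
  let f : {g : G // orderOf g = 2 * j} → {y : G // orderOf y = j} :=
    fun g => ⟨g.1 ^ (j + 1), orderOf_pow_succ j hj g.1 g.2⟩
  have e1 := (Equiv.sigmaFiberEquiv f).symm
  rw [Nat.card_congr e1]
  have : Fintype {y : G // orderOf y = j} := Fintype.ofFinite _
  rw [Nat.card_sigma]
  have hfib : ∀ y : {y : G // orderOf y = j},
      Nat.card {g : {g : G // orderOf g = 2 * j} // f g = y} = c := by
    intro y
    rw [← h y.1 y.2, ← Nat.card_congr (fiberEquiv j hj y.1 y.2)]
    apply Nat.card_congr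
    exact
      { toFun := fun g => ⟨g.1.1, g.1.2, congrArg Subtype.val g.2⟩
        invFun := fun g => ⟨⟨g.1, g.2.1⟩, Subtype.ext g.2.2⟩
        left_inv := fun g => rfl
        right_inv := fun g => rfl }
  rw [Finset.sum_congr rfl (fun y _ => hfib y), Finset.sum_const, Finset.card_univ,
    smul_eq_mul, Nat.card_eq_fintype_card, mul_comm]

end Abstract

end Cfsg.Agent.Lib.Helper27.ReeTwoMul
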