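/-
helper27: the number of elements of order `2 j` in the Ree group `²G₂(q)` for `j ∣ (q-1)/2`
(as many as of order `j`) and for `j ∣ (q+1)/4` (three times as many as of order `j`).
-/
import Cfsg.Agent.Lib.Helper27.ReeTwoMulA
import Cfsg.Agent.Lib.Helper27.ReeCentJ

set_option autoImplicit false

namespace Cfsg.Agent.Lib.Helper27.ReeTwoMul

open Cfsg Cfsg.Lie Matrix Cfsg.Agent.Lib.Helper7 Cfsg.Agent.Lib.Helper27.ReeCent

section General

variable {G : Type*} [Group G] [Finite G]

omit [Finite G] in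
/-- a power of `y` of prime order `p ∣ orderOf y` -/
theorem exists_pow_prime_order (y : G) (j : ℕ) (hj : 1 < j) (hy : orderOf y = j) :
    ∃ p e : ℕ, p.Prime ∧ p ∣ j ∧ orderOf (y ^ e) = p := by
  obtain ⟨p, hp, hpd⟩ := Nat.exists_prime_and_dvd (by omega : j ≠ 1)
  obtain ⟨e, he⟩ := hpd
  have he0 : e ≠ 0 := by rintro rfl; omega
  refine ⟨p, e, hp, ⟨e, he⟩, ?_⟩
  rw [orderOf_pow_of_dvd he0 (by rw [hy, he]; exact dvd_mul_left e p), hy, he]
  exact Nat.mul_div_cancel _ (Nat.pos_of_ne_zero he0)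

omit [Finite G] in
theorem mem_centralizer_pow (y t : G) (e : ℕ) (h : t * y = y * t) :
    t ∈ Subgroup.centralizer ({y ^ e} : Set G) := by
  rw [Subgroup.mem_centralizer_singleton_iff]
  have hc : Commute t y := h
  exact hc.pow_right e

/-- if `C(y^e)` is cyclic of even order, `y` commutes with exactly one involution -/
theorem card_involutions_of_cyclic (y : G) (e : ℕ)
    (hcyc : IsCyclic ↥(Subgroup.centralizer ({y ^ e} : Set G)))
    (heven : 2 ∣ Nat.card ↥(Subgroup.centralizer ({y ^ e} : Set G))) :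
    Nat.card {t : G // orderOf t = 2 ∧ t * y = y * t} = 1 := by
  classical
  have hyC : y ∈ Subgroup.centralizer ({y ^ e} : Set G) := mem_centralizer_pow y y e rfl
  have hcomm : ∀ a ∈ Subgroup.centralizer ({y ^ e} : Set G),
      ∀ b ∈ Subgroup.centralizer ({y ^ e} : Set G), a * b = b * a := by
    intro a ha b hb
    have := (IsCyclic.commGroup (α := ↥(Subgroup.centralizer ({y ^ e} : Set G)))).mul_comm
      ⟨a, ha⟩ ⟨b, hb⟩
    exact congrArg Subtype.val this
  have e1 : {t : G // orderOf t = 2 ∧ t * y = y * t} ≃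
      {c : ↥(Subgroup.centralizer ({y ^ e} : Set G)) // orderOf c = 2} :=
    { toFun := fun t => ⟨⟨t.1, mem_centralizer_pow y t.1 e t.2.2⟩, by
        rw [Subgroup.orderOf_mk]; exact t.2.1⟩
      invFun := fun c => ⟨c.1.1, by rw [Subgroup.orderOf_coe]; exact c.2,
        hcomm c.1.1 c.1.2 y hyC⟩
      left_inv := fun t => rfl
      right_inv := fun c => rfl }
  rw [Nat.card_congr e1]
  have : Fintype ↥(Subgroup.centralizer ({y ^ e} : Set G)) := Fintype.ofFinite _
  rw [Nat.card_eq_fintype_card] at heven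
  have h := IsCyclic.card_orderOf_eq_totient (α := ↥(Subgroup.centralizer ({y ^ e} : Set G))) heven
  rw [Nat.totient_two] at h
  rw [Nat.card_eq_fintype_card, Fintype.card_subtype]
  exact h

/-- if `C(y^e)` is commutative of order `4 n` (`n` odd) and the 2-elements of `G` are involutions,
`y` commutes with exactly three involutions -/
theorem card_involutions_of_comm (y : G) (e n : ℕ) (hn : Odd n)
    (hcomm : ∀ a ∈ Subgroup.centralizer ({y ^ e} : Set G),
      ∀ b ∈ Subgroup.centralizer ({y ^ e} : Set G), a * b = b * a)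
    (hcard : Nat.card ↥(Subgroup.centralizer ({y ^ e} : Set G)) = 4 * n)
    (hexp : ∀ S : Sylow 2 G, ∀ x ∈ S, x * x = 1) :
    Nat.card {t : G // orderOf t = 2 ∧ t * y = y * t} = 3 := by
  classical
  haveI : Fact (Nat.Prime 2) := ⟨Nat.prime_two⟩
  have hyC : y ∈ Subgroup.centralizer ({y ^ e} : Set G) := mem_centralizer_pow y y e rfl
  -- the subgroup of elements of `C` of square 1
  let T : Subgroup G :=
    { carrier := {c | c ∈ Subgroup.centralizer ({y ^ e} : Set G) ∧ c * c = 1}
      mul_mem' := by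
        rintro a b ⟨ha, ha2⟩ ⟨hb, hb2⟩
        refine ⟨Subgroup.mul_mem _ ha hb, ?_⟩
        calc a * b * (a * b) = a * (b * a) * b := by group
          _ = a * (a * b) * b := by rw [hcomm b hb a ha]
          _ = (a * a) * (b * b) := by group
          _ = 1 := by rw [ha2, hb2, one_mul]
      one_mem' := ⟨Subgroup.one_mem _, one_mul 1⟩
      inv_mem' := by
        rintro a ⟨ha, ha2⟩
        refine ⟨Subgroup.inv_mem _ ha, ?_⟩
        rw [← _root_.mul_inv_rev, ha2, inv_one] }
  have hTmem : ∀ c : G, c ∈ T ↔ c ∈ Subgroup.centralizer ({y ^ e} : Set G) ∧ c * c = 1 :=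
    fun c => Iff.rfl
  have hTle : T ≤ Subgroup.centralizer ({y ^ e} : Set G) := fun c hc => hc.1
  have hT2 : IsPGroup 2 T := by
    intro g
    refine ⟨1, ?_⟩
    apply Subtype.ext
    rw [pow_one, pow_two]
    exact g.2.2
  obtain ⟨a, ha⟩ := IsPGroup.iff_card.mp hT2
  have hTdvd : Nat.card T ∣ 4 * n := hcard ▸ Subgroup.card_dvd_of_le hTle
  have hTdvd4 : Nat.card T ∣ 4 := by
    rw [ha] at hTdvd ⊢
    refine Nat.Coprime.dvd_of_dvd_mul_right ?_ hTdvd
    exact Nat.Coprime.pow_left a (Nat.coprime_two_left.mpr hn)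
  -- a subgroup of order 4 of `C`
  have h4 : 2 ^ 2 ∣ Nat.card ↥(Subgroup.centralizer ({y ^ e} : Set G)) := by
    rw [hcard]; exact dvd_mul_right _ _
  obtain ⟨Q, hQ⟩ := Sylow.exists_subgroup_card_pow_prime 2 h4
  have hQ'card : Nat.card (Q.map (Subgroup.centralizer ({y ^ e} : Set G)).subtype) = 2 ^ 2 := by
    rw [Subgroup.card_map_of_injective (Subgroup.subtype_injective _), hQ]
  have hQ'p : IsPGroup 2 (Q.map (Subgroup.centralizer ({y ^ e} : Set G)).subtype) :=
    IsPGroup.of_card hQ'card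
  obtain ⟨S, hS⟩ := hQ'p.exists_le_sylow
  have hQ'T : Q.map (Subgroup.centralizer ({y ^ e} : Set G)).subtype ≤ T := by
    intro x hx
    refine ⟨?_, hexp S x (hS hx)⟩
    obtain ⟨c, -, rfl⟩ := hx
    exact c.2
  have h4T : 4 ∣ Nat.card T := by
    have := Subgroup.card_dvd_of_le hQ'T
    rw [hQ'card] at this
    exact this
  have hTcard : Nat.card T = 4 := Nat.dvd_antisymm hTdvd4 h4T
  -- involutions commuting with `y` are the nontrivial elements of `T`
  have e1 : {t : G // orderOf t = 2 ∧ t * y = y * t} ≃ {c : ↥T // c ≠ 1} :=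
    { toFun := fun t => ⟨⟨t.1, mem_centralizer_pow y t.1 e t.2.2, by
          have := pow_orderOf_eq_one t.1
          rw [t.2.1, pow_two] at this
          exact this⟩, by
        intro h
        have h1 : t.1 = 1 := congrArg Subtype.val h
        have h2 := t.2.1
        rw [h1, orderOf_one] at h2
        omega⟩
      invFun := fun c => ⟨c.1.1, by
          apply orderOf_eq_prime
          · rw [pow_two]; exact c.1.2.2
          · intro h
            exact c.2 (Subtype.ext h),
        hcomm c.1.1 c.1.2.1 y hyC⟩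
      left_inv := fun t => rfl
      right_inv := fun c => rfl }
  rw [Nat.card_congr e1]
  have : Fintype ↥T := Fintype.ofFinite _
  have h := Set.card_ne_eq (1 : ↥T)
  rw [Nat.card_eq_fintype_card]
  rw [Nat.card_eq_fintype_card] at hTcard
  rw [hTcard] at h
  exact h

end General

section Ree

variable {K : Type*} [Field K] [Fintype K] {m : ℕ} (hK : Fintype.card K = 3 ^ (2 * m + 1))

include hK

/-- **WP-O (minus)**: for `1 < j ∣ (q-1)/2` there are as many elements of order `2 j` as of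
order `j` -/
theorem ree_card_order_two_mul_minus (j : ℕ) (hj : 1 < j) (hjd : j ∣ (3 ^ (2 * m + 1) - 1) / 2) :
    Nat.card {g : ↥(twistedG2 K (3 ^ m)) // orderOf g = 2 * j} =
      Nat.card {g : ↥(twistedG2 K (3 ^ m)) // orderOf g = j} := by
  obtain ⟨k, hk⟩ := three_pow_mod_eight m
  have e2 : (3 ^ (2 * m + 1) - 1) / 2 = 4 * k + 1 := by omega
  have hjodd : Odd j := by
    rw [e2] at hjd
    exact Odd.of_dvd_nat ⟨2 * k, by ring⟩ hjd
  rw [card_orderOf_two_mul j 1 hjodd, one_mul]
  intro y hy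
  obtain ⟨p, e, hp, hpj, hye⟩ := exists_pow_prime_order y j hj hy
  obtain ⟨hcyc, hcard⟩ := ree_cent_prime_torus hK (y ^ e) p hp hye (dvd_trans hpj hjd)
  apply card_involutions_of_cyclic y e hcyc
  rw [hcard]
  omega

/-- **WP-O (plus)**: for `1 < i ∣ (q+1)/4` there are three times as many elements of order `2 i`
as of order `i` -/
theorem ree_card_order_two_mul_plus (hm : 1 ≤ m) (i : ℕ) (hi : 1 < i)
    (hid : i ∣ (3 ^ (2 * m + 1) + 1) / 4) :
    Nat.card {g : ↥(twistedG2 K (3 ^ m)) // orderOf g = 2 * i} =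
      3 * Nat.card {g : ↥(twistedG2 K (3 ^ m)) // orderOf g = i} := by
  obtain ⟨k, hk⟩ := three_pow_mod_eight m
  have e4 : (3 ^ (2 * m + 1) + 1) / 4 = 2 * k + 1 := by omega
  have hiodd : Odd i := by
    rw [e4] at hid
    exact Odd.of_dvd_nat ⟨k, rfl⟩ hid
  obtain ⟨a₀, ha₀H, ha₀1, ha₀2⟩ := ReeSyl.exists_torus_involution hK
  have hsyl := (Cfsg.Agent.S1152.result hK a₀ ha₀H ha₀1 ha₀2).2
  apply card_orderOf_two_mul i 3 hiodd
  intro y hy
  obtain ⟨p, e, hp, hpi, hye⟩ := exists_pow_prime_order y i hi hy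
  obtain ⟨hcomm, hcard⟩ := ree_cent_prime_plus hK hm (y ^ e) p hp hye (dvd_trans hpi hid)
  apply card_involutions_of_comm y e (2 * k + 1) ⟨k, rfl⟩ hcomm
  · rw [hcard, hk]; ring
  · intro S x hx
    exact (hsyl S).2 x hx

end Ree

end Cfsg.Agent.Lib.Helper27.ReeTwoMul
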