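/-
helper27: S4607 leaf C1: a block with exactly two irreducible characters has p-regular rank one
(corollary of the done row S4733: l ≤ k, and k = l iff defect zero iff k = l = 1).
-/
import Cfsg.Agent.S4733

set_option autoImplicit false

namespace Cfsg.Agent.Lib.Helper27.BlkGlueC1

open Cfsg

universe u

theorem blockRank_eq_one_of_card_two {G : Type u} [Group G] [Fintype G] (p : ℕ) [Fact p.Prime]
    (M : Ideal AlgInt) (hM : IsPModular p M) (B : Set (IrrCharacter G)) (hB : IsPBlock M B)
    (h2 : Nat.card B = 2) : blockRank p B = 1 := by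
  classical
  obtain ⟨hle, h1, h3⟩ := Cfsg.Agent.S4733.result p M hM B hB
  -- l ≠ 2
  have hne : blockRank p B ≠ 2 := by
    intro h
    have hd : blockDefect p B = 0 := h3.mpr (by rw [h2, h])
    have := (h1.mp hd).1
    omega
  -- l ≥ 1
  have hpos : 0 < blockRank p B := by
    have hBne : B.Nonempty := by
      by_contra hcon
      rw [Set.not_nonempty_iff_eq_empty] at hcon
      rw [hcon] at h2
      simp at h2
    obtain ⟨χ, hχ⟩ := hBne
    unfold blockRank
    rw [Module.finrank_pos_iff_exists_ne_zero]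
    refine ⟨⟨pRegularPart p (χ : G → ℂ), Submodule.subset_span ⟨χ, hχ, rfl⟩⟩, ?_⟩
    intro h0
    have h4 : pRegularPart p (χ : G → ℂ) = 0 := congrArg Subtype.val h0
    have h5 : pRegularPart p (χ : G → ℂ) 1 = 0 := by rw [h4]; rfl
    have hreg : IsPRegular p (1 : G) := by
      unfold IsPRegular
      rw [orderOf_one]
      exact (Fact.out : p.Prime).one_lt.ne' ∘ Nat.dvd_one.mp
    unfold pRegularPart at h5
    rw [if_pos hreg] at h5
    obtain ⟨d, hdpos, hd⟩ := Cfsg.Agent.CharLib.IsIrrCharacter.apply_one_pos χ.2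
    rw [hd] at h5
    exact hdpos.ne' (by exact_mod_cast h5)
  rw [h2] at hle
  omega

end Cfsg.Agent.Lib.Helper27.BlkGlueC1
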