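/-
helper27: S4607 leaf B6: the reduced block idempotent is a primitive idempotent of the centre of
the group algebra over the residue field.
-/
import Cfsg.Agent.Lib.Helper27.BlkAlgDefs2
import Cfsg.Agent.Lib.Helper18.BlkAlgB3
import Cfsg.Agent.Lib.Helper6.NilIdem

set_option autoImplicit false

namespace Cfsg.Agent.Lib.Helper27.BlkAlgB6

open Cfsg Cfsg.Agent.Lib.Helper6 Cfsg.Agent.Lib.Helper24 Cfsg.Agent.CharLib
open Cfsg.Agent.Lib.Helper27.BlkAlg Cfsg.Agent.Lib.Helper18.BlkAlgB2 Cfsg.Agent.Lib.Helper18.BlkAlgB3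

universe u

variable (M : Ideal AlgInt) [M.IsMaximal] {G : Type u} [Group G] [Fintype G]

/-- a class function with values in the local ideal has central character values in the local
ideal -/
theorem memLocalIdeal_omegaFun_of_ideal (ξ : IrrCharacter G) {c : G → ℂ}
    (hc : IsClassFunction G c) (h : ∀ x, MemLocalIdeal M (c x)) :
    MemLocalIdeal M (omegaFun (ξ : G → ℂ) c) :=
  memLocalIdeal_omegaFun_of_forall ξ hc (fun x => memLocalRing_of_memLocalIdeal (h x))
    (fun x => Or.inl (h x))

/-- the key step: an idempotent class function mod the ideal, all of whose central character values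
lie in the ideal, reduces to zero -/
theorem redFun_eq_zero_of_omega {β : G → ℂ} (hβ : IsClassFunction G β)
    (hβR : ∀ g, MemLocalRing M (β g)) (hidem : redFun M β * redFun M β = redFun M β)
    (hω : ∀ ξ : IrrCharacter G, MemLocalIdeal M (omegaFun (ξ : G → ℂ) β)) : redFun M β = 0 := by
  have h1 : ∀ x, MemLocalIdeal M (conv β β x - β x) := by
    rw [← redFun_conv M hβR hβR] at hidem
    exact (redFun_eq_iff M (fun g => memLocalRing_conv hβR hβR g) hβR).mp hidem
  have h2 := memLocalIdeal_of_idempotent hβ hβR h1 hω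
  rw [← redFun_zero M (G := G)]
  refine (redFun_eq_iff M hβR (b := (0 : G → ℂ)) (fun _ => memLocalRing_zero)).mpr ?_
  intro g
  simpa using h2 g

variable {p : ℕ} [Fact p.Prime]

theorem ebar_primitive (hM : IsPModular p M) {B : Set (IrrCharacter G)} (hB : IsPBlock M B)
    (ε : MonoidAlgebra (ResField M) G)
    (hεc : ε ∈ Subalgebra.center (ResField M) (MonoidAlgebra (ResField M) G))
    (hε : ε * ε = ε) (hεe : ebar M B * ε = ε) : ε = 0 ∨ ε = ebar M B := by
  classical
  obtain ⟨β, hβ, hβR, rfl⟩ := exists_classFunction_lift M ε hεc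
  obtain ⟨χ₀, rfl⟩ := hB
  set B := blockOf M (χ₀ : G → ℂ) with hBdef
  have heR : ∀ g, MemLocalRing M (blockCoeff B g) := fun g => memLocalRing_blockCoeff_blockOf χ₀ g
  have heC : IsClassFunction G (blockCoeff B) := blockCoeff_isClassFunction B
  -- idempotent mod the ideal
  have hidem : ∀ x, MemLocalIdeal M (conv β β x - β x) := by
    have := hε
    rw [← redFun_conv M hβR hβR] at this
    exact (redFun_eq_iff M (fun g => memLocalRing_conv hβR hβR g) hβR).mp this
  -- e_B β ≡ β
  have heβ : ∀ x, MemLocalIdeal M (conv (blockCoeff B) β x - β x) := by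
    have := hεe
    unfold ebar at this
    rw [← redFun_conv M heR hβR] at this
    exact (redFun_eq_iff M (fun g => memLocalRing_conv heR hβR g) hβR).mp this
  have hωR : ∀ ξ : IrrCharacter G, MemLocalRing M (omegaFun (ξ : G → ℂ) β) :=
    fun ξ => memLocalRing_omegaFun ξ hβ hβR
  -- outside the block
  have hout : ∀ ξ : IrrCharacter G, ξ ∉ B → MemLocalIdeal M (omegaFun (ξ : G → ℂ) β) := by
    intro ξ hξ
    have h1 : MemLocalIdeal M (omegaFun (ξ : G → ℂ) (conv (blockCoeff B) β - β)) :=
      memLocalIdeal_omegaFun_of_ideal M ξ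
        (IsClassFunction.sub (conv_isClassFunction heC hβ) hβ) (fun x => heβ x)
    rw [omegaFun_sub, omegaFun_conv ξ heC hβ, omegaFun_blockCoeff, if_neg hξ, zero_mul,
      zero_sub] at h1
    have := memLocalIdeal_neg h1
    rwa [neg_neg] at this
  -- on the block: 0 or 1
  have hdich : ∀ ξ : IrrCharacter G, MemLocalIdeal M (omegaFun (ξ : G → ℂ) β) ∨
      MemLocalIdeal M (omegaFun (ξ : G → ℂ) β - 1) := by
    intro ξ
    have h1 : MemLocalIdeal M (omegaFun (ξ : G → ℂ) (conv β β - β)) :=
      memLocalIdeal_omegaFun_of_ideal M ξ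
        (IsClassFunction.sub (conv_isClassFunction hβ hβ) hβ) (fun x => hidem x)
    rw [omegaFun_sub, omegaFun_conv ξ hβ hβ] at h1
    have h2 : omegaFun (ξ : G → ℂ) β * omegaFun (ξ : G → ℂ) β - omegaFun (ξ : G → ℂ) β =
        omegaFun (ξ : G → ℂ) β * (omegaFun (ξ : G → ℂ) β - 1) := by ring
    rw [h2] at h1
    exact memLocalIdeal_or_of_mul (hωR ξ) (memLocalRing_sub (hωR ξ) memLocalRing_one) h1
  -- constant on the block
  have hconst : ∀ ξ : IrrCharacter G, ξ ∈ B →
      MemLocalIdeal M (omegaFun (ξ : G → ℂ) β - omegaFun (χ₀ : G → ℂ) β) := by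
    intro ξ hξ
    exact memLocalIdeal_omegaFun_sub ξ χ₀ (fun g => sameBlock_symm hξ g) hβ hβR
  rcases hdich χ₀ with h0 | h1
  · -- all omega values in the ideal
    left
    apply redFun_eq_zero_of_omega M hβ hβR hε
    intro ξ
    by_cases hξ : ξ ∈ B
    · have := memLocalIdeal_add (hconst ξ hξ) h0
      rwa [sub_add_cancel] at this
    · exact hout ξ hξ
  · -- complement
    right
    set β' : G → ℂ := blockCoeff B - β with hβ'
    have hβ'C : IsClassFunction G β' := IsClassFunction.sub heC hβ
    have hβ'R : ∀ g, MemLocalRing M (β' g) := fun g => memLocalRing_sub (heR g) (hβR g)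
    have hsum : redFun M β' + redFun M β = ebar M B := by
      rw [← redFun_add M hβ'R hβR]
      unfold ebar
      congr 1
      rw [hβ']
      abel
    have hcomm : redFun M β * ebar M B = redFun M β := by
      rw [← ebar_comm M B]; exact hεe
    have hβ'eq : redFun M β' = ebar M B - redFun M β := eq_sub_of_add_eq hsum
    have hidem' : redFun M β' * redFun M β' = redFun M β' := by
      rw [hβ'eq, mul_sub, sub_mul, sub_mul, ebar_mul_self M hM ⟨χ₀, rfl⟩, hεe, hcomm, hε]
      abel
    have h0' : redFun M β' = 0 := by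
      apply redFun_eq_zero_of_omega M hβ'C hβ'R hidem'
      intro ξ
      rw [hβ', omegaFun_sub, omegaFun_blockCoeff]
      by_cases hξ : ξ ∈ B
      · rw [if_pos hξ]
        have h2 := memLocalIdeal_add (hconst ξ hξ) h1
        have h3 : omegaFun (ξ : G → ℂ) β - omegaFun (χ₀ : G → ℂ) β + (omegaFun (χ₀ : G → ℂ) β - 1) =
            omegaFun (ξ : G → ℂ) β - 1 := by ring
        rw [h3] at h2
        have := memLocalIdeal_neg h2
        rwa [neg_sub] at this
      · rw [if_neg hξ, zero_sub]
        exact memLocalIdeal_neg (hout ξ hξ)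
    rw [hβ'eq, sub_eq_zero] at h0'
    exact h0'.symm

end Cfsg.Agent.Lib.Helper27.BlkAlgB6
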