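/-
helper27: S4607 part B assembly, core: `k(B) = 2 ⇒ ∑_{χ ∈ B} χ(1)² = 2 n²`, with the three
dimension/primitivity leaves (B5a, B5b, B6) as hypotheses.
Leaves plugged in: helper19 (B1, B7), helper18 (B2, B3), helper23 (B8), part A (`SymAlgMain`).
-/
import Cfsg.Agent.Lib.Helper27.SymAlgMain
import Cfsg.Agent.Lib.Helper27.BlkAlgDefs2
import Cfsg.Agent.Lib.Helper19.BlkAlgB1
import Cfsg.Agent.Lib.Helper19.BlkAlgB7
import Cfsg.Agent.Lib.Helper18.BlkAlgB3
import Cfsg.Agent.Lib.Helper23.BlkAlgB8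

set_option autoImplicit false

namespace Cfsg.Agent.Lib.Helper27.BlkAlgMain

open Cfsg Cfsg.Agent.Lib.Helper6 Cfsg.Agent.Lib.Helper24
open Cfsg.Agent.Lib.Helper27.SymAlg Cfsg.Agent.Lib.Helper27.BlkAlg

universe u

theorem blockDegSq_eq_two_mul_sq_of (M : Ideal AlgInt) [M.IsMaximal] {G : Type u} [Group G]
    [Fintype G] [Fintype (IrrCharacter G)] {p : ℕ} [Fact p.Prime] (hM : IsPModular p M)
    {B : Set (IrrCharacter G)} (hB : IsPBlock M B) (h2 : Nat.card B = 2)
    (hB5a : Module.finrank (ResField M)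
        ↥(LinearMap.range (LinearMap.mulLeft (ResField M) (ebar M B))) = blockDegSq B)
    (hB5b : Module.finrank (ResField M)
        ↥((Subalgebra.toSubmodule (Subalgebra.center (ResField M)
            (MonoidAlgebra (ResField M) G))).map (LinearMap.mulLeft (ResField M) (ebar M B))) =
      Nat.card B)
    (hB6 : ∀ ε : MonoidAlgebra (ResField M) G,
      ε ∈ Subalgebra.center (ResField M) (MonoidAlgebra (ResField M) G) →
      ε * ε = ε → ebar M B * ε = ε → ε = 0 ∨ ε = ebar M B) :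
    ∃ n : ℕ, blockDegSq B = 2 * n ^ 2 := by
  have := Cfsg.Agent.Lib.Helper19.BlkAlgB1.isAlgClosed_resField M
  have he : IsIdempotentElem (ebar M B) := Cfsg.Agent.Lib.Helper18.BlkAlgB3.ebar_mul_self M hM hB
  have hc := Cfsg.Agent.Lib.Helper18.BlkAlgB3.ebar_comm M B
  have := Cfsg.Agent.Lib.Helper23.BlkAlgB8.finiteDimensional_corner (F := ResField M) he
  obtain ⟨n, hn⟩ := Cfsg.Agent.Lib.Helper27.SymAlgMain.finrank_eq_two_mul_sq
    (F := ResField M) (B := he.Corner)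
    (Cfsg.Agent.Lib.Helper23.BlkAlgB8.isSymForm_corner he hc
      (Cfsg.Agent.Lib.Helper19.BlkAlgB7.isSymForm_coeffOne (ResField M) G))
    (by rw [Cfsg.Agent.Lib.Helper23.BlkAlgB8.finrank_center_corner he hc, hB5b, h2])
    (Cfsg.Agent.Lib.Helper23.BlkAlgB8.corner_prim he hc (fun ε h1 h2 h3 => hB6 ε h1 h2 h3))
  exact ⟨n, by rw [← hB5a, ← Cfsg.Agent.Lib.Helper23.BlkAlgB8.finrank_corner he hc, hn]⟩

end Cfsg.Agent.Lib.Helper27.BlkAlgMain
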