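/-
helper27: S4607 part B, final: `k(B) = 2 ⇒ ∑_{χ ∈ B} χ(1)² = 2 n²`
(B5a helper24, B5b helper22, B6 helper27 plugged into `BlkAlgMainCore`).
-/
import Cfsg.Agent.Lib.Helper27.BlkAlgMainCore
import Cfsg.Agent.Lib.Helper27.BlkAlgB6
import Cfsg.Agent.Lib.Helper24.BlkAlgB5a
import Cfsg.Agent.Lib.Helper22.BlkAlgB5b

set_option autoImplicit false

namespace Cfsg.Agent.Lib.Helper27.BlkAlgMain

open Cfsg Cfsg.Agent.Lib.Helper6 Cfsg.Agent.Lib.Helper24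
open Cfsg.Agent.Lib.Helper27.SymAlg Cfsg.Agent.Lib.Helper27.BlkAlg

universe u

theorem blockDegSq_eq_two_mul_sq (M : Ideal AlgInt) {G : Type u} [Group G]
    [Fintype G] [Fintype (IrrCharacter G)] {p : ℕ} [Fact p.Prime] (hM : IsPModular p M)
    {B : Set (IrrCharacter G)} (hB : IsPBlock M B) (h2 : Nat.card B = 2) :
    ∃ n : ℕ, blockDegSq B = 2 * n ^ 2 := by
  have : M.IsMaximal := hM.2.1
  exact blockDegSq_eq_two_mul_sq_of M hM hB h2
    (Cfsg.Agent.Lib.Helper24.BlkAlgB5a.finrank_block M hM hB)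
    (Cfsg.Agent.Lib.Helper22.BlkAlgB5b.finrank_center_block M hM hB)
    (fun ε h1 h2 h3 => Cfsg.Agent.Lib.Helper27.BlkAlgB6.ebar_primitive M hM hB ε h1 h2 h3)

end Cfsg.Agent.Lib.Helper27.BlkAlgMain
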