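/-
helper27: S4607 leaf C4: a block with a defect group of order 2 has exactly two irreducible
characters.  (p = 2, defect 1; all characters have height zero (S0914); Broue's inequality S4716
with the major subsection (z, b), D = ⟨z⟩, l(b) = 1 (S4669) gives k(B)² ≤ 4; k(B) ≠ 1 by S4733.)
-/
import Cfsg.Agent.S4716
import Cfsg.Agent.S0914
import Cfsg.Agent.S4669
import Cfsg.Agent.S4733
import Cfsg.Agent.Lib.Helper6.HKFirstMain
import Cfsg.Agent.Lib.Helper6.DefectOrder

set_option autoImplicit false

namespace Cfsg.Agent.Lib.Helper27.BlkGlueC4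

open Cfsg Cfsg.Agent.Lib.Helper6 Cfsg.Agent.Lib.Helper24

universe u

variable {G : Type u} [Group G] [Fintype G]

/-- positivity of the p-regular rank of a nonempty set of irreducible characters -/
theorem blockRank_pos (p : ℕ) [Fact p.Prime] (B : Set (IrrCharacter G)) (hBne : B.Nonempty) :
    0 < blockRank p B := by
  obtain ⟨χ, hχ⟩ := hBne
  unfold blockRank
  rw [Module.finrank_pos_iff_exists_ne_zero]
  refine ⟨⟨pRegularPart p (χ : G → ℂ), Submodule.subset_span ⟨χ, hχ, rfl⟩⟩, ?_⟩
  intro h0
  have h4 : pRegularPart p (χ : G → ℂ) = 0 := congrArg Subtype.val h0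
  have h5 : pRegularPart p (χ : G → ℂ) 1 = 0 := by rw [h4]; rfl
  have hreg : IsPRegular p (1 : G) := by
    unfold IsPRegular
    rw [orderOf_one]
    exact (Fact.out : p.Prime).one_lt.ne' ∘ Nat.dvd_one.mp
  unfold pRegularPart at h5
  rw [if_pos hreg] at h5
  obtain ⟨d, hdpos, hd⟩ := Cfsg.Agent.CharLib.IsIrrCharacter.apply_one_pos χ.2
  rw [hd] at h5
  exact hdpos.ne' (by exact_mod_cast h5)

/-- in a block of defect one every character has height zero -/
theorem blockHeight_eq_zero_of_defect_one (p : ℕ) [Fact p.Prime] (M : Ideal AlgInt)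
    (hM : IsPModular p M) (B : Set (IrrCharacter G)) (hB : IsPBlock M B)
    (hd : blockDefect p B = 1) (χ : IrrCharacter G) (hχ : χ ∈ B) :
    blockHeight p B (χ : G → ℂ) = 0 := by
  classical
  have hprime : M.IsPrime := isPrime_of_isPModular hM
  have hp : p.Prime := Fact.out
  set S := (fun ψ : IrrCharacter G => (charDegree (ψ : G → ℂ)).factorization p) '' B with hS
  have hχS : (charDegree (χ : G → ℂ)).factorization p ∈ S := ⟨χ, hχ, rfl⟩
  have hmin : sInf S ≤ (charDegree (χ : G → ℂ)).factorization p := Nat.sInf_le hχS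
  unfold blockHeight
  rw [← hS]
  unfold blockDefect at hd
  rw [← hS] at hd
  -- ν(χ(1)) ≤ a
  have hdvd := irr_charDegree_dvd_card χ
  have hGpos : Nat.card G ≠ 0 := Nat.card_pos.ne'
  have hle : (charDegree (χ : G → ℂ)).factorization p ≤ (Nat.card G).factorization p :=
    (Nat.factorization_le_iff_dvd (irr_charDegree_pos χ).ne' hGpos).mpr hdvd p
  by_contra hne
  -- then ν(χ(1)) = a
  have heq : (charDegree (χ : G → ℂ)).factorization p = (Nat.card G).factorization p := by omega
  -- so p ∤ |G| / χ(1)
  have hnd : ¬ p ∣ Nat.card G / charDegree (χ : G → ℂ) := by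
    intro hdv
    obtain ⟨k, hk⟩ := hdvd
    have hd0 : charDegree (χ : G → ℂ) ≠ 0 := (irr_charDegree_pos χ).ne'
    have hk0 : k ≠ 0 := by
      rintro rfl
      rw [mul_zero] at hk
      exact hGpos hk
    rw [hk, Nat.mul_div_cancel_left k (Nat.pos_of_ne_zero hd0)] at hdv
    have h1 : (Nat.card G).factorization p =
        (charDegree (χ : G → ℂ)).factorization p + k.factorization p := by
      rw [hk, Nat.factorization_mul hd0 hk0]
      rfl
    have h2 : 0 < k.factorization p := hp.factorization_pos_of_dvd hk0 hdv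
    omega
  have hsingle := (Cfsg.Agent.S0914.result p M hM χ).mp hnd
  have hBeq : B = {χ} := by
    rw [← hsingle]
    exact isPBlock_eq_of_mem hB ⟨χ, rfl⟩ hχ (mem_blockOf_self χ)
  have hSeq : S = {(charDegree (χ : G → ℂ)).factorization p} := by
    rw [hS, hBeq]
    simp
  rw [hSeq, csInf_singleton] at hd
  omega

theorem card_block_eq_two (p : ℕ) [Fact p.Prime]
    (M : Ideal AlgInt) (hM : IsPModular p M) (B : Set (IrrCharacter G)) (hB : IsPBlock M B)
    (D : Subgroup G) (hD : IsDefectGroup p M B D) (h2 : Nat.card D = 2) : Nat.card B = 2 := by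
  classical
  have hprime : M.IsPrime := isPrime_of_isPModular hM
  have hp : p.Prime := Fact.out
  -- defect one, p = 2
  have hcard := card_defectGroup_eq hM B hB D hD
  rw [h2] at hcard
  have hp2 : p = 2 := by
    have hd0 : blockDefect p B ≠ 0 := by
      intro h0
      rw [h0, pow_zero] at hcard
      omega
    have : p ∣ 2 := by
      rw [hcard]
      exact dvd_pow_self p hd0
    exact (Nat.prime_dvd_prime_iff_eq hp Nat.prime_two).mp this
  have hd1 : blockDefect p B = 1 := by
    rw [hp2] at hcard
    have : (2 : ℕ) ^ 1 = 2 ^ blockDefect 2 B := by simpa using hcard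
    have := Nat.pow_right_injective (le_refl 2) this
    rw [hp2]
    exact this.symm
  -- the involution
  have hDp : IsPGroup p D := by
    obtain ⟨g, -, S, hS⟩ := hD
    rw [hS]
    exact S.isPGroup'.map _
  obtain ⟨z, hzD, hz1⟩ : ∃ z : G, z ∈ D ∧ z ≠ 1 := by
    by_contra hcon
    push Not at hcon
    have : D = ⊥ := by
      rw [Subgroup.eq_bot_iff_forall]
      exact hcon
    rw [this] at h2
    simp at h2
  have hzord : orderOf z = 2 := by
    have h1 : orderOf z ∣ 2 := by
      rw [← h2]
      have := Subgroup.orderOf_dvd_natCard D hzD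
      exact this
    rcases (Nat.dvd_prime Nat.prime_two).mp h1 with h | h
    · exact absurd (orderOf_eq_one_iff.mp h) hz1
    · exact h
  have hDmem : ∀ x ∈ D, x = 1 ∨ x = z := by
    intro x hx
    by_contra hcon
    push Not at hcon
    have hsub : ({1, z, x} : Set G) ⊆ (D : Set G) := by
      intro y hy
      rcases hy with rfl | rfl | rfl
      · exact D.one_mem
      · exact hzD
      · exact hx
    have hfinD : (D : Set G).Finite := Set.toFinite _
    have h3 : ({1, z, x} : Set G).ncard = 3 := by
      rw [Set.ncard_eq_three]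
      exact ⟨1, z, x, fun h => hz1 h.symm, fun h => hcon.1 h.symm, fun h => hcon.2 h.symm, rfl⟩
    have h4 := Set.ncard_le_ncard hsub hfinD
    rw [h3] at h4
    have h5 : (D : Set G).ncard = Nat.card D := by
      rw [← Nat.card_coe_set_eq]
      rfl
    omega
  set H := Subgroup.centralizer ({z} : Set G) with hH
  have hNH : Subgroup.normalizer (D : Set G) ≤ H := by
    intro g hg
    rw [hH, Subgroup.mem_centralizer_iff]
    intro y hy
    rw [Set.mem_singleton_iff] at hy
    subst hy
    have h1 : g * y * g⁻¹ ∈ D := (Subgroup.mem_normalizer_iff.mp hg y).mp hzD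
    rcases hDmem _ h1 with h | h
    · exfalso
      apply hz1
      have := congrArg (fun t => g⁻¹ * t * g) h
      simpa [mul_assoc] using this
    · have : g * y = y * g := by
        have := congrArg (fun t => t * g) h
        simpa [mul_assoc] using this
      exact this.symm
  obtain ⟨c, hc, hcD, hind⟩ := HKFirstMain.exists_block_H_induced hM D H hDp hNH B hB hD
  have hDH : D ≤ H := Subgroup.le_normalizer.trans hNH
  have hcardDH : Nat.card (D.subgroupOf H) = 2 := by
    rw [← h2]
    exact Nat.card_congr (Subgroup.subgroupOfEquivOfLe hDH).toEquiv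
  have hcd : blockDefect p c = 1 := by
    have h := card_defectGroup_eq hM c hc (D.subgroupOf H) hcD
    rw [hcardDH, hp2] at h
    have : (2 : ℕ) ^ 1 = 2 ^ blockDefect 2 c := by simpa using h
    have := Nat.pow_right_injective (le_refl 2) this
    rw [hp2]
    exact this.symm
  have hcentral : D.subgroupOf H ≤ Subgroup.center H := by
    intro x hx
    rw [Subgroup.mem_subgroupOf] at hx
    rw [Subgroup.mem_center_iff]
    intro y
    apply Subtype.ext
    rw [Subgroup.coe_mul, Subgroup.coe_mul]
    rcases hDmem _ hx with h | h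
    · rw [h, one_mul, mul_one]
    · rw [h]
      have := Subgroup.mem_centralizer_iff.mp y.2 z (Set.mem_singleton z)
      exact this.symm
  have hcl : blockRank p c = 1 :=
    Cfsg.Agent.S4669.result p M hM c hc (D.subgroupOf H) hcD hcentral
  have hheights : ∀ χ ∈ B, blockHeight p B (χ : G → ℂ) = 0 :=
    fun χ hχ => blockHeight_eq_zero_of_defect_one p M hM B hB hd1 χ hχ
  have hbroue := Cfsg.Agent.S4716.result p M hM B hB 1 hd1 hheights z
    ⟨1, by rw [hzord, hp2, pow_one]⟩ c hind hcd
  rw [hcl, hp2] at hbroue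
  have hle : Nat.card B ≤ 2 := by
    by_contra hcon
    push Not at hcon
    have : 3 ^ 2 ≤ Nat.card B ^ 2 := Nat.pow_le_pow_left hcon 2
    omega
  -- lower bound
  obtain ⟨hle', h1, h3⟩ := Cfsg.Agent.S4733.result p M hM B hB
  have hBne : B.Nonempty := by
    obtain ⟨χ₀, rfl⟩ := hB
    exact ⟨χ₀, mem_blockOf_self χ₀⟩
  have hpos := blockRank_pos p B hBne
  have hne1 : Nat.card B ≠ 1 := by
    intro h
    have : blockDefect p B = 0 := h3.mpr (by omega)
    omega
  have hne0 : Nat.card B ≠ 0 := by omega
  omega

end Cfsg.Agent.Lib.Helper27.BlkGlueC4
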