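import Cfsg.Agent.Lib.Helper27.OPMinDefs

/-!
# S2345, the stage lemma: definitions (planner: helper27)

`fixN D ρ a b` = the fixed space `C_M(Q')` of `Q' = {rad R : R a b = 0 = R b a}` (a coordinate hyperplane of the
Siegel radical), and the weights `Wd a b δ = δ (E_ab - E_ba)`, `V0 i₀ a = E_{i₀ a} - E_{a i₀}`.
-/

set_option autoImplicit false
set_option linter.unusedSectionVars false

namespace Cfsg.Agent.Lib.Helper27.OPMin

open Matrix Cfsg.Agent.Lib.Helper16.SLMin

variable {F : Type*} [Field F] {n : ℕ} {H : Type*} [Group H] {M : Type*} [AddCommGroup M]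
  [Module ℂ M]

/-- the fixed space of `Q' = {rad R : R a b = 0 = R b a}` -/
def fixN (D : Siegel F n H) (ρ : Representation ℂ H M) (a b : Fin n) : Submodule ℂ M where
  carrier := {m | ∀ R : Matrix (Fin n) (Fin n) F, R a b = 0 → R b a = 0 → ρ (D.rad R) m = m}
  add_mem' := by
    intro x y hx hy R h1 h2
    rw [map_add, hx R h1 h2, hy R h1 h2]
  zero_mem' := by
    intro R _ _
    rw [map_zero]
  smul_mem' := by
    intro c x hx R h1 h2
    rw [map_smul, hx R h1 h2]

theorem mem_fixN {D : Siegel F n H} {ρ : Representation ℂ H M} {a b : Fin n} {m : M} :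
    m ∈ fixN D ρ a b ↔
      ∀ R : Matrix (Fin n) (Fin n) F, R a b = 0 → R b a = 0 → ρ (D.rad R) m = m := Iff.rfl

/-- the weight `δ (E_ab - E_ba)` -/
def Wd (a b : Fin n) (δ : F) : Fin n × Fin n → F :=
  ofM (δ • wedge (Pi.single a (1 : F)) (Pi.single b (1 : F)))

/-- the weight `E_{i₀ a} - E_{a i₀} + δ (E_ab - E_ba)` -/
def V0 (i₀ a b : Fin n) (δ : F) : Fin n × Fin n → F :=
  ofM (wedge (Pi.single i₀ (1 : F)) (Pi.single a (1 : F)) +
    δ • wedge (Pi.single a (1 : F)) (Pi.single b (1 : F)))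

end Cfsg.Agent.Lib.Helper27.OPMin
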