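/-
helper27: S4892 leaf (D1) (planner helper23): the determinantal character of a Galois twist
`x ↦ χ (x ^ k)` is the `k`-th power of the determinantal character of `χ`
(restatement of helper24 `TwistDet.detChar_comp_pow` in the pointwise form of the leaf).
-/
import Mathlib
import Cfsg.Prelude.Def_CharExt
import Cfsg.Agent.Lib.Helper24.TwistDet

set_option autoImplicit false

namespace Cfsg.Agent.Lib.Helper27.PRat

open Cfsg

universe u

/-- (D1) the determinantal character of a Galois twist. -/
theorem detChar_comp_pow {X : Type u} [Group X] [Finite X] {χ : X → ℂ} (hχ : IsCharacter X χ)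
    (k : ℕ) (hk : k.Coprime (Nat.card X)) :
    detChar (fun x => χ (x ^ k)) = fun x => (detChar χ x) ^ k := by
  rw [Cfsg.Agent.Lib.Helper24.detChar_comp_pow hχ k hk]
  rfl

end Cfsg.Agent.Lib.Helper27.PRat
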