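/-
helper27 (S4538, part (B)): definitions for the split (B,N)-pair of `SL_n(F)` realized inside `GL_n(F)`:
`SLsub` (matrices of determinant one), the upper unitriangular group `UGL`, the root subgroups `XGL`,
their complements `UsGL` in `UGL`, the signed representatives `sS k k'` of the adjacent transpositions,
and the predicate `IsSLBN` on a (B,N)-pair of `↥(SLsub n F)`.
-/
import Mathlib
import Cfsg.Agent.Lib.Helper6.GLBND
import Cfsg.Agent.Lib.Helper27.GGDefs

set_option autoImplicit false

namespace Cfsg.Agent.Lib.Helper27.SLGG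

open Matrix Equiv Cfsg.Agent.Lib.Helper6.GLBN

variable (n : ℕ) (F : Type*) [Field F]

/-- `SL_n(F)` inside `GL_n(F)`: the kernel of the determinant -/
def SLsub : Subgroup (GL (Fin n) F) := (Matrix.GeneralLinearGroup.det (n := Fin n) (R := F)).ker

variable {n F}

theorem mem_SLsub {g : GL (Fin n) F} :
    g ∈ SLsub n F ↔ (g : Matrix (Fin n) (Fin n) F).det = 1 := by
  unfold SLsub
  rw [MonoidHom.mem_ker]
  constructor
  · intro h
    have := congrArg Units.val h
    simpa using this
  · intro h
    apply Units.ext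
    simpa using h

variable (n F)

/-- the upper unitriangular subgroup of `GL_n(F)` -/
def UGL : Subgroup (GL (Fin n) F) where
  carrier := {g | g ∈ Bup n F ∧ ∀ i, (g : Matrix (Fin n) (Fin n) F) i i = 1}
  one_mem' := ⟨(Bup n F).one_mem, fun i => by simp⟩
  mul_mem' := by
    rintro a b ⟨ha, ha1⟩ ⟨hb, hb1⟩
    refine ⟨(Bup n F).mul_mem ha hb, fun i => ?_⟩
    rw [Units.val_mul, Matrix.mul_apply, Finset.sum_eq_single i, ha1, hb1, one_mul]
    · intro j _ hji
      rcases lt_or_gt_of_ne hji with h | h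
      · rw [(mem_Bup.mp ha) i j h, zero_mul]
      · rw [(mem_Bup.mp hb) j i h, mul_zero]
    · intro h; exact absurd (Finset.mem_univ i) h
  inv_mem' := by
    rintro a ⟨ha, ha1⟩
    have hinv := (Bup n F).inv_mem ha
    refine ⟨hinv, fun i => ?_⟩
    have h1 : ((a * a⁻¹ : GL (Fin n) F) : Matrix (Fin n) (Fin n) F) i i = 1 := by
      rw [mul_inv_cancel]; simp
    rw [Units.val_mul, Matrix.mul_apply, Finset.sum_eq_single i, ha1, one_mul] at h1
    · exact h1
    · intro j _ hji
      rcases lt_or_gt_of_ne hji with h | h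
      · rw [(mem_Bup.mp ha) i j h, zero_mul]
      · rw [(mem_Bup.mp hinv) j i h, mul_zero]
    · intro h; exact absurd (Finset.mem_univ i) h

variable {n F}

theorem mem_UGL {g : GL (Fin n) F} :
    g ∈ UGL n F ↔ g ∈ Bup n F ∧ ∀ i, (g : Matrix (Fin n) (Fin n) F) i i = 1 := Iff.rfl

theorem UGL_le_Bup : UGL n F ≤ Bup n F := fun _ h => h.1

theorem UGL_le_SLsub : UGL n F ≤ SLsub n F := by
  intro g hg
  rw [mem_SLsub, Matrix.det_of_isUpperTriangular hg.1]
  exact Finset.prod_eq_one (fun i _ => hg.2 i)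

/-- the root subgroup `{1 + t E_{pq}}` -/
def XGL (p q : Fin n) (hpq : p ≠ q) : Subgroup (GL (Fin n) F) where
  carrier := {g | ∃ t : F, g = xGL p q hpq t}
  one_mem' := ⟨0, (xGL_zero p q hpq).symm⟩
  mul_mem' := by
    rintro _ _ ⟨t, rfl⟩ ⟨u, rfl⟩
    exact ⟨t + u, xGL_mul p q hpq t u⟩
  inv_mem' := by
    rintro _ ⟨t, rfl⟩
    exact ⟨-t, xGL_inv p q hpq t⟩

theorem mem_XGL {p q : Fin n} {hpq : p ≠ q} {g : GL (Fin n) F} :
    g ∈ XGL p q hpq ↔ ∃ t : F, g = xGL p q hpq t := Iff.rfl

/-- the unitriangular matrices with vanishing `(k,k')` entry, `k' = k + 1` -/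
def UsGL (k k' : Fin n) (h : k.val + 1 = k'.val) : Subgroup (GL (Fin n) F) where
  carrier := {g | g ∈ UGL n F ∧ (g : Matrix (Fin n) (Fin n) F) k k' = 0}
  one_mem' := by
    refine ⟨(UGL n F).one_mem, ?_⟩
    have : k ≠ k' := fun e => by rw [e] at h; omega
    simp [this]
  mul_mem' := by
    rintro a b ⟨ha, ha0⟩ ⟨hb, hb0⟩
    refine ⟨(UGL n F).mul_mem ha hb, ?_⟩
    rw [Units.val_mul, Matrix.mul_apply]
    apply Finset.sum_eq_zero
    intro j _
    by_cases hj1 : j = k
    · rw [hj1, hb0, mul_zero]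
    · by_cases hj2 : j = k'
      · rw [hj2, ha0, zero_mul]
      · rcases lt_or_gt_of_ne hj1 with hlt | hgt
        · rw [(mem_Bup.mp ha.1) k j hlt, zero_mul]
        · have : k' < j := by
            rcases lt_or_gt_of_ne hj2 with h2 | h2
            · exfalso
              have h3 : k.val < j.val := hgt
              have h4 : j.val < k'.val := h2
              omega
            · exact h2
          rw [(mem_Bup.mp hb.1) j k' this, mul_zero]
  inv_mem' := by
    rintro a ⟨ha, ha0⟩
    have hinv := (UGL n F).inv_mem ha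
    refine ⟨hinv, ?_⟩
    have hkk' : k ≠ k' := fun e => by rw [e] at h; omega
    have h1 : ((a * a⁻¹ : GL (Fin n) F) : Matrix (Fin n) (Fin n) F) k k' = 0 := by
      rw [mul_inv_cancel]; simp [hkk']
    rw [Units.val_mul, Matrix.mul_apply, Finset.sum_eq_single k, ha.2 k, one_mul] at h1
    · exact h1
    · intro j _ hj1
      by_cases hj2 : j = k'
      · rw [hj2, ha0, zero_mul]
      · rcases lt_or_gt_of_ne hj1 with hlt | hgt
        · rw [(mem_Bup.mp ha.1) k j hlt, zero_mul]
        · have : k' < j := by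
            rcases lt_or_gt_of_ne hj2 with h2 | h2
            · exfalso
              have h3 : k.val < j.val := hgt
              have h4 : j.val < k'.val := h2
              omega
            · exact h2
          rw [(mem_Bup.mp hinv.1) j k' this, mul_zero]
    · intro h'; exact absurd (Finset.mem_univ k) h'

theorem mem_UsGL {k k' : Fin n} {h : k.val + 1 = k'.val} {g : GL (Fin n) F} :
    g ∈ UsGL k k' h ↔ g ∈ UGL n F ∧ (g : Matrix (Fin n) (Fin n) F) k k' = 0 := Iff.rfl

/-- the signed representative of the transposition `(k k')`: the block `[[0, 1], [-1, 0]]` -/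
def sS (k k' : Fin n) : GL (Fin n) F := monoGL (swap k k') (fun j => if j = k then -1 else 1)

variable (n)

/-- the index type of the fundamental roots: adjacent pairs -/
abbrev SLι : Type := {p : Fin n × Fin n // p.1.val + 1 = p.2.val}

variable {n}

theorem SLι_ne (i : SLι n) : i.1.1 ≠ i.1.2 := fun e => by
  have := i.2
  rw [e] at this
  omega

variable (n F)

/-- the unitriangular group, the root subgroups and their complements inside `↥(SLsub n F)` -/
def Usl : Subgroup (SLsub n F) := (UGL n F).subgroupOf (SLsub n F)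

def Xsl (i : SLι n) : Subgroup (SLsub n F) := (XGL i.1.1 i.1.2 (SLι_ne i)).subgroupOf (SLsub n F)

def Ussl (i : SLι n) : Subgroup (SLsub n F) := (UsGL i.1.1 i.1.2 i.2).subgroupOf (SLsub n F)

/-- a (B,N)-pair of `↥(SLsub n F)` is *the standard one* -/
structure IsSLBN (P0 : Cfsg.BNPair (SLsub n F)) : Prop where
  hB : P0.B = (Bup n F).subgroupOf (SLsub n F)
  hN : P0.N = (monoSubgroup n F).subgroupOf (SLsub n F)
  hS : P0.S = {x : SLsub n F | ∃ k k' : Fin n, k.val + 1 = k'.val ∧ (x : GL (Fin n) F) = sS k k'}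

end Cfsg.Agent.Lib.Helper27.SLGG
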