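/-
helper27 (S4538, part (B)): determinant of a monomial matrix; the signed representatives `sS k k'` have
determinant one; the elements `sSl i` of `↥(SLsub n F)`.
-/
import Mathlib
import Cfsg.Agent.Lib.Helper27.SLGGDefs

set_option autoImplicit false

namespace Cfsg.Agent.Lib.Helper27.SLGG

open Matrix Equiv Cfsg.Agent.Lib.Helper6.GLBN

variable {n : ℕ} {F : Type*} [Field F]

theorem mono_eq_perm_mul_diag (σ : Perm (Fin n)) (c : Fin n → F) :
    mono σ c = (σ⁻¹ : Perm (Fin n)).permMatrix F * Matrix.diagonal c := by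
  ext i j
  rw [mono_apply, Matrix.mul_diagonal, Equiv.Perm.permMatrix, PEquiv.toMatrix_apply]
  simp only [Equiv.toPEquiv_apply, Option.mem_def, Option.some.injEq]
  by_cases h : i = σ j
  · rw [if_pos h, if_pos (by rw [h]; simp), one_mul]
  · rw [if_neg h, if_neg, zero_mul]
    intro h'
    apply h
    rw [← h']; simp

theorem det_mono (σ : Perm (Fin n)) (c : Fin n → F) :
    (mono σ c).det = (Perm.sign σ : ℤ) * ∏ j, c j := by
  rw [mono_eq_perm_mul_diag, Matrix.det_mul, Matrix.det_permutation, Matrix.det_diagonal,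
    Perm.sign_inv]

theorem det_sS {k k' : Fin n} (hkk' : k ≠ k') :
    ((sS k k' : GL (Fin n) F) : Matrix (Fin n) (Fin n) F).det = 1 := by
  unfold sS
  rw [coe_monoGL, det_mono, Perm.sign_swap hkk']
  have : ∏ j, (((fun j => if j = k then (-1 : Fˣ) else 1) j : Fˣ) : F) = -1 := by
    rw [Finset.prod_eq_single k]
    · simp
    · intro j _ hj
      simp [hj]
    · intro h; exact absurd (Finset.mem_univ k) h
  rw [this]
  simp

theorem sS_mem_SLsub {k k' : Fin n} (hkk' : k ≠ k') : (sS k k' : GL (Fin n) F) ∈ SLsub n F :=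
  mem_SLsub.mpr (det_sS hkk')

variable (n F)

/-- the signed representative of the `i`-th fundamental reflection, as an element of `↥(SLsub n F)` -/
def sSl (i : SLι n) : SLsub n F := ⟨sS i.1.1 i.1.2, sS_mem_SLsub (SLι_ne i)⟩

variable {n F}

theorem coe_sSl (i : SLι n) : ((sSl n F i : SLsub n F) : GL (Fin n) F) = sS i.1.1 i.1.2 := rfl

theorem IsSLBN.S_eq_range {P0 : Cfsg.BNPair (SLsub n F)} (h0 : IsSLBN n F P0) :
    P0.S = Set.range (sSl n F) := by
  rw [h0.hS]
  ext x
  constructor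
  · rintro ⟨k, k', hk, hx⟩
    exact ⟨⟨(k, k'), hk⟩, Subtype.ext hx.symm⟩
  · rintro ⟨i, rfl⟩
    exact ⟨i.1.1, i.1.2, i.2, rfl⟩

end Cfsg.Agent.Lib.Helper27.SLGG
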