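import Mathlib
import Cfsg.Prelude.Def_ClassicalGeometry
import Cfsg.Prelude.Def_GeometricClasses
import Cfsg.Agent.Lib.Helper2.SOTDefs
import Cfsg.Agent.Lib.Helper2.SOTGDefs
import Cfsg.Agent.Lib.Helper4.SOTS
import Cfsg.Agent.Lib.Helper7.SpTN
import Cfsg.Agent.Lib.Helper1.SOTLAR1
import Cfsg.Agent.Lib.Helper1.SOTLAP5
import Cfsg.Agent.Lib.Helper26.SOTLAP6
import Cfsg.Agent.Lib.Helper22.SOTLAFCA
import Cfsg.Agent.Lib.Helper22.SOTLAFCB
import Cfsg.Agent.Lib.Helper27.SOTLADefs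
import Cfsg.Agent.Lib.Helper27.SOTLAFCcore
import Cfsg.Agent.Lib.Helper27.SOTLAMaincore

/-!
S5666 PART (LA): the interface theorems `local_L1`, `local_L2` of helper2's `notes/S5666_leaves.lean`,
assembled from the leaves of the (LA) sub-market (helper1, 4, 6, 11, 13, 15, 18, 22, 26, 27, 28).
-/

set_option autoImplicit false
set_option linter.unusedSectionVars false
set_option linter.unusedVariables false

namespace Cfsg.Agent.Lib.Helper27.SOTLAMain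
open Matrix
open Cfsg.Agent.Lib.Helper25.Tens Cfsg.Agent.Lib.Helper25.SpT Cfsg.Agent.Lib.Helper19.OSub
open Cfsg.Agent.Lib.Helper2.SOT Cfsg.Agent.Lib.Helper27.SOTLA
open scoped Kronecker

variable {F : Type*} [Field F] [Fintype F] {a b : ℕ} {G : Matrix (Fin b) (Fin b) F}
  {M : Subgroup (GL (Idx a b) F)}

/-- (R2) = `L1` at `e_o`. -/
theorem L1_at (h : MCtx a b G M) (h4 : 4 ≤ a) (hno : ¬ HasTv G M) {o o' : Fin a} (ho : o.val = 0)
    (ho' : o'.val = 1) {g : GL (Idx a b) F} (hgM : g ∈ M)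
    (hg : ∀ y : Fin b → F, ∃ y' : Fin b → F, mv g (pt (Pi.single o 1) y) = pt (Pi.single o 1) y') :
    g ∈ KG a b F :=
  Cfsg.Agent.Lib.Helper27.SOTLALeaf.L1_at_of h ho ho'
    (fun σ hσ => Cfsg.Agent.Lib.Helper1.SOTLALeaf.R1 h hno ho ho' hσ)
    (fun θ ρ Ξ hθ hρ hM => Cfsg.Agent.Lib.Helper1.SOTLALeaf.R1plus h h4 hno ho ho' hθ hρ hM)
    (fun {g} hg hU => Cfsg.Agent.Lib.Helper26.SOTLALeaf.UA_mem_KG h h4 hno ho ho' hg hU)
    hgM hg

/-- (FC) = `L2` at `e_o`. -/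
theorem L2_at (h : MCtx a b G M) (h4 : 4 ≤ a) (hno : ¬ HasTv G M) {o o' : Fin a} (ho : o.val = 0)
    (ho' : o'.val = 1) {m : GL (Idx a b) F} (hm : m ∈ M)
    (hk : ∀ c : F, m⁻¹ * (kA (Pi.single o 1) c : GL (Idx a b) F) * m ∈ KG a b F) :
    m ∈ KG a b F :=
  Cfsg.Agent.Lib.Helper27.SOTLALeaf.L2_at_core h ho ho'
    (fun {m} hm α₂ hk => Cfsg.Agent.Lib.Helper22.SOTLALeaf.fc_caseA h ho ho'
      (fun g hgM hg => L1_at h h4 hno ho ho' hgM hg) hm α₂ hk)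
    (fun {m} hm β₂ hk => Cfsg.Agent.Lib.Helper22.SOTLALeaf.fc_caseB h h4 ho ho'
      (fun X hX hU => Cfsg.Agent.Lib.Helper26.SOTLALeaf.UA_sq_zero h h4 hno ho ho' hX hU) hm β₂ hk)
    hm hk

/-- PART (LA), first interface theorem: without transvections, stabilisers of `A`-fibres are in `KG`. -/
theorem local_L1 (h : MCtx a b G M) (h4 : 4 ≤ a) (hno : ¬ HasTv G M) : L1 M :=
  Cfsg.Agent.Lib.Helper27.SOTLALeaf.local_L1_of h h4
    (fun {g} hgM hg => L1_at h h4 hno (o := (⟨0, by omega⟩ : Fin a)) (o' := (⟨1, by omega⟩ : Fin a))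
      rfl rfl hgM hg)

/-- PART (LA), second interface theorem: without transvections, fusion of the root groups `X_x` is controlled. -/
theorem local_L2 (h : MCtx a b G M) (h4 : 4 ≤ a) (hno : ¬ HasTv G M) : L2 M :=
  Cfsg.Agent.Lib.Helper27.SOTLALeaf.local_L2_of h h4
    (fun {m} hm hk => L2_at h h4 hno (o := (⟨0, by omega⟩ : Fin a)) (o' := (⟨1, by omega⟩ : Fin a))
      rfl rfl hm hk)

end Cfsg.Agent.Lib.Helper27.SOTLAMain
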