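import Cfsg.Agent.Lib.Helper27.SylAC5core
import Cfsg.Agent.Lib.Helper9.SylAC12
import Cfsg.Agent.Lib.Helper9.SylAC4
import Cfsg.Agent.Lib.Helper12.SylAC3

/-!
S2221 leaf C5 (`sylow_alt_equiv`), exact signature of `notes/S2221_leaves.lean` (helper14's market):
the core statement of `SylAC5core` fed with the landed leaves C2, C3, C3', C4.
-/

set_option autoImplicit false

namespace Cfsg.Agent.Lib.Helper27.SylALeaf

open Cfsg.Agent.Lib.Helper14.SylA Cfsg.Agent.Lib.Helper27.SylACore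

theorem c2Stmt : C2Stmt := by
  intro ι _ _ W X _ _ _ _ hf n ε hn
  exact Cfsg.Agent.Lib.Helper9.SylALeaf.exists_embedding W X hf n ε hn

theorem c3Stmt : C3Stmt := fun S => Cfsg.Agent.Lib.Helper12.SylALeaf.padicValNat_factorial_sum_two_pow S

theorem c3'Stmt : C3'Stmt := fun S hS =>
  Cfsg.Agent.Lib.Helper12.SylALeaf.padicValNat_factorial_sum_two_pow_succ S hS

theorem c4Stmt : C4Stmt := fun n T hcard hodd P =>
  Cfsg.Agent.Lib.Helper9.SylALeaf.sylow_alt_equiv_of_card n T hcard hodd P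

/-- C5 = CONN: the Sylow 2-subgroups of `A_n`, `n = ∑ 2 ^ ℓ i + ε`, `ε ≤ 1`, the `ℓ i ≥ 1`
distinct. -/
theorem sylow_alt_equiv {ι : Type} [Fintype ι] [DecidableEq ι] [Nonempty ι] (ℓ : ι → ℕ)
    (hℓ : ∀ i, 1 ≤ ℓ i) (hinj : Function.Injective ℓ) (W X : ι → Type)
    [∀ i, Group (W i)] [∀ i, MulAction (W i) (X i)] [∀ i, Fintype (X i)] [∀ i, DecidableEq (X i)]
    (h : ∀ i, IsLevel (ℓ i) (W i) (X i)) (n ε : ℕ) (hε : ε ≤ 1) (hn : n = ∑ i, 2 ^ ℓ i + ε)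
    (P : Sylow 2 ↥(alternatingGroup (Fin n))) :
    Nonempty (↥(P : Subgroup ↥(alternatingGroup (Fin n))) ≃*
      ↥(piSgn W (fun i => sgnOf (W i) (X i))).ker) :=
  sylow_alt_equiv_of c2Stmt c3Stmt c3'Stmt c4Stmt ℓ hℓ hinj W X h n ε hε hn P

end Cfsg.Agent.Lib.Helper27.SylALeaf
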