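import Cfsg.Agent.Lib.Helper27.SylAW67core
import Cfsg.Agent.Lib.Helper7.SylAW1
import Cfsg.Agent.Lib.Helper7.SylAW5
import Cfsg.Agent.Lib.Helper13.SylAW2
import Cfsg.Agent.Lib.Helper13.SylAW3
import Cfsg.Agent.Lib.Helper13.SylAW4

/-!
S2221 leaves W6 (`isLevel_succ`) and W7 (`exists_level`), exact signatures of `notes/S2221_leaves.lean`
(helper14's market): the core statements of `SylAW67core` fed with the landed leaves W1-W5.
-/

set_option autoImplicit false

namespace Cfsg.Agent.Lib.Helper27.SylALeaf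

open Cfsg.Agent.Lib.Helper14.SylA RegularWreathProduct Cfsg.Agent.Lib.Helper27.SylACore

theorem w1Stmt : W1Stmt := fun w => Cfsg.Agent.Lib.Helper7.SylALeaf.sgnOf_wreath w

theorem w2Stmt : W2Stmt := fun w => Cfsg.Agent.Lib.Helper13.SylALeaf.mem_center_wreath w

theorem w2'Stmt : W2'Stmt := Cfsg.Agent.Lib.Helper13.SylALeaf.card_center_wreath

theorem w3Stmt : W3Stmt := fun hD => Cfsg.Agent.Lib.Helper13.SylALeaf.ci_wreath hD

theorem w3'Stmt : W3'Stmt := fun hD => Cfsg.Agent.Lib.Helper13.SylALeaf.ci_wreath_two hD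

theorem w4Stmt : W4Stmt := fun hD hΛ hZ =>
  Cfsg.Agent.Lib.Helper13.SylALeaf.card_center_ker_wreath hD hΛ hZ

theorem w5Stmt : W5Stmt := Cfsg.Agent.Lib.Helper7.SylALeaf.isLevel_one

/-- W6: the wreath step (glue of W1-W4). -/
theorem isLevel_succ {r : ℕ} (hr : 1 ≤ r) {W X : Type} [Group W] [MulAction W X] [Fintype X]
    [DecidableEq X] (h : IsLevel r W X) : IsLevel (r + 1) (W ≀ᵣ C2) (X × C2) :=
  isLevel_succ_of w1Stmt w2Stmt w2'Stmt w3Stmt w3'Stmt w4Stmt hr h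

/-- W7: all levels exist. -/
theorem exists_level : ∀ r : ℕ, 1 ≤ r → ∃ (W X : Type) (_ : Group W) (_ : MulAction W X)
    (_ : Fintype X) (_ : DecidableEq X), IsLevel r W X :=
  exists_level_of w1Stmt w2Stmt w2'Stmt w3Stmt w3'Stmt w4Stmt w5Stmt

end Cfsg.Agent.Lib.Helper27.SylALeaf
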