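/-
helper27: S4885/S4886 leaves (NQ2a-d) (planner helper14): images in a quotient of Sylow subgroups,
`q`-solvability, normalizers and cardinalities.
-/
import Mathlib
import Cfsg.Prelude.Def_Blocks
import Cfsg.Prelude.Def_Local
import Cfsg.Agent.Lib.Helper6.Clifford
import Cfsg.Agent.Lib.Helper6.CliffordCorr
import Cfsg.Agent.Lib.Helper24.PSolvable
import Cfsg.Agent.Lib.Helper14.TPDefs

set_option autoImplicit false

namespace Cfsg.Agent.Lib.Helper27.TP

open Cfsg Cfsg.Agent.CharLib Cfsg.Agent.Lib.Helper6 Cfsg.Agent.Lib.Helper2.Glaub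
open Cfsg.Agent.Lib.Helper14.TP
open scoped Pointwise

universe u

section nav
variable {Γ : Type u} [Group Γ] [Finite Γ]

/-- (NQ2a) images of Sylow subgroups. -/
theorem isSylowIn_map (q : ℕ) [Fact q.Prime] (N Q K : Subgroup Γ) [N.Normal]
    (h : IsSylowIn q Q K) :
    IsSylowIn q (Q.map (QuotientGroup.mk' N)) (K.map (QuotientGroup.mk' N)) := by
  obtain ⟨hQK, hQ, hidx⟩ := h
  refine ⟨Subgroup.map_mono hQK, hQ.map _, ?_⟩
  intro hdvd
  apply hidx
  refine hdvd.trans ?_
  set π := QuotientGroup.mk' N with hπ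
  have hsurj := π.subgroupMap_surjective K
  have h1 := (Q.subgroupOf K).index_map_dvd hsurj
  have h2 : (Q.subgroupOf K).map (π.subgroupMap K) = (Q.map π).subgroupOf (K.map π) := by
    ext x
    rw [Subgroup.mem_map, Subgroup.mem_subgroupOf, Subgroup.mem_map]
    constructor
    · rintro ⟨k, hk, rfl⟩
      exact ⟨(k : Γ), Subgroup.mem_subgroupOf.mp hk, rfl⟩
    · rintro ⟨y, hy, hyx⟩
      refine ⟨⟨y, hQK hy⟩, Subgroup.mem_subgroupOf.mpr hy, ?_⟩
      apply Subtype.ext
      exact hyx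
  rw [h2] at h1
  exact h1

/-- (NQ2b) `q`-solvability of the image. -/
theorem isPSolvable_map (q : ℕ) [Fact q.Prime] (N K : Subgroup Γ) [N.Normal]
    (h : IsPSolvable q K) : IsPSolvable q ↥(K.map (QuotientGroup.mk' N)) :=
  Cfsg.Agent.Lib.Helper24.isPSolvable_of_surjective q ((QuotientGroup.mk' N).subgroupMap K)
    ((QuotientGroup.mk' N).subgroupMap_surjective K) h

/-- (NQ2c) pulling back normalizers. -/
theorem mem_normalizer_sup_of_map (N Q : Subgroup Γ) [N.Normal] (c : Γ)
    (hc : (QuotientGroup.mk' N) c ∈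
      Subgroup.normalizer ((Q.map (QuotientGroup.mk' N) : Subgroup (Γ ⧸ N)) : Set (Γ ⧸ N))) :
    c ∈ Subgroup.normalizer ((Q ⊔ N : Subgroup Γ) : Set Γ) := by
  have hker : (QuotientGroup.mk' N).ker = N := QuotientGroup.ker_mk' N
  have hsup : (Q ⊔ N : Subgroup Γ) = (Q.map (QuotientGroup.mk' N)).comap (QuotientGroup.mk' N) := by
    rw [Subgroup.comap_map_eq, hker]
  rw [hsup, Subgroup.mem_normalizer_iff]
  intro x
  rw [Subgroup.mem_comap, Subgroup.mem_comap, map_mul, map_mul, map_inv]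
  exact (Subgroup.mem_normalizer_iff.mp hc) _

/-- (NQ2d) the image is smaller. -/
theorem card_map_lt (N K : Subgroup Γ) [N.Normal] (hNK : N ≤ K) (hN : N ≠ ⊥) :
    Nat.card ↥(K.map (QuotientGroup.mk' N)) < Nat.card K := by
  classical
  let _ : Fintype ↥K := Fintype.ofFinite _
  let _ : Fintype ↥(K.map (QuotientGroup.mk' N)) := Fintype.ofFinite _
  rw [Nat.card_eq_fintype_card, Nat.card_eq_fintype_card]
  apply Fintype.card_lt_of_surjective_not_injective _
    ((QuotientGroup.mk' N).subgroupMap_surjective K)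
  intro hinj
  apply hN
  rw [Subgroup.eq_bot_iff_forall]
  intro n hn
  have h1 : (QuotientGroup.mk' N).subgroupMap K ⟨n, hNK hn⟩ =
      (QuotientGroup.mk' N).subgroupMap K 1 := by
    apply Subtype.ext
    rw [map_one]
    show (QuotientGroup.mk' N) n = 1
    rw [QuotientGroup.mk'_apply, QuotientGroup.eq_one_iff]
    exact hn
  have h2 := hinj h1
  exact congrArg Subtype.val h2

end nav

end Cfsg.Agent.Lib.Helper27.TP
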