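/-
helper27: S4885/S4886 leaf (NV5) (planner helper14): if `c ∈ C(A)` normalizes `QR` and `C_R(A)`
centralizes `Q`, then `c` normalizes `Q`.  [`Q` and `cQc⁻¹` are complements of `R` in `QR`, hence
conjugate under `R` (helper1 internal Schur-Zassenhaus); the conjugating coset of `N_R(Q)` is
`A`-invariant, so it contains an element of `C_R(A)` (helper1 internal Glauberman lemma).]
-/
import Mathlib
import Cfsg.Prelude.Def_Blocks
import Cfsg.Prelude.Def_Local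
import Cfsg.Agent.Lib.Helper6.Clifford
import Cfsg.Agent.Lib.Helper6.CliffordCorr
import Cfsg.Agent.Lib.Helper24.PSolvable
import Cfsg.Agent.Lib.Helper14.TPDefs
import Cfsg.Agent.Lib.Helper1.Coprime

set_option autoImplicit false

namespace Cfsg.Agent.Lib.Helper27.TP

open Cfsg Cfsg.Agent.CharLib Cfsg.Agent.Lib.Helper6 Cfsg.Agent.Lib.Helper2.Glaub
open Cfsg.Agent.Lib.Helper14.TP
open scoped Pointwise

universe u

section nav
variable {Γ : Type u} [Group Γ] [Finite Γ]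

/-- (NV5) if `c ∈ C(A)` normalizes `QR` and `C_R(A)` centralizes `Q`, then `c` normalizes `Q`. -/
theorem mem_normalizer_of_sup (p q : ℕ) [Fact p.Prime] [Fact q.Prime] (hpq : p ≠ q)
    (R A Q : Subgroup Γ) [R.Normal] (hRp : (Nat.card R).Coprime p) (hRq : (Nat.card R).Coprime q)
    (hA : IsPGroup p A) (hQ : IsPGroup q Q) (hAQ : A ≤ Subgroup.normalizer (Q : Set Γ))
    (hcent : R ⊓ Subgroup.centralizer (A : Set Γ) ≤ Subgroup.centralizer (Q : Set Γ))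
    (c : Γ) (hcA : c ∈ Subgroup.centralizer (A : Set Γ))
    (hc : c ∈ Subgroup.normalizer ((Q ⊔ R : Subgroup Γ) : Set Γ)) :
    c ∈ Subgroup.normalizer (Q : Set Γ) := by
  have hRn : ∀ x ∈ R, ∀ g : Γ, g * x * g⁻¹ ∈ R := fun x hx g => Subgroup.Normal.conj_mem ‹_› x hx g
  -- cardinalities
  obtain ⟨i, hi⟩ := IsPGroup.iff_card.mp hQ
  obtain ⟨j, hj⟩ := IsPGroup.iff_card.mp hA
  have hcopRQ : Nat.Coprime (Nat.card R) (Nat.card Q) := by
    rw [hi]; exact Nat.Coprime.pow_right i hRq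
  set S : Subgroup Γ := MulAut.conj c • Q with hS
  have hmemS : ∀ x, x ∈ S ↔ c⁻¹ * x * c ∈ Q := fun x =>
    Cfsg.Agent.Lib.Helper1.mem_conj_smul_iff Q c x
  have hcardS : Nat.card S = Nat.card Q := Cfsg.Agent.Lib.Helper1.card_conj_smul Q c
  have hQnormR : Q ≤ Subgroup.normalizer (R : Set Γ) := by
    rw [Subgroup.normalizer_eq_top]; exact le_top
  have hdRQ : Disjoint R Q := Subgroup.disjoint_of_coprime_natCard hcopRQ
  have hdRS : Disjoint R S := by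
    apply Subgroup.disjoint_of_coprime_natCard
    rw [hcardS]; exact hcopRQ
  have hcomm : (R ⊔ Q : Subgroup Γ) = Q ⊔ R := sup_comm _ _
  have hQc : Cfsg.Agent.Lib.Helper1.IsComplIn R Q (R ⊔ Q) :=
    Cfsg.Agent.Lib.Helper1.isComplIn_sup hQnormR hdRQ
  have hcn : ∀ x, x ∈ (R ⊔ Q : Subgroup Γ) ↔ c * x * c⁻¹ ∈ (R ⊔ Q : Subgroup Γ) := by
    intro x
    rw [hcomm]
    exact Subgroup.mem_normalizer_iff.mp hc x
  have hSΓ : S ≤ R ⊔ Q := by
    intro x hx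
    rw [hmemS] at hx
    have h1 : c⁻¹ * x * c ∈ (R ⊔ Q : Subgroup Γ) := (le_sup_right : Q ≤ R ⊔ Q) hx
    have h2 := (hcn _).mp h1
    have e : c * (c⁻¹ * x * c) * c⁻¹ = x := by group
    rw [e] at h2
    exact h2
  have hSc : Cfsg.Agent.Lib.Helper1.IsComplIn R S (R ⊔ Q) := by
    refine ⟨le_sup_left, hSΓ, hdRS, fun γ hγ => ?_⟩
    have h1 : c⁻¹ * γ * c ∈ (R ⊔ Q : Subgroup Γ) := by
      rw [hcn]
      have e : c * (c⁻¹ * γ * c) * c⁻¹ = γ := by group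
      rw [e]; exact hγ
    obtain ⟨k, hk, a, ha, hka⟩ := hQc.2.2.2 _ h1
    refine ⟨c * k * c⁻¹, hRn k hk c, c * a * c⁻¹, ?_, ?_⟩
    · rw [hmemS]
      have e : c⁻¹ * (c * a * c⁻¹) * c = a := by group
      rw [e]; exact ha
    · have e : c * k * c⁻¹ * (c * a * c⁻¹) = c * (k * a) * c⁻¹ := by group
      rw [e, hka]; group
  have hQsolv : Group.IsSolvable ↥Q := by
    have : Group.IsNilpotent ↥Q := hQ.isNilpotent
    infer_instance
  have hAsolv : Group.IsSolvable ↥A := by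
    have : Group.IsNilpotent ↥A := hA.isNilpotent
    infer_instance
  have hΓnorm : (R ⊔ Q : Subgroup Γ) ≤ Subgroup.normalizer (R : Set Γ) := by
    rw [Subgroup.normalizer_eq_top]; exact le_top
  obtain ⟨k, hkR, hkS⟩ := Cfsg.Agent.Lib.Helper1.internal_sz_conj hΓnorm hQc hSc hcopRQ
    (Or.inr hQsolv)
  -- `S = r Q r⁻¹` with `r = k⁻¹ ∈ R`
  set r : Γ := k⁻¹ with hr
  have hrR : r ∈ R := R.inv_mem hkR
  have hSr : ∀ x, x ∈ S ↔ r⁻¹ * x * r ∈ Q := by
    intro x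
    have h2 : r⁻¹ * x * r ∈ MulAut.conj k • S ↔ k⁻¹ * (r⁻¹ * x * r) * k ∈ S :=
      Cfsg.Agent.Lib.Helper1.mem_conj_smul_iff S k _
    have e : k⁻¹ * (r⁻¹ * x * r) * k = x := by rw [hr]; group
    rw [e] at h2
    have h1 : r⁻¹ * x * r ∈ Q ↔ r⁻¹ * x * r ∈ MulAut.conj k • S := by rw [hkS]
    exact (h1.trans h2).symm
  -- `A` normalizes `S`
  have hAS : ∀ a ∈ A, ∀ x, x ∈ S ↔ a * x * a⁻¹ ∈ S := by
    intro a ha x
    rw [hmemS, hmemS]
    have hca : a * c = c * a := by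
      have := (Subgroup.mem_centralizer_iff.mp hcA) a ha
      exact this
    have hca' : a * c⁻¹ = c⁻¹ * a := by
      have h1 : c⁻¹ * (a * c) * c⁻¹ = c⁻¹ * (c * a) * c⁻¹ := by rw [hca]
      have h2 : c⁻¹ * (a * c) * c⁻¹ = c⁻¹ * a := by group
      have h3 : c⁻¹ * (c * a) * c⁻¹ = a * c⁻¹ := by group
      rw [h2, h3] at h1
      exact h1.symm
    have e : c⁻¹ * (a * x * a⁻¹) * c = a * (c⁻¹ * x * c) * a⁻¹ := by
      have h1 : a⁻¹ * c = c * a⁻¹ := by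
        have : a⁻¹ * (a * c) * a⁻¹ = a⁻¹ * (c * a) * a⁻¹ := by rw [hca]
        have h2 : a⁻¹ * (a * c) * a⁻¹ = c * a⁻¹ := by group
        have h3 : a⁻¹ * (c * a) * a⁻¹ = a⁻¹ * c := by group
        rw [h2, h3] at this
        exact this.symm
      calc c⁻¹ * (a * x * a⁻¹) * c = (c⁻¹ * a) * x * (a⁻¹ * c) := by group
        _ = (a * c⁻¹) * x * (c * a⁻¹) := by rw [hca', h1]
        _ = a * (c⁻¹ * x * c) * a⁻¹ := by group
    rw [e]
    exact Subgroup.mem_normalizer_iff.mp (hAQ ha) _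
  -- the `A`-invariant coset `r N_R(Q)`
  set M : Subgroup Γ := R ⊓ Subgroup.normalizer (Q : Set Γ) with hM
  have hAM : A ≤ Subgroup.normalizer (M : Set Γ) := by
    have h1 : A ≤ Subgroup.normalizer (R : Set Γ) := by
      rw [Subgroup.normalizer_eq_top]; exact le_top
    have h2 : A ≤ Subgroup.normalizer ((Subgroup.normalizer (Q : Set Γ) : Subgroup Γ) : Set Γ) :=
      hAQ.trans Subgroup.le_normalizer
    exact (le_inf h1 h2).trans Subgroup.inf_normalizer_le_normalizer_inf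
  have hcopAM : Nat.Coprime (Nat.card A) (Nat.card M) := by
    rw [hj]
    apply Nat.Coprime.pow_left
    exact (Nat.Coprime.coprime_dvd_left (Subgroup.card_dvd_of_le inf_le_left) hRp).symm
  have hx : ∀ a ∈ A, r⁻¹ * a * r * a⁻¹ ∈ M := by
    intro a ha
    refine ⟨?_, ?_⟩
    · have e : r⁻¹ * a * r * a⁻¹ = r⁻¹ * (a * r * a⁻¹) := by group
      rw [e]
      exact R.mul_mem (R.inv_mem hrR) (hRn r hrR a)
    · apply Cfsg.Agent.Lib.Helper1.mem_normalizer_of_forall_conj_mem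
      intro x hxQ
      -- `a⁻¹ x a ∈ Q`, `r (a⁻¹ x a) r⁻¹ ∈ S`, `a (...) a⁻¹ ∈ S`, `r⁻¹ (...) r ∈ Q`
      have h1 : a⁻¹ * x * a ∈ Q := by
        have := (Subgroup.mem_normalizer_iff.mp (hAQ (A.inv_mem ha)) x).mp hxQ
        rwa [inv_inv] at this
      have h2 : r * (a⁻¹ * x * a) * r⁻¹ ∈ S := by
        rw [hSr]
        have e : r⁻¹ * (r * (a⁻¹ * x * a) * r⁻¹) * r = a⁻¹ * x * a := by group
        rw [e]; exact h1
      have h3 := (hAS a ha _).mp h2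
      have h4 := (hSr _).mp h3
      have e : r⁻¹ * a * r * a⁻¹ * x * (r⁻¹ * a * r * a⁻¹)⁻¹ =
          r⁻¹ * (a * (r * (a⁻¹ * x * a) * r⁻¹) * a⁻¹) * r := by group
      rw [e]
      exact h4
  obtain ⟨n, hn, hrn⟩ := Cfsg.Agent.Lib.Helper1.exists_mul_mem_centralizer hAM hcopAM
    (Or.inl hAsolv) r hx
  have hrnQ : r * n ∈ Subgroup.centralizer (Q : Set Γ) :=
    hcent ⟨R.mul_mem hrR hn.1, hrn⟩
  -- `S = Q`
  have hSQ : ∀ x, x ∈ Q → x ∈ S := by
    intro x hxQ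
    rw [hSr]
    -- `r⁻¹ x r = n (rn)⁻¹ x (rn) n⁻¹ = n x n⁻¹`
    have h1 : (r * n)⁻¹ * x * (r * n) = x := by
      have := (Subgroup.mem_centralizer_iff.mp hrnQ) x hxQ
      calc (r * n)⁻¹ * x * (r * n) = (r * n)⁻¹ * (x * (r * n)) := by group
        _ = (r * n)⁻¹ * ((r * n) * x) := by rw [this]
        _ = x := by group
    have e : r⁻¹ * x * r = n * ((r * n)⁻¹ * x * (r * n)) * n⁻¹ := by group
    rw [e, h1]
    exact (Subgroup.mem_normalizer_iff.mp hn.2 x).mp hxQ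
  apply Cfsg.Agent.Lib.Helper1.mem_normalizer_of_forall_conj_mem
  intro x hxQ
  -- `c x c⁻¹ ∈ S`; and `S ≤ Q` by cardinality
  have hSleQ : S = Q := by
    symm
    apply Subgroup.eq_of_le_of_card_ge (fun x hx => hSQ x hx)
    rw [hcardS]
  have h1 : c * x * c⁻¹ ∈ S := by
    rw [hmemS]
    have e : c⁻¹ * (c * x * c⁻¹) * c = x := by group
    rw [e]; exact hxQ
  rw [hSleQ] at h1
  exact h1

end nav

end Cfsg.Agent.Lib.Helper27.TP
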