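/-
helper27: S2081 leaf (A2) (planner helper15): an automorphism fixing `y` and `n` fixes the
involution `t` of `C(n) = ⟨n⟩ × ⟨t⟩`, the two candidates `t`, `n^8 t` being told apart by the order
of their product with `y`.  Mathlib only.
-/
import Mathlib

set_option autoImplicit false

namespace Cfsg.Agent.Lib.Helper27.F24OAbs

/-- **A2**. -/
theorem aut_fix_third {G : Type*} [Group G] (y n t : G) (α : MulAut G) (hy : α y = y) (hn : α n = n)
    (hC : ∀ c : G, c * n = n * c → ∃ i e : ℕ, c = n ^ i * t ^ e)
    (hn16 : orderOf n = 16) (ht2 : t ^ 2 = 1) (htn : t * n = n * t) (ht : t ∉ Subgroup.zpowers n)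
    (hord : orderOf (t * y) ≠ orderOf (n ^ 8 * t * y)) : α t = t := by
  -- `α t` commutes with `n`
  have hcomm : α t * n = n * α t := by
    have h := congrArg α htn
    rw [map_mul, map_mul, hn] at h
    exact h
  obtain ⟨i, e, hie⟩ := hC _ hcomm
  -- powers of `t`
  have hte : t ^ e = t ^ (e % 2) := by
    conv_lhs => rw [← Nat.div_add_mod e 2, pow_add, pow_mul, ht2, one_pow, one_mul]
  have hcomm' : Commute t n := htn
  rcases Nat.mod_two_eq_zero_or_one e with he | he
  · -- `α t = n^i`, so `t = n^i`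
    exfalso
    apply ht
    rw [hte, he, pow_zero, mul_one] at hie
    have h1 : α t = α (n ^ i) := by rw [map_pow, hn, hie]
    have h2 : t = n ^ i := α.injective h1
    rw [h2]
    exact Subgroup.pow_mem _ (Subgroup.mem_zpowers n) i
  · rw [hte, he, pow_one] at hie
    -- `(α t)^2 = 1`
    have hsq : (α t) ^ 2 = 1 := by rw [← map_pow, ht2, map_one]
    have hni : n ^ (2 * i) = 1 := by
      have h3 : (n ^ i * t) ^ 2 = n ^ (2 * i) := by
        have hc : Commute (n ^ i) t := (hcomm'.symm.pow_left i)
        rw [hc.mul_pow, ht2, mul_one, ← pow_mul, mul_comm]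
      rw [← h3, ← hie]
      exact hsq
    have hdvd : 16 ∣ 2 * i := by
      rw [← hn16]
      exact orderOf_dvd_of_pow_eq_one hni
    have h8 : 8 ∣ i := by omega
    obtain ⟨k, rfl⟩ := h8
    rcases Nat.even_or_odd k with ⟨j, hj⟩ | ⟨j, hj⟩
    · -- `n^(8k) = 1`
      have h4 : n ^ (8 * k) = 1 := by
        have : 8 * k = 16 * j := by omega
        rw [this, pow_mul, ← hn16, pow_orderOf_eq_one, one_pow]
      rw [hie, h4, one_mul]
    · exfalso
      apply hord
      have h4 : n ^ (8 * k) = n ^ 8 := by
        have : 8 * k = 16 * j + 8 := by omega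
        rw [this, pow_add, pow_mul, ← hn16, pow_orderOf_eq_one, one_pow, one_mul]
      rw [h4] at hie
      have h5 : α (t * y) = n ^ 8 * t * y := by rw [map_mul, hie, hy]
      rw [← h5, MulEquiv.orderOf_eq]

end Cfsg.Agent.Lib.Helper27.F24OAbs
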