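/-
helper27: S2081 leaf (A3) (planner helper15): rigidity.  An automorphism of `G ⊴ K` that is the
identity on the point stabiliser `G_o` is `1` or the inverse of conjugation by `l`.
Mathlib only.
-/
import Mathlib

set_option autoImplicit false

namespace Cfsg.Agent.Lib.Helper27.F24OAbs

section core

variable {K : Type*} [Group K] (G : Subgroup K) {X : Type*} (φ : K →* Equiv.Perm X)

/-- the point `g o` determines the point `α(g) o` and conversely. -/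
theorem pt_eq_iff (o : X) (α : MulAut G) (hα : ∀ g : G, φ (g : K) o = o → α g = g) (g g' : G) :
    φ (g : K) o = φ (g' : K) o ↔ φ ((α g : G) : K) o = φ ((α g' : G) : K) o := by
  have key : ∀ a b : K, (φ a o = φ b o ↔ φ (a⁻¹ * b) o = o) := by
    intro a b
    rw [map_mul, map_inv, Equiv.Perm.mul_apply, Equiv.Perm.inv_eq_iff_eq]
    exact eq_comm
  rw [key, key]
  have e1 : ((g : K))⁻¹ * (g' : K) = ((g⁻¹ * g' : G) : K) := by simp
  have e2 : (((α g : G)) : K)⁻¹ * ((α g' : G) : K) = ((α (g⁻¹ * g') : G) : K) := by simp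
  rw [e1, e2]
  constructor
  · intro h
    rw [hα _ h]
    exact h
  · intro h
    have h2 := hα _ h
    have h3 : α (g⁻¹ * g') = g⁻¹ * g' := α.injective h2
    rw [h3] at h
    exact h

/-- `α` commutes with left translation by elements of the stabiliser. -/
theorem pt_stab_mul (o : X) (α : MulAut G) (hα : ∀ g : G, φ (g : K) o = o → α g = g) (h g : G)
    (hh : φ (h : K) o = o) :
    φ ((α (h * g) : G) : K) o = φ (h : K) (φ ((α g : G) : K) o) := by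
  rw [map_mul, hα h hh, Subgroup.coe_mul, map_mul, Equiv.Perm.mul_apply]

/-- if `α(g) o = g o` for all `g ∈ G` then `α = 1`. -/
theorem eq_one_of_pt (hφ : Function.Injective φ) (o : X) (htr : ∀ x : X, ∃ g : G, φ (g : K) o = x)
    (α : MulAut G) (hpt : ∀ g : G, φ ((α g : G) : K) o = φ (g : K) o) : α = 1 := by
  ext g
  rw [MulAut.one_apply]
  apply hφ
  ext x
  obtain ⟨g', rfl⟩ := htr x
  have h1 := hpt (g * g')
  rw [map_mul, Subgroup.coe_mul, Subgroup.coe_mul, map_mul, map_mul, Equiv.Perm.mul_apply,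
    Equiv.Perm.mul_apply, hpt g'] at h1
  exact h1

end core

/-- the rigid case: `α` is the identity on `G_o` and `α(s) o = s o`. -/
theorem aut_eq_one_of_fix {K : Type*} [Group K] (G : Subgroup K) {X : Type*}
    (φ : K →* Equiv.Perm X) (hφ : Function.Injective φ) (o q : X) (hq : q ≠ o)
    (s e₂ : K) (hs : s ∈ G) (he₂ : e₂ ∈ G)
    (he₂o : φ e₂ o = o) (he₂q : φ e₂ q = q) (hfix₂ : ∀ x, φ e₂ x = x → x = o ∨ x = q)
    (hqo : ∃ g ∈ G, φ g o = q)
    (horb : ∀ x : X, x = o ∨ (∃ g ∈ G, φ g o = o ∧ φ g q = x) ∨ (∃ g ∈ G, φ g o = o ∧ φ g (φ s o) = x))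
    (α : MulAut G) (hα : ∀ g : G, φ (g : K) o = o → α g = g)
    (hαs : φ ((α ⟨s, hs⟩ : G) : K) o = φ s o) : α = 1 := by
  obtain ⟨gq, hgqG, hgq⟩ := hqo
  -- `α(g_q) o = q`
  have hαq : φ ((α ⟨gq, hgqG⟩ : G) : K) o = q := by
    have h1 : φ e₂ (φ ((α ⟨gq, hgqG⟩ : G) : K) o) = φ ((α ⟨gq, hgqG⟩ : G) : K) o := by
      have h2 := pt_stab_mul G φ o α hα ⟨e₂, he₂⟩ ⟨gq, hgqG⟩ he₂o
      rw [← h2]
      apply (pt_eq_iff G φ o α hα _ _).mp
      rw [Subgroup.coe_mul, map_mul, Equiv.Perm.mul_apply]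
      change φ e₂ (φ gq o) = φ gq o
      rw [hgq, he₂q]
    rcases hfix₂ _ h1 with h | h
    · exfalso
      apply hq
      have h3 : φ ((α ⟨gq, hgqG⟩ : G) : K) o = φ ((α (1 : G) : G) : K) o := by
        rw [h, map_one, Subgroup.coe_one, map_one, Equiv.Perm.one_apply]
      have h4 := (pt_eq_iff G φ o α hα ⟨gq, hgqG⟩ 1).mpr h3
      rw [Subgroup.coe_one, map_one, Equiv.Perm.one_apply] at h4
      rw [← hgq]
      exact h4
    · exact h
  have hpt : ∀ g : G, φ ((α g : G) : K) o = φ (g : K) o := by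
    intro g
    rcases horb (φ (g : K) o) with h | ⟨h, hhG, hho, hhq⟩ | ⟨h, hhG, hho, hhs⟩
    · rw [hα g h]
    · -- `g o = h g_q o`
      have h1 : φ (g : K) o = φ ((⟨h, hhG⟩ * ⟨gq, hgqG⟩ : G) : K) o := by
        rw [Subgroup.coe_mul, map_mul, Equiv.Perm.mul_apply]
        change _ = φ h (φ gq o)
        rw [hgq, hhq]
      have h2 := (pt_eq_iff G φ o α hα _ _).mp h1
      rw [h2, pt_stab_mul G φ o α hα ⟨h, hhG⟩ ⟨gq, hgqG⟩ hho, hαq]
      change φ h q = _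
      rw [hhq]
    · have h1 : φ (g : K) o = φ ((⟨h, hhG⟩ * ⟨s, hs⟩ : G) : K) o := by
        rw [Subgroup.coe_mul, map_mul, Equiv.Perm.mul_apply]
        change _ = φ h (φ s o)
        rw [hhs]
      have h2 := (pt_eq_iff G φ o α hα _ _).mp h1
      rw [h2, pt_stab_mul G φ o α hα ⟨h, hhG⟩ ⟨s, hs⟩ hho, hαs]
      change φ h (φ s o) = _
      rw [hhs]
  apply eq_one_of_pt G φ hφ o _ α hpt
  intro x
  rcases horb x with h | ⟨h, hhG, hho, hhq⟩ | ⟨h, hhG, hho, hhs⟩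
  · exact ⟨1, by rw [h, Subgroup.coe_one, map_one, Equiv.Perm.one_apply]⟩
  · refine ⟨⟨h, hhG⟩ * ⟨gq, hgqG⟩, ?_⟩
    rw [Subgroup.coe_mul, map_mul, Equiv.Perm.mul_apply]
    change φ h (φ gq o) = x
    rw [hgq, hhq]
  · refine ⟨⟨h, hhG⟩ * ⟨s, hs⟩, ?_⟩
    rw [Subgroup.coe_mul, map_mul, Equiv.Perm.mul_apply]
    change φ h (φ s o) = x
    rw [hhs]

/-- **A3** (rigidity). -/
theorem aut_eq_one_or_conj {K : Type*} [Group K] (G : Subgroup K) [G.Normal] {X : Type*}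
    (φ : K →* Equiv.Perm X) (hφ : Function.Injective φ) (o q : X) (hq : q ≠ o)
    (l s e₁ e₂ : K) (hs : s ∈ G) (he₁ : e₁ ∈ G) (he₂ : e₂ ∈ G)
    (hlo : φ l o = o) (hl : ∀ h : K, φ h o = o → l * h = h * l)
    (hls : l * s * l⁻¹ = s⁻¹) (hso : φ s o ≠ o)
    (he₁o : φ e₁ o = o) (he₁s : φ e₁ (φ s o) = φ s o)
    (hfix₁ : ∀ x, φ e₁ x = x → x = o ∨ x = φ s o ∨ x = φ s⁻¹ o)
    (he₂o : φ e₂ o = o) (he₂q : φ e₂ q = q) (hfix₂ : ∀ x, φ e₂ x = x → x = o ∨ x = q)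
    (hqo : ∃ g ∈ G, φ g o = q)
    (horb : ∀ x : X, x = o ∨ (∃ g ∈ G, φ g o = o ∧ φ g q = x) ∨ (∃ g ∈ G, φ g o = o ∧ φ g (φ s o) = x))
    (α : MulAut G) (hα : ∀ g : G, φ (g : K) o = o → α g = g) :
    α = 1 ∨ MulAut.conjNormal l * α = 1 := by
  -- `α(s) o` is fixed by `e₁`
  have h1 : φ e₁ (φ ((α ⟨s, hs⟩ : G) : K) o) = φ ((α ⟨s, hs⟩ : G) : K) o := by
    have h2 := pt_stab_mul G φ o α hα ⟨e₁, he₁⟩ ⟨s, hs⟩ he₁o
    rw [← h2]
    apply (pt_eq_iff G φ o α hα _ _).mp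
    rw [Subgroup.coe_mul, map_mul, Equiv.Perm.mul_apply]
    exact he₁s
  rcases hfix₁ _ h1 with h | h | h
  · exfalso
    apply hso
    have h3 : φ ((α ⟨s, hs⟩ : G) : K) o = φ ((α (1 : G) : G) : K) o := by
      rw [h, map_one, Subgroup.coe_one, map_one, Equiv.Perm.one_apply]
    have h4 := (pt_eq_iff G φ o α hα ⟨s, hs⟩ 1).mpr h3
    rw [Subgroup.coe_one, map_one, Equiv.Perm.one_apply] at h4
    exact h4
  · left
    exact aut_eq_one_of_fix G φ hφ o q hq s e₂ hs he₂ he₂o he₂q hfix₂ hqo horb α hα h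
  · right
    have hlinv : φ l⁻¹ o = o := by
      rw [map_inv, Equiv.Perm.inv_eq_iff_eq, hlo]
    apply aut_eq_one_of_fix G φ hφ o q hq s e₂ hs he₂ he₂o he₂q hfix₂ hqo horb
    · intro g hg
      rw [MulAut.mul_apply, hα g hg]
      apply Subtype.ext
      rw [MulAut.conjNormal_apply, hl _ hg, mul_inv_cancel_right]
    · rw [MulAut.mul_apply, MulAut.conjNormal_apply, map_mul, map_mul, Equiv.Perm.mul_apply,
        Equiv.Perm.mul_apply, hlinv, h, ← Equiv.Perm.mul_apply, ← map_mul]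
      have h5 : l * s⁻¹ = s * l := by
        have h6 : l * s⁻¹ * l⁻¹ = s := by
          have h7 : l * s⁻¹ * l⁻¹ = (l * s * l⁻¹)⁻¹ := by group
          rw [h7, hls, inv_inv]
        calc l * s⁻¹ = l * s⁻¹ * l⁻¹ * l := by group
          _ = s * l := by rw [h6]
      rw [h5, map_mul, Equiv.Perm.mul_apply, hlo]

end Cfsg.Agent.Lib.Helper27.F24OAbs
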