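import Mathlib
import Cfsg.Agent.Lib.Helper27.BG134E
import Cfsg.Agent.Lib.Helper16.BGPrimD
import Cfsg.Agent.Lib.Helper2.BGCorH
import Cfsg.Agent.Lib.Helper24.BGBeta4
import Cfsg.Agent.S1424
import Cfsg.Agent.Lib.Helper9.FStar4

/-!
# B&G 13.4 (S1428): Theorem B — the case `q ∈ σ(M) ∩ σ(H)` (O-II) is impossible

Data of the bad configuration: `M`, `H` non-conjugate maximal subgroups, `P ≤ M` of prime order
`p ∉ σ(M)` with `N_G(P) ≤ H` and `p ∈ α(H)`; `R ≤ C_M(P)` of prime order `r ∉ σ(M)`, `r ∈ τ₁(H)`;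
`Y ≤ C_M(P)` a non-identity `q`-group with `q ∈ σ(M) ∩ σ(H)`, normalized by `R`, `C_Y(R) = 1`,
`Y = [Y,R]`; and (Theorem A for the swapped pair) `C_{M_α}(R) ≤ C(P)`.  Then `False`.
-/

set_option autoImplicit false
open Subgroup Cfsg
open scoped commutatorElement

namespace Cfsg.Agent.Lib.Helper27.BG134

variable {G : Type*} [Group G] [Finite G]

theorem h24_of (hG : Cfsg.IsMinSimpleOddOrder G) : Cfsg.Agent.Lib.Helper16.BGPrim.H24 G :=
  fun M hM q _ hq X hXq hX1 hXM Mstar hMs hne hNX S hXS =>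
    Cfsg.Agent.S1424.result hG M hM q hq X hXq hX1 hXM Mstar hMs hne hNX S hXS

/-- `M ⊓ C(X)` is not in a unique maximal subgroup when it lies in a second one. -/
theorem not_inUniqueMaximal_of_le {M L X : Subgroup G} (hM : IsCoatom M) (hL : IsCoatom L)
    (hne : L ≠ M) (hXM : X ≤ M) (hXL : X ≤ L) : ¬ Cfsg.InUniqueMaximal X := by
  rintro ⟨N, -, hN⟩
  have h1 := hN M ⟨hM, hXM⟩
  have h2 := hN L ⟨hL, hXL⟩
  exact hne (h2.trans h1.symm)

theorem thmB (hG : Cfsg.IsMinSimpleOddOrder G) {M H : Subgroup G} (hM : IsCoatom M)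
    (hH : IsCoatom H) (hnc : ∀ g : G, H ≠ M.map (MulAut.conj g).toMonoidHom)
    {P R Y : Subgroup G} (hPM : P ≤ M) (hRM : R ≤ M) (hYM : Y ≤ M)
    {q : ℕ} [Fact q.Prime]
    (hPp : (Nat.card P).Prime) (hRp : (Nat.card R).Prime)
    (hp : Nat.card P ∉ Cfsg.sigma M) (hr : Nat.card R ∉ Cfsg.sigma M)
    (hNP : normalizer (P : Set G) ≤ H)
    (hpH : Nat.card P ∈ Cfsg.alpha H) (hrH : Nat.card R ∈ Cfsg.tau1 H)
    (hqM : q ∈ Cfsg.sigma M) (hqH : q ∈ Cfsg.sigma H)
    (hYq : IsPGroup q Y)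
    (hPY : Y ≤ centralizer (P : Set G)) (hPR : R ≤ centralizer (P : Set G))
    (hRY : R ≤ normalizer (Y : Set G))
    (hYR : Y ⊓ centralizer (R : Set G) = ⊥) (hYc : Y ≤ ⁅Y, R⁆) (hY1 : Y ≠ ⊥)
    (hA : Cfsg.alphaCore M ⊓ centralizer (R : Set G) ≤ centralizer (P : Set G)) : False := by
  classical
  have hq : q.Prime := Fact.out
  have hU : Cfsg.Agent.Lib.Helper1.BGX.UT G := fun K hK h2 h3 => Cfsg.Agent.S1403.result hG K hK h2 h3
  haveI : IsSimpleGroup G := hG.2.1
  have hHM : H ≠ M := by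
    intro h
    apply hnc 1
    rw [Cfsg.Agent.Lib.Helper8.map_conj_one]
    exact h
  have hCPH : centralizer (P : Set G) ≤ H := (centralizer_le_normalizer _).trans hNP
  have hYH : Y ≤ H := hPY.trans hCPH
  have hRH : R ≤ H := hPR.trans hCPH
  have hPH : P ≤ H := le_normalizer.trans hNP
  have hqαM : q ∉ Cfsg.alpha M :=
    Cfsg.Agent.Lib.Helper16.BGPrim.not_mem_alpha_of_mem_sigma hG hH hM
      (Cfsg.Agent.Lib.Helper2.BGCor.nonconj_symm hnc) hqH
  have hqαH : q ∉ Cfsg.alpha H :=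
    Cfsg.Agent.Lib.Helper16.BGPrim.not_mem_alpha_of_mem_sigma hG hM hH hnc hqM
  by_cases hnu : Cfsg.InUniqueMaximal (M ⊓ centralizer (Y : Set G))
  · -- `H`-side
    obtain ⟨N, ⟨hN, hN1⟩, hNu⟩ := hnu
    have hNM : N = M := (hNu M ⟨hM, inf_le_left⟩).symm
    -- `C(Y) ≤ M`
    have hCY : centralizer (Y : Set G) ≤ M := by
      have hne : centralizer (Y : Set G) ≠ ⊤ := by
        intro h
        have h1 : Y ≤ center G := by
          intro y hy
          rw [mem_center_iff]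
          intro g
          have hg : g ∈ centralizer (Y : Set G) := by rw [h]; exact mem_top g
          exact (mem_centralizer_iff.mp hg y hy).symm
        have hcn : (center G).Normal := inferInstance
        rcases hcn.eq_bot_or_eq_top with h2 | h2
        · rw [h2] at h1; exact hY1 (eq_bot_iff.mpr h1)
        · -- `G` abelian: impossible as `M` would be normal
          have hMn : M.Normal := by
            refine ⟨fun n hn g => ?_⟩
            have hgc : g ∈ center G := by rw [h2]; exact mem_top g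
            have := mem_center_iff.mp hgc n
            rw [← this, mul_inv_cancel_right]
            exact hn
          rcases hMn.eq_bot_or_eq_top with h3 | h3
          · rw [h3] at hYM; exact hY1 (eq_bot_iff.mpr hYM)
          · exact hM.1 h3
      obtain ⟨L, hL, hCL⟩ := Cfsg.Agent.Lib.Helper17.BGU.exists_coatom_ge hne
      have hLN : L = N := hNu L ⟨hL, inf_le_right.trans hCL⟩
      rw [hLN, hNM] at hCL
      exact hCL
    have hnuY : ¬ Cfsg.InUniqueMaximal (H ⊓ centralizer (Y : Set G)) :=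
      not_inUniqueMaximal_of_le hH hM hHM.symm inf_le_left (inf_le_right.trans hCY)
    -- `C_H(R)`
    have hR1 : R ≠ ⊥ := by
      intro h
      rw [h, Subgroup.card_bot] at hRp
      exact Nat.not_prime_one hRp
    have hRtop : R ≠ ⊤ := by
      intro h
      rw [h] at hRH
      exact hH.1 (eq_top_iff.mpr hRH)
    obtain ⟨L, hL, hNL⟩ := Cfsg.Agent.Lib.Helper17.BGU.exists_coatom_ge
      (Cfsg.Agent.Lib.Helper17.BGU.normalizer_ne_top hR1 hRtop)
    haveI : Fact (Nat.card R).Prime := ⟨hRp⟩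
    have hRpg : IsPGroup (Nat.card R) R := IsPGroup.of_card (n := 1) (by rw [pow_one])
    have h0 := Cfsg.Agent.Lib.Helper16.BGPrim.thm13_2_zero hG (M := H) (H := L) hL hrH.2.1
      hrH.2.2.2.2 hRpg hR1 hNL
    have hLH : L ≠ H := by
      intro h
      apply h0.1 1
      rw [Cfsg.Agent.Lib.Helper8.map_conj_one]
      exact h
    have hnuR : ¬ Cfsg.InUniqueMaximal (H ⊓ centralizer (R : Set G)) :=
      not_inUniqueMaximal_of_le hH hL hLH inf_le_left
        (inf_le_right.trans ((centralizer_le_normalizer _).trans hNL))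
    have hrαH : Nat.card R ∉ Cfsg.alpha H := fun h =>
      hrH.2.1 (Cfsg.Agent.Lib.Helper1.BGX.alpha_subset_sigma hG hU hH h)
    exact hside hG hH hPH hRH hYH hq hPp hRp hpH hrαH hYq hqαH hPY hPR hRY hYR hY1 hnuY hnuR
  · -- `M`-side
    have hα : Cfsg.alphaCore M ≠ ⊥ := by
      intro hα0
      obtain ⟨hnil, -⟩ :=
        Cfsg.Agent.Lib.Helper23.BGLemT.exists_normal_sylow_of_alphaCore_eq_bot hG hM hα0
      have hle : Cfsg.sigmaCore M ≤ ⁅M, M⁆ :=
        Cfsg.Agent.Lib.Helper24.BGBeta.sigmaCore_le_commutator hG hU hM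
      have hnil' : Group.IsNilpotent ↥(Cfsg.sigmaCore M) :=
        Cfsg.Agent.Lib.Helper9.isNilpotent_of_le hle hnil
      exact Cfsg.Agent.Lib.Helper2.BGCor.wp_not_nilpotent hG (h24_of hG) hH hM
        (Cfsg.Agent.Lib.Helper2.BGCor.nonconj_symm hnc) hqH hqM hYq hY1 hYH hYM hnil'
    have hnuP : ¬ Cfsg.InUniqueMaximal (M ⊓ centralizer (P : Set G)) :=
      not_inUniqueMaximal_of_le hM hH hHM inf_le_left (inf_le_right.trans hCPH)
    exact mside hG hM hPM hRM hYM hq hPp hRp hp hr hYq hqαM hPY hPR hRY hYR hYc hY1 hα hnu hnuP hA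

end Cfsg.Agent.Lib.Helper27.BG134
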