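import Mathlib
import Cfsg.Prelude.Def_OddOrderLocal
import Cfsg.Agent.Lib.Helper27.BGConjA

/-!
# helper27: Frattini argument and Sylow normalizer indices (for S1425)
-/

set_option autoImplicit false
set_option linter.unusedSectionVars false
set_option linter.style.haveILetI false

namespace Cfsg.Agent.Lib.Helper27.BGConj

open Cfsg.Agent.Lib.Helper8 (mem_map_conj conj_mem_map_conj map_conj_map_conj map_conj_one
  map_conj_le_iff map_conj_eq_iff card_map_conj mem_normalizer_iff_map_conj map_conj_eq_of_le)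
open scoped Pointwise

universe u

/-- The Frattini argument, for a Sylow `q`-subgroup `S` of a normal subgroup `K`. -/
theorem frattini_sup {X : Type*} [Group X] [Finite X] {q : ℕ} [Fact q.Prime]
    (K S : Subgroup X) [hK : K.Normal] (hSK : S ≤ K) (hS : IsPGroup q S)
    (hidx : ¬ q ∣ S.relIndex K) : Subgroup.normalizer (S : Set X) ⊔ K = ⊤ := by
  rw [eq_top_iff]
  intro x _
  have hR : S.map (MulAut.conj x).toMonoidHom ≤ K := by
    rintro _ ⟨s, hs, rfl⟩
    exact hK.conj_mem s (hSK hs) x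
  obtain ⟨y, hyK, hy⟩ := Cfsg.Agent.Lib.Helper9.BGSigEmb.exists_conj_le_of_not_dvd_relIndex hS hidx
    (hS.map (MulAut.conj x).toMonoidHom) hR
  have h1 : S.map (MulAut.conj (y * x)).toMonoidHom ≤ S := by
    rw [← map_conj_map_conj]
    rintro _ ⟨r, hr, rfl⟩
    exact hy r hr
  have h2 : y * x ∈ Subgroup.normalizer (S : Set X) :=
    mem_normalizer_iff_map_conj.mpr (map_conj_eq_of_le h1)
  have e : x = (y * x) * (x⁻¹ * y⁻¹ * x) := by group
  rw [e]
  refine Subgroup.mul_mem _ (Subgroup.mem_sup_left h2) (Subgroup.mem_sup_right ?_)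
  have := hK.conj_mem y⁻¹ (K.inv_mem hyK) x⁻¹
  simpa [mul_assoc] using this

/-- The index of the normalizer of a Sylow subgroup of a normal subgroup `K` divides `|K|`. -/
theorem index_normalizer_dvd_card {X : Type*} [Group X] [Finite X] {q : ℕ} [Fact q.Prime]
    (K S : Subgroup X) [hK : K.Normal] (hSK : S ≤ K) (hS : IsPGroup q S)
    (hidx : ¬ q ∣ S.relIndex K) : (Subgroup.normalizer (S : Set X)).index ∣ Nat.card K := by
  have h1 := frattini_sup K S hSK hS hidx
  have h2 := Cfsg.Agent.Lib.Helper1.CentricRadical.relIndex_sup_of_normal_right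
    (Subgroup.normalizer (S : Set X)) K
  rw [h1, Subgroup.relIndex_top_right] at h2
  rw [h2]
  exact Subgroup.relIndex_dvd_card _ _

/-- If `X` has a normal `p`-complement and `S` is a Sylow `q`-subgroup of `X`, `q ≠ p`, then
`p` does not divide `|X : N_X(S)|`. -/
theorem not_dvd_index_normalizer_of_npc {X : Type*} [Group X] [Finite X] {p q : ℕ}
    [hp : Fact p.Prime] [hq : Fact q.Prime] (hpq : p ≠ q) (S : Subgroup X) (hS : IsPGroup q S)
    (hidx : ¬ q ∣ S.index) (hnpc : Cfsg.HasNormalPComplement p X) :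
    ¬ p ∣ (Subgroup.normalizer (S : Set X)).index := by
  obtain ⟨P, K, hKn, hKP⟩ := hnpc
  haveI := hKn
  have hcard : Nat.card K * Nat.card (P : Subgroup X) = Nat.card X := hKP.card_mul_card
  have hKidx : K.index = Nat.card (P : Subgroup X) := by
    have := K.card_mul_index
    exact Nat.eq_of_mul_eq_mul_left Nat.card_pos (this.trans hcard.symm)
  have hSK : S ≤ K := by
    apply Cfsg.Agent.Lib.Helper23.BGY.le_of_coprime_index_normal
    rw [hKidx]
    obtain ⟨a, ha⟩ := IsPGroup.iff_card.mp hS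
    obtain ⟨b, hb⟩ := IsPGroup.iff_card.mp P.isPGroup'
    rw [ha, hb]
    exact Nat.Coprime.pow _ _ ((Nat.coprime_primes hq.out hp.out).mpr hpq.symm)
  have hidx' : ¬ q ∣ S.relIndex K :=
    fun h => hidx (h.trans (Subgroup.relIndex_dvd_index_of_le hSK))
  have h1 := index_normalizer_dvd_card K S hSK hS hidx'
  intro hpd
  have h2 : p ∣ Nat.card K := hpd.trans h1
  have h3 := P.card_eq_multiplicity
  have h4 : p ^ ((Nat.card X).factorization p + 1) ∣ Nat.card X := by
    rw [pow_succ, ← h3, ← hcard, mul_comm]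
    exact Nat.mul_dvd_mul_right h2 _
  exact Nat.pow_succ_factorization_not_dvd Nat.card_pos.ne' hp.out h4

/-- Frattini: for `T ⊴ L` and `S` a Sylow `q`-subgroup of `L` inside `T`,
`|L : N_L(S)| = |T : N_T(S)|`. -/
theorem relIndex_normalizer_eq {G : Type*} [Group G] [Finite G] {q : ℕ} [Fact q.Prime]
    {L T S : Subgroup G} (hTL : T ≤ L) (hLT : L ≤ Subgroup.normalizer (T : Set G)) (hST : S ≤ T)
    (hS : IsPGroup q S) (hidx : ¬ q ∣ S.relIndex L) :
    (Subgroup.normalizer (S : Set G)).relIndex L = (Subgroup.normalizer (S : Set G)).relIndex T := by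
  haveI hTn : (T.subgroupOf L).Normal := (Subgroup.normal_subgroupOf_iff_le_normalizer hTL).mpr hLT
  have hSL : S ≤ L := hST.trans hTL
  have hS'T' : S.subgroupOf L ≤ T.subgroupOf L := by
    intro x hx
    rw [Subgroup.mem_subgroupOf] at hx ⊢
    exact hST hx
  have hS' : IsPGroup q ↥(S.subgroupOf L) := hS.comap_subtype
  have hidx' : ¬ q ∣ (S.subgroupOf L).relIndex (T.subgroupOf L) := by
    rw [Subgroup.relIndex_subgroupOf hTL]
    intro h
    apply hidx
    rw [← Subgroup.relIndex_mul_relIndex S T L hST hTL]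
    exact Dvd.dvd.mul_right h _
  have h1 := frattini_sup (T.subgroupOf L) (S.subgroupOf L) hS'T' hS' hidx'
  have h2 := Cfsg.Agent.Lib.Helper1.CentricRadical.relIndex_sup_of_normal_right
    (Subgroup.normalizer ((S.subgroupOf L : Subgroup ↥L) : Set ↥L)) (T.subgroupOf L)
  rw [h1, Subgroup.relIndex_top_right, ← Subgroup.subgroupOf_normalizer_eq hSL,
    Subgroup.relIndex_subgroupOf hTL] at h2
  exact h2

/-- If `T ⊴ L` has a normal `p`-complement and `S ≤ T` is a Sylow `q`-subgroup of `L`, `q ≠ p`,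
then `p` does not divide `|L : N_L(S)|`. -/
theorem not_dvd_relIndex_normalizer_of_npc {G : Type*} [Group G] [Finite G] {p q : ℕ}
    [hp : Fact p.Prime] [hq : Fact q.Prime] (hpq : p ≠ q)
    {L T S : Subgroup G} (hTL : T ≤ L) (hLT : L ≤ Subgroup.normalizer (T : Set G)) (hST : S ≤ T)
    (hS : IsPGroup q S) (hidx : ¬ q ∣ S.relIndex L)
    (hnpc : Cfsg.HasNormalPComplement p ↥T) :
    ¬ p ∣ (Subgroup.normalizer (S : Set G)).relIndex L := by
  rw [relIndex_normalizer_eq hTL hLT hST hS hidx]
  have h1 : (Subgroup.normalizer (S : Set G)).relIndex T =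
      (Subgroup.normalizer ((S.subgroupOf T : Subgroup ↥T) : Set ↥T)).index := by
    rw [← Subgroup.subgroupOf_normalizer_eq hST]
    rfl
  rw [h1]
  apply not_dvd_index_normalizer_of_npc hpq _ hS.comap_subtype _ hnpc
  intro h
  apply hidx
  rw [← Subgroup.relIndex_mul_relIndex S T L hST hTL]
  exact Dvd.dvd.mul_right h _

end Cfsg.Agent.Lib.Helper27.BGConj
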