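import Mathlib
import Cfsg.Prelude.Def_OddOrderLocal
import Cfsg.Agent.Lib.Helper27.BGConjB
import Cfsg.Agent.Lib.Helper23.BGY4
import Cfsg.Agent.Lib.Helper2.BGCorC
import Cfsg.Agent.Lib.Helper21.EqOrdA
import Cfsg.Agent.Lib.Helper17.RankOne
import Cfsg.Agent.S1350
import Cfsg.Agent.S1403
import Cfsg.Agent.S1414

/-!
# helper27: B & G local analysis lemmas towards S1425

`σ(M) ∩ α(M*) = ∅` and (for nilpotent `M*_σ`) `σ(M) ∩ σ(M*) = ∅` when `M*` is not conjugate to `M`;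
a rank-one criterion for `q ∈ σ(M*)`.
-/

set_option autoImplicit false
set_option linter.unusedSectionVars false
set_option linter.style.haveILetI false

namespace Cfsg.Agent.Lib.Helper27.BGConj

open Cfsg Cfsg.Agent.Lib.Helper1.BGX
open Cfsg.Agent.Lib.Helper8 (mem_map_conj conj_mem_map_conj map_conj_map_conj map_conj_one
  map_conj_le_iff map_conj_eq_iff card_map_conj mem_normalizer_iff_map_conj map_conj_eq_of_le
  sylow_smul_coe)
open scoped Pointwise

variable {G : Type*} [Group G] [Finite G]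

/-- A `σ(M)`-subgroup of `M` lies in `M_σ`. -/
theorem le_sigmaCore_of_primes (hG : Cfsg.IsMinSimpleOddOrder G) {M : Subgroup G}
    (hM : IsCoatom M) {Y : Subgroup G} (hYM : Y ≤ M)
    (hY : ∀ p : ℕ, p.Prime → p ∣ Nat.card Y → p ∈ Cfsg.sigma M) : Y ≤ Cfsg.sigmaCore M := by
  obtain ⟨⟨-, -, hidx⟩, -, -⟩ := Cfsg.Agent.S1350.result hG M hM
  have hcop : (Nat.card (Y.subgroupOf M)).Coprime (Cfsg.piCore (Cfsg.sigma M) ↥M).index := by
    rw [Cfsg.Agent.Lib.Helper1.card_subgroupOf_of_le hYM]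
    apply Nat.coprime_of_dvd
    intro r hr h1 h2
    exact hidx r hr (hY r hr h1)
      (by rw [Cfsg.Agent.Lib.Helper2.BGCor.sigmaCore_relIndex]; exact h2)
  have h := Cfsg.Agent.Lib.Helper23.BGY.le_of_coprime_index_normal
    (Cfsg.piCore (Cfsg.sigma M) ↥M) (Y.subgroupOf M) hcop
  intro y hy
  exact ⟨⟨y, hYM hy⟩, h (Subgroup.mem_subgroupOf.mpr hy), rfl⟩

theorem isCoatom_map_conj {M : Subgroup G} (hM : IsCoatom M) (g : G) :
    IsCoatom (M.map (MulAut.conj g).toMonoidHom) :=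
  (OrderIso.isCoatom_iff (MulEquiv.mapSubgroup (MulAut.conj g)) M).mpr hM

/-- the primes dividing the order of a `q`-group -/
theorem prime_eq_of_dvd_card_pgroup {q : ℕ} [hq : Fact q.Prime] {S : Subgroup G}
    (hS : IsPGroup q S) {p : ℕ} (hp : p.Prime) (hd : p ∣ Nat.card S) : p = q := by
  obtain ⟨k, hk⟩ := IsPGroup.iff_card.mp hS
  rw [hk] at hd
  exact (Nat.prime_dvd_prime_iff_eq hp hq.out).mp (hp.dvd_of_dvd_pow hd)

/-- If `s ∈ σ(M) ∩ α(M*)` then `M*` is conjugate to `M`. -/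
theorem exists_conj_of_sigma_alpha (hG : Cfsg.IsMinSimpleOddOrder G) {M Ms : Subgroup G}
    (hM : IsCoatom M) (hMs : IsCoatom Ms) {s : ℕ} [Fact s.Prime] (h1 : s ∈ Cfsg.sigma M)
    (h2 : s ∈ Cfsg.alpha Ms) : ∃ g : G, Ms = M.map (MulAut.conj g).toMonoidHom := by
  have hU : UT G := fun K hK h2 h3 => Cfsg.Agent.S1403.result hG K hK h2 h3
  have h3 : s ∈ Cfsg.sigma Ms := alpha_subset_sigma hG hU hMs h2
  obtain ⟨T, hTM, -, -⟩ := exists_sylow_of_mem_sigma h1
  obtain ⟨Ts, hTsM, -, -⟩ := exists_sylow_of_mem_sigma h3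
  have hr : ¬ Cfsg.PRankLE s 2 G := fun h => h2.2 (pRankLE_subgroup h Ms)
  obtain ⟨L, ⟨hL, hTL⟩, hLu⟩ := sylow_inUniqueMaximal hG hU Ts hr
  obtain ⟨g, hg⟩ := MulAction.exists_smul_eq G T Ts
  refine ⟨g, ?_⟩
  have e1 : Ms = L := hLu Ms ⟨hMs, hTsM⟩
  have e2 : M.map (MulAut.conj g).toMonoidHom = L := by
    apply hLu _ ⟨isCoatom_map_conj hM g, ?_⟩
    rw [← hg, sylow_smul_coe]
    exact Subgroup.map_mono hTM
  rw [e1, e2]

/-- If `s ∈ σ(M) ∩ σ(M*)` and `M*_σ` is nilpotent then `M*` is conjugate to `M`. -/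
theorem exists_conj_of_sigma_sigma_nilpotent (hG : Cfsg.IsMinSimpleOddOrder G) {M Ms : Subgroup G}
    (hM : IsCoatom M) (hMs : IsCoatom Ms) {s : ℕ} [hs : Fact s.Prime] (h1 : s ∈ Cfsg.sigma M)
    (h2 : s ∈ Cfsg.sigma Ms) (hnil : Group.IsNilpotent ↥(Cfsg.sigmaCore Ms)) :
    ∃ g : G, Ms = M.map (MulAut.conj g).toMonoidHom := by
  obtain ⟨T, hTM, -, hNT⟩ := exists_sylow_of_mem_sigma h1
  obtain ⟨Ts, hTsM, -, -⟩ := exists_sylow_of_mem_sigma h2
  set K := Cfsg.sigmaCore Ms with hK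
  have hTsσ : (Ts : Subgroup G) ≤ K :=
    le_sigmaCore_of_primes hG hMs hTsM (fun p hp hd => by
      rw [prime_eq_of_dvd_card_pgroup Ts.isPGroup' hp hd]; exact h2)
  obtain ⟨k, hk⟩ := IsPGroup.iff_card.mp Ts.isPGroup'
  have hidx : ¬ s ∣ ((Ts : Subgroup G).subgroupOf K).index := fun h =>
    Ts.not_dvd_index (h.trans (Subgroup.relIndex_dvd_index_of_le hTsσ))
  have hcopidx : ∀ j : ℕ, (s ^ j).Coprime ((Ts : Subgroup G).subgroupOf K).index := fun j =>
    Nat.Coprime.pow_left j ((Nat.Prime.coprime_iff_not_dvd hs.out).mpr hidx)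
  haveI := hnil
  haveI hTsn : ((Ts : Subgroup G).subgroupOf K).Normal := by
    apply Cfsg.Agent.Lib.Helper23.BGY.normal_of_coprime_index_nilpotent
    rw [Cfsg.Agent.Lib.Helper1.card_subgroupOf_of_le hTsσ, hk]
    exact hcopidx k
  have hMsN : Ms ≤ Subgroup.normalizer ((Ts : Subgroup G) : Set G) := by
    intro m hm
    apply mem_normalizer_iff_map_conj.mpr
    apply map_conj_eq_of_le
    have hR : (Ts : Subgroup G).map (MulAut.conj m).toMonoidHom ≤ K := by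
      rintro _ ⟨t, ht, rfl⟩
      exact Cfsg.Agent.Lib.Helper2.BGCor.conj_mem_sigmaCore hm (hTsσ ht)
    have h5 := Cfsg.Agent.Lib.Helper23.BGY.le_of_coprime_index_normal
      ((Ts : Subgroup G).subgroupOf K)
      (((Ts : Subgroup G).map (MulAut.conj m).toMonoidHom).subgroupOf K) (by
        rw [Cfsg.Agent.Lib.Helper1.card_subgroupOf_of_le hR, card_map_conj, hk]
        exact hcopidx k)
    intro x hx
    have h6 : (⟨x, hR hx⟩ : ↥K) ∈
        ((Ts : Subgroup G).map (MulAut.conj m).toMonoidHom).subgroupOf K :=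
      Subgroup.mem_subgroupOf.mpr hx
    exact Subgroup.mem_subgroupOf.mp (h5 h6)
  obtain ⟨g, hg⟩ := MulAction.exists_smul_eq G T Ts
  refine ⟨g, ?_⟩
  have h5 : Ms ≤ M.map (MulAut.conj g).toMonoidHom := by
    intro m hm
    rw [mem_map_conj]
    apply hNT
    have hmN := hMsN hm
    rw [← hg] at hmN
    have h6 : m • (g • T) = g • T := Sylow.smul_eq_iff_mem_normalizer.mpr hmN
    have h7 : (g⁻¹ * m * g) • T = T := by
      calc (g⁻¹ * m * g) • T = g⁻¹ • (m • (g • T)) := by simp only [mul_smul]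
        _ = g⁻¹ • (g • T) := by rw [h6]
        _ = T := by simp
    exact Sylow.smul_eq_iff_mem_normalizer.mp h7
  exact ((hMs.le_iff_eq (isCoatom_map_conj hM g).1).mp h5).symm

/-- A `q`-subgroup of `M*` of `q`-rank one is cyclic; consequently if `S` is a Sylow `q`-subgroup of
`M*` containing a nontrivial `N` with `N_G(N) ≤ M*`, then `q ∈ σ(M*)`. -/
theorem mem_sigma_of_rank_one (hG : Cfsg.IsMinSimpleOddOrder G) {Ms : Subgroup G}
    {q : ℕ} [hq : Fact q.Prime] (hr : Cfsg.PRankLE q 1 ↥Ms)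
    {S N : Subgroup G} (hSM : S ≤ Ms) (hS : IsPGroup q S) (hidx : ¬ q ∣ S.relIndex Ms)
    (hNS : N ≤ S) (hN1 : N ≠ ⊥)
    (hNN : Subgroup.normalizer (N : Set G) ≤ Ms) : q ∈ Cfsg.sigma Ms := by
  have hodd : Odd (Nat.card G) := hG.1
  have hNq : IsPGroup q N := hS.to_le hNS
  obtain ⟨k, hk⟩ := IsPGroup.iff_card.mp hNq
  have hk0 : k ≠ 0 := by
    rintro rfl
    rw [pow_zero] at hk
    exact hN1 (Subgroup.card_eq_one.mp hk)
  have hqN : q ∣ Nat.card N := hk ▸ dvd_pow_self q hk0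
  have hq2 : q ≠ 2 := ne_two_of_dvd_sub hodd hqN
  have hrS : Cfsg.PRankLE q 1 ↥S :=
    Cfsg.Agent.Lib.Helper9.pRankLE_of_injective (Subgroup.inclusion hSM)
      (Subgroup.inclusion_injective hSM) q 1 hr
  have hcyc : IsCyclic ↥(⊤ : Subgroup ↥S) :=
    Cfsg.Agent.Lib.Helper17.isCyclic_of_pRankLE_one hq2 hrS ⊤ (by
      intro x
      obtain ⟨j, hj⟩ := hS (x : ↥S)
      exact ⟨j, Subtype.ext hj⟩)
  have hcyc' : IsCyclic ↥S := isCyclic_of_surjective _ Subgroup.topEquiv.surjective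
  have hNSN : Subgroup.normalizer (S : Set G) ≤ Subgroup.normalizer (N : Set G) := by
    intro g hg
    have h1 : S.map (MulAut.conj g).toMonoidHom = S := mem_normalizer_iff_map_conj.mp hg
    apply mem_normalizer_iff_map_conj.mpr
    apply Cfsg.Agent.Lib.Helper21.EqOrd.eq_of_card_eq_of_le_isCyclic hcyc' _ hNS
      (card_map_conj N g)
    rw [← h1]
    exact Subgroup.map_mono hNS
  have hS' : IsPGroup q ↥(S.subgroupOf Ms) := hS.comap_subtype
  refine ⟨hq.out, hqN.trans (Subgroup.card_dvd_of_le (hNS.trans hSM)), hS'.toSylow hidx, ?_⟩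
  have e : ((hS'.toSylow hidx : Sylow q ↥Ms) : Subgroup ↥Ms).map Ms.subtype = S := by
    show (S.subgroupOf Ms).map Ms.subtype = S
    exact Subgroup.map_subgroupOf_eq_of_le hSM
  rw [e]
  exact hNSN.trans hNN

/-- An elementary abelian group of order `q ^ 2` is not cyclic. -/
theorem not_isCyclic_of_elemAb_sq {q : ℕ} [hq : Fact q.Prime] {A : Subgroup G}
    (hA : Cfsg.IsElementaryAbelian q A) (hc : Nat.card A = q ^ 2) : ¬ IsCyclic ↥A := by
  intro hcyc
  obtain ⟨g, hg⟩ := hcyc.exists_generator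
  have h1 : orderOf g = Nat.card A := orderOf_eq_card_of_forall_mem_zpowers hg
  have h2 : g ^ q = 1 := Subtype.ext (by simpa using hA.2 g g.2)
  have h3 : orderOf g ∣ q := orderOf_dvd_of_pow_eq_one h2
  rw [h1, hc] at h3
  have h4 := Nat.le_of_dvd hq.out.pos h3
  have h5 : q < q ^ 2 := by
    have := hq.out.one_lt
    nlinarith
  omega

end Cfsg.Agent.Lib.Helper27.BGConj
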