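import Mathlib
import Cfsg.Prelude.Def_OddOrderLocal
import Cfsg.Agent.Lib.Helper27.BGConjC
import Cfsg.Agent.Lib.Helper1.BGX5

/-!
# helper27: statement S1425 (every `σ(M)`-subgroup of `G` is conjugate into `M_σ`)

The results of B & G 12.4–12.6 (S1416–S1418) and 12.9 (S1424) enter as the explicit hypotheses
`H16`, `K17`, `K18`, `K24` (only the parts used).

Proof.  Let `N` be a minimal normal subgroup of `Y`, a `q`-group with `q ∈ σ(M)`; conjugating, `N ≤ M`.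
Take a maximal subgroup `M* ≥ N_G(N) ≥ Y`.  If `M* = M` we are done.  Otherwise let `S` be a Sylow
`q`-subgroup of `M ∩ M*` containing `N`; by `K24`, `M*` is not conjugate to `M`, `N_G(S) ≤ M` and `S` is a
Sylow `q`-subgroup of `M*`.

* If `q ∉ σ(M*)` then `q ∈ τ₂(M*)`; take `A ≤ S` elementary abelian of order `q²`.  By `K17`, `M*_σ` is
  nilpotent, whence `σ(M) ∩ σ(M*) = ∅` and `Y` is a `σ(M*)'`-group.  A complement `E ≥ A` of `M*_σ` in `M*`
  normalizes `A` (`K18`) and `N_G(A) ≤ M` (12.10(c), from `H16`), so `E ≤ M`; `Y` is conjugate into `E`.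
* If `q ∈ σ(M*)`: for every prime `s ∉ β(M*)`, `s ≠ q`, `M*_σ` has a normal `s`-complement (S1414), so by the
  Frattini argument `s ∤ |M* : N_{M*}(S)|`; as `σ(M) ∩ β(M*) = ∅`, `|M* : M ∩ M*|` is a `σ(M)'`-number and
  Hall's theorem conjugates `Y` into `M ∩ M*`.
-/

set_option autoImplicit false
set_option linter.unusedSectionVars false
set_option linter.style.haveILetI false

namespace Cfsg.Agent.Lib.Helper27.BGConj

open Cfsg Cfsg.Agent.Lib.Helper1.BGX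
open Cfsg.Agent.Lib.Helper8 (mem_map_conj conj_mem_map_conj map_conj_map_conj map_conj_one
  map_conj_le_iff map_conj_eq_iff card_map_conj mem_normalizer_iff_map_conj map_conj_eq_of_le
  sylow_smul_coe)
open Cfsg.Agent.Lib.Helper23.BGY (H16)
open scoped Pointwise

variable {G : Type*} [Group G] [Finite G]

/-- the part of S1417 we use -/
def K17 (G : Type*) [Group G] : Prop :=
  ∀ (M : Subgroup G), IsCoatom M → ∀ (p : ℕ) [Fact p.Prime], p ∈ Cfsg.tau2 M → ∀ A : Subgroup G,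
    (A ≤ M ∧ Cfsg.IsElementaryAbelian p A ∧ Nat.card A = p ^ 2) →
    Group.IsNilpotent (Cfsg.sigmaCore M)

/-- the part of S1418 we use -/
def K18 (G : Type*) [Group G] : Prop :=
  ∀ (M : Subgroup G), IsCoatom M → ∀ E : Subgroup G, Cfsg.IsComplIn E (Cfsg.sigmaCore M) M →
    ∀ (p : ℕ) [Fact p.Prime], p ∈ Cfsg.tau2 M → ∀ A : Subgroup G,
    (A ≤ E ∧ Cfsg.IsElementaryAbelian p A ∧ Nat.card A = p ^ 2) →
    E ≤ Subgroup.normalizer (A : Set G)

/-- the conclusion of S1424 -/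
def K24 (G : Type*) [Group G] : Prop :=
  ∀ (M : Subgroup G), IsCoatom M → ∀ (q : ℕ) [Fact q.Prime], q ∈ Cfsg.sigma M →
    ∀ X : Subgroup G, IsPGroup q X → X ≠ ⊥ → X ≤ M →
    ∀ Mstar : Subgroup G, IsCoatom Mstar → Mstar ≠ M → Subgroup.normalizer (X : Set G) ≤ Mstar →
    ∀ S : Sylow q ↥(M ⊓ Mstar), X ≤ (S : Subgroup ↥(M ⊓ Mstar)).map (M ⊓ Mstar).subtype →
    (∀ g : G, Mstar ≠ M.map (MulAut.conj g).toMonoidHom) ∧
      Subgroup.normalizer (((S : Subgroup ↥(M ⊓ Mstar)).map (M ⊓ Mstar).subtype : Subgroup G) :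
        Set G) ≤ M ∧
      ¬ q ∣ ((S : Subgroup ↥(M ⊓ Mstar)).map (M ⊓ Mstar).subtype).relIndex Mstar

/-- Core of S1425: `Y` has a nontrivial normal `q`-subgroup `N ≤ M`. -/
theorem core (hG : Cfsg.IsMinSimpleOddOrder G) (h16 : H16 G) (h17 : K17 G) (h18 : K18 G)
    (h24 : K24 G) {M : Subgroup G} (hM : IsCoatom M) {q : ℕ} [hqF : Fact q.Prime]
    (hq : q ∈ Cfsg.sigma M) {Y N : Subgroup G} (hN1 : N ≠ ⊥) (hNq : IsPGroup q N)
    (hYN : Y ≤ Subgroup.normalizer (N : Set G)) (hNM : N ≤ M)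
    (hY : ∀ p : ℕ, p.Prime → p ∣ Nat.card Y → p ∈ Cfsg.sigma M) :
    ∃ g : G, Y.map (MulAut.conj g).toMonoidHom ≤ Cfsg.sigmaCore M := by
  haveI hsimple : IsSimpleGroup G := hG.2.1
  have hqp : q.Prime := hqF.out
  have hNtop : N ≠ ⊤ := fun h => hM.1 (top_le_iff.mp (h ▸ hNM))
  obtain ⟨Ms, hMs, hNMs⟩ := Cfsg.Agent.Lib.Helper17.BGU.exists_coatom_ge
    (Cfsg.Agent.Lib.Helper17.BGU.normalizer_ne_top hN1 hNtop)
  have hYMs : Y ≤ Ms := hYN.trans hNMs
  by_cases hne : Ms = M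
  · refine ⟨1, ?_⟩
    rw [map_conj_one]
    exact le_sigmaCore_of_primes hG hM (hne ▸ hYMs) hY
  have hNI : N ≤ M ⊓ Ms := le_inf hNM (Subgroup.le_normalizer.trans hNMs)
  obtain ⟨S, hNS⟩ := exists_sylow_in_ge hNI hNq
  obtain ⟨hnc, hNS', hidx⟩ := h24 M hM q hq N hNq hN1 hNM Ms hMs hne hNMs S hNS
  obtain ⟨S', hS'def⟩ : ∃ S' : Subgroup G,
      S' = (S : Subgroup ↥(M ⊓ Ms)).map (M ⊓ Ms).subtype := ⟨_, rfl⟩
  rw [← hS'def] at hNS hNS' hidx
  have hS'q : IsPGroup q S' := hS'def ▸ S.isPGroup'.map _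
  have hS'le : S' ≤ M ⊓ Ms := hS'def ▸ Subgroup.map_subtype_le _
  have hS'Ms : S' ≤ Ms := hS'le.trans inf_le_right
  have hsolv : Group.IsSolvable ↥Ms := hG.2.2.2 Ms hMs.1
  have hsolvσ : Group.IsSolvable ↥(Cfsg.sigmaCore Ms) :=
    hG.2.2.2 _ (fun h => hMs.1 (top_le_iff.mp (h ▸ Cfsg.Agent.Lib.Helper2.BGCor.sigmaCore_le Ms)))
  by_cases hqs : q ∈ Cfsg.sigma Ms
  · -- the case `q ∈ σ(M*)`
    have hS'σ : S' ≤ Cfsg.sigmaCore Ms :=
      le_sigmaCore_of_primes hG hMs hS'Ms (fun p hp hd => by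
        rw [prime_eq_of_dvd_card_pgroup hS'q hp hd]; exact hqs)
    have key : ∀ s : ℕ, s.Prime → s ∈ Cfsg.sigma M → ¬ s ∣ (M ⊓ Ms).relIndex Ms := by
      intro s hs hsM hd
      haveI : Fact s.Prime := ⟨hs⟩
      have hd' : s ∣ (Subgroup.normalizer (S' : Set G)).relIndex Ms := by
        have h1 : Subgroup.normalizer (S' : Set G) ⊓ Ms ≤ M ⊓ Ms := inf_le_inf_right _ hNS'
        have h2 : (M ⊓ Ms).relIndex Ms ∣ (Subgroup.normalizer (S' : Set G) ⊓ Ms).relIndex Ms :=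
          Subgroup.relIndex_dvd_of_le_left Ms h1
        have h3 : (Subgroup.normalizer (S' : Set G) ⊓ Ms).relIndex Ms =
            (Subgroup.normalizer (S' : Set G)).relIndex Ms := Subgroup.inf_relIndex_right _ _
        rw [h3] at h2
        exact hd.trans h2
      by_cases hsq : s = q
      · subst hsq
        exact hidx (hd'.trans (Subgroup.relIndex_dvd_of_le_left Ms Subgroup.le_normalizer))
      · by_cases hsβ : s ∈ Cfsg.beta Ms
        · obtain ⟨g, hg⟩ := exists_conj_of_sigma_alpha hG hM hMs hsM hsβ.1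
          exact hnc g hg
        · have hsd : s ∣ Nat.card Ms := hd'.trans (Subgroup.relIndex_dvd_card _ _)
          obtain ⟨-, hnpc, -⟩ := (Cfsg.Agent.S1414.result hG Ms hMs).2.2.2.2 s hs hsd hsβ
          exact not_dvd_relIndex_normalizer_of_npc hsq
            (Cfsg.Agent.Lib.Helper2.BGCor.sigmaCore_le Ms)
            (Cfsg.Agent.Lib.Helper23.BGY.le_normalizer_sigmaCore Ms) hS'σ hS'q hidx hnpc hd'
    obtain ⟨m, -, hYm⟩ := exists_conj_le_of_pi (Cfsg.sigma M) hsolv inf_le_right hYMs hY key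
    exact ⟨m, le_sigmaCore_of_primes hG hM (hYm.trans inf_le_left)
      (by rw [card_map_conj]; exact hY)⟩
  · -- the case `q ∉ σ(M*)`
    have hrank : ¬ Cfsg.PRankLE q 1 ↥Ms := fun hr =>
      hqs (mem_sigma_of_rank_one hG hr hS'Ms hS'q hidx hNS hN1 hNMs)
    have hτ : q ∈ Cfsg.tau2 Ms :=
      Cfsg.Agent.Lib.Helper23.BGY.mem_tau2_of_not_rank_one hG hMs hqp hqs hrank
    obtain ⟨A₀, hA₀M, hA₀e, hA₀c⟩ := Cfsg.Agent.Lib.Helper23.BGY.exists_elemAb_sq (p := q) hrank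
    obtain ⟨y, -, hyA⟩ := Cfsg.Agent.Lib.Helper9.BGSigEmb.exists_conj_le_of_not_dvd_relIndex hS'q
      hidx (isPGroup_of_elemAb hA₀e) hA₀M
    obtain ⟨A, hAdef⟩ : ∃ A : Subgroup G, A = A₀.map (MulAut.conj y).toMonoidHom := ⟨_, rfl⟩
    have hAS : A ≤ S' := by
      rw [hAdef]
      rintro _ ⟨a, ha, rfl⟩
      exact hyA a ha
    have hAe : Cfsg.IsElementaryAbelian q A :=
      hAdef ▸ Cfsg.Agent.Lib.Helper2.BGCor.elemAb_map_conj hA₀e y
    have hAc : Nat.card A = q ^ 2 := by rw [hAdef, card_map_conj, hA₀c]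
    have hAq : IsPGroup q A := isPGroup_of_elemAb hAe
    have hAM : A ≤ M := hAS.trans (hS'le.trans inf_le_left)
    have hAMs : A ≤ Ms := hAS.trans hS'Ms
    have hnil := h17 Ms hMs q hτ A ⟨hAMs, hAe, hAc⟩
    have hYσ : ∀ s : ℕ, s.Prime → s ∣ Nat.card Y → s ∉ Cfsg.sigma Ms := by
      intro s hs hd hsMs
      haveI : Fact s.Prime := ⟨hs⟩
      obtain ⟨g, hg⟩ := exists_conj_of_sigma_sigma_nilpotent hG hM hMs (hY s hs hd) hsMs hnil
      exact hnc g hg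
    obtain ⟨hHall, -, -⟩ := Cfsg.Agent.S1350.result hG Ms hMs
    obtain ⟨E₀, hE₀⟩ := Cfsg.Agent.Lib.Helper2.BGCor.exists_compl_sigmaCore hHall
    have hcopA : (Nat.card A).Coprime (Nat.card (Cfsg.sigmaCore Ms)) := by
      apply Nat.coprime_of_dvd
      intro r hr h1 h2
      have h3 := Cfsg.Agent.Lib.Helper2.BGCor.primes_card_sigmaCore Ms r hr h2
      rw [prime_eq_of_dvd_card_pgroup hAq hr h1] at h3
      exact hqs h3
    have hnσ := Cfsg.Agent.Lib.Helper23.BGY.le_normalizer_sigmaCore Ms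
    obtain ⟨k, hk, hkA⟩ := Cfsg.Agent.Lib.Helper23.BGY.exists_conj_mem_compl hnσ hE₀ hAMs hcopA
      (Or.inr hsolvσ)
    have hE := Cfsg.Agent.Lib.Helper23.BGY.isComplIn_conj hnσ hE₀
      (Cfsg.Agent.Lib.Helper2.BGCor.sigmaCore_le Ms hk)
    have hAE : A ≤ E₀.map (MulAut.conj k).toMonoidHom := fun a ha => mem_map_conj.mpr (hkA a ha)
    have hEN := h18 Ms hMs _ hE q hτ A ⟨hAE, hAe, hAc⟩
    have hNA : Subgroup.normalizer (A : Set G) ≤ M :=
      Cfsg.Agent.Lib.Helper23.BGY.normalizer_le_of_not_cyclic hG h16 hM hq hAq hAM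
        (not_isCyclic_of_elemAb_sq hAe hAc)
    have hEM : E₀.map (MulAut.conj k).toMonoidHom ≤ M := hEN.trans hNA
    have hcopY : (Nat.card Y).Coprime (Nat.card (Cfsg.sigmaCore Ms)) := by
      apply Nat.coprime_of_dvd
      intro r hr h1 h2
      exact hYσ r hr h1 (Cfsg.Agent.Lib.Helper2.BGCor.primes_card_sigmaCore Ms r hr h2)
    obtain ⟨k', -, hkY⟩ := Cfsg.Agent.Lib.Helper23.BGY.exists_conj_mem_compl hnσ hE hYMs hcopY
      (Or.inr hsolvσ)
    refine ⟨k'⁻¹, le_sigmaCore_of_primes hG hM ?_ (by rw [card_map_conj]; exact hY)⟩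
    intro x hx
    rw [mem_map_conj, inv_inv] at hx
    have h1 := hEM (hkY _ hx)
    have e : k'⁻¹ * (k' * x * k'⁻¹) * k' = x := by group
    rwa [e] at h1

/-- **S1425** from the hypotheses `H16`, `K17`, `K18`, `K24`. -/
theorem main (hG : Cfsg.IsMinSimpleOddOrder G) (h16 : H16 G) (h17 : K17 G) (h18 : K18 G)
    (h24 : K24 G) (M : Subgroup G) (hM : IsCoatom M) (Y : Subgroup G) (hY1 : Y ≠ ⊥)
    (hY : ∀ p : ℕ, p.Prime → p ∣ Nat.card Y → p ∈ Cfsg.sigma M) :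
    ∃ g : G, Y.map (MulAut.conj g).toMonoidHom ≤ Cfsg.sigmaCore M := by
  -- `Y` is a proper subgroup
  have hYtop : Y ≠ ⊤ := by
    rintro rfl
    obtain ⟨-, ⟨-, hidx⟩, -⟩ := Cfsg.Agent.S1350.result hG M hM
    have h1 : (Cfsg.sigmaCore M).index = 1 := by
      by_contra hne
      obtain ⟨p, hp, hpd⟩ := Nat.exists_prime_and_dvd hne
      have h2 : p ∣ Nat.card (⊤ : Subgroup G) := by
        rw [Subgroup.card_top]
        exact hpd.trans (Subgroup.index_dvd_card _)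
      exact hidx p hp (hY p hp h2) hpd
    have h3 : Cfsg.sigmaCore M = ⊤ := Subgroup.index_eq_one.mp h1
    exact hM.1 (top_le_iff.mp (h3 ▸ Cfsg.Agent.Lib.Helper2.BGCor.sigmaCore_le M))
  haveI hsolv : Group.IsSolvable ↥Y := hG.2.2.2 Y hYtop
  haveI : Nontrivial ↥Y := (Subgroup.nontrivial_iff_ne_bot Y).mpr hY1
  obtain ⟨N₀, hN₀⟩ := Cfsg.Agent.Lib.Helper1.exists_isMinNormal (G := ↥Y)
  obtain ⟨q, hqp, hqN₀⟩ := hN₀.exists_prime_isPGroup
  haveI : Fact q.Prime := ⟨hqp⟩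
  haveI := hN₀.1
  obtain ⟨N, hNdef⟩ : ∃ N : Subgroup G, N = N₀.map Y.subtype := ⟨_, rfl⟩
  have hNY : N ≤ Y := hNdef ▸ Subgroup.map_subtype_le _
  have hN1 : N ≠ ⊥ := by
    rw [hNdef]
    intro h
    exact hN₀.2.1 ((Subgroup.map_eq_bot_iff_of_injective _ Y.subtype_injective).mp h)
  have hNq : IsPGroup q N := hNdef ▸ hqN₀.map _
  have hYN : Y ≤ Subgroup.normalizer (N : Set G) :=
    hNdef ▸ Cfsg.Agent.Lib.Helper23.BGY.le_normalizer_map_subtype Y N₀
  -- `q ∈ σ(M)`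
  have hqσ : q ∈ Cfsg.sigma M := by
    apply hY q hqp
    obtain ⟨k, hk⟩ := IsPGroup.iff_card.mp hNq
    have hk0 : k ≠ 0 := by
      rintro rfl
      rw [pow_zero] at hk
      exact hN1 (Subgroup.card_eq_one.mp hk)
    exact (hk ▸ dvd_pow_self q hk0).trans (Subgroup.card_dvd_of_le hNY)
  -- conjugate `N` into `M`
  obtain ⟨P, hPM, -, -⟩ := exists_sylow_of_mem_sigma hqσ
  obtain ⟨Q, hNQ⟩ := hNq.exists_le_sylow
  obtain ⟨g, hg⟩ := MulAction.exists_smul_eq G Q P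
  have hNgM : N.map (MulAut.conj g).toMonoidHom ≤ M := by
    refine le_trans ?_ hPM
    rw [← hg, sylow_smul_coe]
    exact Subgroup.map_mono hNQ
  have hN1' : N.map (MulAut.conj g).toMonoidHom ≠ ⊥ := by
    intro h
    exact hN1 ((Subgroup.map_eq_bot_iff_of_injective _ (MulAut.conj g).injective).mp h)
  have hYN' : Y.map (MulAut.conj g).toMonoidHom ≤
      Subgroup.normalizer ((N.map (MulAut.conj g).toMonoidHom : Subgroup G) : Set G) := by
    rintro _ ⟨y, hy, rfl⟩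
    apply mem_normalizer_iff_map_conj.mpr
    have h1 : N.map (MulAut.conj y).toMonoidHom = N := mem_normalizer_iff_map_conj.mp (hYN hy)
    have e : (MulAut.conj g).toMonoidHom y * g = g * y := by
      simp [MulAut.conj_apply]
    rw [map_conj_map_conj, e, ← map_conj_map_conj, h1]
  obtain ⟨g', hg'⟩ := core hG h16 h17 h18 h24 hM hqσ hN1' (hNq.map _) hYN' hNgM
    (by rw [card_map_conj]; exact hY)
  rw [map_conj_map_conj] at hg'
  exact ⟨g' * g, hg'⟩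

end Cfsg.Agent.Lib.Helper27.BGConj
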