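/- helper27: abstract n-ary counting argument for a "P-configuration" of maximal subgroups
(B & G 14.7-type counting, used to kill maximal subgroups whose Hall kappa-subgroup is nonabelian).
Purely combinatorial: no B & G content. -/
import Mathlib
import Cfsg.Agent.Lib.Helper24.BGCount

set_option autoImplicit false

namespace Cfsg.Agent.Lib.Helper27.BGPCount

open Cfsg.Agent.Lib.Helper24.BGCount

variable {G : Type*} [Group G]

/-- the elements of `Z` lying in none of the subgroups `Si i`. -/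
def zhat {ι : Type*} (Z : Subgroup G) (Si : ι → Subgroup G) : Set G :=
  {z | z ∈ Z ∧ ∀ i, z ∉ Si i}

theorem one_not_mem_zhat {ι : Type*} [Nonempty ι] (Z : Subgroup G) (Si : ι → Subgroup G) :
    (1 : G) ∉ zhat Z Si := fun h => h.2 (Classical.arbitrary ι) (Si _).one_mem

/-- union bound: `|Z| ≤ |Zhat| + 1 + Σ (|Z ⊓ S_i| - 1)`. -/
theorem card_le_zhat [Finite G] {ι : Type*} [Fintype ι] (Z : Subgroup G) (Si : ι → Subgroup G) :
    Nat.card Z ≤ (zhat Z Si).ncard + 1 + ∑ i, (Nat.card ↥(Z ⊓ Si i) - 1) := by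
  classical
  have hsub : (Z : Set G) ⊆ zhat Z Si ∪ ({1} ∪ ⋃ i, (((Z ⊓ Si i : Subgroup G) : Set G) \ {1})) := by
    intro z hz
    by_cases h : ∀ i, z ∉ Si i
    · exact Or.inl ⟨hz, h⟩
    · push Not at h
      obtain ⟨i, hi⟩ := h
      right
      by_cases h1 : z = 1
      · left; exact h1
      · right
        exact Set.mem_iUnion.mpr ⟨i, ⟨⟨hz, hi⟩, h1⟩⟩
  have h1 : Nat.card Z = (Z : Set G).ncard := (Nat.card_coe_set_eq _)
  rw [h1]
  refine (Set.ncard_le_ncard hsub (Set.toFinite _)).trans ?_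
  refine (Set.ncard_union_le _ _).trans ?_
  rw [add_assoc]
  refine Nat.add_le_add_left ?_ _
  refine (Set.ncard_union_le _ _).trans ?_
  rw [Set.ncard_singleton]
  refine Nat.add_le_add_left ?_ _
  -- union bound over `i`
  have hU : (⋃ i, (((Z ⊓ Si i : Subgroup G) : Set G) \ {1})) =
      ⋃ i ∈ (Finset.univ : Finset ι), (((Z ⊓ Si i : Subgroup G) : Set G) \ {1}) := by
    simp
  rw [hU]
  refine (Finset.set_ncard_biUnion_le _ _).trans ?_
  refine Finset.sum_le_sum fun i _ => ?_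
  have : ((((Z ⊓ Si i : Subgroup G) : Set G)) \ {1}).ncard + 1 = Nat.card ↥(Z ⊓ Si i) := by
    rw [Set.ncard_sdiff_singleton_add_one ((Z ⊓ Si i).one_mem) (Set.toFinite _),
      ← Nat.card_coe_set_eq]
    rfl
  omega

/-- **counting**: pairwise disjoint sets `S i` of non-identity elements and the class of a TI-set
`A` (normalizer `N`) disjoint from them. -/
theorem sum_card_add_le [Finite G] {ι : Type*} [Fintype ι] (S : ι → Set G) (A : Set G)
    (N : Subgroup G) (hS1 : ∀ i, (1 : G) ∉ S i)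
    (hSd : ∀ i j, i ≠ j → ∀ x ∈ S i, x ∉ S j)
    (hA1 : (1 : G) ∉ A)
    (hTI : ∀ g : G, ∀ a ∈ A, g * a * g⁻¹ ∈ A → g ∈ N)
    (hAS : ∀ i, ∀ g : G, ∀ a ∈ A, g * a * g⁻¹ ∉ S i) :
    (∑ i, (S i).ncard) + Nat.card A * N.index + 1 ≤ Nat.card G := by
  classical
  let Φ : Option ((Σ i, S i) ⊕ ((G ⧸ N) × A)) → G := fun x =>
    match x with
    | none => 1
    | some (Sum.inl x) => (x.2 : G)
    | some (Sum.inr x) => cmap N A x
  have hinj : Function.Injective Φ := by
    intro x y hxy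
    match x, y with
    | none, none => rfl
    | none, some (Sum.inl y) =>
        exfalso
        have : (1 : G) = (y.2 : G) := hxy
        exact hS1 y.1 (this ▸ y.2.2)
    | none, some (Sum.inr y) => exact absurd hxy.symm (cmap_ne_one hA1 y)
    | some (Sum.inl x), none =>
        exfalso
        have : (x.2 : G) = 1 := hxy
        exact hS1 x.1 (this ▸ x.2.2)
    | some (Sum.inr x), none => exact absurd hxy (cmap_ne_one hA1 x)
    | some (Sum.inl x), some (Sum.inl y) =>
        have h : (x.2 : G) = (y.2 : G) := hxy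
        obtain ⟨i, a⟩ := x
        obtain ⟨j, b⟩ := y
        by_cases hij : i = j
        · subst hij
          have : a = b := Subtype.ext h
          rw [this]
        · exfalso
          simp only at h
          exact hSd i j hij a a.2 (h ▸ b.2)
    | some (Sum.inl x), some (Sum.inr y) =>
        exfalso
        have h : (x.2 : G) = cmap N A y := hxy
        obtain ⟨c, a⟩ := y
        unfold cmap at h
        simp only at h
        exact hAS x.1 c.out a a.2 (h ▸ x.2.2)
    | some (Sum.inr x), some (Sum.inl y) =>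
        exfalso
        have h : cmap N A x = (y.2 : G) := hxy
        obtain ⟨c, a⟩ := x
        unfold cmap at h
        simp only at h
        exact hAS y.1 c.out a a.2 (h.symm ▸ y.2.2)
    | some (Sum.inr x), some (Sum.inr y) => rw [cmap_eq_iff hTI hxy]
  have hcard := Nat.card_le_card_of_injective Φ hinj
  have e : Nat.card (Option ((Σ i, S i) ⊕ ((G ⧸ N) × A))) =
      (∑ i, (S i).ncard) + Nat.card A * N.index + 1 := by
    rw [Finite.card_option, Nat.card_sum, Nat.card_sigma, Nat.card_prod, Subgroup.index]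
    have : ∀ i, Nat.card (S i) = (S i).ncard := fun i => Nat.card_coe_set_eq _
    simp only [this]
    ring
  rw [e] at hcard
  exact hcard

/-- **the n-ary counting argument**.  `Mi i` subgroups with "cores" `Si i`, all containing `Z`,
`|Mi i| |Z ⊓ Si i| = |Si i| |Z|`, `3 |Z ⊓ Si i| ≤ |Si i|`; pairwise disjoint sets `S i` of
non-identity elements with `(|Si i| - 1) |G : Mi i| ≤ |S i|`; `Zhat` a TI-set with normalizer `Z`
whose class misses every `S i`.  Impossible as soon as there are at least two indices. -/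
theorem false_of_config [Finite G] {ι : Type*} [Fintype ι] (hι : 2 ≤ Fintype.card ι)
    (Mi Si : ι → Subgroup G) (Z : Subgroup G) (S : ι → Set G)
    (hS1 : ∀ i, (1 : G) ∉ S i)
    (hSd : ∀ i j, i ≠ j → ∀ x ∈ S i, x ∉ S j)
    (hScard : ∀ i, (Nat.card (Si i) - 1) * (Mi i).index ≤ (S i).ncard)
    (hcardM : ∀ i, Nat.card (Mi i) * Nat.card ↥(Z ⊓ Si i) = Nat.card (Si i) * Nat.card Z)
    (h3 : ∀ i, 3 * Nat.card ↥(Z ⊓ Si i) ≤ Nat.card (Si i))
    (hTI : ∀ g : G, ∀ z ∈ zhat Z Si, g * z * g⁻¹ ∈ zhat Z Si → g ∈ Z)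
    (hZS : ∀ i, ∀ g : G, ∀ z ∈ zhat Z Si, g * z * g⁻¹ ∉ S i) : False := by
  classical
  have hne : Nonempty ι := by
    rw [← Fintype.card_pos_iff]; omega
  have hcount := sum_card_add_le S (zhat Z Si) Z hS1 hSd (one_not_mem_zhat Z Si) hTI hZS
  have hzhat := card_le_zhat Z Si
  rw [Nat.card_coe_set_eq] at hcount
  -- notation
  set IZ := Z.index with hIZ
  have hgZ : Nat.card Z * IZ = Nat.card G := Z.card_mul_index
  have hzpos : 0 < Nat.card Z := Nat.card_pos
  have hIZpos : 0 < IZ := by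
    rcases Nat.eq_zero_or_pos IZ with h | h
    · rw [h, mul_zero] at hgZ; exact absurd hgZ.symm (Nat.card_pos).ne'
    · exact h
  -- per index facts
  have hidx : ∀ i, (Mi i).index * Nat.card (Si i) = IZ * Nat.card ↥(Z ⊓ Si i) := by
    intro i
    have h1 : Nat.card (Mi i) * (Mi i).index = Nat.card G := (Mi i).card_mul_index
    have hMpos : 0 < Nat.card (Mi i) := Nat.card_pos
    -- multiply by |Mi i| * |Z|... use cancellation
    have h2 : (Mi i).index * Nat.card (Si i) * (Nat.card (Mi i) * Nat.card Z) =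
        IZ * Nat.card ↥(Z ⊓ Si i) * (Nat.card (Mi i) * Nat.card Z) := by
      calc (Mi i).index * Nat.card (Si i) * (Nat.card (Mi i) * Nat.card Z)
          = (Nat.card (Mi i) * (Mi i).index) * (Nat.card (Si i) * Nat.card Z) := by ring
        _ = Nat.card G * (Nat.card (Mi i) * Nat.card ↥(Z ⊓ Si i)) := by rw [h1, hcardM i]
        _ = (Nat.card Z * IZ) * (Nat.card (Mi i) * Nat.card ↥(Z ⊓ Si i)) := by rw [hgZ]
        _ = IZ * Nat.card ↥(Z ⊓ Si i) * (Nat.card (Mi i) * Nat.card Z) := by ring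
    exact Nat.eq_of_mul_eq_mul_right (Nat.mul_pos hMpos hzpos) h2
  have h3idx : ∀ i, 3 * (Mi i).index ≤ IZ := by
    intro i
    have hapos : 0 < Nat.card ↥(Z ⊓ Si i) := Nat.card_pos
    have h1 : 3 * (Mi i).index * Nat.card ↥(Z ⊓ Si i) ≤ IZ * Nat.card ↥(Z ⊓ Si i) := by
      calc 3 * (Mi i).index * Nat.card ↥(Z ⊓ Si i)
          = (Mi i).index * (3 * Nat.card ↥(Z ⊓ Si i)) := by ring
        _ ≤ (Mi i).index * Nat.card (Si i) := Nat.mul_le_mul_left _ (h3 i)
        _ = IZ * Nat.card ↥(Z ⊓ Si i) := hidx i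
    exact Nat.le_of_mul_le_mul_right h1 hapos
  -- lower bound for each `S i`
  have hlow : ∀ i, IZ * Nat.card ↥(Z ⊓ Si i) ≤ (S i).ncard + (Mi i).index := by
    intro i
    have hspos : 0 < Nat.card (Si i) := Nat.card_pos
    have : (Nat.card (Si i) - 1) * (Mi i).index + (Mi i).index = (Mi i).index * Nat.card (Si i) := by
      obtain ⟨k, hk⟩ : ∃ k, Nat.card (Si i) = k + 1 := ⟨Nat.card (Si i) - 1, by omega⟩
      rw [hk]; simp; ring
    have := hScard i
    have := hidx i
    omega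
  -- sum up, in ℤ
  have hsum1 : (∑ i, IZ * Nat.card ↥(Z ⊓ Si i)) ≤ (∑ i, (S i).ncard) + ∑ i, (Mi i).index := by
    rw [← Finset.sum_add_distrib]
    exact Finset.sum_le_sum fun i _ => hlow i
  have hsum3 : 3 * (∑ i, (Mi i).index) ≤ Fintype.card ι * IZ := by
    rw [Finset.mul_sum]
    calc (∑ i, 3 * (Mi i).index) ≤ ∑ _i : ι, IZ := Finset.sum_le_sum fun i _ => h3idx i
      _ = Fintype.card ι * IZ := by simp [Finset.card_univ]
  have hsumA : (∑ i, (Nat.card ↥(Z ⊓ Si i) - 1)) + Fintype.card ι = ∑ i, Nat.card ↥(Z ⊓ Si i) := by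
    have : ∀ i, (Nat.card ↥(Z ⊓ Si i) - 1) + 1 = Nat.card ↥(Z ⊓ Si i) := fun i => by
      have : 0 < Nat.card ↥(Z ⊓ Si i) := Nat.card_pos
      omega
    calc (∑ i, (Nat.card ↥(Z ⊓ Si i) - 1)) + Fintype.card ι
        = ∑ i, ((Nat.card ↥(Z ⊓ Si i) - 1) + 1) := by
          rw [Finset.sum_add_distrib]; simp [Finset.card_univ]
      _ = ∑ i, Nat.card ↥(Z ⊓ Si i) := Finset.sum_congr rfl fun i _ => this i
  have hsumIZ : (∑ i, IZ * Nat.card ↥(Z ⊓ Si i)) = IZ * ∑ i, Nat.card ↥(Z ⊓ Si i) := by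
    rw [Finset.mul_sum]
  -- abbreviations
  set σA := ∑ i, Nat.card ↥(Z ⊓ Si i) with hσA
  set σA' := ∑ i, (Nat.card ↥(Z ⊓ Si i) - 1) with hσA'
  set σS := ∑ i, (S i).ncard with hσS
  set σI := ∑ i, (Mi i).index with hσI
  set n := Fintype.card ι with hn
  set zh := (zhat Z Si).ncard with hzh
  set z := Nat.card Z with hz
  rw [hsumIZ] at hsum1
  -- everything to ℤ
  have H1 : (IZ : ℤ) * σA ≤ σS + σI := by exact_mod_cast hsum1
  have H2 : (3 : ℤ) * σI ≤ n * IZ := by exact_mod_cast hsum3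
  have H3 : (σA' : ℤ) + n = σA := by exact_mod_cast hsumA
  have H4 : (z : ℤ) ≤ zh + 1 + σA' := by exact_mod_cast hzhat
  have H5 : (σS : ℤ) + zh * IZ + 1 ≤ z * IZ := by
    have : σS + zh * IZ + 1 ≤ z * IZ := by rw [hgZ]; exact hcount
    exact_mod_cast this
  have H6 : (2 : ℤ) ≤ n := by exact_mod_cast hι
  have H7 : (0 : ℤ) < IZ := by exact_mod_cast hIZpos
  -- z * IZ ≤ (zh + 1 + σA') * IZ
  have H8 : (z : ℤ) * IZ ≤ (zh + 1 + σA') * IZ := mul_le_mul_of_nonneg_right H4 H7.le
  nlinarith
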