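/- helper27: the counting argument for a "P-configuration" of maximal subgroups of a minimal simple
group of odd order (B & G 14.7-type counting with the sets `M~` of B & G 14.5).
Hypotheses: the sigma-partition `SP G`, `H1428 G` (both real now) and the count of B & G 14.5
(`|M~| = (|M_σ| - 1) |G : M|`, helper9). -/
import Mathlib
import Cfsg.Agent.Lib.Helper27.BGPCountA
import Cfsg.Agent.Lib.Helper9.BG144C
import Cfsg.Agent.Lib.Helper27.BGConjC
import Cfsg.Agent.S1404

set_option autoImplicit false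
set_option linter.unusedSectionVars false
set_option linter.style.haveILetI false

namespace Cfsg.Agent.Lib.Helper27.BGPCount

open Cfsg
open Cfsg.Agent.Lib.Helper9.BG144 (SP thm14_4 fittingHallOf_le_sigmaCore)
open Cfsg.Agent.Lib.Helper17.BGR2 (H1428)
open Cfsg.Agent.Lib.Helper2.BGCor (sigmaCore_le primes_card_sigmaCore)
open Cfsg.Agent.Lib.Helper16.BGPrim (sigma_map_conj)
open Cfsg.Agent.Lib.Helper8 (mem_map_conj map_conj_map_conj map_conj_one)

variable {G : Type*} [Group G]

/-! ### conjugation invariance of `τ₂` -/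

theorem pRankLE_of_mulEquiv {H H' : Type*} [Group H] [Group H'] (e : H ≃* H') {p k : ℕ}
    (h : Cfsg.PRankLE p k H) : Cfsg.PRankLE p k H' := by
  intro A hA hAp
  have h1 : Nat.card (A.map e.symm.toMonoidHom) = Nat.card A :=
    Subgroup.card_map_of_injective e.symm.injective
  rw [← h1]
  refine h (A.map e.symm.toMonoidHom) inferInstance ?_
  rintro _ ⟨a, ha, rfl⟩
  have := hAp a ha
  change e.symm a ^ p = 1
  rw [← map_pow, this, map_one]

theorem sigma_map_conj_iff [Finite G] {M : Subgroup G} {p : ℕ} (g : G) :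
    p ∈ Cfsg.sigma (M.map (MulAut.conj g).toMonoidHom) ↔ p ∈ Cfsg.sigma M := by
  constructor
  · intro h
    have := sigma_map_conj h g⁻¹
    rwa [map_conj_map_conj, inv_mul_cancel, map_conj_one] at this
  · intro h
    exact sigma_map_conj h g

theorem tau2_map_conj [Finite G] {M : Subgroup G} {p : ℕ} (hp : p ∈ Cfsg.tau2 M) (g : G) :
    p ∈ Cfsg.tau2 (M.map (MulAut.conj g).toMonoidHom) := by
  obtain ⟨hpp, hσ, h2, h1⟩ := hp
  have e : ↥M ≃* ↥(M.map (MulAut.conj g).toMonoidHom) :=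
    M.equivMapOfInjective _ (MulAut.conj g).injective
  refine ⟨hpp, fun h => hσ ((sigma_map_conj_iff g).mp h), pRankLE_of_mulEquiv e h2, fun h => ?_⟩
  exact h1 (pRankLE_of_mulEquiv e.symm h)

/-! ### the support `R(a)` -/

/-- description of `R(a)` for `a ∈ N_σ^#` (B & G 14.4). -/
theorem supportR_cases [Finite G] (hG : Cfsg.IsMinSimpleOddOrder G) (hSP : SP G) (h28 : H1428 G)
    {N : Subgroup G} (hN : IsCoatom N) {a : G} (ha : a ∈ Cfsg.sigmaCore N) (ha1 : a ≠ 1)
    {r : G} (hr : r ∈ Cfsg.supportR N a) :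
    r = 1 ∨ ∃ L : Subgroup G, IsCoatom L ∧ r ∈ Cfsg.sigmaCore L ∧ r * a = a * r ∧
      ∀ p : ℕ, p.Prime → p ∣ orderOf a → p ∈ Cfsg.tau2 L := by
  unfold Cfsg.supportR at hr
  split_ifs at hr with h
  · right
    obtain ⟨L', hL', -, hcL', huniq, -, -, -, htau, -⟩ := thm14_4 hG hSP h28 hN ha ha1 h.1
    have hspec := Classical.choose_spec h.2.exists
    set L := Classical.choose h.2.exists with hLdef
    have hLL' : L = L' := huniq L hspec.1 hspec.2
    refine ⟨L, hspec.1, fittingHallOf_le_sigmaCore hG hspec.1 hr.1, ?_, ?_⟩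
    · have := Subgroup.mem_centralizer_iff.mp hr.2 a (Set.mem_singleton a)
      exact this.symm
    · rw [hLL']; exact htau
  · left
    exact Subgroup.mem_bot.mp hr

/-- the primes of the order of an element of `M_σ` lie in `σ(M)`. -/
theorem mem_sigma_of_dvd_orderOf [Finite G] {M : Subgroup G} {a : G} (ha : a ∈ Cfsg.sigmaCore M)
    {s : ℕ} (hs : s.Prime) (hd : s ∣ orderOf a) : s ∈ Cfsg.sigma M := by
  apply primes_card_sigmaCore M s hs
  have : orderOf a ∣ Nat.card (Cfsg.sigmaCore M) := by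
    have := orderOf_dvd_natCard (⟨a, ha⟩ : ↥(Cfsg.sigmaCore M))
    rwa [Subgroup.orderOf_mk] at this
  exact hd.trans this

/-- an element of `M` whose order involves only primes of `σ(M)` lies in `M_σ`. -/
theorem mem_sigmaCore_of_orderOf [Finite G] (hG : Cfsg.IsMinSimpleOddOrder G) {M : Subgroup G}
    (hM : IsCoatom M) {z : G} (hz : z ∈ M)
    (h : ∀ s : ℕ, s.Prime → s ∣ orderOf z → s ∈ Cfsg.sigma M) : z ∈ Cfsg.sigmaCore M := by
  have h1 : Subgroup.zpowers z ≤ M := (Subgroup.zpowers_le).mpr hz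
  have := Cfsg.Agent.Lib.Helper27.BGConj.le_sigmaCore_of_primes hG hM h1
    (fun p hp hd => h p hp (by rwa [Nat.card_zpowers] at hd))
  exact this (Subgroup.mem_zpowers z)

/-- key facts on an element `a r` of `N~`. -/
theorem tilde_elem_facts [Finite G] (hG : Cfsg.IsMinSimpleOddOrder G) (hSP : SP G)
    (h28 : H1428 G) {N : Subgroup G} (hN : IsCoatom N) {a : G} (ha : a ∈ Cfsg.sigmaCore N)
    (ha1 : a ≠ 1) {r : G} (hr : r ∈ Cfsg.supportR N a) :
    orderOf (a * r) = orderOf a * orderOf r ∧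
      (r = 1 ∨ ∃ L : Subgroup G, IsCoatom L ∧ (∃ p, p ∈ Cfsg.tau2 L) ∧
        ∀ s : ℕ, s.Prime → s ∣ orderOf r → s ∈ Cfsg.sigma L) := by
  rcases supportR_cases hG hSP h28 hN ha ha1 hr with h | ⟨L, hL, hrL, hcomm, htau⟩
  · subst h
    simp
  · -- a prime of `o(a)`
    have ho1 : orderOf a ≠ 1 := fun h => ha1 (orderOf_eq_one_iff.mp h)
    obtain ⟨p, hpp, hpa⟩ := Nat.exists_prime_and_dvd ho1
    have hpτ := htau p hpp hpa
    -- coprimality of the orders
    have hcop : (orderOf a).Coprime (orderOf r) := by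
      apply Nat.coprime_of_dvd
      intro s hs h1 h2
      have hsN : s ∈ Cfsg.sigma N := mem_sigma_of_dvd_orderOf ha hs h1
      have hsL : s ∈ Cfsg.sigma L := mem_sigma_of_dvd_orderOf hrL hs h2
      obtain ⟨g, hg⟩ := hSP N L hN hL ⟨s, hsN, hsL⟩
      -- then `p ∈ σ(L)`, against `p ∈ τ₂(L)`
      have hpN : p ∈ Cfsg.sigma N := mem_sigma_of_dvd_orderOf ha hpp hpa
      have : p ∈ Cfsg.sigma L := by rw [hg]; exact sigma_map_conj hpN g
      exact hpτ.2.1 this
    have hc : Commute a r := hcomm.symm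
    refine ⟨hc.orderOf_mul_eq_mul_orderOf_of_coprime hcop, Or.inr ⟨L, hL, ⟨p, hpτ⟩, ?_⟩⟩
    intro s hs hd
    exact mem_sigma_of_dvd_orderOf hrL hs hd

end Cfsg.Agent.Lib.Helper27.BGPCount
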