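/- helper27: P-configurations of maximal subgroups are impossible (counting). -/
import Mathlib
import Cfsg.Agent.Lib.Helper27.BGPCountB

set_option autoImplicit false
set_option linter.unusedSectionVars false
set_option linter.style.haveILetI false

namespace Cfsg.Agent.Lib.Helper27.BGPCount

open Cfsg
open Cfsg.Agent.Lib.Helper9.BG144 (SP thm14_4 fittingHallOf_le_sigmaCore)
open Cfsg.Agent.Lib.Helper17.BGR2 (H1428)
open Cfsg.Agent.Lib.Helper2.BGCor (sigmaCore_le primes_card_sigmaCore)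
open Cfsg.Agent.Lib.Helper16.BGPrim (sigma_map_conj)
open Cfsg.Agent.Lib.Helper8 (mem_map_conj map_conj_map_conj map_conj_one)

variable {G : Type*} [Group G]

/-- A **P-configuration**: maximal subgroups `Mi i`, pairwise non-conjugate, all containing `Z`,
with pairwise intersection `Z`; every prime of `|Z|` lies in some `σ(Mi i)`; the non-identity
elements of `Z ∩ (Mi i)_σ` have their centralizer in `Mi i`; `τ₂(Mi i) = ∅`;
`Mi i = (Mi i)_σ Z` (as an order equation) and `3 |Z ∩ (Mi i)_σ| ≤ |(Mi i)_σ|`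
(i.e. `(Mi i)_σ ⊄ Z`, see `three_of_not_le`). -/
structure PConfig {ι : Type*} (Mi : ι → Subgroup G) (Z : Subgroup G) : Prop where
  coatom : ∀ i, IsCoatom (Mi i)
  nonconj : ∀ i j, i ≠ j → ∀ g : G, Mi j ≠ (Mi i).map (MulAut.conj g).toMonoidHom
  Z_le : ∀ i, Z ≤ Mi i
  inter : ∀ i j, i ≠ j → Mi i ⊓ Mi j ≤ Z
  cover : ∀ s : ℕ, s.Prime → s ∣ Nat.card Z → ∃ i, s ∈ Cfsg.sigma (Mi i)
  good : ∀ i, ∀ y ∈ Z ⊓ Cfsg.sigmaCore (Mi i), y ≠ 1 →
    Subgroup.centralizer ({y} : Set G) ≤ Mi i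
  tau2 : ∀ i, Cfsg.tau2 (Mi i) = ∅
  card : ∀ i, Nat.card (Mi i) * Nat.card ↥(Z ⊓ Cfsg.sigmaCore (Mi i)) =
    Nat.card (Cfsg.sigmaCore (Mi i)) * Nat.card Z
  three : ∀ i, 3 * Nat.card ↥(Z ⊓ Cfsg.sigmaCore (Mi i)) ≤ Nat.card (Cfsg.sigmaCore (Mi i))

/-- the set `N~` of B & G 14.5. -/
noncomputable abbrev tildeS (N : Subgroup G) : Set G :=
  Cfsg.tildeOf N ((Cfsg.sigmaCore N : Set G) \ {1})

theorem conj_eq_iff {a b g : G} : g * a * g⁻¹ = b ↔ a = g⁻¹ * b * g := by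
  constructor
  · rintro rfl; group
  · rintro rfl; group

theorem orderOf_conj (g a : G) : orderOf (g * a * g⁻¹) = orderOf a := by
  have : g * a * g⁻¹ = MulAut.conj g a := by simp [MulAut.conj_apply]
  rw [this]
  exact orderOf_injective (MulAut.conj g).toMonoidHom (MulAut.conj g).injective a

variable [Finite G]

section

variable (hG : Cfsg.IsMinSimpleOddOrder G) (hSP : SP G) (h28 : H1428 G)
include hG hSP h28

theorem one_not_mem_tildeS {N : Subgroup G} (hN : IsCoatom N) : (1 : G) ∉ tildeS N := by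
  rintro ⟨a, ⟨ha, ha1⟩, r, hr, y, hy⟩
  have ha1' : a ≠ 1 := fun h => ha1 (Set.mem_singleton_iff.mpr h)
  have h1 : a * r = 1 := by
    have := (conj_eq_iff.mp hy.symm)
    rw [this]; group
  obtain ⟨ho, -⟩ := tilde_elem_facts hG hSP h28 hN ha ha1' hr
  rw [h1, orderOf_one] at ho
  have : orderOf a = 1 := Nat.eq_one_of_mul_eq_one_right ho.symm
  exact ha1' (orderOf_eq_one_iff.mp this)

variable {ι : Type*} {Mi : ι → Subgroup G} {Z : Subgroup G}

/-- a prime of `σ(L)` for a coatom `L` with `τ₂(L) ≠ ∅` divides the order of no element of `Z`. -/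
theorem not_dvd_of_tau2 (c : PConfig Mi Z) {L : Subgroup G} (hL : IsCoatom L)
    (hτ : ∃ p, p ∈ Cfsg.tau2 L) {s : ℕ} (hs : s.Prime) (hsL : s ∈ Cfsg.sigma L) {z : G}
    (hz : z ∈ Z) : ¬ s ∣ orderOf z := by
  intro hd
  have h1 : orderOf z ∣ Nat.card Z := by
    have := orderOf_dvd_natCard (⟨z, hz⟩ : ↥Z)
    rwa [Subgroup.orderOf_mk] at this
  obtain ⟨k, hk⟩ := c.cover s hs (hd.trans h1)
  obtain ⟨g, hg⟩ := hSP (Mi k) L (c.coatom k) hL ⟨s, hk, hsL⟩
  obtain ⟨p, hp⟩ := hτ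
  have : p ∈ Cfsg.tau2 (Mi k) := by
    have h2 := tau2_map_conj hp g⁻¹
    rw [hg, map_conj_map_conj, inv_mul_cancel, map_conj_one] at h2
    exact h2
  rw [c.tau2 k] at this
  exact this

/-- the class of `Zhat` misses every `(Mi i)~`. -/
theorem zhat_not_mem_tildeS (c : PConfig Mi Z) (i : ι) (g : G) {z : G}
    (hz : z ∈ zhat Z (fun i => Cfsg.sigmaCore (Mi i))) : g * z * g⁻¹ ∉ tildeS (Mi i) := by
  rintro ⟨a, ⟨ha, ha1⟩, r, hr, y, hy⟩
  have ha1' : a ≠ 1 := fun h => ha1 (Set.mem_singleton_iff.mpr h)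
  obtain ⟨ho, hcase⟩ := tilde_elem_facts hG hSP h28 (c.coatom i) ha ha1' hr
  -- `a r` is a conjugate of `z`
  have hoz : orderOf (a * r) = orderOf z := by
    have h1 : a * r = y⁻¹ * (g * z * g⁻¹) * y := conj_eq_iff.mp hy.symm
    have h2 : y⁻¹ * (g * z * g⁻¹) * y = (y⁻¹ * g) * z * (y⁻¹ * g)⁻¹ := by group
    rw [h1, h2, orderOf_conj]
  have hr1 : r = 1 := by
    rcases hcase with h | ⟨L, hL, hτ, hσ⟩
    · exact h
    · by_contra hr1
      have ho1 : orderOf r ≠ 1 := fun h => hr1 (orderOf_eq_one_iff.mp h)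
      obtain ⟨s, hs, hsr⟩ := Nat.exists_prime_and_dvd ho1
      apply not_dvd_of_tau2 hG hSP h28 c hL hτ hs (hσ s hs hsr) hz.1
      rw [← hoz, ho]
      exact hsr.mul_left _
  -- so `z` is a `σ(Mi i)`-element of `Mi i`, hence lies in `(Mi i)_σ`
  apply hz.2 i
  apply mem_sigmaCore_of_orderOf hG (c.coatom i) (c.Z_le i hz.1)
  intro s hs hd
  rw [← hoz, ho, hr1, orderOf_one, mul_one] at hd
  exact mem_sigma_of_dvd_orderOf ha hs hd

/-- the sets `(Mi i)~` are pairwise disjoint. -/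
theorem tildeS_disjoint (c : PConfig Mi Z) {i j : ι} (hij : i ≠ j) {x : G}
    (hx : x ∈ tildeS (Mi i)) : x ∉ tildeS (Mi j) := by
  rintro ⟨a', ⟨ha', ha1'⟩, r', hr', y', hy'⟩
  obtain ⟨a, ⟨ha, ha1⟩, r, hr, y, hy⟩ := hx
  have ha1n : a ≠ 1 := fun h => ha1 (Set.mem_singleton_iff.mpr h)
  have ha1n' : a' ≠ 1 := fun h => ha1' (Set.mem_singleton_iff.mpr h)
  obtain ⟨ho, -⟩ := tilde_elem_facts hG hSP h28 (c.coatom i) ha ha1n hr
  obtain ⟨ho', hcase'⟩ := tilde_elem_facts hG hSP h28 (c.coatom j) ha' ha1n' hr'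
  have hoo : orderOf (a * r) = orderOf (a' * r') := by
    have h1 : orderOf x = orderOf (a * r) := by rw [hy, orderOf_conj]
    have h2 : orderOf x = orderOf (a' * r') := by rw [hy', orderOf_conj]
    rw [← h1, h2]
  -- a prime of `o(a)`
  have ho1 : orderOf a ≠ 1 := fun h => ha1n (orderOf_eq_one_iff.mp h)
  obtain ⟨s, hs, hsa⟩ := Nat.exists_prime_and_dvd ho1
  have hsi : s ∈ Cfsg.sigma (Mi i) := mem_sigma_of_dvd_orderOf ha hs hsa
  have hd : s ∣ orderOf a' * orderOf r' := by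
    rw [← ho', ← hoo, ho]; exact hsa.mul_right _
  rcases (Nat.Prime.dvd_mul hs).mp hd with h | h
  · -- `s ∈ σ(Mi j)`: conjugate
    have hsj : s ∈ Cfsg.sigma (Mi j) := mem_sigma_of_dvd_orderOf ha' hs h
    obtain ⟨g, hg⟩ := hSP (Mi i) (Mi j) (c.coatom i) (c.coatom j) ⟨s, hsi, hsj⟩
    exact c.nonconj i j hij g hg
  · rcases hcase' with h1 | ⟨L, hL, ⟨p, hp⟩, hσ⟩
    · rw [h1, orderOf_one] at h
      exact hs.one_lt.ne' (Nat.dvd_one.mp h)
    · have hsL := hσ s hs h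
      obtain ⟨g, hg⟩ := hSP (Mi i) L (c.coatom i) hL ⟨s, hsi, hsL⟩
      have : p ∈ Cfsg.tau2 (Mi i) := by
        have h2 := tau2_map_conj hp g⁻¹
        rw [hg, map_conj_map_conj, inv_mul_cancel, map_conj_one] at h2
        exact h2
      rw [c.tau2 i] at this
      exact this

/-- `Zhat` is a TI-set with normalizer `Z`. -/
theorem zhat_TI [Nonempty ι] (c : PConfig Mi Z) (g : G) {z : G}
    (hz : z ∈ zhat Z (fun i => Cfsg.sigmaCore (Mi i)))
    (hgz : g * z * g⁻¹ ∈ zhat Z (fun i => Cfsg.sigmaCore (Mi i))) : g ∈ Z := by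
  have hzpos : 0 < orderOf z := orderOf_pos z
  have hoZ : orderOf z ∣ Nat.card Z := by
    have := orderOf_dvd_natCard (⟨z, hz.1⟩ : ↥Z)
    rwa [Subgroup.orderOf_mk] at this
  -- for each prime `s ∣ o(z)` in `σ(Mi k)`: `g ∈ Mi k`
  have key : ∀ s : ℕ, s.Prime → s ∣ orderOf z → ∀ k, s ∈ Cfsg.sigma (Mi k) → g ∈ Mi k := by
    intro s hs hd k hk
    haveI : Fact s.Prime := ⟨hs⟩
    set y := z ^ (orderOf z / s) with hy
    have hyo : orderOf y = s := orderOf_pow_orderOf_div hzpos.ne' hd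
    have hy1 : y ≠ 1 := by
      intro h
      rw [h, orderOf_one] at hyo
      exact hs.one_lt.ne hyo
    have hyZ : y ∈ Z := Z.pow_mem hz.1 _
    have hyσ : y ∈ Cfsg.sigmaCore (Mi k) := by
      apply mem_sigmaCore_of_orderOf hG (c.coatom k) (c.Z_le k hyZ)
      intro q hq hqd
      rw [hyo] at hqd
      rwa [(Nat.prime_dvd_prime_iff_eq hq hs).mp hqd]
    have hgy : g * y * g⁻¹ ∈ Z := by
      have : g * y * g⁻¹ = (g * z * g⁻¹) ^ (orderOf z / s) := by rw [hy, conj_pow]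
      rw [this]
      exact Z.pow_mem hgz.1 _
    -- S1404
    have hXp : IsPGroup s (Subgroup.zpowers y) := by
      apply IsPGroup.of_card (n := 1)
      rw [Nat.card_zpowers, hyo, pow_one]
    have hX1 : Subgroup.zpowers y ≠ ⊥ := by
      intro h
      exact hy1 (Subgroup.zpowers_eq_bot.mp h)
    have hXM : Subgroup.zpowers y ≤ Mi k := Subgroup.zpowers_le.mpr (c.Z_le k hyZ)
    have hconj : (Subgroup.zpowers y).map (MulAut.conj g).toMonoidHom ≤ Mi k := by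
      rw [MonoidHom.map_zpowers]
      apply Subgroup.zpowers_le.mpr
      exact c.Z_le k (by simpa [MulAut.conj_apply] using hgy)
    obtain ⟨m, hm, cc, hcc, rfl⟩ :=
      (Cfsg.Agent.S1404.result hG (Mi k) (c.coatom k) s hk (Subgroup.zpowers y) hXp hX1 hXM).1 g
        hconj
    refine (Mi k).mul_mem hm (c.good k y ⟨hyZ, hyσ⟩ hy1 ?_)
    rw [Subgroup.mem_centralizer_iff]
    intro w hw
    rw [Set.mem_singleton_iff] at hw
    subst hw
    exact (Subgroup.mem_centralizer_iff.mp hcc) y (Subgroup.mem_zpowers y)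
  -- `z ≠ 1`
  have hz1 : z ≠ 1 := by
    rintro rfl
    exact one_not_mem_zhat Z (fun i => Cfsg.sigmaCore (Mi i)) hz
  have ho1 : orderOf z ≠ 1 := fun h => hz1 (orderOf_eq_one_iff.mp h)
  obtain ⟨s₀, hs₀, hd₀⟩ := Nat.exists_prime_and_dvd ho1
  obtain ⟨k₀, hk₀⟩ := c.cover s₀ hs₀ (hd₀.trans hoZ)
  have hg₀ : g ∈ Mi k₀ := key s₀ hs₀ hd₀ k₀ hk₀
  -- a prime of `o(z)` outside `σ(Mi k₀)`
  have hex : ∃ s₁ : ℕ, s₁.Prime ∧ s₁ ∣ orderOf z ∧ s₁ ∉ Cfsg.sigma (Mi k₀) := by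
    by_contra hne
    push Not at hne
    exact hz.2 k₀ (mem_sigmaCore_of_orderOf hG (c.coatom k₀) (c.Z_le k₀ hz.1) hne)
  obtain ⟨s₁, hs₁, hd₁, hn₁⟩ := hex
  obtain ⟨k₁, hk₁⟩ := c.cover s₁ hs₁ (hd₁.trans hoZ)
  have hk01 : k₀ ≠ k₁ := by
    rintro rfl
    exact hn₁ hk₁
  have hg₁ : g ∈ Mi k₁ := key s₁ hs₁ hd₁ k₁ hk₁
  exact c.inter k₀ k₁ hk01 ⟨hg₀, hg₁⟩

/-- **P-configurations do not exist** (given the count of B & G 14.5). -/
theorem false_of_pconfig [Fintype ι] (hι : 2 ≤ Fintype.card ι)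
    (hcount : ∀ N : Subgroup G, IsCoatom N →
      (tildeS N).ncard = (Nat.card (Cfsg.sigmaCore N) - 1) * N.index)
    (c : PConfig Mi Z) : False := by
  haveI : Nonempty ι := by
    rw [← Fintype.card_pos_iff]; omega
  exact false_of_config hι Mi (fun i => Cfsg.sigmaCore (Mi i)) Z (fun i => tildeS (Mi i))
    (fun i => one_not_mem_tildeS hG hSP h28 (c.coatom i))
    (fun i j hij x hx => tildeS_disjoint hG hSP h28 c hij hx)
    (fun i => (hcount (Mi i) (c.coatom i)).ge)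
    c.card c.three
    (fun g z hz hgz => zhat_TI hG hSP h28 c g hz hgz)
    (fun i g z hz => zhat_not_mem_tildeS hG hSP h28 c i g hz)

end

/-- `3 |Z ∩ S| ≤ |S|` when `S ⊄ Z` (odd order). -/
theorem three_of_not_le (hG : Cfsg.IsMinSimpleOddOrder G) {Z S : Subgroup G} (h : ¬ S ≤ Z) :
    3 * Nat.card ↥(Z ⊓ S) ≤ Nat.card S := by
  apply Cfsg.Agent.Lib.Helper24.BGCount.three_mul_card_le_of_lt hG.1 inf_le_right
  intro h'
  apply h
  rw [← h']
  exact inf_le_left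

end Cfsg.Agent.Lib.Helper27.BGPCount
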