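/- helper27: P-configurations are impossible: final forms (with the real S1428, S1378, S1377). -/
import Mathlib
import Cfsg.Agent.Lib.Helper27.BGPCountC
import Cfsg.Agent.Lib.Helper9.BG145C
import Cfsg.Agent.Lib.Helper9.BGSigPartC
import Cfsg.Agent.S1428

set_option autoImplicit false
set_option linter.unusedSectionVars false
set_option linter.style.haveILetI false

namespace Cfsg.Agent.Lib.Helper27.BGPCount

open Cfsg
open Cfsg.Agent.Lib.Helper9.BG144 (SP)
open Cfsg.Agent.Lib.Helper17.BGR2 (H1428)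
open Cfsg.Agent.Lib.Helper2.BGCor (primes_card_sigmaCore)
open Cfsg.Agent.Lib.Helper16.BGPrim (sigma_map_conj)

variable {G : Type*} [Group G] [Finite G]

/-- the real `H1428 G`. -/
theorem h1428_real (hG : Cfsg.IsMinSimpleOddOrder G) : H1428 G :=
  fun M hM E hE p hp P hPE hP R hRE hR =>
    Cfsg.Agent.S1428.result hG M hM E hE p hp P hPE hP R hRE hR

/-- the real `σ`-partition. -/
theorem sp_real (hG : Cfsg.IsMinSimpleOddOrder G) : SP G :=
  (Cfsg.Agent.Lib.Helper9.BGSigPart.s1378_of_h1428 hG (h1428_real hG)).2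

/-- **P-configurations do not exist.** -/
theorem PConfig.false (hG : Cfsg.IsMinSimpleOddOrder G) {ι : Type*} [Fintype ι]
    {Mi : ι → Subgroup G} {Z : Subgroup G} (hι : 2 ≤ Fintype.card ι) (c : PConfig Mi Z) : False :=
  false_of_pconfig hG (sp_real hG) (h1428_real hG) hι
    (fun N hN => Cfsg.Agent.Lib.Helper9.BG144.s1377_of hG (sp_real hG) (h1428_real hG) N hN) c

/-- **Finset form** (helper8's shape): a finite family `F` of maximal subgroups, all containing `Z`,
with pairwise disjoint `σ`'s, pairwise intersection `Z`, ... is impossible. -/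
theorem false_of_finset (hG : Cfsg.IsMinSimpleOddOrder G) (F : Finset (Subgroup G))
    (Z : Subgroup G) (two : ∃ M ∈ F, ∃ H ∈ F, M ≠ H)
    (coatom : ∀ H ∈ F, IsCoatom H) (le : ∀ H ∈ F, Z ≤ H)
    (card : ∀ H ∈ F, Nat.card H * Nat.card ↥(Z ⊓ Cfsg.sigmaCore H) =
      Nat.card (Cfsg.sigmaCore H) * Nat.card Z)
    (primes : ∀ p : ℕ, p.Prime → p ∣ Nat.card Z → ∃ H ∈ F, p ∈ Cfsg.sigma H)
    (disj : ∀ H ∈ F, ∀ H' ∈ F, H ≠ H' → ∀ p, p ∈ Cfsg.sigma H → p ∉ Cfsg.sigma H')
    (inf : ∀ H ∈ F, ∀ H' ∈ F, H ≠ H' → H ⊓ H' ≤ Z)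
    (good : ∀ H ∈ F, ∀ a ∈ Z ⊓ Cfsg.sigmaCore H, a ≠ 1 → Subgroup.centralizer ({a} : Set G) ≤ H)
    (three : ∀ H ∈ F, 3 * Nat.card ↥(Z ⊓ Cfsg.sigmaCore H) ≤ Nat.card (Cfsg.sigmaCore H))
    (tau2 : ∀ H ∈ F, ∀ r, r ∉ Cfsg.tau2 H) : False := by
  classical
  have hcard : 2 ≤ Fintype.card {H // H ∈ F} := by
    obtain ⟨M, hM, H, hH, hMH⟩ := two
    rw [Fintype.card_coe]
    have : ({M, H} : Finset (Subgroup G)) ⊆ F := by
      intro x hx
      rcases Finset.mem_insert.mp hx with rfl | hx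
      · exact hM
      · rw [Finset.mem_singleton] at hx; subst hx; exact hH
    calc 2 = ({M, H} : Finset (Subgroup G)).card := (Finset.card_pair hMH).symm
      _ ≤ F.card := Finset.card_le_card this
  refine PConfig.false hG (Mi := fun i : {H // H ∈ F} => (i : Subgroup G)) (Z := Z) hcard
    ⟨fun i => coatom i i.2, ?_, fun i => le i i.2, ?_, ?_, fun i => good i i.2, ?_,
      fun i => card i i.2, fun i => three i i.2⟩
  · -- non-conjugacy from disjointness of the `σ`'s
    intro i j hij g hg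
    have hne : (i : Subgroup G) ≠ (j : Subgroup G) := fun h => hij (Subtype.ext h)
    -- a prime of `σ(i)`
    have h3 := three i i.2
    have hpos : 0 < Nat.card ↥(Z ⊓ Cfsg.sigmaCore (i : Subgroup G)) := Nat.card_pos
    have h1 : Nat.card (Cfsg.sigmaCore (i : Subgroup G)) ≠ 1 := by omega
    obtain ⟨p, hp, hpd⟩ := Nat.exists_prime_and_dvd h1
    have hpi : p ∈ Cfsg.sigma (i : Subgroup G) := primes_card_sigmaCore _ p hp hpd
    apply disj i i.2 j j.2 hne p hpi
    rw [hg]
    exact sigma_map_conj hpi g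
  · intro i j hij
    exact inf i i.2 j j.2 (fun h => hij (Subtype.ext h))
  · intro s hs hd
    obtain ⟨H, hH, hsH⟩ := primes s hs hd
    exact ⟨⟨H, hH⟩, hsH⟩
  · intro i
    ext r
    simp only [Set.mem_empty_iff_false, iff_false]
    exact tau2 i i.2 r

end Cfsg.Agent.Lib.Helper27.BGPCount
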