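/-
helper27: S4539 small leaves: (Z0) `decFun_eq_zCoeff`, (LIN) `gram_of_sandwich`, (DET) `dvd_det_of_rank_one`.
-/
import Cfsg.Agent.Lib.Helper27.MajSubDefs

set_option autoImplicit false

namespace Cfsg.Agent.Lib.Helper27.MajSubSmall

open Cfsg Cfsg.Agent.CharLib Cfsg.Agent.Lib.Helper24 Cfsg.Agent.Lib.Helper6 Cfsg.Agent.Lib.Helper23
open Cfsg.Agent.Lib.Helper23.Subsec Cfsg.Agent.Lib.Helper27.MajSub
open scoped ComplexConjugate

universe u w

section LAT

theorem cast_map_mul {a b d : Type*} [Fintype b] (X : Matrix a b ℤ) (Y : Matrix b d ℤ) :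
    (X * Y).map (Int.cast : ℤ → ℂ) = X.map (Int.cast : ℤ → ℂ) * Y.map (Int.cast : ℤ → ℂ) :=
  Matrix.map_mul (f := Int.castRingHom ℂ)

/-- (LIN) from `D C' G C' Dᵀ = c D C' Dᵀ` to `G = Dᵀ D`. -/
theorem gram_of_sandwich {n : Type*} [Fintype n] [DecidableEq n] {r : ℕ} (D : Matrix n (Fin r) ℤ)
    (E : Matrix (Fin r) n ℤ) (C' : Matrix (Fin r) (Fin r) ℤ) (c : ℤ) (hc : c ≠ 0)
    (hED : E * D = 1) (hCC' : (D.transpose * D) * C' = c • (1 : Matrix (Fin r) (Fin r) ℤ))
    (hC'symm : C'.transpose = C') (Gm : Matrix (Fin r) (Fin r) ℂ)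
    (h : (D * C').map (Int.cast : ℤ → ℂ) * Gm * (C' * D.transpose).map (Int.cast : ℤ → ℂ) =
      (c : ℂ) • (D * C' * D.transpose).map (Int.cast : ℤ → ℂ)) :
    Gm = (D.transpose * D).map (Int.cast : ℤ → ℂ) := by
  have hED' : E.map (Int.cast : ℤ → ℂ) * D.map (Int.cast : ℤ → ℂ) = 1 := by
    rw [← cast_map_mul, hED]
    exact Matrix.map_one (Int.cast : ℤ → ℂ) Int.cast_zero Int.cast_one
  have hCsymm : (C'.map (Int.cast : ℤ → ℂ)).transpose = C'.map (Int.cast : ℤ → ℂ) := by
    rw [← Matrix.transpose_map, hC'symm]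
  have hCC'c : ((D.map (Int.cast : ℤ → ℂ)).transpose * D.map (Int.cast : ℤ → ℂ)) *
      C'.map (Int.cast : ℤ → ℂ) = (c : ℂ) • (1 : Matrix (Fin r) (Fin r) ℂ) := by
    have := congrArg (fun X : Matrix (Fin r) (Fin r) ℤ => X.map (Int.cast : ℤ → ℂ)) hCC'
    beta_reduce at this
    rw [cast_map_mul, cast_map_mul, Matrix.transpose_map] at this
    rw [this]
    ext i j
    simp only [Matrix.map_apply, Matrix.smul_apply, Matrix.one_apply, smul_eq_mul]
    split_ifs <;> simp
  rw [cast_map_mul, cast_map_mul, cast_map_mul, cast_map_mul, Matrix.transpose_map] at h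
  rw [cast_map_mul, Matrix.transpose_map]
  generalize D.map (Int.cast : ℤ → ℂ) = Dc at *
  generalize E.map (Int.cast : ℤ → ℂ) = Ec at *
  generalize C'.map (Int.cast : ℤ → ℂ) = Cc at *
  have hDtEt : Dc.transpose * Ec.transpose = 1 := by
    rw [← Matrix.transpose_mul, hED', Matrix.transpose_one]
  have hC'Cc : Cc * (Dc.transpose * Dc) = (c : ℂ) • (1 : Matrix (Fin r) (Fin r) ℂ) := by
    have := congrArg Matrix.transpose hCC'c
    rw [Matrix.transpose_mul, hCsymm, Matrix.transpose_mul, Matrix.transpose_transpose,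
      Matrix.transpose_smul, Matrix.transpose_one] at this
    exact this
  -- sandwich with `E`
  have h1 : Cc * Gm * Cc = (c : ℂ) • Cc := by
    have := congrArg (fun X => Ec * X * Ec.transpose) h
    beta_reduce at this
    have e1 : Ec * (Dc * Cc * Gm * (Cc * Dc.transpose)) * Ec.transpose =
        (Ec * Dc) * Cc * Gm * Cc * (Dc.transpose * Ec.transpose) := by
      simp only [Matrix.mul_assoc]
    have e2 : Ec * ((c : ℂ) • (Dc * Cc * Dc.transpose)) * Ec.transpose =
        (c : ℂ) • ((Ec * Dc) * Cc * (Dc.transpose * Ec.transpose)) := by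
      simp only [Matrix.mul_smul, Matrix.smul_mul, Matrix.mul_assoc]
    rw [e1, e2, hED', hDtEt, Matrix.one_mul, Matrix.mul_one, Matrix.mul_one] at this
    exact this
  -- sandwich with `Cm`
  have h2 := congrArg (fun X => (Dc.transpose * Dc) * X * (Dc.transpose * Dc)) h1
  beta_reduce at h2
  have e3 : (Dc.transpose * Dc) * (Cc * Gm * Cc) * (Dc.transpose * Dc) =
      ((Dc.transpose * Dc) * Cc) * Gm * (Cc * (Dc.transpose * Dc)) := by
    simp only [Matrix.mul_assoc]
  have e4 : (Dc.transpose * Dc) * ((c : ℂ) • Cc) * (Dc.transpose * Dc) =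
      (c : ℂ) • (((Dc.transpose * Dc) * Cc) * (Dc.transpose * Dc)) := by
    simp only [Matrix.mul_smul, Matrix.smul_mul, Matrix.mul_assoc]
  rw [e3, e4, hCC'c, hC'Cc] at h2
  simp only [Matrix.smul_mul, Matrix.mul_smul, Matrix.one_mul, Matrix.mul_one, smul_smul] at h2
  have hc' : (c : ℂ) * (c : ℂ) ≠ 0 := mul_ne_zero (Int.cast_ne_zero.mpr hc) (Int.cast_ne_zero.mpr hc)
  have := congrArg (fun X => ((c : ℂ) * (c : ℂ))⁻¹ • X) h2
  simp only [smul_smul] at this
  rw [inv_mul_cancel₀ hc', one_smul, one_smul] at this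
  exact this

/-- (DET) multiplicity one: `C' = E N Eᵀ` has rank at most one modulo `q`. -/
theorem dvd_det_of_rank_one {n : Type*} [Fintype n] [DecidableEq n] (N : Matrix n n ℤ)
    (D : Matrix n (Fin 2) ℤ) (E : Matrix (Fin 2) n ℤ) (C' : Matrix (Fin 2) (Fin 2) ℤ)
    (hED : E * D = 1) (hN : N = D * C' * D.transpose) (q : ℤ) (κ τ : n → ℤ)
    (h : ∀ i j, q ∣ N i j - κ i * τ j) : q ∣ C'.det := by
  have hC' : C' = E * N * E.transpose := by
    rw [hN]
    have : E * (D * C' * D.transpose) * E.transpose = (E * D) * C' * (E * D).transpose := by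
      rw [Matrix.transpose_mul]
      simp only [Matrix.mul_assoc]
    rw [this, hED, Matrix.transpose_one, Matrix.one_mul, Matrix.mul_one]
  set u : Fin 2 → ℤ := fun a => ∑ i, E a i * κ i with hu
  set v : Fin 2 → ℤ := fun b => ∑ j, E b j * τ j with hv
  have hab : ∀ a b : Fin 2, q ∣ C' a b - u a * v b := by
    intro a b
    have e1 : C' a b = ∑ i, ∑ j, E a i * N i j * E b j := by
      rw [hC']
      simp only [Matrix.mul_apply, Matrix.transpose_apply, Finset.sum_mul]
      rw [Finset.sum_comm]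
    have e2 : u a * v b = ∑ i, ∑ j, E a i * (κ i * τ j) * E b j := by
      rw [hu, hv]
      simp only [Finset.sum_mul_sum]
      apply Finset.sum_congr rfl
      intro i _
      apply Finset.sum_congr rfl
      intro j _
      ring
    rw [e1, e2, ← Finset.sum_sub_distrib]
    apply Finset.dvd_sum
    intro i _
    rw [← Finset.sum_sub_distrib]
    apply Finset.dvd_sum
    intro j _
    have : E a i * N i j * E b j - E a i * (κ i * τ j) * E b j =
        E a i * E b j * (N i j - κ i * τ j) := by ring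
    rw [this]
    exact Dvd.dvd.mul_left (h i j) _
  rw [Matrix.det_fin_two]
  obtain ⟨w00, h00⟩ := hab 0 0
  obtain ⟨w01, h01⟩ := hab 0 1
  obtain ⟨w10, h10⟩ := hab 1 0
  obtain ⟨w11, h11⟩ := hab 1 1
  have e00 : C' 0 0 = u 0 * v 0 + q * w00 := by linarith
  have e01 : C' 0 1 = u 0 * v 1 + q * w01 := by linarith
  have e10 : C' 1 0 = u 1 * v 0 + q * w10 := by linarith
  have e11 : C' 1 1 = u 1 * v 1 + q * w11 := by linarith
  rw [e00, e01, e10, e11]
  refine ⟨u 0 * v 0 * w11 + w00 * (u 1 * v 1) + q * w00 * w11 -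
    (u 0 * v 1 * w10 + w01 * (u 1 * v 0) + q * w01 * w10), ?_⟩
  ring

end LAT

section GC

variable {G : Type u} [Group G] [Fintype G]

/-- (Z0) the generalized decomposition function in terms of `zCoeff`. -/
theorem decFun_eq_zCoeff (C : Subgroup G) [Fintype C] [Fintype (IrrCharacter C)]
    (e : Set (IrrCharacter C)) (z : G) (χ : IrrCharacter G) (s : C) :
    decFun C e z χ s = ∑ ζ : IrrCharacter C, zCoeff C e z χ ζ * (ζ : C → ℂ) s := by
  classical
  unfold decFun
  rw [Cfsg.Agent.Lib.Helper23.blockPart_apply, finsum_mem_eq_sum_ite]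
  apply Finset.sum_congr rfl
  intro ζ _
  unfold zCoeff
  by_cases hζ : ζ ∈ e
  · rw [if_pos hζ, if_pos hζ]
  · rw [if_neg hζ, if_neg hζ, zero_mul]

end GC

end Cfsg.Agent.Lib.Helper27.MajSubSmall
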