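/-
helper27: S4539 leaf (GR) `sum_zCoeff_nMat`: `(R N)* (R N) = p^d N`, against (NB3) as a hypothesis.
-/
import Cfsg.Agent.Lib.Helper27.MajSubSmall
import Cfsg.Agent.Lib.Helper8.MajSubNB
import Cfsg.Agent.Lib.Lead.SecondMain9

set_option autoImplicit false

namespace Cfsg.Agent.Lib.Helper27.MajSubGR

open Cfsg Cfsg.Agent.CharLib Cfsg.Agent.Lib.Helper24 Cfsg.Agent.Lib.Helper6 Cfsg.Agent.Lib.Helper23
open Cfsg.Agent.Lib.Helper23.Subsec Cfsg.Agent.Lib.Helper27.MajSub
open scoped ComplexConjugate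

universe u w

section one

variable {C : Type u} [Group C] [Fintype C] {M : Ideal AlgInt} {p : ℕ} [hpp : Fact p.Prime]

/-- the `p`-regular inner product of `ζ ∈ e` with any `ζ₁` is `N ζ ζ₁ / p^d` -/
theorem regInner_eq_nMat (hM : IsPModular p M) (e : Set (IrrCharacter C)) (he : IsPBlock M e)
    {ζ : IrrCharacter C} (hζ : ζ ∈ e) (ζ₁ : IrrCharacter C) :
    (Nat.card C : ℂ)⁻¹ * ∑ s : C, (if p ∣ orderOf s then 0 else
      (ζ : C → ℂ) s * conj ((ζ₁ : C → ℂ) s)) =
      (nMat p e ζ ζ₁ : ℂ) / (p : ℂ) ^ blockDefect p e := by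
  classical
  have hp : p.Prime := hpp.out
  have hne : e.Nonempty := ⟨ζ, hζ⟩
  set a := (Nat.card C).factorization p with ha
  set m := minVal p e with hm
  have hma : m ≤ a := minVal_le_factorization_card hne
  have hd : blockDefect p e = a - m := blockDefect_eq e
  have hp0 : (p : ℂ) ≠ 0 := Nat.cast_ne_zero.mpr hp.ne_zero
  -- the sum in terms of `tildeInt`
  have h1 : (Nat.card C : ℂ)⁻¹ * ∑ s : C, (if p ∣ orderOf s then 0 else
      (ζ : C → ℂ) s * conj ((ζ₁ : C → ℂ) s)) = (tildeInt p ζ ζ₁ : ℂ) / ((p ^ a : ℕ) : ℂ) := by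
    have := tildeInt_spec (p := p) ζ ζ₁
    have hpa0 : ((p ^ a : ℕ) : ℂ) ≠ 0 := Nat.cast_ne_zero.mpr (pow_pos hp.pos _).ne'
    rw [← this, eq_div_iff hpa0]
    unfold classInner
    rw [mul_assoc, Finset.sum_mul]
    congr 1
    apply Finset.sum_congr rfl
    intro s _
    unfold tildeFun
    by_cases hs : p ∣ orderOf s
    · rw [if_pos hs, if_pos hs, zero_mul, zero_mul]
    · rw [if_neg hs, if_neg hs]
      ring
  rw [h1]
  by_cases hζ₁ : ζ₁ ∈ e
  · have h2 := Cfsg.Agent.Lib.Helper8.MajSubNB.nMat_mul_pow hM e hζ hζ₁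
    rw [← h2, hd]
    push_cast
    have : (p : ℂ) ^ a = (p : ℂ) ^ m * (p : ℂ) ^ (a - m) := by
      rw [← pow_add, Nat.add_sub_cancel' hma]
    rw [this]
    field_simp
    rw [← hm]
    ring
  · rw [tildeInt_eq_zero hM he hζ hζ₁, Cfsg.Agent.Lib.Helper8.MajSubNB.nMat_of_not_mem e
      (fun h => hζ₁ h.2)]
    simp

end one

section GC

variable {G : Type u} [Group G] [Fintype G] {M : Ideal AlgInt} {p : ℕ} [hpp : Fact p.Prime]

/-- (GR) against (NB3) as a hypothesis. -/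
theorem sum_zCoeff_nMat_of (hM : IsPModular p M) (z : G) (hz : ∃ k : ℕ, orderOf z = p ^ k)
    (C : Subgroup G) [Fintype C] [Fintype (IrrCharacter C)] [Fintype (IrrCharacter G)]
    (hC : C = Subgroup.centralizer ({z} : Set G)) (B : Set (IrrCharacter G)) (hB : IsPBlock M B)
    [DecidablePred (· ∈ B)]
    (ψ₀ : IrrCharacter C) (hind : IsInducedBlock M C (blockOf M (ψ₀ : C → ℂ)) B)
    (hNB3 : ∀ ζ ζ'' : IrrCharacter C,
      ∑ ζ' : IrrCharacter C, nMat p (blockOf M (ψ₀ : C → ℂ)) ζ ζ' *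
          nMat p (blockOf M (ψ₀ : C → ℂ)) ζ' ζ'' =
        (p : ℤ) ^ blockDefect p (blockOf M (ψ₀ : C → ℂ)) *
          nMat p (blockOf M (ψ₀ : C → ℂ)) ζ ζ'')
    (ζ₁ ζ₂ : IrrCharacter C) :
    ∑ χ ∈ Finset.univ.filter (· ∈ B),
      conj (∑ ζ : IrrCharacter C, zCoeff C (blockOf M (ψ₀ : C → ℂ)) z χ ζ *
          (nMat p (blockOf M (ψ₀ : C → ℂ)) ζ ζ₁ : ℂ)) *
        (∑ ζ : IrrCharacter C, zCoeff C (blockOf M (ψ₀ : C → ℂ)) z χ ζ *
          (nMat p (blockOf M (ψ₀ : C → ℂ)) ζ ζ₂ : ℂ)) =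
      (p : ℂ) ^ blockDefect p (blockOf M (ψ₀ : C → ℂ)) *
        (nMat p (blockOf M (ψ₀ : C → ℂ)) ζ₁ ζ₂ : ℂ) := by
  classical
  have hp : p.Prime := hpp.out
  set e := blockOf M (ψ₀ : C → ℂ) with he
  have he' : IsPBlock M e := ⟨ψ₀, rfl⟩
  set d := blockDefect p e with hd
  set c : ℂ := (Nat.card C : ℂ) with hc
  have hc0 : c ≠ 0 := Nat.cast_ne_zero.mpr Nat.card_pos.ne'
  have hpd0 : ((p : ℂ) ^ d) ≠ 0 := pow_ne_zero _ (Nat.cast_ne_zero.mpr hp.ne_zero)
  set Bf := Finset.univ.filter (fun χ : IrrCharacter G => χ ∈ B) with hBf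
  -- regular sums
  set reg : (C → ℂ) → ℂ := fun f => c⁻¹ * ∑ s : C, (if p ∣ orderOf s then 0 else f s) with hreg
  -- `A χ ζ₁ = (R N)_{χ ζ₁} / p^d`
  have hA : ∀ (χ : IrrCharacter G) (ζ₁ : IrrCharacter C),
      reg (fun s => decFun C e z χ s * conj ((ζ₁ : C → ℂ) s)) =
        (∑ ζ : IrrCharacter C, zCoeff C e z χ ζ * (nMat p e ζ ζ₁ : ℂ)) / (p : ℂ) ^ d := by
    intro χ ζ₁
    rw [hreg]
    simp only []
    have h1 : ∀ s : C, (if p ∣ orderOf s then (0 : ℂ) else
        decFun C e z χ s * conj ((ζ₁ : C → ℂ) s)) =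
        ∑ ζ : IrrCharacter C, zCoeff C e z χ ζ *
          (if p ∣ orderOf s then 0 else (ζ : C → ℂ) s * conj ((ζ₁ : C → ℂ) s)) := by
      intro s
      by_cases hs : p ∣ orderOf s
      · simp only [if_pos hs, mul_zero, Finset.sum_const_zero]
      · simp only [if_neg hs]
        rw [Cfsg.Agent.Lib.Helper27.MajSubSmall.decFun_eq_zCoeff, Finset.sum_mul]
        apply Finset.sum_congr rfl
        intro ζ _
        ring
    simp_rw [h1]
    rw [Finset.sum_comm, Finset.mul_sum, Finset.sum_div]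
    apply Finset.sum_congr rfl
    intro ζ _
    rw [← Finset.mul_sum]
    by_cases hζ : ζ ∈ e
    · have := regInner_eq_nMat hM e he' hζ ζ₁
      rw [mul_left_comm, this, mul_div_assoc]
    · have h0 : zCoeff C e z χ ζ = 0 := by
        unfold zCoeff
        rw [if_neg hζ]
      rw [h0]
      simp
  -- the kernel side
  have hK : ∀ (ψ : IrrCharacter C), ψ ∈ e → ∀ ζ₁ : IrrCharacter C,
      reg (fun s => (ψ : C → ℂ) s * conj ((ζ₁ : C → ℂ) s)) = (nMat p e ψ ζ₁ : ℂ) / (p : ℂ) ^ d :=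
    fun ψ hψ ζ₁ => regInner_eq_nMat hM e he' hψ ζ₁
  -- the section orthogonality
  have hsec : ∀ s t : C, ¬ p ∣ orderOf s → ¬ p ∣ orderOf t →
      ∑ χ ∈ Bf, decFun C e z χ s * conj (decFun C e z χ t) = kerFun e s t := by
    intro s t hs ht
    have h1 := sum_block_section hM z hz C hC B hB ψ₀ hind s hs t ht
    rw [finsum_mem_eq_sum_ite, ← Finset.sum_filter] at h1
    exact h1
  -- double regular sum of both sides
  have hmain : ∑ χ ∈ Bf, conj (reg (fun s => decFun C e z χ s * conj ((ζ₁ : C → ℂ) s))) *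
      reg (fun s => decFun C e z χ s * conj ((ζ₂ : C → ℂ) s)) =
      ∑ ψ : IrrCharacter C, (if ψ ∈ e then
        conj (reg (fun s => (ψ : C → ℂ) s * conj ((ζ₁ : C → ℂ) s))) *
          reg (fun s => (ψ : C → ℂ) s * conj ((ζ₂ : C → ℂ) s)) else 0) := by
    -- write both sides as `c⁻¹ c⁻¹ ∑_t ∑_s [reg t][reg s] ζ₁(t) conj ζ₂(s) * (...)`
    have hL : ∀ χ : IrrCharacter G,
        conj (reg (fun s => decFun C e z χ s * conj ((ζ₁ : C → ℂ) s))) *
          reg (fun s => decFun C e z χ s * conj ((ζ₂ : C → ℂ) s)) =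
        c⁻¹ * c⁻¹ * ∑ t : C, ∑ s : C, (if p ∣ orderOf t then 0 else if p ∣ orderOf s then 0 else
          (ζ₁ : C → ℂ) t * conj ((ζ₂ : C → ℂ) s) *
            (decFun C e z χ s * conj (decFun C e z χ t))) := by
      intro χ
      rw [hreg]
      simp only []
      rw [map_mul, map_sum, map_inv₀, hc, Complex.conj_natCast, ← hc]
      rw [mul_mul_mul_comm, Finset.sum_mul_sum]
      congr 1
      apply Finset.sum_congr rfl
      intro t _
      apply Finset.sum_congr rfl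
      intro s _
      by_cases ht : p ∣ orderOf t
      · simp [ht]
      · by_cases hs : p ∣ orderOf s
        · simp [hs]
        · simp only [if_neg ht, if_neg hs, map_mul, Complex.conj_conj]
          ring
    have hR : ∀ ψ : IrrCharacter C,
        conj (reg (fun s => (ψ : C → ℂ) s * conj ((ζ₁ : C → ℂ) s))) *
          reg (fun s => (ψ : C → ℂ) s * conj ((ζ₂ : C → ℂ) s)) =
        c⁻¹ * c⁻¹ * ∑ t : C, ∑ s : C, (if p ∣ orderOf t then 0 else if p ∣ orderOf s then 0 else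
          (ζ₁ : C → ℂ) t * conj ((ζ₂ : C → ℂ) s) *
            ((ψ : C → ℂ) s * conj ((ψ : C → ℂ) t))) := by
      intro ψ
      rw [hreg]
      simp only []
      rw [map_mul, map_sum, map_inv₀, hc, Complex.conj_natCast, ← hc]
      rw [mul_mul_mul_comm, Finset.sum_mul_sum]
      congr 1
      apply Finset.sum_congr rfl
      intro t _
      apply Finset.sum_congr rfl
      intro s _
      by_cases ht : p ∣ orderOf t
      · simp [ht]
      · by_cases hs : p ∣ orderOf s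
        · simp [hs]
        · simp only [if_neg ht, if_neg hs, map_mul, Complex.conj_conj]
          ring
    simp_rw [hL]
    rw [← Finset.mul_sum]
    have hRsum : ∑ ψ : IrrCharacter C, (if ψ ∈ e then
        conj (reg (fun s => (ψ : C → ℂ) s * conj ((ζ₁ : C → ℂ) s))) *
          reg (fun s => (ψ : C → ℂ) s * conj ((ζ₂ : C → ℂ) s)) else 0) =
        c⁻¹ * c⁻¹ * ∑ ψ : IrrCharacter C, (if ψ ∈ e then
          ∑ t : C, ∑ s : C, (if p ∣ orderOf t then 0 else if p ∣ orderOf s then 0 else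
            (ζ₁ : C → ℂ) t * conj ((ζ₂ : C → ℂ) s) *
              ((ψ : C → ℂ) s * conj ((ψ : C → ℂ) t))) else 0) := by
      rw [Finset.mul_sum]
      apply Finset.sum_congr rfl
      intro ψ _
      split_ifs
      · rw [hR]
      · rw [mul_zero]
    rw [hRsum]
    congr 1
    -- exchange the sums
    rw [Finset.sum_comm]
    have hrhs : ∑ ψ : IrrCharacter C, (if ψ ∈ e then
          ∑ t : C, ∑ s : C, (if p ∣ orderOf t then 0 else if p ∣ orderOf s then 0 else
            (ζ₁ : C → ℂ) t * conj ((ζ₂ : C → ℂ) s) *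
              ((ψ : C → ℂ) s * conj ((ψ : C → ℂ) t))) else 0) =
        ∑ t : C, ∑ ψ : IrrCharacter C, ∑ s : C, (if ψ ∈ e then
          (if p ∣ orderOf t then 0 else if p ∣ orderOf s then 0 else
            (ζ₁ : C → ℂ) t * conj ((ζ₂ : C → ℂ) s) *
              ((ψ : C → ℂ) s * conj ((ψ : C → ℂ) t))) else 0) := by
      rw [Finset.sum_comm]
      apply Finset.sum_congr rfl
      intro ψ _
      split_ifs
      · rfl
      · simp
    rw [hrhs]
    apply Finset.sum_congr rfl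
    intro t _
    rw [Finset.sum_comm]
    rw [Finset.sum_comm (s := (Finset.univ : Finset (IrrCharacter C)))]
    apply Finset.sum_congr rfl
    intro s _
    by_cases ht : p ∣ orderOf t
    · simp [ht]
    · by_cases hs : p ∣ orderOf s
      · simp [hs]
      · simp only [if_neg ht, if_neg hs]
        rw [← Finset.mul_sum, hsec s t hs ht]
        unfold kerFun
        rw [finsum_mem_eq_sum_ite, Finset.mul_sum]
        apply Finset.sum_congr rfl
        intro ψ _
        split_ifs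
        · rfl
        · rw [mul_zero]
  -- conclude
  have hfin : ∑ χ ∈ Bf,
      conj (∑ ζ : IrrCharacter C, zCoeff C e z χ ζ * (nMat p e ζ ζ₁ : ℂ)) *
        (∑ ζ : IrrCharacter C, zCoeff C e z χ ζ * (nMat p e ζ ζ₂ : ℂ)) =
      (p : ℂ) ^ d * (p : ℂ) ^ d * ∑ χ ∈ Bf,
        conj (reg (fun s => decFun C e z χ s * conj ((ζ₁ : C → ℂ) s))) *
          reg (fun s => decFun C e z χ s * conj ((ζ₂ : C → ℂ) s)) := by
    rw [Finset.mul_sum]
    apply Finset.sum_congr rfl
    intro χ _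
    rw [hA, hA, map_div₀, map_pow, Complex.conj_natCast]
    field_simp
  rw [hfin, hmain]
  have hψ : ∀ ψ : IrrCharacter C, (if ψ ∈ e then
      conj (reg (fun s => (ψ : C → ℂ) s * conj ((ζ₁ : C → ℂ) s))) *
        reg (fun s => (ψ : C → ℂ) s * conj ((ζ₂ : C → ℂ) s)) else 0) =
      ((nMat p e ζ₁ ψ * nMat p e ψ ζ₂ : ℤ) : ℂ) / ((p : ℂ) ^ d * (p : ℂ) ^ d) := by
    intro ψ
    by_cases hψe : ψ ∈ e
    · rw [if_pos hψe, hK ψ hψe, hK ψ hψe, map_div₀, map_pow, Complex.conj_natCast, map_intCast,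
        Cfsg.Agent.Lib.Helper8.MajSubNB.nMat_symm e ζ₁ ψ]
      push_cast
      field_simp
    · rw [if_neg hψe, Cfsg.Agent.Lib.Helper8.MajSubNB.nMat_of_not_mem e (fun h => hψe h.2)]
      simp
  simp_rw [hψ]
  rw [← Finset.sum_div, ← Int.cast_sum, hNB3 ζ₁ ζ₂]
  push_cast
  field_simp

end GC

end Cfsg.Agent.Lib.Helper27.MajSubGR
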