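import Mathlib
import Cfsg.Statements.S2752
import Cfsg.Agent.Lib.Helper16.SFDefs
import Cfsg.Agent.Lib.Helper8.ThTwoA
import Cfsg.Agent.Lib.Helper8.ThTwoE
import Cfsg.Agent.Lib.Helper8.Hyperplane

/-! Helper27 library: leaf `confD_of_odd` of helper16's S2752 market ("SF"): a normal subgroup `R` of
odd order not centralized by the elementary abelian 2-group `A` yields the dihedral configuration. -/

set_option autoImplicit false
universe u v
open Cfsg Cfsg.Agent.Lib.Helper16.SF Cfsg.Agent.Lib.Helper8.ThTwo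

namespace Cfsg.Agent.Lib.Helper27.SFLeaf

section grp
variable {H : Type u} [Group H] [Finite H]

/-- **confD_of_odd**.  `Helper8.exists_index_p_centralizer_not_le 2 A R (centralizer A)` gives a hyperplane `B`
and `y ∈ C_R(B)` not centralizing `A = B⟨a⟩`; `x := y⁻¹ (a y a⁻¹) ∈ R`. -/
theorem confD_of_odd (A : Subgroup H) (hAe : Cfsg.IsElementaryAbelian 2 A) (R : Subgroup H)
    (hRn : R.Normal) (hR : Odd (Nat.card ↥R)) (hAR : ¬ R ≤ Subgroup.centralizer (A : Set H)) :
    ConfD A := by
  have : Fact (Nat.Prime 2) := ⟨Nat.prime_two⟩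
  have hcomm : ∀ a ∈ A, ∀ b ∈ A, a * b = b * a := by
    intro a ha b hb
    have h := hAe.1.is_comm.comm (⟨a, ha⟩ : ↥A) ⟨b, hb⟩
    exact congrArg Subtype.val h
  have hsq : ∀ a ∈ A, a * a = 1 := by
    intro a ha
    have := hAe.2 a ha
    rwa [pow_two] at this
  have hA1 : A ≠ ⊥ := by
    intro h
    apply hAR
    intro r _
    rw [h, Subgroup.mem_centralizer_iff]
    intro z hz
    have : z = 1 := by simpa using hz
    rw [this, one_mul, mul_one]
  have hAp : IsPGroup 2 A := by
    rintro ⟨g, hg⟩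
    exact ⟨1, Subtype.ext (by simpa using hAe.2 g hg)⟩
  have hcop : (Nat.card A).Coprime (Nat.card R) := by
    obtain ⟨k, hk⟩ := IsPGroup.iff_card.mp hAp
    rw [hk]
    apply Nat.Coprime.pow_left
    exact Nat.coprime_two_left.mpr hR
  have hAN : A ≤ Subgroup.normalizer (R : Set H) := by
    rw [Subgroup.normalizer_eq_top]
    exact le_top
  obtain ⟨B, hBA, hBi, hBn⟩ := Cfsg.Agent.Lib.Helper8.exists_index_p_centralizer_not_le 2 A R
    (Subgroup.centralizer (A : Set H)) hAe hA1 hAN hcop hAR
  -- `y ∈ R ∩ C(B)` not centralizing `A`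
  obtain ⟨y, hy, hyA⟩ := SetLike.not_le_iff_exists.mp hBn
  have hyR : y ∈ R := (Subgroup.mem_inf.mp hy).1
  have hyB : ∀ b ∈ B, b * y = y * b := fun b hb =>
    (Subgroup.mem_centralizer_iff.mp (Subgroup.mem_inf.mp hy).2) b hb
  -- `a ∈ A ∖ B`
  obtain ⟨a, haA, haB⟩ : ∃ a ∈ A, a ∉ B := by
    by_contra hcon
    have hAB : A ≤ B := by
      intro z hz
      by_contra hzB
      exact hcon ⟨z, hz, hzB⟩
    have := Subgroup.relIndex_eq_one.mpr hAB
    omega
  -- `A ≤ B ⊔ <a>`
  have hAle : A ≤ B ⊔ Subgroup.zpowers a := by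
    have hCA : B ⊔ Subgroup.zpowers a ≤ A := sup_le hBA (Subgroup.zpowers_le.mpr haA)
    have hmul := Subgroup.relIndex_mul_relIndex B (B ⊔ Subgroup.zpowers a) A le_sup_left hCA
    rw [hBi] at hmul
    have hne1 : B.relIndex (B ⊔ Subgroup.zpowers a) ≠ 1 := by
      intro h
      apply haB
      exact (Subgroup.relIndex_eq_one.mp h) (le_sup_right (a := B) (Subgroup.mem_zpowers a))
    have hd : B.relIndex (B ⊔ Subgroup.zpowers a) ∣ 2 := ⟨_, hmul.symm⟩
    rcases (Nat.dvd_prime Nat.prime_two).mp hd with h | h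
    · exact absurd h hne1
    · rw [h] at hmul
      have : (B ⊔ Subgroup.zpowers a).relIndex A = 1 := by omega
      exact Subgroup.relIndex_eq_one.mp this
  -- `y` does not commute with `a`
  have hya : a * y ≠ y * a := by
    intro h
    apply hyA
    rw [Subgroup.mem_centralizer_iff]
    intro z hz
    have hz' := hAle hz
    -- every element of `B ⊔ <a>` commutes with `y`
    have : z ∈ Subgroup.centralizer ({y} : Set H) := by
      have hle : B ⊔ Subgroup.zpowers a ≤ Subgroup.centralizer ({y} : Set H) := by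
        apply sup_le
        · intro b hb
          rw [Subgroup.mem_centralizer_iff]
          intro w hw
          rw [Set.mem_singleton_iff] at hw
          rw [hw]
          exact (hyB b hb).symm
        · rw [Subgroup.zpowers_le, Subgroup.mem_centralizer_iff]
          intro w hw
          rw [Set.mem_singleton_iff] at hw
          rw [hw]
          exact h.symm
      exact hle hz'
    rw [Subgroup.mem_centralizer_iff] at this
    exact (this y rfl).symm
  have hainv : a⁻¹ = a := by
    have := hsq a haA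
    exact inv_eq_of_mul_eq_one_left this
  refine ⟨B, a, y⁻¹ * (a * y * a⁻¹), hBA, haA, haB, hAle, ?_, ?_, ?_, ?_⟩
  · -- `x ≠ 1`
    intro h
    apply hya
    have h2 : a * y * a⁻¹ = y := by
      have := congrArg (fun z => y * z) h
      simpa using this
    have := congrArg (fun z => z * a) h2
    simpa using this
  · -- odd order
    have hxR : y⁻¹ * (a * y * a⁻¹) ∈ R := R.mul_mem (R.inv_mem hyR) (hRn.conj_mem y hyR a)
    have hdvd : orderOf (y⁻¹ * (a * y * a⁻¹)) ∣ Nat.card ↥R := by
      have := orderOf_dvd_natCard (⟨_, hxR⟩ : ↥R)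
      rwa [Subgroup.orderOf_mk] at this
    exact Odd.of_dvd_nat hR hdvd
  · -- `B` centralizes `x`
    intro b hb
    have h1 := hyB b hb
    have h2 := hcomm b (hBA hb) a haA
    have h1' : b * y⁻¹ = y⁻¹ * b := by
      have := congrArg (fun z => y⁻¹ * z * y⁻¹) h1
      simp only [mul_assoc, mul_inv_cancel, mul_one] at this
      rw [← mul_assoc, ← mul_assoc, inv_mul_cancel, one_mul] at this
      exact this.symm
    have h2' : b * a⁻¹ = a⁻¹ * b := by rw [hainv]; exact h2
    calc b * (y⁻¹ * (a * y * a⁻¹)) = (b * y⁻¹) * (a * y * a⁻¹) := by group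
      _ = y⁻¹ * (b * a) * y * a⁻¹ := by rw [h1']; group
      _ = y⁻¹ * a * (b * y) * a⁻¹ := by rw [h2]; group
      _ = y⁻¹ * a * y * (b * a⁻¹) := by rw [h1]; group
      _ = y⁻¹ * (a * y * a⁻¹) * b := by rw [h2']; group
  · -- `a` inverts `x`
    rw [hainv]
    have e : (y⁻¹ * (a * y * a))⁻¹ = a⁻¹ * y⁻¹ * a⁻¹ * y := by group
    rw [e, hainv]
    have : a * (y⁻¹ * (a * y * a)) * a = a * y⁻¹ * a * y * (a * a) := by group
    rw [this, hsq a haA, mul_one]

end grp

end Cfsg.Agent.Lib.Helper27.SFLeaf
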