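/-
helper27: S4705 market "BS", leaf BS-SPLIT (`split_center`): a linear character faithful on the centre and a perfect
central quotient split the group as `G ≅ G/Z(G) × Z(G)`.
-/
import Mathlib
import Cfsg.Prelude.Def_BlockRank
import Cfsg.Agent.Lib.Helper6.BRHDefs
import Cfsg.Agent.Lib.Helper6.LinChar

set_option autoImplicit false

namespace Cfsg.Agent.Lib.Helper27.BSSPLIT

open Cfsg Cfsg.Agent.CharLib

universe u

variable {G : Type u} [Group G]

/-- internal direct product with a central factor -/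
theorem nonempty_prod_of_central (K Z : Subgroup G) (hZ : Z ≤ Subgroup.center G)
    (hinf : K ⊓ Z = ⊥) (hsup : ∀ g : G, ∃ k ∈ K, ∃ z ∈ Z, g = k * z) :
    Nonempty (G ≃* ↥K × ↥Z) := by
  let f : ↥K × ↥Z →* G :=
    { toFun := fun x => (x.1 : G) * (x.2 : G)
      map_one' := by simp
      map_mul' := by
        intro x y
        have hc : (x.2 : G) * (y.1 : G) = (y.1 : G) * (x.2 : G) :=
          ((Subgroup.mem_center_iff.mp (hZ x.2.2)) (y.1 : G)).symm
        show ((x.1 * y.1 : ↥K) : G) * ((x.2 * y.2 : ↥Z) : G) = (x.1 : G) * (x.2 : G) * ((y.1 : G) * (y.2 : G))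
        rw [Subgroup.coe_mul, Subgroup.coe_mul]
        calc (x.1 : G) * (y.1 : G) * ((x.2 : G) * (y.2 : G))
            = (x.1 : G) * ((y.1 : G) * (x.2 : G)) * (y.2 : G) := by group
          _ = (x.1 : G) * ((x.2 : G) * (y.1 : G)) * (y.2 : G) := by rw [hc]
          _ = (x.1 : G) * (x.2 : G) * ((y.1 : G) * (y.2 : G)) := by group }
  have hbij : Function.Bijective f := by
    constructor
    · rw [injective_iff_map_eq_one]
      intro x hx
      have hx' : (x.1 : G) * (x.2 : G) = 1 := hx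
      have h1 : (x.1 : G) = (x.2 : G)⁻¹ := eq_inv_of_mul_eq_one_left hx'
      have h2 : (x.1 : G) ∈ K ⊓ Z := Subgroup.mem_inf.mpr ⟨x.1.2, by rw [h1]; exact Z.inv_mem x.2.2⟩
      rw [hinf, Subgroup.mem_bot] at h2
      have h3 : (x.2 : G) = 1 := by rw [h2, one_mul] at hx'; exact hx'
      exact Prod.ext (Subtype.ext h2) (Subtype.ext h3)
    · intro g
      obtain ⟨k, hk, z, hz, hg⟩ := hsup g
      exact ⟨(⟨k, hk⟩, ⟨z, hz⟩), hg.symm⟩
  exact ⟨(MulEquiv.ofBijective f hbij).symm⟩

/-- BS-SPLIT : `G ≅ G / Z(G) × Z(G)`. -/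
theorem split_center [Finite G] (μ : IrrCharacter G) (hμ1 : (μ : G → ℂ) 1 = 1)
    (hμZ : ∀ z ∈ Subgroup.center G, (μ : G → ℂ) z = 1 → z = 1)
    (hperf : commutator (G ⧸ Subgroup.center G) = ⊤) :
    Nonempty (G ≃* (G ⧸ Subgroup.center G) × Subgroup.center G) := by
  classical
  set Z : Subgroup G := Subgroup.center G with hZdef
  set K : Subgroup G := commutator G with hKdef
  -- the hom attached to μ
  let φ : G →* ℂˣ :=
    Cfsg.Agent.Lib.Helper6.linCharUnitsHom (IsIrrCharacter.isCharacter μ.2) hμ1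
  have hφ : ∀ g : G, ((φ g : ℂˣ) : ℂ) = (μ : G → ℂ) g := fun g => rfl
  have hKker : K ≤ φ.ker := Abelianization.commutator_subset_ker φ
  have hinf : K ⊓ Z = ⊥ := by
    rw [eq_bot_iff]
    intro z hz
    obtain ⟨hzK, hzZ⟩ := Subgroup.mem_inf.mp hz
    have h1 : φ z = 1 := MonoidHom.mem_ker.mp (hKker hzK)
    have h2 : (μ : G → ℂ) z = 1 := by rw [← hφ z, h1]; rfl
    exact Subgroup.mem_bot.mpr (hμZ z hzZ h2)
  -- the image of the commutator subgroup in the quotient is everything
  have hmap : K.map (QuotientGroup.mk' Z) = ⊤ := by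
    rw [hKdef, commutator_def, Subgroup.map_commutator,
      Subgroup.map_top_of_surjective _ (QuotientGroup.mk'_surjective Z), ← commutator_def]
    exact hperf
  have hsup : ∀ g : G, ∃ k ∈ K, ∃ z ∈ Z, g = k * z := by
    intro g
    have hg : QuotientGroup.mk' Z g ∈ K.map (QuotientGroup.mk' Z) := by rw [hmap]; trivial
    obtain ⟨k, hk, hkg⟩ := Subgroup.mem_map.mp hg
    have hz : k⁻¹ * g ∈ Z := by
      have := QuotientGroup.eq.mp hkg
      exact this
    exact ⟨k, hk, k⁻¹ * g, hz, by group⟩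
  obtain ⟨e1⟩ := nonempty_prod_of_central K Z le_rfl hinf hsup
  -- K ≅ G / Z
  let q : ↥K →* G ⧸ Z := (QuotientGroup.mk' Z).comp K.subtype
  have hq : Function.Bijective q := by
    constructor
    · rw [injective_iff_map_eq_one]
      intro k hk
      have hkZ : (k : G) ∈ Z := by
        have : QuotientGroup.mk' Z (k : G) = 1 := hk
        exact (QuotientGroup.eq_one_iff (k : G)).mp this
      have : (k : G) ∈ K ⊓ Z := Subgroup.mem_inf.mpr ⟨k.2, hkZ⟩
      rw [hinf, Subgroup.mem_bot] at this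
      exact Subtype.ext this
    · intro y
      obtain ⟨g, rfl⟩ := QuotientGroup.mk'_surjective Z y
      obtain ⟨k, hk, z, hz, hg⟩ := hsup g
      refine ⟨⟨k, hk⟩, ?_⟩
      show QuotientGroup.mk' Z k = QuotientGroup.mk' Z g
      rw [hg]
      apply QuotientGroup.eq.mpr
      have : k⁻¹ * (k * z) = z := by group
      rw [this]; exact hz
  let e2 : ↥K ≃* G ⧸ Z := MulEquiv.ofBijective q hq
  exact ⟨e1.trans (MulEquiv.prodCongr e2 (MulEquiv.refl _))⟩

end Cfsg.Agent.Lib.Helper27.BSSPLIT
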