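/-
helper27: DEFECT-ONE Part O: the STATEMENT of leaf DO-FULL `struct_full_of` as a `Prop`-valued definition `FullStmt G p M`
(verbatim binders/conclusion of the frozen leaf in notes/S4442_O_leaves.lean, minus `hM`), so that the read-offs
(S4442, S4507, ...) can be landed in `_of` form over `hfull : FullStmt G p M` before FULL itself is on main.
Final call: `fun P hP hSyl hfinal B hB hBP θ hθP hind T hT => struct_full_of hM P hP hSyl hfinal B hB hBP θ hθP hind T hT`.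
-/
import Mathlib
import Cfsg.Prelude.Def_BlockRank
import Cfsg.Agent.Lib.Helper27.DODefs
import Cfsg.Agent.Lib.Helper27.BlkAlgDefs2

set_option autoImplicit false
set_option linter.unusedVariables false

namespace Cfsg.Agent.Lib.Helper27.DOFullStmt

open Cfsg Cfsg.Agent.Lib.Helper8.DOM Cfsg.Agent.Lib.Helper27.DO Cfsg.Agent.Lib.Helper27.BlkAlg
open scoped ComplexConjugate

universe u

/-- the statement of DO-FULL (without `hM`) for a fixed group `G`, prime `p`, ideal `M` -/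
def FullStmt (G : Type u) [Group G] [Finite G] [Fintype (IrrCharacter G)] (p : ℕ) [Fact p.Prime]
    (M : Ideal AlgInt) : Prop :=
  ∀ (P : Subgroup G)
    (hP : Nat.card P = p) (hSyl : ¬ p ∣ P.index)
    (hfinal : Nat.card (ConjClasses ((Nz P) ⧸ P.subgroupOf (Nz P))) ≤
      ∑ B ∈ blocks M G, if 0 < blockDefect p B then blockRank p B else 0)
    (B : Set (IrrCharacter G)) (hB : IsPBlock M B) (hBP : IsDefectGroup p M B P)
    (θ : IrrCharacter (Cz P)) (hθP : PTriv P (θ : Cz P → ℂ))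
    (hind : IsInducedBlock M (Cz P) (blockOf M (θ : Cz P → ℂ)) B)
    (T : Subgroup G) (hT : IsInertia P (θ : Cz P → ℂ) T),
    (Cz P).relIndex T ∣ p - 1 ∧
    Nat.card B = (Cz P).relIndex T + (p - 1) / (Cz P).relIndex T ∧
    ∃ (X Y : Set (IrrCharacter G)) (εX : IrrCharacter G → ℤ) (ε : ℤ),
      B = X ∪ Y ∧ Disjoint X Y ∧ Nat.card X = (Cz P).relIndex T ∧
      Nat.card Y = (p - 1) / (Cz P).relIndex T ∧
      (∀ χ ∈ X, εX χ = 1 ∨ εX χ = -1) ∧ (ε = 1 ∨ ε = -1) ∧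
      (∀ ψ ∈ Y, ∀ ψ' ∈ Y, ∀ g : G, ¬ p ∣ orderOf g → (ψ : G → ℂ) g = (ψ' : G → ℂ) g) ∧
      (∀ ψ ∈ Y, ∀ g : G, ¬ p ∣ orderOf g →
        (ε : ℂ) * (ψ : G → ℂ) g = ∑ᶠ χ ∈ X, (εX χ : ℂ) * (χ : G → ℂ) g) ∧
      (∀ χ ∈ X, (charDegree (χ : G → ℂ) : ℤ) ≡
        εX χ * (((Cz P).relIndex (Nz P) / (Cz P).relIndex T * charDegree (θ : Cz P → ℂ) : ℕ) : ℤ)
          [ZMOD p]) ∧
      (∀ ψ ∈ Y, (charDegree (ψ : G → ℂ) : ℤ) ≡
        ε * (((Cz P).relIndex (Nz P) * charDegree (θ : Cz P → ℂ) : ℕ) : ℤ) [ZMOD p]) ∧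
      (∀ χ ∈ X, ∀ x ∈ P, x ≠ 1 → ∀ y ∈ Cz P, ¬ p ∣ orderOf y →
        (χ : G → ℂ) (x * y) = (εX χ : ℂ) * thetaSum P (θ : Cz P → ℂ) T y) ∧
      (∀ ψ ∈ Y, ∀ k : ℕ, ¬ p ∣ k → ∃ ψ' ∈ Y, ∀ x ∈ P, x ≠ 1 → ∀ y ∈ Cz P, ¬ p ∣ orderOf y →
        (ψ' : G → ℂ) (x * y) = (ψ : G → ℂ) (x ^ k * y)) ∧
      (∀ ψ ∈ Y, ∀ ψ' ∈ Y, ∃ k : ℕ, ¬ p ∣ k ∧ ∀ x ∈ P, x ≠ 1 → ∀ y ∈ Cz P, ¬ p ∣ orderOf y →
        (ψ' : G → ℂ) (x * y) = (ψ : G → ℂ) (x ^ k * y))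

end Cfsg.Agent.Lib.Helper27.DOFullStmt
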