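import Mathlib
import Cfsg.Agent.Lib.Helper27.ZJ6

/-!
# `N_G(Z(J(P)))` contains all `p`-local subgroups `N_G(Q)`, `1 ≠ Q ≤ P`, when all `p`-locals
are `p`-constrained and `p`-stable with trivial `p'`-core.
-/

set_option autoImplicit false
open scoped commutatorElement

universe u

namespace Cfsg.Agent.Lib.Helper27

section zj7

variable {G : Type u} [Group G] [Finite G] {p : ℕ} [Fact p.Prime]

/-- Normalizers grow in `p`-groups (subgroup form). -/
theorem card_lt_card_inf_normalizer {S P : Subgroup G} (hS : IsPGroup p S) (hP : P ≤ S)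
    (hne : P ≠ S) : Nat.card P < Nat.card ↥(S ⊓ Subgroup.normalizer (P : Set G)) := by
  haveI : Group.IsNilpotent S := hS.isNilpotent
  have hlt : P.subgroupOf S < ⊤ := by
    rw [lt_top_iff_ne_top]
    intro h
    apply hne
    apply le_antisymm hP
    intro x hx
    have : (⟨x, hx⟩ : S) ∈ P.subgroupOf S := by rw [h]; trivial
    exact this
  have hnc := Group.normalizerCondition_of_isNilpotent (G := S) _ hlt
  obtain ⟨x, hxN, hxP⟩ := SetLike.exists_of_lt hnc
  have hxN' : (x : G) ∈ Subgroup.normalizer (P : Set G) := by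
    rw [Subgroup.mem_normalizer_iff] at hxN ⊢
    intro y
    constructor
    · intro hy
      exact (hxN ⟨y, hP hy⟩).mp hy
    · intro hy
      have hyS : y ∈ S := by
        have h1 : y = (x : G)⁻¹ * ((x : G) * y * (x : G)⁻¹) * (x : G) := by group
        rw [h1]
        exact S.mul_mem (S.mul_mem (S.inv_mem x.2) (hP hy)) x.2
      exact (hxN ⟨y, hyS⟩).mpr hy
  have hle : P ≤ S ⊓ Subgroup.normalizer (P : Set G) := le_inf hP Subgroup.le_normalizer
  rcases (Subgroup.card_le_of_le hle).lt_or_eq with h | h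
  · exact h
  · exfalso
    have := Subgroup.eq_of_le_of_card_ge hle h.ge
    apply hxP
    show (x : G) ∈ P
    rw [this]
    exact ⟨x.2, hxN'⟩

theorem centerThompsonAOf_map_conj (g : G) (T : Subgroup G) :
    Cfsg.centerThompsonAOf (T.map (MulAut.conj g).toMonoidHom) =
      (Cfsg.centerThompsonAOf T).map (MulAut.conj g).toMonoidHom := by
  rw [centerThompsonAOf_eq, centerThompsonAOf_eq, wSub_map goodClass_abSub]

theorem normalizer_le_normalizer_centerThompsonAOf (T : Subgroup G) :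
    Subgroup.normalizer (T : Set G) ≤
      Subgroup.normalizer (Cfsg.centerThompsonAOf T : Set G) := by
  rw [centerThompsonAOf_eq]
  exact normalizer_le_normalizer_wSub goodClass_abSub T

theorem centerThompsonAOf_ne_bot (T : Subgroup G) (hT : IsPGroup p T) (hne : T ≠ ⊥) :
    Cfsg.centerThompsonAOf T ≠ ⊥ := by
  rw [← inducedFunctor_zjA]
  unfold Cfsg.inducedFunctor
  haveI : Nontrivial T := (Subgroup.nontrivial_iff_ne_bot T).mpr hne
  have h1 := (isCharPFunctor_zjA.{u} p).1 ↥T hT inferInstance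
  intro h
  apply h1
  exact (Subgroup.map_eq_bot_iff_of_injective _ T.subtype_injective).mp h

/-- Claim A: `Z(J(R))` is normal in `H` when `R ∈ Syl_p(H)` and `H` is `p`-constrained,
`p`-stable with `O_{p'}(H) = 1`. -/
theorem le_normalizer_centerThompsonAOf_sylow (hp : p ≠ 2) (H : Subgroup G)
    (h1 : Cfsg.pPrimeCore p ↥H = ⊥) (hc : Cfsg.IsPConstrained p ↥H) (hs : Cfsg.IsPStable p ↥H)
    (R : Sylow p ↥H) :
    H ≤ Subgroup.normalizer
      (Cfsg.centerThompsonAOf ((R : Subgroup H).map H.subtype) : Set G) := by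
  have hn : (Cfsg.centerThompsonAOf (R : Subgroup H)).Normal :=
    centerThompsonAOf_normal_of_pPrimeCore_eq_bot hp hc hs R h1
  rw [centerThompsonAOf_map_of_injOn H.subtype (R : Subgroup H) R.isPGroup'
    (fun x _ hx => by simpa using hx)]
  intro h hh
  rw [Subgroup.mem_normalizer_iff]
  intro x
  constructor
  · rintro ⟨y, hy, rfl⟩
    exact ⟨⟨h, hh⟩ * y * ⟨h, hh⟩⁻¹, hn.conj_mem y hy ⟨h, hh⟩, rfl⟩
  · rintro ⟨y, hy, hyx⟩
    refine ⟨⟨h, hh⟩⁻¹ * y * ⟨h, hh⟩, ?_, ?_⟩
    · have := hn.conj_mem y hy ⟨h, hh⟩⁻¹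
      simpa using this
    · show h⁻¹ * (y : G) * h = x
      have : (y : G) = h * x * h⁻¹ := hyx
      rw [this]
      group

theorem exists_sylow_map_ge (H T : Subgroup G) (hT : IsPGroup p T) (hTH : T ≤ H) :
    ∃ R : Sylow p ↥H, T ≤ (R : Subgroup H).map H.subtype := by
  obtain ⟨R, hR⟩ := (hT.comap_subtype (K := H)).exists_le_sylow
  refine ⟨R, ?_⟩
  have h2 : (T.subgroupOf H).map H.subtype ≤ (R : Subgroup H).map H.subtype :=
    Subgroup.map_mono (f := H.subtype) hR
  rwa [Subgroup.map_subgroupOf_eq_of_le hTH] at h2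

/-- Sylow subgroups meeting in a subgroup of order at least `k` have the same `Z(J)`. -/
def PhiK (p : ℕ) (G : Type u) [Group G] (k : ℕ) : Prop :=
  ∀ P P' : Sylow p G, (P : Subgroup G) ⊓ P' ≠ ⊥ → k ≤ Nat.card ↥((P : Subgroup G) ⊓ P') →
    Cfsg.centerThompsonAOf (P : Subgroup G) = Cfsg.centerThompsonAOf (P' : Subgroup G)

/-- If a Sylow subgroup `R` of `N_G(Q)` has order at least `k` and lies in the Sylow subgroup `P'`
of `G` then `N_G(Q) ≤ N_G(Z(J(P')))`. -/
def PsiK (p : ℕ) (G : Type u) [Group G] (k : ℕ) : Prop :=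
  ∀ Q : Subgroup G, IsPGroup p Q → Q ≠ ⊥ →
    ∀ (R : Sylow p ↥(Subgroup.normalizer (Q : Set G))) (P' : Sylow p G),
      (R : Subgroup _).map (Subgroup.normalizer (Q : Set G)).subtype ≤ P' →
      k ≤ Nat.card R →
      Subgroup.normalizer (Q : Set G) ≤
        Subgroup.normalizer (Cfsg.centerThompsonAOf (P' : Subgroup G) : Set G)

/-- The local hypothesis of S0658. -/
def LocHyp (p : ℕ) (G : Type u) [Group G] : Prop :=
  ∀ Q : Subgroup G, IsPGroup p Q → Q ≠ ⊥ →
    Cfsg.pPrimeCore p ↥(Subgroup.normalizer (Q : Set G)) = ⊥ ∧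
    Cfsg.IsPConstrained p ↥(Subgroup.normalizer (Q : Set G)) ∧
    Cfsg.IsPStable p ↥(Subgroup.normalizer (Q : Set G))

theorem card_map_subtype_sylow (H : Subgroup G) (R : Sylow p ↥H) :
    Nat.card ↥((R : Subgroup H).map H.subtype) = Nat.card R :=
  Subgroup.card_map_of_injective H.subtype_injective

theorem le_map_sylow_normalizer {Q : Subgroup G} (hQ : IsPGroup p Q)
    (R : Sylow p ↥(Subgroup.normalizer (Q : Set G))) :
    Q ≤ (R : Subgroup _).map (Subgroup.normalizer (Q : Set G)).subtype := by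
  have h0 : IsPGroup p (Q.subgroupOf (Subgroup.normalizer (Q : Set G))) :=
    hQ.comap_subtype (K := Subgroup.normalizer (Q : Set G))
  have h2 : Q.subgroupOf (Subgroup.normalizer (Q : Set G)) ≤ R := h0.le_sylow_of_normal R
  have h3 : (Q.subgroupOf (Subgroup.normalizer (Q : Set G))).map
      (Subgroup.normalizer (Q : Set G)).subtype ≤
      (R : Subgroup _).map (Subgroup.normalizer (Q : Set G)).subtype :=
    Subgroup.map_mono h2
  rwa [Subgroup.map_subgroupOf_eq_of_le Subgroup.le_normalizer] at h3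

theorem psi_step (hp : p ≠ 2) (hloc : LocHyp p G) (k : ℕ) (hΦ : PhiK p G (k + 1))
    (hΨ : PsiK p G (k + 1)) : PsiK p G k := by
  intro Q hQ hQ1 R P' hRP hk
  set T := (R : Subgroup _).map (Subgroup.normalizer (Q : Set G)).subtype with hT
  have hTp : IsPGroup p T := R.isPGroup'.map _
  have hcardT : Nat.card T = Nat.card R := card_map_subtype_sylow _ R
  obtain ⟨h1, hc, hs⟩ := hloc Q hQ hQ1
  have hA : Subgroup.normalizer (Q : Set G) ≤
      Subgroup.normalizer (Cfsg.centerThompsonAOf T : Set G) :=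
    le_normalizer_centerThompsonAOf_sylow hp _ h1 hc hs R
  by_cases hTP : T = P'
  · rw [← hTP]; exact hA
  have hQT : Q ≤ T := le_map_sylow_normalizer hQ R
  have hT1 : T ≠ ⊥ := fun h => hQ1 (le_bot_iff.mp (h ▸ hQT))
  set Q2 := Cfsg.centerThompsonAOf T with hQ2def
  have hQ2 : IsPGroup p Q2 := hTp.to_le (centerThompsonAOf_le T)
  have hQ21 : Q2 ≠ ⊥ := centerThompsonAOf_ne_bot T hTp hT1
  set H2 := Subgroup.normalizer (Q2 : Set G) with hH2
  set NT := (P' : Subgroup G) ⊓ Subgroup.normalizer (T : Set G) with hNT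
  have hNTp : IsPGroup p NT := P'.isPGroup'.to_le inf_le_left
  have hNTH2 : NT ≤ H2 := inf_le_right.trans (normalizer_le_normalizer_centerThompsonAOf T)
  have hlt : Nat.card T < Nat.card NT := card_lt_card_inf_normalizer P'.isPGroup' hRP hTP
  have hTNT : T ≤ NT := le_inf hRP Subgroup.le_normalizer
  obtain ⟨R2, hR2⟩ := exists_sylow_map_ge H2 NT hNTp hNTH2
  obtain ⟨P2, hP2⟩ := (R2.isPGroup'.map H2.subtype).exists_le_sylow
  have hNT2 : NT ≤ (P' : Subgroup G) ⊓ P2 := le_inf inf_le_left (hR2.trans hP2)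
  have hcard1 : k + 1 ≤ Nat.card ↥((P' : Subgroup G) ⊓ P2) := by
    have := Subgroup.card_le_of_le hNT2
    omega
  have hne : (P' : Subgroup G) ⊓ P2 ≠ ⊥ := fun h => hT1 (le_bot_iff.mp (h ▸ hTNT.trans hNT2))
  have hZ : Cfsg.centerThompsonAOf (P' : Subgroup G) = Cfsg.centerThompsonAOf (P2 : Subgroup G) :=
    hΦ P' P2 hne hcard1
  have hcardR2 : k + 1 ≤ Nat.card R2 := by
    have h3 := Subgroup.card_le_of_le hR2
    rw [card_map_subtype_sylow H2 R2] at h3
    omega
  have h4 := hΨ Q2 hQ2 hQ21 R2 P2 hP2 hcardR2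
  rw [hZ]
  exact hA.trans h4

theorem sylow_eq_of_le {P P' : Sylow p G} (h : (P : Subgroup G) ≤ P') : P = P' :=
  Sylow.ext (P.is_maximal' P'.isPGroup' h).symm

/-- One side of the `Φ`-step. -/
theorem phi_side (k : ℕ) (hΦ : PhiK p G (k + 1)) (D : Subgroup G) (hD1 : D ≠ ⊥)
    (P₀ : Sylow p G) (hDP : D ≤ P₀) (hne : D ≠ P₀) (hk : k ≤ Nat.card D) :
    ∃ (R : Sylow p ↥(Subgroup.normalizer (D : Set G))) (P₁ : Sylow p G),
      (R : Subgroup _).map (Subgroup.normalizer (D : Set G)).subtype ≤ P₁ ∧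
      D ≤ (R : Subgroup _).map (Subgroup.normalizer (D : Set G)).subtype ∧
      k + 1 ≤ Nat.card R ∧
      Cfsg.centerThompsonAOf (P₀ : Subgroup G) = Cfsg.centerThompsonAOf (P₁ : Subgroup G) := by
  set NP := (P₀ : Subgroup G) ⊓ Subgroup.normalizer (D : Set G) with hNP
  have hNPp : IsPGroup p NP := P₀.isPGroup'.to_le inf_le_left
  have hlt : Nat.card D < Nat.card NP := card_lt_card_inf_normalizer P₀.isPGroup' hDP hne
  have hDNP : D ≤ NP := le_inf hDP Subgroup.le_normalizer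
  obtain ⟨R, hR⟩ := exists_sylow_map_ge (Subgroup.normalizer (D : Set G)) NP hNPp inf_le_right
  obtain ⟨P₁, hP₁⟩ := (R.isPGroup'.map (Subgroup.normalizer (D : Set G)).subtype).exists_le_sylow
  have hNP2 : NP ≤ (P₀ : Subgroup G) ⊓ P₁ := le_inf inf_le_left (hR.trans hP₁)
  have hcard1 : k + 1 ≤ Nat.card ↥((P₀ : Subgroup G) ⊓ P₁) := by
    have := Subgroup.card_le_of_le hNP2
    omega
  have hne2 : (P₀ : Subgroup G) ⊓ P₁ ≠ ⊥ := fun h => hD1 (le_bot_iff.mp (h ▸ hDNP.trans hNP2))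
  refine ⟨R, P₁, hP₁, hDNP.trans hR, ?_, hΦ P₀ P₁ hne2 hcard1⟩
  have h3 := Subgroup.card_le_of_le hR
  rw [card_map_subtype_sylow _ R] at h3
  omega

theorem map_subtype_smul_sylow (H : Subgroup G) (h : H) (R : Sylow p ↥H) :
    ((h • R : Sylow p ↥H) : Subgroup H).map H.subtype =
      ((R : Subgroup H).map H.subtype).map (MulAut.conj (h : G)).toMonoidHom := by
  rw [sylow_smul_eq_map, Subgroup.map_map, Subgroup.map_map]
  congr 1

theorem phi_step (hp : p ≠ 2) (hloc : LocHyp p G) (k : ℕ) (hΦ : PhiK p G (k + 1))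
    (hΨ : PsiK p G (k + 1)) : PhiK p G k := by
  intro P P' hne hk
  rcases Nat.lt_or_ge k (Nat.card ↥((P : Subgroup G) ⊓ P')) with hlt | hge
  · exact hΦ P P' hne hlt
  by_cases hDP : (P : Subgroup G) ⊓ P' = P
  · have : P = P' := sylow_eq_of_le (hDP ▸ inf_le_right)
    rw [this]
  by_cases hDP' : (P : Subgroup G) ⊓ P' = P'
  · have : P' = P := sylow_eq_of_le (hDP' ▸ inf_le_left)
    rw [this]
  have hDp : IsPGroup p ↥((P : Subgroup G) ⊓ P') := P.isPGroup'.to_le inf_le_left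
  obtain ⟨R, P₁, hRP₁, hDR, hcR, hZ⟩ := phi_side k hΦ _ hne P inf_le_left hDP hk
  obtain ⟨R', P₁', hRP₁', hDR', hcR', hZ'⟩ := phi_side k hΦ _ hne P' inf_le_right hDP' hk
  obtain ⟨h, hh⟩ := MulAction.exists_smul_eq ↥(Subgroup.normalizer (((P : Subgroup G) ⊓ P' : Subgroup G) : Set G)) R R'
  have hN := hΨ _ hDp hne R P₁ hRP₁ hcR
  have hgN : (h : G) ∈ Subgroup.normalizer (Cfsg.centerThompsonAOf (P₁ : Subgroup G) : Set G) :=
    hN h.2
  have hgN' : (Cfsg.centerThompsonAOf (P₁ : Subgroup G)).map (MulAut.conj (h : G)).toMonoidHom =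
      Cfsg.centerThompsonAOf (P₁ : Subgroup G) := Subgroup.mem_normalizer_iff_map_conj_eq.mp hgN
  have hR'le : (R' : Subgroup ↥(Subgroup.normalizer (((P : Subgroup G) ⊓ P' : Subgroup G) : Set G))).map
      (Subgroup.normalizer (((P : Subgroup G) ⊓ P' : Subgroup G) : Set G)).subtype ≤
      (((h : G) • P₁ : Sylow p G) : Subgroup G) := by
    rw [← hh, map_subtype_smul_sylow, sylow_smul_eq_map]
    exact Subgroup.map_mono hRP₁
  have hle2 : (R' : Subgroup ↥(Subgroup.normalizer (((P : Subgroup G) ⊓ P' : Subgroup G) : Set G))).map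
      (Subgroup.normalizer (((P : Subgroup G) ⊓ P' : Subgroup G) : Set G)).subtype ≤
      (((h : G) • P₁ : Sylow p G) : Subgroup G) ⊓ P₁' := le_inf hR'le hRP₁'
  have hcard2 : k + 1 ≤ Nat.card ↥((((h : G) • P₁ : Sylow p G) : Subgroup G) ⊓ P₁') := by
    have h3 := Subgroup.card_le_of_le hle2
    rw [card_map_subtype_sylow _ R'] at h3
    omega
  have hne2 : (((h : G) • P₁ : Sylow p G) : Subgroup G) ⊓ P₁' ≠ ⊥ :=
    fun h0 => hne (le_bot_iff.mp (h0 ▸ hDR'.trans hle2))
  have hZ2 := hΦ ((h : G) • P₁) P₁' hne2 hcard2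
  rw [sylow_smul_eq_map, centerThompsonAOf_map_conj, hgN'] at hZ2
  rw [hZ, hZ2, ← hZ']

theorem phi_psi_all (hp : p ≠ 2) (hloc : LocHyp p G) :
    ∀ n k : ℕ, Nat.card G + 1 ≤ k + n → PhiK p G k ∧ PsiK p G k := by
  intro n
  induction n with
  | zero =>
    intro k hk
    constructor
    · intro P P' _ hcard
      exfalso
      have := Subgroup.card_le_card_group ((P : Subgroup G) ⊓ P')
      omega
    · intro Q _ _ R P' _ hcard
      exfalso
      have h1 := Subgroup.card_le_card_group (R : Subgroup ↥(Subgroup.normalizer (Q : Set G)))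
      have h2 := Subgroup.card_le_card_group (Subgroup.normalizer (Q : Set G))
      omega
  | succ n ih =>
    intro k hk
    obtain ⟨h1, h2⟩ := ih (k + 1) (by omega)
    exact ⟨phi_step hp hloc k h1 h2, psi_step hp hloc k h1 h2⟩

/-- S0658. -/
theorem normalizer_le_normalizer_centerThompsonAOf_of_loc (hp : p ≠ 2) (hloc : LocHyp p G)
    (P : Sylow p G) (Q : Subgroup G) (hQP : Q ≤ (P : Subgroup G)) (hQ1 : Q ≠ ⊥) :
    Subgroup.normalizer (Q : Set G) ≤
      Subgroup.normalizer (Cfsg.centerThompsonAOf (P : Subgroup G) : Set G) := by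
  have hΦ := (phi_psi_all hp hloc (Nat.card G + 1) 0 (by omega)).1
  intro g hg
  have hQle : Q ≤ (P : Subgroup G) ⊓ ((g • P : Sylow p G) : Subgroup G) := by
    apply le_inf hQP
    rw [sylow_smul_eq_map]
    intro x hx
    refine ⟨g⁻¹ * x * g, hQP ?_, ?_⟩
    · have := (Subgroup.mem_normalizer_iff.mp (Subgroup.inv_mem _ hg) x).mp hx
      simpa using this
    · simp [mul_assoc]
  have h1 := hΦ P (g • P) (fun h0 => hQ1 (le_bot_iff.mp (h0 ▸ hQle))) (Nat.zero_le _)
  rw [sylow_smul_eq_map, centerThompsonAOf_map_conj] at h1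
  exact Subgroup.mem_normalizer_iff_map_conj_eq.mpr h1.symm

end zj7

end Cfsg.Agent.Lib.Helper27
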