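/-
helper27: minimal permutation degree of `PSL_n(q)` (S2140), part A:
transvection calculus `T v f = 1 + v fᵀ` in `SL ι F` (junk value `1` when `f ⬝ᵥ v ≠ 0`).
-/
import Mathlib

set_option autoImplicit false

namespace Cfsg.Agent.Lib.Helper27.MinDeg

open Matrix

variable {ι : Type*} [Fintype ι] [DecidableEq ι] {F : Type*} [Field F]

theorem det_one_add_vecMulVec {v f : ι → F} (h : f ⬝ᵥ v = 0) :
    (1 + vecMulVec v f : Matrix ι ι F).det = 1 := by
  rw [vecMulVec_eq Unit, det_one_add_replicateCol_mul_replicateRow, h, add_zero]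

theorem sl_ext {A B : Matrix.SpecialLinearGroup ι F}
    (h : (A : Matrix ι ι F) = (B : Matrix ι ι F)) : A = B := Subtype.ext h

/-- auxiliary: the transvection with a proof. -/
def Tmk (v f : ι → F) (h : f ⬝ᵥ v = 0) : Matrix.SpecialLinearGroup ι F :=
  ⟨1 + vecMulVec v f, det_one_add_vecMulVec h⟩

open scoped Classical in
/-- The transvection `1 + v fᵀ` as an element of `SL` (the identity if `f ⬝ᵥ v ≠ 0`). -/
noncomputable def T (v f : ι → F) : Matrix.SpecialLinearGroup ι F :=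
  if h : f ⬝ᵥ v = 0 then Tmk v f h else 1

theorem T_coe {v f : ι → F} (h : f ⬝ᵥ v = 0) :
    ((T v f : Matrix.SpecialLinearGroup ι F) : Matrix ι ι F) = 1 + vecMulVec v f := by
  rw [T, dif_pos h]
  rfl

theorem T_of_ne {v f : ι → F} (h : f ⬝ᵥ v ≠ 0) : T v f = 1 := by
  rw [T, dif_neg h]

theorem T_mulVec {v f : ι → F} (h : f ⬝ᵥ v = 0) (x : ι → F) :
    (T v f : Matrix ι ι F) *ᵥ x = x + (f ⬝ᵥ x) • v := by
  rw [T_coe h, add_mulVec, one_mulVec, vecMulVec_mulVec, op_smul_eq_smul]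

theorem vecMul_T {v f : ι → F} (h : f ⬝ᵥ v = 0) (φ : ι → F) :
    φ ᵥ* (T v f : Matrix ι ι F) = φ + (φ ⬝ᵥ v) • f := by
  rw [T_coe h, vecMul_add, vecMul_one, vecMul_vecMulVec]

theorem T_zero_left (f : ι → F) : T (0 : ι → F) f = 1 := by
  apply sl_ext
  rw [T_coe (dotProduct_zero f), Matrix.SpecialLinearGroup.coe_one, zero_vecMulVec, add_zero]

theorem T_zero_right (v : ι → F) : T v (0 : ι → F) = 1 := by
  apply sl_ext
  rw [T_coe (zero_dotProduct v), Matrix.SpecialLinearGroup.coe_one, vecMulVec_zero, add_zero]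

theorem T_add {v w f : ι → F} (hv : f ⬝ᵥ v = 0) (hw : f ⬝ᵥ w = 0) :
    T (v + w) f = T v f * T w f := by
  have hvw : f ⬝ᵥ (v + w) = 0 := by rw [dotProduct_add, hv, hw, add_zero]
  apply sl_ext
  rw [Matrix.SpecialLinearGroup.coe_mul, T_coe hvw, T_coe hv, T_coe hw, add_mul, mul_add, mul_add,
    one_mul, mul_one, one_mul, vecMulVec_mul_vecMulVec, hw, zero_smul, vecMulVec_zero, add_zero,
    add_vecMulVec]
  abel

theorem T_neg {v f : ι → F} (h : f ⬝ᵥ v = 0) : T (-v) f = (T v f)⁻¹ := by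
  have h' : f ⬝ᵥ (-v) = 0 := by rw [dotProduct_neg, h, neg_zero]
  rw [eq_inv_iff_mul_eq_one, ← T_add h' h, neg_add_cancel, T_zero_left]

theorem T_sub {v w f : ι → F} (hv : f ⬝ᵥ v = 0) (hw : f ⬝ᵥ w = 0) :
    T (v - w) f = T v f * (T w f)⁻¹ := by
  have hw' : f ⬝ᵥ (-w) = 0 := by rw [dotProduct_neg, hw, neg_zero]
  rw [sub_eq_add_neg, T_add hv hw', T_neg hw]

theorem T_comm {v w f : ι → F} (hv : f ⬝ᵥ v = 0) (hw : f ⬝ᵥ w = 0) :
    T v f * T w f = T w f * T v f := by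
  rw [← T_add hv hw, ← T_add hw hv, add_comm]

theorem T_smul (c : F) (v f : ι → F) : T (c • v) f = T v (c • f) := by
  by_cases h : f ⬝ᵥ v = 0
  · have h1 : f ⬝ᵥ (c • v) = 0 := by rw [dotProduct_smul, h, smul_zero]
    have h2 : (c • f) ⬝ᵥ v = 0 := by rw [smul_dotProduct, h, smul_zero]
    apply sl_ext
    rw [T_coe h1, T_coe h2, smul_vecMulVec, vecMulVec_smul]
  · by_cases hc : c = 0
    · subst hc
      rw [zero_smul, zero_smul, T_zero_left, T_zero_right]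
    · have h1 : f ⬝ᵥ (c • v) ≠ 0 := by
        rw [dotProduct_smul, smul_eq_mul]; exact mul_ne_zero hc h
      have h2 : (c • f) ⬝ᵥ v ≠ 0 := by
        rw [smul_dotProduct, smul_eq_mul]; exact mul_ne_zero hc h
      rw [T_of_ne h1, T_of_ne h2]

theorem coe_inv_mul_coe (g : Matrix.SpecialLinearGroup ι F) :
    ((g⁻¹ : Matrix.SpecialLinearGroup ι F) : Matrix ι ι F) * (g : Matrix ι ι F) = 1 := by
  rw [← Matrix.SpecialLinearGroup.coe_mul, inv_mul_cancel, Matrix.SpecialLinearGroup.coe_one]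

theorem coe_mul_coe_inv (g : Matrix.SpecialLinearGroup ι F) :
    (g : Matrix ι ι F) * ((g⁻¹ : Matrix.SpecialLinearGroup ι F) : Matrix ι ι F) = 1 := by
  rw [← Matrix.SpecialLinearGroup.coe_mul, mul_inv_cancel, Matrix.SpecialLinearGroup.coe_one]

theorem conj_dot (g : Matrix.SpecialLinearGroup ι F) (v f : ι → F) :
    (f ᵥ* ((g⁻¹ : Matrix.SpecialLinearGroup ι F) : Matrix ι ι F)) ⬝ᵥ ((g : Matrix ι ι F) *ᵥ v) =
      f ⬝ᵥ v := by
  rw [← dotProduct_mulVec, mulVec_mulVec, coe_inv_mul_coe, one_mulVec]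

/-- conjugation of transvections -/
theorem conj_T (g : Matrix.SpecialLinearGroup ι F) (v f : ι → F) :
    g * T v f * g⁻¹ =
      T ((g : Matrix ι ι F) *ᵥ v) (f ᵥ* ((g⁻¹ : Matrix.SpecialLinearGroup ι F) : Matrix ι ι F)) := by
  by_cases h : f ⬝ᵥ v = 0
  · have h' := (conj_dot g v f).trans h
    apply sl_ext
    rw [Matrix.SpecialLinearGroup.coe_mul, Matrix.SpecialLinearGroup.coe_mul, T_coe h, T_coe h', mul_add,
      add_mul, mul_one, coe_mul_coe_inv, mul_vecMulVec, vecMulVec_mul]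
  · have h' : (f ᵥ* ((g⁻¹ : Matrix.SpecialLinearGroup ι F) : Matrix ι ι F)) ⬝ᵥ
        ((g : Matrix ι ι F) *ᵥ v) ≠ 0 := by rw [conj_dot]; exact h
    rw [T_of_ne h, T_of_ne h', mul_one, mul_inv_cancel]

theorem T_eq_one_iff {v f : ι → F} (h : f ⬝ᵥ v = 0) (hf : f ≠ 0) : T v f = 1 ↔ v = 0 := by
  constructor
  · intro e
    have e1 : ((T v f : Matrix.SpecialLinearGroup ι F) : Matrix ι ι F) = 1 := by
      rw [e, Matrix.SpecialLinearGroup.coe_one]
    rw [T_coe h, add_eq_left, vecMulVec_eq_zero] at e1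
    rcases e1 with e1 | e1
    · exact e1
    · exact absurd e1 hf
  · rintro rfl
    exact T_zero_left f

theorem T_injective {v w f : ι → F} (hv : f ⬝ᵥ v = 0) (hw : f ⬝ᵥ w = 0) (hf : f ≠ 0)
    (e : T v f = T w f) : v = w := by
  have h1 : T (v - w) f = 1 := by rw [T_sub hv hw, e, mul_inv_cancel]
  have h2 : f ⬝ᵥ (v - w) = 0 := by rw [dotProduct_sub, hv, hw, sub_zero]
  exact sub_eq_zero.1 ((T_eq_one_iff h2 hf).1 h1)

theorem T_pow {v f : ι → F} (h : f ⬝ᵥ v = 0) (k : ℕ) : T v f ^ k = T (k • v) f := by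
  induction k with
  | zero => rw [pow_zero, zero_smul, T_zero_left]
  | succ k ih =>
    have hk : f ⬝ᵥ (k • v) = 0 := by rw [dotProduct_smul, h, smul_zero]
    rw [pow_succ, ih, succ_nsmul, T_add hk h]

theorem T_pow_char {v f : ι → F} (p : ℕ) [CharP F p] (h : f ⬝ᵥ v = 0) : T v f ^ p = 1 := by
  rw [T_pow h]
  have : (p • v : ι → F) = 0 := by
    rw [← Nat.cast_smul_eq_nsmul F, CharP.cast_eq_zero, zero_smul]
  rw [this, T_zero_left]

/-- commutator rule: if `f ⬝ᵥ u = 0` then `[T u g, T v f] = T ((g ⬝ᵥ v) • u) f`. -/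
theorem T_commutator {u g v f : ι → F} (hug : g ⬝ᵥ u = 0) (hvf : f ⬝ᵥ v = 0) (hfu : f ⬝ᵥ u = 0) :
    T u g * T v f * (T u g)⁻¹ * (T v f)⁻¹ = T ((g ⬝ᵥ v) • u) f := by
  have h1 : f ᵥ* (((T u g)⁻¹ : Matrix.SpecialLinearGroup ι F) : Matrix ι ι F) = f := by
    have hug' : g ⬝ᵥ (-u) = 0 := by rw [dotProduct_neg, hug, neg_zero]
    rw [← T_neg hug, vecMul_T hug', dotProduct_neg, hfu, neg_zero, zero_smul, add_zero]
  have h2 : f ⬝ᵥ ((g ⬝ᵥ v) • u) = 0 := by rw [dotProduct_smul, hfu, smul_zero]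
  rw [conj_T, T_mulVec hug, h1, T_add hvf h2, T_comm hvf h2, mul_assoc, mul_inv_cancel, mul_one]

end Cfsg.Agent.Lib.Helper27.MinDeg
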