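/-
helper27: minimal permutation degree of `PSL_n(q)` (S2140), part B:
hyperplanes `{v | f ⬝ᵥ v = 0}`; the "regular case" hypothesis `RHyp` (no transvection of `SL ι F`
fixes a point of `Ω` and `|Ω| = q^(n-1)`) and the torsor lemma computing fixed point numbers.
-/
import Cfsg.Agent.Lib.Helper27.MinDegA

set_option autoImplicit false

namespace Cfsg.Agent.Lib.Helper27.MinDeg

open Matrix

variable {ι : Type*} [Fintype ι] [DecidableEq ι] {F : Type*} [Field F]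

/-- `v ↦ f ⬝ᵥ v` as a linear functional. -/
def dotL (f : ι → F) : (ι → F) →ₗ[F] F where
  toFun v := f ⬝ᵥ v
  map_add' := dotProduct_add f
  map_smul' c v := by simp [dotProduct_smul]

@[simp] theorem dotL_apply (f v : ι → F) : dotL f v = f ⬝ᵥ v := rfl

theorem dotL_ne_zero {f : ι → F} (hf : f ≠ 0) : dotL f ≠ 0 := by
  intro h
  apply hf
  funext i
  have := LinearMap.congr_fun h (Pi.single i 1)
  simpa using this

theorem finrank_ker_dotL {f : ι → F} (hf : f ≠ 0) :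
    Module.finrank F (LinearMap.ker (dotL f)) = Fintype.card ι - 1 := by
  have h := Module.Dual.finrank_ker_add_one_of_ne_zero (f := dotL f) (dotL_ne_zero hf)
  rw [Module.finrank_fintype_fun_eq_card] at h
  omega

theorem natCard_ker [Finite F] {f : ι → F} (hf : f ≠ 0) :
    Nat.card {v : ι → F // f ⬝ᵥ v = 0} = Nat.card F ^ (Fintype.card ι - 1) := by
  have e : {v : ι → F // f ⬝ᵥ v = 0} ≃ LinearMap.ker (dotL f) :=
    Equiv.subtypeEquivRight (fun v => by rw [LinearMap.mem_ker, dotL_apply])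
  rw [Nat.card_congr e, Module.natCard_eq_pow_finrank (K := F), finrank_ker_dotL hf]

/-- a nonzero vector in the hyperplane, when there are at least two coordinates -/
theorem exists_ne_zero_dot_eq_zero (h2 : 2 ≤ Fintype.card ι) (f : ι → F) :
    ∃ v : ι → F, v ≠ 0 ∧ f ⬝ᵥ v = 0 := by
  obtain ⟨i, j, hij⟩ := Fintype.exists_pair_of_one_lt_card (lt_of_lt_of_le one_lt_two h2)
  by_cases hi : f i = 0
  · refine ⟨Pi.single i 1, ?_, ?_⟩
    · intro h
      have := congrFun h i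
      simp at this
    · simp [hi]
  · refine ⟨f i • Pi.single j 1 - f j • Pi.single i 1, ?_, ?_⟩
    · intro h
      have := congrFun h j
      simp [Ne.symm hij] at this
      exact hi this
    · simp [dotProduct_sub, dotProduct_smul, mul_comm]

section action

variable {Ω : Type*} [MulAction (Matrix.SpecialLinearGroup ι F) Ω]

variable (ι F Ω) in
/-- The regular case: `|Ω| = q^(n-1)` and no transvection fixes a point of `Ω`. -/
structure RHyp : Prop where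
  card : Nat.card Ω = Nat.card F ^ (Fintype.card ι - 1)
  free : ∀ (v f : ι → F) (ω : Ω), f ⬝ᵥ v = 0 → f ≠ 0 → T v f • ω = ω → v = 0

variable [Finite F] [Finite Ω]

theorem RHyp.injective (h : RHyp ι F Ω) {f : ι → F} (hf : f ≠ 0) (ω : Ω) :
    Function.Injective (fun v : {v : ι → F // f ⬝ᵥ v = 0} => T v.1 f • ω) := by
  rintro ⟨v, hv⟩ ⟨w, hw⟩ e
  simp only at e
  apply Subtype.ext
  show v = w
  have hw' : f ⬝ᵥ (-w) = 0 := by rw [dotProduct_neg, hw, neg_zero]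
  have h1 : T (v - w) f • ω = ω := by
    rw [sub_eq_neg_add, T_add hw' hv, T_neg hw, mul_smul, e, inv_smul_smul]
  have h2 : f ⬝ᵥ (v - w) = 0 := by rw [dotProduct_sub, hv, hw, sub_zero]
  exact sub_eq_zero.1 (h.free _ _ _ h2 hf h1)

theorem RHyp.bijective (h : RHyp ι F Ω) {f : ι → F} (hf : f ≠ 0) (ω : Ω) :
    Function.Bijective (fun v : {v : ι → F // f ⬝ᵥ v = 0} => T v.1 f • ω) := by
  apply (h.injective hf ω).bijective_of_nat_card_le
  rw [h.card, natCard_ker hf]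

/-- regularity: every point is `T v f • ω` for a unique `v` in the hyperplane. -/
theorem RHyp.exists_eq (h : RHyp ι F Ω) {f : ι → F} (hf : f ≠ 0) (ω ω' : Ω) :
    ∃ v : ι → F, f ⬝ᵥ v = 0 ∧ T v f • ω = ω' := by
  obtain ⟨⟨v, hv⟩, e⟩ := (h.bijective hf ω).2 ω'
  exact ⟨v, hv, e⟩

theorem eigen_ne_zero {g : Matrix.SpecialLinearGroup ι F} {f : ι → F} (hf : f ≠ 0) {lam : F}
    (hlam : f ᵥ* (g : Matrix ι ι F) = lam • f) : lam ≠ 0 := by
  rintro rfl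
  apply hf
  have : (f ᵥ* (g : Matrix ι ι F)) ᵥ* ((g⁻¹ : Matrix.SpecialLinearGroup ι F) : Matrix ι ι F) = 0 := by
    rw [hlam, zero_smul, zero_vecMul]
  rwa [vecMul_vecMul, coe_mul_coe_inv, vecMul_one] at this

theorem vecMul_inv_of_eigen {g : Matrix.SpecialLinearGroup ι F} {f : ι → F} (hf : f ≠ 0) {lam : F}
    (hlam : f ᵥ* (g : Matrix ι ι F) = lam • f) :
    f ᵥ* ((g⁻¹ : Matrix.SpecialLinearGroup ι F) : Matrix ι ι F) = lam⁻¹ • f := by
  have h0 := eigen_ne_zero hf hlam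
  have : (lam⁻¹ • (f ᵥ* (g : Matrix ι ι F))) ᵥ*
      ((g⁻¹ : Matrix.SpecialLinearGroup ι F) : Matrix ι ι F) = lam⁻¹ • f := by
    rw [smul_vecMul, vecMul_vecMul, coe_mul_coe_inv, vecMul_one]
  rw [hlam, smul_smul, inv_mul_cancel₀ h0, one_smul] at this
  exact this

/-- how an element of the hyperplane stabilizer moves the points `T v f • ω₀` -/
theorem smul_T_smul {g : Matrix.SpecialLinearGroup ι F} {ω₀ : Ω} (hg : g • ω₀ = ω₀) {f : ι → F}
    (hf : f ≠ 0) {lam : F} (hlam : f ᵥ* (g : Matrix ι ι F) = lam • f) (v : ι → F) :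
    g • (T v f • ω₀) = T (lam⁻¹ • ((g : Matrix ι ι F) *ᵥ v)) f • ω₀ := by
  have h1 : g • (T v f • ω₀) = (g * T v f * g⁻¹) • (g • ω₀) := by
    rw [← mul_smul, ← mul_smul, inv_mul_cancel_right]
  rw [h1, hg, conj_T, vecMul_inv_of_eigen hf hlam, T_smul]

/-- **torsor lemma**: if `g` fixes a point and `f g = lam f`, the number of fixed points of `g` is
the number of `v` in the hyperplane `f = 0` with `g v = lam v`. -/
theorem RHyp.card_fixedBy (h : RHyp ι F Ω) {g : Matrix.SpecialLinearGroup ι F} {ω₀ : Ω}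
    (hg : g • ω₀ = ω₀) {f : ι → F} (hf : f ≠ 0) {lam : F}
    (hlam : f ᵥ* (g : Matrix ι ι F) = lam • f) :
    Nat.card (MulAction.fixedBy Ω g) =
      Nat.card {v : ι → F // f ⬝ᵥ v = 0 ∧ (g : Matrix ι ι F) *ᵥ v = lam • v} := by
  have h0 := eigen_ne_zero hf hlam
  have hdot : ∀ v : ι → F, f ⬝ᵥ v = 0 → f ⬝ᵥ (lam⁻¹ • ((g : Matrix ι ι F) *ᵥ v)) = 0 := by
    intro v hv
    rw [dotProduct_smul, dotProduct_mulVec, hlam, smul_dotProduct, hv, smul_zero, smul_zero]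
  have key : ∀ v : ι → F, f ⬝ᵥ v = 0 →
      (g • (T v f • ω₀) = T v f • ω₀ ↔ (g : Matrix ι ι F) *ᵥ v = lam • v) := by
    intro v hv
    rw [smul_T_smul hg hf hlam]
    constructor
    · intro e
      have := h.injective hf ω₀ (a₁ := ⟨_, hdot v hv⟩) (a₂ := ⟨v, hv⟩) e
      have e2 : lam⁻¹ • ((g : Matrix ι ι F) *ᵥ v) = v := congrArg Subtype.val this
      calc (g : Matrix ι ι F) *ᵥ v = lam • (lam⁻¹ • ((g : Matrix ι ι F) *ᵥ v)) := by
            rw [smul_smul, mul_inv_cancel₀ h0, one_smul]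
        _ = lam • v := by rw [e2]
    · intro e
      rw [e, smul_smul, inv_mul_cancel₀ h0, one_smul]
  symm
  refine Nat.card_congr (Equiv.ofBijective
    (fun v : {v : ι → F // f ⬝ᵥ v = 0 ∧ (g : Matrix ι ι F) *ᵥ v = lam • v} =>
      (⟨T v.1 f • ω₀, (key v.1 v.2.1).2 v.2.2⟩ : MulAction.fixedBy Ω g)) ⟨?_, ?_⟩)
  · rintro ⟨v, hv1, hv2⟩ ⟨w, hw1, hw2⟩ e
    have e1 : T v f • ω₀ = T w f • ω₀ := congrArg Subtype.val e
    have := h.injective hf ω₀ (a₁ := ⟨v, hv1⟩) (a₂ := ⟨w, hw1⟩) e1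
    apply Subtype.ext
    exact Subtype.mk.inj this
  · rintro ⟨ω, hω⟩
    obtain ⟨v, hv, rfl⟩ := h.exists_eq hf ω₀ ω
    have hω' : g • (T v f • ω₀) = T v f • ω₀ := hω
    exact ⟨⟨v, hv, (key v hv).1 hω'⟩, rfl⟩

/-- **criterion for having no fixed point**: two eigen-functionals of `g` whose "eigen-sets"
`{v | f ⬝ᵥ v = 0 ∧ g v = lam v}` are strictly nested. -/
theorem RHyp.no_fixed (h : RHyp ι F Ω) {g : Matrix.SpecialLinearGroup ι F}
    {f₁ f₂ : ι → F} (hf₁ : f₁ ≠ 0) (hf₂ : f₂ ≠ 0) {lam₁ lam₂ : F}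
    (h₁ : f₁ ᵥ* (g : Matrix ι ι F) = lam₁ • f₁) (h₂ : f₂ ᵥ* (g : Matrix ι ι F) = lam₂ • f₂)
    (hsub : ∀ v : ι → F, f₁ ⬝ᵥ v = 0 → (g : Matrix ι ι F) *ᵥ v = lam₁ • v →
      f₂ ⬝ᵥ v = 0 ∧ (g : Matrix ι ι F) *ᵥ v = lam₂ • v)
    (w : ι → F) (hw₂ : f₂ ⬝ᵥ w = 0) (hw₂' : (g : Matrix ι ι F) *ᵥ w = lam₂ • w)
    (hw₁ : ¬ (f₁ ⬝ᵥ w = 0 ∧ (g : Matrix ι ι F) *ᵥ w = lam₁ • w)) (ω₀ : Ω) : g • ω₀ ≠ ω₀ := by
  intro hg
  have e1 := h.card_fixedBy hg hf₁ h₁
  have e2 := h.card_fixedBy hg hf₂ h₂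
  rw [e1] at e2
  have : Nat.card {v : ι → F // f₁ ⬝ᵥ v = 0 ∧ (g : Matrix ι ι F) *ᵥ v = lam₁ • v} <
      Nat.card {v : ι → F // f₂ ⬝ᵥ v = 0 ∧ (g : Matrix ι ι F) *ᵥ v = lam₂ • v} := by
    have : Fintype {v : ι → F // f₁ ⬝ᵥ v = 0 ∧ (g : Matrix ι ι F) *ᵥ v = lam₁ • v} :=
      Fintype.ofFinite _
    have : Fintype {v : ι → F // f₂ ⬝ᵥ v = 0 ∧ (g : Matrix ι ι F) *ᵥ v = lam₂ • v} :=
      Fintype.ofFinite _
    rw [Nat.card_eq_fintype_card, Nat.card_eq_fintype_card]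
    refine Fintype.card_lt_of_injective_of_notMem
      (fun v : {v : ι → F // f₁ ⬝ᵥ v = 0 ∧ (g : Matrix ι ι F) *ᵥ v = lam₁ • v} =>
        (⟨v.1, hsub v.1 v.2.1 v.2.2⟩ :
          {v : ι → F // f₂ ⬝ᵥ v = 0 ∧ (g : Matrix ι ι F) *ᵥ v = lam₂ • v})) ?_
      (b := ⟨w, hw₂, hw₂'⟩) ?_
    · rintro ⟨a, ha⟩ ⟨b, hb⟩ e
      apply Subtype.ext
      exact Subtype.mk.inj e
    · rintro ⟨⟨a, ha⟩, e⟩
      have : a = w := Subtype.mk.inj e
      subst this
      exact hw₁ ha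
  omega

end action

end Cfsg.Agent.Lib.Helper27.MinDeg
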