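import Cfsg.Agent.Lib.Helper17.OC2Defs
import Cfsg.Agent.Lib.Helper25.SpinForms
import Cfsg.Agent.Lib.Helper14.OrthOdd

/-!
helper27: S5677 leaves B1 (`TB_of_move`), B2a (`TB_of_nonsing`), B2b (`TB_of_sing5`), B2c (`TB_of_sing_q5`) in core form:
the toolkit leaves T1 (`reflM_fixes`), T5 (`egen_fixes`), T9 (`refl_pair_eq_egen`) enter as explicit hypotheses.
-/

set_option autoImplicit false
set_option linter.unusedSectionVars false
set_option linter.unusedVariables false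

namespace Cfsg.Agent.Lib.Helper27.OC2Core

open Module QuadraticMap Matrix Cfsg.Agent.Lib.Helper25.CD Cfsg.Agent.Lib.Helper25.Spin
  Cfsg.Agent.Lib.Helper15 Cfsg.Agent.Lib.Helper5.NSMax Cfsg.Agent.Lib.Helper5.PairMax
  Cfsg.Agent.Lib.Helper17.OC2

variable {ι : Type} [Fintype ι] [DecidableEq ι] {F : Type*} [Field F] [Fintype F]
  {Q : QuadraticForm F (ι → F)} {t : ℕ} {D : Fin t → Submodule F (ι → F)} {k : ℕ}
  {M : Subgroup ↥(Cfsg.isometryGroup F ⇑Q)}

/-- statement of T1 -/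
def T1Stmt (Q : QuadraticForm F (ι → F)) (D : Fin t → Submodule F (ι → F)) : Prop :=
  ∀ {i : Fin t} {v : ι → F}, v ∈ D i → Fixes Q D (reflM Q v)

/-- statement of T5 -/
def T5Stmt (Q : QuadraticForm F (ι → F)) (D : Fin t → Submodule F (ι → F)) : Prop :=
  ∀ {i : Fin t} {z y : ι → F}, z ∈ D i → y ∈ D i → ∀ {g : ↥(Cfsg.isometryGroup F ⇑Q)},
    (∀ x, toOG Q g x = egen Q z y x) → Fixes Q D g

/-- statement of T9 -/
def T9Stmt (Q : QuadraticForm F (ι → F)) : Prop :=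
  ∀ {a z : ι → F} {N μ : F}, N ≠ 0 → Q a = N → Q z = 0 → polar Q z a = 0 → ∀ (x : ι → F),
    toOG Q (reflM Q a * reflM Q (a + μ • z)) x = egen Q z ((μ / N) • a) x

/-- B1 (core) -/
theorem TB_of_move_of (t9 : T9Stmt Q) (hS : MS Q M D k) {a z : ι → F} (ha : InS Q M a) {i : Fin t}
    (hz : z ∈ D i) (hz0 : z ≠ 0) (hQz : Q z = 0) (hza : polar Q z a = 0) (hai : a ∉ D i)
    {h : ↥(Cfsg.isometryGroup F ⇑Q)} (hh : h ∈ M) {μ : F} (hμ : μ ≠ 0)
    (hha : toOG Q h a = a + μ • z) : TB Q M D i z := by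
  obtain ⟨hQa, haM⟩ := ha
  refine ⟨hz, hz0, hQz, (μ / Q a) • a, ?_, ?_, ?_⟩
  · rw [polar_smul_right, hza, smul_zero]
  · intro hmem
    apply hai
    have := (D i).smul_mem (μ / Q a)⁻¹ hmem
    rwa [smul_smul, inv_mul_cancel₀ (div_ne_zero hμ hQa), one_smul] at this
  · refine ⟨negRefl Q a * (h * negRefl Q a * h⁻¹), M.mul_mem haM
      (M.mul_mem (M.mul_mem hh haM) (M.inv_mem hh)), fun x => ?_⟩
    rw [conj_negRefl, hha, negRefl_mul]
    exact t9 hQa rfl hQz hza x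

/-- the component of `a - pr i a` in the block `i` vanishes -/
theorem polar_block_rest (hG : Geo Q D k) {i : Fin t} {v : ι → F} (hv : v ∈ D i) (a : ι → F) :
    polar Q v (a - pr hG i a) = 0 := by
  rw [polar_pr' hG hv, map_sub, pr_same hG (pr_mem hG i a), sub_self, polar_zero_right]

/-- B2a (core) -/
theorem TB_of_nonsing_of (t5 : T5Stmt Q D) (t9 : T9Stmt Q) (hS : MS Q M D k) {a z : ι → F}
    (ha : InS Q M a) {i : Fin t} (hai : a ∉ D i)
    (hQi : Q (pr hS.toGeo i a) ≠ 0) (hz : z ∈ D i) (hz0 : z ≠ 0) (hQz : Q z = 0)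
    (hzp : polar Q z (pr hS.toGeo i a) = 0) : TB Q M D i z := by
  have hG := hS.toGeo
  obtain ⟨h, hhΩ, hh⟩ := exists_egen Q hG.nd hG.card hz0 hQz hzp
  have hhM : h ∈ M := hS.stab h hhΩ (t5 hz (pr_mem hG i a) hh).isPerm
  have hza : polar Q z a = 0 := by rw [polar_pr' hG hz, hzp]
  have hpa : polar Q (pr hG i a) a = 2 * Q (pr hG i a) := by
    rw [polar_pr' hG (pr_mem hG i a), QuadraticMap.polar_self]
    simp
  have hμ : -(2 * Q (pr hG i a)) ≠ 0 := neg_ne_zero.2 (mul_ne_zero hG.h2 hQi)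
  refine TB_of_move_of t9 hS ha hz hz0 hQz hza hai hhM hμ ?_
  rw [hh]
  unfold egen
  rw [hza, hpa]
  module

/-- B2b (core) -/
theorem TB_of_sing5_of (t5 : T5Stmt Q D) (t9 : T9Stmt Q) (hS : MS Q M D k) (h5 : 5 ≤ k)
    {a : ι → F} (ha : InS Q M a) {i : Fin t}
    (hai : a ∉ D i) (hp0 : pr hS.toGeo i a ≠ 0) (hQi : Q (pr hS.toGeo i a) = 0) :
    ∃ z, TB Q M D i z := by
  have hG := hS.toGeo
  obtain ⟨f, hf, hQf, hef⟩ := exists_hyp_partner Q (D i) (ndOn hG i) (pr_mem hG i a) hp0 hQi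
  have hfr := perpPair_finrank Q (D i) (pr_mem hG i a) hf hQi hQf hef
  rw [hG.fr i] at hfr
  obtain ⟨z, hzW, hz0, hQz⟩ := exists_singular_in Q (perpPair Q (D i) (pr hG i a) f) (by omega)
  rw [mem_perpPair] at hzW
  obtain ⟨hz, hez, hfz⟩ := hzW
  have hzf : polar Q z f = 0 := by rw [polar_comm]; exact hfz
  obtain ⟨h, hhΩ, hh⟩ := exists_egen Q hG.nd hG.card hz0 hQz hzf
  have hhM : h ∈ M := hS.stab h hhΩ (t5 hz hf hh).isPerm
  have hza : polar Q z a = 0 := by rw [polar_pr' hG hz, polar_comm]; exact hez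
  have hfa : polar Q f a = 1 := by rw [polar_pr' hG hf, polar_comm]; exact hef
  refine ⟨z, TB_of_move_of t9 hS ha hz hz0 hQz hza hai hhM (μ := -1) (neg_ne_zero.2 one_ne_zero) ?_⟩
  rw [hh]
  unfold egen
  rw [hza, hfa]
  module

/-- an element `λ` with `λ ≠ 0`, `λ² ≠ 1` in a field with at least five elements -/
theorem exists_sq_ne_one (h5 : 5 ≤ Fintype.card F) : ∃ l : F, l ≠ 0 ∧ l ^ 2 ≠ 1 := by
  classical
  by_contra hcon
  push Not at hcon
  have hsub : (Finset.univ : Finset F) ⊆ {0, 1, -1} := by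
    intro x _
    by_cases hx : x = 0
    · simp [hx]
    · have h1 := hcon x hx
      have : (x - 1) * (x + 1) = 0 := by ring_nf; rw [h1]; ring
      rcases mul_eq_zero.1 this with h | h
      · have : x = 1 := sub_eq_zero.1 h
        simp [this]
      · have : x = -1 := eq_neg_of_add_eq_zero_left h
        simp [this]
  have := Finset.card_le_card hsub
  rw [Finset.card_univ] at this
  have h3 : ({0, 1, -1} : Finset F).card ≤ 3 := Finset.card_le_three
  omega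

/-- B2c (core) -/
theorem TB_of_sing_q5_of (t1 : T1Stmt Q D) (t9 : T9Stmt Q) (hS : MS Q M D k)
    (h5 : 5 ≤ Fintype.card F) {a : ι → F} (ha : InS Q M a)
    {i : Fin t} (hai : a ∉ D i) (hp0 : pr hS.toGeo i a ≠ 0) (hQi : Q (pr hS.toGeo i a) = 0) :
    TB Q M D i (pr hS.toGeo i a) := by
  have hG := hS.toGeo
  obtain ⟨e, he⟩ : ∃ e, e = pr hG i a := ⟨_, rfl⟩
  have heD : e ∈ D i := by rw [he]; exact pr_mem hG i a
  have hQe : Q e = 0 := by rw [he]; exact hQi
  have he0 : e ≠ 0 := by rw [he]; exact hp0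
  obtain ⟨f, hf, hQf, hef⟩ := exists_hyp_partner Q (D i) (ndOn hG i) heD he0 hQe
  obtain ⟨l, hl0, hl1⟩ := exists_sq_ne_one h5
  have hfe : polar Q f e = 1 := by rw [polar_comm]; exact hef
  have hee : polar Q e e = 0 := by rw [QuadraticMap.polar_self, hQe]; simp
  have hff : polar Q f f = 0 := by rw [QuadraticMap.polar_self, hQf]; simp
  obtain ⟨v₁, hv₁⟩ : ∃ v₁, v₁ = e - f := ⟨_, rfl⟩
  obtain ⟨v₂, hv₂⟩ : ∃ v₂, v₂ = e - l ^ 2 • f := ⟨_, rfl⟩
  have hQv₁ : Q v₁ = -1 := by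
    rw [hv₁, sub_eq_add_neg, QuadraticMap.map_add (⇑Q), QuadraticMap.map_neg, polar_neg_right,
      hQe, hQf, hef]
    ring
  have hQv₂ : Q v₂ = -l ^ 2 := by
    rw [hv₂, sub_eq_add_neg, ← neg_smul, QuadraticMap.map_add (⇑Q), QuadraticMap.map_smul,
      polar_smul_right, hQe, hQf, hef]
    simp
  have hv₁D : v₁ ∈ D i := by rw [hv₁]; exact (D i).sub_mem heD hf
  have hv₂D : v₂ ∈ D i := by rw [hv₂]; exact (D i).sub_mem heD ((D i).smul_mem _ hf)
  -- the torus element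
  have hl2 : l ^ 2 ≠ 0 := pow_ne_zero 2 hl0
  have hhΩ : wordG Q [v₁, v₂] ∈ Cfsg.Omega F ⇑Q := by
    rw [mem_omega_iff Q hG.h2 hG.nd (vs := [v₁, v₂]) (by
      intro v hv
      simp only [List.mem_cons, List.not_mem_nil, or_false] at hv
      rcases hv with rfl | rfl
      · rw [hQv₁]; exact neg_ne_zero.2 one_ne_zero
      · rw [hQv₂]; exact neg_ne_zero.2 hl2)]
    refine ⟨⟨1, rfl⟩, l, ?_⟩
    unfold normProd
    simp only [List.map_cons, List.map_nil, List.prod_cons, List.prod_nil, mul_one]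
    rw [hQv₁, hQv₂]
    ring
  have hword : wordG Q [v₁, v₂] = reflM Q v₁ * reflM Q v₂ := by
    rw [wordG_cons, wordG_cons, wordG_nil, mul_one]
  have hhM : wordG Q [v₁, v₂] ∈ M := by
    apply hS.stab _ hhΩ
    rw [hword]
    exact ((t1 hv₁D).mul (t1 hv₂D)).isPerm
  -- its action
  have hact_e : toOG Q (wordG Q [v₁, v₂]) e = l ^ 2 • e := by
    rw [hword, map_mul, LinearEquiv.mul_apply, toOG_reflM, toOG_reflM, reflE_apply, reflE_apply,
      hQv₁, hQv₂]
    have p2 : polar Q v₂ e = -l ^ 2 := by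
      rw [hv₂, polar_sub_left, polar_smul_left, hee, hfe]; simp
    rw [p2, inv_mul_cancel₀ (neg_ne_zero.2 hl2), one_smul]
    have e1 : e - v₂ = l ^ 2 • f := by rw [hv₂]; module
    rw [e1, polar_smul_right]
    have p1 : polar Q v₁ f = 1 := by
      rw [hv₁, polar_sub_left, hef, hff]; ring
    rw [p1, hv₁]
    simp only [smul_eq_mul, mul_one]
    rw [inv_neg, inv_one]
    module
  have hact_rest : toOG Q (wordG Q [v₁, v₂]) (a - e) = a - e := by
    have q2 : polar Q v₂ (a - e) = 0 := by rw [he]; exact polar_block_rest hG hv₂D a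
    have q1 : polar Q v₁ (a - e) = 0 := by rw [he]; exact polar_block_rest hG hv₁D a
    rw [hword, map_mul, LinearEquiv.mul_apply, toOG_reflM, toOG_reflM,
      reflE_of_perp Q q2, reflE_of_perp Q q1]
  have hza : polar Q e a = 0 := by
    rw [polar_pr' hG heD, ← he, hee]
  have hμ : l ^ 2 - 1 ≠ 0 := sub_ne_zero.2 hl1
  rw [← he]
  refine TB_of_move_of t9 hS ha heD he0 hQe hza hai hhM hμ ?_
  have e2 : a = e + (a - e) := by module
  conv_lhs => rw [e2]
  rw [map_add, hact_e, hact_rest]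
  module

end Cfsg.Agent.Lib.Helper27.OC2Core
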