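import Cfsg.Agent.Lib.Helper17.OC2Defs
import Cfsg.Agent.Lib.Helper17.OC2Tool
import Cfsg.Agent.Lib.Helper25.SpinForms
import Cfsg.Agent.Lib.Helper14.OrthOdd
import Cfsg.Agent.Lib.Helper27.OC2Bcore

/-!
helper27: S5677 leaves B1 (`TB_of_move`), B2a (`TB_of_nonsing`), B2b (`TB_of_sing5`), B2c (`TB_of_sing_q5`),
exact names + signatures of `notes/S5677_leaves.lean`.
-/

set_option autoImplicit false
set_option linter.unusedSectionVars false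
set_option linter.unusedVariables false

namespace Cfsg.Agent.Lib.Helper27.OC2Leaf

open Module QuadraticMap Matrix Cfsg.Agent.Lib.Helper25.CD Cfsg.Agent.Lib.Helper25.Spin
  Cfsg.Agent.Lib.Helper15 Cfsg.Agent.Lib.Helper5.NSMax Cfsg.Agent.Lib.Helper5.PairMax
  Cfsg.Agent.Lib.Helper17.OC2

variable {ι : Type} [Fintype ι] [DecidableEq ι] {F : Type*} [Field F] [Fintype F]
  {Q : QuadraticForm F (ι → F)} {t : ℕ} {D : Fin t → Submodule F (ι → F)} {k : ℕ}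
  {M : Subgroup ↥(Cfsg.isometryGroup F ⇑Q)}

theorem t1Stmt (hG : Geo Q D k) : Cfsg.Agent.Lib.Helper27.OC2Core.T1Stmt Q D :=
  fun hv => Cfsg.Agent.Lib.Helper17.OC2Leaf.reflM_fixes hG hv

theorem t5Stmt (hG : Geo Q D k) : Cfsg.Agent.Lib.Helper27.OC2Core.T5Stmt Q D :=
  fun hz hy _ hg => Cfsg.Agent.Lib.Helper17.OC2Leaf.egen_fixes hG hz hy hg

theorem t9Stmt : Cfsg.Agent.Lib.Helper27.OC2Core.T9Stmt Q :=
  fun hN ha hz hza x => Cfsg.Agent.Lib.Helper17.OC2Leaf.refl_pair_eq_egen hN ha hz hza x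

/-- B1 -/
theorem TB_of_move (hS : MS Q M D k) {a z : ι → F} (ha : InS Q M a) {i : Fin t} (hz : z ∈ D i)
    (hz0 : z ≠ 0) (hQz : Q z = 0) (hza : polar Q z a = 0) (hai : a ∉ D i)
    {h : ↥(Cfsg.isometryGroup F ⇑Q)} (hh : h ∈ M) {μ : F} (hμ : μ ≠ 0)
    (hha : toOG Q h a = a + μ • z) : TB Q M D i z :=
  Cfsg.Agent.Lib.Helper27.OC2Core.TB_of_move_of t9Stmt hS ha hz hz0 hQz hza hai hh hμ hha

/-- B2a -/
theorem TB_of_nonsing (hS : MS Q M D k) {a z : ι → F} (ha : InS Q M a) {i : Fin t} (hai : a ∉ D i)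
    (hQi : Q (pr hS.toGeo i a) ≠ 0) (hz : z ∈ D i) (hz0 : z ≠ 0) (hQz : Q z = 0)
    (hzp : polar Q z (pr hS.toGeo i a) = 0) : TB Q M D i z :=
  Cfsg.Agent.Lib.Helper27.OC2Core.TB_of_nonsing_of (t5Stmt hS.toGeo) t9Stmt hS ha hai hQi hz hz0 hQz hzp

/-- B2b -/
theorem TB_of_sing5 (hS : MS Q M D k) (h5 : 5 ≤ k) {a : ι → F} (ha : InS Q M a) {i : Fin t}
    (hai : a ∉ D i) (hp0 : pr hS.toGeo i a ≠ 0) (hQi : Q (pr hS.toGeo i a) = 0) :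
    ∃ z, TB Q M D i z :=
  Cfsg.Agent.Lib.Helper27.OC2Core.TB_of_sing5_of (t5Stmt hS.toGeo) t9Stmt hS h5 ha hai hp0 hQi

/-- B2c -/
theorem TB_of_sing_q5 (hS : MS Q M D k) (h5 : 5 ≤ Fintype.card F) {a : ι → F} (ha : InS Q M a)
    {i : Fin t} (hai : a ∉ D i) (hp0 : pr hS.toGeo i a ≠ 0) (hQi : Q (pr hS.toGeo i a) = 0) :
    TB Q M D i (pr hS.toGeo i a) :=
  Cfsg.Agent.Lib.Helper27.OC2Core.TB_of_sing_q5_of (t1Stmt hS.toGeo) t9Stmt hS h5 ha hai hp0 hQi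

end Cfsg.Agent.Lib.Helper27.OC2Leaf
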