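import Mathlib
import Cfsg.Agent.Lib.Helper17.OSubDefs
import Cfsg.Agent.Lib.Helper15.QuadClass
import Cfsg.Agent.Lib.Helper17.OSubB4
import Cfsg.Agent.Lib.Helper24.OSubB1
import Cfsg.Agent.Lib.Helper6.OSubB
import Cfsg.Agent.Lib.Helper13.OSubD12
import Cfsg.Agent.Lib.Helper27.OSubE12core

/-!
S5659 (helper17's market), leaves E1 + E2 (helper27), exact signatures.
-/

set_option autoImplicit false
set_option linter.unusedSectionVars false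
set_option linter.unusedVariables false

namespace Cfsg.Agent.Lib.Helper27.OSubLeaf
open Cfsg Matrix Cfsg.Agent.Lib.Helper5.SpMax
  Cfsg.Agent.Lib.Helper5.UForm Cfsg.Agent.Lib.Helper5.HermBridge
  Cfsg.Agent.Lib.Helper5.SUGen Cfsg.Agent.Lib.Helper5.SUMax Cfsg.Agent.Lib.Helper5.USub
  Cfsg.Agent.Lib.Helper17.OSub

variable {F : Type*} [Field F] [Fintype F] {q n : ℕ}

section Rat
variable {hF : Fintype.card F = q ^ 2} {F₀ : Subfield F} {P : GL (Fin n) F}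
  (S : Setup hF F₀ P)
include S

variable {M : Subgroup (GL (Fin n) F)}

/-- LEAF E1: the rational components of `g z` lie in the plane spanned by `g z, g w`. -/
theorem pair_rat (hn : 13 ≤ n)
    (hHM : Cfsg.Geo.subfieldSubgroup F₀ P ⊓
      (Cfsg.GU n F q ⊓ Cfsg.Geo.specialLinear (Fin n) F) ≤ M)
    (hMG : M ≤ Cfsg.GU n F q ⊓ Cfsg.Geo.specialLinear (Fin n) F) (hNT : NT hF F₀ P M)
    {g : GL (Fin n) F} (hg : g ∈ M) {z w : Fin n → F} (hz : RS q F₀ P z) (hw : RS q F₀ P w)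
    (hzw : Cfsg.hermForm n F q w z = 0)
    (hli : ∀ s t : F, s • z + t • w = 0 → s = 0 ∧ t = 0)
    {ζ : F} (hζ0 : ζ ≠ 0) (hζ : frobQ hF ζ = -ζ) {a b : Fin n → F} (ha : IsRat F₀ P a)
    (hb : IsRat F₀ P b) (hab : (g : Matrix (Fin n) (Fin n) F) *ᵥ z = a + ζ • b) :
    (∃ α β : F, a = α • ((g : Matrix (Fin n) (Fin n) F) *ᵥ z) +
        β • ((g : Matrix (Fin n) (Fin n) F) *ᵥ w)) ∧
    (∃ α β : F, b = α • ((g : Matrix (Fin n) (Fin n) F) *ᵥ z) +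
        β • ((g : Matrix (Fin n) (Fin n) F) *ᵥ w)) :=
  pair_rat_of S hn hHM hMG hNT
    (fun y => Cfsg.Agent.Lib.Helper24.OSubLeaf.exists_sing_perp S hn y)
    (fun hz hw hg hs => Cfsg.Agent.Lib.Helper17.OSubLeaf.siegel_mem_H S (by omega) hz hw hg hs)
    (fun hz hz0 h => Cfsg.Agent.Lib.Helper6.OSubLeaf.mem_of_smul_rat S hz hz0 h)
    (fun hg _ _ _ hz hz' hgz =>
      Cfsg.Agent.Lib.Helper13.OSubLeaf.mem_of_maps_sing S hn hHM hMG hNT hg hz hz' hgz)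
    hg hz hw hzw hli hζ0 hζ ha hb hab

/-- LEAF E2. -/
theorem maps_sing (hn : 13 ≤ n)
    (hHM : Cfsg.Geo.subfieldSubgroup F₀ P ⊓
      (Cfsg.GU n F q ⊓ Cfsg.Geo.specialLinear (Fin n) F) ≤ M)
    (hMG : M ≤ Cfsg.GU n F q ⊓ Cfsg.Geo.specialLinear (Fin n) F) (hNT : NT hF F₀ P M)
    {g : GL (Fin n) F} (hg : g ∈ M) {z : Fin n → F} (hz : RS q F₀ P z) :
    ∃ (l : F) (z' : Fin n → F), IsRat F₀ P z' ∧
      (g : Matrix (Fin n) (Fin n) F) *ᵥ z = l • z' :=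
  maps_sing_of S hn hHM hMG hNT
    (fun y => Cfsg.Agent.Lib.Helper24.OSubLeaf.exists_sing_perp S hn y)
    (fun hz hw hg hs => Cfsg.Agent.Lib.Helper17.OSubLeaf.siegel_mem_H S (by omega) hz hw hg hs)
    (fun hz hz0 h => Cfsg.Agent.Lib.Helper6.OSubLeaf.mem_of_smul_rat S hz hz0 h)
    (fun hg _ _ _ hz hz' hgz =>
      Cfsg.Agent.Lib.Helper13.OSubLeaf.mem_of_maps_sing S hn hHM hMG hNT hg hz hz' hgz)
    (fun hz => Cfsg.Agent.Lib.Helper6.OSubLeaf.exists_partner S hz)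
    hg hz

end Rat

end Cfsg.Agent.Lib.Helper27.OSubLeaf
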