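import Mathlib
import Cfsg.Agent.Lib.Helper17.SLMDefs
import Cfsg.Agent.Lib.Helper27.AschKF3

set_option autoImplicit false
set_option linter.style.haveILetI false
set_option linter.unusedSectionVars false
set_option linter.unusedVariables false

namespace Cfsg.Agent.Lib.Helper27.SLMLeaf

open Cfsg.Geo Matrix Module Cfsg.Agent.Lib.Helper17.SLM

variable {n : ℕ} {F : Type*} [Field F] [Fintype F]

/-- `F^n` as a module over an abstract field mapping into the matrix algebra: `finrank F E ∣ n` -/
theorem finrank_dvd_of_algHom {E : Type*} [Field E] [Algebra F E]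
    (ρ : E →ₐ[F] Matrix (Fin n) (Fin n) F) : finrank F E ∣ n := by
  let φ : E →+* Module.End F (Fin n → F) :=
    ((Matrix.toLinAlgEquiv' : Matrix (Fin n) (Fin n) F ≃ₐ[F] Module.End F (Fin n → F)).toAlgHom.comp ρ).toRingHom
  letI : Module E (Fin n → F) := Module.compHom (Fin n → F) φ
  have hsmul : ∀ (x : E) (v : Fin n → F), x • v = (ρ x) *ᵥ v := by
    intro x v
    change φ x v = _
    simp [φ, Matrix.toLinAlgEquiv'_apply]
  haveI : IsScalarTower F E (Fin n → F) := by
    refine ⟨fun c x v => ?_⟩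
    rw [hsmul, hsmul, map_smul, Matrix.smul_mulVec]
  have h := Module.finrank_mul_finrank F E (Fin n → F)
  rw [Module.finrank_fin_fun] at h
  exact ⟨_, h.symm⟩

/-- N2.  `F^n` is a vector space over the field `K`: `n = r · dim_K`. -/
theorem field_dvd (hn : 1 ≤ n) {r : ℕ} {K : Subalgebra F (Matrix (Fin n) (Fin n) F)} (hK : IsFieldSubalgebra r K) :
    r ∣ n := by
  have hr : 0 < r := by
    rw [← hK.finrank_eq]
    haveI : Nontrivial (Matrix (Fin n) (Fin n) F) := by
      haveI : Nonempty (Fin n) := ⟨⟨0, hn⟩⟩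
      infer_instance
    exact Module.finrank_pos
  obtain ⟨E, iE, iA, ρ, hinj, hrange, hfr⟩ := Cfsg.Agent.Lib.Helper27.AschKF3.exists_model r hr K hK
  rw [← hfr]
  exact finrank_dvd_of_algHom ρ

end Cfsg.Agent.Lib.Helper27.SLMLeaf
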