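/-
helper27: S2318 leaves B1 (`sph_H`) and B3 (`sph_rank_one`): a spherical function on a split (B,N)-pair
is multiplicative against `H`, and satisfies the quadratic relation at every distinguished generator,
whence `q ‖c s‖ ≥ 1` with equality only in the "Steinberg" case.
-/
import Mathlib
import Cfsg.Agent.Lib.Helper27.GGDefs

set_option autoImplicit false

namespace Cfsg.Agent.Lib.Helper27.GG

open Cfsg Cfsg.Agent.Lib.Helper3.BN Cfsg.Agent.Lib.Helper3.WordLen Cfsg.Agent.Lib.Helper6.BNSt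
open scoped ComplexConjugate

variable {G : Type*} [Group G] [Finite G] {P : Cfsg.BNPair G} {U : Subgroup G} {q : ℕ}

/-- the average of a constant -/
theorem avg_const (U : Subgroup G) (F : U → ℂ) (a : ℂ) (h : ∀ u, F u = a) :
    (Nat.card U : ℂ)⁻¹ * ∑ᶠ u : U, F u = a := by
  classical
  have : Fintype U := Fintype.ofFinite _
  rw [finsum_eq_sum_of_fintype, Finset.sum_congr rfl (fun u _ => h u), Finset.sum_const,
    Finset.card_univ, nsmul_eq_mul, ← Nat.card_eq_fintype_card, ← mul_assoc, inv_mul_cancel₀, one_mul]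
  exact Nat.cast_ne_zero.mpr Nat.card_pos.ne'

/-- **B1** -/
theorem sph_H (R : SplitBN P U q) {c : G → ℂ} (hc : IsSph U c) :
    ∀ h ∈ P.B ⊓ P.N, (∀ g, c (h * g) = c h * c g) ∧ (∀ g, c (g * h) = c g * c h) ∧ ‖c h‖ = 1 := by
  intro h hh
  have hB : h ∈ P.B := hh.1
  have hl : ∀ g, c (h * g) = c h * c g := by
    intro g
    rw [← hc.conv h g]
    symm
    apply avg_const
    intro u
    have e : h * (u : G) * g = (h * (u : G) * h⁻¹) * (h * g) := by group
    rw [e, hc.left _ (R.hUn h hB u u.2)]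
  have hr : ∀ g, c (g * h) = c g * c h := by
    intro g
    rw [← hc.conv g h]
    symm
    apply avg_const
    intro u
    have e : g * (u : G) * h = (g * h) * (h⁻¹ * (u : G) * h⁻¹⁻¹) := by group
    rw [e, hc.right _ (R.hUn h⁻¹ (P.B.inv_mem hB) u u.2)]
  refine ⟨hl, hr, ?_⟩
  have hpow : ∀ k : ℕ, c (h ^ k) = c h ^ k := by
    intro k
    induction k with
    | zero => rw [pow_zero, pow_zero, hc.one]
    | succ k ih => rw [pow_succ, hr, ih, pow_succ]
  have h1 : c h ^ orderOf h = 1 := by rw [← hpow, pow_orderOf_eq_one, hc.one]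
  have h2 : ‖c h‖ ^ orderOf h = 1 := by rw [← norm_pow, h1, norm_one]
  exact (pow_eq_one_iff_of_nonneg (norm_nonneg _) (orderOf_pos h).ne').mp h2


/-- `U = Us i · X i` with unique factorisation -/
noncomputable def decompEquiv (R : SplitBN P U q) (i : R.ι) : (R.Us i) × (R.X i) ≃ U :=
  Equiv.ofBijective
    (fun p => ⟨(p.1 : G) * (p.2 : G), U.mul_mem (R.hUs i p.1.2) (R.hX i p.2.2)⟩)
    (by
      constructor
      · rintro ⟨y, x⟩ ⟨y', x'⟩ h
        have h' : (y : G) * (x : G) = (y' : G) * (x' : G) := congrArg Subtype.val h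
        have h1 : (x : G) * (x' : G)⁻¹ = (y : G)⁻¹ * (y' : G) := by
          have : (x : G) = (y : G)⁻¹ * ((y' : G) * (x' : G)) := by rw [← h']; group
          rw [this]; group
        have h2 : (x : G) * (x' : G)⁻¹ ∈ R.X i ⊓ R.Us i := by
          refine ⟨(R.X i).mul_mem x.2 ((R.X i).inv_mem x'.2), ?_⟩
          rw [h1]
          exact (R.Us i).mul_mem ((R.Us i).inv_mem y.2) y'.2
        rw [R.hXUs i, Subgroup.mem_bot] at h2
        have hx : (x : G) = (x' : G) := mul_inv_eq_one.mp h2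
        have hy : (y : G) = (y' : G) := by
          rw [hx] at h'
          exact mul_right_cancel h'
        exact Prod.ext (Subtype.ext hy) (Subtype.ext hx)
      · rintro ⟨u, hu⟩
        obtain ⟨y, hy, x, hx, he⟩ := R.hXU i u hu
        exact ⟨(⟨y, hy⟩, ⟨x, hx⟩), Subtype.ext he.symm⟩)

theorem card_U_eq (R : SplitBN P U q) (i : R.ι) : Nat.card U = Nat.card (R.Us i) * q := by
  rw [← Nat.card_congr (decompEquiv R i), Nat.card_prod, R.hcardX i]

/-- averaging over `U` a function that is left `Us i`-invariant -/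
theorem avg_decomp (R : SplitBN P U q) (i : R.ι) (F : G → ℂ)
    (hF : ∀ y ∈ R.Us i, ∀ g, F (y * g) = F g) :
    (Nat.card U : ℂ)⁻¹ * ∑ᶠ u : U, F (u : G) = (q : ℂ)⁻¹ * ∑ᶠ x : R.X i, F (x : G) := by
  classical
  have : Fintype U := Fintype.ofFinite _
  have : Fintype (R.X i) := Fintype.ofFinite _
  have : Fintype (R.Us i) := Fintype.ofFinite _
  rw [finsum_eq_sum_of_fintype, finsum_eq_sum_of_fintype]
  rw [← Equiv.sum_comp (decompEquiv R i) (fun u : U => F (u : G)), Fintype.sum_prod_type]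
  have h1 : ∀ y : R.Us i, ∑ x : R.X i, F ((decompEquiv R i (y, x) : U) : G) = ∑ x : R.X i, F (x : G) := by
    intro y
    apply Finset.sum_congr rfl
    intro x _
    exact hF y y.2 x
  rw [Finset.sum_congr rfl (fun y _ => h1 y), Finset.sum_const, Finset.card_univ, nsmul_eq_mul,
    ← Nat.card_eq_fintype_card, card_U_eq R i]
  have hUs0 : (Nat.card (R.Us i) : ℂ) ≠ 0 := Nat.cast_ne_zero.mpr Nat.card_pos.ne'
  have hq0 : (q : ℂ) ≠ 0 := Nat.cast_ne_zero.mpr (by have := R.hq; omega)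
  push_cast
  field_simp


theorem sOf_mem (R : SplitBN P U q) (i : R.ι) : R.sOf i ∈ P.S := by
  rw [R.hS]; exact ⟨i, rfl⟩

theorem sq_mem_H (R : SplitBN P U q) (i : R.ι) : R.sOf i * R.sOf i ∈ P.B ⊓ P.N :=
  ⟨P.sq_mem _ (sOf_mem R i), P.N.mul_mem (P.subset (sOf_mem R i)) (P.subset (sOf_mem R i))⟩

/-- the value of `c` at `s x s` when `s x s⁻¹ = u₁ h s u₂` -/
theorem sph_sxs (R : SplitBN P U q) {c : G → ℂ} (hc : IsSph U c) (i : R.ι) (x : G)
    (u₁ : G) (hu₁ : u₁ ∈ U) (h : G) (hh : h ∈ P.B ⊓ P.N) (u₂ : G) (hu₂ : u₂ ∈ U)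
    (he : R.sOf i * x * (R.sOf i)⁻¹ = u₁ * h * R.sOf i * u₂) :
    c (R.sOf i * x * R.sOf i) = c h * c (R.sOf i) * c (R.sOf i * R.sOf i) := by
  set s := R.sOf i with hs
  have ht := sq_mem_H R i
  have e : s * x * s = u₁ * (h * ((s * (s * s)) * ((s * s)⁻¹ * u₂ * (s * s)⁻¹⁻¹))) := by
    have : s * x * s = (s * x * s⁻¹) * (s * s) := by
      simp only [mul_assoc, inv_mul_cancel_left]
    rw [this, he]
    simp only [mul_assoc, inv_inv, mul_inv_rev, mul_inv_cancel_left]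
  rw [e, hc.left _ hu₁, (sph_H R hc h hh).1,
    hc.right _ (R.hUn _ (P.B.inv_mem ht.1) u₂ hu₂), (sph_H R hc _ ht).2.1, mul_assoc]

/-- `Re z = -‖z‖` forces `z = -‖z‖` -/
theorem eq_neg_norm_of_re {z : ℂ} (h : z.re = -‖z‖) : z = -(‖z‖ : ℂ) := by
  have h1 : ‖z‖ ^ 2 = z.re ^ 2 + z.im ^ 2 := by
    rw [← Complex.normSq_eq_norm_sq, Complex.normSq_apply]; ring
  have h2 : z.im = 0 := by
    rw [h] at h1
    have : z.im ^ 2 = 0 := by nlinarith
    exact pow_eq_zero_iff (two_ne_zero) |>.mp this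
  apply Complex.ext
  · simp [h]
  · simp [h2]

/-- **B3** -/
theorem sph_rank_one (R : SplitBN P U q) {c : G → ℂ} (hc : IsSph U c) (i : R.ι) :
    1 ≤ (q : ℝ) * ‖c (R.sOf i)‖ ∧
    ((q : ℝ) * ‖c (R.sOf i)‖ = 1 → c (R.sOf i) = -(q : ℂ)⁻¹ ∧
      ∀ h ∈ P.B ⊓ P.N, (∃ x ∈ R.X i, x ≠ 1 ∧ ∃ u₁ ∈ U, ∃ u₂ ∈ U,
        R.sOf i * x * (R.sOf i)⁻¹ = u₁ * h * R.sOf i * u₂) → c h = 1) := by
  classical
  set s := R.sOf i with hs
  set ε := c (s * s) with hε
  have ht := sq_mem_H R i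
  have hεn : ‖ε‖ = 1 := (sph_H R hc _ ht).2.2
  have hε0 : ε ≠ 0 := by
    intro h0; rw [h0, norm_zero] at hεn; exact zero_ne_one hεn
  have hq2 := R.hq
  have hq0 : (q : ℂ) ≠ 0 := Nat.cast_ne_zero.mpr (by omega)
  have hqr : (0 : ℝ) < q := by exact_mod_cast (by omega : 0 < q)
  -- the coefficients `a x`
  have hex : ∀ x : R.X i, ∃ a : ℂ, (x : G) ≠ 1 → ‖a‖ = 1 ∧ c (s * (x : G) * s) = a * c s * ε := by
    intro x
    by_cases hx : (x : G) = 1
    · exact ⟨0, fun h => absurd hx h⟩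
    · obtain ⟨u₁, hu₁, h, hh, u₂, hu₂, he⟩ := R.hrank1 i x x.2 hx
      exact ⟨c h, fun _ => ⟨(sph_H R hc h hh).2.2, sph_sxs R hc i x u₁ hu₁ h hh u₂ hu₂ he⟩⟩
  choose a ha using hex
  have : Fintype (R.X i) := Fintype.ofFinite _
  set E : Finset (R.X i) := Finset.univ.erase 1 with hE
  have hEmem : ∀ x ∈ E, (x : G) ≠ 1 := by
    intro x hx h
    rw [hE, Finset.mem_erase] at hx
    exact hx.1 (Subtype.ext h)
  have hEcard : E.card = q - 1 := by
    rw [hE, Finset.card_erase_of_mem (Finset.mem_univ _), Finset.card_univ,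
      ← Nat.card_eq_fintype_card, R.hcardX i]
  set T := ∑ x ∈ E, a x with hT
  -- the quadratic relation
  have hquad : (q : ℂ) * (c s * c s) = ε * (1 + c s * T) := by
    have h1 := hc.conv s s
    have h2 := avg_decomp R i (fun g => c (s * g * s)) (by
      intro y hy g
      have e : s * (y * g) * s = (s * y * s⁻¹) * (s * g * s) := by group
      show c (s * (y * g) * s) = c (s * g * s)
      rw [e, hc.left _ (R.hsUs i y hy)])
    rw [h1] at h2
    rw [h2, ← mul_assoc, mul_inv_cancel₀ hq0, one_mul, finsum_eq_sum_of_fintype,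
      ← Finset.add_sum_erase _ _ (Finset.mem_univ (1 : R.X i))]
    have e1 : c (s * ((1 : R.X i) : G) * s) = ε := by
      rw [Subgroup.coe_one, mul_one]
    rw [e1, ← hE, Finset.sum_congr rfl (fun x hx => (ha x (hEmem x hx)).2), hT, Finset.mul_sum,
      mul_add, mul_one, Finset.mul_sum]
    congr 1
    apply Finset.sum_congr rfl
    intro x _
    ring
  set r := ‖c s‖ with hr
  have hr0 : 0 ≤ r := norm_nonneg _
  have hnorm : (q : ℝ) * r ^ 2 = ‖1 + c s * T‖ := by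
    have := congrArg norm hquad
    rw [norm_mul, norm_mul, norm_mul, hεn, one_mul, Complex.norm_natCast] at this
    rw [← this, hr]; ring
  have hterm : ∀ x ∈ E, ‖c s * a x‖ = r := by
    intro x hx
    rw [norm_mul, (ha x (hEmem x hx)).1, mul_one]
  have hq1 : ((q - 1 : ℕ) : ℝ) = (q : ℝ) - 1 := by
    rw [Nat.cast_sub (by omega)]; simp
  -- real part of `1 + c s T`
  have hre : (1 + c s * T).re = 1 + ∑ x ∈ E, (c s * a x).re := by
    rw [Complex.add_re, Complex.one_re, hT, Finset.mul_sum, Complex.re_sum]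
  have hrele : ∀ x ∈ E, -r ≤ (c s * a x).re := by
    intro x hx
    have := Complex.abs_re_le_norm (c s * a x)
    rw [hterm x hx] at this
    exact neg_le_of_abs_le this
  have hsumle : -(((q : ℝ) - 1) * r) ≤ ∑ x ∈ E, (c s * a x).re := by
    have := Finset.sum_le_sum hrele
    rw [Finset.sum_const, hEcard, nsmul_eq_mul, hq1] at this
    linarith
  have hge : 1 - ((q : ℝ) - 1) * r ≤ (q : ℝ) * r ^ 2 := by
    rw [hnorm]
    calc 1 - ((q : ℝ) - 1) * r ≤ (1 + c s * T).re := by rw [hre]; linarith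
      _ ≤ ‖1 + c s * T‖ := Complex.re_le_norm _
  have hpart1 : 1 ≤ (q : ℝ) * r := by
    by_contra hlt
    push Not at hlt
    nlinarith [mul_nonneg hqr.le hr0]
  refine ⟨hpart1, ?_⟩
  intro heq
  have hrpos : 0 < r := by
    rcases hr0.eq_or_lt with h | h
    · rw [← h, mul_zero] at heq; exact absurd heq zero_ne_one
    · exact h
  have hcs0 : c s ≠ 0 := by
    intro h0; rw [hr, h0, norm_zero] at hrpos; exact lt_irrefl _ hrpos
  have hrq : r = (q : ℝ)⁻¹ := by
    field_simp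
    linarith
  -- all real parts are extremal
  have hsumeq : ∑ x ∈ E, (c s * a x).re = -(((q : ℝ) - 1) * r) := by
    apply le_antisymm _ hsumle
    have h1 : (1 + c s * T).re ≤ (q : ℝ) * r ^ 2 := by rw [hnorm]; exact Complex.re_le_norm _
    rw [hre] at h1
    have h2 : (q : ℝ) * r ^ 2 = r := by
      have : (q : ℝ) * r ^ 2 = ((q : ℝ) * r) * r := by ring
      rw [this, heq, one_mul]
    nlinarith
  have heach : ∀ x ∈ E, (c s * a x).re = -r := by
    have h1 : ∑ x ∈ E, (-r) = ∑ x ∈ E, (c s * a x).re := by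
      rw [Finset.sum_const, hEcard, nsmul_eq_mul, hq1, hsumeq]; ring
    intro x hx
    exact ((Finset.sum_eq_sum_iff_of_le hrele).mp h1 x hx).symm
  have hval : ∀ x ∈ E, c s * a x = -((q : ℂ)⁻¹) := by
    intro x hx
    have h1 : (c s * a x).re = -‖c s * a x‖ := by rw [heach x hx, hterm x hx]
    rw [eq_neg_norm_of_re h1, hterm x hx, hrq]
    push_cast
    rfl
  -- any admissible `h`
  have hadm : ∀ h ∈ P.B ⊓ P.N, (∃ x ∈ R.X i, x ≠ 1 ∧ ∃ u₁ ∈ U, ∃ u₂ ∈ U,
      s * x * s⁻¹ = u₁ * h * s * u₂) → c s * c h = -((q : ℂ)⁻¹) := by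
    rintro h hh ⟨x, hx, hx1, u₁, hu₁, u₂, hu₂, he⟩
    have h1 := sph_sxs R hc i x u₁ hu₁ h hh u₂ hu₂ he
    have hxE : (⟨x, hx⟩ : R.X i) ∈ E := by
      rw [hE, Finset.mem_erase]
      exact ⟨fun h => hx1 (congrArg Subtype.val h), Finset.mem_univ _⟩
    have h2 := (ha ⟨x, hx⟩ hx1).2
    have h3 : c h * c s * ε = a ⟨x, hx⟩ * c s * ε := by rw [← h1]; exact h2
    have h4 : c h = a ⟨x, hx⟩ := by
      have := mul_right_cancel₀ hε0 h3
      exact mul_right_cancel₀ hcs0 this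
    rw [h4]
    exact hval _ hxE
  have hcs : c s = -((q : ℂ)⁻¹) := by
    obtain ⟨x, hx, hx1, u₁, hu₁, u₂, hu₂, he⟩ := R.hrank1_one i
    have := hadm 1 (Subgroup.one_mem _) ⟨x, hx, hx1, u₁, hu₁, u₂, hu₂, by rw [mul_one]; exact he⟩
    rwa [hc.one, mul_one] at this
  refine ⟨hcs, ?_⟩
  intro h hh hx
  have h1 := hadm h hh hx
  rw [← hcs] at h1
  have h2 : c s * c h = c s * 1 := by rw [h1, mul_one]
  exact mul_left_cancel₀ hcs0 h2

end Cfsg.Agent.Lib.Helper27.GG
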