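/-
helper27: S2318, the root subgroups `Xc i` and their complements `Usc i` in `U`, inside `D.group F`
(abbreviations used by the Chevalley leaves C1–C10 of notes/S2318_leaves.lean).
-/
import Mathlib
import Cfsg.Agent.Lib.Helper27.GGDefs
import Cfsg.Agent.Lib.Helper6.ChevStX1

set_option autoImplicit false

namespace Cfsg.Agent.Lib.Helper27.GG

open Cfsg Cfsg.Lie Cfsg.Agent.Lib.Helper7

variable (D : ChevalleyDatum) (F : Type*) [Field F]

/-- the root subgroup of the `i`-th fundamental root inside `D.group F` -/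
abbrev Xc (i : ℕ) : Subgroup ↥(D.group F) := (D.rootSubgroup F (D.simple i)).subgroupOf (D.group F)

/-- `U_{s_i} = ⟨X_r : r > 0, r ≠ α_i⟩` inside `D.group F` -/
abbrev Usc (i : ℕ) : Subgroup ↥(D.group F) := (upSubgroup D F i).subgroupOf (D.group F)

end Cfsg.Agent.Lib.Helper27.GG
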