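/-
helper27: S2318 leaves C5 (`chev_hrank1`), C6 (`chev_hrank1_one`), C7 (`chev_hHgen`): the rank one
relation `n_i x_α(a) n_i⁻¹ = x_α(-a⁻¹) h_α(a⁻¹) n_i x_α(-a⁻¹)` in a Chevalley group, and the `h_α(c)`
(`α` fundamental) generate `H`.
-/
import Mathlib
import Cfsg.Agent.Lib.Helper27.GGChevDefs
import Cfsg.Agent.Lib.Helper7.ChevHWord
import Cfsg.Agent.Lib.Helper7.ChevLongCent
import Cfsg.Agent.Lib.Helper7.ChevCanon

set_option autoImplicit false

namespace Cfsg.Agent.Lib.Helper27.GG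

open Cfsg Cfsg.Lie Cfsg.Agent.Lib.Helper7 Cfsg.Agent.Lib.Helper6.ChevSt Cfsg.Agent.Lib.Helper6.ChevStX1
open Cfsg.Agent.Lib.Helper3.BN

section
variable (D : ChevalleyDatum) (hD : D ∈ [chevG2, chevB2, chevD4, chevF4, chevE6, chevE7, chevE8])
variable (F : Type*) [Field F]
include hD

/-- the rank one relation in `GL` -/
theorem rank1_GL (i : ℕ) (hi : i < D.rank) (a : F) (ha : a ≠ 0) :
    nFund D hD F i * xGL D hD F (D.simple i) a * (nFund D hD F i)⁻¹ =
      xGL D hD F (D.simple i) (-a⁻¹) * wordGL D hD F (D.hWord (D.simple i) a⁻¹) * nFund D hD F i *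
        xGL D hD F (D.simple i) (-a⁻¹) := by
  have hF := fundFacts_of_mem D hD i hi
  rw [nFund_conj_xGL D hD F i hi _ hF.hp, reflectRoot_simple]
  have heta : etaFn D i (D.simple i) = -1 := by
    unfold etaFn; rw [if_pos (Or.inl rfl)]
  rw [heta]
  have h1 := nGL_eq D hD F (D.simple i) a⁻¹
  rw [nGL_eq_hGL_mul D hD F (D.simple i) a⁻¹, inv_inv] at h1
  have h2 : xGL D hD F (D.neg (D.simple i)) (-a) =
      (xGL D hD F (D.simple i) a⁻¹)⁻¹ * (wordGL D hD F (D.hWord (D.simple i) a⁻¹) *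
        wordGL D hD F (D.nWord (D.simple i) 1)) * (xGL D hD F (D.simple i) a⁻¹)⁻¹ := by
    rw [h1]; group
  have h3 : ((( -1 : ℤ) : ℤ) : F) * a = -a := by push_cast; ring
  rw [h3, h2, xGL_inv]
  unfold nFund
  group

end

section
variable (D : ChevalleyDatum) (hD : D ∈ [chevG2, chevB2, chevD4, chevF4, chevE6, chevE7, chevE8])
variable (F : Type*) [Field F] [Fintype F]
include hD

theorem xGL_simple_mem_Uc (i : ℕ) (hi : i < D.rank) (t : F) :
    (⟨xGL D hD F (D.simple i) t, xGL_mem_group D hD F _ _⟩ : ↥(D.group F)) ∈ Uc D F := by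
  rw [Subgroup.mem_subgroupOf]
  exact xGL_pos_mem D hD F _ ((parFacts_of_mem D hD).simplePos i hi) t

theorem hGL_simple_mem_H (i : ℕ) (hi : i < D.rank) (c : F) (hc : c ≠ 0) :
    (⟨wordGL D hD F (D.hWord (D.simple i) c), wordGL_mem_group D hD F _⟩ : ↥(D.group F)) ∈
      (chevBNPair D hD F).B ⊓ (chevBNPair D hD F).N := by
  rw [B_inf_N D hD F, Subgroup.mem_subgroupOf]
  exact hGL_mem_diagonalSubgroup D hD F _ (fundFacts_of_mem D hD i hi).hp c hc

/-- the admissible decomposition for `x = x_α(a)` -/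
theorem rank1_group (i : Fin D.rank) (a : F) (ha : a ≠ 0) :
    sEl D hD F i * (⟨xGL D hD F (D.simple i) a, xGL_mem_group D hD F _ _⟩ : ↥(D.group F)) *
      (sEl D hD F i)⁻¹ =
    (⟨xGL D hD F (D.simple i) (-a⁻¹), xGL_mem_group D hD F _ _⟩ : ↥(D.group F)) *
      (⟨wordGL D hD F (D.hWord (D.simple i) a⁻¹), wordGL_mem_group D hD F _⟩ : ↥(D.group F)) *
      sEl D hD F i *
      (⟨xGL D hD F (D.simple i) (-a⁻¹), xGL_mem_group D hD F _ _⟩ : ↥(D.group F)) := by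
  apply Subtype.ext
  simp only [Subgroup.coe_mul, Subgroup.coe_inv, sEl_coe D hD F i i.2]
  exact rank1_GL D hD F i i.2 a ha

theorem xGL_simple_ne_one (i : ℕ) (hi : i < D.rank) (a : F) (ha : a ≠ 0) :
    (⟨xGL D hD F (D.simple i) a, xGL_mem_group D hD F _ _⟩ : ↥(D.group F)) ≠ 1 := by
  intro h
  have h1 : xGL D hD F (D.simple i) a = 1 := congrArg Subtype.val h
  have hF := fundFacts_of_mem D hD i hi
  have hN := negOK_of_mem D hD _ hF.hp
  have h2 : D.x F (D.simple i) a = 1 := by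
    rw [← coe_xGL D hD F, h1]; rfl
  exact ha (eq_zero_of_x_eq_one D F _ hF.hp hN.1 hN.2 a h2)

theorem xGL_simple_mem_Xc (i : ℕ) (a : F) :
    (⟨xGL D hD F (D.simple i) a, xGL_mem_group D hD F _ _⟩ : ↥(D.group F)) ∈ Xc D F i := by
  rw [Subgroup.mem_subgroupOf]
  exact (mem_rootSubgroup_iff D hD F _ _).mpr ⟨a, rfl⟩

/-- **C5** -/
theorem chev_hrank1 (i : Fin D.rank) : ∀ x ∈ Xc D F i, x ≠ 1 → ∃ u₁ ∈ Uc D F,
    ∃ h ∈ (chevBNPair D hD F).B ⊓ (chevBNPair D hD F).N, ∃ u₂ ∈ Uc D F,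
      sEl D hD F i * x * (sEl D hD F i)⁻¹ = u₁ * h * sEl D hD F i * u₂ := by
  intro x hx hx1
  rw [Subgroup.mem_subgroupOf] at hx
  obtain ⟨a, hxa⟩ := (mem_rootSubgroup_iff D hD F _ _).mp hx
  have hxe : x = ⟨xGL D hD F (D.simple i) a, xGL_mem_group D hD F _ _⟩ := Subtype.ext hxa
  have ha : a ≠ 0 := by
    rintro rfl
    apply hx1
    rw [hxe]
    apply Subtype.ext
    exact xGL_zero D hD F _
  refine ⟨_, xGL_simple_mem_Uc D hD F i i.2 (-a⁻¹), _, hGL_simple_mem_H D hD F i i.2 a⁻¹ (inv_ne_zero ha),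
    _, xGL_simple_mem_Uc D hD F i i.2 (-a⁻¹), ?_⟩
  rw [hxe]
  exact rank1_group D hD F i a ha

/-- **C6** -/
theorem chev_hrank1_one (i : Fin D.rank) : ∃ x ∈ Xc D F i, x ≠ 1 ∧ ∃ u₁ ∈ Uc D F, ∃ u₂ ∈ Uc D F,
    sEl D hD F i * x * (sEl D hD F i)⁻¹ = u₁ * sEl D hD F i * u₂ := by
  refine ⟨_, xGL_simple_mem_Xc D hD F i 1, xGL_simple_ne_one D hD F i i.2 1 one_ne_zero,
    _, xGL_simple_mem_Uc D hD F i i.2 (-(1 : F)⁻¹), _, xGL_simple_mem_Uc D hD F i i.2 (-(1 : F)⁻¹), ?_⟩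
  rw [rank1_group D hD F i 1 one_ne_zero]
  have : (⟨wordGL D hD F (D.hWord (D.simple i) (1 : F)⁻¹), wordGL_mem_group D hD F _⟩ : ↥(D.group F)) = 1 := by
    apply Subtype.ext
    rw [inv_one]
    exact hGL_one D hD F _
  rw [this, mul_one]

/-- **C7** -/
theorem chev_hHgen : (chevBNPair D hD F).B ⊓ (chevBNPair D hD F).N ≤
    Subgroup.closure {h | h ∈ (chevBNPair D hD F).B ⊓ (chevBNPair D hD F).N ∧
      ∃ i : Fin D.rank, ∃ x ∈ Xc D F i, x ≠ 1 ∧ ∃ u₁ ∈ Uc D F, ∃ u₂ ∈ Uc D F,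
        sEl D hD F i * x * (sEl D hD F i)⁻¹ = u₁ * h * sEl D hD F i * u₂} := by
  intro g hg
  set T : Set ↥(D.group F) := {h | h ∈ (chevBNPair D hD F).B ⊓ (chevBNPair D hD F).N ∧
      ∃ i : Fin D.rank, ∃ x ∈ Xc D F i, x ≠ 1 ∧ ∃ u₁ ∈ Uc D F, ∃ u₂ ∈ Uc D F,
        sEl D hD F i * x * (sEl D hD F i)⁻¹ = u₁ * h * sEl D hD F i * u₂} with hT
  -- every `h_{α_i}(c)` is admissible
  have hadm : ∀ (i : ℕ) (hi : i < D.rank) (c : F), c ≠ 0 →
      (⟨wordGL D hD F (D.hWord (D.simple i) c), wordGL_mem_group D hD F _⟩ : ↥(D.group F)) ∈ T := by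
    intro i hi c hc
    refine ⟨hGL_simple_mem_H D hD F i hi c hc, ⟨i, hi⟩, _, xGL_simple_mem_Xc D hD F i c⁻¹,
      xGL_simple_ne_one D hD F i hi c⁻¹ (inv_ne_zero hc), _, xGL_simple_mem_Uc D hD F i hi (-c⁻¹⁻¹),
      _, xGL_simple_mem_Uc D hD F i hi (-c⁻¹⁻¹), ?_⟩
    have := rank1_group D hD F ⟨i, hi⟩ c⁻¹ (inv_ne_zero hc)
    simp only [inv_inv] at this ⊢
    exact this
  -- products of such elements
  have hprod : ∀ (c : ℕ → F) (L : List ℕ), (∀ i ∈ L, i < D.rank ∧ c i ≠ 0) →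
      (⟨wordGL D hD F (L.flatMap fun i => D.hWord (D.simple i) (c i)), wordGL_mem_group D hD F _⟩ :
        ↥(D.group F)) ∈ Subgroup.closure T := by
    intro c L
    induction L with
    | nil =>
      intro _
      have : (⟨wordGL D hD F (([] : List ℕ).flatMap fun i => D.hWord (D.simple i) (c i)),
          wordGL_mem_group D hD F _⟩ : ↥(D.group F)) = 1 := by
        apply Subtype.ext; rfl
      rw [this]; exact Subgroup.one_mem _
    | cons j L ih =>
      intro hL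
      have e : (⟨wordGL D hD F ((j :: L).flatMap fun i => D.hWord (D.simple i) (c i)),
          wordGL_mem_group D hD F _⟩ : ↥(D.group F)) =
          (⟨wordGL D hD F (D.hWord (D.simple j) (c j)), wordGL_mem_group D hD F _⟩ : ↥(D.group F)) *
          (⟨wordGL D hD F (L.flatMap fun i => D.hWord (D.simple i) (c i)),
            wordGL_mem_group D hD F _⟩ : ↥(D.group F)) := by
        apply Subtype.ext
        rw [Subgroup.coe_mul]
        show wordGL D hD F ((j :: L).flatMap fun i => D.hWord (D.simple i) (c i)) = _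
        rw [List.flatMap_cons, wordGL_append]
      rw [e]
      obtain ⟨hj, hcj⟩ := hL j List.mem_cons_self
      exact Subgroup.mul_mem _ (Subgroup.subset_closure (hadm j hj (c j) hcj))
        (ih (fun i hi => hL i (List.mem_cons_of_mem _ hi)))
  rw [B_inf_N D hD F, Subgroup.mem_subgroupOf] at hg
  obtain ⟨c, hc, hgc⟩ := diagonalSubgroup_eq_word D hD F _ hg
  have hge : g = ⟨wordGL D hD F ((List.range D.rank).flatMap fun i => D.hWord (D.simple i) (c i)),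
      wordGL_mem_group D hD F _⟩ := by
    apply Subtype.ext
    apply Units.ext
    rw [hgc, coe_wordGL]
  rw [hge]
  exact hprod c _ (fun i hi => ⟨List.mem_range.mp hi, hc i (List.mem_range.mp hi)⟩)

end

end Cfsg.Agent.Lib.Helper27.GG
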