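/-
helper27: S2318 leaf C10 (`chev_psi`): a linear character of `U` which is nontrivial on every
fundamental root subgroup, from helper14's abstract core `exists_char_nontrivial_on_family` and the
leaves C1 (helper24), C2 (helper24).
-/
import Mathlib
import Cfsg.Agent.Lib.Helper27.GGC567
import Cfsg.Agent.Lib.Helper14.GGPsiAbs
import Cfsg.Agent.Lib.Helper24.GGC1
import Cfsg.Agent.Lib.Helper24.GGC2

set_option autoImplicit false

namespace Cfsg.Agent.Lib.Helper27.GG

open Cfsg Cfsg.Lie Cfsg.Agent.Lib.Helper7 Cfsg.Agent.Lib.Helper6.ChevSt Cfsg.Agent.Lib.Helper6.ChevStX1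
open Cfsg.Agent.Lib.Helper3.BN

section
variable (D : ChevalleyDatum) (hD : D ∈ [chevG2, chevB2, chevD4, chevF4, chevE6, chevE7, chevE8])
variable (F : Type*) [Field F] [Fintype F]
include hD

/-- **C10** -/
theorem chev_psi : ∃ ψ : ↥(Uc D F) →* ℂˣ, ∀ i : Fin D.rank,
    ∃ x : ↥(Uc D F), (x : ↥(D.group F)) ∈ Xc D F i ∧ ψ x ≠ 1 := by
  have hfinG := finite_group D F
  refine Cfsg.Agent.Lib.Helper14.GG.exists_char_nontrivial_on_family (ι := Fin D.rank) (Uc D F)
    (fun i => Xc D F i) (fun i => Usc D F i) ?_ ?_ ?_ ?_ ?_ ?_ ?_ ?_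
  · -- X i ≤ U
    intro i x hx
    rw [Subgroup.mem_subgroupOf] at hx ⊢
    obtain ⟨t, ht⟩ := (mem_rootSubgroup_iff D hD F _ _).mp hx
    rw [ht]
    exact xGL_pos_mem D hD F _ ((parFacts_of_mem D hD).simplePos i i.2) t
  · -- X i normalises Usc i
    intro i x hx y hy
    rw [Subgroup.mem_subgroupOf] at hx hy ⊢
    have hn := (le_trans le_sup_left (rootSubgroup_le_normalizer_up D hD F i i.2)) hx
    rw [Subgroup.mem_set_normalizer_iff] at hn
    simp only [Subgroup.coe_mul, Subgroup.coe_inv]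
    exact (hn _).mp hy
  · exact fun i => Cfsg.Agent.Lib.Helper24.GG.chev_hXU D hD F i
  · exact fun i => Cfsg.Agent.Lib.Helper24.GG.chev_hXUs D hD F i
  · -- X j ≤ Usc i for j ≠ i
    intro i j hij x hx
    rw [Subgroup.mem_subgroupOf] at hx ⊢
    obtain ⟨t, ht⟩ := (mem_rootSubgroup_iff D hD F _ _).mp hx
    rw [ht]
    apply Subgroup.subset_closure
    refine ⟨D.simple j, t, (parFacts_of_mem D hD).simplePos j j.2, ?_, coe_xGL D hD F _ _⟩
    intro h
    apply hij
    have := sEl_injOn D hD F (Finset.mem_coe.mpr (Finset.mem_range.mpr i.2))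
      (Finset.mem_coe.mpr (Finset.mem_range.mpr j.2))
    apply Fin.ext
    apply this
    apply Subtype.ext
    rw [sEl_coe D hD F i i.2, sEl_coe D hD F j j.2]
    unfold nFund
    rw [h]
  · -- X i commutative
    intro i a ha b hb
    rw [Subgroup.mem_subgroupOf] at ha hb
    obtain ⟨t, ht⟩ := (mem_rootSubgroup_iff D hD F _ _).mp ha
    obtain ⟨t', ht'⟩ := (mem_rootSubgroup_iff D hD F _ _).mp hb
    apply Subtype.ext
    rw [Subgroup.coe_mul, Subgroup.coe_mul, ht, ht', xGL_mul, xGL_mul, add_comm]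
  · intro i; infer_instance
  · intro i
    exact ⟨_, xGL_simple_mem_Xc D hD F i 1, xGL_simple_ne_one D hD F i i.2 1 one_ne_zero⟩

end

end Cfsg.Agent.Lib.Helper27.GG
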