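import Mathlib
import Cfsg.Agent.Lib.Helper6.ChevStB

/-!
# Sum of the Steinberg function over the `p`-elements of a group with a (B,N)-pair

`X` a finite group with a (B,N)-pair, `U ≤ B` a Sylow `p`-subgroup of `X` normalised by `B`,
`B = U (B ∩ N)`, `U ∩ (B ∩ N) = 1`, `O ≤ U` normal in `X`, `n ∈ N` representing the longest
element of the Weyl group with `U ∩ n B n⁻¹ ≤ O`.  Then the Steinberg function (alternating sum
of the parabolic permutation characters) is `|U : O|` on `O` and `0` on the other `p`-elements,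
so its sum over the `p`-elements is `|U|`.
-/

set_option autoImplicit false

namespace Cfsg.Agent.Lib.Helper27.StCount

open Cfsg Cfsg.Agent.Lib.Helper3.BN Cfsg.Agent.Lib.Helper6.BNSt

universe u

open Classical in
/-- indicator helper -/
noncomputable def ind (c : Prop) (a : ℂ) : ℂ := if c then a else 0

theorem ind_pos {c : Prop} (h : c) (a : ℂ) : ind c a = a := by
  unfold ind; rw [if_pos h]

theorem ind_neg {c : Prop} (h : ¬ c) (a : ℂ) : ind c a = 0 := by
  unfold ind; rw [if_neg h]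

/-- `g` has `p`-power order -/
def IsPEl (p : ℕ) {X : Type*} [Monoid X] (g : X) : Prop := ∃ k : ℕ, orderOf g = p ^ k

variable {X : Type u} [Group X]

theorem isPEl_conj (p : ℕ) (x g : X) : IsPEl p (x * g * x⁻¹) ↔ IsPEl p g := by
  unfold IsPEl
  have : orderOf (x * g * x⁻¹) = orderOf g := by
    have h := orderOf_injective (MulAut.conj x).toMonoidHom (MulAut.conj x).injective g
    simpa using h
  rw [this]

theorem fixedPointCharacter_conj (H : Subgroup X) (x g : X) :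
    fixedPointCharacter H (x * g * x⁻¹) = fixedPointCharacter H g := by
  unfold fixedPointCharacter
  congr 1
  rw [← MulAction.smul_fixedBy (X ⧸ H) g x]
  exact Nat.card_congr
    { toFun := fun q => ⟨x⁻¹ • q.1, by
        obtain ⟨y, hy, hq⟩ := q.2
        have : x⁻¹ • q.1 = y := by
          rw [← hq]
          exact inv_smul_smul x y
        rw [this]
        exact hy⟩
      invFun := fun q => ⟨x • q.1, ⟨q.1, q.2, rfl⟩⟩
      left_inv := fun q => Subtype.ext (smul_inv_smul x q.1)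
      right_inv := fun q => Subtype.ext (inv_smul_smul x q.1) }

theorem stFun_conj_eq (Q : Cfsg.BNPair X) (Sfin : Finset X) (x g : X) :
    stFun Q Sfin (x * g * x⁻¹) = stFun Q Sfin g := by
  unfold stFun
  apply Finset.sum_congr rfl
  intro J _
  rw [fixedPointCharacter_conj]

section main

variable [Fintype X] (Q : Cfsg.BNPair X) (Sfin : Finset X) (hSfin : (Sfin : Set X) = Q.S)
  (p : ℕ) [Fact p.Prime] (U O : Subgroup X)
  (hUB : U ≤ Q.B) (hUn : ∀ b ∈ Q.B, ∀ u ∈ U, b * u * b⁻¹ ∈ U)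
  (hUp : IsPGroup p U) (hUidx : ¬ p ∣ U.index)
  (hBUH : ∀ b ∈ Q.B, ∃ u ∈ U, ∃ h ∈ Q.B ⊓ Q.N, b = u * h)
  (hUH : U ⊓ (Q.B ⊓ Q.N) = ⊥)
  (hOU : O ≤ U) (hOn : ∀ x : X, ∀ o ∈ O, x * o * x⁻¹ ∈ O)
  (n : X) (hn : n ∈ Q.N) (hlong : ∀ s ∈ Q.S, ∃ g ∈ dc Q n, s * g ∈ dc Q n)
  (hcrux : ∀ u ∈ U, n⁻¹ * u * n ∈ Q.B → u ∈ O)

include hSfin hUB hUn hOU hOn hn hlong hcrux in
/-- the value of the Steinberg function at an element of `U` -/
theorem stFun_apply_U (b : X) (hb : b ∈ U) :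
    stFun Q Sfin b = ind (b ∈ O) (Nat.card (Q.B ⧸ BStab Q n) : ℂ) := by
  have hw0 : mkW Q n hn = w0 Q := by
    apply eq_w0_of_forall_exists
    intro s hs
    rw [C_mk]
    exact hlong s hs
  have hD : BStab Q (repW Q (w0 Q)) = BStab Q n :=
    BStab_eq_of_mkW_eq Q (repW_mem Q (w0 Q)) hn (by rw [mkW_repW, hw0])
  have h1 := stFun_apply_B Q Sfin hSfin (⟨b, hUB hb⟩ : Q.B)
  rw [hD] at h1
  rw [show stFun Q Sfin b = stFun Q Sfin ((⟨b, hUB hb⟩ : Q.B) : X) from rfl, h1]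
  have hfix : ∀ y : Q.B, ((QuotientGroup.mk y : Q.B ⧸ BStab Q n) ∈
      MulAction.fixedBy (Q.B ⧸ BStab Q n) (⟨b, hUB hb⟩ : Q.B)) ↔ b ∈ O := by
    intro y
    rw [MulAction.mem_fixedBy]
    have e1 : ((⟨b, hUB hb⟩ : Q.B) • (QuotientGroup.mk y : Q.B ⧸ BStab Q n)) =
        QuotientGroup.mk ((⟨b, hUB hb⟩ : Q.B) * y) := rfl
    rw [e1, QuotientGroup.eq, mem_BStab]
    have e2 : (((((⟨b, hUB hb⟩ : Q.B) * y)⁻¹ * y : Q.B)) : X) = (y : X)⁻¹ * b⁻¹ * (y : X) := by
      push_cast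
      group
    rw [e2]
    have hyb : (y : X)⁻¹ * b⁻¹ * (y : X) ∈ U := by
      have := hUn (y : X)⁻¹ (Q.B.inv_mem y.2) b⁻¹ (U.inv_mem hb)
      rwa [inv_inv] at this
    constructor
    · intro h
      have h2 := hcrux _ hyb h
      have h3 := hOn (y : X) _ h2
      have e3 : (y : X) * ((y : X)⁻¹ * b⁻¹ * (y : X)) * (y : X)⁻¹ = b⁻¹ := by group
      rw [e3] at h3
      have := O.inv_mem h3
      rwa [inv_inv] at this
    · intro hbO
      have h2 : (y : X)⁻¹ * b⁻¹ * (y : X) ∈ O := by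
        have := hOn (y : X)⁻¹ b⁻¹ (O.inv_mem hbO)
        rwa [inv_inv] at this
      have h3 := hOn n⁻¹ _ h2
      rw [inv_inv] at h3
      exact hUB (hOU h3)
  by_cases hbO : b ∈ O
  · rw [ind_pos hbO]
    congr 1
    apply Nat.card_congr
    refine
      { toFun := fun q => q.1
        invFun := fun q => ⟨q, ?_⟩
        left_inv := fun q => rfl
        right_inv := fun q => rfl }
    induction q using QuotientGroup.induction_on with
    | H y => exact (hfix y).2 hbO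
  · rw [ind_neg hbO]
    have : IsEmpty (MulAction.fixedBy (Q.B ⧸ BStab Q n) (⟨b, hUB hb⟩ : Q.B)) := by
      constructor
      rintro ⟨q, hq⟩
      induction q using QuotientGroup.induction_on with
      | H y => exact hbO ((hfix y).1 hq)
    rw [Nat.card_of_isEmpty]
    simp

include hUp hUidx in
/-- every `p`-element is conjugate into `U` -/
theorem exists_conj_mem (g : X) (hg : IsPEl p g) : ∃ x : X, x * g * x⁻¹ ∈ U := by
  have hz : IsPGroup p (Subgroup.zpowers g) := by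
    obtain ⟨k, hk⟩ := hg
    apply IsPGroup.of_card (n := k)
    rw [Nat.card_zpowers, hk]
  obtain ⟨S', hS'⟩ := hz.exists_le_sylow
  obtain ⟨x, hx⟩ := MulAction.exists_smul_eq X S' (hUp.toSylow hUidx)
  refine ⟨x, ?_⟩
  have hg' : g ∈ (S' : Subgroup X) := hS' (Subgroup.mem_zpowers g)
  have h1 : x * g * x⁻¹ ∈ ((x • S' : Sylow p X) : Subgroup X) := by
    rw [Sylow.smul_def, Sylow.pointwise_smul_def, Subgroup.mem_pointwise_smul_iff_inv_smul_mem,
      MulAut.smul_def]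
    have : (MulAut.conj x)⁻¹ (x * g * x⁻¹) = g := by
      rw [← map_inv, MulAut.conj_apply]
      group
    rw [this]
    exact hg'
  rw [hx] at h1
  exact h1

include hSfin hUB hUn hUp hUidx hOU hOn hn hlong hcrux in
/-- the value of the Steinberg function at a `p`-element -/
theorem stFun_apply_pEl (g : X) (hg : IsPEl p g) :
    stFun Q Sfin g = ind (g ∈ O) (Nat.card (Q.B ⧸ BStab Q n) : ℂ) := by
  obtain ⟨x, hx⟩ := exists_conj_mem p U hUp hUidx g hg
  rw [← stFun_conj_eq Q Sfin x g,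
    stFun_apply_U Q Sfin hSfin U O hUB hUn hOU hOn n hn hlong hcrux _ hx]
  by_cases hgO : g ∈ O
  · rw [ind_pos hgO, ind_pos (hOn x g hgO)]
  · rw [ind_neg hgO, ind_neg]
    intro h
    apply hgO
    have := hOn x⁻¹ _ h
    rw [inv_inv] at this
    have e : x⁻¹ * (x * g * x⁻¹) * x = g := by group
    rwa [e] at this

omit [Fintype X] in
include hUB hBUH hUH in
theorem card_B_eq : Nat.card Q.B = Nat.card U * Nat.card (Q.B ⊓ Q.N : Subgroup X) := by
  rw [← Nat.card_prod]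
  symm
  apply Nat.card_congr
  refine Equiv.ofBijective
    (fun z : U × (Q.B ⊓ Q.N : Subgroup X) =>
      (⟨(z.1 : X) * (z.2 : X), Q.B.mul_mem (hUB z.1.2) (Subgroup.mem_inf.1 z.2.2).1⟩ : Q.B))
    ⟨?_, ?_⟩
  · rintro ⟨u, h⟩ ⟨u', h'⟩ he
    have he' : (u : X) * (h : X) = (u' : X) * (h' : X) := congrArg Subtype.val he
    have h1 : (u' : X)⁻¹ * (u : X) = (h' : X) * (h : X)⁻¹ := by
      have : (u' : X)⁻¹ * ((u : X) * (h : X)) * (h : X)⁻¹ = (u' : X)⁻¹ * ((u' : X) * (h' : X)) * (h : X)⁻¹ := by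
        rw [he']
      have e1 : (u' : X)⁻¹ * ((u : X) * (h : X)) * (h : X)⁻¹ = (u' : X)⁻¹ * (u : X) := by group
      have e2 : (u' : X)⁻¹ * ((u' : X) * (h' : X)) * (h : X)⁻¹ = (h' : X) * (h : X)⁻¹ := by group
      rw [e1, e2] at this
      exact this
    have h2 : (u' : X)⁻¹ * (u : X) ∈ U ⊓ (Q.B ⊓ Q.N) := by
      refine Subgroup.mem_inf.2 ⟨U.mul_mem (U.inv_mem u'.2) u.2, ?_⟩
      rw [h1]
      exact Subgroup.mul_mem _ h'.2 (Subgroup.inv_mem _ h.2)
    rw [hUH, Subgroup.mem_bot] at h2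
    have h3 : (u : X) = (u' : X) := by
      have := congrArg (fun t => (u' : X) * t) h2
      simpa using this
    have h4 : (h : X) = (h' : X) := by
      rw [h3] at he'
      exact mul_left_cancel he'
    exact Prod.ext (Subtype.ext h3) (Subtype.ext h4)
  · rintro ⟨b, hb⟩
    obtain ⟨u, hu, h, hh, rfl⟩ := hBUH b hb
    exact ⟨(⟨u, hu⟩, ⟨h, hh⟩), rfl⟩

omit [Fintype X] in
include hUB hBUH hUH hOU hOn hn hcrux in
theorem card_BStab_eq :
    Nat.card (BStab Q n) = Nat.card O * Nat.card (Q.B ⊓ Q.N : Subgroup X) := by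
  rw [← Nat.card_prod]
  symm
  apply Nat.card_congr
  have hmemB : ∀ z : O × (Q.B ⊓ Q.N : Subgroup X), (z.1 : X) * (z.2 : X) ∈ Q.B := fun z =>
    Q.B.mul_mem (hUB (hOU z.1.2)) (Subgroup.mem_inf.1 z.2.2).1
  have hconjH : ∀ h ∈ Q.B ⊓ Q.N, n⁻¹ * h * n ∈ Q.B := by
    intro h hh
    have := Q.conj_mem n⁻¹ (Q.N.inv_mem hn) h hh
    rwa [inv_inv] at this
  have hmemD : ∀ z : O × (Q.B ⊓ Q.N : Subgroup X),
      (⟨(z.1 : X) * (z.2 : X), hmemB z⟩ : Q.B) ∈ BStab Q n := by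
    intro z
    rw [mem_BStab]
    have e : n⁻¹ * ((z.1 : X) * (z.2 : X)) * n = (n⁻¹ * (z.1 : X) * n) * (n⁻¹ * (z.2 : X) * n) := by
      group
    show n⁻¹ * ((z.1 : X) * (z.2 : X)) * n ∈ Q.B
    rw [e]
    refine Q.B.mul_mem ?_ (hconjH _ z.2.2)
    have := hOn n⁻¹ _ z.1.2
    rw [inv_inv] at this
    exact hUB (hOU this)
  refine Equiv.ofBijective
    (fun z : O × (Q.B ⊓ Q.N : Subgroup X) =>
      (⟨⟨(z.1 : X) * (z.2 : X), hmemB z⟩, hmemD z⟩ : BStab Q n)) ⟨?_, ?_⟩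
  · rintro ⟨u, h⟩ ⟨u', h'⟩ he
    have he' : (u : X) * (h : X) = (u' : X) * (h' : X) :=
      congrArg (fun t : BStab Q n => ((t : Q.B) : X)) he
    have h1 : (u' : X)⁻¹ * (u : X) = (h' : X) * (h : X)⁻¹ := by
      have : (u' : X)⁻¹ * ((u : X) * (h : X)) * (h : X)⁻¹ = (u' : X)⁻¹ * ((u' : X) * (h' : X)) * (h : X)⁻¹ := by
        rw [he']
      have e1 : (u' : X)⁻¹ * ((u : X) * (h : X)) * (h : X)⁻¹ = (u' : X)⁻¹ * (u : X) := by group
      have e2 : (u' : X)⁻¹ * ((u' : X) * (h' : X)) * (h : X)⁻¹ = (h' : X) * (h : X)⁻¹ := by group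
      rw [e1, e2] at this
      exact this
    have h2 : (u' : X)⁻¹ * (u : X) ∈ U ⊓ (Q.B ⊓ Q.N) := by
      refine Subgroup.mem_inf.2 ⟨U.mul_mem (U.inv_mem (hOU u'.2)) (hOU u.2), ?_⟩
      rw [h1]
      exact Subgroup.mul_mem _ h'.2 (Subgroup.inv_mem _ h.2)
    rw [hUH, Subgroup.mem_bot] at h2
    have h3 : (u : X) = (u' : X) := by
      have := congrArg (fun t => (u' : X) * t) h2
      simpa using this
    have h4 : (h : X) = (h' : X) := by
      rw [h3] at he'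
      exact mul_left_cancel he'
    exact Prod.ext (Subtype.ext h3) (Subtype.ext h4)
  · rintro ⟨⟨b, hb⟩, hd⟩
    rw [mem_BStab] at hd
    obtain ⟨u, hu, h, hh, rfl⟩ := hBUH b hb
    have huO : u ∈ O := by
      apply hcrux u hu
      have e : n⁻¹ * u * n = (n⁻¹ * (u * h) * n) * (n⁻¹ * h * n)⁻¹ := by group
      rw [e]
      exact Q.B.mul_mem hd (Q.B.inv_mem (hconjH h hh))
    exact ⟨(⟨u, huO⟩, ⟨h, hh⟩), rfl⟩

include hUB hBUH hUH hOU hOn hn hcrux in
theorem card_O_mul_index : Nat.card O * Nat.card (Q.B ⧸ BStab Q n) = Nat.card U := by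
  have h1 := Subgroup.card_mul_index (BStab Q n)
  rw [card_BStab_eq Q U O hUB hBUH hUH hOU hOn n hn hcrux, card_B_eq Q U hUB hBUH hUH] at h1
  have hpos : 0 < Nat.card (Q.B ⊓ Q.N : Subgroup X) := Nat.card_pos
  have h2 : Nat.card (Q.B ⊓ Q.N : Subgroup X) * (Nat.card O * (BStab Q n).index) =
      Nat.card (Q.B ⊓ Q.N : Subgroup X) * Nat.card U := by
    rw [mul_comm (Nat.card (Q.B ⊓ Q.N : Subgroup X)) (Nat.card U), ← h1]; ring
  exact Nat.eq_of_mul_eq_mul_left hpos h2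

open Classical in
include hSfin hUB hUn hUp hUidx hBUH hUH hOU hOn hn hlong hcrux in
/-- the sum of the Steinberg function over the `p`-elements is `|U|` -/
theorem sum_stFun_pEl :
    ∑ g ∈ Finset.univ.filter (fun g : X => IsPEl p g), stFun Q Sfin g = (Nat.card U : ℂ) := by
  rw [Finset.sum_congr rfl (fun g hg => stFun_apply_pEl Q Sfin hSfin p U O hUB hUn hUp hUidx hOU hOn
    n hn hlong hcrux g (Finset.mem_filter.1 hg).2)]
  unfold ind
  rw [Finset.sum_ite, Finset.sum_const_zero, add_zero, Finset.sum_const, nsmul_eq_mul]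
  have hcard : ((Finset.univ.filter (fun g : X => IsPEl p g)).filter (fun g => g ∈ O)).card =
      Nat.card O := by
    rw [← Nat.subtype_card (p := fun g : X => g ∈ O)]
    intro g
    rw [Finset.mem_filter, Finset.mem_filter]
    constructor
    · intro h; exact h.2
    · intro h
      refine ⟨⟨Finset.mem_univ _, ?_⟩, h⟩
      have h1 := (IsPGroup.iff_orderOf.1 hUp) ⟨g, hOU h⟩
      obtain ⟨k, hk⟩ := h1
      refine ⟨k, ?_⟩
      rw [← hk]
      exact Subgroup.orderOf_coe (⟨g, hOU h⟩ : U)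
  rw [hcard, ← Nat.cast_mul, card_O_mul_index Q U O hUB hBUH hUH hOU hOn n hn hcrux]

end main

end Cfsg.Agent.Lib.Helper27.StCount
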