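/-
helper27: S2318 hub: the 24 leaves of the S2318 market under one namespace
(`Cfsg.Agent.Lib.Helper27.GGHub`), as aliases of the landed leaf modules
(helper6, helper10, helper11, helper14, helper19, helper20, helper23, helper24, helper27, helper29).
-/
import Mathlib
import Cfsg.Agent.Lib.Helper27.GGDefs
import Cfsg.Agent.Lib.Helper27.GGChevDefs
import Cfsg.Agent.Lib.Helper6.BNRedB
import Cfsg.Agent.Lib.Helper6.ChevStX1
import Cfsg.Agent.Lib.Helper10.GGB8
import Cfsg.Agent.Lib.Helper11.GGC8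
import Cfsg.Agent.Lib.Helper14.GGB6
import Cfsg.Agent.Lib.Helper14.GGD1
import Cfsg.Agent.Lib.Helper19.GGD2
import Cfsg.Agent.Lib.Helper20.GGB2
import Cfsg.Agent.Lib.Helper20.GGB4
import Cfsg.Agent.Lib.Helper20.GGB7
import Cfsg.Agent.Lib.Helper23.GGsph_isSph
import Cfsg.Agent.Lib.Helper23.GGsph_norm
import Cfsg.Agent.Lib.Helper24.GGC1
import Cfsg.Agent.Lib.Helper24.GGC2
import Cfsg.Agent.Lib.Helper24.GGC4
import Cfsg.Agent.Lib.Helper27.GGC10
import Cfsg.Agent.Lib.Helper27.GGC567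
import Cfsg.Agent.Lib.Helper27.GGRankOne
import Cfsg.Agent.Lib.Helper29.GGB5
import Cfsg.Agent.Lib.Helper6.GGC0
import Cfsg.Agent.Lib.Helper6.GGC3
import Cfsg.Agent.Lib.Helper6.GGC9

set_option autoImplicit false

namespace Cfsg.Agent.Lib.Helper27.GGHub

open Cfsg Cfsg.Agent.Lib.Helper3.BN Cfsg.Agent.Lib.Helper3.WordLen Cfsg.Agent.Lib.Helper6.BNSt
open Cfsg.Agent.Lib.Helper6.CoxRed Cfsg.Agent.Lib.Helper27.GG
open scoped ComplexConjugate

/-! ## Part A: representation theory (no BN-pair) -/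
section A
variable {G : Type*} [Group G] [Finite G] {V : Type*} [AddCommGroup V] [Module ℂ V]
  [FiniteDimensional ℂ V]

alias sph_isSph := Cfsg.Agent.Lib.Helper23.GG.sph_isSph

alias sph_norm := Cfsg.Agent.Lib.Helper23.GG.sph_norm

end A

/-! ## Part D: Gelfand–Graev multiplicity one -/
section D
variable {G : Type*} [Group G] [Finite G] {P : Cfsg.BNPair G} {U : Subgroup G} {q : ℕ}

alias gg_eq_zero := Cfsg.Agent.Lib.Helper14.GG.gg_eq_zero

alias gg_degree := Cfsg.Agent.Lib.Helper19.GG.gg_degree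

end D

/-! ## Part B: spherical functions on a split (B,N)-pair (no representations) -/
section B
variable {G : Type*} [Group G] [Finite G] {P : Cfsg.BNPair G} {U : Subgroup G} {q : ℕ}

alias sph_H := Cfsg.Agent.Lib.Helper27.GG.sph_H

alias sph_mul_of_lt := Cfsg.Agent.Lib.Helper20.GG.sph_mul_of_lt

alias sph_rank_one := Cfsg.Agent.Lib.Helper27.GG.sph_rank_one

alias sph_lower := Cfsg.Agent.Lib.Helper20.GG.sph_lower

alias sph_sum_cells := Cfsg.Agent.Lib.Helper29.GG.sph_sum_cells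

alias len_w0_mul := Cfsg.Agent.Lib.Helper14.GG.len_w0_mul

alias sph_extremal := Cfsg.Agent.Lib.Helper20.GG.sph_extremal

alias sph_sum_parabolic := Cfsg.Agent.Lib.Helper10.GG.sph_sum_parabolic

end B

/-! ## Part C: the Chevalley groups -/
section C
open Cfsg.Lie Cfsg.Agent.Lib.Helper7 Cfsg.Agent.Lib.Helper6.ChevSt Cfsg.Agent.Lib.Helper6.ChevStX1

variable (D : ChevalleyDatum) (hD : D ∈ [chevG2, chevB2, chevD4, chevF4, chevE6, chevE7, chevE8])
variable (F : Type*) [Field F]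

variable [Fintype F]
include hD

alias chev_hHcomm := Cfsg.Agent.Lib.Helper6.GG.chev_hHcomm

alias chev_hXU := Cfsg.Agent.Lib.Helper24.GG.chev_hXU

alias chev_hXUs := Cfsg.Agent.Lib.Helper24.GG.chev_hXUs

alias chev_hcardX := Cfsg.Agent.Lib.Helper6.GG.chev_hcardX

alias chev_hsUs := Cfsg.Agent.Lib.Helper24.GG.chev_hsUs

alias chev_hrank1 := Cfsg.Agent.Lib.Helper27.GG.chev_hrank1

alias chev_hrank1_one := Cfsg.Agent.Lib.Helper27.GG.chev_hrank1_one

alias chev_hHgen := Cfsg.Agent.Lib.Helper27.GG.chev_hHgen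

alias chev_hpos := Cfsg.Agent.Lib.Helper11.GG.chev_hpos

alias chev_hcardU := Cfsg.Agent.Lib.Helper6.GG.chev_hcardU

alias chev_psi := Cfsg.Agent.Lib.Helper27.GG.chev_psi

end C

end Cfsg.Agent.Lib.Helper27.GGHub
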