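/-
helper27: assembly for S2318 (the Steinberg character is the only irreducible character of `p`-defect
zero of a Chevalley group): the abstract theorem `eq_stFun` for a split (B,N)-pair, from the leaves.
-/
import Mathlib
import Cfsg.Agent.Lib.Helper27.GGHub
import Cfsg.Agent.Lib.Helper6.BNStB
import Cfsg.Agent.Lib.Helper6.BNRedC
import Cfsg.Agent.Lib.Helper10.IrrOrtho
import Cfsg.Agent.Lib.Helper10.IndFun

set_option autoImplicit false

namespace Cfsg.Agent.Lib.Helper27.GGAsm

open Cfsg Cfsg.Agent.Lib.Helper3.BN Cfsg.Agent.Lib.Helper3.WordLen Cfsg.Agent.Lib.Helper6.BNSt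
open Cfsg.Agent.Lib.Helper6.CoxRed Cfsg.Agent.Lib.Helper27.GG Cfsg.Agent.Lib.Helper27
open scoped ComplexConjugate

variable {G : Type*} [Group G] [Fintype G] {P : Cfsg.BNPair G} {U : Subgroup G} {q : ℕ}

/-- the sum of a function over a subgroup containing `U` equals the sum of its spherical average -/
theorem sum_sph_subgroup (U Q : Subgroup G) (hUQ : U ≤ Q) (χ : G → ℂ) :
    ∑ᶠ x : Q, sph U χ (x : G) = ∑ᶠ x : Q, χ (x : G) := by
  classical
  have : Fintype Q := Fintype.ofFinite _
  have : Fintype U := Fintype.ofFinite _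
  rw [finsum_eq_sum_of_fintype, finsum_eq_sum_of_fintype]
  unfold sph
  simp_rw [finsum_eq_sum_of_fintype]
  rw [← Finset.mul_sum, Finset.sum_comm]
  have h : ∀ u : U, ∑ x : Q, χ ((x : G) * (u : G)) = ∑ x : Q, χ (x : G) := by
    intro u
    exact Fintype.sum_equiv (Equiv.mulRight (⟨(u : G), hUQ u.2⟩ : Q)) _ _ (fun x => rfl)
  rw [Finset.sum_congr rfl (fun u _ => h u), Finset.sum_const, Finset.card_univ, nsmul_eq_mul,
    ← Nat.card_eq_fintype_card, ← mul_assoc, inv_mul_cancel₀, one_mul]
  exact Nat.cast_ne_zero.mpr Nat.card_pos.ne'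

/-- **the abstract theorem**: in a split (B,N)-pair with a linear character of `U` nontrivial on all
fundamental root subgroups, an irreducible character vanishing on `U \ {1}` is the Steinberg function -/
theorem eq_stFun (R : SplitBN P U q) (ψ : U →* ℂˣ) (hψ : ∀ i, ∃ x : U, (x : G) ∈ R.X i ∧ ψ x ≠ 1)
    (Sfin : Finset G) (hSfin : (Sfin : Set G) = P.S) (χ : G → ℂ) (hχ : IsIrrCharacter G χ)
    (hvan : ∀ u ∈ U, u ≠ 1 → χ u = 0) : χ = stFun P Sfin := by
  classical
  have hχ' := hχ
  obtain ⟨n, ρ, hirr, rfl⟩ := hχ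
  have := hirr
  have hU0 : (Nat.card U : ℂ) ≠ 0 := Nat.cast_ne_zero.mpr Nat.card_pos.ne'
  have hdeg := GGHub.gg_degree R ψ hψ ρ hvan
  have h1 : sph U ρ.character 1 = 1 := by
    have : Fintype U := Fintype.ofFinite _
    unfold sph
    rw [finsum_eq_sum_of_fintype, Finset.sum_eq_single (1 : U)]
    · rw [Subgroup.coe_one, mul_one, hdeg, inv_mul_cancel₀ hU0]
    · intro u _ hu
      rw [one_mul]
      exact hvan u u.2 (fun h => hu (Subtype.ext h))
    · intro h; exact absurd (Finset.mem_univ _) h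
  set c := sph U ρ.character with hcdef
  have hc : IsSph U c := GGHub.sph_isSph ρ U h1
  have hfin : (Module.finrank ℂ (Fin n → ℂ) : ℂ) = (Nat.card U : ℂ) := by
    rw [← hdeg, Representation.char_one]
  have hnorm := GGHub.sph_norm ρ U h1
  rw [hfin] at hnorm
  have hext := GGHub.sph_extremal R hc hnorm
  have hs : ∀ i, c (R.sOf i) = -(q : ℂ)⁻¹ := fun i => ((GGHub.sph_rank_one R hc i).2 (hext i)).1
  have hH : ∀ h ∈ P.B ⊓ P.N, c h = 1 := by
    have key : ∀ h, h ∈ Subgroup.closure {h | h ∈ P.B ⊓ P.N ∧ ∃ i, ∃ x ∈ R.X i, x ≠ 1 ∧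
        ∃ u₁ ∈ U, ∃ u₂ ∈ U, R.sOf i * x * (R.sOf i)⁻¹ = u₁ * h * R.sOf i * u₂} →
        h ∈ P.B ⊓ P.N ∧ c h = 1 := by
      intro h hcl
      induction hcl using Subgroup.closure_induction with
      | mem x hx =>
        obtain ⟨hxH, i, hxi⟩ := hx
        exact ⟨hxH, ((GGHub.sph_rank_one R hc i).2 (hext i)).2 x hxH hxi⟩
      | one => exact ⟨Subgroup.one_mem _, hc.one⟩
      | mul x y _ _ hx hy =>
        refine ⟨Subgroup.mul_mem _ hx.1 hy.1, ?_⟩
        rw [((GGHub.sph_H R hc x hx.1).1 y), hx.2, hy.2, one_mul]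
      | inv x _ hx =>
        refine ⟨Subgroup.inv_mem _ hx.1, ?_⟩
        rw [hc.inv, hx.2, map_one]
    intro h hh
    exact (key h (R.hHgen hh)).2
  have hsum := GGHub.sph_sum_parabolic R hc hs hH
  -- the inner product with the Steinberg function
  have hcf : IsClassFunction G ρ.character :=
    Cfsg.Agent.Lib.Helper10.isClassFunction_of_isCharacter
      (Cfsg.Agent.Lib.Helper10.isCharacter_of_isIrrCharacter hχ')
  have hpar : ∀ J ∈ Sfin.powerset, classInner ρ.character
      (fixedPointCharacter (P.parabolic ((J : Finset G) : Set G))) = if J = ∅ then 1 else 0 := by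
    intro J hJ
    have hJS : ((J : Finset G) : Set G) ⊆ P.S := by
      rw [← hSfin]; exact Finset.coe_subset.mpr (Finset.mem_powerset.mp hJ)
    have : Fintype (P.parabolic ((J : Finset G) : Set G)) := Fintype.ofFinite _
    rw [fixedPointCharacter_eq_indFun, Cfsg.Agent.Lib.Helper10.classInner_indFun_right _ _ _ hcf]
    simp only [map_one, mul_one]
    have hUQ : U ≤ P.parabolic ((J : Finset G) : Set G) :=
      le_trans R.hUB (le_sup_left)
    have h2 := sum_sph_subgroup U _ hUQ ρ.character
    rw [finsum_eq_sum_of_fintype (fun x : P.parabolic ((J : Finset G) : Set G) => ρ.character x)] at h2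
    rw [← h2, hsum _ hJS]
    by_cases hJe : J = ∅
    · subst hJe
      rw [if_pos rfl, if_pos (by simp)]
      have : P.parabolic ((∅ : Finset G) : Set G) = P.B := by
        rw [Finset.coe_empty]; exact Cfsg.Agent.Lib.Helper6.BNSt.parabolic_empty P
      rw [this, inv_mul_cancel₀]
      exact Nat.cast_ne_zero.mpr Nat.card_pos.ne'
    · rw [if_neg hJe, if_neg (by simpa using hJe), mul_zero]
  have hinner : classInner ρ.character (stFun P Sfin) = 1 := by
    have hexp : classInner ρ.character (stFun P Sfin) =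
        ∑ J ∈ Sfin.powerset, (-1 : ℂ) ^ J.card * classInner ρ.character
          (fixedPointCharacter (P.parabolic ((J : Finset G) : Set G))) := by
      unfold classInner
      simp_rw [stFun_conj]
      unfold stFun
      simp_rw [Finset.mul_sum]
      rw [Finset.sum_comm]
      apply Finset.sum_congr rfl
      intro J _
      apply Finset.sum_congr rfl
      intro g _
      rw [fixedPointCharacter_apply, Complex.conj_natCast]
      ring
    rw [hexp, Finset.sum_congr rfl (fun J hJ => by rw [hpar J hJ])]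
    rw [Finset.sum_eq_single (∅ : Finset G)]
    · simp
    · intro J _ hJ
      rw [if_neg hJ, mul_zero]
    · intro h
      exact absurd (Finset.empty_mem_powerset _) h
  have hortho := Cfsg.Agent.Lib.Helper10.classInner_irr hχ' (isIrrCharacter_stFun P Sfin hSfin)
  rw [hinner] at hortho
  by_contra hne
  rw [if_neg hne] at hortho
  exact one_ne_zero hortho

end Cfsg.Agent.Lib.Helper27.GGAsm
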