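import Mathlib
import Cfsg.Agent.Lib.Helper18.Glaub2Defs
import Cfsg.Prelude.Def_Solvable
import Cfsg.Prelude.Def_CaseTheorems

/-! Helper27 library: leaf GLAUB2-IDX2 of helper18's S4385 market ("GLAUB2"): the index of the centralizer
of a normal abelian subgroup `K` of order 8 containing a central involution `z`, in a group `H` of order
`16 n`, `n` odd, is 6 (under the listed non-commuting conditions).  Route: `H / C` acts on the four cosets
of `⟨z⟩` in `K` (a subgroup of `S₄`, order dividing 24) with a kernel of exponent 2. -/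

set_option autoImplicit false
set_option linter.unusedVariables false

namespace Cfsg.Agent.Lib.Helper27.GLAUB2IDX2

open Cfsg Cfsg.Agent.Lib.Helper18.Sims3 Cfsg.Agent.Lib.Helper18.Glaub

variable {G : Type*} [Group G]

/-- the final arithmetic. -/
theorem arith (idx n i k : ℕ) (hn : Odd n) (h1 : idx ∣ 2 * n) (h2 : 2 ∣ idx) (h3 : idx ≠ 2)
    (h4 : idx = i * 2 ^ k) (h5 : i ∣ 24) : idx = 6 := by
  obtain ⟨m, rfl⟩ := h2
  have hmn : m ∣ n := Nat.dvd_of_mul_dvd_mul_left (by norm_num) h1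
  have hmodd : Odd m := Odd.of_dvd_nat hn hmn
  have hcop : ∀ j : ℕ, Nat.Coprime m (2 ^ j) := fun j =>
    Nat.Coprime.pow_right j (Nat.coprime_two_right.mpr hmodd)
  have hmi : m ∣ i := by
    have : m ∣ i * 2 ^ k := by rw [← h4]; exact dvd_mul_left m 2
    exact (hcop k).dvd_of_dvd_mul_right this
  have hm24 : m ∣ 3 * 2 ^ 3 := dvd_trans hmi (by norm_num; exact h5)
  have hm3 : m ∣ 3 := (hcop 3).dvd_of_dvd_mul_right hm24
  have hle : m ≤ 3 := Nat.le_of_dvd (by norm_num) hm3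
  interval_cases m
  · simp at hmodd
  · exact absurd rfl h3
  · exact absurd hmodd (by decide)
  · rfl

/-- LEAF IDX2 (index of the centralizer of a normal abelian subgroup of order 8 containing a
central involution). -/
theorem relIndex_centralizer_eight [Finite G] (H K : Subgroup G) (hKH : K ≤ H)
    (hN : H ≤ Subgroup.normalizer (K : Set G)) (hK : Nat.card ↥K = 8)
    (hKc : ∀ u ∈ K, ∀ v ∈ K, u * v = v * u)
    (n : ℕ) (hn : Odd n) (hcard : Nat.card ↥H = 16 * n)
    (z : G) (hzK : z ∈ K) (hz1 : z ≠ 1) (hz2 : z * z = 1) (hzc : ∀ h ∈ H, h * z = z * h)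
    (a b k1 k2 : G) (haH : a ∈ H) (hbH : b ∈ H) (ha : a * a = 1) (hk1 : k1 ∈ K) (hk2 : k2 ∈ K)
    (hak2 : a * k2 ≠ k2 * a) (hak1 : a * k1 = k1 * a) (hbk1 : b * k1 ≠ k1 * b) :
    (Subgroup.centralizer (K : Set G) ⊓ H).relIndex H = 6 := by
  classical
  have hmemC : ∀ h : ↥H, h ∈ (Subgroup.centralizer (K : Set G) ⊓ H).subgroupOf H ↔
      ∀ k ∈ K, k * (h : G) = (h : G) * k := by
    intro h
    rw [Subgroup.mem_subgroupOf, Subgroup.mem_inf, Subgroup.mem_centralizer_iff]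
    constructor
    · intro hh k hk
      exact hh.1 k hk
    · intro hh
      exact ⟨fun k hk => hh k hk, h.2⟩
  have hconjK : ∀ h ∈ H, ∀ k ∈ K, h * k * h⁻¹ ∈ K := fun h hh k hk =>
    (Subgroup.mem_normalizer_iff.mp (hN hh) k).mp hk
  have hconjK' : ∀ h ∈ H, ∀ k ∈ K, h⁻¹ * k * h ∈ K := by
    intro h hh k hk
    have := hconjK h⁻¹ (H.inv_mem hh) k hk
    rwa [inv_inv] at this
  have hCn : ((Subgroup.centralizer (K : Set G) ⊓ H).subgroupOf H).Normal := by
    constructor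
    intro c hc h
    rw [hmemC] at hc ⊢
    intro k hk
    have h1 := hc ((h : G)⁻¹ * k * (h : G)) (hconjK' h h.2 k hk)
    show k * ((h : G) * (c : G) * (h : G)⁻¹) = (h : G) * (c : G) * (h : G)⁻¹ * k
    calc k * ((h : G) * (c : G) * (h : G)⁻¹)
        = (h : G) * (((h : G)⁻¹ * k * (h : G)) * (c : G)) * (h : G)⁻¹ := by group
      _ = (h : G) * ((c : G) * ((h : G)⁻¹ * k * (h : G))) * (h : G)⁻¹ := by rw [h1]
      _ = (h : G) * (c : G) * (h : G)⁻¹ * k := by group
  show ((Subgroup.centralizer (K : Set G) ⊓ H).subgroupOf H).index = 6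
  generalize hC'def : (Subgroup.centralizer (K : Set G) ⊓ H).subgroupOf H = C' at hmemC hCn ⊢
  -- the elements a, b
  have haC : (⟨a, haH⟩ : ↥H) ∉ C' := by
    intro h
    rw [hmemC] at h
    exact hak2 (h k2 hk2).symm
  have hbC : (⟨b, hbH⟩ : ↥H) ∉ C' := by
    intro h
    rw [hmemC] at h
    exact hbk1 (h k1 hk1).symm
  have habC : (⟨a, haH⟩ * ⟨b, hbH⟩ : ↥H) ∉ C' := by
    intro h
    rw [hmemC] at h
    have h1 : k1 * (a * b) = a * b * k1 := h k1 hk1
    apply hbk1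
    have h2 : a * (b * k1) = a * (k1 * b) := by
      rw [← mul_assoc, ← h1, ← mul_assoc, ← hak1, mul_assoc]
    exact mul_left_cancel h2
  -- idx ≠ 2
  have hidx2 : C'.index ≠ 2 := by
    intro h2
    have := (Subgroup.mul_mem_iff_of_index_two h2 (a := (⟨a, haH⟩ : ↥H)) (b := ⟨b, hbH⟩))
    exact habC (this.mpr ⟨fun h => absurd h haC, fun h => absurd h hbC⟩)
  -- 2 ∣ idx
  have heven : 2 ∣ C'.index := by
    by_contra hodd
    have hodd' : Odd C'.index := Nat.odd_iff.mpr (by omega)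
    obtain ⟨j, hj⟩ := hodd'
    have hmem := C'.pow_index_mem (⟨a, haH⟩ : ↥H)
    have ha2 : (⟨a, haH⟩ : ↥H) ^ 2 = 1 := by
      apply Subtype.ext
      rw [pow_two]
      exact ha
    rw [hj, pow_succ, pow_mul, ha2, one_pow, one_mul] at hmem
    exact haC hmem
  -- idx ∣ 2 n
  have hdvd : C'.index ∣ 2 * n := by
    have h1 := Subgroup.index_mul_card C'
    have hK' : K.subgroupOf H ≤ C' := by
      intro k hk
      rw [hmemC]
      intro u hu
      exact hKc u hu k (Subgroup.mem_subgroupOf.mp hk)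
    have hcK' : Nat.card ↥(K.subgroupOf H) = 8 := by
      rw [← hK]
      exact Nat.card_congr (Subgroup.subgroupOfEquivOfLe hKH).toEquiv
    have h8 : 8 ∣ Nat.card ↥C' := by
      rw [← hcK']
      exact Subgroup.card_dvd_of_le hK'
    obtain ⟨c, hc⟩ := h8
    rw [hc, hcard] at h1
    refine ⟨c, ?_⟩
    have : 8 * (C'.index * c) = 8 * (2 * n) := by
      calc 8 * (C'.index * c) = C'.index * (8 * c) := by ring
        _ = 16 * n := h1
        _ = 8 * (2 * n) := by ring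
    exact (Nat.eq_of_mul_eq_mul_left (by norm_num) this).symm
  -- the action on the cosets of `⟨z⟩` in `K`
  let z' : ↥K := ⟨z, hzK⟩
  have hz'2 : z' * z' = 1 := Subtype.ext hz2
  have hz'1 : z' ≠ 1 := fun h => hz1 (congrArg Subtype.val h)
  let act : MulAction ↥H ↥K :=
    { smul := fun h k => ⟨(h : G) * k * (h : G)⁻¹, hconjK h h.2 k k.2⟩
      one_smul := fun k => Subtype.ext (by
        show ((1 : ↥H) : G) * (k : G) * ((1 : ↥H) : G)⁻¹ = k
        simp)
      mul_smul := fun h h' k => Subtype.ext (by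
        show ((h * h' : ↥H) : G) * (k : G) * ((h * h' : ↥H) : G)⁻¹ =
          (h : G) * ((h' : G) * (k : G) * (h' : G)⁻¹) * (h : G)⁻¹
        rw [Subgroup.coe_mul]
        group) }
  have hsmul : ∀ (h : ↥H) (k : ↥K), ((h • k : ↥K) : G) = (h : G) * (k : G) * (h : G)⁻¹ :=
    fun h k => rfl
  have hsmul_mul : ∀ (h : ↥H) (k k' : ↥K), h • (k * k') = h • k * h • k' := by
    intro h k k'
    apply Subtype.ext
    rw [Subgroup.coe_mul, hsmul, hsmul, hsmul, Subgroup.coe_mul]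
    group
  have hZsq : ∀ ζ ∈ Subgroup.zpowers z', ζ * ζ = 1 := by
    intro ζ hζ
    obtain ⟨i, rfl⟩ := Subgroup.mem_zpowers_iff.mp hζ
    rw [← zpow_add, ← two_mul, zpow_mul, zpow_two, hz'2, one_zpow]
  have hZfix : ∀ (h : ↥H) (ζ : ↥K), ζ ∈ Subgroup.zpowers z' → h • ζ = ζ := by
    intro h ζ hζ
    obtain ⟨i, rfl⟩ := Subgroup.mem_zpowers_iff.mp hζ
    apply Subtype.ext
    rw [hsmul]
    have hcoe : ((z' ^ i : ↥K) : G) = z ^ i := by
      rw [Subgroup.coe_zpow]
    rw [hcoe]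
    have hc : Commute (h : G) z := hzc h h.2
    rw [(hc.zpow_right i).eq, mul_inv_cancel_right]
  have hQA : MulAction.QuotientAction ↥H (Subgroup.zpowers z') := ⟨by
    intro h k k' hkk'
    have e : (h • k)⁻¹ * h • k' = h • (k⁻¹ * k') := by
      apply Subtype.ext
      rw [Subgroup.coe_mul, Subgroup.coe_inv, hsmul, hsmul, hsmul, Subgroup.coe_mul,
        Subgroup.coe_inv]
      group
    rw [e, hZfix h _ hkk']
    exact hkk'⟩
  let ψ : ↥H →* Equiv.Perm (↥K ⧸ Subgroup.zpowers z') :=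
    MulAction.toPermHom ↥H (↥K ⧸ Subgroup.zpowers z')
  have hψ : ∀ (h : ↥H) (k : ↥K), ψ h (QuotientGroup.mk k) = QuotientGroup.mk (h • k) :=
    fun h k => rfl
  have hCker : C' ≤ ψ.ker := by
    intro h hh
    rw [MonoidHom.mem_ker]
    ext q
    induction q using QuotientGroup.induction_on with
    | H k =>
      rw [hψ, Equiv.Perm.coe_one, id]
      congr 1
      apply Subtype.ext
      rw [hsmul]
      rw [hmemC] at hh
      rw [← hh k k.2, mul_inv_cancel_right]
  have hkersq : ∀ h : ↥H, h ∈ ψ.ker → h * h ∈ C' := by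
    intro h hh
    rw [MonoidHom.mem_ker] at hh
    rw [hmemC]
    intro k hk
    have h1 : ψ h (QuotientGroup.mk (⟨k, hk⟩ : ↥K)) = QuotientGroup.mk (⟨k, hk⟩ : ↥K) := by
      rw [hh]
      rfl
    rw [hψ] at h1
    have h2 : (⟨k, hk⟩ : ↥K)⁻¹ * (h • (⟨k, hk⟩ : ↥K)) ∈ Subgroup.zpowers z' :=
      QuotientGroup.eq.mp h1.symm
    obtain ⟨ζ, hζ, h3⟩ : ∃ ζ ∈ Subgroup.zpowers z', h • (⟨k, hk⟩ : ↥K) = ⟨k, hk⟩ * ζ :=
      ⟨_, h2, by rw [mul_inv_cancel_left]⟩
    have h4 : (h * h) • (⟨k, hk⟩ : ↥K) = ⟨k, hk⟩ := by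
      rw [mul_smul, h3, hsmul_mul, hZfix h _ hζ, h3, mul_assoc, hZsq _ hζ, mul_one]
    have h5 := congrArg Subtype.val h4
    rw [hsmul] at h5
    show k * ((h * h : ↥H) : G) = ((h * h : ↥H) : G) * k
    rw [mul_inv_eq_iff_eq_mul] at h5
    exact h5.symm
  -- descend to the quotient
  let ψb : ↥H ⧸ C' →* Equiv.Perm (↥K ⧸ Subgroup.zpowers z') := QuotientGroup.lift C' ψ hCker
  have hker2 : IsPGroup 2 ↥ψb.ker := by
    intro q
    refine ⟨1, ?_⟩
    obtain ⟨q, hq⟩ := q
    obtain ⟨h, rfl⟩ := QuotientGroup.mk_surjective q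
    apply Subtype.ext
    rw [pow_one, pow_two]
    show (QuotientGroup.mk h : ↥H ⧸ C') * QuotientGroup.mk h = 1
    rw [← QuotientGroup.mk_mul, QuotientGroup.eq_one_iff]
    apply hkersq
    rw [MonoidHom.mem_ker] at hq ⊢
    exact hq
  have : Fact (Nat.Prime 2) := ⟨Nat.prime_two⟩
  obtain ⟨e, he⟩ := IsPGroup.iff_card.mp hker2
  have hcardQ : Nat.card (↥H ⧸ C') = C'.index := (Subgroup.index_eq_card C').symm
  have hsplit : Nat.card ↥ψb.range * 2 ^ e = C'.index := by
    rw [← hcardQ, ← he, ← Subgroup.index_ker]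
    exact Subgroup.index_mul_card ψb.ker
  have hZcard : Nat.card ↥(Subgroup.zpowers z') = 2 := by
    rw [Nat.card_zpowers]
    exact orderOf_eq_prime (by rw [pow_two]; exact hz'2) hz'1
  have hquot : Nat.card (↥K ⧸ Subgroup.zpowers z') = 4 := by
    have := Subgroup.card_eq_card_quotient_mul_card_subgroup (Subgroup.zpowers z')
    rw [hK, hZcard] at this
    omega
  have hperm : Nat.card (Equiv.Perm (↥K ⧸ Subgroup.zpowers z')) = 24 := by
    rw [Nat.card_perm, hquot]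
    rfl
  have hrange : Nat.card ↥ψb.range ∣ 24 := by
    rw [← hperm]
    exact Subgroup.card_subgroup_dvd_card _
  exact arith C'.index n (Nat.card ↥ψb.range) e hn hdvd heven hidx2 hsplit.symm hrange

end Cfsg.Agent.Lib.Helper27.GLAUB2IDX2
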