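import Mathlib

/-!
Nilpotent minimal covers of finite groups with trivial centre (Bryce–Serena), helper27.

Key tool: in a minimal cover, two distinct members cannot lie in a common proper subgroup
(`replace_one`).  With abelian Sylow `p`-subgroups and nilpotent members, every member containing
a `p`-element `x` centralizes `x`; hence any nontrivial `p`-element lies in exactly one member.
-/

set_option autoImplicit false

namespace Cfsg.Agent.Lib.Helper27.NilpCover

open Subgroup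
open scoped Pointwise

section General

variable {G : Type*} [Group G]

/-- the minimal-cover hypothesis in the form used in the statements -/
def IsMinCover (𝓐 : Finset (Subgroup G)) : Prop :=
  ((∀ A ∈ 𝓐, A ≠ ⊤) ∧ (∀ g : G, ∃ A ∈ 𝓐, g ∈ A)) ∧
  (∀ 𝓑 : Finset (Subgroup G), (∀ A ∈ 𝓑, A ≠ ⊤) ∧ (∀ g : G, ∃ A ∈ 𝓑, g ∈ A) → 𝓐.card ≤ 𝓑.card)

/-- two members of a minimal cover lying in a common proper subgroup coincide -/
theorem replace_one {𝓐 : Finset (Subgroup G)} (h : IsMinCover 𝓐) {H : Subgroup G} (hH : H ≠ ⊤)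
    {A B : Subgroup G} (hA : A ∈ 𝓐) (hB : B ∈ 𝓐) (hAH : A ≤ H) (hBH : B ≤ H) : A = B := by
  classical
  by_contra hne
  let 𝓑 : Finset (Subgroup G) := insert H ((𝓐.erase A).erase B)
  have hcov : (∀ C ∈ 𝓑, C ≠ ⊤) ∧ (∀ g : G, ∃ C ∈ 𝓑, g ∈ C) := by
    constructor
    · intro C hC
      rcases Finset.mem_insert.mp hC with rfl | hC
      · exact hH
      · exact h.1.1 C (Finset.mem_of_mem_erase (Finset.mem_of_mem_erase hC))
    · intro g
      obtain ⟨C, hC, hg⟩ := h.1.2 g
      by_cases hCA : C = A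
      · exact ⟨H, Finset.mem_insert_self _ _, hAH (hCA ▸ hg)⟩
      by_cases hCB : C = B
      · exact ⟨H, Finset.mem_insert_self _ _, hBH (hCB ▸ hg)⟩
      exact ⟨C, Finset.mem_insert_of_mem
        (Finset.mem_erase.mpr ⟨hCB, Finset.mem_erase.mpr ⟨hCA, hC⟩⟩), hg⟩
  have hcard := h.2 𝓑 hcov
  have h1 : 𝓑.card ≤ ((𝓐.erase A).erase B).card + 1 := Finset.card_insert_le _ _
  have h2 : ((𝓐.erase A).erase B).card = (𝓐.erase A).card - 1 :=
    Finset.card_erase_of_mem (Finset.mem_erase.mpr ⟨Ne.symm hne, hB⟩)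
  have h3 : (𝓐.erase A).card = 𝓐.card - 1 := Finset.card_erase_of_mem hA
  have h4 : 1 < 𝓐.card := Finset.one_lt_card.mpr ⟨A, hA, B, hB, hne⟩
  omega

/-- centralizers of nontrivial elements are proper when the centre is trivial -/
theorem centralizer_ne_top (hZ : center G = ⊥) {x : G} (hx : x ≠ 1) :
    centralizer ({x} : Set G) ≠ ⊤ := by
  intro htop
  apply hx
  have : x ∈ center G := by
    rw [Subgroup.mem_center_iff]
    intro g
    have hg : g ∈ centralizer ({x} : Set G) := htop ▸ Subgroup.mem_top g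
    rw [Subgroup.mem_centralizer_iff] at hg
    exact (hg x rfl).symm
  rw [hZ] at this
  exact Subgroup.mem_bot.mp this

end General

section Nilp

/-- in a finite nilpotent group with abelian Sylow `p`-subgroup, `p`-elements are central -/
theorem mem_center_of_nilpotent {H : Type*} [Group H] [Finite H] [hN : Group.IsNilpotent H]
    {p : ℕ} [Fact p.Prime] (S : Sylow p H) (hS : ∀ a ∈ S, ∀ b ∈ S, a * b = b * a)
    {z : H} (hz : z ∈ S) : z ∈ center H := by
  have hC : centralizer ({z} : Set H) = ⊤ := by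
    rw [← Subgroup.index_eq_one]
    by_contra hne
    obtain ⟨q, hq, hdvd⟩ := Nat.exists_prime_and_dvd hne
    haveI := Fact.mk hq
    let T : Sylow q H := default
    have hT : (T : Subgroup H) ≤ centralizer ({z} : Set H) := by
      intro t ht
      rw [Subgroup.mem_centralizer_iff]
      intro y hy
      rw [Set.mem_singleton_iff] at hy
      subst hy
      by_cases hqp : q = p
      · subst hqp
        have hTS : T = S := by
          have h1 := (IsPGroup.inf_normalizer_sylow T.2 S)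
          have h2 : (T : Subgroup H) ≤ normalizer (S : Set H) := by
            have : normalizer ((S : Subgroup H) : Set H) = ⊤ := Subgroup.normalizer_eq_top (S : Subgroup H)
            exact this ▸ le_top
          have h3 : (T : Subgroup H) ≤ S := by
            rw [inf_eq_left.mpr h2] at h1
            exact inf_eq_left.mp h1.symm
          exact Sylow.ext (T.3 S.2 h3).symm
        exact hS y (hTS ▸ hz) t (hTS ▸ ht)
      · have hdisj : Disjoint (T : Subgroup H) S := IsPGroup.disjoint_of_ne q p hqp _ _ T.2 S.2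
        exact (Subgroup.commute_of_normal_of_disjoint _ _ inferInstance inferInstance hdisj
          t y ht hz).eq.symm
    exact T.not_dvd_index (dvd_trans hdvd (Subgroup.index_dvd_of_le hT))
  rw [Subgroup.mem_center_iff]
  intro g
  have hg : g ∈ centralizer ({z} : Set H) := hC ▸ Subgroup.mem_top g
  rw [Subgroup.mem_centralizer_iff] at hg
  exact (hg z rfl).symm

end Nilp

section Main

variable {G : Type*} [Group G] [Finite G] {p : ℕ} [Fact p.Prime]

/-- standing hypotheses -/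
structure Hyp (𝓐 : Finset (Subgroup G)) (p : ℕ) [Fact p.Prime] : Prop where
  hmin : IsMinCover 𝓐
  hnil : ∀ A ∈ 𝓐, Group.IsNilpotent ↥A
  hZ : center G = ⊥
  hab : ∀ Q : Sylow p G, ∀ a ∈ Q, ∀ b ∈ Q, a * b = b * a

variable {𝓐 : Finset (Subgroup G)}

/-- a nilpotent member containing a `p`-element centralizes it -/
theorem le_centralizer (h : Hyp 𝓐 p) {A : Subgroup G} (hA : A ∈ 𝓐) {x : G} (hxA : x ∈ A)
    (hx : ∃ k : ℕ, x ^ p ^ k = 1) : A ≤ centralizer ({x} : Set G) := by
  haveI := h.hnil A hA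
  obtain ⟨k, hk⟩ := hx
  have hpg : IsPGroup p (zpowers (⟨x, hxA⟩ : A)) := by
    rintro ⟨y, hy⟩
    obtain ⟨n, rfl⟩ := Subgroup.mem_zpowers_iff.mp hy
    refine ⟨k, Subtype.ext (Subtype.ext ?_)⟩
    simp only [Subgroup.coe_pow, Subgroup.coe_zpow, Subgroup.coe_one]
    rw [← zpow_natCast, ← zpow_mul, mul_comm, zpow_mul, zpow_natCast, hk, one_zpow]
  obtain ⟨S, hS⟩ := hpg.exists_le_sylow
  obtain ⟨Q, hQ⟩ := (S.2.map A.subtype).exists_le_sylow
  have hSab : ∀ a ∈ S, ∀ b ∈ S, a * b = b * a := by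
    intro a ha b hb
    apply Subtype.ext
    have ha' : (a : G) ∈ Q := hQ (Subgroup.mem_map_of_mem A.subtype ha)
    have hb' : (b : G) ∈ Q := hQ (Subgroup.mem_map_of_mem A.subtype hb)
    exact h.hab Q _ ha' _ hb'
  have hz := mem_center_of_nilpotent S hSab (hS (Subgroup.mem_zpowers (⟨x, hxA⟩ : A)))
  intro a ha
  rw [Subgroup.mem_centralizer_iff]
  intro y hy
  rw [Set.mem_singleton_iff] at hy
  subst hy
  have := Subgroup.mem_center_iff.mp hz ⟨a, ha⟩
  exact (congrArg Subtype.val this).symm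

/-- a nontrivial `p`-element lies in a unique member -/
theorem eq_of_mem (h : Hyp 𝓐 p) {x : G} (hx1 : x ≠ 1) (hxp : ∃ k : ℕ, x ^ p ^ k = 1)
    {A B : Subgroup G} (hA : A ∈ 𝓐) (hB : B ∈ 𝓐) (hxA : x ∈ A) (hxB : x ∈ B) : A = B :=
  replace_one h.hmin (centralizer_ne_top h.hZ hx1) hA hB (le_centralizer h hA hxA hxp)
    (le_centralizer h hB hxB hxp)

theorem isPElt_of_mem (Q : Sylow p G) {x : G} (hx : x ∈ Q) : ∃ k : ℕ, x ^ p ^ k = 1 := by
  obtain ⟨k, hk⟩ := Q.2 ⟨x, hx⟩
  exact ⟨k, by simpa using congrArg Subtype.val hk⟩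

/-- **Key lemma**: a Sylow `p`-subgroup which is not elementary abelian or has order `p` lies in a
member of the cover. -/
theorem exists_le (h : Hyp 𝓐 p) (Q : Sylow p G)
    (hQ : (∃ a ∈ Q, a ^ p ≠ 1) ∨ Nat.card Q = p) : ∃ A ∈ 𝓐, (Q : Subgroup G) ≤ A := by
  have hp : p.Prime := Fact.out
  rcases hQ with ⟨a, ha, hap⟩ | hcard
  · -- an element of order `p`
    have ha1 : a ≠ 1 := by rintro rfl; exact hap (one_pow p)
    obtain ⟨k, hk⟩ := isPElt_of_mem Q ha
    have hord : orderOf a ∣ p ^ k := orderOf_dvd_of_pow_eq_one hk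
    obtain ⟨j, -, hj⟩ := (Nat.dvd_prime_pow hp).mp hord
    have hj0 : j ≠ 0 := by
      rintro rfl
      rw [pow_zero, orderOf_eq_one_iff] at hj
      exact ha1 hj
    have hpd : p ∣ orderOf a := by rw [hj]; exact dvd_pow_self p hj0
    set u₀ := a ^ (orderOf a / p) with hu₀
    have hu₀ord : orderOf u₀ = p :=
      orderOf_pow_orderOf_div (by rw [hj]; exact (pow_pos hp.pos j).ne') hpd
    have hu₀1 : u₀ ≠ 1 := by
      intro h1
      rw [h1, orderOf_one] at hu₀ord
      exact hp.one_lt.ne hu₀ord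
    have hu₀p : u₀ ^ p = 1 := by rw [← hu₀ord]; exact pow_orderOf_eq_one u₀
    have hu₀Q : u₀ ∈ Q := (Q : Subgroup G).pow_mem ha _
    obtain ⟨A, hA, hu₀A⟩ := h.hmin.1.2 u₀
    -- claim
    have claim : ∀ y ∈ Q, y ^ p ≠ 1 → ∀ B ∈ 𝓐, y ∈ B → ∀ u ∈ Q, u ^ p = 1 → u ∈ B := by
      intro y hy hyp B hB hyB u hu hup
      obtain ⟨C, hC, hyuC⟩ := h.hmin.1.2 (y * u)
      have hpow : (y * u) ^ p = y ^ p := by
        rw [(show Commute y u from h.hab Q y hy u hu).mul_pow, hup, mul_one]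
      have hzC : y ^ p ∈ C := hpow ▸ C.pow_mem hyuC p
      have hzB : y ^ p ∈ B := B.pow_mem hyB p
      have hCB : C = B :=
        eq_of_mem h hyp (isPElt_of_mem Q ((Q : Subgroup G).pow_mem hy p)) hC hB hzC hzB
      have : y⁻¹ * (y * u) ∈ B := B.mul_mem (B.inv_mem hyB) (hCB ▸ hyuC)
      simpa using this
    refine ⟨A, hA, ?_⟩
    intro y hy
    by_cases hyp : y ^ p = 1
    · -- use `a`
      obtain ⟨B, hB, haB⟩ := h.hmin.1.2 a
      have h1 : u₀ ∈ B := claim a ha hap B hB haB u₀ hu₀Q hu₀p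
      have hBA : B = A := eq_of_mem h hu₀1 (isPElt_of_mem Q hu₀Q) hB hA h1 hu₀A
      exact hBA ▸ claim a ha hap B hB haB y hy hyp
    · obtain ⟨B, hB, hyB⟩ := h.hmin.1.2 y
      have h1 : u₀ ∈ B := claim y hy hyp B hB hyB u₀ hu₀Q hu₀p
      have hBA : B = A := eq_of_mem h hu₀1 (isPElt_of_mem Q hu₀Q) hB hA h1 hu₀A
      exact hBA ▸ hyB
  · -- prime order: cyclic
    have hne : ∃ x : (Q : Subgroup G), x ≠ 1 := by
      by_contra hall
      have hall : ∀ x : (Q : Subgroup G), x = 1 := fun x => by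
        by_contra hx; exact hall ⟨x, hx⟩
      have : Nat.card (Q : Subgroup G) = 1 := by
        haveI : Subsingleton (Q : Subgroup G) := ⟨fun a b => (hall a).trans (hall b).symm⟩
        exact Nat.card_unique
      rw [hcard] at this
      exact hp.one_lt.ne' this
    obtain ⟨x, hx⟩ := hne
    have htop : zpowers x = ⊤ := zpowers_eq_top_of_prime_card hcard hx
    obtain ⟨A, hA, hxA⟩ := h.hmin.1.2 (x : G)
    refine ⟨A, hA, ?_⟩
    intro y hy
    have : (⟨y, hy⟩ : (Q : Subgroup G)) ∈ zpowers x := htop ▸ Subgroup.mem_top _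
    obtain ⟨n, hn⟩ := Subgroup.mem_zpowers_iff.mp this
    have hn' : (x : G) ^ n = y := by simpa using congrArg Subtype.val hn
    exact hn' ▸ A.zpow_mem hxA n

/-- membership in a conjugate Sylow subgroup -/
theorem mem_smul_iff (g : G) (P : Sylow p G) (x : G) : x ∈ g • P ↔ g⁻¹ * x * g ∈ P := by
  change x ∈ MulAut.conj g • (P : Subgroup G) ↔ _
  rw [Subgroup.mem_pointwise_smul_iff_inv_smul_mem]
  have : (MulAut.conj g)⁻¹ • x = g⁻¹ * x * g := by simp [MulAut.smul_def]
  rw [this]; exact Iff.rfl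

/-- the Sylow hypothesis transfers to all conjugates -/
theorem hyp_all (P : Sylow p G) (hP : (∃ a ∈ P, a ^ p ≠ 1) ∨ Nat.card P = p) (Q : Sylow p G) :
    (∃ a ∈ Q, a ^ p ≠ 1) ∨ Nat.card Q = p := by
  obtain ⟨g, rfl⟩ := MulAction.exists_smul_eq G P Q
  rcases hP with ⟨a, ha, hap⟩ | hc
  · left
    refine ⟨g * a * g⁻¹, ?_, ?_⟩
    · rw [mem_smul_iff]
      simpa [mul_assoc] using ha
    · intro h1
      apply hap
      have : g * a ^ p * g⁻¹ = 1 := by rw [← conj_pow]; exact h1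
      have h2 : a ^ p = g⁻¹ * (g * a ^ p * g⁻¹) * g := by group
      rw [h2, this]; group
  · right
    exact (Sylow.card_eq_multiplicity _).trans ((Sylow.card_eq_multiplicity P).symm.trans hc)

theorem abelian_all (P : Sylow p G) (hP : ∀ a ∈ P, ∀ b ∈ P, a * b = b * a) (Q : Sylow p G) :
    ∀ a ∈ Q, ∀ b ∈ Q, a * b = b * a := by
  obtain ⟨g, rfl⟩ := MulAction.exists_smul_eq G P Q
  intro a ha b hb
  rw [mem_smul_iff] at ha hb
  have := hP _ ha _ hb
  have h1 : a * b = g * ((g⁻¹ * a * g) * (g⁻¹ * b * g)) * g⁻¹ := by group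
  have h2 : b * a = g * ((g⁻¹ * b * g) * (g⁻¹ * a * g)) * g⁻¹ := by group
  rw [h1, h2, this]

theorem exists_ne_one (Q : Sylow p G) (hQ : (∃ a ∈ Q, a ^ p ≠ 1) ∨ Nat.card Q = p) :
    ∃ x ∈ Q, x ≠ 1 := by
  have hp : p.Prime := Fact.out
  rcases hQ with ⟨a, ha, hap⟩ | hcard
  · exact ⟨a, ha, by rintro rfl; exact hap (one_pow p)⟩
  · by_contra hall
    have hall : ∀ x : (Q : Subgroup G), x = 1 := fun x => by
      by_contra hx
      exact hall ⟨x.1, x.2, fun h => hx (Subtype.ext h)⟩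
    have : Nat.card (Q : Subgroup G) = 1 := by
      haveI : Subsingleton (Q : Subgroup G) := ⟨fun a b => (hall a).trans (hall b).symm⟩
      exact Nat.card_unique
    rw [hcard] at this
    exact hp.one_lt.ne' this

/-- a `p`-element normalizing a Sylow `p`-subgroup lies in it -/
theorem mem_of_mem_normalizer (Q : Sylow p G) {y : G} (hy : y ∈ normalizer ((Q : Subgroup G) : Set G))
    (hyp : ∃ k : ℕ, y ^ p ^ k = 1) : y ∈ Q := by
  obtain ⟨k, hk⟩ := hyp
  have hpg : IsPGroup p (zpowers y) := by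
    rintro ⟨w, hw⟩
    obtain ⟨n, rfl⟩ := Subgroup.mem_zpowers_iff.mp hw
    refine ⟨k, Subtype.ext ?_⟩
    simp only [Subgroup.coe_pow, Subgroup.coe_one]
    rw [← zpow_natCast, ← zpow_mul, mul_comm, zpow_mul, zpow_natCast, hk, one_zpow]
  have h1 : zpowers y ⊓ normalizer ((Q : Subgroup G) : Set G) = zpowers y ⊓ Q :=
    hpg.inf_normalizer_sylow Q
  have h2 : zpowers y ≤ normalizer ((Q : Subgroup G) : Set G) := by
    rw [Subgroup.zpowers_le]; exact hy
  rw [inf_eq_left.mpr h2] at h1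
  exact (inf_eq_left.mp h1.symm) (Subgroup.mem_zpowers y)

/-- decomposition into `p`-part and `p'`-part, both powers of the element -/
theorem exists_parts (c : G) : ∃ i j : ℤ, c = c ^ i * c ^ j ∧ (∃ k : ℕ, (c ^ i) ^ p ^ k = 1) ∧
    ∃ m : ℕ, m.Coprime p ∧ (c ^ j) ^ m = 1 := by
  have hp : p.Prime := Fact.out
  obtain ⟨a, m, hndvd, hn⟩ := Nat.exists_eq_pow_mul_and_not_dvd (orderOf_pos c).ne' p hp.ne_one
  have hcop : Nat.Coprime (p ^ a) m :=
    Nat.Coprime.pow_left a ((Nat.Prime.coprime_iff_not_dvd hp).mpr hndvd)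
  have hbez := Int.gcd_eq_gcd_ab (p ^ a : ℕ) m
  rw [Int.gcd_natCast_natCast, hcop.gcd_eq_one] at hbez
  obtain ⟨A, hA⟩ : ∃ A : ℤ, A = Int.gcdA (p ^ a : ℕ) m := ⟨_, rfl⟩
  obtain ⟨B, hB⟩ : ∃ B : ℤ, B = Int.gcdB (p ^ a : ℕ) m := ⟨_, rfl⟩
  rw [← hA, ← hB] at hbez
  have hgn : ∀ e : ℤ, c ^ (((p ^ a : ℕ) : ℤ) * (m : ℤ) * e) = 1 := by
    intro e
    rw [zpow_mul, ← Nat.cast_mul, zpow_natCast, ← hn, pow_orderOf_eq_one, one_zpow]
  refine ⟨(m : ℤ) * B, ((p ^ a : ℕ) : ℤ) * A, ?_, ⟨a, ?_⟩, ⟨m, ?_, ?_⟩⟩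
  · rw [← zpow_add, add_comm, ← hbez]
    simp
  · rw [← zpow_natCast, ← zpow_mul]
    have : (m : ℤ) * B * ((p ^ a : ℕ) : ℤ) = ((p ^ a : ℕ) : ℤ) * (m : ℤ) * B := by ring
    rw [this]; exact hgn B
  · exact Nat.Coprime.symm ((Nat.Prime.coprime_iff_not_dvd hp).mpr hndvd)
  · rw [← zpow_natCast, ← zpow_mul]
    have : ((p ^ a : ℕ) : ℤ) * A * (m : ℤ) = ((p ^ a : ℕ) : ℤ) * (m : ℤ) * A := by ring
    rw [this]; exact hgn A

/-- two Sylow subgroups in a common member coincide -/
theorem sylow_eq_of_le (h : Hyp 𝓐 p) {A : Subgroup G} (hA : A ∈ 𝓐) {Q Q' : Sylow p G}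
    (hQ : (Q : Subgroup G) ≤ A) (hQ' : (Q' : Subgroup G) ≤ A) : Q = Q' := by
  have hAN : A ≤ normalizer ((Q : Subgroup G) : Set G) := by
    refine le_trans ?_ (Subgroup.centralizer_le_normalizer _)
    intro a ha
    rw [Subgroup.mem_centralizer_iff]
    intro x hx
    have := le_centralizer h hA (hQ hx) (isPElt_of_mem Q hx) ha
    rw [Subgroup.mem_centralizer_iff] at this
    exact this x rfl
  have h1 : (Q' : Subgroup G) ⊓ normalizer ((Q : Subgroup G) : Set G) = (Q' : Subgroup G) ⊓ Q :=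
    Q'.2.inf_normalizer_sylow Q
  rw [inf_eq_left.mpr (hQ'.trans hAN)] at h1
  have h3 : (Q' : Subgroup G) ≤ Q := inf_eq_left.mp h1.symm
  exact Sylow.ext (Q'.3 Q.2 h3)

/-- **Main theorem on nilpotent minimal covers.** -/
theorem main (h : Hyp 𝓐 p) (hall : ∀ Q : Sylow p G, (∃ a ∈ Q, a ^ p ≠ 1) ∨ Nat.card Q = p)
    (P : Sylow p G) (hnn : ¬ (P : Subgroup G).Normal) :
    ∃ A ∈ 𝓐, (P : Subgroup G) ≤ A ∧ centralizer ((P : Subgroup G) : Set G) = A ∧
      IsCoatom (normalizer ((P : Subgroup G) : Set G)) ∧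
      (∀ g : G, g ∉ normalizer ((P : Subgroup G) : Set G) →
        ¬ p ∣ Nat.card ↥(normalizer ((P : Subgroup G) : Set G) ⊓
          (normalizer ((P : Subgroup G) : Set G)).map (MulAut.conj g).toMonoidHom)) ∧
      (∀ M : Subgroup G, IsCoatom M → centralizer ((P : Subgroup G) : Set G) ≤ M →
        M = normalizer ((P : Subgroup G) : Set G)) := by
  have hp : p.Prime := Fact.out
  -- members
  have hmem : ∀ Q : Sylow p G, ∃ A ∈ 𝓐, (Q : Subgroup G) ≤ A := fun Q => exists_le h Q (hall Q)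
  -- a member containing `Q` centralizes `Q`
  have hcent : ∀ (Q : Sylow p G) (A : Subgroup G), A ∈ 𝓐 → (Q : Subgroup G) ≤ A →
      A ≤ centralizer ((Q : Subgroup G) : Set G) := by
    intro Q A hA hQA a ha
    rw [Subgroup.mem_centralizer_iff]
    intro x hx
    have := le_centralizer h hA (hQA hx) (isPElt_of_mem Q hx) ha
    rw [Subgroup.mem_centralizer_iff] at this
    exact this x rfl
  -- trivial intersection
  have hTI : ∀ (Q Q' : Sylow p G) (y : G), y ∈ Q → y ∈ Q' → y ≠ 1 → Q = Q' := by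
    intro Q Q' y hy hy' hy1
    obtain ⟨A, hA, hQA⟩ := hmem Q
    obtain ⟨A', hA', hQA'⟩ := hmem Q'
    have : A = A' := eq_of_mem h hy1 (isPElt_of_mem Q hy) hA hA' (hQA hy) (hQA' hy')
    subst this
    exact sylow_eq_of_le h hA hQA hQA'
  obtain ⟨A, hA, hPA⟩ := hmem P
  obtain ⟨x, hxP, hx1⟩ := exists_ne_one P (hall P)
  -- centralizer of `P` is `A`
  have hCA : centralizer ((P : Subgroup G) : Set G) = A := by
    apply le_antisymm _ (hcent P A hA hPA)
    intro c hc
    obtain ⟨i, j, hcij, ⟨k, hk⟩, m, hm, hjm⟩ := exists_parts (p := p) c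
    have hci : c ^ i ∈ centralizer ((P : Subgroup G) : Set G) := Subgroup.zpow_mem _ hc i
    have hcj : c ^ j ∈ centralizer ((P : Subgroup G) : Set G) := Subgroup.zpow_mem _ hc j
    have hciP : c ^ i ∈ P :=
      mem_of_mem_normalizer P (Subgroup.centralizer_le_normalizer _ hci) ⟨k, hk⟩
    -- the `p'`-part
    have hcomm : Commute x (c ^ j) := by
      rw [Subgroup.mem_centralizer_iff] at hcj
      exact (hcj x hxP)
    obtain ⟨B, hB, hxvB⟩ := h.hmin.1.2 (x * c ^ j)
    have hpow : (x * c ^ j) ^ m = x ^ m := by rw [hcomm.mul_pow, hjm, mul_one]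
    obtain ⟨k', hk'⟩ := isPElt_of_mem P hxP
    have hcop : m.Coprime (orderOf x) := by
      have hd : orderOf x ∣ p ^ k' := orderOf_dvd_of_pow_eq_one hk'
      exact Nat.Coprime.coprime_dvd_right hd (Nat.Coprime.pow_right k' hm)
    obtain ⟨n, hn⟩ := exists_pow_eq_self_of_coprime hcop
    have hxB : x ∈ B := by
      rw [← hn, ← hpow]
      exact B.pow_mem (B.pow_mem hxvB m) n
    have hBA : B = A := eq_of_mem h hx1 ⟨k', hk'⟩ hB hA hxB (hPA hxP)
    have hcjA : c ^ j ∈ A := by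
      have : x⁻¹ * (x * c ^ j) ∈ A := A.mul_mem (A.inv_mem (hPA hxP)) (hBA ▸ hxvB)
      simpa using this
    rw [hcij]
    exact A.mul_mem (hPA hciP) hcjA
  -- proper subgroups containing the centralizer normalize `P`
  have hkey : ∀ M : Subgroup G, M ≠ ⊤ → centralizer ((P : Subgroup G) : Set G) ≤ M →
      M ≤ normalizer ((P : Subgroup G) : Set G) := by
    intro M hM hCM g hg
    refine Sylow.smul_eq_iff_mem_normalizer.mp ?_
    obtain ⟨B, hB, hQB⟩ := hmem (g • P)
    have hBM : B ≤ M := by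
      intro b hb
      have hb' := hcent (g • P) B hB hQB hb
      rw [Subgroup.mem_centralizer_iff] at hb'
      have h1 : g⁻¹ * b * g ∈ centralizer ((P : Subgroup G) : Set G) := by
        rw [Subgroup.mem_centralizer_iff]
        intro y hy
        have hy' : g * y * g⁻¹ ∈ g • P := by
          rw [mem_smul_iff]; simpa [mul_assoc] using hy
        have h2 := hb' _ hy'
        have e1 : y * (g⁻¹ * b * g) = g⁻¹ * (g * y * g⁻¹ * b) * g := by group
        have e2 : g⁻¹ * b * g * y = g⁻¹ * (b * (g * y * g⁻¹)) * g := by group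
        rw [e1, e2, h2]
      have h3 : g * (g⁻¹ * b * g) * g⁻¹ ∈ M := M.mul_mem (M.mul_mem hg (hCM h1)) (M.inv_mem hg)
      have e3 : g * (g⁻¹ * b * g) * g⁻¹ = b := by group
      rwa [e3] at h3
    have hAM : A ≤ M := hCA ▸ hCM
    have hBA : B = A := replace_one h.hmin hM hB hA hBM hAM
    exact sylow_eq_of_le h hA (hBA ▸ hQB) hPA
  have hNtop : normalizer ((P : Subgroup G) : Set G) ≠ ⊤ := fun htop =>
    hnn (Subgroup.normalizer_eq_top_iff.mp htop)
  refine ⟨A, hA, hPA, hCA, ⟨hNtop, ?_⟩, ?_, ?_⟩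
  · intro M hNM
    by_contra hM
    exact absurd (hkey M hM ((Subgroup.centralizer_le_normalizer _).trans hNM.le)) (not_le_of_gt hNM)
  · intro g hg hdvd
    obtain ⟨y, hy⟩ := exists_prime_orderOf_dvd_card' p hdvd
    have hy1 : (y : G) ≠ 1 := by
      intro h1
      have : y = 1 := Subtype.ext h1
      rw [this, orderOf_one] at hy
      exact hp.one_lt.ne hy
    have hyp : (y : G) ^ p ^ 1 = 1 := by
      have h2 : y ^ p = 1 := by
        have h3 := pow_orderOf_eq_one y
        rwa [hy] at h3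
      rw [pow_one]
      have h4 := congrArg Subtype.val h2
      rw [Subgroup.coe_pow, Subgroup.coe_one] at h4
      exact h4
    have hyN := (Subgroup.mem_inf.mp y.2).1
    obtain ⟨n, hnN, hny⟩ := Subgroup.mem_map.mp (Subgroup.mem_inf.mp y.2).2
    have hny' : g * n * g⁻¹ = (y : G) := by simpa using hny
    have hyP : (y : G) ∈ P := mem_of_mem_normalizer P hyN ⟨1, hyp⟩
    have hnp : n ^ p ^ 1 = 1 := by
      have e1 : g * n ^ p ^ 1 * g⁻¹ = 1 := by rw [← conj_pow, hny', hyp]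
      have e2 : n ^ p ^ 1 = g⁻¹ * (g * n ^ p ^ 1 * g⁻¹) * g := by group
      rw [e2, e1]; group
    have hnP : n ∈ P := mem_of_mem_normalizer P hnN ⟨1, hnp⟩
    have hygP : (y : G) ∈ g • P := by
      rw [mem_smul_iff, ← hny']
      have e : g⁻¹ * (g * n * g⁻¹) * g = n := by group
      rw [e]; exact hnP
    have : g • P = P := hTI _ _ _ hygP hyP hy1
    exact hg (Sylow.smul_eq_iff_mem_normalizer.mp this)
  · intro M hM hCM
    have hMN := hkey M hM.1 hCM
    by_contra hne
    exact hNtop (hM.2 _ (lt_of_le_of_ne hMN hne))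

/-- the Sylow hypothesis from "not (elementary abelian of order `> p`)" -/
theorem key_of (P : Sylow p G) (hnn : ¬ (P : Subgroup G).Normal)
    (hE : (∀ a ∈ (P : Subgroup G), a ^ p = 1) → ¬ p < Nat.card ↥(P : Subgroup G)) :
    (∃ a ∈ P, a ^ p ≠ 1) ∨ Nat.card P = p := by
  have hp : p.Prime := Fact.out
  by_cases hexp : ∀ a ∈ (P : Subgroup G), a ^ p = 1
  · right
    have hle := hE hexp
    obtain ⟨n, hn⟩ := IsPGroup.iff_card.mp P.2
    rcases Nat.lt_or_ge n 2 with hn2 | hn2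
    · interval_cases n
      · exfalso
        apply hnn
        have : (P : Subgroup G) = ⊥ := Subgroup.eq_bot_of_card_eq _ (by rw [hn, pow_zero])
        rw [this]
        infer_instance
      · rw [hn, pow_one]
    · exfalso
      apply hle
      rw [hn]
      calc p = p ^ 1 := (pow_one p).symm
        _ < p ^ n := Nat.pow_lt_pow_right hp.one_lt (by omega)
  · left
    by_contra hcon
    apply hexp
    intro a ha
    by_contra hap
    exact hcon ⟨a, ha, hap⟩

theorem not_dvd_index_subgroupOf (P : Sylow p G) {A : Subgroup G} (hPA : (P : Subgroup G) ≤ A) :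
    ¬ p ∣ ((P : Subgroup G).subgroupOf A).index := by
  intro hd
  have h1 : ((P : Subgroup G).subgroupOf A).index ∣ (P : Subgroup G).index :=
    Dvd.intro _ (Subgroup.relIndex_mul_index hPA)
  exact P.not_dvd_index (hd.trans h1)

end Main

end Cfsg.Agent.Lib.Helper27.NilpCover
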