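/-
helper27: the assemblies S1, S2, S3, S6 over helper24's Brauer-Reynolds core leaves (`notes/S0999_leaves.lean`), used by `Helper27.BRWCore`
(S4700 + S0996): `special_steps` (layers 0, 1, 2), `sum_out_sq`, `stepB` (ε = 1 ⇒ n = 1), `psl_of_n_eq_one`.
Leaves: helper5 (SPEC, CNTRIV), helper10 (LINA, LINV, LINC), helper1 (SUMCN, VALCN, RESN, OWN), helper22 (DEGCN), helper6 (APX, OUT, SUMSQ),
helper12 (FREE, COUNTS, STEPB), helper16 (ARITHB, PSLN1), helper4 (PGL), helper17 (SEMI), helper7 (SUMDEG).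
-/
import Mathlib
import Cfsg.Prelude.Def_BlockRank
import Cfsg.Prelude.Def_Perm
import Cfsg.Agent.Lib.Helper6.BRHDefs
import Cfsg.Agent.Lib.Helper24.BRCDefs
import Cfsg.Agent.Lib.Helper5.BRCCNTRIV
import Cfsg.Agent.Lib.Helper10.BRCLINA
import Cfsg.Agent.Lib.Helper10.BRCLINV
import Cfsg.Agent.Lib.Helper10.BRCLINC
import Cfsg.Agent.Lib.Helper1.BRCSUMCN
import Cfsg.Agent.Lib.Helper22.BRCDEGCN
import Cfsg.Agent.Lib.Helper1.BRCVALCN
import Cfsg.Agent.Lib.Helper1.BRCRESN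
import Cfsg.Agent.Lib.Helper6.BRCAPX
import Cfsg.Agent.Lib.Helper6.BRCOUT
import Cfsg.Agent.Lib.Helper6.BRCSUMSQ
import Cfsg.Agent.Lib.Helper6.BRCTools
import Cfsg.Agent.Lib.Helper1.BRCOWN
import Cfsg.Agent.Lib.Helper12.BRCFREE
import Cfsg.Agent.Lib.Helper12.BRCCOUNTS
import Cfsg.Agent.Lib.Helper12.BRCSTEPB
import Cfsg.Agent.Lib.Helper16.BRCARITHB
import Cfsg.Agent.Lib.Helper16.BRCPSLN1
import Cfsg.Agent.Lib.Helper4.BRCPGL
import Cfsg.Agent.Lib.Helper17.BRCSEMI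
import Cfsg.Agent.Lib.Helper7.BRCSUMDEG

set_option autoImplicit false

namespace Cfsg.Agent.Lib.Helper27.BRWSeam

open Cfsg Cfsg.Agent.Lib.Helper8.DOM Cfsg.Agent.Lib.Helper27.DO Cfsg.Agent.CharLib
open Cfsg.Agent.Lib.Helper6.BRH Cfsg.Agent.Lib.Helper24.BRC
open scoped ComplexConjugate

universe u

variable {G : Type u} [Group G] [Finite G] {p : ℕ} [Fact p.Prime]

variable {P : Subgroup G} {n w : ℕ} {X Y : Set (IrrCharacter G)} {v : IrrCharacter G → ℤ} {ε : ℤ}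

/-- layer 0 -/
theorem linData (P : Subgroup G) (hP : Nat.card P = p) (hC : Cz P = P) : LinData P :=
  { card_eq := Cfsg.Agent.Lib.Helper10.BRCLINA.card_Lin P hP hC
    sum_mem := Cfsg.Agent.Lib.Helper10.BRCLINA.sum_Lin_mem P hP hC
    sum_not_mem := Cfsg.Agent.Lib.Helper10.BRCLINA.sum_Lin_not_mem P hP hC
    norm_eq := Cfsg.Agent.Lib.Helper10.BRCLINA.Lin_normSq P hP hC
    vanish := Cfsg.Agent.Lib.Helper10.BRCLINV.Lin_vanish P hP hC
      (Cfsg.Agent.Lib.Helper10.BRCLINA.card_Lin P hP hC) (Cfsg.Agent.Lib.Helper10.BRCLINA.Lin_normSq P hP hC)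
    conj_mem := Cfsg.Agent.Lib.Helper10.BRCLINC.Lin_conj P
    even_of_real := Cfsg.Agent.Lib.Helper10.BRCLINC.Lin_even_of_real P hP hC
      (Cfsg.Agent.Lib.Helper10.BRCLINA.Lin_normSq P hP hC) }

/-- layer 1 -/
theorem stepA (hS : Special p P n w X Y v ε) (hL : LinData P) : StepA p P n w X Y v ε :=
  have hnY := Cfsg.Agent.Lib.Helper6.BRCOUT.normY hS
  have hout := Cfsg.Agent.Lib.Helper6.BRCOUT.out_zero hS hnY
  { cN_triv := Cfsg.Agent.Lib.Helper5.BRCCNTRIV.cN_triv P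
    cN_conj := fun χ χ' β β' hχ hβ => Cfsg.Agent.Lib.Helper5.BRCCNTRIV.cN_conj P χ χ' β β' hχ hβ
    sum_cN := fun χ => Cfsg.Agent.Lib.Helper1.BRCSUMCN.sum_cN hS hL χ
    deg_cN := Cfsg.Agent.Lib.Helper22.BRCDEGCN.deg_cN hS hL
    val_cN := Cfsg.Agent.Lib.Helper1.BRCVALCN.val_cN hS
    resN := Cfsg.Agent.Lib.Helper1.BRCRESN.resN P hL.vanish
    aP_triv := Cfsg.Agent.Lib.Helper6.BRCAPX.aP_triv hS
    aP_A := Cfsg.Agent.Lib.Helper6.BRCAPX.aP_A hS
    aP_B := Cfsg.Agent.Lib.Helper6.BRCAPX.aP_B hS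
    aP_Y := Cfsg.Agent.Lib.Helper6.BRCAPX.aP_Y hS
    normY := hnY
    out_zero := hout
    aP_out := Cfsg.Agent.Lib.Helper6.BRCOUT.aP_out hS hout
    sum_aP_sq := Cfsg.Agent.Lib.Helper6.BRCSUMSQ.sum_aP_sq hS }

/-- layer 2 -/
theorem stepC (hS : Special p P n w X Y v ε) (hL : LinData P) (hA : StepA p P n w X Y v ε) :
    StepC p P n w X Y v ε :=
  have hown := Cfsg.Agent.Lib.Helper1.BRCOWN.own hS hL hA
  have htriv := Cfsg.Agent.Lib.Helper12.BRCFREE.cN_Y_triv hS hL hA hown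
  have hfree := Cfsg.Agent.Lib.Helper12.BRCFREE.free_spec hS hL hA
  have hcnt := Cfsg.Agent.Lib.Helper12.BRCCOUNTS.counts hS hL hA hown htriv hfree
  { own := hown
    cN_Y_triv := htriv
    free_spec := hfree
    cardX := hcnt.1
    cardLin := hcnt.2.1
    cardFree := hcnt.2.2.1
    sgn_w := hcnt.2.2.2 }

/-- S1 : layers 0, 1, 2 assembled. -/
theorem special_steps (hS : Special p P n w X Y v ε) :
    LinData P ∧ StepA p P n w X Y v ε ∧ StepC p P n w X Y v ε :=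
  have hL := linData P hS.hP hS.hC
  have hA := stepA hS hL
  ⟨hL, hA, stepC hS hL hA⟩

/-- S2 = helper7's BRC-SUMDEG (a). -/
theorem sum_out_sq (hS : Special p P n w X Y v ε) (hA : StepA p P n w X Y v ε) :
    (∑ᶠ χ ∈ ((X ∪ Y)ᶜ : Set (IrrCharacter G)), (aP P χ) ^ 2) + 1 +
      Nat.card (Cfsg.Agent.Lib.Helper24.BRC.typeA X v) * (n + 1) ^ 2 + tI p P * w ^ 2 = fI P * (n + 1) :=
  Cfsg.Agent.Lib.Helper7.BRCSUMDEG.sum_out_sq hS hA

/-- `p - 1 = f t` with `t = tI p P` -/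
theorem sub_one_eq (hS : Special p P n w X Y v ε) : p - 1 = fI P * tI p P := by
  have hfd : fI P ∣ p - 1 := hS.bx.b0.dvd
  unfold tI
  exact (Nat.mul_div_cancel' hfd).symm

/-- S3 : Step B. -/
theorem stepB (hS : Special p P n w X Y v ε) (hft : fI P < p - 1) (hε : ε = 1) : n = 1 := by
  have hpp : p.Prime := Fact.out
  obtain ⟨hL, hA, hC2⟩ := special_steps hS
  have hineq := Cfsg.Agent.Lib.Helper12.BRCSTEPB.stepB_ineq hS hL hA hC2 hε
  have hw0 : w = 0 := hC2.sgn_w hε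
  have hcl := hC2.cardLin
  rw [hw0] at hcl
  have hpt := sub_one_eq hS
  have hf2 : 2 ≤ fI P := hS.hf2
  have ht2 : 2 ≤ tI p P := by
    by_contra hlt
    have h01 : tI p P = 0 ∨ tI p P = 1 := by omega
    rcases h01 with h | h
    · rw [h, mul_zero] at hpt; omega
    · rw [h, mul_one] at hpt; omega
  have hp : p = 1 + tI p P * fI P := by
    have := hpp.two_le
    rw [mul_comm] at hpt
    omega
  exact (Cfsg.Agent.Lib.Helper16.BRCARITHB.arithB p (fI P) (tI p P) n _ hp ht2 hf2 hS.hn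
    (by omega) hineq).1

/-- S6 : the branch `n = 1`. -/
theorem psl_of_n_eq_one (hS : Special p P n w X Y v ε) (hn1 : n = 1) :
    3 < p ∧ Nonempty (G ≃* Matrix.ProjectiveSpecialLinearGroup (Fin 2) (ZMod p)) := by
  have hpp : p.Prime := Fact.out
  have hidx : (Nz P).index = 1 + p := by rw [hS.hidx, hn1, one_mul]
  have hfd : fI P ∣ p - 1 := hS.bx.b0.dvd
  have hcard : Nat.card (Nz P) = fI P * p := Cfsg.Agent.Lib.Helper6.BRCTools.card_Nz P hS.hP hS.hC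
  have hfle : fI P ≤ p - 1 := Nat.le_of_dvd (by have := hpp.two_le; omega) hfd
  have hd : Nat.card (Nz P) < p * p := by
    rw [hcard]
    have := hpp.two_le
    exact Nat.mul_lt_mul_of_pos_right (by omega) hpp.pos
  exact Cfsg.Agent.Lib.Helper16.BRCPSLN1.psl_of_index hS.perf hS.core P hS.hP hidx hS.hf2 hfd hd
    (fun hp2 => Cfsg.Agent.Lib.Helper4.BRCPGL.not_perfect_pgl hp2)
    (fun H hH hperf => Cfsg.Agent.Lib.Helper17.BRCSEMI.eq_bot_of_perfect_semiaffine H hH hperf)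

end Cfsg.Agent.Lib.Helper27.BRWSeam
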