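/-
helper27: the assemblies S4 (`stepD`) and S5 (`stepE`) of the seam to helper24's Brauer-Reynolds core, in the shapes used by `Helper27.BRWCore`
(S4700 + S0996); both are helper2's spines `Helper2.BRCStepD.stepD_of`, `Helper2.BRCStepE.stepE_of` over `Helper27.BRWSeam.special_steps`.
-/
import Mathlib
import Cfsg.Prelude.Def_BlockRank
import Cfsg.Prelude.Def_Perm
import Cfsg.Agent.Lib.Helper6.BRHDefs
import Cfsg.Agent.Lib.Helper24.BRCDefs
import Cfsg.Agent.Lib.Helper27.BRWSeam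
import Cfsg.Agent.Lib.Helper2.BRCStepE
import Cfsg.Agent.Lib.Helper2.BRCStepD

set_option autoImplicit false

namespace Cfsg.Agent.Lib.Helper27.BRWSeam2

open Cfsg Cfsg.Agent.Lib.Helper8.DOM Cfsg.Agent.Lib.Helper27.DO Cfsg.Agent.CharLib
open Cfsg.Agent.Lib.Helper6.BRH Cfsg.Agent.Lib.Helper24.BRC Cfsg.Agent.Lib.Helper27.BRWSeam
open scoped ComplexConjugate

universe u

variable {G : Type u} [Group G] [Finite G] {p : ℕ} [Fact p.Prime]

variable {P : Subgroup G} {n w : ℕ} {X Y : Set (IrrCharacter G)} {v : IrrCharacter G → ℤ} {ε : ℤ}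

/-- S4 : Step D. -/
theorem stepD (hS : Special p P n w X Y v ε) (hft : fI P < p - 1) (hε : ε = -1) (hw : w = 1)
    (hnt : n + 1 = tI p P) : tI p P = 2 ∨ fI P = 2 := by
  obtain ⟨hL, hA, hC2⟩ := special_steps hS
  exact Cfsg.Agent.Lib.Helper2.BRCStepD.stepD_of hS hL hA hC2 hft hε hw hnt

/-- S5 : Step E (`f = 2`). -/
theorem stepE (hS : Special p P n w X Y v ε) (_hft : fI P < p - 1) (hε : ε = -1) (hw : w = 1)
    (hnt : n + 1 = tI p P) (hf : fI P = 2) :
    ∃ (m : ℕ) (F : Type) (_ : Field F) (_ : Fintype F), Fintype.card F = 2 ^ m ∧ p = 2 ^ m + 1 ∧ 3 < p ∧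
      Nonempty (G ≃* Matrix.SpecialLinearGroup (Fin 2) F) := by
  obtain ⟨hL, hA, hC2⟩ := special_steps hS
  exact Cfsg.Agent.Lib.Helper2.BRCStepE.stepE_of hS hL hA hC2 hε hw hnt hf

end Cfsg.Agent.Lib.Helper27.BRWSeam2
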