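/-
helper27: S4700 + S0996 (Brauer 1943), the spine of part W: every non-trivial non-exceptional character of the principal block of a perfect
group with a Sylow `p`-subgroup of order `p` (`f = |N:C| < p - 1`) is of type A (`v = 1`, degree `1 + n p`) or of type B (`v = -1`, degree `p - 1`),
or the third alternative `BRW.Alt p n` of S4700 holds.  Leaves: helper23 (OMEGA), helper22 (FROB), helper19 (ARITHP, ARITHM), helper5 (LIN).
Plan and recipes: `notes/S4700_W_leaves.lean`.
-/
import Mathlib
import Cfsg.Prelude.Def_BlockRank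
import Cfsg.Prelude.Def_CaseTheorems
import Cfsg.Agent.Lib.Helper6.BRHDefs
import Cfsg.Agent.Lib.Helper27.BRWDefs
import Cfsg.Agent.Lib.Helper23.BRWOMEGA
import Cfsg.Agent.Lib.Helper22.BRWFROB
import Cfsg.Agent.Lib.Helper19.BRWARITHP
import Cfsg.Agent.Lib.Helper19.BRWARITHM
import Cfsg.Agent.Lib.Helper5.BRWLIN

set_option autoImplicit false

namespace Cfsg.Agent.Lib.Helper27.BRWSpine

open Cfsg Cfsg.Agent.Lib.Helper8.DOM Cfsg.Agent.Lib.Helper27.DO Cfsg.Agent.CharLib
open Cfsg.Agent.Lib.Helper6.BRH Cfsg.Agent.Lib.Helper27.BRW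
open Cfsg.Agent.Lib.Helper23.BRWOMEGA Cfsg.Agent.Lib.Helper22.BRWFROB Cfsg.Agent.Lib.Helper19.BRWARITHP
open Cfsg.Agent.Lib.Helper19.BRWARITHM Cfsg.Agent.Lib.Helper5.BRWLIN
open scoped ComplexConjugate

universe u

variable {G : Type u} [Group G] [Finite G] {p : ℕ} [Fact p.Prime]

/-- every non-trivial non-exceptional character of `B_0` is of type A (`v = 1`, degree `1 + n p`) or of type B (`v = -1`, degree `p - 1`), or `Alt p n` holds -/
theorem special_or_alt (hperf : commutator G = ⊤) (P : Subgroup G) (hP : Nat.card P = p)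
    (hSyl : ¬ p ∣ P.index) (n : ℕ) (hn : 1 ≤ n) (hidx : (Nz P).index = 1 + n * p)
    (hf : (Cz P).relIndex (Nz P) < p - 1)
    (X Y : Set (IrrCharacter G)) (v : IrrCharacter G → ℤ) (ε : ℤ) (d : B0 p P X Y v ε)
    (hdegX : ∀ η ∈ X, (charDegree (η : G → ℂ) : ℤ) ≡ v η [ZMOD p]) :
    Alt p n ∨ ∀ η ∈ X, η ≠ trivIrr G →
      (v η = 1 ∧ charDegree (η : G → ℂ) = 1 + n * p) ∨ (v η = -1 ∧ charDegree (η : G → ℂ) = p - 1) := by
  classical
  have hpp : p.Prime := Fact.out
  by_cases halt : Alt p n
  · exact Or.inl halt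
  refine Or.inr fun η hη hne => ?_
  -- elements of `P \ 1` have order `p`
  have hord : ∀ x ∈ P, x ≠ 1 → orderOf x = p := by
    intro x hx hx1
    have h1 : orderOf (⟨x, hx⟩ : P) ∣ p := hP ▸ orderOf_dvd_natCard (⟨x, hx⟩ : P)
    rw [Subgroup.orderOf_mk] at h1
    rcases (Nat.dvd_prime hpp).mp h1 with h | h
    · exact absurd (orderOf_eq_one_iff.mp h) hx1
    · exact h
  have hfdvd : (Cz P).relIndex (Nz P) ∣ p - 1 := d.dvd
  have hle : Cz P ≤ Nz P := by
    intro c hc
    rw [Subgroup.mem_normalizer_iff]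
    intro x
    have hc' := Subgroup.mem_centralizer_iff.mp hc
    constructor
    · intro hx
      have : c * x * c⁻¹ = x := by rw [← hc' x hx]; group
      rw [this]; exact hx
    · intro hx
      have h2 := hc' (c * x * c⁻¹) hx
      have h3 : x = c * x * c⁻¹ := by
        have : c * x * c⁻¹ * c = c * (c * x * c⁻¹) := h2
        have h4 : c * x = c * (c * x * c⁻¹) := by simpa [mul_assoc] using this
        exact mul_left_cancel h4
      rw [h3]; exact hx
  have hCidx : (Cz P).index = (Cz P).relIndex (Nz P) * (1 + n * p) := by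
    rw [← hidx]; exact (Subgroup.relIndex_mul_index hle).symm
  set D := charDegree (η : G → ℂ) with hD
  have hDpos : 0 < D := charDegree_pos η
  have hvalP : ∀ x ∈ P, x ≠ 1 → (η : G → ℂ) x = (v η : ℂ) := fun x hx hx1 =>
    d.valX η hη x (by rw [hord x hx hx1])
  have hdvdZ := degree_dvd_class P hP η (v η) hvalP
  have hdvdN : D ∣ (Cz P).relIndex (Nz P) * (1 + n * p) := by
    rw [hCidx] at hdvdZ
    rcases d.sgnX η hη with h | h
    · rw [h, one_mul] at hdvdZ; exact_mod_cast hdvdZ
    · rw [h] at hdvdZ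
      have : (D : ℤ) ∣ (((Cz P).relIndex (Nz P) * (1 + n * p) : ℕ) : ℤ) := by
        have := (dvd_neg (a := (D : ℤ))).mpr hdvdZ
        simpa using this
      exact_mod_cast this
  have hcong := hdegX η hη
  rcases d.sgnX η hη with hv | hv
  · -- sign +
    left
    refine ⟨hv, ?_⟩
    rw [hv] at hcong
    have h1 : (p : ℤ) ∣ (D : ℤ) - 1 := (Int.modEq_iff_dvd.mp hcong.symm)
    have h2 : p ∣ D - 1 := by
      have : ((D - 1 : ℕ) : ℤ) = (D : ℤ) - 1 := by omega
      rw [← this] at h1; exact_mod_cast h1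
    obtain ⟨u, hu⟩ := h2
    have hDu : D = u * p + 1 := by rw [mul_comm]; omega
    have hD1 : D ≠ 1 := fun h => hne (eq_triv_of_degree_one hperf η h)
    have hu1 : 1 ≤ u := by
      rcases Nat.eq_zero_or_pos u with h | h
      · exfalso; apply hD1; rw [hDu, h]; simp
      · exact h
    have hfrob : D ≤ (Nz P).index := by
      apply degree_le_index P hP hSyl η
      intro x hx hx1 y hy hyreg
      have hcomm : Commute x y := (Subgroup.mem_centralizer_iff.mp hy x hx)
      have hco : (orderOf x).Coprime (orderOf y) := by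
        rw [hord x hx hx1]; exact (Nat.Prime.coprime_iff_not_dvd hpp).mpr hyreg
      have h3 : p ∣ orderOf (x * y) := by
        rw [hcomm.orderOf_mul_eq_mul_orderOf_of_coprime hco, hord x hx hx1]
        exact dvd_mul_right _ _
      have := d.valX η hη (x * y) h3
      rw [this, hv]; simp
    rw [hidx, hDu] at hfrob
    have hun : u ≤ n := by
      have : u * p ≤ n * p := by omega
      exact Nat.le_of_mul_le_mul_right this hpp.pos
    rcases Nat.lt_or_ge u n with h | h
    · exfalso
      rw [hDu] at hdvdN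
      obtain ⟨h', hh', heq⟩ := arith_plus (p := p) _ n u hfdvd hu1 h hdvdN
      exact halt ⟨h', u, hh', hu1, heq⟩
    · have : u = n := le_antisymm hun h
      rw [hDu, this]; ring
  · -- sign -
    right
    refine ⟨hv, ?_⟩
    rw [hv] at hcong
    have h1 : (p : ℤ) ∣ (D : ℤ) + 1 := by
      have := (Int.modEq_iff_dvd.mp hcong.symm)
      simpa using this
    have h2 : p ∣ D + 1 := by exact_mod_cast h1
    obtain ⟨u', hu'⟩ := h2
    have hu1 : 1 ≤ u' := by
      rcases Nat.eq_zero_or_pos u' with h | h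
      · rw [h] at hu'; omega
      · exact h
    have hDu : D = u' * p - 1 := by rw [mul_comm]; omega
    rcases Nat.lt_or_ge u' 2 with h | h
    · have : u' = 1 := by omega
      rw [hDu, this]; simp
    · exfalso
      rw [hDu] at hdvdN
      exact halt (arith_minus (p := p) _ n u' hfdvd hf hn h hdvdN)

end Cfsg.Agent.Lib.Helper27.BRWSpine
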