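/-
helper27: S4700 + S0996 (Brauer 1943) from CORE47 (= S4700 for groups with `O_{p'}(G) = 1`, module `Helper27.BRWCore`):
passage to `G ⧸ O_{p'}(G)` (helper22 QUOT, helper19 LIFT) for S4700; self-centralizing element of order `p` with few Sylow subgroups
(helper10 `scp_exists_sylow`, SCCORE; helper5 SLPSL, ALTLB) for S0996.   Plan: `notes/S4700_F_leaves.lean`.
-/
import Mathlib
import Cfsg.Prelude.Def_BlockRank
import Cfsg.Prelude.Def_CaseTheorems
import Cfsg.Agent.Lib.Helper27.BRWDefs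
import Cfsg.Agent.Lib.Helper22.BRWQUOT
import Cfsg.Agent.Lib.Helper19.BRWLIFT
import Cfsg.Agent.Lib.Helper10.SelfCentP
import Cfsg.Agent.Lib.Helper10.BRWSCCORE
import Cfsg.Agent.Lib.Helper5.BRWSLPSL
import Cfsg.Agent.Lib.Helper5.BRWALTLB

set_option autoImplicit false

namespace Cfsg.Agent.Lib.Helper27.BRWWrap

open Cfsg Cfsg.Agent.Lib.Helper27.BRW

universe u

/-- the statement CORE47: S4700 for groups with `O_{p'}(G) = 1` (in the universe `u`) -/
def Core47 : Prop :=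
  ∀ {Q : Type u} [Group Q] [Finite Q], commutator Q = ⊤ → ∀ (p : ℕ) [Fact p.Prime],
    pPrimeCore p Q = ⊥ → ∀ P : Sylow p Q, Nat.card P = p → ∀ n : ℕ, Nat.card (Sylow p Q) = 1 + n * p →
    (∃ (F : Type) (_ : Field F) (_ : Fintype F), Fintype.card F = p ∧ 3 < p ∧
        Nonempty (Q ≃* Matrix.ProjectiveSpecialLinearGroup (Fin 2) F)) ∨
    (∃ (m : ℕ) (F : Type) (_ : Field F) (_ : Fintype F), Fintype.card F = 2 ^ m ∧ p = 2 ^ m + 1 ∧ 3 < p ∧
        Nonempty (Q ≃* Matrix.SpecialLinearGroup (Fin 2) F)) ∨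
    Alt p n

theorem s4700_of_core47 (hcore47 : Core47.{u}) {G : Type u} [Group G] [Finite G]
    (hperf : commutator G = ⊤) (p : ℕ) [Fact p.Prime]
    (P : Sylow p G) (hP : Nat.card P = p) (n : ℕ) (hn : Nat.card (Sylow p G) = 1 + n * p) :
    (∃ (F : Type) (_ : Field F) (_ : Fintype F), Fintype.card F = p ∧ 3 < p ∧
        Nonempty (G ⧸ Cfsg.pPrimeCore p G ≃* Matrix.ProjectiveSpecialLinearGroup (Fin 2) F)) ∨
    (∃ (m : ℕ) (F : Type) (_ : Field F) (_ : Fintype F), Fintype.card F = 2 ^ m ∧ p = 2 ^ m + 1 ∧ 3 < p ∧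
        Nonempty (G ⧸ Cfsg.pPrimeCore p G ≃* Matrix.SpecialLinearGroup (Fin 2) F)) ∨
    (∃ h u : ℕ, 0 < h ∧ 0 < u ∧ n * (u + 1) = h * u * p + u ^ 2 + u + h) := by
  obtain ⟨hperf', hcore', Q, m, k, hQ, hm, hfac⟩ :=
    Cfsg.Agent.Lib.Helper22.BRWQUOT.quot_data hperf P hP n hn
  rcases hcore47 hperf' p hcore' Q hQ m hm with h | h | h
  · exact Or.inl h
  · exact Or.inr (Or.inl h)
  · exact Or.inr (Or.inr (Cfsg.Agent.Lib.Helper19.BRWLIFT.alt_lift n m k hfac h))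

theorem s0996_of_core47 (hcore47 : Core47.{u}) {G : Type u} [Group G] [Finite G]
    (hperf : commutator G = ⊤) (p : ℕ) [Fact p.Prime]
    (z : G) (hz : orderOf z = p) (hC : Subgroup.centralizer ({z} : Set G) = Subgroup.zpowers z)
    (hn : 2 * Nat.card (Sylow p G) < (p + 1) * (p + 2)) :
    (∃ (F : Type) (_ : Field F) (_ : Fintype F), Fintype.card F = p ∧ 3 < p ∧
        Nonempty (G ≃* Matrix.ProjectiveSpecialLinearGroup (Fin 2) F)) ∨
    (∃ (m : ℕ) (F : Type) (_ : Field F) (_ : Fintype F), Fintype.card F = 2 ^ m ∧ p = 2 ^ m + 1 ∧ 3 < p ∧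
        Nonempty (G ≃* Matrix.ProjectiveSpecialLinearGroup (Fin 2) F)) := by
  have hpp : p.Prime := Fact.out
  obtain ⟨P, hPz⟩ := Cfsg.Agent.Lib.Helper10.scp_exists_sylow hpp hz hC
  have hP : Nat.card P = p := by
    have : Nat.card (P : Subgroup G) = p := by rw [hPz, Nat.card_zpowers, hz]
    exact this
  have hcore := Cfsg.Agent.Lib.Helper10.BRWSCCORE.core_eq_bot_of_few_sylow hperf p z hz hC hn
  have hmod : Nat.card (Sylow p G) ≡ 1 [MOD p] := card_sylow_modEq_one p G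
  obtain ⟨n, hn'⟩ : ∃ n : ℕ, Nat.card (Sylow p G) = 1 + n * p := by
    have hpos : 0 < Nat.card (Sylow p G) := Nat.card_pos
    have h1 : p ∣ Nat.card (Sylow p G) - 1 := (Nat.modEq_iff_dvd' hpos).mp hmod.symm
    obtain ⟨c, hc⟩ := h1
    exact ⟨c, by rw [mul_comm]; omega⟩
  rcases hcore47 hperf p hcore P hP n hn' with h | h | h
  · exact Or.inl h
  · obtain ⟨m, F, i1, i2, hF, hpm, hp3, ⟨e⟩⟩ := h
    obtain ⟨e'⟩ := Cfsg.Agent.Lib.Helper5.BRWSLPSL.sl2_equiv_psl2_of_char_two F m hF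
    exact Or.inr ⟨m, F, i1, i2, hF, hpm, hp3, ⟨e.trans e'⟩⟩
  · exfalso
    have h2 := Cfsg.Agent.Lib.Helper5.BRWALTLB.alt_lower_bound p n h
    rw [hn'] at hn
    nlinarith

end Cfsg.Agent.Lib.Helper27.BRWWrap
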