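/-
helper27: S4700 + S0996 (Brauer 1943), PART S: CORE47 = S4700 for groups with `O_{p'}(G) = 1`, over helper24's Brauer-Reynolds core
(`Helper24.BRCDefs`: `Special`, `StepA`, `StepC`; seam `Helper27.BRWSeam`, `BRWSeam2`) and the leaves of `notes/S4700_W_leaves.lean` / `notes/S4700_S_leaves.lean`
(helper5, 7, 8, 15, 16, 19, 22, 23, 2).  Mathematics: the rank argument F1-F4 in the header of `notes/S4700_S_leaves.lean`.
-/
import Mathlib
import Cfsg.Prelude.Def_BlockRank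
import Cfsg.Prelude.Def_CaseTheorems
import Cfsg.Agent.Lib.Helper6.BRHDefs
import Cfsg.Agent.Lib.Helper6.BRHB0X
import Cfsg.Agent.Lib.Helper6.Knoerr
import Cfsg.Agent.Lib.Helper24.BRCDefs
import Cfsg.Agent.Lib.Helper12.Cores
import Cfsg.Agent.Lib.Helper27.BRWDefs
import Cfsg.Agent.Lib.Helper27.BRWSpine
import Cfsg.Agent.Lib.Helper27.BRWSeam
import Cfsg.Agent.Lib.Helper27.BRWSeam2
import Cfsg.Agent.Lib.Helper27.BRWWrap
import Cfsg.Agent.Lib.Helper23.BRWOMEGA
import Cfsg.Agent.Lib.Helper23.BRWOMEGAS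
import Cfsg.Agent.Lib.Helper22.BRWFROB
import Cfsg.Agent.Lib.Helper22.BRCFDVD
import Cfsg.Agent.Lib.Helper19.BRWARITHP
import Cfsg.Agent.Lib.Helper5.BRWLIN
import Cfsg.Agent.Lib.Helper5.BRWNPOS
import Cfsg.Agent.Lib.Helper7.BRWTYPEB
import Cfsg.Agent.Lib.Helper7.BRWCZ
import Cfsg.Agent.Lib.Helper7.BRWSPOS
import Cfsg.Agent.Lib.Helper7.BRWBRIDGE
import Cfsg.Agent.Lib.Helper8.BRWBURN
import Cfsg.Agent.Lib.Helper8.BRWRANK
import Cfsg.Agent.Lib.Helper16.BRWARITHS
import Cfsg.Agent.Lib.Helper16.BRWARITHR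
import Cfsg.Agent.Lib.Helper16.BRWRKSUM
import Cfsg.Agent.Lib.Helper16.BRWB0T1
import Cfsg.Agent.Lib.Helper2.BRWARITHM1
import Cfsg.Agent.Lib.Helper15.BRWDEGEN

set_option autoImplicit false

namespace Cfsg.Agent.Lib.Helper27.BRWCore

open Cfsg Cfsg.Agent.Lib.Helper8.DOM Cfsg.Agent.Lib.Helper27.DO Cfsg.Agent.CharLib
open Cfsg.Agent.Lib.Helper6.BRH Cfsg.Agent.Lib.Helper27.BRW Cfsg.Agent.Lib.Helper24.BRC
open Cfsg.Agent.Lib.Helper27.BRWSpine Cfsg.Agent.Lib.Helper27.BRWSeam Cfsg.Agent.Lib.Helper27.BRWSeam2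
open Cfsg.Agent.Lib.Helper23.BRWOMEGA Cfsg.Agent.Lib.Helper23.BRWOMEGAS Cfsg.Agent.Lib.Helper22.BRWFROB
open Cfsg.Agent.Lib.Helper22.BRCFDVD Cfsg.Agent.Lib.Helper19.BRWARITHP Cfsg.Agent.Lib.Helper5.BRWLIN
open Cfsg.Agent.Lib.Helper5.BRWNPOS Cfsg.Agent.Lib.Helper7.BRWTYPEB Cfsg.Agent.Lib.Helper7.BRWCZ
open Cfsg.Agent.Lib.Helper7.BRWSPOS Cfsg.Agent.Lib.Helper7.BRWBRIDGE Cfsg.Agent.Lib.Helper8.BRWBURN
open Cfsg.Agent.Lib.Helper8.BRWRANK Cfsg.Agent.Lib.Helper16.BRWARITHS Cfsg.Agent.Lib.Helper16.BRWARITHR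
open Cfsg.Agent.Lib.Helper16.BRWRKSUM Cfsg.Agent.Lib.Helper16.BRWB0T1 Cfsg.Agent.Lib.Helper2.BRWARITHM1
open Cfsg.Agent.Lib.Helper15.BRWDEGEN
open scoped ComplexConjugate

universe u

variable {G : Type u} [Group G] [Finite G] {p : ℕ} [Fact p.Prime]

theorem triv_mem_Lin (P : Subgroup G) : trivIrr ↥(Nz P) ∈ Lin P := fun _ _ => rfl

/-- elements of `P \ 1` have order `p` -/
theorem orderOf_eq_of_mem (P : Subgroup G) (hP : Nat.card P = p) (x : G) (hx : x ∈ P) (hx1 : x ≠ 1) :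
    orderOf x = p := by
  have hpp : p.Prime := Fact.out
  have h1 : orderOf (⟨x, hx⟩ : P) ∣ p := hP ▸ orderOf_dvd_natCard (⟨x, hx⟩ : P)
  rw [Subgroup.orderOf_mk] at h1
  rcases (Nat.dvd_prime hpp).mp h1 with h | h
  · exact absurd (orderOf_eq_one_iff.mp h) hx1
  · exact h

/-- `x y` is `p`-singular for `x ∈ P \ 1`, `y ∈ C_G(P)` `p`-regular -/
theorem dvd_orderOf_mul (P : Subgroup G) (hP : Nat.card P = p) (x : G) (hx : x ∈ P) (hx1 : x ≠ 1)
    (y : G) (hy : y ∈ Cz P) (hyreg : ¬ p ∣ orderOf y) : p ∣ orderOf (x * y) := by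
  have hpp : p.Prime := Fact.out
  have hcomm : Commute x y := (Subgroup.mem_centralizer_iff.mp hy x hx)
  have hco : (orderOf x).Coprime (orderOf y) := by
    rw [orderOf_eq_of_mem P hP x hx hx1]; exact (Nat.Prime.coprime_iff_not_dvd hpp).mpr hyreg
  rw [hcomm.orderOf_mul_eq_mul_orderOf_of_coprime hco, orderOf_eq_of_mem P hP x hx hx1]
  exact dvd_mul_right _ _

/-- there is a non-trivial element in `P` -/
theorem exists_ne_one (P : Subgroup G) (hP : Nat.card P = p) : ∃ x ∈ P, x ≠ 1 := by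
  have hpp : p.Prime := Fact.out
  have h1 : 1 < Nat.card P := hP ▸ hpp.one_lt
  have : Nontrivial P := (Finite.one_lt_card_iff_nontrivial).mp h1
  obtain ⟨x, hx⟩ := exists_ne (1 : P)
  exact ⟨x, x.2, fun h => hx (Subtype.ext h)⟩

theorem le_finsum_mem_nat {α : Type*} (s : Set α) (hs : s.Finite) (f : α → ℕ) (a : α) (ha : a ∈ s) :
    f a ≤ ∑ᶠ i ∈ s, f i := by
  classical
  rw [finsum_mem_eq_finite_toFinset_sum f hs]
  exact Finset.single_le_sum (f := f) (fun _ _ => Nat.zero_le _) (hs.mem_toFinset.mpr ha)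

section special

variable {P : Subgroup G} {n w : ℕ} {X Y : Set (IrrCharacter G)} {v : IrrCharacter G → ℤ} {ε : ℤ}

/-- F2 + BRIDGE + RANK : `Z = n` ⇒ `(n+1) ∣ p (p-1)` -/
theorem succ_dvd_of_special (hS : Special p P n w X Y v ε) (hL : LinData P)
    (hA : StepA p P n w X Y v ε) (hC2 : StepC p P n w X Y v ε)
    (hsq : ∑ᶠ χ ∈ ((X ∪ Y)ᶜ : Set (IrrCharacter G)), (aP P χ) ^ 2 = n) :
    (n + 1) ∣ p * (p - 1) := by
  classical
  have d := hS.bx.b0
  have hfinLin : (Lin P).Finite := Set.toFinite _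
  have hle : ∀ χ : IrrCharacter G, cN P χ (trivIrr ↥(Nz P)) ≤ aP P χ := by
    intro χ
    rw [← hA.sum_cN χ]
    exact le_finsum_mem_nat (Lin P) hfinLin (fun β => cN P χ β) _ (triv_mem_Lin P)
  have hB0 : ∀ χ ∈ X ∪ Y, χ ≠ trivIrr G → cN P χ (trivIrr ↥(Nz P)) = 0 := by
    intro χ hχ hne
    rcases hχ with hχX | hχY
    · rcases hS.typ χ hχX hne with ⟨hv, -⟩ | ⟨hv, -⟩
      · by_contra hc
        have hmem : χ ∈ Cfsg.Agent.Lib.Helper24.BRC.typeA X v := ⟨hχX, hne, hv⟩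
        have h0 := (hC2.own χ hmem _ (triv_mem_Lin P) hc).2 (trivIrr G) (Ne.symm hne)
        rw [hA.cN_triv] at h0
        exact one_ne_zero h0
      · have hmem : χ ∈ typeB X v := ⟨hχX, hv⟩
        have h0 := hle χ
        rw [hA.aP_B χ hmem] at h0
        omega
    · exact hC2.cN_Y_triv χ hχY
  have hsum := sum_sq_of_rank_data (p := p) (X ∪ Y) (fun χ => cN P χ (trivIrr ↥(Nz P))) (aP P) n
    (Or.inl d.trivX) hA.cN_triv hB0 (fun χ _ => hle χ) hA.aP_out
    (hA.deg_cN _ (triv_mem_Lin P)) hsq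
  have hrank := rank_eq_sum_cN_sq P
  rw [hsum] at hrank
  let _ : Fintype (G ⧸ Nz P) := Fintype.ofFinite _
  have hcard : Fintype.card (G ⧸ Nz P) = 1 + n * p := by
    rw [Fintype.card_eq_nat_card, ← Subgroup.index_eq_card, hS.hidx]
  have hstab : MulAction.stabilizer G ((1 : G) : G ⧸ Nz P) = Nz P := MulAction.stabilizer_quotient _
  exact succ_dvd_of_rank (p := p) ((1 : G) : G ⧸ Nz P) P hS.hP hS.hC hS.hf2 hstab n hS.hn hcard hrank

/-- the conclusion from the special case (all `t ≥ 1`) -/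
theorem concl_of_special (hS : Special p P n w X Y v ε) :
    (3 < p ∧ Nonempty (G ≃* Matrix.ProjectiveSpecialLinearGroup (Fin 2) (ZMod p))) ∨
    (∃ (m : ℕ) (F : Type) (_ : Field F) (_ : Fintype F), Fintype.card F = 2 ^ m ∧ p = 2 ^ m + 1 ∧ 3 < p ∧
        Nonempty (G ≃* Matrix.SpecialLinearGroup (Fin 2) F)) ∨
    Alt p n := by
  classical
  have hpp : p.Prime := Fact.out
  obtain ⟨hL, hA, hC2⟩ := special_steps hS
  have d := hS.bx.b0
  have hfd : fI P ∣ p - 1 := d.dvd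
  have hf2 : 2 ≤ fI P := hS.hf2
  obtain ⟨t, ht⟩ := hfd
  have htI : tI p P = t := by
    unfold tI
    rw [ht]
    exact Nat.mul_div_cancel_left t (by omega)
  have hp2 : 2 ≤ p := hpp.two_le
  have ht1 : 1 ≤ t := by
    rcases Nat.eq_zero_or_pos t with h | h
    · rw [h, mul_zero] at ht
      have : fI P ≤ p - 1 := Nat.le_of_dvd (by omega) d.dvd
      omega
    · exact h
  have hcl := hC2.cardLin
  have hso := sum_out_sq hS hA
  rw [htI] at hso
  rcases d.sgn with hε | hε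
  · -- `ε = 1`
    by_cases hft : fI P < p - 1
    · exact Or.inl (psl_of_n_eq_one hS (stepB hS hft hε))
    · exfalso
      have ht' : t = 1 := by
        by_contra hne
        have h2 : 2 ≤ t := by omega
        have : fI P * 2 ≤ fI P * t := Nat.mul_le_mul_left _ h2
        omega
      rw [ht', mul_one] at ht
      have hw0 : w = 0 := hC2.sgn_w hε
      rw [hw0] at hcl hso
      set r := Nat.card (Cfsg.Agent.Lib.Helper24.BRC.typeA X v) with hr
      have hsq : ∑ᶠ χ ∈ ((X ∪ Y)ᶜ : Set (IrrCharacter G)), (aP P χ) ^ 2 = n := by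
        set Z := ∑ᶠ χ ∈ ((X ∪ Y)ᶜ : Set (IrrCharacter G)), (aP P χ) ^ 2 with hZ
        have e1 : fI P * (n + 1) = r * (n + 1) ^ 2 + (n + 1) := by rw [← hcl]; ring
        have e3 : Z + 1 + r * (n + 1) ^ 2 = r * (n + 1) ^ 2 + (n + 1) := by
          rw [← e1]; simpa using hso
        omega
      have hdvd := succ_dvd_of_special hS hL hA hC2 hsq
      -- `r (n+1) = p - 2`
      have hr2 : r * (n + 1) + 2 = p := by omega
      have h1 : (n + 1) ∣ p - 2 := ⟨r, by rw [mul_comm]; omega⟩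
      have h2 : p * (p - 1) = (p - 2) * (p + 1) + 2 := by
        obtain ⟨k, hk⟩ : ∃ k, p = k + 2 := ⟨p - 2, by omega⟩
        subst hk
        simp only [Nat.add_sub_cancel]
        have : k + 2 - 1 = k + 1 := by omega
        rw [this]; ring
      have h3 : (n + 1) ∣ 2 := by
        have h4 : (n + 1) ∣ (p - 2) * (p + 1) := Dvd.dvd.mul_right h1 _
        rw [h2] at hdvd
        exact (Nat.dvd_add_right h4).mp hdvd
      have hn1 : n = 1 := by
        have := Nat.le_of_dvd (by norm_num) h3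
        have := hS.hn
        omega
      rw [hn1] at hr2
      -- `2 r + 2 = p`: `p` is even
      have hpe : p = 2 := by
        have h2p : 2 ∣ p := ⟨r + 1, by omega⟩
        exact ((Nat.prime_dvd_prime_iff_eq Nat.prime_two hpp).mp h2p).symm
      omega
  · -- `ε = -1`
    have hYne : Y.Nonempty := by
      have h1 : 0 < Nat.card Y := by
        rw [d.cardY]
        show 0 < tI p P
        omega
      have : Nonempty Y := (Nat.card_pos_iff.mp h1).1
      exact Set.nonempty_coe_sort.mp this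
    obtain ⟨ψ, hψ⟩ := hYne
    have hdegψ := hS.hw ψ hψ
    rw [hε] at hdegψ
    set A := charDegree (ψ : G → ℂ) with hAdef
    have hApos : 0 < A := charDegree_pos ψ
    have hAf : A + fI P = w * p := by
      have h1 : (A : ℤ) + (fI P : ℤ) = (w : ℤ) * p := by
        have : ((Cz P).relIndex (Nz P) : ℤ) = (fI P : ℤ) := rfl
        rw [this] at hdegψ
        linarith
      exact_mod_cast h1
    have hw1 : 1 ≤ w := by
      rcases Nat.eq_zero_or_pos w with h | h
      · rw [h, zero_mul] at hAf; omega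
      · exact h
    have htw : 2 ≤ t * w := by
      by_contra hlt
      have htw1 : t * w = 1 := by
        have : 1 ≤ t * w := Nat.mul_pos ht1 hw1
        omega
      have ht' : t = 1 := Nat.eq_one_of_mul_eq_one_right htw1
      have hw' : w = 1 := Nat.eq_one_of_mul_eq_one_left htw1
      rw [ht', mul_one] at ht
      rw [hw', one_mul] at hAf
      have hA1 : A = 1 := by omega
      have h1 := eq_triv_of_degree_one hS.perf ψ hA1
      have hmem : trivIrr G ∈ X ∩ Y := ⟨d.trivX, h1 ▸ hψ⟩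
      exact (Set.disjoint_iff.mp d.disj) hmem
    have hps := d.psumY ψ hψ
    have hdvdZ := degree_dvd_psum P hS.hP ψ (fI P : ℤ) (by
      rw [hps, hε]
      push_cast
      ring)
    rw [hS.hidx] at hdvdZ
    have hdvd : A ∣ fI P * (1 + n * p) := by exact_mod_cast hdvdZ
    rcases arith_special (p := p) (fI P) t w n A ht.symm hw1 hS.hn htw hAf hdvd with hnt | halt
    swap
    · exact Or.inr (Or.inr halt)
    have hsq : ∑ᶠ χ ∈ ((X ∪ Y)ᶜ : Set (IrrCharacter G)), (aP P χ) ^ 2 = n := by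
      set r := Nat.card (Cfsg.Agent.Lib.Helper24.BRC.typeA X v) with hr
      set Z := ∑ᶠ χ ∈ ((X ∪ Y)ᶜ : Set (IrrCharacter G)), (aP P χ) ^ 2 with hZ
      have e1 : fI P * (n + 1) = r * (n + 1) ^ 2 + (w + 1) * (n + 1) := by rw [← hcl]; ring
      have e2 : t * w ^ 2 = w * (n + 1) := by rw [hnt]; ring
      have e3 : Z + 1 + r * (n + 1) ^ 2 + w * (n + 1) = r * (n + 1) ^ 2 + (w + 1) * (n + 1) := by
        rw [← e1, ← e2]; exact hso
      have e5 : (w + 1) * (n + 1) = w * (n + 1) + (n + 1) := by ring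
      omega
    have hdvdrank := succ_dvd_of_special hS hL hA hC2 hsq
    have hw' : w = 1 := arith_rank (p := p) (fI P) t w n _ ht.symm hw1 hnt hcl hdvdrank
    have hnt' : n + 1 = tI p P := by rw [htI, hnt, hw', mul_one]
    have ht2 : 2 ≤ t := by rw [hw', mul_one] at htw; exact htw
    have hft : fI P < p - 1 := by
      have : fI P * 2 ≤ fI P * t := Nat.mul_le_mul_left _ ht2
      omega
    rcases stepD hS hft hε hw' hnt' with h2 | h2
    · left
      apply psl_of_n_eq_one hS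
      omega
    · exact Or.inr (Or.inl (stepE hS hft hε hw' hnt' h2))

end special

/-- the dichotomy of `special_or_alt` when `f = p - 1` -/
theorem special_or_alt_eq (hperf : commutator G = ⊤) (P : Subgroup G) (hP : Nat.card P = p)
    (hSyl : ¬ p ∣ P.index) (n : ℕ) (hn : 1 ≤ n) (hidx : (Nz P).index = 1 + n * p)
    (hfeq : (Cz P).relIndex (Nz P) = p - 1) (hf2 : 2 ≤ (Cz P).relIndex (Nz P))
    (X Y : Set (IrrCharacter G)) (v : IrrCharacter G → ℤ) (ε : ℤ) (d : B0 p P X Y v ε)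
    (hdegX : ∀ η ∈ X, (charDegree (η : G → ℂ) : ℤ) ≡ v η [ZMOD p]) :
    Alt p n ∨ ∀ η ∈ X, η ≠ trivIrr G →
      (v η = 1 ∧ charDegree (η : G → ℂ) = 1 + n * p) ∨ (v η = -1 ∧ charDegree (η : G → ℂ) = p - 1) := by
  classical
  have hpp : p.Prime := Fact.out
  by_cases halt : Alt p n
  · exact Or.inl halt
  refine Or.inr fun η hη hne => ?_
  have hfdvd : (Cz P).relIndex (Nz P) ∣ p - 1 := d.dvd
  have hle : Cz P ≤ Nz P := by
    intro c hc
    rw [Subgroup.mem_normalizer_iff]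
    intro x
    have hc' := Subgroup.mem_centralizer_iff.mp hc
    constructor
    · intro hx
      have : c * x * c⁻¹ = x := by rw [← hc' x hx]; group
      rw [this]; exact hx
    · intro hx
      have h2 := hc' (c * x * c⁻¹) hx
      have h3 : x = c * x * c⁻¹ := by
        have : c * x * c⁻¹ * c = c * (c * x * c⁻¹) := h2
        have h4 : c * x = c * (c * x * c⁻¹) := by simpa [mul_assoc] using this
        exact mul_left_cancel h4
      rw [h3]; exact hx
  have hCidx : (Cz P).index = (Cz P).relIndex (Nz P) * (1 + n * p) := by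
    rw [← hidx]; exact (Subgroup.relIndex_mul_index hle).symm
  set D := charDegree (η : G → ℂ) with hD
  have hDpos : 0 < D := charDegree_pos η
  have hvalP : ∀ x ∈ P, x ≠ 1 → (η : G → ℂ) x = (v η : ℂ) := fun x hx hx1 =>
    d.valX η hη x (by rw [orderOf_eq_of_mem P hP x hx hx1])
  have hdvdZ := degree_dvd_class P hP η (v η) hvalP
  have hdvdN : D ∣ (Cz P).relIndex (Nz P) * (1 + n * p) := by
    rw [hCidx] at hdvdZ
    rcases d.sgnX η hη with h | h
    · rw [h, one_mul] at hdvdZ; exact_mod_cast hdvdZ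
    · rw [h] at hdvdZ
      have : (D : ℤ) ∣ (((Cz P).relIndex (Nz P) * (1 + n * p) : ℕ) : ℤ) := by
        have := (dvd_neg (a := (D : ℤ))).mpr hdvdZ
        simpa using this
      exact_mod_cast this
  have hfrob : ∀ χ : IrrCharacter G,
      (∀ x ∈ P, x ≠ 1 → ∀ y ∈ Cz P, ¬ p ∣ orderOf y → (χ : G → ℂ) (x * y) = 1) →
      charDegree (χ : G → ℂ) ≤ (Nz P).index := fun χ h => degree_le_index P hP hSyl χ h
  have hcong := hdegX η hη
  rcases d.sgnX η hη with hv | hv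
  · left
    refine ⟨hv, ?_⟩
    rw [hv] at hcong
    have h1 : (p : ℤ) ∣ (D : ℤ) - 1 := (Int.modEq_iff_dvd.mp hcong.symm)
    have h2 : p ∣ D - 1 := by
      have : ((D - 1 : ℕ) : ℤ) = (D : ℤ) - 1 := by omega
      rw [← this] at h1; exact_mod_cast h1
    obtain ⟨u, hu⟩ := h2
    have hDu : D = u * p + 1 := by rw [mul_comm]; omega
    have hD1 : D ≠ 1 := fun h => hne (eq_triv_of_degree_one hperf η h)
    have hu1 : 1 ≤ u := by
      rcases Nat.eq_zero_or_pos u with h | h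
      · exfalso; apply hD1; rw [hDu, h]; simp
      · exact h
    have hfrob' : D ≤ (Nz P).index := by
      apply hfrob η
      intro x hx hx1 y hy hyreg
      have := d.valX η hη (x * y) (dvd_orderOf_mul P hP x hx hx1 y hy hyreg)
      rw [this, hv]; simp
    rw [hidx, hDu] at hfrob'
    have hun : u ≤ n := by
      have : u * p ≤ n * p := by omega
      exact Nat.le_of_mul_le_mul_right this hpp.pos
    rcases Nat.lt_or_ge u n with h | h
    · exfalso
      rw [hDu] at hdvdN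
      obtain ⟨h', hh', heq⟩ := arith_plus (p := p) _ n u hfdvd hu1 h hdvdN
      exact halt ⟨h', u, hh', hu1, heq⟩
    · have : u = n := le_antisymm hun h
      rw [hDu, this]; ring
  · right
    refine ⟨hv, ?_⟩
    rw [hv] at hcong
    have h1 : (p : ℤ) ∣ (D : ℤ) + 1 := by
      have := (Int.modEq_iff_dvd.mp hcong.symm)
      simpa using this
    have h2 : p ∣ D + 1 := by exact_mod_cast h1
    obtain ⟨u', hu'⟩ := h2
    have hu1 : 1 ≤ u' := by
      rcases Nat.eq_zero_or_pos u' with h | h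
      · rw [h] at hu'; omega
      · exact h
    have hDu : D = u' * p - 1 := by rw [mul_comm]; omega
    rcases Nat.lt_or_ge u' 2 with h | h
    · have : u' = 1 := by omega
      rw [hDu, this]; simp
    · exfalso
      rw [hDu, hfeq] at hdvdN
      rcases arith_minus_eq (p := p) n u' hn h hdvdN with h3 | h3
      · exact halt h3
      · exact no_degenerate P hP n hn hidx hfeq hf2 X Y v ε d hfrob η hη hv (by rw [← hDu] at h3; exact h3)

/-- the exceptional degree is `w p + ε f` -/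
theorem exists_w (P : Subgroup G) (X Y : Set (IrrCharacter G)) (v : IrrCharacter G → ℤ) (ε : ℤ)
    (d : B0 p P X Y v ε) (hfp : (Cz P).relIndex (Nz P) < p)
    (hdegY : ∀ ξ ∈ Y, (charDegree (ξ : G → ℂ) : ℤ) ≡ ε * ((Cz P).relIndex (Nz P) : ℤ) [ZMOD p]) :
    ∃ w : ℕ, ∀ ψ ∈ Y, (charDegree (ψ : G → ℂ) : ℤ) = (w : ℤ) * p + ε * ((Cz P).relIndex (Nz P) : ℤ) := by
  classical
  rcases Set.eq_empty_or_nonempty Y with hY | ⟨ψ0, hψ0⟩
  · exact ⟨0, fun ψ hψ => by rw [hY] at hψ; exact absurd hψ (Set.notMem_empty ψ)⟩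
  have hsame : ∀ ψ ∈ Y, charDegree (ψ : G → ℂ) = charDegree (ψ0 : G → ℂ) := by
    intro ψ hψ
    have h1 := d.degY ψ hψ
    have h2 := d.degY ψ0 hψ0
    have h3 : ε * (charDegree (ψ : G → ℂ) : ℤ) = ε * (charDegree (ψ0 : G → ℂ) : ℤ) := by rw [h1, h2]
    have hε0 : ε ≠ 0 := by rcases d.sgn with h | h <;> rw [h] <;> norm_num
    exact_mod_cast mul_left_cancel₀ hε0 h3
  have hc := hdegY ψ0 hψ0
  have hdvd : (p : ℤ) ∣ (charDegree (ψ0 : G → ℂ) : ℤ) - ε * ((Cz P).relIndex (Nz P) : ℤ) :=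
    (Int.modEq_iff_dvd.mp hc.symm)
  obtain ⟨k, hk⟩ := hdvd
  have hpos : 0 < charDegree (ψ0 : G → ℂ) := charDegree_pos ψ0
  have hp0 : (0 : ℤ) < p := by have := (Fact.out : p.Prime).pos; exact_mod_cast this
  have hk0 : 0 ≤ k := by
    by_contra hneg
    have hk1 : k ≤ -1 := by omega
    have h1 : (p : ℤ) * k ≤ -(p : ℤ) := by nlinarith
    have hf' : ((Cz P).relIndex (Nz P) : ℤ) < p := by exact_mod_cast hfp
    have hf0 : (0 : ℤ) ≤ ((Cz P).relIndex (Nz P) : ℤ) := by positivity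
    have hd1 : (1 : ℤ) ≤ (charDegree (ψ0 : G → ℂ) : ℤ) := by exact_mod_cast hpos
    rcases d.sgn with h | h <;> rw [h] at hk <;> nlinarith
  refine ⟨k.toNat, fun ψ hψ => ?_⟩
  rw [hsame ψ hψ, Int.toNat_of_nonneg hk0]
  linarith

/-- CORE47 in subgroup form -/
theorem core47_sub (hperf : commutator G = ⊤) (hcore : pPrimeCore p G = ⊥) (P : Subgroup G)
    (hP : Nat.card P = p) (hSyl : ¬ p ∣ P.index) (n : ℕ) (hidx : (Nz P).index = 1 + n * p) :
    (3 < p ∧ Nonempty (G ≃* Matrix.ProjectiveSpecialLinearGroup (Fin 2) (ZMod p))) ∨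
    (∃ (m : ℕ) (F : Type) (_ : Field F) (_ : Fintype F), Fintype.card F = 2 ^ m ∧ p = 2 ^ m + 1 ∧ 3 < p ∧
        Nonempty (G ≃* Matrix.SpecialLinearGroup (Fin 2) F)) ∨
    Alt p n := by
  classical
  have hpp : p.Prime := Fact.out
  have hn := one_le_n hperf P hP hSyl n hidx
  have hf2 := two_le_relIndex hperf P hP hSyl
  have hfd : (Cz P).relIndex (Nz P) ∣ p - 1 := fI_dvd P hP
  have hfle : (Cz P).relIndex (Nz P) ≤ p - 1 := Nat.le_of_dvd (by have := hpp.two_le; omega) hfd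
  obtain ⟨M, hM⟩ := Cfsg.Agent.Lib.Helper6.exists_isPModular p
  have hB : ∃ (X Y : Set (IrrCharacter G)) (v : IrrCharacter G → ℤ) (ε : ℤ), B0 p P X Y v ε ∧
      principalBlock M G = X ∪ Y ∧
      (∀ η ∈ X, (charDegree (η : G → ℂ) : ℤ) ≡ v η [ZMOD p]) ∧
      (∀ ξ ∈ Y, (charDegree (ξ : G → ℂ) : ℤ) ≡ ε * ((Cz P).relIndex (Nz P) : ℤ) [ZMOD p]) ∧
      (∀ ξ ∈ Y, ∀ ξ' ∈ Y, ∀ g : G, ¬ p ∣ orderOf g → (ξ : G → ℂ) g = (ξ' : G → ℂ) g) ∧
      (∀ ξ ∈ Y, ∀ g : G, ¬ p ∣ orderOf g →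
        (ε : ℂ) * (ξ : G → ℂ) g = ∑ᶠ χ ∈ X, (v χ : ℂ) * (χ : G → ℂ) g) := by
    by_cases hf : (Cz P).relIndex (Nz P) < p - 1
    · exact Cfsg.Agent.Lib.Helper6.BRHB0X.exists_B0_full hM P hP hSyl hf
    · exact exists_B0_full_eq hM P hP hSyl (by omega)
  obtain ⟨X, Y, v, ε, d, -, hdX, hdY, hYreg, hrel⟩ := hB
  have hsa : Alt p n ∨ ∀ η ∈ X, η ≠ trivIrr G →
      (v η = 1 ∧ charDegree (η : G → ℂ) = 1 + n * p) ∨ (v η = -1 ∧ charDegree (η : G → ℂ) = p - 1) := by
    by_cases hf : (Cz P).relIndex (Nz P) < p - 1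
    · exact special_or_alt hperf P hP hSyl n hn hidx hf X Y v ε d hdX
    · exact special_or_alt_eq hperf P hP hSyl n hn hidx (by omega) hf2 X Y v ε d hdX
  rcases hsa with halt | htyp
  · exact Or.inr (Or.inr halt)
  obtain ⟨η0, hη0X, hv0⟩ := exists_typeB P hP hSyl n hn hidx hf2 X Y v ε d htyp
  obtain ⟨x0, hx0P, hx01⟩ := exists_ne_one P hP
  have hx0s : p ∣ orderOf x0 := by rw [orderOf_eq_of_mem P hP x0 hx0P hx01]
  have hvtriv : v (trivIrr G) = 1 := by
    have h0 := d.valX (trivIrr G) d.trivX x0 hx0s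
    have h1 : ((trivIrr G : IrrCharacter G) : G → ℂ) x0 = 1 := rfl
    rw [h1] at h0
    exact_mod_cast h0.symm
  have hne0 : η0 ≠ trivIrr G := by
    intro h
    rw [h, hvtriv] at hv0
    norm_num at hv0
  have hdeg0 : charDegree (η0 : G → ℂ) = p - 1 := by
    rcases htyp η0 hη0X hne0 with ⟨h, -⟩ | ⟨-, h⟩
    · rw [h] at hv0; norm_num at hv0
    · exact h
  have hval0 : ∀ x ∈ P, x ≠ 1 → ∀ y ∈ Cz P, ¬ p ∣ orderOf y → (η0 : G → ℂ) (x * y) = -1 := by
    intro x hx hx1 y hy hyr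
    rw [d.valX η0 hη0X (x * y) (dvd_orderOf_mul P hP x hx hx1 y hy hyr), hv0]
    simp
  have hker := apply_eq_degree_of_typeB P hP hSyl η0 hdeg0 hval0
  have hC : Cz P = P := by
    refine Cz_eq_of_typeB hcore P hP hSyl η0 hker ⟨x0, hx0P, ?_⟩
    rw [d.valX η0 hη0X x0 hx0s, hv0, apply_one_eq η0, hdeg0]
    intro h
    have h2 : ((p - 1 : ℕ) : ℂ) = ((p : ℂ) - 1) := by
      rw [Nat.cast_sub hpp.one_lt.le]; simp
    rw [h2] at h
    have h3 : (p : ℂ) = 0 := by
      have : ((-1 : ℤ) : ℂ) = -1 := by simp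
      rw [this] at h
      linear_combination -h
    have : (p : ℂ) ≠ 0 := by exact_mod_cast hpp.ne_zero
    exact this h3
  obtain ⟨w, hw⟩ := exists_w P X Y v ε d (by have := hpp.two_le; omega) hdY
  have hS : Special p P n w X Y v ε :=
    { bx := ⟨d, hYreg, hrel⟩
      hP := hP
      hSyl := hSyl
      hC := hC
      hidx := hidx
      hn := hn
      hf2 := hf2
      perf := hperf
      core := fun K hK hco => by
        have h1 := Cfsg.Agent.Lib.Helper12.le_pPrimeCore p K hK hco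
        rw [hcore] at h1
        exact eq_bot_iff.mpr h1
      typ := htyp
      hw := hw }
  exact concl_of_special hS

/-- CORE47 = S4700 for groups with `O_{p'}(G) = 1` -/
theorem core47 (hperf : commutator G = ⊤) (p : ℕ) [Fact p.Prime]
    (hcore : pPrimeCore p G = ⊥) (P : Sylow p G) (hP : Nat.card P = p) (n : ℕ)
    (hn : Nat.card (Sylow p G) = 1 + n * p) :
    (∃ (F : Type) (_ : Field F) (_ : Fintype F), Fintype.card F = p ∧ 3 < p ∧
        Nonempty (G ≃* Matrix.ProjectiveSpecialLinearGroup (Fin 2) F)) ∨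
    (∃ (m : ℕ) (F : Type) (_ : Field F) (_ : Fintype F), Fintype.card F = 2 ^ m ∧ p = 2 ^ m + 1 ∧ 3 < p ∧
        Nonempty (G ≃* Matrix.SpecialLinearGroup (Fin 2) F)) ∨
    Alt p n := by
  have hSyl : ¬ p ∣ (P : Subgroup G).index := P.not_dvd_index
  have hidx : (Nz (P : Subgroup G)).index = 1 + n * p := by
    rw [← hn]; exact (Sylow.card_eq_index_normalizer P).symm
  rcases core47_sub hperf hcore (P : Subgroup G) hP hSyl n hidx with h | h | h
  · refine Or.inl ⟨ZMod p, inferInstance, inferInstance, ZMod.card p, h.1, h.2⟩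
  · exact Or.inr (Or.inl h)
  · exact Or.inr (Or.inr h)


/-- CORE47 in the form used by `BRWWrap` -/
theorem core47_all : Cfsg.Agent.Lib.Helper27.BRWWrap.Core47.{u} :=
  fun {_Q} _ _ hperf p _ hcore P hP n hn => core47 hperf p hcore P hP n hn

end Cfsg.Agent.Lib.Helper27.BRWCore
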