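import Mathlib
import Cfsg.Agent.Lib.Helper28.SchurFoxA

/-!
# Three generic lemmas on central extensions for S2052 (helper27, requested by helper19)

* `commutator_le_core` (A2): `θ : V ↠ H` central, `N ⊴ H` perfect of index `2`: `V' ≤ ⁅θ⁻¹N, θ⁻¹N⁆`;
* `core_inter_ker` (A1): if the perfect subgroup `N` has no non-trivial finite stem extension with kernel of
  exponent `p`, then `ker θ ∩ ⁅θ⁻¹N, θ⁻¹N⁆ = 1`;
* `retraction_of_inter` (R): a retraction `V → ker σ` from a subgroup `W ≤ V` with `V/W` elementary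
  abelian and `ker σ ∩ W = 1`.
-/

set_option autoImplicit false
set_option linter.style.haveILetI false

open Subgroup
open scoped commutatorElement
open Cfsg.Agent.Lib.Helper28.SchurFox

namespace Cfsg.Agent.Lib.Helper27.ONRetr

universe u

section core

variable {V H : Type*} [Group V] [Group H] (θ : V →* H) (hs : Function.Surjective θ)
  (hc : θ.ker ≤ center V) (N : Subgroup H)

include hs in
theorem map_commutator_comap : (⁅N.comap θ, N.comap θ⁆).map θ = ⁅N, N⁆ := by
  rw [Subgroup.map_commutator, Subgroup.map_comap_eq_self_of_surjective hs]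

include hs in
/-- every element of `θ⁻¹N` is a product of an element of the commutator subgroup and an element of
the kernel, when `N` is perfect -/
theorem exists_mul_of_mem_comap (hperf : ⁅N, N⁆ = N) (m : V) (hm : m ∈ N.comap θ) :
    ∃ q ∈ ⁅N.comap θ, N.comap θ⁆, ∃ a ∈ θ.ker, m = q * a := by
  have h1 : θ m ∈ (⁅N.comap θ, N.comap θ⁆).map θ := by
    rw [map_commutator_comap θ hs N, hperf]
    exact hm
  obtain ⟨q, hq, hqm⟩ := h1
  refine ⟨q, hq, q⁻¹ * m, ?_, by group⟩
  rw [MonoidHom.mem_ker, map_mul, map_inv, hqm, inv_mul_cancel]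

include hs hc in
/-- **(A2)** -/
theorem commutator_le_core [N.Normal] (hperf : ⁅N, N⁆ = N) (hidx : N.index = 2) :
    commutator V ≤ ⁅N.comap θ, N.comap θ⁆ := by
  set M := N.comap θ with hM
  haveI : M.Normal := by rw [hM]; infer_instance
  haveI hPn : (⁅M, M⁆ : Subgroup V).Normal := Subgroup.commutator_normal M M
  -- a commutator with an element of `M` lies in `P`
  have key : ∀ x ∈ M, ∀ y : V, ⁅x, y⁆ ∈ ⁅M, M⁆ := by
    intro x hx y
    obtain ⟨q, hq, a, ha, rfl⟩ := exists_mul_of_mem_comap θ hs N hperf x hx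
    have hac : ∀ g : V, g * a = a * g := fun g => Subgroup.mem_center_iff.mp (hc ha) g
    have : ⁅q * a, y⁆ = q * (y * q⁻¹ * y⁻¹) := by
      rw [commutatorElement_def]
      have h1 : (q * a)⁻¹ = q⁻¹ * a⁻¹ := by
        rw [mul_inv_rev]
        have := hac q⁻¹
        rw [eq_comm]
        calc q⁻¹ * a⁻¹ = a⁻¹ * (a * q⁻¹) * a⁻¹ := by group
          _ = a⁻¹ * (q⁻¹ * a) * a⁻¹ := by rw [this]
          _ = a⁻¹ * q⁻¹ := by group
      rw [h1]
      calc q * a * y * (q⁻¹ * a⁻¹) * y⁻¹ = q * (a * y) * q⁻¹ * (a⁻¹ * y⁻¹) := by group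
        _ = q * (y * a) * q⁻¹ * (a⁻¹ * y⁻¹) := by rw [hac y]
        _ = q * y * (a * q⁻¹) * a⁻¹ * y⁻¹ := by group
        _ = q * y * (q⁻¹ * a) * a⁻¹ * y⁻¹ := by rw [hac q⁻¹]
        _ = q * (y * q⁻¹ * y⁻¹) := by group
    rw [this]
    exact Subgroup.mul_mem _ hq (hPn.conj_mem _ (Subgroup.inv_mem _ hq) y)
  have key' : ∀ x : V, ∀ y ∈ M, ⁅x, y⁆ ∈ ⁅M, M⁆ := by
    intro x y hy
    have := key y hy x
    have h2 : ⁅x, y⁆ = ⁅y, x⁆⁻¹ := (commutatorElement_inv y x).symm
    rw [h2]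
    exact Subgroup.inv_mem _ this
  have hMidx : M.index = 2 := by
    rw [hM, Subgroup.index_comap_of_surjective N hs]
    exact hidx
  rw [commutator_def, Subgroup.commutator_le]
  intro x _ y _
  by_cases hx : x ∈ M
  · exact key x hx y
  by_cases hy : y ∈ M
  · exact key' x y hy
  -- both outside `M`: `y = x * m`
  have hm : x⁻¹ * y ∈ M := by
    rw [Subgroup.mul_mem_iff_of_index_two hMidx]
    constructor
    · intro h; exact absurd ((Subgroup.inv_mem_iff M).mp h) hx
    · intro h; exact absurd h hy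
  have h3 : ⁅x, y⁆ = x * ⁅x, x⁻¹ * y⁆ * x⁻¹ := by
    simp only [commutatorElement_def]
    group
  rw [h3]
  exact hPn.conj_mem _ (key' x _ hm) x

end core

section stem

variable {V H : Type u} [Group V] [Group H] [Finite V] (θ : V →* H)
  (hs : Function.Surjective θ) (hc : θ.ker ≤ center V) (N : Subgroup H)

include hs hc in
/-- **(A1)** -/
theorem core_inter_ker (hperf : ⁅N, N⁆ = N) (p : ℕ)
    (hexp : ∀ a ∈ θ.ker, a ^ p = 1)
    (hN : ∀ (Γ : Type u) [Group Γ] [Finite Γ] (σ : Γ →* ↥N), Cfsg.IsStemExtension σ →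
      (∀ a ∈ σ.ker, a ^ p = 1) → σ.ker = ⊥) :
    ∀ a ∈ θ.ker, a ∈ ⁅N.comap θ, N.comap θ⁆ → a = 1 := by
  set M := N.comap θ with hM
  set P : Subgroup V := ⁅M, M⁆ with hP
  have hPM : P ≤ M := by
    rw [hP, Subgroup.commutator_le]
    intro x hx y hy
    exact M.mul_mem (M.mul_mem (M.mul_mem hx hy) (M.inv_mem hx)) (M.inv_mem hy)
  -- `P` is perfect
  have hPP : ⁅P, P⁆ = P := by
    apply le_antisymm
    · rw [Subgroup.commutator_le]
      intro x hx y hy
      exact P.mul_mem (P.mul_mem (P.mul_mem hx hy) (P.inv_mem hx)) (P.inv_mem hy)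
    · rw [hP, Subgroup.commutator_le]
      intro x hx y hy
      obtain ⟨q, hq, a, ha, rfl⟩ := exists_mul_of_mem_comap θ hs N hperf x hx
      obtain ⟨r, hr, b, hb, rfl⟩ := exists_mul_of_mem_comap θ hs N hperf y hy
      have hac : ∀ g : V, g * a = a * g := fun g => Subgroup.mem_center_iff.mp (hc ha) g
      have hbc : ∀ g : V, g * b = b * g := fun g => Subgroup.mem_center_iff.mp (hc hb) g
      have : ⁅q * a, r * b⁆ = ⁅q, r⁆ := by
        simp only [commutatorElement_def, mul_inv_rev]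
        have e1 : a⁻¹ * q⁻¹ = q⁻¹ * a⁻¹ := by
          have := hac q⁻¹
          calc a⁻¹ * q⁻¹ = a⁻¹ * (q⁻¹ * a) * a⁻¹ := by group
            _ = a⁻¹ * (a * q⁻¹) * a⁻¹ := by rw [this]
            _ = q⁻¹ * a⁻¹ := by group
        have e2 : b⁻¹ * r⁻¹ = r⁻¹ * b⁻¹ := by
          have := hbc r⁻¹
          calc b⁻¹ * r⁻¹ = b⁻¹ * (r⁻¹ * b) * b⁻¹ := by group
            _ = b⁻¹ * (b * r⁻¹) * b⁻¹ := by rw [this]
            _ = r⁻¹ * b⁻¹ := by group
        rw [e1, e2]
        calc q * a * (r * b) * (q⁻¹ * a⁻¹) * (r⁻¹ * b⁻¹)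
            = q * (a * r) * (b * q⁻¹) * a⁻¹ * r⁻¹ * b⁻¹ := by group
          _ = q * (r * a) * (q⁻¹ * b) * a⁻¹ * r⁻¹ * b⁻¹ := by rw [hac r, hbc q⁻¹]
          _ = q * r * (a * q⁻¹) * (b * a⁻¹) * r⁻¹ * b⁻¹ := by group
          _ = q * r * (q⁻¹ * a) * (a⁻¹ * b) * r⁻¹ * b⁻¹ := by rw [hac q⁻¹, hbc a⁻¹]
          _ = q * r * q⁻¹ * (b * r⁻¹) * b⁻¹ := by group
          _ = q * r * q⁻¹ * (r⁻¹ * b) * b⁻¹ := by rw [hbc r⁻¹]
          _ = q * r * q⁻¹ * r⁻¹ := by group
      rw [this]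
      exact Subgroup.commutator_mem_commutator hq hr
  -- the restriction of `θ` to `P`
  let σ : ↥P →* ↥N := (θ.comp P.subtype).codRestrict N (fun x => hPM x.2)
  have hσ : ∀ x : ↥P, ((σ x : ↥N) : H) = θ (x : V) := fun x => rfl
  have hker : ∀ x : ↥P, x ∈ σ.ker ↔ (x : V) ∈ θ.ker := by
    intro x
    rw [MonoidHom.mem_ker, MonoidHom.mem_ker, ← hσ x]
    constructor
    · intro h; rw [h]; rfl
    · intro h; exact Subtype.ext h
  have hstem : Cfsg.IsStemExtension σ := by
    refine ⟨?_, ?_, ?_⟩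
    · intro n
      have h1 : (n : H) ∈ P.map θ := by
        rw [hP, map_commutator_comap θ hs N, hperf]
        exact n.2
      obtain ⟨q, hq, hqn⟩ := h1
      exact ⟨⟨q, hq⟩, Subtype.ext hqn⟩
    · intro x hx
      rw [Subgroup.mem_center_iff]
      intro g
      apply Subtype.ext
      have := Subgroup.mem_center_iff.mp (hc ((hker x).mp hx)) (g : V)
      exact this
    · intro x _
      have h1 : commutator ↥P = ⊤ := by
        have h2 := Subgroup.map_subtype_commutator P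
        rw [hPP] at h2
        apply Subgroup.map_injective P.subtype_injective
        rw [h2, ← MonoidHom.range_eq_map, Subgroup.range_subtype]
      rw [h1]
      exact Subgroup.mem_top x
  have hexp' : ∀ a ∈ σ.ker, a ^ p = 1 := by
    intro a ha
    apply Subtype.ext
    rw [Subgroup.coe_pow]
    exact hexp _ ((hker a).mp ha)
  have hbot := hN ↥P σ hstem hexp'
  intro a ha haP
  have h1 : (⟨a, haP⟩ : ↥P) ∈ σ.ker := (hker _).mpr ha
  rw [hbot, Subgroup.mem_bot] at h1
  exact congrArg Subtype.val h1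

end stem

section retraction

/-- an injective homomorphism of elementary abelian `p`-groups has a left inverse -/
theorem exists_leftInverse_of_exp (p : ℕ) [Fact p.Prime] {A Q : Type*} [CommGroup A] [CommGroup Q]
    (hA : ∀ a : A, a ^ p = 1) (hQ : ∀ q : Q, q ^ p = 1) (f0 : A →* Q)
    (hinj : Function.Injective f0) : ∃ g : Q →* A, ∀ a, g (f0 a) = a := by
  have hA' : ∀ x : Additive A, p • x = 0 := fun x => congrArg Additive.ofMul (hA (Additive.toMul x))
  have hQ' : ∀ x : Additive Q, p • x = 0 := fun x => congrArg Additive.ofMul (hQ (Additive.toMul x))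
  obtain ⟨modA⟩ : Nonempty (Module (ZMod p) (Additive A)) := ⟨AddCommGroup.zmodModule hA'⟩
  obtain ⟨modQ⟩ : Nonempty (Module (ZMod p) (Additive Q)) := ⟨AddCommGroup.zmodModule hQ'⟩
  let f : Additive A →ₗ[ZMod p] Additive Q :=
    AddMonoidHom.toZModLinearMap p (MonoidHom.toAdditive f0)
  have hfinj : Function.Injective f := by
    intro x y hxy
    have : f0 (Additive.toMul x) = f0 (Additive.toMul y) := congrArg Additive.toMul hxy
    exact congrArg Additive.ofMul (hinj this)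
  obtain ⟨g, hg⟩ := LinearMap.exists_leftInverse_of_injective f (LinearMap.ker_eq_bot.mpr hfinj)
  refine ⟨MonoidHom.toAdditive.symm g.toAddMonoidHom, ?_⟩
  intro a
  have := LinearMap.congr_fun hg (Additive.ofMul a)
  exact congrArg Additive.toMul this

/-- the same for groups known to be commutative -/
theorem exists_leftInverse_of_exp' (p : ℕ) [Fact p.Prime] {A Q : Type*} [Group A] [Group Q]
    (hAc : ∀ a b : A, a * b = b * a) (hQc : ∀ a b : Q, a * b = b * a)
    (hA : ∀ a : A, a ^ p = 1) (hQ : ∀ q : Q, q ^ p = 1) (f0 : A →* Q)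
    (hinj : Function.Injective f0) : ∃ g : Q →* A, ∀ a, g (f0 a) = a := by
  letI instA : CommGroup A := { (inferInstance : Group A) with mul_comm := hAc }
  letI instQ : CommGroup Q := { (inferInstance : Group Q) with mul_comm := hQc }
  exact exists_leftInverse_of_exp p hA hQ f0 hinj

variable {Γ G : Type*} [Group Γ] [Group G]

/-- **(R)** -/
theorem retraction_of_inter [Finite Γ] (σ : Γ →* G) (hc : σ.ker ≤ center Γ) (p : ℕ) (hp : p.Prime)
    (hexp : ∀ a ∈ σ.ker, a ^ p = 1) (V W : Subgroup Γ) (hWV : W ≤ V) (hcomm : ⁅V, V⁆ ≤ W)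
    (hpow : ∀ v ∈ V, v ^ p ∈ W) (h : ∀ a ∈ σ.ker, a ∈ W → a = 1) :
    Nonempty (Retraction σ V) := by
  classical
  haveI : Fact p.Prime := ⟨hp⟩
  -- the quotient `Q = V / W`
  let W' : Subgroup ↥V := W.subgroupOf V
  haveI hW'n : W'.Normal := by
    constructor
    intro w hw v
    rw [Subgroup.mem_subgroupOf] at hw ⊢
    have h1 : ((v * w * v⁻¹ : ↥V) : Γ) = ⁅(v : Γ), (w : Γ)⁆ * (w : Γ) := by
      simp only [commutatorElement_def, Subgroup.coe_mul, Subgroup.coe_inv]
      group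
    rw [h1]
    exact W.mul_mem (hcomm (Subgroup.commutator_mem_commutator v.2 w.2)) hw
  have hQcomm : ∀ x y : ↥V ⧸ W', x * y = y * x := by
    intro x y
    obtain ⟨v, rfl⟩ := QuotientGroup.mk_surjective x
    obtain ⟨w, rfl⟩ := QuotientGroup.mk_surjective y
    rw [← QuotientGroup.mk_mul, ← QuotientGroup.mk_mul, QuotientGroup.eq]
    rw [Subgroup.mem_subgroupOf]
    have h1 : (((v * w)⁻¹ * (w * v) : ↥V) : Γ) = ⁅(w : Γ)⁻¹, (v : Γ)⁻¹⁆ := by
      simp only [commutatorElement_def, Subgroup.coe_mul, Subgroup.coe_inv, mul_inv_rev, inv_inv]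
      group
    rw [h1]
    exact hcomm (Subgroup.commutator_mem_commutator (V.inv_mem w.2) (V.inv_mem v.2))
  have hQexp : ∀ x : ↥V ⧸ W', x ^ p = 1 := by
    intro x
    obtain ⟨v, rfl⟩ := QuotientGroup.mk_surjective x
    rw [← QuotientGroup.mk_pow, QuotientGroup.eq_one_iff, Subgroup.mem_subgroupOf,
      Subgroup.coe_pow]
    exact hpow _ v.2
  -- the kernel inside `V`
  let B : Subgroup ↥V := σ.ker.subgroupOf V
  have hBmem : ∀ b : ↥B, ((b : ↥V) : Γ) ∈ σ.ker := fun b => Subgroup.mem_subgroupOf.mp b.2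
  have hBcomm : ∀ x y : ↥B, x * y = y * x := by
    intro x y
    apply Subtype.ext
    apply Subtype.ext
    have := Subgroup.mem_center_iff.mp (hc (hBmem y)) ((x : ↥V) : Γ)
    simpa using this
  have hBexp : ∀ x : ↥B, x ^ p = 1 := by
    intro x
    apply Subtype.ext
    apply Subtype.ext
    have := hexp _ (hBmem x)
    simpa using this
  -- the map `B → Q`
  let f0 : ↥B →* ↥V ⧸ W' := (QuotientGroup.mk' W').comp B.subtype
  have hfinj : Function.Injective f0 := by
    rw [injective_iff_map_eq_one]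
    intro x hx
    have h2 : (x : ↥V) ∈ W' := by
      have : (QuotientGroup.mk' W') (x : ↥V) = 1 := hx
      rwa [QuotientGroup.mk'_apply, QuotientGroup.eq_one_iff] at this
    have h3 := h _ (hBmem x) (Subgroup.mem_subgroupOf.mp h2)
    apply Subtype.ext
    apply Subtype.ext
    exact h3
  obtain ⟨gm, hgf⟩ := exists_leftInverse_of_exp' p hBcomm hQcomm hBexp hQexp f0 hfinj
  let ι : ↥B →* ↥(center Γ) :=
    { toFun := fun b => ⟨((b : ↥V) : Γ), hc (hBmem b)⟩
      map_one' := rfl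
      map_mul' := fun x y => rfl }
  refine ⟨⟨ι.comp (gm.comp (QuotientGroup.mk' W')), ?_, ?_⟩⟩
  · intro v
    exact hBmem _
  · intro a ha haV
    have hb : (⟨a, haV⟩ : ↥V) ∈ B := Subgroup.mem_subgroupOf.mpr ha
    have h5 : gm ((QuotientGroup.mk' W') ⟨a, haV⟩) = ⟨⟨a, haV⟩, hb⟩ := hgf ⟨⟨a, haV⟩, hb⟩
    show ((ι (gm ((QuotientGroup.mk' W') ⟨a, haV⟩)) : ↥(center Γ)) : Γ) = a
    rw [h5]
    rfl

end retraction

end Cfsg.Agent.Lib.Helper27.ONRetr
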