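import Mathlib
import Cfsg.Agent.Lib.Helper27.ONRetr
import Cfsg.Agent.Lib.Helper3.Schur.Basic
import Cfsg.Agent.S2086

/-!
# Second package of generic lemmas on central extensions for S2052 (helper27, requested by helper19)

* `pow_mem_of_closure` (L1), `commute_of_inverting` (L2), `inter_commutator_of_abelian_comap` (L3),
  `comap_closure_pair_comm` (L3'), `coprime_index_closure_pair` (L4), `psl37_perfect_stem` (L5),
  `sq_mem_core` (L6), `exists_lift_sq_eq_one` (L7).
-/

set_option autoImplicit false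
set_option linter.style.haveILetI false

open Subgroup
open scoped commutatorElement

namespace Cfsg.Agent.Lib.Helper27.ONRetr


/-- **(L1)** -/
theorem pow_mem_of_closure {G : Type*} [Group G] (K : Subgroup G) [K.Normal]
    (hab : commutator G ≤ K) (n : ℕ) (S : Set G) (hS : Subgroup.closure S = ⊤)
    (h : ∀ s ∈ S, s ^ n ∈ K) : ∀ g : G, g ^ n ∈ K := by
  have hcomm : ∀ a b : G ⧸ K, a * b = b * a := by
    intro a b
    induction a using QuotientGroup.induction_on with
    | _ a =>
      induction b using QuotientGroup.induction_on with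
      | _ b =>
        rw [← QuotientGroup.mk_mul, ← QuotientGroup.mk_mul, QuotientGroup.eq]
        apply hab
        have : (a * b)⁻¹ * (b * a) = ⁅b⁻¹, a⁻¹⁆ := by
          rw [commutatorElement_def]; group
        rw [this, _root_.commutator_def]
        exact Subgroup.commutator_mem_commutator (mem_top _) (mem_top _)
  have key : ∀ g : G, g ^ n ∈ K ↔ ((g : G ⧸ K)) ^ n = 1 := by
    intro g
    rw [← QuotientGroup.mk_pow, QuotientGroup.eq_one_iff]
  let P : Subgroup G :=
    { carrier := {g | g ^ n ∈ K}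
      one_mem' := by
        show (1 : G) ^ n ∈ K
        rw [one_pow]; exact K.one_mem
      mul_mem' := by
        intro a b ha hb
        have ha' : a ^ n ∈ K := ha
        have hb' : b ^ n ∈ K := hb
        show (a * b) ^ n ∈ K
        rw [key] at ha' hb' ⊢
        rw [QuotientGroup.mk_mul, (show Commute (a : G ⧸ K) (b : G ⧸ K) from hcomm _ _).mul_pow,
          ha', hb', one_mul]
      inv_mem' := by
        intro a ha
        have ha' : a ^ n ∈ K := ha
        show (a⁻¹) ^ n ∈ K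
        rw [inv_pow]
        exact K.inv_mem ha' }
  have hle : Subgroup.closure S ≤ P := by
    rw [Subgroup.closure_le]
    intro s hs
    exact h s hs
  intro g
  have : g ∈ P := hle (by rw [hS]; exact mem_top g)
  exact this

theorem comm_central_left {V : Type*} [Group V] (z a b : V) (hz : ∀ g, z * g = g * z) :
    (z * a) * b * (z * a)⁻¹ * b⁻¹ = a * b * a⁻¹ * b⁻¹ := by
  calc (z * a) * b * (z * a)⁻¹ * b⁻¹ = z * (a * b * a⁻¹) * z⁻¹ * b⁻¹ := by group
    _ = (a * b * a⁻¹) * z * z⁻¹ * b⁻¹ := by rw [hz (a * b * a⁻¹)]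
    _ = a * b * a⁻¹ * b⁻¹ := by group

theorem comm_central_right {V : Type*} [Group V] (z a b : V) (hz : ∀ g, z * g = g * z) :
    a * (z * b) * a⁻¹ * (z * b)⁻¹ = a * b * a⁻¹ * b⁻¹ := by
  calc a * (z * b) * a⁻¹ * (z * b)⁻¹ = (a * z) * (b * a⁻¹ * b⁻¹) * z⁻¹ := by group
    _ = (z * a) * (b * a⁻¹ * b⁻¹) * z⁻¹ := by rw [hz a]
    _ = z * (a * b * a⁻¹ * b⁻¹) * z⁻¹ := by group
    _ = (a * b * a⁻¹ * b⁻¹) * z * z⁻¹ := by rw [hz]
    _ = a * b * a⁻¹ * b⁻¹ := by group

/-- **(L2)** -/
theorem commute_of_inverting {V : Type*} [Group V] (B : Subgroup V) (hB : B ≤ center V) (p : ℕ)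
    (hp : Odd p) (hexp : ∀ b ∈ B, b ^ p = 1) (x y d : V) (hxy : x * y * x⁻¹ * y⁻¹ ∈ B)
    (hdx : d * x * d⁻¹ * x⁻¹ ∈ B) (hdy : d * y * d⁻¹ * y ∈ B) : x * y = y * x := by
  have hcen : ∀ b ∈ B, ∀ g : V, b * g = g * b := fun b hb g =>
    (Subgroup.mem_center_iff.mp (hB hb) g).symm
  set c := x * y * x⁻¹ * y⁻¹ with hcdef
  set k1 := d * x * d⁻¹ * x⁻¹ with hk1
  set k2 := d * y * d⁻¹ * y with hk2
  have hx' : d * x * d⁻¹ = k1 * x := by rw [hk1]; group
  have hy' : d * y * d⁻¹ = k2 * y⁻¹ := by rw [hk2]; group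
  have h1 : c = d * c * d⁻¹ := by
    rw [← hcen c hxy d]; group
  have h2 : d * c * d⁻¹ = (d * x * d⁻¹) * (d * y * d⁻¹) * (d * x * d⁻¹)⁻¹ * (d * y * d⁻¹)⁻¹ := by
    rw [hcdef]; group
  have h3 : c = x * y⁻¹ * x⁻¹ * y⁻¹⁻¹ := by
    rw [h1, h2, hx', hy', comm_central_left k1 x _ (hcen k1 hdx),
      comm_central_right k2 x _ (hcen k2 hdy)]
  have h4 : x * y⁻¹ * x⁻¹ * y⁻¹⁻¹ = y⁻¹ * c⁻¹ * y := by rw [hcdef]; group
  have hci : c⁻¹ ∈ B := B.inv_mem hxy
  have h5 : y⁻¹ * c⁻¹ * y = c⁻¹ := by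
    rw [mul_assoc, hcen c⁻¹ hci y, inv_mul_cancel_left]
  have h6 : c * c = 1 := by
    have : c = c⁻¹ := by rw [← h5, ← h4, ← h3]
    calc c * c = c * c⁻¹ := by rw [← this]
      _ = 1 := mul_inv_cancel c
  obtain ⟨k, hk⟩ := hp
  have h7 : c = 1 := by
    have := hexp c hxy
    rw [hk, pow_succ, pow_mul, pow_two, h6, one_pow, one_mul] at this
    exact this
  have : x * y = c * (y * x) := by rw [hcdef]; group
  rw [this, h7, one_mul]

/-- **(L3)** -/
theorem inter_commutator_of_abelian_comap {V H : Type*} [Group V] [Group H] [Finite V]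
    (θ : V →* H) (hs : Function.Surjective θ) (hc : θ.ker ≤ center V) (p : ℕ)
    (hexp : ∀ a ∈ θ.ker, a ^ p = 1) (S : Subgroup H) (hcop : Nat.Coprime S.index p)
    (hab : ∀ u ∈ S.comap θ, ∀ v ∈ S.comap θ, u * v = v * u) :
    ∀ a ∈ θ.ker, a ∈ commutator V → a = 1 := by
  intro a ha hacomm
  have hidx : (S.comap θ).index = S.index := Subgroup.index_comap_of_surjective S hs
  have h1 := Cfsg.Agent.Lib.Helper3.SchurM.pow_index_mem_comm (S.comap θ) a (hc ha) hacomm
  have hbot : ⁅S.comap θ, S.comap θ⁆ = ⊥ := by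
    rw [eq_bot_iff, Subgroup.commutator_le]
    intro u hu v hv
    rw [Subgroup.mem_bot, commutatorElement_def, hab u hu v hv]
    group
  rw [hbot, Subgroup.mem_bot, hidx] at h1
  have h2 := hexp a ha
  have h3 : orderOf a ∣ S.index := orderOf_dvd_of_pow_eq_one h1
  have h4 : orderOf a ∣ p := orderOf_dvd_of_pow_eq_one h2
  have h5 : orderOf a = 1 := Nat.eq_one_of_dvd_coprimes hcop h3 h4
  exact orderOf_eq_one_iff.1 h5

/-- **(L3')** -/
theorem comap_closure_pair_comm {V H : Type*} [Group V] [Group H] (θ : V →* H)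
    (hc : θ.ker ≤ center V) (x y : V) (hxy : x * y = y * x) :
    ∀ u ∈ (Subgroup.closure {θ x, θ y}).comap θ, ∀ v ∈ (Subgroup.closure {θ x, θ y}).comap θ,
      u * v = v * u := by
  have himg : (Subgroup.closure ({θ x, θ y} : Set H)) = (Subgroup.closure ({x, y} : Set V)).map θ := by
    rw [MonoidHom.map_closure, Set.image_pair]
  have hcommA : IsMulCommutative (Subgroup.closure ({x, y} : Set V)) :=
    Subgroup.isMulCommutative_closure (by
    intro a ha b hb
    simp only [Set.mem_insert_iff, Set.mem_singleton_iff] at ha hb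
    rcases ha with rfl | rfl <;> rcases hb with rfl | rfl
    · rfl
    · exact hxy
    · exact hxy.symm
    · rfl)
  have hA : ∀ a ∈ Subgroup.closure ({x, y} : Set V), ∀ b ∈ Subgroup.closure ({x, y} : Set V),
      a * b = b * a := by
    intro a ha b hb
    have := mul_comm' (⟨a, ha⟩ : Subgroup.closure ({x, y} : Set V)) ⟨b, hb⟩
    exact congrArg Subtype.val this
  have hdecomp : ∀ u ∈ (Subgroup.closure {θ x, θ y}).comap θ,
      ∃ u' ∈ Subgroup.closure ({x, y} : Set V), ∃ a ∈ θ.ker, u = u' * a := by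
    intro u hu
    rw [Subgroup.mem_comap, himg] at hu
    obtain ⟨u', hu', hu'u⟩ := hu
    refine ⟨u', hu', u'⁻¹ * u, ?_, by group⟩
    rw [MonoidHom.mem_ker, map_mul, map_inv, hu'u, inv_mul_cancel]
  intro u hu v hv
  obtain ⟨u', hu', a, ha, rfl⟩ := hdecomp u hu
  obtain ⟨v', hv', b, hb, rfl⟩ := hdecomp v hv
  have hac : ∀ g : V, a * g = g * a := fun g => (Subgroup.mem_center_iff.mp (hc ha) g).symm
  have hbc : ∀ g : V, b * g = g * b := fun g => (Subgroup.mem_center_iff.mp (hc hb) g).symm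
  calc u' * a * (v' * b) = u' * (a * v') * b := by group
    _ = u' * (v' * a) * b := by rw [hac v']
    _ = (u' * v') * (a * b) := by group
    _ = (v' * u') * (b * a) := by rw [hA u' hu' v' hv', hbc a]
    _ = v' * (u' * b) * a := by group
    _ = v' * (b * u') * a := by rw [hbc u']
    _ = v' * b * (u' * a) := by group



/-- **(L4)** -/
theorem coprime_index_closure_pair {H : Type*} [Group H] [Finite H] (m : ℕ)
    (hcard : Nat.card H = 9 * m) (hm : ¬ 3 ∣ m) (x y : H) (hxy : x * y = y * x) (hx : x ^ 3 = 1)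
    (hy : y ^ 3 = 1) (hx1 : x ≠ 1) (hy1 : y ≠ 1) (hyx : y ≠ x) (hyx2 : y ≠ x * x) :
    Nat.Coprime (Subgroup.closure {x, y}).index 3 := by
  classical
  set A := Subgroup.closure ({x, y} : Set H) with hA
  have hcommA : IsMulCommutative A := Subgroup.isMulCommutative_closure (by
    intro a ha b hb
    simp only [Set.mem_insert_iff, Set.mem_singleton_iff] at ha hb
    rcases ha with rfl | rfl <;> rcases hb with rfl | rfl
    · rfl
    · exact hxy
    · exact hxy.symm
    · rfl)
  have hAc : ∀ a ∈ A, ∀ b ∈ A, a * b = b * a := by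
    intro a ha b hb
    have := mul_comm' (⟨a, ha⟩ : A) ⟨b, hb⟩
    exact congrArg Subtype.val this
  have hexp : ∀ a ∈ A, a ^ 3 = 1 := by
    intro a ha
    have : ∀ a ∈ A, a ∈ A ∧ a ^ 3 = 1 := by
      intro a ha
      induction ha using Subgroup.closure_induction with
      | mem s hs =>
        refine ⟨Subgroup.subset_closure hs, ?_⟩
        simp only [Set.mem_insert_iff, Set.mem_singleton_iff] at hs
        rcases hs with rfl | rfl
        · exact hx
        · exact hy
      | one => exact ⟨A.one_mem, one_pow 3⟩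
      | mul a b _ _ iha ihb =>
        refine ⟨A.mul_mem iha.1 ihb.1, ?_⟩
        rw [(show Commute a b from hAc a iha.1 b ihb.1).mul_pow, iha.2, ihb.2, one_mul]
      | inv a _ iha =>
        refine ⟨A.inv_mem iha.1, ?_⟩
        rw [inv_pow, iha.2, inv_one]
    exact (this a ha).2
  have hpg : IsPGroup 3 A := by
    intro ⟨a, ha⟩
    refine ⟨1, ?_⟩
    apply Subtype.ext
    rw [pow_one]
    show a ^ 3 = 1
    exact hexp a ha
  haveI : Fact (Nat.Prime 3) := ⟨Nat.prime_three⟩
  obtain ⟨n, hn⟩ := hpg.exists_card_eq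
  have hdvd : Nat.card A ∣ Nat.card H := Subgroup.card_subgroup_dvd_card A
  rw [hn, hcard] at hdvd
  have hcop3 : Nat.Coprime 3 m := (Nat.Prime.coprime_iff_not_dvd Nat.prime_three).2 hm
  have hdvd9 : 3 ^ n ∣ 9 := (Nat.Coprime.pow_left n hcop3).dvd_of_dvd_mul_right hdvd
  have hn2 : n ≤ 2 := by
    have : 3 ^ n ∣ 3 ^ 2 := by norm_num; exact hdvd9
    exact (Nat.pow_dvd_pow_iff_le_right (by norm_num)).1 this
  -- lower bound
  have hzle : Subgroup.zpowers x ≤ A := by
    rw [Subgroup.zpowers_le]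
    exact Subgroup.subset_closure (by simp)
  have hox : orderOf x = 3 := orderOf_eq_prime hx hx1
  have hzc : Nat.card (Subgroup.zpowers x) = 3 := by rw [Nat.card_zpowers, hox]
  have hyA : y ∈ A := Subgroup.subset_closure (by simp)
  have hyz : y ∉ Subgroup.zpowers x := by
    intro hmem
    rw [mem_zpowers_iff_mem_range_orderOf, hox] at hmem
    simp only [Finset.mem_image, Finset.mem_range] at hmem
    obtain ⟨k, hk, rfl⟩ := hmem
    interval_cases k
    · exact hy1 (pow_zero x)
    · exact hyx (pow_one x)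
    · exact hyx2 (pow_two x)
  have hn2' : 2 ≤ n := by
    by_contra hcon
    have hzd : Nat.card (Subgroup.zpowers x) ∣ Nat.card A := Subgroup.card_dvd_of_le hzle
    rw [hzc, hn] at hzd
    have hn1 : n = 1 := by
      rcases Nat.lt_or_ge n 1 with h | h
      · have : n = 0 := by omega
        rw [this] at hzd
        norm_num at hzd
      · omega
    have hAc3 : Nat.card A = 3 := by rw [hn, hn1, pow_one]
    have : Subgroup.zpowers x = A :=
      Subgroup.eq_of_le_of_card_ge hzle (by rw [hzc, hAc3])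
    exact hyz (this ▸ hyA)
  have hn2'' : n = 2 := le_antisymm hn2 hn2'
  have hAc9 : Nat.card A = 9 := by rw [hn, hn2'']; norm_num
  have hidx : A.index = m := by
    have := Subgroup.card_mul_index A
    rw [hAc9, hcard] at this
    exact Nat.eq_of_mul_eq_mul_left (by norm_num) this
  rw [hidx]
  exact hcop3.symm

/-- **(L5)** -/
theorem psl37_perfect_stem {N : Type} [Group N]
    (e : N ≃* Matrix.ProjectiveSpecialLinearGroup (Fin 3) (ZMod 7)) :
    commutator N = ⊤ ∧ ∀ (p : ℕ), p.Prime → p ≠ 3 → ∀ (Γ : Type) [Group Γ] [Finite Γ]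
      (σ : Γ →* N), Cfsg.IsStemExtension σ → (∀ a ∈ σ.ker, a ^ p = 1) → σ.ker = ⊥ := by
  haveI : Fact (Nat.Prime 7) := ⟨by norm_num⟩
  constructor
  · -- perfectness
    have hSL : commutator (Matrix.SpecialLinearGroup (Fin 3) (ZMod 7)) = ⊤ :=
      Cfsg.Agent.Lib.Helper2.sl_commutator_eq_top (by rw [Fintype.card_fin])
    let π : Matrix.SpecialLinearGroup (Fin 3) (ZMod 7) →* N :=
      e.symm.toMonoidHom.comp
        (QuotientGroup.mk' (Subgroup.center (Matrix.SpecialLinearGroup (Fin 3) (ZMod 7))))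
    have hπ : Function.Surjective π :=
      e.symm.surjective.comp (QuotientGroup.mk'_surjective _)
    have := Subgroup.map_commutator (⊤ : Subgroup (Matrix.SpecialLinearGroup (Fin 3) (ZMod 7))) ⊤ π
    rw [← commutator_def, hSL, Subgroup.map_top_of_surjective π hπ, ← commutator_def] at this
    exact this.symm
  · intro p hp hp3 Γ _ _ σ hσ hexp
    have hM : Cfsg.HasCyclicSchurMultiplier
        (Matrix.ProjectiveSpecialLinearGroup (Fin 3) (ZMod 7)) (Nat.gcd 3 (7 - 1)) :=
      Cfsg.Agent.S2086.result (F := ZMod 7) (q := 7) (ZMod.card 7) 3 (by norm_num)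
        (by intro h; omega) (by
          simp only [Set.mem_insert_iff, Set.mem_singleton_iff, Prod.mk.injEq]
          omega)
    have hg : Nat.gcd 3 (7 - 1) = 3 := by norm_num
    rw [hg] at hM
    obtain ⟨π, hπ⟩ := hM.2 Γ (e.toMonoidHom.comp σ)
      (Cfsg.Agent.Lib.Helper13.SchurSL2.isStem_equiv_comp e σ hσ)
    rw [eq_bot_iff]
    intro a ha
    rw [Subgroup.mem_bot]
    have ha' : a ∈ (e.toMonoidHom.comp σ).ker := by
      rw [MonoidHom.mem_ker] at ha ⊢
      rw [MonoidHom.comp_apply, ha, map_one]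
    obtain ⟨z, hz⟩ := hπ ⟨a, ha'⟩
    have hz3 : z ^ 3 = 1 := by
      have : ∀ w : ZMod 3, (Multiplicative.ofAdd w) ^ 3 = 1 := by decide
      exact this (Multiplicative.toAdd z)
    have ha3 : a ^ 3 = 1 := by
      have h1 := congrArg (fun w => π w) hz3
      simp only [map_pow, map_one, hz] at h1
      have := congrArg Subtype.val h1
      rw [Subgroup.coe_pow, Subgroup.coe_one] at this
      exact this
    have hap := hexp a ha
    have h3 : orderOf a ∣ 3 := orderOf_dvd_of_pow_eq_one ha3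
    have h4 : orderOf a ∣ p := orderOf_dvd_of_pow_eq_one hap
    have hcop : Nat.Coprime 3 p := (Nat.coprime_primes Nat.prime_three hp).2 (Ne.symm hp3)
    exact orderOf_eq_one_iff.1 (Nat.eq_one_of_dvd_coprimes hcop h3 h4)

/-- **(L6)** -/
theorem sq_mem_core {V H : Type*} [Group V] [Group H] (θ : V →* H) (hs : Function.Surjective θ)
    (hc : θ.ker ≤ center V) (N : Subgroup H) [N.Normal] (hperf : ⁅N, N⁆ = N) (hidx : N.index = 2)
    (hexp : ∀ a ∈ θ.ker, a ^ 2 = 1) (t : V) (ht : θ t ∉ N)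
    (ht2 : t ^ 2 ∈ ⁅N.comap θ, N.comap θ⁆) : ∀ v : V, v ^ 2 ∈ ⁅N.comap θ, N.comap θ⁆ := by
  have hA2 := commutator_le_core θ hs hc N hperf hidx
  set M := N.comap θ with hM
  haveI : M.Normal := by rw [hM]; infer_instance
  haveI hPn : (⁅M, M⁆ : Subgroup V).Normal := Subgroup.commutator_normal M M
  have hMidx : M.index = 2 := by
    rw [hM, Subgroup.index_comap_of_surjective N hs]
    exact hidx
  have htM : t ∉ M := ht
  -- squares of elements of `M`
  have hsqM : ∀ m ∈ M, m ^ 2 ∈ ⁅M, M⁆ := by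
    intro m hm
    obtain ⟨q, hq, a, ha, rfl⟩ := exists_mul_of_mem_comap θ hs N hperf m hm
    have hac : ∀ g : V, a * g = g * a := fun g => (Subgroup.mem_center_iff.mp (hc ha) g).symm
    have : (q * a) ^ 2 = q ^ 2 * a ^ 2 := by
      rw [pow_two, pow_two, pow_two]
      calc q * a * (q * a) = q * (a * q) * a := by group
        _ = q * (q * a) * a := by rw [hac q]
        _ = q * q * (a * a) := by group
    rw [this, hexp a ha, mul_one]
    exact Subgroup.pow_mem _ hq 2
  intro v
  by_cases hv : v ∈ M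
  · exact hsqM v hv
  · have hm : t⁻¹ * v ∈ M := by
      rw [Subgroup.mul_mem_iff_of_index_two hMidx]
      constructor
      · intro h; exact absurd ((Subgroup.inv_mem_iff M).mp h) htM
      · intro h; exact absurd h hv
    set m' := t⁻¹ * v with hm'
    have hv' : v = t * m' := by rw [hm']; group
    have h1 : v ^ 2 = t ^ 2 * ⁅t⁻¹, m'⁆ * m' ^ 2 := by
      rw [hv', commutatorElement_def, pow_two, pow_two, pow_two]; group
    rw [h1]
    refine Subgroup.mul_mem _ (Subgroup.mul_mem _ ht2 ?_) (hsqM m' hm)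
    apply hA2
    rw [_root_.commutator_def]
    exact Subgroup.commutator_mem_commutator (mem_top _) (mem_top _)

/-- **(L7)** -/
theorem exists_lift_sq_eq_one {V H : Type*} [Group V] [Group H] (θ : V →* H)
    (hs : Function.Surjective θ) (N : Subgroup H) (hperf : ⁅N, N⁆ = N)
    (hcore : ∀ a ∈ θ.ker, a ∈ ⁅N.comap θ, N.comap θ⁆ → a = 1) (s : H) (hsN : s ∈ N)
    (hs2 : s ^ 2 = 1) : ∃ q ∈ ⁅N.comap θ, N.comap θ⁆, θ q = s ∧ q ^ 2 = 1 := by
  have h1 : s ∈ (⁅N.comap θ, N.comap θ⁆).map θ := by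
    rw [map_commutator_comap θ hs N, hperf]
    exact hsN
  obtain ⟨q, hq, hqs⟩ := h1
  refine ⟨q, hq, hqs, ?_⟩
  apply hcore
  · rw [MonoidHom.mem_ker, map_pow, hqs, hs2]
  · exact Subgroup.pow_mem _ hq 2

end Cfsg.Agent.Lib.Helper27.ONRetr
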