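import Mathlib
import Cfsg.Agent.Lib.Helper7.DHBDefs

/-!
# DHB-TFORM (market DHB, S3616): the `T`-form hypotheses over `DihedralGroup n` give `Hyp`.
-/

set_option autoImplicit false

namespace Cfsg.Agent.Lib.Helper27.DHBTFORM

open Finset Cfsg.Agent.Lib.Helper7.DHB

variable {n : ℕ} [NeZero n] {X Y : Finset (ZMod n)} {k l m : ℕ}

/-- the pairs of `T × T` with product a rotation `r i`. -/
theorem filter_r (T : Finset (DihedralGroup n)) (i : ZMod n) :
    (T ×ˢ T).filter (fun q => q.1 * q.2 = DihedralGroup.r i) =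
      ((((univ.filter (fun a : ZMod n => DihedralGroup.r a ∈ T)) ×ˢ
          (univ.filter (fun a : ZMod n => DihedralGroup.r a ∈ T))).filter
            (fun q => q.1 + q.2 = i)).image
          (fun q => (DihedralGroup.r q.1, DihedralGroup.r q.2))) ∪
      ((((univ.filter (fun a : ZMod n => DihedralGroup.sr a ∈ T)) ×ˢ
          (univ.filter (fun a : ZMod n => DihedralGroup.sr a ∈ T))).filter
            (fun q => q.2 - q.1 = i)).image
          (fun q => (DihedralGroup.sr q.1, DihedralGroup.sr q.2))) := by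
  ext ⟨t1, t2⟩
  simp only [mem_filter, mem_product, mem_union, mem_image, mem_univ, true_and, Prod.exists,
    Prod.mk.injEq]
  constructor
  · rintro ⟨⟨h1, h2⟩, h3⟩
    cases t1 with
    | r a =>
      cases t2 with
      | r b =>
        left
        refine ⟨a, b, ⟨⟨h1, h2⟩, ?_⟩, rfl, rfl⟩
        rw [DihedralGroup.r_mul_r] at h3
        exact DihedralGroup.r.inj h3
      | sr b =>
        rw [DihedralGroup.r_mul_sr] at h3
        exact absurd h3 (by simp)
    | sr a =>
      cases t2 with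
      | r b =>
        rw [DihedralGroup.sr_mul_r] at h3
        exact absurd h3 (by simp)
      | sr b =>
        right
        refine ⟨a, b, ⟨⟨h1, h2⟩, ?_⟩, rfl, rfl⟩
        rw [DihedralGroup.sr_mul_sr] at h3
        exact DihedralGroup.r.inj h3
  · rintro (⟨a, b, ⟨⟨h1, h2⟩, h3⟩, rfl, rfl⟩ | ⟨a, b, ⟨⟨h1, h2⟩, h3⟩, rfl, rfl⟩)
    · exact ⟨⟨h1, h2⟩, by rw [DihedralGroup.r_mul_r, h3]⟩
    · exact ⟨⟨h1, h2⟩, by rw [DihedralGroup.sr_mul_sr, h3]⟩

/-- the pairs of `T × T` with product a reflection `sr j`. -/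
theorem filter_sr (T : Finset (DihedralGroup n)) (j : ZMod n) :
    (T ×ˢ T).filter (fun q => q.1 * q.2 = DihedralGroup.sr j) =
      ((((univ.filter (fun a : ZMod n => DihedralGroup.r a ∈ T)) ×ˢ
          (univ.filter (fun a : ZMod n => DihedralGroup.sr a ∈ T))).filter
            (fun q => q.2 - q.1 = j)).image
          (fun q => (DihedralGroup.r q.1, DihedralGroup.sr q.2))) ∪
      ((((univ.filter (fun a : ZMod n => DihedralGroup.r a ∈ T)) ×ˢ
          (univ.filter (fun a : ZMod n => DihedralGroup.sr a ∈ T))).filter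
            (fun q => q.1 + q.2 = j)).image
          (fun q => (DihedralGroup.sr q.2, DihedralGroup.r q.1))) := by
  ext ⟨t1, t2⟩
  simp only [mem_filter, mem_product, mem_union, mem_image, mem_univ, true_and, Prod.exists,
    Prod.mk.injEq]
  constructor
  · rintro ⟨⟨h1, h2⟩, h3⟩
    cases t1 with
    | r a =>
      cases t2 with
      | r b =>
        rw [DihedralGroup.r_mul_r] at h3
        exact absurd h3 (by simp)
      | sr b =>
        left
        refine ⟨a, b, ⟨⟨h1, h2⟩, ?_⟩, rfl, rfl⟩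
        rw [DihedralGroup.r_mul_sr] at h3
        exact DihedralGroup.sr.inj h3
    | sr a =>
      cases t2 with
      | r b =>
        right
        refine ⟨b, a, ⟨⟨h2, h1⟩, ?_⟩, rfl, rfl⟩
        rw [DihedralGroup.sr_mul_r] at h3
        rw [add_comm]
        exact DihedralGroup.sr.inj h3
      | sr b =>
        rw [DihedralGroup.sr_mul_sr] at h3
        exact absurd h3 (by simp)
  · rintro (⟨a, b, ⟨⟨h1, h2⟩, h3⟩, rfl, rfl⟩ | ⟨a, b, ⟨⟨h1, h2⟩, h3⟩, rfl, rfl⟩)
    · exact ⟨⟨h1, h2⟩, by rw [DihedralGroup.r_mul_sr, h3]⟩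
    · exact ⟨⟨h2, h1⟩, by rw [DihedralGroup.sr_mul_r, add_comm, h3]⟩

omit [NeZero n] in
/-- for symmetric `X`, counting `b - a = j` over `X × Y` is counting `a + b = j`. -/
theorem card_sub_eq_rep (X Y : Finset (ZMod n)) (hX : ∀ i ∈ X, -i ∈ X) (j : ZMod n) :
    ((X ×ˢ Y).filter (fun q => q.2 - q.1 = j)).card = rep X Y j := by
  unfold rep
  apply Finset.card_bij (fun q _ => ((-q.1, q.2) : ZMod n × ZMod n))
  · rintro ⟨a, b⟩ hq
    simp only [mem_filter, mem_product] at hq ⊢
    refine ⟨⟨hX a hq.1.1, hq.1.2⟩, ?_⟩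
    rw [← hq.2]
    ring
  · rintro ⟨a, b⟩ _ ⟨a', b'⟩ _ h
    simp only [Prod.mk.injEq, neg_inj] at h
    rw [h.1, h.2]
  · rintro ⟨a, b⟩ hq
    simp only [mem_filter, mem_product] at hq
    refine ⟨(-a, b), ?_, ?_⟩
    · simp only [mem_filter, mem_product]
      refine ⟨⟨hX a hq.1.1, hq.1.2⟩, ?_⟩
      rw [← hq.2]
      ring
    · simp

theorem tform (T : Finset (DihedralGroup n)) (h1 : (1 : DihedralGroup n) ∉ T) (hinv : ∀ t ∈ T, t⁻¹ ∈ T)
    (k l m : ℕ)
    (hE : ∀ g : DihedralGroup n, ((T ×ˢ T).filter (fun q => q.1 * q.2 = g)).card =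
      if g = 1 then k else if g ∈ T then l else m) :
    Hyp n (univ.filter (fun i : ZMod n => DihedralGroup.r i ∈ T))
      (univ.filter (fun j : ZMod n => DihedralGroup.sr j ∈ T)) k l m := by
  have hXneg : ∀ i ∈ univ.filter (fun i : ZMod n => DihedralGroup.r i ∈ T),
      -i ∈ univ.filter (fun i : ZMod n => DihedralGroup.r i ∈ T) := by
    intro i hi
    rw [mem_filter] at hi ⊢
    refine ⟨mem_univ _, ?_⟩
    have := hinv _ hi.2
    rwa [DihedralGroup.inv_r] at this
  refine ⟨?_, hXneg, ?_, ?_⟩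
  · intro h0
    rw [mem_filter] at h0
    apply h1
    rw [DihedralGroup.one_def]
    exact h0.2
  · intro i
    have h := hE (DihedralGroup.r i)
    rw [filter_r, card_union_of_disjoint, card_image_of_injective, card_image_of_injective] at h
    · unfold rep dif
      rw [h]
      have e1 : (DihedralGroup.r i = (1 : DihedralGroup n)) ↔ i = 0 := by
        rw [DihedralGroup.one_def]
        exact ⟨fun h => DihedralGroup.r.inj h, fun h => by rw [h]⟩
      have e2 : (DihedralGroup.r i ∈ T) ↔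
          i ∈ univ.filter (fun i : ZMod n => DihedralGroup.r i ∈ T) := by
        rw [mem_filter]
        exact ⟨fun h => ⟨mem_univ _, h⟩, fun h => h.2⟩
      simp only [e1, e2]
    · rintro ⟨a, b⟩ ⟨a', b'⟩ h
      simp only [Prod.mk.injEq] at h
      rw [DihedralGroup.sr.inj h.1, DihedralGroup.sr.inj h.2]
    · rintro ⟨a, b⟩ ⟨a', b'⟩ h
      simp only [Prod.mk.injEq] at h
      rw [DihedralGroup.r.inj h.1, DihedralGroup.r.inj h.2]
    · rw [Finset.disjoint_left]
      rintro ⟨t1, t2⟩ h1 h2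
      simp only [mem_image, Prod.mk.injEq, Prod.exists] at h1 h2
      obtain ⟨a, b, _, rfl, rfl⟩ := h1
      obtain ⟨a', b', _, h', _⟩ := h2
      exact absurd h' (by simp)
  · intro j
    have h := hE (DihedralGroup.sr j)
    rw [filter_sr, card_union_of_disjoint, card_image_of_injective, card_image_of_injective,
      card_sub_eq_rep _ _ hXneg] at h
    · have e1 : ¬ (DihedralGroup.sr j = (1 : DihedralGroup n)) := by
        rw [DihedralGroup.one_def]
        intro h
        cases h
      have e2 : (DihedralGroup.sr j ∈ T) ↔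
          j ∈ univ.filter (fun i : ZMod n => DihedralGroup.sr i ∈ T) := by
        rw [mem_filter]
        exact ⟨fun h => ⟨mem_univ _, h⟩, fun h => h.2⟩
      rw [if_neg e1] at h
      simp only [e2] at h
      rw [← h]
      unfold rep
      ring
    · rintro ⟨a, b⟩ ⟨a', b'⟩ h
      simp only [Prod.mk.injEq] at h
      rw [DihedralGroup.sr.inj h.1, DihedralGroup.r.inj h.2]
    · rintro ⟨a, b⟩ ⟨a', b'⟩ h
      simp only [Prod.mk.injEq] at h
      rw [DihedralGroup.r.inj h.1, DihedralGroup.sr.inj h.2]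
    · rw [Finset.disjoint_left]
      rintro ⟨t1, t2⟩ h1 h2
      simp only [mem_image, Prod.mk.injEq, Prod.exists] at h1 h2
      obtain ⟨a, b, _, rfl, rfl⟩ := h1
      obtain ⟨a', b', _, h', _⟩ := h2
      exact absurd h' (by simp)

end Cfsg.Agent.Lib.Helper27.DHBTFORM
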