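/-
helper27: S4539 leaf (CG) `contrib_eq_gdec` against the statement of (CN).
-/
import Cfsg.Agent.Lib.Helper27.MajSubDefs

set_option autoImplicit false

namespace Cfsg.Agent.Lib.Helper27.MajSubCG

open Cfsg Cfsg.Agent.CharLib Cfsg.Agent.Lib.Helper24 Cfsg.Agent.Lib.Helper6 Cfsg.Agent.Lib.Helper23
open Cfsg.Agent.Lib.Helper23.Subsec Cfsg.Agent.Lib.Helper27.MajSub
open scoped ComplexConjugate

universe u w

variable {G : Type u} [Group G] [Fintype G] {p : ℕ} [hpp : Fact p.Prime]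

/-- (CG) against (CN) as a hypothesis. -/
theorem contrib_eq_gdec_of (z : G) (C : Subgroup G) [Fintype C]
    [Fintype (IrrCharacter C)] [DecidableEq (IrrCharacter C)]
    (e : Set (IrrCharacter C)) {r : ℕ}
    (D : Matrix (IrrCharacter C) (Fin r) ℤ) (C' : Matrix (Fin r) (Fin r) ℤ)
    (hN : Matrix.of (nMat p e) = D * C' * D.transpose) (χ ψ : IrrCharacter G)
    (hCN : (p : ℂ) ^ blockDefect p e * contrib p C e z χ ψ =
      ∑ ζ : IrrCharacter C, ∑ ζ' : IrrCharacter C,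
        zCoeff C e z χ ζ * conj (zCoeff C e z ψ ζ') * (nMat p e ζ ζ' : ℂ)) :
    (p : ℂ) ^ blockDefect p e * contrib p C e z χ ψ =
      ∑ a, ∑ b, gdec C e D z χ a * (C' a b : ℂ) * conj (gdec C e D z ψ b) := by
  rw [hCN]
  have hent : ∀ ζ ζ' : IrrCharacter C, (nMat p e ζ ζ' : ℂ) =
      ∑ a, ∑ b, (D ζ a : ℂ) * (C' a b : ℂ) * (D ζ' b : ℂ) := by
    intro ζ ζ'
    have h1 : nMat p e ζ ζ' = (D * C' * D.transpose) ζ ζ' := by
      rw [← hN]
      rfl
    rw [h1]
    simp only [Matrix.mul_apply, Matrix.transpose_apply, Finset.sum_mul]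
    push_cast
    rw [Finset.sum_comm]
  have hconj : ∀ b : Fin r, conj (gdec C e D z ψ b) =
      ∑ ζ' : IrrCharacter C, conj (zCoeff C e z ψ ζ') * (D ζ' b : ℂ) := by
    intro b
    unfold gdec
    rw [map_sum]
    apply Finset.sum_congr rfl
    intro ζ' _
    rw [map_mul, map_intCast]
  -- the common summand
  set F : Fin r → Fin r → IrrCharacter C → IrrCharacter C → ℂ := fun a b ζ ζ' =>
    zCoeff C e z χ ζ * conj (zCoeff C e z ψ ζ') * ((D ζ a : ℂ) * (C' a b : ℂ) * (D ζ' b : ℂ)) with hF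
  have hR : ∀ a b : Fin r, gdec C e D z χ a * (C' a b : ℂ) * conj (gdec C e D z ψ b) =
      ∑ ζ : IrrCharacter C, ∑ ζ' : IrrCharacter C, F a b ζ ζ' := by
    intro a b
    rw [hconj]
    unfold gdec
    rw [Finset.sum_mul, Finset.sum_mul]
    apply Finset.sum_congr rfl
    intro ζ _
    rw [Finset.mul_sum]
    apply Finset.sum_congr rfl
    intro ζ' _
    rw [hF]
    ring
  have hL : ∀ ζ ζ' : IrrCharacter C,
      zCoeff C e z χ ζ * conj (zCoeff C e z ψ ζ') * (nMat p e ζ ζ' : ℂ) =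
        ∑ a, ∑ b, F a b ζ ζ' := by
    intro ζ ζ'
    rw [hent, Finset.mul_sum]
    apply Finset.sum_congr rfl
    intro a _
    rw [Finset.mul_sum]
  simp_rw [hR, hL]
  calc ∑ ζ : IrrCharacter C, ∑ ζ' : IrrCharacter C, ∑ a, ∑ b, F a b ζ ζ'
      = ∑ ζ : IrrCharacter C, ∑ a, ∑ ζ' : IrrCharacter C, ∑ b, F a b ζ ζ' := by
        apply Finset.sum_congr rfl
        intro ζ _
        exact Finset.sum_comm
    _ = ∑ a, ∑ ζ : IrrCharacter C, ∑ ζ' : IrrCharacter C, ∑ b, F a b ζ ζ' := Finset.sum_comm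
    _ = ∑ a, ∑ ζ : IrrCharacter C, ∑ b, ∑ ζ' : IrrCharacter C, F a b ζ ζ' := by
        apply Finset.sum_congr rfl
        intro a _
        apply Finset.sum_congr rfl
        intro ζ _
        exact Finset.sum_comm
    _ = ∑ a, ∑ b, ∑ ζ : IrrCharacter C, ∑ ζ' : IrrCharacter C, F a b ζ ζ' := by
        apply Finset.sum_congr rfl
        intro a _
        exact Finset.sum_comm

end Cfsg.Agent.Lib.Helper27.MajSubCG
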