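/-
helper27: S4539 assembly: a major subsection `(z, b)` with `l(b) ≤ 2` gives `k(B) ≤ p^d`.
Leaves: helper7 (LAT), helper8 (NB1, NB2, NB5), helper19 (NB3, NB4), helper16 (GG), helper22 (ALG2a, ...),
helper4 (ALG1, ALG2b, ...), helper23 (OM, H5), ... ; see `notes/S4539_leaves.lean`.
-/
import Cfsg.Agent.Lib.Helper27.MajSubDefs
import Cfsg.Agent.Lib.Helper27.MajSubSmall
import Cfsg.Agent.Lib.Helper27.MajSubCG
import Cfsg.Agent.Lib.Helper27.MajSubGR
import Cfsg.Agent.Lib.Helper7.MajSubLAT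
import Cfsg.Agent.Lib.Helper8.MajSubNB
import Cfsg.Agent.Lib.Helper19.MajSubNB3
import Cfsg.Agent.Lib.Helper19.MajSubNB4
import Cfsg.Agent.Lib.Helper16.MajSubGG
import Cfsg.Agent.Lib.Helper22.MajSubALG2a
import Cfsg.Agent.Lib.Helper4.MajSubALG1
import Cfsg.Agent.Lib.Helper6.DefectOrder
import Cfsg.Agent.Lib.Helper22.MajSubCN
import Cfsg.Agent.Lib.Helper9.MajSubALG0
import Cfsg.Agent.Lib.Helper6.MajSubALG2c
import Cfsg.Agent.Lib.Helper24.MajSubLF
import Cfsg.Agent.Lib.Helper23.MajSubH5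
import Cfsg.Agent.Lib.Helper19.MajSubALG3

set_option autoImplicit false

namespace Cfsg.Agent.Lib.Helper27.MajSubMain

open Cfsg Cfsg.Agent.CharLib Cfsg.Agent.Lib.Helper24 Cfsg.Agent.Lib.Helper6 Cfsg.Agent.Lib.Helper23
open Cfsg.Agent.Lib.Helper23.Subsec Cfsg.Agent.Lib.Helper27.MajSub
open scoped ComplexConjugate

universe u w



section ALG

variable {M : Ideal AlgInt} {p : ℕ} [hpp : Fact p.Prime]

/-- (ALG2) the reduced case (from ALG2a, ALG2b, ALG2c). -/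
theorem card_le_of_reduced (hM : IsPModular p M) (K : Type w) [Field K] [Algebra ℚ K]
    [FiniteDimensional ℚ K] [IsGalois ℚ K] (φ : K →+* ℂ) {ι : Type*} [Fintype ι]
    (h : ι → ℕ) (i₀ : ι) (hi₀ : h i₀ = 0)
    (x : ι → Fin 2 → K) (hx : ∀ i a, IsIntegral ℤ (x i a)) (d : ℕ)
    (Cm C' : Matrix (Fin 2) (Fin 2) ℤ) (hCsymm : Cm.transpose = Cm) (hC'symm : C'.transpose = C')
    (hCC' : Cm * C' = ((p : ℤ) ^ d) • (1 : Matrix (Fin 2) (Fin 2) ℤ)) (hdet : (p : ℤ) ∣ C'.det)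
    (hred : 0 ≤ 2 * Cm 0 1 ∧ 2 * Cm 0 1 ≤ Cm 0 0 ∧ Cm 0 0 ≤ Cm 1 1)
    (hgram : ∀ σ : K ≃ₐ[ℚ] K, ∀ a b : Fin 2,
      ∑ i, conj (φ (σ (x i a))) * φ (σ (x i b)) = (Cm a b : ℂ))
    (h5H : ∀ σ : K ≃ₐ[ℚ] K, ∀ i, h i = 0 → ∀ j,
      LocUnit M ((∑ a, ∑ b, φ (σ (x i a)) * (C' a b : ℂ) * conj (φ (σ (x j b)))) /
          (p : ℂ) ^ h j) ∧
        LocUnit M ((∑ a, ∑ b, φ (σ (x j a)) * (C' a b : ℂ) * conj (φ (σ (x i b)))) /
          (p : ℂ) ^ h j)) :
    Fintype.card ι ≤ p ^ d := by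
  have hprime : M.IsPrime := isPrime_of_isPModular hM
  have hp : p.Prime := hpp.out
  have h10eq : Cm 1 0 = Cm 0 1 := by
    have := congrFun (congrFun hCsymm 0) 1
    simpa [Matrix.transpose_apply] using this
  have h10eq' : C' 1 0 = C' 0 1 := by
    have := congrFun (congrFun hC'symm 0) 1
    simpa [Matrix.transpose_apply] using this
  -- rows are nonzero
  have hne : ∀ i, x i 0 ≠ 0 ∨ x i 1 ≠ 0 := by
    intro i
    by_contra hcon
    push Not at hcon
    have h1 := (h5H AlgEquiv.refl i₀ hi₀ i).1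
    apply h1.2
    have : (∑ a, ∑ b, φ ((AlgEquiv.refl : K ≃ₐ[ℚ] K) (x i₀ a)) * (C' a b : ℂ) *
        conj (φ ((AlgEquiv.refl : K ≃ₐ[ℚ] K) (x i b)))) = 0 := by
      simp [Fin.sum_univ_two, hcon.1, hcon.2]
    rw [this, zero_div]
    exact memLocalIdeal_zero hprime.one_notMem
  have hk := Cfsg.Agent.Lib.Helper22.MajSubALG2a.card_le_trace hM K φ x hx hne Cm hgram
  -- entries of the product
  have e00 : Cm 0 0 * C' 0 0 + Cm 0 1 * C' 0 1 = (p : ℤ) ^ d := by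
    have := congrFun (congrFun hCC' 0) 0
    simpa [Matrix.mul_apply, Fin.sum_univ_two, h10eq'] using this
  have e01 : Cm 0 0 * C' 0 1 + Cm 0 1 * C' 1 1 = 0 := by
    have := congrFun (congrFun hCC' 0) 1
    simpa [Matrix.mul_apply, Fin.sum_univ_two] using this
  have e10 : Cm 0 1 * C' 0 0 + Cm 1 1 * C' 0 1 = 0 := by
    have := congrFun (congrFun hCC' 1) 0
    simpa [Matrix.mul_apply, Fin.sum_univ_two, h10eq, h10eq'] using this
  have e11 : Cm 0 1 * C' 0 1 + Cm 1 1 * C' 1 1 = (p : ℤ) ^ d := by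
    have := congrFun (congrFun hCC' 1) 1
    simpa [Matrix.mul_apply, Fin.sum_univ_two, h10eq] using this
  have hα : 0 < Cm 0 0 := by
    by_contra hcon
    push Not at hcon
    have h0 : Cm 0 0 = 0 ∧ Cm 0 1 = 0 := by constructor <;> omega
    rw [h0.1, h0.2] at e00
    have : ((p : ℤ) ^ d) ≠ 0 := pow_ne_zero _ (by exact_mod_cast hp.ne_zero)
    simp at e00
    exact this e00.symm
  have hdet' : (p : ℤ) ∣ C' 0 0 * C' 1 1 - C' 0 1 * C' 0 1 := by
    rw [Matrix.det_fin_two, h10eq'] at hdet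
    exact hdet
  rcases Cfsg.Agent.Lib.Helper4.MajSubALG1.reduced_arith hp d (Cm 0 0) (Cm 0 1) (Cm 1 1) (C' 0 0) (C' 0 1) (C' 1 1) hα hred e00 e01 e10
    e11 hdet' with hle | ⟨r, hrd, hα', hβ', hγ', ha', hb', hc'⟩
  · have : (Fintype.card ι : ℤ) ≤ (p : ℤ) ^ d := le_trans hk hle
    exact_mod_cast this
  · refine Cfsg.Agent.Lib.Helper6.MajSubALG2c.card_le_of_exceptional hM K φ h i₀ hi₀ (fun i => x i 0) (fun i => x i 1)
      (fun i => hx i 0) (fun i => hx i 1) d r hrd ?_ ?_ ?_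
    · intro σ
      rw [hgram σ 0 0, hα']
      push_cast
      rfl
    · intro σ
      rw [hgram σ 1 1, hγ']
      push_cast
      rfl
    · intro σ i hi j
      have h1 := h5H σ i hi j
      simp only [Fin.sum_univ_two, h10eq', ha', hb', hc'] at h1
      push_cast at h1
      simp only [mul_zero, zero_mul, add_zero, mul_one] at h1
      constructor
      · convert h1.1 using 2
        ring
      · convert h1.2 using 2
        ring


/-- (ALG3) the general rank two case. -/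
theorem card_le_of_rank_two (hM : IsPModular p M) (K : Type w) [Field K] [Algebra ℚ K]
    [FiniteDimensional ℚ K] [IsGalois ℚ K] (φ : K →+* ℂ) {ι : Type*} [Fintype ι]
    (h : ι → ℕ) (i₀ : ι) (hi₀ : h i₀ = 0)
    (x : ι → Fin 2 → K) (hx : ∀ i a, IsIntegral ℤ (x i a)) (d : ℕ)
    (Cm C' : Matrix (Fin 2) (Fin 2) ℤ) (hCsymm : Cm.transpose = Cm) (hC'symm : C'.transpose = C')
    (hCC' : Cm * C' = ((p : ℤ) ^ d) • (1 : Matrix (Fin 2) (Fin 2) ℤ)) (hdet : (p : ℤ) ∣ C'.det)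
    (hgram : ∀ σ : K ≃ₐ[ℚ] K, ∀ a b : Fin 2,
      ∑ i, conj (φ (σ (x i a))) * φ (σ (x i b)) = (Cm a b : ℂ))
    (h5H : ∀ σ : K ≃ₐ[ℚ] K, ∀ i, h i = 0 → ∀ j,
      LocUnit M ((∑ a, ∑ b, φ (σ (x i a)) * (C' a b : ℂ) * conj (φ (σ (x j b)))) /
          (p : ℂ) ^ h j) ∧
        LocUnit M ((∑ a, ∑ b, φ (σ (x j a)) * (C' a b : ℂ) * conj (φ (σ (x i b)))) /
          (p : ℂ) ^ h j)) :
    Fintype.card ι ≤ p ^ d :=
  Cfsg.Agent.Lib.Helper19.MajSubALG3.card_le_of_rank_two_of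
    (fun α β γ hα hdet' => Cfsg.Agent.Lib.Helper4.MajSubALG1.exists_reduced α β γ hα hdet')
    hM K φ h i₀ hi₀ d
    (fun x hx Cm C' h1 h2 h3 h4 h5 h6 h7 =>
      card_le_of_reduced hM K φ h i₀ hi₀ x hx d Cm C' h1 h2 h3 h4 h5 h6 h7)
    x hx Cm C' hCsymm hC'symm hCC' hdet hgram h5H

end ALG

section GC

variable {G : Type u} [Group G] [Fintype G] {M : Ideal AlgInt} {p : ℕ} [hpp : Fact p.Prime]

/-- (GG) -/
theorem gram_gdec (hM : IsPModular p M) (z : G) (hz : ∃ k : ℕ, orderOf z = p ^ k)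
    (C : Subgroup G) [Fintype C] [Fintype (IrrCharacter C)] [DecidableEq (IrrCharacter C)]
    [Fintype (IrrCharacter G)]
    (hC : C = Subgroup.centralizer ({z} : Set G)) (B : Set (IrrCharacter G)) (hB : IsPBlock M B)
    [DecidablePred (· ∈ B)]
    (ψ₀ : IrrCharacter C) (hind : IsInducedBlock M C (blockOf M (ψ₀ : C → ℂ)) B)
    {r : ℕ} (D : Matrix (IrrCharacter C) (Fin r) ℤ) (E : Matrix (Fin r) (IrrCharacter C) ℤ)
    (C' : Matrix (Fin r) (Fin r) ℤ) (hED : E * D = 1)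
    (hN : Matrix.of (nMat p (blockOf M (ψ₀ : C → ℂ))) = D * C' * D.transpose)
    (hC'symm : C'.transpose = C')
    (hCC' : (D.transpose * D) * C' =
      ((p : ℤ) ^ blockDefect p (blockOf M (ψ₀ : C → ℂ))) • (1 : Matrix (Fin r) (Fin r) ℤ))
    (a b : Fin r) :
    ∑ χ ∈ Finset.univ.filter (· ∈ B),
      conj (gdec C (blockOf M (ψ₀ : C → ℂ)) D z χ a) * gdec C (blockOf M (ψ₀ : C → ℂ)) D z χ b =
      (((D.transpose * D) a b : ℤ) : ℂ) := by
  have hp : p.Prime := hpp.out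
  have hpd0 : ((p : ℤ) ^ blockDefect p (blockOf M (ψ₀ : C → ℂ))) ≠ 0 :=
    pow_ne_zero _ (by exact_mod_cast hp.ne_zero)
  refine Cfsg.Agent.Lib.Helper16.MajSubGG.gram_gdec_of C B (blockOf M (ψ₀ : C → ℂ)) z D C'
    (blockDefect p (blockOf M (ψ₀ : C → ℂ))) hN hC'symm ?_ ?_ a b
  · intro ζ₁ ζ₂
    exact Cfsg.Agent.Lib.Helper27.MajSubGR.sum_zCoeff_nMat_of hM z hz C hC B hB ψ₀ hind
      (fun ζ ζ'' => Cfsg.Agent.Lib.Helper19.MajSubNB3.nMat_sq hM _ ⟨ψ₀, rfl⟩ ζ ζ'') ζ₁ ζ₂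
  · intro Gm h
    exact Cfsg.Agent.Lib.Helper7.MajSubLAT.gram_of_sandwich D E C' _ hpd0 hED hCC' hC'symm Gm h

/-- (CG) -/
theorem contrib_eq_gdec (hM : IsPModular p M) (z : G) (C : Subgroup G) [Fintype C]
    [Fintype (IrrCharacter C)] [DecidableEq (IrrCharacter C)]
    (hzC : z ∈ C) (hcomm : ∀ c ∈ C, c * z = z * c)
    (e : Set (IrrCharacter C)) (he : IsPBlock M e) {r : ℕ}
    (D : Matrix (IrrCharacter C) (Fin r) ℤ) (C' : Matrix (Fin r) (Fin r) ℤ)
    (hN : Matrix.of (nMat p e) = D * C' * D.transpose) (χ ψ : IrrCharacter G) :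
    (p : ℂ) ^ blockDefect p e * contrib p C e z χ ψ =
      ∑ a, ∑ b, gdec C e D z χ a * (C' a b : ℂ) * conj (gdec C e D z ψ b) :=
  Cfsg.Agent.Lib.Helper27.MajSubCG.contrib_eq_gdec_of z C e D C' hN χ ψ
    (Cfsg.Agent.Lib.Helper22.MajSubCN.contrib_eq_nMat hM z C hzC hcomm e he χ ψ)

end GC

/-! ## ASSEMBLY (helper27) -/
section ASM

variable {G : Type u} [Group G] [Fintype G] {M : Ideal AlgInt} {p : ℕ} [hpp : Fact p.Prime]

theorem pow_pos_blockRank (B : Set (IrrCharacter G)) (hBne : B.Nonempty) : 0 < blockRank p B := by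
  obtain ⟨χ, hχ⟩ := hBne
  unfold blockRank
  rw [Module.finrank_pos_iff_exists_ne_zero]
  refine ⟨⟨pRegularPart p (χ : G → ℂ), Submodule.subset_span ⟨χ, hχ, rfl⟩⟩, ?_⟩
  intro h0
  have h4 : pRegularPart p (χ : G → ℂ) = 0 := congrArg Subtype.val h0
  have h5 : pRegularPart p (χ : G → ℂ) 1 = 0 := by rw [h4]; rfl
  have hreg : IsPRegular p (1 : G) := by
    unfold IsPRegular
    rw [orderOf_one]
    exact (Fact.out : p.Prime).one_lt.ne' ∘ Nat.dvd_one.mp
  unfold pRegularPart at h5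
  rw [if_pos hreg] at h5
  obtain ⟨d, hdpos, hd⟩ := Cfsg.Agent.CharLib.IsIrrCharacter.apply_one_pos χ.2
  rw [hd] at h5
  exact hdpos.ne' (by exact_mod_cast h5)

/-- **S4539, main form**: a major subsection `(z, b)` with `l(b) ≤ 2` gives `k(B) ≤ p^d`. -/
theorem card_le_of_major (hM : IsPModular p M) (z : G) (hz : ∃ k : ℕ, orderOf z = p ^ k)
    (B : Set (IrrCharacter G)) (hB : IsPBlock M B)
    (b : Set (IrrCharacter (Subgroup.centralizer ({z} : Set G))))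
    (hind : IsInducedBlock M (Subgroup.centralizer ({z} : Set G)) b B)
    (hdef : blockDefect p b = blockDefect p B) (hl : blockRank p b ≤ 2) :
    Nat.card B ≤ p ^ blockDefect p B := by
  classical
  have hprime : M.IsPrime := isPrime_of_isPModular hM
  have hp : p.Prime := hpp.out
  set C := Subgroup.centralizer ({z} : Set G) with hCdef
  let _ : Fintype C := Fintype.ofFinite C
  let _ := fintypeIrr C
  let _ := fintypeIrr G
  obtain ⟨ψ₀, hb⟩ := hind.1
  subst hb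
  set e := blockOf M (ψ₀ : C → ℂ) with he
  have he' : IsPBlock M e := ⟨ψ₀, rfl⟩
  have hene : e.Nonempty := ⟨ψ₀, mem_blockOf_self ψ₀⟩
  set Nn := Nat.card G with hNn
  have : NeZero Nn := ⟨Nat.card_pos.ne'⟩
  obtain ⟨K, _, _, _, ⟨φ⟩⟩ := exists_cyclotomic_field Nn
  have : FiniteDimensional ℚ K := IsCyclotomicExtension.finiteDimensional {Nn} ℚ K
  have : IsGalois ℚ K := IsCyclotomicExtension.isGalois {Nn} ℚ K
  have hzN : z ^ Nn = 1 := by rw [hNn]; exact pow_card_eq_one'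
  set d := blockDefect p e with hd
  -- data for the powers of `z`
  obtain ⟨k₀, hk₀⟩ := hz
  have hpow : ∀ σ : K ≃ₐ[ℚ] K, (∃ j : ℕ, orderOf (z ^ galExp Nn K σ) = p ^ j) ∧
      C = Subgroup.centralizer ({z ^ galExp Nn K σ} : Set G) := by
    intro σ
    set k := galExp Nn K σ with hk
    have hcop : k.Coprime (orderOf z) :=
      Nat.Coprime.coprime_dvd_right (orderOf_dvd_natCard z) (galExp_coprime Nn K σ)
    refine ⟨?_, (centralizer_pow_eq z k hcop).symm⟩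
    have h1 : orderOf (z ^ k) ∣ p ^ k₀ := by rw [← hk₀]; exact orderOf_pow_dvd k
    obtain ⟨j, -, hj⟩ := (Nat.dvd_prime_pow hp).mp h1
    exact ⟨j, hj⟩
  have hzkC : ∀ k : ℕ, z ^ k ∈ C := by
    intro k
    rw [hCdef, Subgroup.mem_centralizer_singleton_iff]
    exact (Commute.refl z).pow_left k |>.eq
  have hcommk : ∀ k : ℕ, ∀ c ∈ C, c * z ^ k = z ^ k * c := by
    intro k c hc
    rw [hCdef, Subgroup.mem_centralizer_singleton_iff] at hc
    have h1 : Commute c z := hc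
    exact (h1.pow_right k).eq
  -- the basic set
  set Nm : Matrix (IrrCharacter C) (IrrCharacter C) ℤ := Matrix.of (nMat p e) with hNm
  have hsymm : Nm.transpose = Nm := by
    ext ζ ζ'
    simp only [Matrix.transpose_apply, hNm, Matrix.of_apply]
    exact Cfsg.Agent.Lib.Helper8.MajSubNB.nMat_symm e ζ' ζ
  have hpd0 : ((p : ℤ) ^ d) ≠ 0 := pow_ne_zero _ (by exact_mod_cast hp.ne_zero)
  have hsq : Nm * Nm = ((p : ℤ) ^ d) • Nm := by
    ext ζ ζ''
    simp only [Matrix.mul_apply, Matrix.smul_apply, hNm, Matrix.of_apply, smul_eq_mul]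
    exact Cfsg.Agent.Lib.Helper19.MajSubNB3.nMat_sq hM e he' ζ ζ''
  obtain ⟨r, D, E, C', hED, hN, hC'symm, hCC', htr⟩ := Cfsg.Agent.Lib.Helper7.MajSubLAT.exists_basic Nm hsymm _ hpd0 hsq
  have hr : r = blockRank p e := by
    have h1 : Nm.trace = (p : ℤ) ^ d * (blockRank p e : ℤ) := by
      rw [Matrix.trace]
      simp only [Matrix.diag_apply, hNm, Matrix.of_apply]
      exact Cfsg.Agent.Lib.Helper19.MajSubNB4.nMat_trace hM e he'
    rw [h1] at htr
    have := mul_left_cancel₀ hpd0 htr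
    exact_mod_cast this.symm
  have hr1 : 1 ≤ r := by rw [hr]; exact pow_pos_blockRank e hene
  have hr2 : r ≤ 2 := by rw [hr]; exact hl
  -- the index type
  set ι := {χ : IrrCharacter G // χ ∈ B} with hι
  set h : ι → ℕ := fun i => blockHeight p B ((i : IrrCharacter G) : G → ℂ) with hh
  have hBne : B.Nonempty := by
    obtain ⟨χ₁, rfl⟩ := hB
    exact ⟨χ₁, mem_blockOf_self χ₁⟩
  obtain ⟨χ₀, hχ₀, hχ₀min⟩ := exists_minVal (p := p) hBne
  set i₀ : ι := ⟨χ₀, hχ₀⟩ with hi₀def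
  have hi₀ : h i₀ = 0 := (blockHeight_eq_zero_iff hχ₀).mpr hχ₀min
  -- the lifts
  have hex : ∀ (i : ι) (a : Fin r), ∃ y : K, IsIntegral ℤ y ∧ ∀ σ : K ≃ₐ[ℚ] K,
      φ (σ y) = gdec C e D (z ^ galExp Nn K σ) (i : IrrCharacter G) a := by
    intro i a
    have hz1 : z ∈ C := by simpa using hzkC 1
    have hc1 : ∀ c ∈ C, c * z = z * c := by simpa using hcommk 1
    exact Cfsg.Agent.Lib.Helper24.MajSubLF.exists_gdec_lift Nn K φ z hzN C hz1 hc1 e (fun ζ => D ζ a) (i : IrrCharacter G)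
  choose x hxint hxσ using hex
  have hcard : Nat.card B = Fintype.card ι := by
    rw [Nat.card_eq_fintype_card]
  -- the Gram relation
  have hgram : ∀ σ : K ≃ₐ[ℚ] K, ∀ a b : Fin r,
      ∑ i : ι, conj (φ (σ (x i a))) * φ (σ (x i b)) = (((D.transpose * D) a b : ℤ) : ℂ) := by
    intro σ a b
    have h1 := gram_gdec hM (z ^ galExp Nn K σ) (hpow σ).1 C (hpow σ).2 B hB ψ₀ hind D E C' hED hN
      hC'symm hCC' a b
    rw [← h1]
    rw [Finset.sum_subtype (Finset.univ.filter (· ∈ B)) (p := (· ∈ B))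
      (fun χ => by simp)]
    apply Finset.sum_congr rfl
    intro i _
    rw [hxσ, hxσ]
  -- (5H)
  have h5H : ∀ σ : K ≃ₐ[ℚ] K, ∀ i, h i = 0 → ∀ j,
      LocUnit M ((∑ a, ∑ b, φ (σ (x i a)) * (C' a b : ℂ) * conj (φ (σ (x j b)))) /
          (p : ℂ) ^ h j) ∧
        LocUnit M ((∑ a, ∑ b, φ (σ (x j a)) * (C' a b : ℂ) * conj (φ (σ (x i b)))) /
          (p : ℂ) ^ h j) := by
    intro σ i hi j
    have h1 := Cfsg.Agent.Lib.Helper23.MajSubH5.contrib_5H hM (z ^ galExp Nn K σ) (hpow σ).1 C (hpow σ).2 B e hind hdef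
      (i : IrrCharacter G) (j : IrrCharacter G) i.2 hi j.2
    have h2 := contrib_eq_gdec hM (z ^ galExp Nn K σ) C (hzkC _) (hcommk _) e he' D C' hN
      (i : IrrCharacter G) (j : IrrCharacter G)
    have h3 := contrib_eq_gdec hM (z ^ galExp Nn K σ) C (hzkC _) (hcommk _) e he' D C' hN
      (j : IrrCharacter G) (i : IrrCharacter G)
    rw [← hdef, h2, h3] at h1
    simp only [hxσ]
    exact h1
  -- the two cases
  have hrcases : r = 1 ∨ r = 2 := by omega
  rw [hcard, ← hdef]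
  rcases hrcases with hr' | hr'
  · subst hr'
    exact Cfsg.Agent.Lib.Helper9.MajSubALG0.card_le_of_rank_one hM K φ h i₀ hi₀ x hxint d (D.transpose * D) C' hCC' hgram h5H
  · subst hr'
    have hdet : (p : ℤ) ∣ C'.det := by
      obtain ⟨κ, τ, hκτ⟩ := Cfsg.Agent.Lib.Helper8.MajSubNB.nMat_rank_one hM e he'
      exact Cfsg.Agent.Lib.Helper7.MajSubLAT.dvd_det_of_rank_one Nm D E C' hED hN (p : ℤ) κ τ (fun ζ ζ' => by
        simpa only [hNm, Matrix.of_apply] using hκτ ζ ζ')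
    have hCsymm : (D.transpose * D).transpose = D.transpose * D := by
      rw [Matrix.transpose_mul, Matrix.transpose_transpose]
    exact card_le_of_rank_two hM K φ h i₀ hi₀ x hxint d (D.transpose * D) C' hCsymm hC'symm hCC'
      hdet hgram h5H

/-- the frozen statement S4539 from `card_le_of_major` -/
theorem result_S4539 {G : Type*} [Group G] [Finite G] (p : ℕ) [Fact p.Prime] (M : Ideal Cfsg.AlgInt)
    (hM : Cfsg.IsPModular p M) (B : Set (Cfsg.IrrCharacter G)) (hB : Cfsg.IsPBlock M B)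
    (D : Subgroup G) (hD : Cfsg.IsDefectGroup p M B D) (z : G) (hzD : z ∈ D)
    (hzc : ∀ d ∈ D, d * z = z * d)
    (b : Set (Cfsg.IrrCharacter ↥(Subgroup.centralizer ({z} : Set G))))
    (hb : Cfsg.IsInducedBlock M (Subgroup.centralizer ({z} : Set G)) b B)
    (hbD : Cfsg.IsDefectGroup p M b (D.subgroupOf (Subgroup.centralizer ({z} : Set G))))
    (hl : Cfsg.blockRank p b ≤ 2) : Nat.card B ≤ p ^ Cfsg.blockDefect p B := by
  classical
  let _ : Fintype G := Fintype.ofFinite G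
  have hp : p.Prime := Fact.out
  -- `z` is a `p`-element
  have hDp : IsPGroup p D := by
    obtain ⟨g, -, S, hS⟩ := hD
    rw [hS]
    exact S.isPGroup'.map _
  have hz : ∃ k : ℕ, orderOf z = p ^ k := by
    obtain ⟨k, hk⟩ := hDp ⟨z, hzD⟩
    have h1 : z ^ p ^ k = 1 := by
      have := congrArg Subtype.val hk
      simpa using this
    have h2 : orderOf z ∣ p ^ k := orderOf_dvd_of_pow_eq_one h1
    obtain ⟨j, -, hj⟩ := (Nat.dvd_prime_pow hp).mp h2
    exact ⟨j, hj⟩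
  -- equal defects
  have hDC : D ≤ Subgroup.centralizer ({z} : Set G) := by
    intro x hx
    rw [Subgroup.mem_centralizer_singleton_iff]
    exact hzc x hx
  have hc1 := card_defectGroup_eq hM B hB D hD
  have hc2 := card_defectGroup_eq hM b hb.1 _ hbD
  have hc3 : Nat.card (D.subgroupOf (Subgroup.centralizer ({z} : Set G))) = Nat.card D :=
    Nat.card_congr (Subgroup.subgroupOfEquivOfLe hDC).toEquiv
  have hdef : blockDefect p b = blockDefect p B := by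
    rw [hc3, hc1] at hc2
    exact (Nat.pow_right_injective hp.two_le hc2).symm
  exact card_le_of_major hM z hz B hB b hb hdef hl

end ASM


end Cfsg.Agent.Lib.Helper27.MajSubMain
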