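/-
helper27: S4637 leaf (L4): a `2`-block of defect `2` with a major subsection `(z, b)`, `z` an
involution, `l(b) = 1`, has exactly four irreducible characters.  (S4539 machinery: the generalized
decomposition numbers at an involution are integers, `∑ n_χ² = c`, `c c' = 4`, Brauer's (5H).)
-/
import Cfsg.Agent.Lib.Helper27.MajSubMain
import Cfsg.Agent.Lib.Helper9.TwoMajZ

set_option autoImplicit false

namespace Cfsg.Agent.Lib.Helper27.KleinL4

open Cfsg Cfsg.Agent.CharLib Cfsg.Agent.Lib.Helper24 Cfsg.Agent.Lib.Helper6 Cfsg.Agent.Lib.Helper23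
open Cfsg.Agent.Lib.Helper23.Subsec Cfsg.Agent.Lib.Helper27.MajSub
open scoped ComplexConjugate

universe u

section ALG

variable {M : Ideal AlgInt}

/-- the arithmetic core -/
theorem card_eq_four_alg (hM : IsPModular 2 M) {ι : Type*} [Fintype ι] (h : ι → ℕ) (i₀ : ι)
    (hi₀ : h i₀ = 0) (n : ι → ℤ) (c c' : ℤ) (hcc' : c * c' = 4) (hgram : ∑ i, n i * n i = c)
    (h5H : ∀ j, LocUnit M (((n i₀ : ℂ) * (c' : ℂ) * (n j : ℂ)) / (2 : ℂ) ^ h j)) :
    Fintype.card ι = 4 := by
  classical
  have hprime : M.IsPrime := isPrime_of_isPModular hM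
  -- all `n j` are nonzero
  have hne : ∀ j, n j ≠ 0 := by
    intro j h0
    apply (h5H j).2
    rw [h0]
    simp only [Int.cast_zero, mul_zero, zero_div]
    exact memLocalIdeal_zero hprime.one_notMem
  -- `n i₀` and `c'` are odd
  have hodd : ¬ (2 : ℤ) ∣ n i₀ * c' * n i₀ := by
    intro hdvd
    apply (h5H i₀).2
    rw [hi₀, pow_zero, div_one]
    have := (Cfsg.Agent.Lib.Helper9.TwoMajZ.memLocalIdeal_intCast_iff hM (n i₀ * c' * n i₀)).mpr hdvd
    push_cast at this
    exact this
  have hc'odd : ¬ (2 : ℤ) ∣ c' := fun hd => hodd (Dvd.dvd.mul_right (Dvd.dvd.mul_left hd _) _)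
  have hn0odd : ¬ (2 : ℤ) ∣ n i₀ := fun hd => hodd (Dvd.dvd.mul_left hd _)
  -- `c > 0`
  have hsq : ∀ i, 1 ≤ n i * n i := by
    intro i
    have h1 : 0 < n i * n i := mul_self_pos.mpr (hne i)
    omega
  have hcpos : 0 < c := by
    rw [← hgram]
    calc (0 : ℤ) < n i₀ * n i₀ := mul_self_pos.mpr (hne i₀)
      _ ≤ ∑ i, n i * n i :=
        Finset.single_le_sum (f := fun i => n i * n i) (fun i _ => mul_self_nonneg (n i))
          (Finset.mem_univ i₀)
  -- `c' = 1`, `c = 4`
  have hc'pos : 0 < c' := by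
    by_contra hneg
    have hneg' : c' ≤ 0 := not_lt.mp hneg
    have : c * c' ≤ 0 := mul_nonpos_of_nonneg_of_nonpos hcpos.le hneg'
    omega
  have hc'le : c' ≤ 4 := by
    have h1 : c' ∣ 4 := ⟨c, by rw [← hcc']; ring⟩
    exact Int.le_of_dvd (by norm_num) h1
  have hc'1 : c' = 1 := by
    have h1 : c' ∣ 4 := ⟨c, by rw [← hcc']; ring⟩
    interval_cases c'
    · rfl
    · exact absurd (dvd_refl (2 : ℤ)) hc'odd
    · omega
    · exact absurd (⟨2, by norm_num⟩ : (2 : ℤ) ∣ 4) hc'odd
  have hc4 : c = 4 := by rw [hc'1, mul_one] at hcc'; exact hcc'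
  rw [hc4] at hgram
  -- every `n j` is `±1`
  have hle : ∀ j, n j * n j ≤ 4 := by
    intro j
    rw [← hgram]
    exact Finset.single_le_sum (f := fun i => n i * n i) (fun i _ => mul_self_nonneg (n i))
      (Finset.mem_univ j)
  have hone : ∀ j, n j * n j = 1 := by
    intro j
    by_contra hj
    have h1 := hsq j
    have h2 := hle j
    -- `|n j| = 2`
    have h4 : n j * n j = 4 := by
      have hb1 : -2 ≤ n j := by nlinarith
      have hb2 : n j ≤ 2 := by nlinarith
      have hnz := hne j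
      interval_cases (n j) <;> simp_all
    -- all other terms vanish, so `ι = {j}`
    have hrest : ∑ i ∈ Finset.univ.erase j, n i * n i = 0 := by
      have h6 : n j * n j + ∑ i ∈ Finset.univ.erase j, n i * n i = ∑ i, n i * n i :=
        Finset.add_sum_erase Finset.univ (fun i => n i * n i) (Finset.mem_univ j)
      omega
    have hall : ∀ i, i = j := by
      intro i
      by_contra hij
      have h5 : n i * n i ≤ ∑ i ∈ Finset.univ.erase j, n i * n i :=
        Finset.single_le_sum (f := fun i => n i * n i) (fun i _ => mul_self_nonneg (n i))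
          (Finset.mem_erase.mpr ⟨hij, Finset.mem_univ i⟩)
      have := hsq i
      omega
    have hi₀j : i₀ = j := hall i₀
    rw [← hi₀j] at h4
    apply hn0odd
    have hb1 : -2 ≤ n i₀ := by nlinarith
    have hb2 : n i₀ ≤ 2 := by nlinarith
    interval_cases (n i₀) <;> simp_all
  have hsum : ∑ i : ι, n i * n i = (Fintype.card ι : ℤ) := by
    rw [Finset.sum_congr rfl (fun i _ => hone i), Finset.sum_const, Finset.card_univ, nsmul_eq_mul,
      mul_one]
  rw [hsum] at hgram
  exact_mod_cast hgram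

end ALG


section INT

variable {G : Type u} [Group G] [Fintype G]

/-- `zCoeff` in terms of the multiplicities of the restriction and the central character. -/
theorem zCoeff_eq (C : Subgroup G) [Fintype C] [Fintype (IrrCharacter C)]
    (e : Set (IrrCharacter C)) (w : Subgroup.center C) (χ : IrrCharacter G) (ζ : IrrCharacter C)
    (hζ : ζ ∈ e) :
    zCoeff C e (((w : C) : G)) χ ζ = (resMult C χ ζ : ℂ) * centHom C ζ w := by
  classical
  unfold zCoeff
  rw [if_pos hζ]
  set ϑ : C → ℂ := fun c : C => (χ : G → ℂ) (((w : C) : G) * (c : G)) with hϑdef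
  have hϑ : ϑ = ∑ ξ : IrrCharacter C, ((resMult C χ ξ : ℂ) * centHom C ξ w) • (ξ : C → ℂ) := by
    funext c
    have h1 : ϑ c = resFun C (χ : G → ℂ) ((w : C) * c) := rfl
    rw [h1, res_eq_sum, Finset.sum_apply, Finset.sum_apply]
    apply Finset.sum_congr rfl
    intro ξ _
    simp only [Pi.smul_apply, smul_eq_mul, nsmul_eq_mul]
    rw [centHom_spec]
    ring
  rw [hϑ, classInner_sum_left]
  simp only [classInner_smul_left, classInner_irr']
  rw [Finset.sum_eq_single ζ]
  · rw [if_pos rfl, mul_one]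
  · intro ξ _ hne
    rw [if_neg hne, mul_zero]
  · intro h
    exact absurd (Finset.mem_univ ζ) h

/-- at a central involution the coefficients `zCoeff` are integers -/
theorem exists_int_zCoeff (C : Subgroup G) [Fintype C] [Fintype (IrrCharacter C)]
    (e : Set (IrrCharacter C)) (w : Subgroup.center C) (hw : w * w = 1) (χ : IrrCharacter G)
    (ζ : IrrCharacter C) : ∃ m : ℤ, zCoeff C e (((w : C) : G)) χ ζ = (m : ℂ) := by
  classical
  by_cases hζ : ζ ∈ e
  · rw [zCoeff_eq C e w χ ζ hζ]
    have h1 : centHom C ζ w * centHom C ζ w = 1 := by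
      rw [← map_mul, hw, map_one]
    rcases mul_self_eq_one_iff.mp h1 with h2 | h2
    · exact ⟨(resMult C χ ζ : ℤ), by rw [h2]; push_cast; ring⟩
    · exact ⟨-(resMult C χ ζ : ℤ), by rw [h2]; push_cast; ring⟩
  · refine ⟨0, ?_⟩
    unfold zCoeff
    rw [if_neg hζ]
    simp

/-- at a central involution the generalized decomposition numbers are integers -/
theorem exists_int_gdec (C : Subgroup G) [Fintype C] [Fintype (IrrCharacter C)]
    (e : Set (IrrCharacter C)) (w : Subgroup.center C) (hw : w * w = 1) {r : ℕ}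
    (D : Matrix (IrrCharacter C) (Fin r) ℤ) (χ : IrrCharacter G) (a : Fin r) :
    ∃ m : ℤ, gdec C e D (((w : C) : G)) χ a = (m : ℂ) := by
  classical
  choose m hm using fun ζ => exists_int_zCoeff C e w hw χ ζ
  refine ⟨∑ ζ : IrrCharacter C, m ζ * D ζ a, ?_⟩
  unfold gdec
  push_cast
  apply Finset.sum_congr rfl
  intro ζ _
  rw [hm ζ]

end INT

section MAIN

variable {G : Type u} [Group G] [Fintype G] {M : Ideal AlgInt}

/-- (L4) a `2`-block of defect `2` with a major subsection `(z, b)`, `z` an involution, `l(b) = 1`,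
has exactly four irreducible characters. -/
theorem card_eq_four_of_major_involution (hM : IsPModular 2 M) (z : G) (hz2 : orderOf z = 2)
    (B : Set (IrrCharacter G)) (hB : IsPBlock M B)
    (b : Set (IrrCharacter (Subgroup.centralizer ({z} : Set G))))
    (hind : IsInducedBlock M (Subgroup.centralizer ({z} : Set G)) b B)
    (hdef : blockDefect 2 b = blockDefect 2 B) (hd : blockDefect 2 B = 2)
    (hl : blockRank 2 b = 1) : Nat.card B = 4 := by
  classical
  have hpp : Fact (2 : ℕ).Prime := ⟨Nat.prime_two⟩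
  have hprime : M.IsPrime := isPrime_of_isPModular hM
  set C := Subgroup.centralizer ({z} : Set G) with hCdef
  let _ : Fintype C := Fintype.ofFinite C
  let _ := fintypeIrr C
  let _ := fintypeIrr G
  obtain ⟨ψ₀, hb⟩ := hind.1
  subst hb
  set e := blockOf M (ψ₀ : C → ℂ) with he
  have he' : IsPBlock M e := ⟨ψ₀, rfl⟩
  have hene : e.Nonempty := ⟨ψ₀, mem_blockOf_self ψ₀⟩
  have hz : ∃ k : ℕ, orderOf z = 2 ^ k := ⟨1, by rw [hz2, pow_one]⟩
  have hzC : z ∈ C := by
    rw [hCdef]; exact Subgroup.mem_centralizer_singleton_iff.mpr rfl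
  have hcommC : ∀ c : G, c ∈ C → c * z = z * c := by
    intro c hc
    rw [hCdef, Subgroup.mem_centralizer_singleton_iff] at hc
    exact hc
  have hcen : (⟨z, hzC⟩ : C) ∈ Subgroup.center C := by
    rw [Subgroup.mem_center_iff]
    intro g
    apply Subtype.ext
    exact hcommC g g.2
  set w : Subgroup.center C := ⟨⟨z, hzC⟩, hcen⟩ with hw
  have hwz : (((w : C) : G)) = z := rfl
  have hww : w * w = 1 := by
    apply Subtype.ext
    apply Subtype.ext
    change z * z = 1
    have := pow_orderOf_eq_one z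
    rw [hz2, pow_two] at this
    exact this
  have hd2 : blockDefect 2 e = 2 := by rw [hdef, hd]
  -- the basic set
  set Nm : Matrix (IrrCharacter C) (IrrCharacter C) ℤ := Matrix.of (nMat 2 e) with hNm
  have hsymm : Nm.transpose = Nm := by
    ext ζ ζ'
    simp only [Matrix.transpose_apply, hNm, Matrix.of_apply]
    exact Cfsg.Agent.Lib.Helper8.MajSubNB.nMat_symm e ζ' ζ
  have hpd0 : (((2 : ℕ) : ℤ) ^ blockDefect 2 e) ≠ 0 := pow_ne_zero _ (by norm_num)
  have hsq : Nm * Nm = (((2 : ℕ) : ℤ) ^ blockDefect 2 e) • Nm := by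
    ext ζ ζ''
    simp only [Matrix.mul_apply, Matrix.smul_apply, hNm, Matrix.of_apply, smul_eq_mul]
    exact Cfsg.Agent.Lib.Helper19.MajSubNB3.nMat_sq hM e he' ζ ζ''
  obtain ⟨r, D, E, C', hED, hN, hC'symm, hCC', htr⟩ :=
    Cfsg.Agent.Lib.Helper7.MajSubLAT.exists_basic Nm hsymm _ hpd0 hsq
  have hr : r = 1 := by
    have h1 : Nm.trace = ((2 : ℕ) : ℤ) ^ blockDefect 2 e * (blockRank 2 e : ℤ) := by
      rw [Matrix.trace]
      simp only [Matrix.diag_apply, hNm, Matrix.of_apply]
      exact Cfsg.Agent.Lib.Helper19.MajSubNB4.nMat_trace hM e he'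
    rw [h1] at htr
    have := mul_left_cancel₀ hpd0 htr
    rw [hl] at this
    exact_mod_cast this.symm
  subst hr
  -- the index type
  set ι := {χ : IrrCharacter G // χ ∈ B} with hι
  have hBne : B.Nonempty := by
    obtain ⟨χ₁, rfl⟩ := hB
    exact ⟨χ₁, mem_blockOf_self χ₁⟩
  obtain ⟨χ₀, hχ₀, hχ₀min⟩ := exists_minVal (p := 2) hBne
  set i₀ : ι := ⟨χ₀, hχ₀⟩ with hi₀def
  have hi₀ : blockHeight 2 B ((i₀ : IrrCharacter G) : G → ℂ) = 0 :=
    (blockHeight_eq_zero_iff hχ₀).mpr hχ₀min
  -- the integers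
  choose n hn using fun χ : IrrCharacter G => exists_int_gdec C e w hww D χ 0
  rw [hwz] at hn
  have hcard : Nat.card B = Fintype.card ι := by
    rw [Nat.card_eq_fintype_card]
  rw [hcard]
  refine card_eq_four_alg hM (fun i : ι => blockHeight 2 B ((i : IrrCharacter G) : G → ℂ)) i₀ hi₀
    (fun i => n (i : IrrCharacter G)) ((D.transpose * D) 0 0) (C' 0 0) ?_ ?_ ?_
  · have h1 := congrFun (congrFun hCC' 0) 0
    rw [hd2] at h1
    simpa [Matrix.mul_apply, Fin.sum_univ_one] using h1
  · have h1 := Cfsg.Agent.Lib.Helper27.MajSubMain.gram_gdec hM z hz C hCdef B hB ψ₀ hind D E C' hED hN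
      hC'symm hCC' 0 0
    rw [Finset.sum_subtype (Finset.univ.filter (· ∈ B)) (p := (· ∈ B)) (fun χ => by simp)] at h1
    have h2 : ((∑ i : ι, n (i : IrrCharacter G) * n (i : IrrCharacter G) : ℤ) : ℂ) =
        (((D.transpose * D) 0 0 : ℤ) : ℂ) := by
      rw [← h1]
      push_cast
      apply Finset.sum_congr rfl
      intro i _
      rw [hn]
      simp
    exact_mod_cast h2
  · intro j
    have h1 := (Cfsg.Agent.Lib.Helper23.MajSubH5.contrib_5H hM z hz C hCdef B e hind hdef
      (i₀ : IrrCharacter G) (j : IrrCharacter G) i₀.2 hi₀ j.2).1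
    have h2 := Cfsg.Agent.Lib.Helper27.MajSubMain.contrib_eq_gdec hM z C hzC hcommC e he' D C' hN
      (i₀ : IrrCharacter G) (j : IrrCharacter G)
    rw [← hdef] at h1
    have h3 : ((2 : ℕ) : ℂ) ^ blockDefect 2 e * contrib 2 C e z (i₀ : IrrCharacter G) (j : IrrCharacter G) =
        (n (i₀ : IrrCharacter G) : ℂ) * (C' 0 0 : ℂ) * (n (j : IrrCharacter G) : ℂ) := by
      rw [h2, Fin.sum_univ_one, Fin.sum_univ_one, hn, hn]
      simp
    rw [h3] at h1
    simpa using h1

end MAIN

end Cfsg.Agent.Lib.Helper27.KleinL4
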