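/-
helper27: S4637 assembly: a block with a Klein four defect group has inertial index `e ∈ {1, 3}`,
`k(B) = 4` and `l(B) = e`.  Leaves: helper14 (E13), helper24 (SC; sub-leaves helper16), helper14 /
helper29 (D2), helper23 (L3), helper27 (L4); see `notes/S4637_leaves.lean`.
-/
import Mathlib
import Cfsg.Agent.Lib.Helper14.KleinE13
import Cfsg.Agent.Lib.Helper23.KleinL3
import Cfsg.Agent.Lib.Helper27.KleinL4
import Cfsg.Agent.Lib.Helper24.KleinSC

set_option autoImplicit false

namespace Cfsg.Agent.Lib.Helper27.KleinMain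

open Cfsg Cfsg.Agent.CharLib Cfsg.Agent.Lib.Helper24 Cfsg.Agent.Lib.Helper6
open scoped ComplexConjugate

universe u

/-! ## ASSEMBLY (helper27) -/

section ASM

variable {G : Type u} [Group G] [Fintype G] {M : Ideal AlgInt}

/-- data of a nontrivial element of a Klein four defect group: its subsection block has rank one and
`k(B) = 4`. -/
theorem klein_subsection (hM : IsPModular 2 M) (B : Set (IrrCharacter G)) (hB : IsPBlock M B)
    (P : Subgroup G) (hPD : IsDefectGroup 2 M B P) (hV : IsKleinFour P)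
    (u : G) (huP : u ∈ P) (hu1 : u ≠ 1)
    (f : Set (IrrCharacter (Subgroup.centralizer ({u} : Set G))))
    (hind : IsInducedBlock M (Subgroup.centralizer ({u} : Set G)) f B)
    (hfD : IsDefectGroup 2 M f (P.subgroupOf (Subgroup.centralizer ({u} : Set G)))) :
    blockRank 2 f = 1 ∧ Nat.card B = 4 := by
  classical
  have hp2 : Fact (2 : ℕ).Prime := ⟨Nat.prime_two⟩
  have hcardP : Nat.card P = 4 := hV.card_four
  have hcomm : ∀ x ∈ P, ∀ y ∈ P, x * y = y * x := by
    intro x hx y hy
    have h := (IsKleinFour.isMulCommutative (G := P)).is_comm.comm ⟨x, hx⟩ ⟨y, hy⟩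
    exact congrArg Subtype.val h
  have hPH : P ≤ Subgroup.centralizer ({u} : Set G) := by
    intro x hx
    rw [Subgroup.mem_centralizer_singleton_iff]
    exact hcomm x hx u huP
  have hcardD : Nat.card (P.subgroupOf (Subgroup.centralizer ({u} : Set G))) = 4 := by
    rw [← hcardP]
    exact Nat.card_congr (Subgroup.subgroupOfEquivOfLe hPH).toEquiv
  -- the order of `u`
  have hu2 : orderOf u = 2 := by
    have h1 : (⟨u, huP⟩ : P) ^ 2 = 1 := by
      have := Monoid.pow_exponent_eq_one (⟨u, huP⟩ : P)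
      rwa [hV.exponent_two] at this
    have h2 : u ^ 2 = 1 := by
      have := congrArg Subtype.val h1
      simpa using this
    exact orderOf_eq_prime h2 hu1
  have huH : u ∈ Subgroup.centralizer ({u} : Set G) := hPH huP
  have hl : blockRank 2 f = 1 := by
    refine Cfsg.Agent.Lib.Helper23.KleinL3.blockRank_eq_one_of_central_involution hM f hind.1
      (P.subgroupOf (Subgroup.centralizer ({u} : Set G))) hfD hcardD
      ⟨u, huH⟩ (Subgroup.mem_subgroupOf.mpr huP) ?_ ?_
    · rw [← hu2]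
      exact Subgroup.orderOf_mk u huH
    · rw [Subgroup.mem_center_iff]
      intro g
      apply Subtype.ext
      exact Subgroup.mem_centralizer_singleton_iff.mp g.2
  refine ⟨hl, ?_⟩
  have h1 := card_defectGroup_eq hM B hB P hPD
  have h2 := card_defectGroup_eq hM f hind.1 _ hfD
  rw [hcardP] at h1
  rw [hcardD] at h2
  have hd : blockDefect 2 B = 2 := by
    have : (2 : ℕ) ^ 2 = 2 ^ blockDefect 2 B := by rw [← h1]; norm_num
    exact (Nat.pow_right_injective (le_refl 2) this).symm
  have hdf : blockDefect 2 f = 2 := by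
    have : (2 : ℕ) ^ 2 = 2 ^ blockDefect 2 f := by rw [← h2]; norm_num
    exact (Nat.pow_right_injective (le_refl 2) this).symm
  exact Cfsg.Agent.Lib.Helper27.KleinL4.card_eq_four_of_major_involution hM u hu2 B hB f hind (by rw [hd, hdf]) hd hl

end ASM

theorem result_S4637 {G : Type u} [Group G] [Finite G] (M : Ideal Cfsg.AlgInt)
    (hM : Cfsg.IsPModular 2 M) (B : Set (Cfsg.IrrCharacter G)) (hB : Cfsg.IsPBlock M B)
    (P : Subgroup G) (hPD : Cfsg.IsDefectGroup 2 M B P) (hV : IsKleinFour P)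
    (c : Set (Cfsg.IrrCharacter (Subgroup.centralizer (P : Set G))))
    (hc : Cfsg.IsInducedBlock M (Subgroup.centralizer (P : Set G)) c B) (T : Subgroup G)
    (hT : ∀ g : G, g ∈ T ↔ (g ∈ Subgroup.normalizer (P : Set G) ∧
      Cfsg.StabilizesBlock (Subgroup.centralizer (P : Set G)) c g)) (e : ℕ)
    (he : (Subgroup.centralizer (P : Set G)).relIndex T = e) :
    (e = 1 ∨ e = 3) ∧ Nat.card B = 4 ∧ Cfsg.blockRank 2 B = e := by
  classical
  let _ : Fintype G := Fintype.ofFinite G
  have hp2 : Fact (2 : ℕ).Prime := ⟨Nat.prime_two⟩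
  have hcardP : Nat.card P = 4 := hV.card_four
  have hcomm : ∀ x ∈ P, ∀ y ∈ P, x * y = y * x := by
    intro x hx y hy
    have h := (IsKleinFour.isMulCommutative (G := P)).is_comm.comm ⟨x, hx⟩ ⟨y, hy⟩
    exact congrArg Subtype.val h
  -- a nontrivial element of `P`
  obtain ⟨u₀, hu₀P, hu₀1⟩ : ∃ u₀ : G, u₀ ∈ P ∧ u₀ ≠ 1 := by
    have h1 : 1 < Nat.card P := by rw [hcardP]; norm_num
    have : Finite P := Nat.finite_of_card_ne_zero (by rw [hcardP]; norm_num)
    have hnt : Nontrivial P := Finite.one_lt_card_iff_nontrivial.mp h1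
    obtain ⟨x, hx⟩ := exists_ne (1 : P)
    exact ⟨x, x.2, fun h => hx (Subtype.ext h)⟩
  rcases Cfsg.Agent.Lib.Helper14.KleinE13.inertial_klein hM B hB P hPD hV c hc T hT with ⟨h1, htriv⟩ | ⟨h3, htrans⟩
  · -- inertial index one
    set R : Finset G := Finset.univ.filter (· ∈ P) with hRdef
    have hRP : ∀ u ∈ R, u ∈ P := fun u hu => (Finset.mem_filter.mp hu).2
    have hR : ∀ v ∈ P, ∃! u, u ∈ R ∧ ∃ t ∈ T, t * u * t⁻¹ = v := by
      intro v hv
      refine ⟨v, ⟨Finset.mem_filter.mpr ⟨Finset.mem_univ _, hv⟩, 1, T.one_mem, by group⟩, ?_⟩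
      rintro w ⟨hwR, t, ht, htw⟩
      rw [← htw, htriv t ht w (hRP w hwR)]
    obtain ⟨f, hf, hcount⟩ := Cfsg.Agent.Lib.Helper24.KleinSC.card_block_eq_sum_orbits hM B hB P hPD hcomm c hc T hT R hRP hR
    have hu₀R : u₀ ∈ R := Finset.mem_filter.mpr ⟨Finset.mem_univ _, hu₀P⟩
    have hk : Nat.card B = 4 :=
      (klein_subsection hM B hB P hPD hV u₀ hu₀P hu₀1 (f u₀) (hf u₀ hu₀R).1 (hf u₀ hu₀R).2).2
    have hsum : ∑ u ∈ R.erase 1, blockRank 2 (f u) = 3 := by
      have h1' : ∀ u ∈ R.erase 1, blockRank 2 (f u) = 1 := by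
        intro u hu
        have huR := Finset.mem_of_mem_erase hu
        exact (klein_subsection hM B hB P hPD hV u (hRP u huR) (Finset.ne_of_mem_erase hu) (f u)
          (hf u huR).1 (hf u huR).2).1
      rw [Finset.sum_congr rfl h1', Finset.sum_const, smul_eq_mul, mul_one,
        Finset.card_erase_of_mem (Finset.mem_filter.mpr ⟨Finset.mem_univ _, P.one_mem⟩)]
      have : R.card = 4 := by
        rw [← hcardP, Nat.card_eq_fintype_card, Fintype.card_subtype]
      rw [this]
    rw [hsum, hk] at hcount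
    refine ⟨Or.inl (by rw [← he, h1]), hk, ?_⟩
    rw [← he, h1]
    omega
  · -- inertial index three
    set R : Finset G := {1, u₀} with hRdef
    have hRP : ∀ u ∈ R, u ∈ P := by
      intro u hu
      rcases Finset.mem_insert.mp hu with rfl | hu
      · exact P.one_mem
      · rw [Finset.mem_singleton.mp hu]; exact hu₀P
    have hR : ∀ v ∈ P, ∃! u, u ∈ R ∧ ∃ t ∈ T, t * u * t⁻¹ = v := by
      intro v hv
      by_cases hv1 : v = 1
      · subst hv1
        refine ⟨1, ⟨Finset.mem_insert_self _ _, 1, T.one_mem, by group⟩, ?_⟩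
        rintro w ⟨-, t, -, htw⟩
        have : w = t⁻¹ * (t * w * t⁻¹) * t := by group
        rw [this, htw]; group
      · obtain ⟨t, ht, htu⟩ := htrans u₀ hu₀P v hv hu₀1 hv1
        refine ⟨u₀, ⟨Finset.mem_insert_of_mem (Finset.mem_singleton_self _), t, ht, htu⟩, ?_⟩
        rintro w ⟨hwR, t', -, htw⟩
        rcases Finset.mem_insert.mp hwR with rfl | hw
        · exfalso; apply hv1; rw [← htw]; group
        · exact Finset.mem_singleton.mp hw
    obtain ⟨f, hf, hcount⟩ := Cfsg.Agent.Lib.Helper24.KleinSC.card_block_eq_sum_orbits hM B hB P hPD hcomm c hc T hT R hRP hR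
    have hu₀R : u₀ ∈ R := Finset.mem_insert_of_mem (Finset.mem_singleton_self _)
    obtain ⟨hl, hk⟩ :=
      klein_subsection hM B hB P hPD hV u₀ hu₀P hu₀1 (f u₀) (hf u₀ hu₀R).1 (hf u₀ hu₀R).2
    have herase : R.erase 1 = {u₀} := by
      rw [hRdef, Finset.erase_insert]
      rw [Finset.mem_singleton]
      exact fun h => hu₀1 h.symm
    rw [herase, Finset.sum_singleton, hl, hk] at hcount
    refine ⟨Or.inr (by rw [← he, h3]), hk, ?_⟩
    rw [← he, h3]
    omega

end Cfsg.Agent.Lib.Helper27.KleinMain
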