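import Cfsg.Agent.Lib.Helper16.Extraspecial

set_option autoImplicit false

/-! In a group with centre `{1, z}` and central commutators (e.g. an extraspecial `2`-group) an abelian subgroup `A`
satisfies `|A|² ≤ 2 |E|` (counting argument adapted from `Helper16.self_centralizing`). -/

namespace Cfsg.Agent.Lib.Helper27

open Cfsg Cfsg.Agent.Lib.Helper16
open scoped commutatorElement

theorem abelian_card_sq_le {E : Type*} [Group E] [Fintype E] [DecidableEq E] {z : E} (hz1 : z ≠ 1)
    (hZ : ∀ w ∈ Subgroup.center E, w = 1 ∨ w = z)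
    (hcomm : ∀ x y : E, ⁅x, y⁆ ∈ Subgroup.center E) (A : Subgroup E) [Fintype A]
    (hAcomm : ∀ a ∈ A, ∀ b ∈ A, ⁅a, b⁆ = 1) :
    Fintype.card A * Fintype.card A ≤ 2 * Fintype.card E := by
  classical
  set F : E → A → ℕ := fun x a => if ⁅x, (a : E)⁆ = 1 then 1 else 0 with hF
  -- first count
  have hS1 : ∀ a : A, 2 * ∑ x, F x a ≤ Fintype.card E + (if (a : E) ∈ Subgroup.center E then Fintype.card E else 0) := by
    intro a
    have hsum : ∑ x, F x a = (Finset.univ.filter (fun x : E => ⁅x, (a : E)⁆ = 1)).card := by
      rw [hF]; simp only [Finset.sum_boole, Nat.cast_id]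
    rw [hsum]
    by_cases ha : (a : E) ∈ Subgroup.center E
    · rw [if_pos ha]
      have := Finset.card_filter_le (Finset.univ : Finset E) (fun x : E => ⁅x, (a : E)⁆ = 1)
      rw [Finset.card_univ] at this
      omega
    · rw [if_neg ha, add_zero]
      rcases comm_dichotomy_top hz1 hZ hcomm (a : E) with h | h
      · exfalso
        apply ha
        rw [Subgroup.mem_center_iff]
        intro g
        have := h g
        rw [commutatorElement_eq_one_iff_mul_comm] at this
        exact this.symm
      · have hfc : (Finset.univ.filter (fun x : E => ⁅x, (a : E)⁆ = 1)) = (Finset.univ.filter (fun b : E => ⁅(a : E), b⁆ = 1)) := by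
          apply Finset.filter_congr
          intro b _
          rw [commutatorElement_eq_one_iff_mul_comm, commutatorElement_eq_one_iff_mul_comm]
          exact eq_comm
        rw [hfc, h]
  have hZA : (Finset.univ.filter (fun a : A => (a : E) ∈ Subgroup.center E)).card ≤ 2 := by
    have h1 : (Finset.univ.filter (fun a : A => (a : E) ∈ Subgroup.center E)).card ≤ ({1, z} : Finset E).card := by
      apply Finset.card_le_card_of_injOn (fun a : A => (a : E))
      · intro a ha
        have ha' : (a : E) ∈ Subgroup.center E := by simpa using ha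
        rcases hZ _ ha' with h | h
        · simp [h]
        · simp [h]
      · intro a _ b _ h
        exact Subtype.ext h
    exact h1.trans Finset.card_le_two
  have hT1 : 2 * ∑ a, ∑ x, F x a ≤ Fintype.card A * Fintype.card E + 2 * Fintype.card E := by
    rw [Finset.mul_sum]
    calc ∑ a, 2 * ∑ x, F x a ≤ ∑ a : A, (Fintype.card E + (if (a : E) ∈ Subgroup.center E then Fintype.card E else 0)) :=
          Finset.sum_le_sum (fun a _ => hS1 a)
      _ = Fintype.card A * Fintype.card E + (Finset.univ.filter (fun a : A => (a : E) ∈ Subgroup.center E)).card * Fintype.card E := by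
          rw [Finset.sum_add_distrib, Finset.sum_const, Finset.card_univ, smul_eq_mul, ← Finset.sum_filter, Finset.sum_const, smul_eq_mul]
      _ ≤ _ := by
          apply Nat.add_le_add_left
          exact Nat.mul_le_mul_right _ hZA
  -- second count
  have hS2 : ∀ x : E, 2 * ∑ a, F x a = Fintype.card A + (if ∀ a ∈ A, ⁅x, a⁆ = 1 then Fintype.card A else 0) := by
    intro x
    have hsum : ∑ a, F x a = (Finset.univ.filter (fun a : A => ⁅x, (a : E)⁆ = 1)).card := by
      rw [hF]; simp only [Finset.sum_boole, Nat.cast_id]
    rw [hsum]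
    by_cases hxA : ∀ a ∈ A, ⁅x, a⁆ = 1
    · rw [if_pos hxA]
      have : (Finset.univ.filter (fun a : A => ⁅x, (a : E)⁆ = 1)) = Finset.univ := by
        apply Finset.filter_true_of_mem
        intro a _
        exact hxA a a.2
      rw [this, Finset.card_univ]; ring
    · rw [if_neg hxA, add_zero]
      rcases comm_dichotomy hz1 hZ hcomm A x with h | h
      · exact absurd h hxA
      · exact h.1
  have hT2 : 2 * ∑ x, ∑ a, F x a = Fintype.card E * Fintype.card A + (Finset.univ.filter (fun x : E => ∀ a ∈ A, ⁅x, a⁆ = 1)).card * Fintype.card A := by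
    rw [Finset.mul_sum]
    calc ∑ x, 2 * ∑ a, F x a = ∑ x : E, (Fintype.card A + (if ∀ a ∈ A, ⁅x, a⁆ = 1 then Fintype.card A else 0)) :=
          Finset.sum_congr rfl (fun x _ => hS2 x)
      _ = _ := by
          rw [Finset.sum_add_distrib, Finset.sum_const, Finset.card_univ, smul_eq_mul, ← Finset.sum_filter, Finset.sum_const, smul_eq_mul]
  have hcomm' : ∑ x, ∑ a, F x a = ∑ a, ∑ x, F x a := Finset.sum_comm
  set c := (Finset.univ.filter (fun x : E => ∀ a ∈ A, ⁅x, a⁆ = 1)).card with hc
  have h1 : c * Fintype.card A ≤ 2 * Fintype.card E := by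
    have := hT1
    rw [← hcomm', hT2] at this
    have h2 : Fintype.card A * Fintype.card E = Fintype.card E * Fintype.card A := Nat.mul_comm _ _
    omega
  have hsub : (Finset.univ.filter (fun x : E => x ∈ A)) ⊆ (Finset.univ.filter (fun x : E => ∀ a ∈ A, ⁅x, a⁆ = 1)) := by
    intro y hy
    simp only [Finset.mem_filter, Finset.mem_univ, true_and] at hy ⊢
    intro a ha
    exact hAcomm y hy a ha
  have hAF : (Finset.univ.filter (fun x : E => x ∈ A)).card = Fintype.card A := by
    rw [← Fintype.card_subtype]
  have hAc : Fintype.card A ≤ c := by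
    rw [← hAF]
    exact Finset.card_le_card hsub
  calc Fintype.card A * Fintype.card A ≤ c * Fintype.card A := Nat.mul_le_mul_right _ hAc
    _ ≤ 2 * Fintype.card E := h1

end Cfsg.Agent.Lib.Helper27
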