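import Cfsg.Agent.Lib.Helper27.Heis
import Cfsg.Agent.Lib.Helper27.ExtraspecialBound

set_option autoImplicit false

/-! The two extraspecial groups of order `2^(2n+1)` as Heisenberg-type groups, and their `2`-ranks. -/

namespace Cfsg.Agent.Lib.Helper27

open Cfsg Cfsg.Agent.Lib.Helper16
open scoped commutatorElement

/-- An elementary abelian subgroup of an extraspecial group of order `2^(2n+1)` has order at most `2^(n+1)`. -/
theorem rank_le_of_extraspecial {E : Type*} [Group E] [Finite E] (hE : IsExtraspecial 2 E) (n : ℕ)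
    (hcard : Nat.card E = 2 ^ (2 * n + 1)) (A : Subgroup E) (hA : IsElementaryAbelian 2 A) (k : ℕ)
    (hAc : Nat.card A = 2 ^ k) : k ≤ n + 1 := by
  classical
  have : Fintype E := Fintype.ofFinite E
  obtain ⟨z, hz1, hzZ, hzz, hZ, hcomm, hsq⟩ := extraspecial_basic hE
  obtain ⟨hAcomm, hAexp⟩ := hA
  have hAcomm' : ∀ a ∈ A, ∀ b ∈ A, ⁅a, b⁆ = 1 := by
    intro a ha b hb
    rw [commutatorElement_eq_one_iff_mul_comm]
    have := hAcomm.is_comm.comm ⟨a, ha⟩ ⟨b, hb⟩
    exact congrArg Subtype.val this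
  have h := abelian_card_sq_le hz1 hZ hcomm A hAcomm'
  rw [← Nat.card_eq_fintype_card, ← Nat.card_eq_fintype_card, hAc, hcard] at h
  have h2 : 2 ^ (2 * k) ≤ 2 ^ (2 * n + 2) := by
    calc 2 ^ (2 * k) = 2 ^ k * 2 ^ k := by rw [← pow_add]; congr 1; omega
      _ ≤ 2 * 2 ^ (2 * n + 1) := h
      _ = 2 ^ (2 * n + 2) := by rw [← pow_succ']
  have := (Nat.pow_le_pow_iff_right (by norm_num : 1 < 2)).mp h2
  omega

/-- The coordinate space: `n` planes over the field with two elements. -/
abbrev Vn (n : ℕ) : Type := Fin n → ZMod 2 × ZMod 2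

theorem vn_add_self {n : ℕ} (v : Vn n) : v + v = 0 := by
  funext i
  apply Prod.ext
  · exact zmod2_add_self _
  · exact zmod2_add_self _

/-- The form of plus type: `β(v, w) = Σ vᵢ.1 wᵢ.2`. -/
def plusForm (n : ℕ) : BiForm (Vn n) where
  toFun v w := ∑ i, (v i).1 * (w i).2
  add_left u v w := by
    simp only [Pi.add_apply, Prod.fst_add, add_mul, Finset.sum_add_distrib]
  add_right u v w := by
    simp only [Pi.add_apply, Prod.snd_add, mul_add, Finset.sum_add_distrib]
  char2 := vn_add_self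

/-- The form of minus type on `m + 1` planes: the first plane is anisotropic. -/
def minusForm (m : ℕ) : BiForm (Vn (m + 1)) where
  toFun v w := ∑ i, (v i).1 * (w i).2 + (v 0).1 * (w 0).1 + (v 0).2 * (w 0).2
  add_left u v w := by
    simp only [Pi.add_apply, Prod.fst_add, Prod.snd_add, add_mul, Finset.sum_add_distrib]
    ring
  add_right u v w := by
    simp only [Pi.add_apply, Prod.fst_add, Prod.snd_add, mul_add, Finset.sum_add_distrib]
    ring
  char2 := vn_add_self

theorem plusForm_apply {n : ℕ} (v w : Vn n) : (plusForm n).toFun v w = ∑ i, (v i).1 * (w i).2 := rfl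

theorem minusForm_apply {m : ℕ} (v w : Vn (m + 1)) :
    (minusForm m).toFun v w = ∑ i, (v i).1 * (w i).2 + (v 0).1 * (w 0).1 + (v 0).2 * (w 0).2 := rfl

theorem minusForm_symm {m : ℕ} (v w : Vn (m + 1)) :
    (minusForm m).toFun v w + (minusForm m).toFun w v =
      (plusForm (m + 1)).toFun v w + (plusForm (m + 1)).toFun w v := by
  rw [minusForm_apply, minusForm_apply, plusForm_apply, plusForm_apply]
  have h1 := zmod2_add_self ((v 0).1 * (w 0).1)
  have h2 := zmod2_add_self ((v 0).2 * (w 0).2)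
  have e1 : (w 0).1 * (v 0).1 = (v 0).1 * (w 0).1 := mul_comm _ _
  have e2 : (w 0).2 * (v 0).2 = (v 0).2 * (w 0).2 := mul_comm _ _
  rw [e1, e2]
  calc ∑ i, (v i).1 * (w i).2 + (v 0).1 * (w 0).1 + (v 0).2 * (w 0).2 +
        (∑ i, (w i).1 * (v i).2 + (v 0).1 * (w 0).1 + (v 0).2 * (w 0).2)
      = ∑ i, (v i).1 * (w i).2 + ∑ i, (w i).1 * (v i).2 + ((v 0).1 * (w 0).1 + (v 0).1 * (w 0).1) +
        ((v 0).2 * (w 0).2 + (v 0).2 * (w 0).2) := by ring
    _ = _ := by rw [h1, h2, add_zero, add_zero]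

theorem zmod2_eq_one_of_ne_zero {a : ZMod 2} (h : a ≠ 0) : a = 1 := by
  revert a; decide

theorem plusForm_nondeg {n : ℕ} (v : Vn n) (hv : v ≠ 0) :
    ∃ w : Vn n, (plusForm n).toFun v w + (plusForm n).toFun w v = 1 := by
  classical
  obtain ⟨i, hi⟩ := Function.ne_iff.mp hv
  by_cases h1 : (v i).1 = 0
  · have h2 : (v i).2 = 1 := by
      apply zmod2_eq_one_of_ne_zero
      intro h2
      apply hi
      exact Prod.ext h1 h2
    refine ⟨Pi.single i (1, 0), ?_⟩
    rw [plusForm_apply, plusForm_apply]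
    have e1 : ∑ j, (v j).1 * ((Pi.single i ((1 : ZMod 2), (0 : ZMod 2)) : Vn n) j).2 = 0 := by
      apply Finset.sum_eq_zero
      intro j _
      by_cases hj : j = i
      · subst hj; simp
      · simp [Pi.single_eq_of_ne hj]
    have e2 : ∑ j, ((Pi.single i ((1 : ZMod 2), (0 : ZMod 2)) : Vn n) j).1 * (v j).2 = 1 := by
      rw [Finset.sum_eq_single i]
      · simp [h2]
      · intro j _ hj
        simp [Pi.single_eq_of_ne hj]
      · intro h; exact absurd (Finset.mem_univ i) h
    rw [e1, e2, zero_add]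
  · have h1' : (v i).1 = 1 := zmod2_eq_one_of_ne_zero h1
    refine ⟨Pi.single i (0, 1), ?_⟩
    rw [plusForm_apply, plusForm_apply]
    have e1 : ∑ j, (v j).1 * ((Pi.single i ((0 : ZMod 2), (1 : ZMod 2)) : Vn n) j).2 = 1 := by
      rw [Finset.sum_eq_single i]
      · simp [h1']
      · intro j _ hj
        simp [Pi.single_eq_of_ne hj]
      · intro h; exact absurd (Finset.mem_univ i) h
    have e2 : ∑ j, ((Pi.single i ((0 : ZMod 2), (1 : ZMod 2)) : Vn n) j).1 * (v j).2 = 0 := by
      apply Finset.sum_eq_zero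
      intro j _
      by_cases hj : j = i
      · subst hj; simp
      · simp [Pi.single_eq_of_ne hj]
    rw [e1, e2, add_zero]

theorem minusForm_nondeg {m : ℕ} (v : Vn (m + 1)) (hv : v ≠ 0) :
    ∃ w : Vn (m + 1), (minusForm m).toFun v w + (minusForm m).toFun w v = 1 := by
  obtain ⟨w, hw⟩ := plusForm_nondeg v hv
  exact ⟨w, by rw [minusForm_symm, hw]⟩

theorem vn_exists_ne_zero (m : ℕ) : ∃ v : Vn (m + 1), v ≠ 0 := by
  refine ⟨Pi.single 0 (1, 0), ?_⟩
  intro h
  have := congrFun h 0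
  simp at this

theorem plusForm_exists_one (m : ℕ) : ∃ v : Vn (m + 1), (plusForm (m + 1)).toFun v v = 1 := by
  classical
  refine ⟨Pi.single 0 (1, 1), ?_⟩
  rw [plusForm_apply, Finset.sum_eq_single 0]
  · simp
  · intro j _ hj
    simp [Pi.single_eq_of_ne hj]
  · intro h; exact absurd (Finset.mem_univ _) h

theorem minusForm_exists_one (m : ℕ) : ∃ v : Vn (m + 1), (minusForm m).toFun v v = 1 := by
  classical
  refine ⟨Pi.single 0 (1, 0), ?_⟩
  rw [minusForm_apply]
  have e1 : ∑ j, ((Pi.single 0 ((1 : ZMod 2), (0 : ZMod 2)) : Vn (m + 1)) j).1 *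
      ((Pi.single 0 ((1 : ZMod 2), (0 : ZMod 2)) : Vn (m + 1)) j).2 = 0 := by
    apply Finset.sum_eq_zero
    intro j _
    by_cases hj : j = 0
    · subst hj; simp
    · simp [Pi.single_eq_of_ne hj]
  rw [e1]
  simp

theorem card_vn (n : ℕ) : Nat.card (Vn n) = 4 ^ n := by
  rw [Nat.card_eq_fintype_card, Fintype.card_fun, Fintype.card_prod, ZMod.card, Fintype.card_fin]

theorem card_heis_vn {n : ℕ} (B : BiForm (Vn n)) : Nat.card (Heis B) = 2 ^ (2 * n + 1) := by
  rw [Heis.card_eq, card_vn, pow_succ, pow_mul]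
  norm_num
  ring

theorem plus_isExtraspecial (m : ℕ) : IsExtraspecial 2 (Heis (plusForm (m + 1))) :=
  Heis.isExtraspecial plusForm_nondeg (vn_exists_ne_zero m) (plusForm_exists_one m)

theorem minus_isExtraspecial (m : ℕ) : IsExtraspecial 2 (Heis (minusForm m)) :=
  Heis.isExtraspecial minusForm_nondeg (vn_exists_ne_zero m) (minusForm_exists_one m)

end Cfsg.Agent.Lib.Helper27
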