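import Mathlib
import Cfsg.Prelude.Def_ClassicalGeometry
import Cfsg.Prelude.Def_GeometricClasses
import Cfsg.Agent.Lib.Helper5.LSubC
import Cfsg.Agent.Lib.Helper20.Om7S.Wrap
import Cfsg.Agent.Lib.Helper20.Om7S.KDefs
import Cfsg.Agent.Lib.Helper20.Om7S.EDefs
import Cfsg.Agent.Lib.Helper23.Om7SL0
import Cfsg.Agent.Lib.Helper22.Om7SL0cd
import Cfsg.Agent.Lib.Helper1.Om7K1a
import Cfsg.Agent.Lib.Helper7.Om7SK2
import Cfsg.Agent.Lib.Helper11.Om7SK7

set_option linter.dupNamespace false
set_option linter.ambiguousOpen false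

namespace Cfsg.Agent.Lib.Helper20.Om7S

set_option autoImplicit false
set_option linter.unusedSectionVars false
set_option linter.unusedVariables false

open Cfsg Matrix QuadraticMap Module Cfsg.Agent.Lib.Helper25.Siegel Cfsg.Agent.Lib.Helper19.OSub
open _root_.Cfsg _root_.Cfsg.Agent.Lib.Helper25.Siegel
open Cfsg.Agent.Lib.Helper26.OSubLeaf
open S7
open Cfsg.Agent.Lib.Helper23.Om7SLeaf Cfsg.Agent.Lib.Helper22.Om7SLeaf Cfsg.Agent.Lib.Helper1.Om7Leaf
open Cfsg.Agent.Lib.Helper7.Om7SLeaf Cfsg.Agent.Lib.Helper11.Om7SLeaf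

namespace Cfsg.Agent.Lib.Helper27.Om7ELeaf

variable {ι : Type} [Fintype ι] [DecidableEq ι] {F : Type*} [Field F] [Fintype F]
  {F₀ : Subfield F} {Q : QuadraticForm F (ι → F)} {M : Subgroup (GL ι F)}

/-- separation: for linearly independent `a, b` some `x` has `B(a,x) = 1`, `B(b,x) = 0` -/
theorem sep_pair (hnd : (polarBilin Q).Nondegenerate) {a b : ι → F}
    (li : LinearIndependent F ![a, b]) : ∃ x, polar Q a x = 1 ∧ polar Q b x = 0 := by
  have hnot : a ∉ Submodule.span F {b} := by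
    intro hmem
    obtain ⟨c, hc⟩ := Submodule.mem_span_singleton.mp hmem
    have := (LinearIndependent.pair_iff.mp li) 1 (-c) (by rw [← hc]; simp)
    exact one_ne_zero this.1
  obtain ⟨φ, hφa, hφ⟩ := Submodule.exists_dual_map_eq_bot_of_notMem hnot inferInstance
  have hφb : φ b = 0 := by
    have : φ b ∈ (Submodule.span F {b}).map φ :=
      Submodule.mem_map_of_mem (Submodule.mem_span_singleton_self b)
    rw [hφ] at this
    exact (Submodule.mem_bot F).mp this
  have hw : ∀ u, polar Q ((LinearMap.BilinForm.toDual (polarBilin Q) hnd).symm ((φ a)⁻¹ • φ)) u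
      = (φ a)⁻¹ * φ u := by
    intro u
    have := LinearMap.BilinForm.apply_toDual_symm_apply (B := polarBilin Q) (hB := hnd)
      ((φ a)⁻¹ • φ) u
    rw [polarBilin_apply_apply] at this
    exact this
  refine ⟨(LinearMap.BilinForm.toDual (polarBilin Q) hnd).symm ((φ a)⁻¹ • φ), ?_, ?_⟩
  · rw [polar_comm, hw, inv_mul_cancel₀ hφa]
  · rw [polar_comm, hw, hφb, mul_zero]

/-- E1 [S-M]: a root element determines its line -/
theorem span_of_rt_eq (hnd : (polarBilin Q).Nondegenerate) {a b a' b' : ι → F} (hab : TS Q a b)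
    (hab' : TS Q a' b') (he : rt Q a b 1 = rt Q a' b' 1) : InSpan a' b' a ∧ InSpan a' b' b := by
  have key : ∀ x, polar Q a x • b - polar Q b x • a = polar Q a' x • b' - polar Q b' x • a' := by
    intro x
    have h1 := mv_rt hab.Qu hab.Qv hab.uv 1 x
    have h2 := mv_rt hab'.Qu hab'.Qv hab'.uv 1 x
    rw [he, h2, one_smul, one_smul] at h1
    exact (add_left_cancel h1).symm
  have li' : LinearIndependent F ![b, a] := by
    rw [LinearIndependent.pair_iff]
    intro s t hst
    have := (LinearIndependent.pair_iff.mp hab.li) t s (by rw [add_comm]; exact hst)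
    exact ⟨this.2, this.1⟩
  obtain ⟨x, hax, hbx⟩ := sep_pair hnd hab.li
  obtain ⟨y, hby, hay⟩ := sep_pair hnd li'
  constructor
  · have := key y
    rw [hay, hby, zero_smul, one_smul, zero_sub] at this
    refine ⟨polar Q b' y, - polar Q a' y, ?_⟩
    rw [neg_smul, ← sub_eq_add_neg, ← neg_sub, ← this, neg_neg]
  · have := key x
    rw [hax, hbx, one_smul, zero_smul, sub_zero] at this
    refine ⟨- polar Q b' x, polar Q a' x, ?_⟩
    rw [this, neg_smul]
    abel

end Cfsg.Agent.Lib.Helper27.Om7ELeaf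

end Cfsg.Agent.Lib.Helper20.Om7S
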