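import Mathlib
import Cfsg.Prelude.Def_ClassicalGeometry
import Cfsg.Prelude.Def_GeometricClasses
import Cfsg.Agent.Lib.Helper5.LSubC
import Cfsg.Agent.Lib.Helper20.Om7S.Wrap
import Cfsg.Agent.Lib.Helper20.Om7S.KDefs
import Cfsg.Agent.Lib.Helper20.Om7S.EDefs
import Cfsg.Agent.Lib.Helper23.Om7SL0
import Cfsg.Agent.Lib.Helper22.Om7SL0cd
import Cfsg.Agent.Lib.Helper1.Om7K1a
import Cfsg.Agent.Lib.Helper7.Om7SK2
import Cfsg.Agent.Lib.Helper11.Om7SK7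

set_option linter.dupNamespace false
set_option linter.ambiguousOpen false

namespace Cfsg.Agent.Lib.Helper20.Om7S

set_option autoImplicit false
set_option linter.unusedSectionVars false
set_option linter.unusedVariables false

open Cfsg Matrix QuadraticMap Module Cfsg.Agent.Lib.Helper25.Siegel Cfsg.Agent.Lib.Helper19.OSub
open _root_.Cfsg _root_.Cfsg.Agent.Lib.Helper25.Siegel
open Cfsg.Agent.Lib.Helper26.OSubLeaf
open S7
open Cfsg.Agent.Lib.Helper23.Om7SLeaf Cfsg.Agent.Lib.Helper22.Om7SLeaf Cfsg.Agent.Lib.Helper1.Om7Leaf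
open Cfsg.Agent.Lib.Helper7.Om7SLeaf Cfsg.Agent.Lib.Helper11.Om7SLeaf

namespace Cfsg.Agent.Lib.Helper27.Om7ELeaf

variable {ι : Type} [Fintype ι] [DecidableEq ι] {F : Type*} [Field F] [Fintype F]
  {F₀ : Subfield F} {Q : QuadraticForm F (ι → F)} {M : Subgroup (GL ι F)}

/-- E7 [S]: a rationally acting map fixing `p₀ = c₁ b₁ + c₂ b₂ + c₃ b₃` (`bⱼ` rational): the `cⱼ` are `F₀`-dependent, or the
map fixes every `bⱼ`. -/
theorem hull_fix {hh : GL ι F} (hrat : ∀ x, RatV F₀ x → RatV F₀ (mv hh x)) {b₁ b₂ b₃ : ι → F}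
    (h₁ : RatV F₀ b₁) (h₂ : RatV F₀ b₂) (h₃ : RatV F₀ b₃) {c₁ c₂ c₃ : F}
    (hfix : mv hh (c₁ • b₁ + c₂ • b₂ + c₃ • b₃) = c₁ • b₁ + c₂ • b₂ + c₃ • b₃) :
    (∃ l₁ l₂ l₃ : F, l₁ ∈ F₀ ∧ l₂ ∈ F₀ ∧ l₃ ∈ F₀ ∧ ¬ (l₁ = 0 ∧ l₂ = 0 ∧ l₃ = 0) ∧
      l₁ * c₁ + l₂ * c₂ + l₃ * c₃ = 0) ∨
    (mv hh b₁ = b₁ ∧ mv hh b₂ = b₂ ∧ mv hh b₃ = b₃) := by
  have hd₁ : RatV F₀ (mv hh b₁ - b₁) := ratV_sub (hrat _ h₁) h₁
  have hd₂ : RatV F₀ (mv hh b₂ - b₂) := ratV_sub (hrat _ h₂) h₂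
  have hd₃ : RatV F₀ (mv hh b₃ - b₃) := ratV_sub (hrat _ h₃) h₃
  have hsum : c₁ • (mv hh b₁ - b₁) + c₂ • (mv hh b₂ - b₂) + c₃ • (mv hh b₃ - b₃) = 0 := by
    rw [mv_add, mv_add, mv_smul, mv_smul, mv_smul] at hfix
    rw [smul_sub, smul_sub, smul_sub]
    rw [← sub_eq_zero] at hfix
    rw [← hfix]
    abel
  by_cases hall : (mv hh b₁ - b₁ = 0 ∧ mv hh b₂ - b₂ = 0 ∧ mv hh b₃ - b₃ = 0)
  · right
    exact ⟨sub_eq_zero.mp hall.1, sub_eq_zero.mp hall.2.1, sub_eq_zero.mp hall.2.2⟩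
  · left
    have hex : ∃ i, ¬ ((mv hh b₁ - b₁) i = 0 ∧ (mv hh b₂ - b₂) i = 0 ∧ (mv hh b₃ - b₃) i = 0) := by
      by_contra hcon
      push Not at hcon
      apply hall
      refine ⟨funext fun i => ?_, funext fun i => ?_, funext fun i => ?_⟩
      · by_contra h1
        have := hcon i
        tauto
      · by_contra h1
        have := hcon i
        tauto
      · by_contra h1
        have := hcon i
        tauto
    obtain ⟨i, hi⟩ := hex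
    refine ⟨(mv hh b₁ - b₁) i, (mv hh b₂ - b₂) i, (mv hh b₃ - b₃) i, hd₁ i, hd₂ i, hd₃ i, hi, ?_⟩
    have := congrFun hsum i
    simp only [Pi.add_apply, Pi.smul_apply, smul_eq_mul, Pi.zero_apply] at this
    rw [← this]
    ring

end Cfsg.Agent.Lib.Helper27.Om7ELeaf

end Cfsg.Agent.Lib.Helper20.Om7S
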