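import Mathlib
import Cfsg.Prelude.Def_ClassicalGeometry
import Cfsg.Prelude.Def_GeometricClasses
import Cfsg.Agent.Lib.Helper5.LSubC
import Cfsg.Agent.Lib.Helper20.Om7S.Wrap
import Cfsg.Agent.Lib.Helper20.Om7S.KDefs
import Cfsg.Agent.Lib.Helper20.Om7S.EDefs
import Cfsg.Agent.Lib.Helper23.Om7SL0
import Cfsg.Agent.Lib.Helper22.Om7SL0cd
import Cfsg.Agent.Lib.Helper1.Om7K1a
import Cfsg.Agent.Lib.Helper7.Om7SK2
import Cfsg.Agent.Lib.Helper11.Om7SK7

set_option linter.dupNamespace false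
set_option linter.ambiguousOpen false

namespace Cfsg.Agent.Lib.Helper20.Om7S

set_option autoImplicit false
set_option linter.unusedSectionVars false
set_option linter.unusedVariables false

open Cfsg Matrix QuadraticMap Module Cfsg.Agent.Lib.Helper25.Siegel Cfsg.Agent.Lib.Helper19.OSub
open _root_.Cfsg _root_.Cfsg.Agent.Lib.Helper25.Siegel
open Cfsg.Agent.Lib.Helper26.OSubLeaf
open S7
open Cfsg.Agent.Lib.Helper23.Om7SLeaf Cfsg.Agent.Lib.Helper22.Om7SLeaf Cfsg.Agent.Lib.Helper1.Om7Leaf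
open Cfsg.Agent.Lib.Helper7.Om7SLeaf Cfsg.Agent.Lib.Helper11.Om7SLeaf

namespace Cfsg.Agent.Lib.Helper27.Om7ELeaf

variable {ι : Type} [Fintype ι] [DecidableEq ι] {F : Type*} [Field F] [Fintype F]
  {F₀ : Subfield F} {Q : QuadraticForm F (ι → F)} {M : Subgroup (GL ι F)}

/-- the general step: three mutually orthogonal rational singular vectors `x, y, z`, with `x, y` having dual vectors, and a
rational relation whose `z`-coefficient is non-zero -/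
theorem e8a_aux {x y z fx fy : ι → F} (hx : RatV F₀ x) (hy : RatV F₀ y) (hz : RatV F₀ z)
    (Qx : Q x = 0) (Qy : Q y = 0) (Qz : Q z = 0) (xy : polar Q x y = 0) (xz : polar Q x z = 0)
    (yz : polar Q y z = 0) (xfx : polar Q x fx = 1) (yfx : polar Q y fx = 0)
    (zfx : polar Q z fx = 0) (xfy : polar Q x fy = 0) (yfy : polar Q y fy = 1)
    (zfy : polar Q z fy = 0) {c₁ c₂ c₃ l₁ l₂ l₃ : F} (hl₁ : l₁ ∈ F₀) (hl₂ : l₂ ∈ F₀)
    (hl₃ : l₃ ∈ F₀) (hl : l₃ ≠ 0) (hrel : l₁ * c₁ + l₂ * c₂ + l₃ * c₃ = 0) :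
    ∃ b₁ b₂ : ι → F, RatV F₀ b₁ ∧ RatV F₀ b₂ ∧ TS Q b₁ b₂ ∧
      InSpan b₁ b₂ (c₁ • x + c₂ • y + c₃ • z) := by
  have pzx : polar Q z x = 0 := by rw [polar_comm]; exact xz
  have pzy : polar Q z y = 0 := by rw [polar_comm]; exact yz
  have pyx : polar Q y x = 0 := by rw [polar_comm]; exact xy
  have pzz : polar Q z z = 0 := polar_self_sing Qz
  have pxx : polar Q x x = 0 := polar_self_sing Qx
  have pyy : polar Q y y = 0 := polar_self_sing Qy
  refine ⟨l₃ • x - l₁ • z, l₃ • y - l₂ • z, ratV_sub (ratV_smul hl₃ hx) (ratV_smul hl₁ hz),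
    ratV_sub (ratV_smul hl₃ hy) (ratV_smul hl₂ hz), ⟨?_, ?_, ?_, ?_⟩, ?_⟩
  · rw [sub_eq_add_neg, ← neg_smul, QuadraticMap.map_add Q, QuadraticMap.map_smul,
      QuadraticMap.map_smul, Qx, Qz, polar_smul_left, polar_smul_right, xz]
    simp
  · rw [sub_eq_add_neg, ← neg_smul, QuadraticMap.map_add Q, QuadraticMap.map_smul,
      QuadraticMap.map_smul, Qy, Qz, polar_smul_left, polar_smul_right, yz]
    simp
  · rw [sub_eq_add_neg, sub_eq_add_neg, ← neg_smul, ← neg_smul, polar_add_left, polar_add_right,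
      polar_add_right, polar_smul_left, polar_smul_left, polar_smul_right, polar_smul_right,
      polar_smul_left, polar_smul_right, polar_smul_left, polar_smul_right, xy, xz, pzy, pzz]
    simp
  · rw [LinearIndependent.pair_iff]
    intro s t hst
    have h1 := congrArg (fun w => polar Q w fx) hst
    have h2 := congrArg (fun w => polar Q w fy) hst
    simp only [polar_add_left, polar_smul_left, polar_sub_left, xfx, yfx, zfx, xfy, yfy, zfy,
      smul_eq_mul, mul_zero, mul_one, sub_zero, add_zero, zero_add] at h1 h2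
    have e0 : polar Q (0 : ι → F) fx = 0 := by simp [polar]
    have e0' : polar Q (0 : ι → F) fy = 0 := by simp [polar]
    rw [e0] at h1
    rw [e0'] at h2
    exact ⟨(mul_eq_zero.mp h1).resolve_right hl, (mul_eq_zero.mp h2).resolve_right hl⟩
  · refine ⟨c₁ / l₃, c₂ / l₃, ?_⟩
    have hc3 : c₃ = -(l₁ * c₁ + l₂ * c₂) / l₃ := by
      field_simp
      linear_combination hrel
    rw [hc3]
    ext i
    simp only [Pi.add_apply, Pi.smul_apply, Pi.sub_apply, smul_eq_mul]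
    field_simp
    ring

/-- E8a [S-M]: a point of the rational t.s. plane `⟨e₀,e₁,e₂⟩` whose coordinates satisfy a rational linear relation lies on a
rational (t.s.) line of the plane. -/
theorem exists_rat_line_of_dep (fr : Frame F₀ Q 3) {c₁ c₂ c₃ l₁ l₂ l₃ : F} (hl₁ : l₁ ∈ F₀)
    (hl₂ : l₂ ∈ F₀) (hl₃ : l₃ ∈ F₀) (hl : ¬ (l₁ = 0 ∧ l₂ = 0 ∧ l₃ = 0))
    (hrel : l₁ * c₁ + l₂ * c₂ + l₃ * c₃ = 0) :
    ∃ b₁ b₂ : ι → F, RatV F₀ b₁ ∧ RatV F₀ b₂ ∧ TS Q b₁ b₂ ∧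
      InSpan b₁ b₂ (c₁ • fr.e 0 + c₂ • fr.e 1 + c₃ • fr.e 2) := by
  have ef : ∀ i j, polar Q (fr.e i) (fr.f j) = if i = j then 1 else 0 := fr.ef
  by_cases h3 : l₃ = 0
  · by_cases h2 : l₂ = 0
    · have h1 : l₁ ≠ 0 := fun h1 => hl ⟨h1, h2, h3⟩
      -- (x, y, z) = (e₁, e₂, e₀)
      have key := e8a_aux (Q := Q) (fr.rat_e 1) (fr.rat_e 2) (fr.rat_e 0) (fr.Qe 1) (fr.Qe 2)
        (fr.Qe 0) (fr.ee 1 2) (fr.ee 1 0) (fr.ee 2 0) (fx := fr.f 1) (fy := fr.f 2)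
        (by rw [ef]; simp) (by rw [ef]; simp) (by rw [ef]; simp) (by rw [ef]; simp)
        (by rw [ef]; simp) (by rw [ef]; simp) (c₁ := c₂) (c₂ := c₃) (c₃ := c₁) hl₂ hl₃ hl₁ h1
        (by linear_combination hrel)
      obtain ⟨b₁, b₂, hb₁, hb₂, hts, hin⟩ := key
      refine ⟨b₁, b₂, hb₁, hb₂, hts, ?_⟩
      have : c₁ • fr.e 0 + c₂ • fr.e 1 + c₃ • fr.e 2 = c₂ • fr.e 1 + c₃ • fr.e 2 + c₁ • fr.e 0 := by
        abel
      rw [this]
      exact hin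
    · -- (x, y, z) = (e₀, e₂, e₁)
      have key := e8a_aux (Q := Q) (fr.rat_e 0) (fr.rat_e 2) (fr.rat_e 1) (fr.Qe 0) (fr.Qe 2)
        (fr.Qe 1) (fr.ee 0 2) (fr.ee 0 1) (fr.ee 2 1) (fx := fr.f 0) (fy := fr.f 2)
        (by rw [ef]; simp) (by rw [ef]; simp) (by rw [ef]; simp) (by rw [ef]; simp)
        (by rw [ef]; simp) (by rw [ef]; simp) (c₁ := c₁) (c₂ := c₃) (c₃ := c₂) hl₁ hl₃ hl₂ h2
        (by linear_combination hrel)
      obtain ⟨b₁, b₂, hb₁, hb₂, hts, hin⟩ := key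
      refine ⟨b₁, b₂, hb₁, hb₂, hts, ?_⟩
      have : c₁ • fr.e 0 + c₂ • fr.e 1 + c₃ • fr.e 2 = c₁ • fr.e 0 + c₃ • fr.e 2 + c₂ • fr.e 1 := by
        abel
      rw [this]
      exact hin
  · exact e8a_aux (Q := Q) (fr.rat_e 0) (fr.rat_e 1) (fr.rat_e 2) (fr.Qe 0) (fr.Qe 1)
      (fr.Qe 2) (fr.ee 0 1) (fr.ee 0 2) (fr.ee 1 2) (fx := fr.f 0) (fy := fr.f 1)
      (by rw [ef]; simp) (by rw [ef]; simp) (by rw [ef]; simp) (by rw [ef]; simp)
      (by rw [ef]; simp) (by rw [ef]; simp) hl₁ hl₂ hl₃ h3 hrel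

end Cfsg.Agent.Lib.Helper27.Om7ELeaf

end Cfsg.Agent.Lib.Helper20.Om7S
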