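import Mathlib
import Cfsg.Agent.Lib.Helper27.SpMDefs

/-!
# SpnMax stage 2, leaf S4b (`GU_2(3).2 < 2^{1+4}_-.A_5 < Sp_4(3)`): definitions for the split (helper27)

`pmComm F` = the invertible matrices commuting or anticommuting with `J = Matrix.J (Fin 2) F`
(`J² = -1`, `J ∈ Sp`), i.e. the normaliser in `GL_4(F)` of the field `F[J]`.
-/

set_option autoImplicit false
set_option linter.unusedSectionVars false
set_option linter.unusedVariables false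

namespace Cfsg.Agent.Lib.Helper27.SpM4b

open Cfsg Cfsg.Geo Matrix

/-- the invertible matrices commuting or anticommuting with `J` -/
def pmComm (F : Type*) [Field F] : Subgroup (GL (Fin 2 ⊕ Fin 2) F) where
  carrier := {g | (g : Matrix (Fin 2 ⊕ Fin 2) (Fin 2 ⊕ Fin 2) F) * Matrix.J (Fin 2) F =
      Matrix.J (Fin 2) F * (g : Matrix (Fin 2 ⊕ Fin 2) (Fin 2 ⊕ Fin 2) F) ∨
    (g : Matrix (Fin 2 ⊕ Fin 2) (Fin 2 ⊕ Fin 2) F) * Matrix.J (Fin 2) F =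
      -(Matrix.J (Fin 2) F * (g : Matrix (Fin 2 ⊕ Fin 2) (Fin 2 ⊕ Fin 2) F))}
  mul_mem' {a b} ha hb := by
    simp only [Set.mem_ofPred_eq, Units.val_mul] at *
    rcases ha with ha | ha <;> rcases hb with hb | hb
    · left; rw [Matrix.mul_assoc, hb, ← Matrix.mul_assoc, ha, Matrix.mul_assoc]
    · right; rw [Matrix.mul_assoc, hb, Matrix.mul_neg, ← Matrix.mul_assoc, ha, Matrix.mul_assoc]
    · right; rw [Matrix.mul_assoc, hb, ← Matrix.mul_assoc, ha, Matrix.neg_mul, Matrix.mul_assoc]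
    · left
      rw [Matrix.mul_assoc, hb, Matrix.mul_neg, ← Matrix.mul_assoc, ha, Matrix.neg_mul, neg_neg,
        Matrix.mul_assoc]
  one_mem' := by
    left
    simp
  inv_mem' {a} ha := by
    simp only [Set.mem_ofPred_eq] at *
    have h1 : ((a⁻¹ : GL (Fin 2 ⊕ Fin 2) F) : Matrix (Fin 2 ⊕ Fin 2) (Fin 2 ⊕ Fin 2) F) *
        (a : Matrix (Fin 2 ⊕ Fin 2) (Fin 2 ⊕ Fin 2) F) = 1 := by
      rw [← Units.val_mul, inv_mul_cancel, Units.val_one]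
    have h2 : (a : Matrix (Fin 2 ⊕ Fin 2) (Fin 2 ⊕ Fin 2) F) *
        ((a⁻¹ : GL (Fin 2 ⊕ Fin 2) F) : Matrix (Fin 2 ⊕ Fin 2) (Fin 2 ⊕ Fin 2) F) = 1 := by
      rw [← Units.val_mul, mul_inv_cancel, Units.val_one]
    rcases ha with ha | ha
    · left
      calc ((a⁻¹ : GL (Fin 2 ⊕ Fin 2) F) : Matrix (Fin 2 ⊕ Fin 2) (Fin 2 ⊕ Fin 2) F) * Matrix.J (Fin 2) F
          = ((a⁻¹ : GL (Fin 2 ⊕ Fin 2) F) : Matrix (Fin 2 ⊕ Fin 2) (Fin 2 ⊕ Fin 2) F) *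
              (Matrix.J (Fin 2) F * (a : Matrix (Fin 2 ⊕ Fin 2) (Fin 2 ⊕ Fin 2) F)) *
              ((a⁻¹ : GL (Fin 2 ⊕ Fin 2) F) : Matrix (Fin 2 ⊕ Fin 2) (Fin 2 ⊕ Fin 2) F) := by
            rw [Matrix.mul_assoc, Matrix.mul_assoc, h2, Matrix.mul_one]
        _ = Matrix.J (Fin 2) F *
              ((a⁻¹ : GL (Fin 2 ⊕ Fin 2) F) : Matrix (Fin 2 ⊕ Fin 2) (Fin 2 ⊕ Fin 2) F) := by
            rw [← ha, ← Matrix.mul_assoc, h1, Matrix.one_mul]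
    · right
      calc ((a⁻¹ : GL (Fin 2 ⊕ Fin 2) F) : Matrix (Fin 2 ⊕ Fin 2) (Fin 2 ⊕ Fin 2) F) * Matrix.J (Fin 2) F
          = ((a⁻¹ : GL (Fin 2 ⊕ Fin 2) F) : Matrix (Fin 2 ⊕ Fin 2) (Fin 2 ⊕ Fin 2) F) *
              (Matrix.J (Fin 2) F * (a : Matrix (Fin 2 ⊕ Fin 2) (Fin 2 ⊕ Fin 2) F)) *
              ((a⁻¹ : GL (Fin 2 ⊕ Fin 2) F) : Matrix (Fin 2 ⊕ Fin 2) (Fin 2 ⊕ Fin 2) F) := by
            rw [Matrix.mul_assoc, Matrix.mul_assoc, h2, Matrix.mul_one]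
        _ = -(Matrix.J (Fin 2) F *
              ((a⁻¹ : GL (Fin 2 ⊕ Fin 2) F) : Matrix (Fin 2 ⊕ Fin 2) (Fin 2 ⊕ Fin 2) F)) := by
            have : Matrix.J (Fin 2) F * (a : Matrix (Fin 2 ⊕ Fin 2) (Fin 2 ⊕ Fin 2) F) =
                -((a : Matrix (Fin 2 ⊕ Fin 2) (Fin 2 ⊕ Fin 2) F) * Matrix.J (Fin 2) F) := by
              rw [ha, neg_neg]
            rw [this, Matrix.mul_neg, Matrix.neg_mul, ← Matrix.mul_assoc, h1,
              Matrix.one_mul]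

lemma mem_pmComm {F : Type*} [Field F] {g : GL (Fin 2 ⊕ Fin 2) F} : g ∈ pmComm F ↔
    ((g : Matrix (Fin 2 ⊕ Fin 2) (Fin 2 ⊕ Fin 2) F) * Matrix.J (Fin 2) F =
      Matrix.J (Fin 2) F * (g : Matrix (Fin 2 ⊕ Fin 2) (Fin 2 ⊕ Fin 2) F) ∨
    (g : Matrix (Fin 2 ⊕ Fin 2) (Fin 2 ⊕ Fin 2) F) * Matrix.J (Fin 2) F =
      -(Matrix.J (Fin 2) F * (g : Matrix (Fin 2 ⊕ Fin 2) (Fin 2 ⊕ Fin 2) F))) := Iff.rfl

end Cfsg.Agent.Lib.Helper27.SpM4b
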