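/-
helper27: S4892 leaf (D2) (planner helper23): a `p`-rational character (`p` odd) has determinantal
order prime to `p`.
-/
import Mathlib
import Cfsg.Prelude.Def_CharExt
import Cfsg.Agent.Lib.Helper6.DetChar
import Cfsg.Agent.Lib.Helper23.PRatDefs
import Cfsg.Agent.Lib.Helper27.PRatD1

set_option autoImplicit false

namespace Cfsg.Agent.Lib.Helper27.PRat

open Cfsg Cfsg.Agent.Lib.Helper6 Cfsg.Agent.Lib.Helper23.PRat

universe u

/-- arithmetic: for `p` odd there is `t ∈ {1, 2}` with `p ∤ 1 + t * m`, when `p ∤ m`. -/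
theorem exists_twist_exponent (p : ℕ) (hp : p.Prime) (hp2 : p ≠ 2) (m : ℕ) (hm : ¬ p ∣ m) :
    ∃ t : ℕ, ¬ p ∣ t ∧ ¬ p ∣ 1 + t * m := by
  by_cases h1 : p ∣ 1 + 1 * m
  · refine ⟨2, ?_, ?_⟩
    · intro h
      have := Nat.le_of_dvd (by norm_num) h
      have h2 := hp.two_le
      omega
    · intro h
      apply hm
      have h3 : p ∣ (1 + 2 * m) - (1 + 1 * m) := Nat.dvd_sub h h1
      have h4 : (1 + 2 * m) - (1 + 1 * m) = m := by omega
      rwa [h4] at h3
  · refine ⟨1, ?_, h1⟩
    intro h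
    have := Nat.le_of_dvd (by norm_num) h
    have h2 := hp.two_le
    omega

/-- in a group, `a ^ (1 + j) = a` forces `orderOf a ∣ j`. -/
theorem orderOf_dvd_of_pow_one_add_eq_self {M : Type*} [Group M] (a : M) (j : ℕ)
    (h : a ^ (1 + j) = a) : orderOf a ∣ j := by
  apply orderOf_dvd_of_pow_eq_one
  rw [pow_add, pow_one] at h
  have h1 : a * a ^ j = a * 1 := by rw [h, mul_one]
  exact mul_left_cancel h1

/-- (D2) a `p`-rational character, `p` odd, has determinantal order prime to `p`. -/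
theorem not_dvd_orderOf_detChar {X : Type u} [Group X] [Finite X] (p : ℕ) [Fact p.Prime]
    (hp2 : p ≠ 2) {χ : X → ℂ} (hχ : IsCharacter X χ) (n : ℕ) (hn : Nat.card X ∣ n) (hn0 : n ≠ 0)
    (hrat : PRat p n χ) : ¬ p ∣ orderOf (detChar χ) := by
  have hp : p.Prime := Fact.out
  set m : ℕ := n / p ^ n.factorization p with hm
  have hpm : ¬ p ∣ m := Nat.not_dvd_ordCompl hp hn0
  have hnm : p ^ n.factorization p * m = n := Nat.ordProj_mul_ordCompl_eq_self n p
  obtain ⟨t, ht, htm⟩ := exists_twist_exponent p hp hp2 m hpm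
  set k : ℕ := 1 + t * m with hk
  -- `k` is coprime to `n`
  have hkm : k.Coprime m := by
    rw [hk]
    have : Nat.Coprime (1 + t * m) m ↔ Nat.Coprime 1 m := Nat.coprime_add_mul_right_left 1 m t
    exact this.mpr (Nat.coprime_one_left m)
  have hkp : k.Coprime (p ^ n.factorization p) := by
    apply Nat.Coprime.pow_right
    exact ((Nat.Prime.coprime_iff_not_dvd hp).mpr htm).symm
  have hkn : k.Coprime n := by
    rw [← hnm]
    exact Nat.Coprime.mul_right hkp hkm
  have hkX : k.Coprime (Nat.card X) := Nat.Coprime.coprime_dvd_right hn hkn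
  have hk1 : k ≡ 1 [MOD m] := by
    rw [hk]
    unfold Nat.ModEq
    exact Nat.add_mul_mod_self_right 1 t m
  -- the twist by `k` fixes `χ`
  have hfix : (fun x => χ (x ^ k)) = χ := by
    funext x
    exact hrat k hkn hk1 x
  have hdet := detChar_comp_pow hχ k hkX
  rw [hfix] at hdet
  -- pass to the unit-valued homomorphism
  obtain ⟨d, ρ, rfl⟩ := hχ
  rw [detChar_eq_unitsHomToFun] at hdet ⊢
  rw [orderOf_unitsHomToFun]
  set φ : X →* ℂˣ := repDetHom ρ with hφ
  have h2 : φ ^ (1 + t * m) = φ := by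
    apply MonoidHom.ext
    intro x
    apply Units.ext
    rw [MonoidHom.pow_apply, Units.val_pow_eq_pow_val]
    have h := congrFun hdet x
    rw [unitsHomToFun_apply] at h
    exact h.symm
  have h5 : orderOf φ ∣ t * m := orderOf_dvd_of_pow_one_add_eq_self φ (t * m) h2
  intro h6
  have h7 : p ∣ t * m := dvd_trans h6 h5
  rcases (Nat.Prime.dvd_mul hp).mp h7 with h | h
  · exact ht h
  · exact hpm h

end Cfsg.Agent.Lib.Helper27.PRat
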