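/-
helper27: generic group-theoretic lemmas for S1435 (the B & G Section 15 lemma on maximal
subgroups containing the normalizer of a Sylow subgroup of `U`).

* `le_centralizer_of_frob`: a Frobenius-type action `B ⋊ K` on a solvable coprime group `N` with
  `C_N(K) = 1` centralizes... more precisely `N ≤ C(B)` (from helper17's counting formula).
* `prime_dichotomy`: a group `K` of prime order normalizing `B` either acts without fixed points
  on `B` or centralizes a non-identity element of `B`.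
* `commImage`: the image of `b ↦ b⁻¹ b^k` on an abelian subgroup normalized by `k`.
-/
import Mathlib
import Cfsg.Agent.Lib.Helper17.FrobCount2

set_option autoImplicit false
set_option linter.unusedSectionVars false
set_option linter.unusedVariables false
set_option linter.style.haveILetI false

namespace Cfsg.Agent.Lib.Helper27.BG156

open Subgroup

variable {X : Type*} [Group X]

/-- `K` of prime order is generated by any of its non-identity elements: an element commuting with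
one non-identity element of `K` centralizes `K`. -/
theorem mem_centralizer_of_prime_card [Finite X] {K : Subgroup X} (hK : (Nat.card K).Prime)
    {e : X} (he : e ∈ K) (he1 : e ≠ 1) {u : X} (hu : e * u = u * e) :
    u ∈ centralizer (K : Set X) := by
  haveI : Fact (Nat.card K).Prime := ⟨hK⟩
  rw [mem_centralizer_iff]
  intro k hk
  have h1 : (⟨k, hk⟩ : ↥K) ∈ zpowers (⟨e, he⟩ : ↥K) := by
    apply mem_zpowers_of_prime_card rfl
    intro h
    exact he1 (congrArg Subtype.val h)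
  obtain ⟨n, hn⟩ := mem_zpowers_iff.mp h1
  have h2 : k = e ^ n := by
    have := congrArg Subtype.val hn
    simpa using this.symm
  rw [h2]
  exact ((Commute.zpow_left (show Commute e u from hu) n).eq)

/-- every non-identity element of a group of prime order generates it: powers. -/
theorem exists_zpow_eq_of_prime_card [Finite X] {K : Subgroup X} (hK : (Nat.card K).Prime)
    {e : X} (he : e ∈ K) (he1 : e ≠ 1) {k : X} (hk : k ∈ K) : ∃ n : ℤ, e ^ n = k := by
  haveI : Fact (Nat.card K).Prime := ⟨hK⟩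
  have h1 : (⟨k, hk⟩ : ↥K) ∈ zpowers (⟨e, he⟩ : ↥K) := by
    apply mem_zpowers_of_prime_card rfl
    intro h
    exact he1 (congrArg Subtype.val h)
  obtain ⟨n, hn⟩ := mem_zpowers_iff.mp h1
  refine ⟨n, ?_⟩
  have := congrArg Subtype.val hn
  simpa using this

/-- **Dichotomy** for a group `K` of prime order and a subgroup `B`: either no non-identity element
of `K` commutes with a non-identity element of `B`, or some non-identity element of `B`
centralizes `K`. -/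
theorem prime_dichotomy [Finite X] {K : Subgroup X} (hK : (Nat.card K).Prime) (B : Subgroup X) :
    (∀ e ∈ K, e ≠ 1 → ∀ u ∈ B, e * u = u * e → u = 1) ∨
      ∃ b ∈ B, b ≠ 1 ∧ b ∈ centralizer (K : Set X) := by
  by_cases h : ∀ e ∈ K, e ≠ 1 → ∀ u ∈ B, e * u = u * e → u = 1
  · exact Or.inl h
  · right
    push Not at h
    obtain ⟨e, he, he1, u, hu, hcomm, hu1⟩ := h
    exact ⟨u, hu, hu1, mem_centralizer_of_prime_card hK he he1 hcomm⟩

/-- **Frobenius action kills a coprime solvable group with `C_N(K) = 1`**: if `K ≠ 1` normalizes `B`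
and acts on it without fixed points, `N` is a solvable group normalized by `B ⊔ K` of order prime to
`|B ⊔ K|` and `C_N(K) = 1`, then `B` centralizes `N`. -/
theorem le_centralizer_of_frob [Finite X] (B K N : Subgroup X) (hK1 : K ≠ ⊥)
    (hBn : ∀ e ∈ K, ∀ u ∈ B, e * u * e⁻¹ ∈ B)
    (hfpf : ∀ e ∈ K, e ≠ 1 → ∀ u ∈ B, e * u = u * e → u = 1)
    (hN : ∀ x ∈ B ⊔ K, ∀ h ∈ N, x * h * x⁻¹ ∈ N) (hsolv : Group.IsSolvable ↥N)
    (hcop : Nat.Coprime (Nat.card N) (Nat.card ↥(B ⊔ K)))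
    (hCK : N ⊓ centralizer (K : Set X) = ⊥) : N ≤ centralizer (B : Set X) := by
  have h := Cfsg.Agent.Lib.Helper17.FrobCount.formula_aux B K hK1 hBn hfpf (Nat.card N) N rfl hN
    hsolv hcop
  rw [hCK, Subgroup.card_bot, one_pow, one_mul] at h
  have hpos : 0 < Nat.card ↥(N ⊓ centralizer ((B ⊔ K : Subgroup X) : Set X)) := Nat.card_pos
  have h1 : Nat.card N ≤ Nat.card ↥(N ⊓ centralizer (B : Set X)) := by
    rw [← h]
    exact Nat.le_mul_of_pos_left _ (pow_pos hpos _)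
  have h2 : N ⊓ centralizer (B : Set X) = N := by
    apply Subgroup.eq_of_le_of_card_ge inf_le_left h1
  rw [← h2]
  exact inf_le_right

/-! ### the commutator image `b ↦ b⁻¹ (k b k⁻¹)` on an abelian subgroup -/

/-- the subgroup `{b⁻¹ (k b k⁻¹) | b ∈ B}` of an abelian subgroup `B` normalized by `k`. -/
def commImage (B : Subgroup X) (k : X) (hB : ∀ a ∈ B, ∀ b ∈ B, a * b = b * a)
    (hk : ∀ b ∈ B, k * b * k⁻¹ ∈ B) : Subgroup X where
  carrier := {x | ∃ b ∈ B, x = b⁻¹ * (k * b * k⁻¹)}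
  one_mem' := ⟨1, B.one_mem, by simp⟩
  mul_mem' := by
    rintro _ _ ⟨a, ha, rfl⟩ ⟨b, hb, rfl⟩
    refine ⟨a * b, B.mul_mem ha hb, ?_⟩
    have h1 := hB (k * a * k⁻¹) (hk a ha) b⁻¹ (B.inv_mem hb)
    calc a⁻¹ * (k * a * k⁻¹) * (b⁻¹ * (k * b * k⁻¹))
        = a⁻¹ * ((k * a * k⁻¹) * b⁻¹) * (k * b * k⁻¹) := by group
      _ = a⁻¹ * (b⁻¹ * (k * a * k⁻¹)) * (k * b * k⁻¹) := by rw [h1]
      _ = (a⁻¹ * b⁻¹) * (k * (a * b) * k⁻¹) := by group
      _ = (b⁻¹ * a⁻¹) * (k * (a * b) * k⁻¹) := by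
          rw [hB a⁻¹ (B.inv_mem ha) b⁻¹ (B.inv_mem hb)]
      _ = (a * b)⁻¹ * (k * (a * b) * k⁻¹) := by group
  inv_mem' := by
    rintro _ ⟨a, ha, rfl⟩
    refine ⟨a⁻¹, B.inv_mem ha, ?_⟩
    have h1 := hB a⁻¹ (B.inv_mem ha) (k * a * k⁻¹)⁻¹ (B.inv_mem (hk a ha))
    calc (a⁻¹ * (k * a * k⁻¹))⁻¹ = (k * a * k⁻¹)⁻¹ * a⁻¹⁻¹ := by group
      _ = a⁻¹⁻¹ * (k * a * k⁻¹)⁻¹ := by
          have := hB (k * a * k⁻¹)⁻¹ (B.inv_mem (hk a ha)) a⁻¹⁻¹ (B.inv_mem (B.inv_mem ha))
          exact this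
      _ = a⁻¹⁻¹ * (k * a⁻¹ * k⁻¹) := by group

theorem mem_commImage {B : Subgroup X} {k : X} {hB : ∀ a ∈ B, ∀ b ∈ B, a * b = b * a}
    {hk : ∀ b ∈ B, k * b * k⁻¹ ∈ B} {x : X} :
    x ∈ commImage B k hB hk ↔ ∃ b ∈ B, x = b⁻¹ * (k * b * k⁻¹) := Iff.rfl

theorem commImage_le (B : Subgroup X) (k : X) (hB : ∀ a ∈ B, ∀ b ∈ B, a * b = b * a)
    (hk : ∀ b ∈ B, k * b * k⁻¹ ∈ B) : commImage B k hB hk ≤ B := by
  rintro _ ⟨b, hb, rfl⟩
  exact B.mul_mem (B.inv_mem hb) (hk b hb)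

/-- `commImage` is `k`-invariant. -/
theorem conj_mem_commImage (B : Subgroup X) (k : X) (hB : ∀ a ∈ B, ∀ b ∈ B, a * b = b * a)
    (hk : ∀ b ∈ B, k * b * k⁻¹ ∈ B) {x : X} (hx : x ∈ commImage B k hB hk) :
    k * x * k⁻¹ ∈ commImage B k hB hk := by
  obtain ⟨b, hb, rfl⟩ := hx
  exact ⟨k * b * k⁻¹, hk b hb, by group⟩

/-- `commImage` is invariant under the powers of `k`. -/
theorem zpow_conj_mem_commImage (B : Subgroup X) (k : X) (hB : ∀ a ∈ B, ∀ b ∈ B, a * b = b * a)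
    (hk : ∀ b ∈ B, k * b * k⁻¹ ∈ B) (hk' : ∀ b ∈ B, k⁻¹ * b * k ∈ B) (n : ℤ) {x : X}
    (hx : x ∈ commImage B k hB hk) : k ^ n * x * (k ^ n)⁻¹ ∈ commImage B k hB hk := by
  have hinv : ∀ x ∈ commImage B k hB hk, k⁻¹ * x * k ∈ commImage B k hB hk := by
    rintro _ ⟨b, hb, rfl⟩
    exact ⟨k⁻¹ * b * k, hk' b hb, by group⟩
  have hnat : ∀ (m : ℕ), ∀ x ∈ commImage B k hB hk,
      k ^ m * x * (k ^ m)⁻¹ ∈ commImage B k hB hk := by
    intro m
    induction m with
    | zero => intro x hx; simpa using hx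
    | succ m ih =>
      intro x hx
      have := conj_mem_commImage B k hB hk (ih x hx)
      have e : k * (k ^ m * x * (k ^ m)⁻¹) * k⁻¹ = k ^ (m + 1) * x * (k ^ (m + 1))⁻¹ := by
        rw [pow_succ']; group
      rwa [e] at this
  have hnat' : ∀ (m : ℕ), ∀ x ∈ commImage B k hB hk,
      (k ^ m)⁻¹ * x * (k ^ m) ∈ commImage B k hB hk := by
    intro m
    induction m with
    | zero => intro x hx; simpa using hx
    | succ m ih =>
      intro x hx
      have := ih _ (hinv x hx)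
      have e : (k ^ m)⁻¹ * (k⁻¹ * x * k) * k ^ m = (k ^ (m + 1))⁻¹ * x * k ^ (m + 1) := by
        rw [pow_succ']; group
      rwa [e] at this
  obtain ⟨m, rfl | rfl⟩ := Int.eq_nat_or_neg n
  · simpa using hnat m x hx
  · have := hnat' m x hx
    simpa using this

/-- the key computation: if `x = b⁻¹ (k b k⁻¹)` is fixed by `k` then `k^j b k^-j = b x^j`. -/
theorem pow_conj_eq {B : Subgroup X} {k : X} (hB : ∀ a ∈ B, ∀ b ∈ B, a * b = b * a)
    (hk : ∀ b ∈ B, k * b * k⁻¹ ∈ B) {b : X} (hb : b ∈ B)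
    (hfix : k * (b⁻¹ * (k * b * k⁻¹)) = (b⁻¹ * (k * b * k⁻¹)) * k) (j : ℕ) :
    k ^ j * b * (k ^ j)⁻¹ = b * (b⁻¹ * (k * b * k⁻¹)) ^ j := by
  induction j with
  | zero => simp
  | succ j ih =>
    set x := b⁻¹ * (k * b * k⁻¹) with hx
    have hkx : k * x * k⁻¹ = x := by rw [hfix]; group
    have hkxj : k * x ^ j * k⁻¹ = x ^ j := by
      have : k * x ^ j * k⁻¹ = (k * x * k⁻¹) ^ j := by rw [conj_pow]
      rw [this, hkx]
    calc k ^ (j + 1) * b * (k ^ (j + 1))⁻¹ = k * (k ^ j * b * (k ^ j)⁻¹) * k⁻¹ := by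
          rw [pow_succ']; group
      _ = k * (b * x ^ j) * k⁻¹ := by rw [ih]
      _ = (k * b * k⁻¹) * (k * x ^ j * k⁻¹) := by group
      _ = (k * b * k⁻¹) * x ^ j := by rw [hkxj]
      _ = b * x * x ^ j := by rw [hx]; group
      _ = b * x ^ (j + 1) := by rw [pow_succ']; group

/-- `k` (of order dividing `p`) has no non-identity fixed point on `commImage B k` when `B` has no
`p`-torsion. -/
theorem commImage_fpf (B : Subgroup X) (k : X) (hB : ∀ a ∈ B, ∀ b ∈ B, a * b = b * a)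
    (hk : ∀ b ∈ B, k * b * k⁻¹ ∈ B) {p : ℕ} (hkp : k ^ p = 1)
    (htor : ∀ b ∈ B, b ^ p = 1 → b = 1) {x : X} (hx : x ∈ commImage B k hB hk)
    (hfix : k * x = x * k) : x = 1 := by
  obtain ⟨b, hb, rfl⟩ := hx
  have h1 := pow_conj_eq hB hk hb hfix p
  rw [hkp] at h1
  have h2 : (b⁻¹ * (k * b * k⁻¹)) ^ p = 1 := by
    have : b = b * (b⁻¹ * (k * b * k⁻¹)) ^ p := by simpa using h1
    exact (mul_eq_left.mp this.symm)
  exact htor _ (commImage_le B k hB hk ⟨b, hb, rfl⟩) h2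

/-- `commImage B k = ⊥` iff `k` centralizes `B`. -/
theorem commImage_eq_bot_iff (B : Subgroup X) (k : X) (hB : ∀ a ∈ B, ∀ b ∈ B, a * b = b * a)
    (hk : ∀ b ∈ B, k * b * k⁻¹ ∈ B) :
    commImage B k hB hk = ⊥ ↔ ∀ b ∈ B, k * b = b * k := by
  constructor
  · intro h b hb
    have h1 : b⁻¹ * (k * b * k⁻¹) ∈ commImage B k hB hk := ⟨b, hb, rfl⟩
    rw [h, mem_bot] at h1
    have h2 : k * b * k⁻¹ = b := by
      have : b * (b⁻¹ * (k * b * k⁻¹)) = b * 1 := by rw [h1]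
      simpa using this
    calc k * b = (k * b * k⁻¹) * k := by group
      _ = b * k := by rw [h2]
  · intro h
    rw [eq_bot_iff]
    rintro _ ⟨b, hb, rfl⟩
    rw [mem_bot, h b hb]
    group

end Cfsg.Agent.Lib.Helper27.BG156
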