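/-
helper27: S1435, part B: the context `Ctx` (M = K U M_σ with K, U ≠ 1, partner M*, R a Sylow
r-subgroup of U, H a maximal subgroup over N_G(R)) and the first facts:
`U K ≤ H`, `H` is conjugate neither to `M` nor to `M*`, `κ(H) = ∅`, `p = |K| ∉ σ(H)`,
`C_{H_σ}(K) = 1`, `H_σ` is nilpotent.
-/
import Mathlib
import Cfsg.Agent.Lib.Helper27.BG156A
import Cfsg.Agent.Lib.Helper20.BGAlpha
import Cfsg.Agent.Lib.Helper17.BGExG2
import Cfsg.Agent.Lib.Helper16.BGPrimD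
import Cfsg.Agent.Lib.Helper27.BGPCountB
import Cfsg.Agent.Lib.Helper19.BGTypeF2
import Cfsg.Agent.Lib.Helper23.BGY4
import Cfsg.Agent.Lib.Helper2.BGCorF
import Cfsg.Agent.S1350
import Cfsg.Agent.S1351
import Cfsg.Agent.S1352
import Cfsg.Agent.S1354
import Cfsg.Agent.S1364
import Cfsg.Agent.S1367
import Cfsg.Agent.S1368
import Cfsg.Agent.S1369
import Cfsg.Agent.S1378
import Cfsg.Agent.S1429
import Cfsg.Agent.S1430
import Cfsg.Agent.S1431
import Cfsg.Agent.S1432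
import Cfsg.Agent.S1434

set_option autoImplicit false
set_option linter.unusedSectionVars false
set_option linter.unusedVariables false
set_option linter.style.haveILetI false

namespace Cfsg.Agent.Lib.Helper27.BG156

open Cfsg Subgroup
open Cfsg.Agent.Lib.Helper8 (mem_map_conj conj_mem_map_conj map_conj_map_conj map_conj_one
  map_conj_le_iff map_conj_eq_iff card_map_conj mem_normalizer_iff_map_conj map_conj_eq_of_le
  IsSylIn)
open Cfsg.Agent.Lib.Helper2.BGCor (primes_card_sigmaCore sigmaCore_le)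

variable {G : Type*} [Group G] [Finite G]

/-- the context of S1435. -/
structure Ctx (M K U Mstar H : Subgroup G) (r : ℕ) [Fact r.Prime] (R : Sylow r U) : Prop where
  hG : Cfsg.IsMinSimpleOddOrder G
  hM : IsCoatom M
  hKU : Cfsg.IsSigmaDecomposition M K U
  hK1 : K ≠ ⊥
  hU1 : U ≠ ⊥
  hMstar : IsCoatom Mstar
  hKst : K = Cfsg.sigmaCore Mstar ⊓
    Subgroup.centralizer ((Cfsg.sigmaCore M ⊓ Subgroup.centralizer (K : Set G) : Subgroup G) : Set G)
  hKstH : Cfsg.IsPiHallOf (Cfsg.kappa Mstar)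
    (Cfsg.sigmaCore M ⊓ Subgroup.centralizer (K : Set G)) Mstar
  hr : r ∣ Nat.card U
  hH : IsCoatom H
  hNR : Subgroup.normalizer (((R : Subgroup U).map U.subtype : Subgroup G) : Set G) ≤ H

namespace Ctx

variable {M K U Mstar H : Subgroup G} {r : ℕ} [Fact r.Prime] {R : Sylow r U}

/-- `hKst` in the form of the frozen statements. -/
theorem hKst0 (c : Ctx M K U Mstar H r R) : K = Cfsg.sigmaCore Mstar ⊓
    Subgroup.centralizer ((Cfsg.sigmaCore M ⊓ Subgroup.centralizer (K : Set G)) : Set G) :=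
  c.hKst

theorem hallM (c : Ctx M K U Mstar H r R) :
    Cfsg.IsPiHallOf (Cfsg.sigma M) (Cfsg.sigmaCore M) M :=
  (Cfsg.Agent.S1350.result c.hG M c.hM).1

theorem hallH (c : Ctx M K U Mstar H r R) :
    Cfsg.IsPiHallOf (Cfsg.sigma H) (Cfsg.sigmaCore H) H :=
  (Cfsg.Agent.S1350.result c.hG H c.hH).1

theorem hallMs (c : Ctx M K U Mstar H r R) :
    Cfsg.IsPiHallOf (Cfsg.sigma Mstar) (Cfsg.sigmaCore Mstar) Mstar :=
  (Cfsg.Agent.S1350.result c.hG Mstar c.hMstar).1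

theorem t142 (c : Ctx M K U Mstar H r R) : Cfsg.Agent.Lib.Helper2.BGCor.T142 M K :=
  Cfsg.Agent.S1430.result c.hG M c.hM K c.hKU.hall c.hK1

theorem hrp (c : Ctx M K U Mstar H r R) : r.Prime := Fact.out

theorem hKM (c : Ctx M K U Mstar H r R) : K ≤ M := c.hKU.hall.1

theorem hUM (c : Ctx M K U Mstar H r R) : U ≤ M := c.hKU.compl.1

/-- `|K|` is a prime. -/
theorem cardK (c : Ctx M K U Mstar H r R) : (Nat.card K).Prime :=
  Cfsg.Agent.Lib.Helper20.BGAlpha.card_prime_of_U_ne_bot c.hG c.hM c.hKU c.hK1 c.hU1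

/-- `U` is abelian. -/
theorem Uab (c : Ctx M K U Mstar H r R) : IsMulCommutative U :=
  Cfsg.Agent.Lib.Helper1.BGKap.U_abelian c.hG c.hM c.hallM c.hKU c.t142

theorem Ucomm (c : Ctx M K U Mstar H r R) : ∀ a ∈ U, ∀ b ∈ U, a * b = b * a := by
  intro a ha b hb
  have := c.Uab
  exact congrArg Subtype.val (this.is_comm.comm ⟨a, ha⟩ ⟨b, hb⟩)

/-- primes of `U` are outside `κ(M)` and `σ(M)`. -/
theorem primeU (c : Ctx M K U Mstar H r R) {t : ℕ} (ht : t.Prime) (htU : t ∣ Nat.card U) :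
    t ∉ Cfsg.kappa M ∧ t ∉ Cfsg.sigma M :=
  Cfsg.Agent.Lib.Helper1.BGKap.not_kappa_sigma_of_dvd_card_U c.hallM c.hKU ht htU

/-- `C_{M_σ}(U) = 1` and `M_σ` is nilpotent. -/
theorem centU (c : Ctx M K U Mstar H r R) :
    Cfsg.sigmaCore M ⊓ Subgroup.centralizer (U : Set G) = ⊥ ∧
      Group.IsNilpotent (Cfsg.sigmaCore M) :=
  Cfsg.Agent.Lib.Helper20.BGAlpha.cent_U_eq_bot c.hG c.hM c.hKU c.hU1

/-! ### the Sylow subgroup `R̄` -/

theorem Rbar_le_U (c : Ctx M K U Mstar H r R) : (R : Subgroup U).map U.subtype ≤ U :=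
  Subgroup.map_subtype_le _

theorem Rbar_isPGroup (c : Ctx M K U Mstar H r R) : IsPGroup r ((R : Subgroup U).map U.subtype) :=
  R.isPGroup'.map _

theorem Rbar_ne_bot (c : Ctx M K U Mstar H r R) : (R : Subgroup U).map U.subtype ≠ ⊥ := by
  intro h
  have h1 : (R : Subgroup U) = ⊥ := (Subgroup.map_eq_bot_iff_of_injective _ U.subtype_injective).mp h
  have h2 : r ∣ Nat.card (R : Subgroup U) := by
    rw [R.card_eq_multiplicity]
    exact dvd_pow_self r ((Nat.Prime.factorization_pos_of_dvd c.hrp Nat.card_pos.ne' c.hr).ne')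
  rw [h1, Subgroup.card_bot] at h2
  exact c.hrp.one_lt.ne' (Nat.dvd_one.mp h2)

theorem Rbar_le_H (c : Ctx M K U Mstar H r R) : (R : Subgroup U).map U.subtype ≤ H :=
  Subgroup.le_normalizer.trans c.hNR

/-- `U ≤ H`. -/
theorem U_le_H (c : Ctx M K U Mstar H r R) : U ≤ H := by
  intro u hu
  apply c.hNR
  apply Subgroup.centralizer_le_normalizer
  rw [Subgroup.mem_centralizer_iff]
  intro x hx
  exact c.Ucomm x (c.Rbar_le_U hx) u hu

/-- `K ≤ N_G(R̄) ≤ H`. -/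
theorem K_le_H (c : Ctx M K U Mstar H r R) : K ≤ H := by
  have hnil : Group.IsNilpotent ↥U :=
    ⟨⟨1, Subgroup.upperCentralSeries_one_eq_top_iff.mpr c.Uab⟩⟩
  exact (c.hKU.normal.trans
    (Cfsg.Agent.Lib.Helper17.BGExG.normalizer_le_normalizer_sylow_of_nilpotent U hnil r R)).trans
    c.hNR

/-- `R̄` is a Sylow `r`-subgroup of `M`. -/
theorem sylM (c : Ctx M K U Mstar H r R) : IsSylIn r ((R : Subgroup U).map U.subtype) M := by
  apply Cfsg.Agent.Lib.Helper16.BGPrim.isSylIn_of_not_dvd_relIndex c.Rbar_isPGroup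
    (c.Rbar_le_U.trans c.hUM)
  have h1 := Subgroup.relIndex_mul_relIndex ((R : Subgroup U).map U.subtype) U M c.Rbar_le_U c.hUM
  rw [← h1]
  intro hd
  rcases (Nat.Prime.dvd_mul c.hrp).mp hd with h | h
  · have h2 : ((R : Subgroup U).map U.subtype).relIndex U = (R : Subgroup U).index := by
      unfold Subgroup.relIndex Subgroup.subgroupOf
      rw [Subgroup.comap_map_eq_self_of_injective U.subtype_injective]
    rw [h2] at h
    exact R.not_dvd_index h
  · have hUHall := Cfsg.Agent.Lib.Helper1.BGKap.isPiHallOf_U c.hallM c.hKU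
    obtain ⟨hκ, hσ⟩ := c.primeU c.hrp c.hr
    exact hUHall.2.2 r c.hrp ⟨c.hrp, hκ, hσ⟩ h

theorem r_dvd_H (c : Ctx M K U Mstar H r R) : r ∣ Nat.card H :=
  c.hr.trans (Subgroup.card_dvd_of_le c.U_le_H)

/-- `H` is not conjugate to `M`. -/
theorem nonconjM (c : Ctx M K U Mstar H r R) :
    ∀ g : G, H ≠ M.map (MulAut.conj g).toMonoidHom := by
  intro g hg
  have hcard : Nat.card H = Nat.card M := by rw [hg, card_map_conj]
  have hsylH : IsSylIn r ((R : Subgroup U).map U.subtype) H :=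
    ⟨c.Rbar_le_H, by rw [c.sylM.2, hcard]⟩
  have hrH : r ∈ Cfsg.sigma H :=
    ⟨c.hrp, c.r_dvd_H, hsylH.toSylow, by rw [hsylH.toSylow_map]; exact c.hNR⟩
  have hrM : r ∈ Cfsg.sigma M := by
    rw [hg] at hrH
    exact (Cfsg.Agent.Lib.Helper27.BGPCount.sigma_map_conj_iff g).mp hrH
  exact (c.primeU c.hrp c.hr).2 hrM

theorem H_ne_M (c : Ctx M K U Mstar H r R) : H ≠ M := by
  intro h
  apply c.nonconjM 1
  rw [map_conj_one]; exact h

/-! ### the partner `M*` -/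

theorem K_le_Msσ (c : Ctx M K U Mstar H r R) : K ≤ Cfsg.sigmaCore Mstar :=
  c.hKst.le.trans inf_le_left

theorem K_le_Ms (c : Ctx M K U Mstar H r R) : K ≤ Mstar :=
  c.K_le_Msσ.trans (sigmaCore_le Mstar)

theorem Ks_ne_bot (c : Ctx M K U Mstar H r R) :
    Cfsg.sigmaCore M ⊓ Subgroup.centralizer (K : Set G) ≠ ⊥ :=
  (Cfsg.Agent.S1354.result c.hG M c.hM K c.hKU.cyclic c.hKU.hall).1

/-- `K ∩ M*^g = 1` for `g ∉ M*` (S1431(a) for `(M*, K*)`). -/
theorem K_inf_conj (c : Ctx M K U Mstar H r R) (g : G) (hg : g ∉ Mstar) :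
    K ⊓ Mstar.map (MulAut.conj g).toMonoidHom = ⊥ := by
  have h := (Cfsg.Agent.S1431.result c.hG Mstar c.hMstar _ c.hKstH c.Ks_ne_bot).1 g hg
  rw [← c.hKst] at h
  exact h

/-- a conjugate of `M*` containing `K` is `M*`. -/
theorem conj_eq_of_K_le (c : Ctx M K U Mstar H r R) (g : G)
    (h : K ≤ Mstar.map (MulAut.conj g).toMonoidHom) :
    Mstar.map (MulAut.conj g).toMonoidHom = Mstar := by
  have hg : g ∈ Mstar := by
    by_contra hg
    have h1 := c.K_inf_conj g hg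
    rw [inf_eq_left.mpr h] at h1
    exact c.hK1 h1
  apply map_conj_eq_of_le
  rintro _ ⟨a, ha, rfl⟩
  exact Mstar.mul_mem (Mstar.mul_mem hg ha) (Mstar.inv_mem hg)

/-- `H` is not conjugate to `M*`. -/
theorem nonconjMs (c : Ctx M K U Mstar H r R) :
    ∀ g : G, H ≠ Mstar.map (MulAut.conj g).toMonoidHom := by
  intro g hg
  have h1 := c.conj_eq_of_K_le g (hg ▸ c.K_le_H)
  rw [h1] at hg
  -- `H = M*`, so `U ≤ M ∩ M* = K K* ≤ K M_σ`
  have h68 := (Cfsg.Agent.S1368.result c.hG M c.hM K U c.hKU c.hK1 Mstar c.hMstar c.hKst0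
    c.hKstH).1
  have hU : U ≤ K ⊔ Cfsg.sigmaCore M := by
    have : U ≤ M ⊓ Mstar := le_inf c.hUM (hg ▸ c.U_le_H)
    rw [h68] at this
    exact this.trans (sup_le_sup_left inf_le_left K)
  apply c.hU1
  rw [eq_bot_iff, ← c.hKU.compl.2.2.1]
  exact le_inf le_rfl hU

theorem H_ne_Ms (c : Ctx M K U Mstar H r R) : H ≠ Mstar := by
  intro h
  apply c.nonconjMs 1
  rw [map_conj_one]; exact h

/-- `κ(H) = ∅`. -/
theorem kappaH (c : Ctx M K U Mstar H r R) : Cfsg.kappa H = ∅ := by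
  by_contra hne
  have hne' : (Cfsg.kappa H).Nonempty := Set.nonempty_iff_ne_empty.mpr hne
  obtain ⟨g, hg | hg⟩ := (Cfsg.Agent.S1369.result c.hG M c.hM K U c.hKU c.hK1 Mstar c.hMstar
    c.hKst0 c.hKstH).2 H c.hH hne'
  · exact c.nonconjM g hg
  · exact c.nonconjMs g hg

/-- `p = |K| ∈ σ(M*)`. -/
theorem p_mem_sigma_Ms (c : Ctx M K U Mstar H r R) : Nat.card K ∈ Cfsg.sigma Mstar :=
  primes_card_sigmaCore Mstar _ c.cardK (Subgroup.card_dvd_of_le c.K_le_Msσ)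

/-- `p = |K| ∉ σ(H)`. -/
theorem p_notin_sigma_H (c : Ctx M K U Mstar H r R) : Nat.card K ∉ Cfsg.sigma H := by
  intro h
  obtain ⟨g, hg⟩ := (Cfsg.Agent.S1378.result c.hG).2 Mstar H c.hMstar c.hH
    ⟨_, c.p_mem_sigma_Ms, h⟩
  exact c.nonconjMs g hg

theorem p_dvd_H (c : Ctx M K U Mstar H r R) : Nat.card K ∣ Nat.card H :=
  Subgroup.card_dvd_of_le c.K_le_H

/-- `C_G(K) ≤ M*`, and `M*` is the only maximal subgroup containing `C_G(K)`. -/
theorem cent_K (c : Ctx M K U Mstar H r R) :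
    Subgroup.centralizer (K : Set G) ≤ Mstar ∧
      ∀ L : Subgroup G, IsCoatom L → Subgroup.centralizer (K : Set G) ≤ L → L = Mstar :=
  (Cfsg.Agent.S1367.result c.hG M c.hM K U c.hKU c.hK1 Mstar c.hMstar c.hKst0 c.hKstH).2 K le_rfl
    c.cardK

/-- `N_G(K) ≤ M*`. -/
theorem normalizer_K_le (c : Ctx M K U Mstar H r R) :
    Subgroup.normalizer (K : Set G) ≤ Mstar := by
  haveI := c.hG.2.1
  have hKtop : K ≠ ⊤ := fun h => c.hM.1 (top_le_iff.mp (h ▸ c.hKM))
  obtain ⟨L, hL, hNL⟩ := Cfsg.Agent.Lib.Helper17.BGU.exists_coatom_ge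
    (Cfsg.Agent.Lib.Helper17.BGU.normalizer_ne_top c.hK1 hKtop)
  have := c.cent_K.2 L hL ((Subgroup.centralizer_le_normalizer _).trans hNL)
  exact this ▸ hNL

/-- a non-identity element of `K` has order `p`. -/
theorem orderOf_eq (c : Ctx M K U Mstar H r R) {k : G} (hk : k ∈ K) (hk1 : k ≠ 1) :
    orderOf k = Nat.card K := by
  have h1 : orderOf k ∣ Nat.card K := by
    have := orderOf_dvd_natCard (⟨k, hk⟩ : ↥K)
    rwa [Subgroup.orderOf_mk] at this
  rcases (Nat.dvd_prime c.cardK).mp h1 with h | h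
  · exact absurd (orderOf_eq_one_iff.mp h) hk1
  · exact h

theorem exists_gen (c : Ctx M K U Mstar H r R) : ∃ k ∈ K, k ≠ 1 := by
  by_contra h
  push Not at h
  exact c.hK1 ((Subgroup.eq_bot_iff_forall K).mpr h)

/-- `C_{H_σ}(K) = 1`. -/
theorem CHK (c : Ctx M K U Mstar H r R) :
    Cfsg.sigmaCore H ⊓ Subgroup.centralizer (K : Set G) = ⊥ := by
  rw [Subgroup.eq_bot_iff_forall]
  rintro y ⟨hyσ, hyC⟩
  by_contra hy1
  obtain ⟨k, hkK, hk1⟩ := c.exists_gen
  have hyk : k * y = y * k := (Subgroup.mem_centralizer_iff.mp hyC k hkK)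
  have hk : k ∈ H ⊓ Subgroup.centralizer ({y} : Set G) :=
    ⟨c.K_le_H hkK, Subgroup.mem_centralizer_singleton_iff.mpr hyk⟩
  have hord := c.orderOf_eq hkK hk1
  have hprime : ∀ q : ℕ, q.Prime → q ∣ orderOf k → q = Nat.card K := by
    intro q hq hqd
    rw [hord] at hqd
    exact (Nat.prime_dvd_prime_iff_eq hq c.cardK).mp hqd
  rcases Cfsg.Agent.S1432.result c.hG H c.hH y hyσ hy1 k hk hk1
    (fun q hq hqd => by rw [hprime q hq hqd]; exact c.p_notin_sigma_H) with ⟨h1, -⟩ | ⟨-, -, -, huniq⟩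
  · have : Nat.card K ∈ Cfsg.kappa H := h1 _ c.cardK (by rw [hord])
    rw [c.kappaH] at this
    exact this
  · have hle : Subgroup.centralizer ({k} : Set G) ≤ Mstar := by
      intro x hx
      apply c.cent_K.1
      exact mem_centralizer_of_prime_card c.cardK hkK hk1
        (Subgroup.mem_centralizer_singleton_iff.mp hx).symm
    exact c.H_ne_Ms (huniq Mstar c.hMstar hle).symm

/-- `H` is not of type `P₁`, so `H_σ` is nilpotent (S1429). -/
theorem nilH (c : Ctx M K U Mstar H r R) : Group.IsNilpotent (Cfsg.sigmaCore H) := by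
  haveI : Fact (Nat.card K).Prime := ⟨c.cardK⟩
  have hP1 : ¬ (∀ q : ℕ, q.Prime → q ∣ Nat.card H → q ∉ Cfsg.sigma H → q ∈ Cfsg.kappa H) := by
    intro h
    have := h _ c.cardK c.p_dvd_H c.p_notin_sigma_H
    rw [c.kappaH] at this
    exact this
  have hpn : Nat.card K ∉ Cfsg.sigma H ∪ Cfsg.kappa H := by
    rintro (h | h)
    · exact c.p_notin_sigma_H h
    · rw [c.kappaH] at h; exact h
  obtain ⟨S⟩ : Nonempty (Sylow (Nat.card K) ↥H) := inferInstance
  exact (Cfsg.Agent.S1429.result c.hG H c.hH hP1 _ c.p_dvd_H hpn S).2.2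

theorem Hσ_ne_bot (c : Ctx M K U Mstar H r R) : Cfsg.sigmaCore H ≠ ⊥ :=
  Cfsg.Agent.Lib.Helper2.BGCor.sigmaCore_ne_bot c.hG (Cfsg.Agent.Lib.Helper19.BG123.UT_of c.hG)
    c.hH c.hallH

theorem H_le_normalizer (c : Ctx M K U Mstar H r R) :
    H ≤ Subgroup.normalizer ((Cfsg.sigmaCore H : Subgroup G) : Set G) :=
  Cfsg.Agent.Lib.Helper2.BGCor.le_normalizer_sigmaCore H

/-- a complement of `H_σ` in `H` containing `K`. -/
theorem exists_E (c : Ctx M K U Mstar H r R) :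
    ∃ E : Subgroup G, Cfsg.IsComplIn E (Cfsg.sigmaCore H) H ∧ K ≤ E := by
  obtain ⟨E0, hE0⟩ := Cfsg.Agent.Lib.Helper2.BGCor.exists_compl_sigmaCore c.hallH
  obtain ⟨g, hgH, hgE⟩ := Cfsg.Agent.Lib.Helper2.BGCor.exists_conj_le_compl c.hG c.hH c.hallH hE0
    c.K_le_H (by
      intro q hq hqd
      rw [(Nat.prime_dvd_prime_iff_eq hq c.cardK).mp hqd]
      exact c.p_notin_sigma_H)
  refine ⟨E0.map (MulAut.conj g⁻¹).toMonoidHom,
    Cfsg.Agent.Lib.Helper23.BGY.isComplIn_conj c.H_le_normalizer hE0 (H.inv_mem hgH), ?_⟩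
  exact map_conj_le_iff.mp hgE

end Ctx

end Cfsg.Agent.Lib.Helper27.BG156
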