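/-
helper27: S1435, part C: the partner facts for `M*` (`K` is a Hall `σ(M*)`-subgroup of `M`,
`K ≤ M*_F`), the `τ₂(H)` lemma (every `t ∈ τ₂(H)` lies in `σ(M*) ∪ κ(M*)`), and `U ≤ H_σ`.
-/
import Mathlib
import Cfsg.Agent.Lib.Helper27.BG156B
import Cfsg.Agent.Lib.Helper19.BG1210
import Cfsg.Agent.Lib.Helper27.BGConjC
import Cfsg.Agent.S1417
import Cfsg.Agent.S1418

set_option autoImplicit false
set_option linter.unusedSectionVars false
set_option linter.unusedVariables false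
set_option linter.style.haveILetI false

namespace Cfsg.Agent.Lib.Helper27.BG156

open Cfsg Subgroup
open Cfsg.Agent.Lib.Helper8 (mem_map_conj conj_mem_map_conj map_conj_map_conj map_conj_one
  map_conj_le_iff map_conj_eq_iff card_map_conj mem_normalizer_iff_map_conj map_conj_eq_of_le
  IsSylIn)
open Cfsg.Agent.Lib.Helper2.BGCor (primes_card_sigmaCore sigmaCore_le)

variable {G : Type*} [Group G] [Finite G]

namespace Ctx

variable {M K U Mstar H : Subgroup G} {r : ℕ} [Fact r.Prime] {R : Sylow r U}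

/-- a standard factorisation of `M*` with `K*`. -/
theorem exists_Us (c : Ctx M K U Mstar H r R) : ∃ Us : Subgroup G,
    Cfsg.IsSigmaDecomposition Mstar (Cfsg.sigmaCore M ⊓ Subgroup.centralizer (K : Set G)) Us := by
  have hcyc := (Cfsg.Agent.S1351.result c.hG Mstar c.hMstar).2 _ c.hKstH
  exact (Cfsg.Agent.S1352.result c.hG Mstar c.hMstar _ hcyc c.hKstH).1

/-- `K` is a Hall `σ(M*)`-subgroup of `M` (S1434 for `M*`). -/
theorem K_hall (c : Ctx M K U Mstar H r R) : Cfsg.IsPiHallOf (Cfsg.sigma Mstar) K M := by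
  obtain ⟨Us, hKUs⟩ := c.exists_Us
  have hKst' : (Cfsg.sigmaCore M ⊓ Subgroup.centralizer (K : Set G)) = Cfsg.sigmaCore M ⊓
      Subgroup.centralizer ((Cfsg.sigmaCore Mstar ⊓ Subgroup.centralizer
        ((Cfsg.sigmaCore M ⊓ Subgroup.centralizer (K : Set G) : Subgroup G) : Set G) :
          Subgroup G) : Set G) := by
    rw [← c.hKst]
  have hKstH' : Cfsg.IsPiHallOf (Cfsg.kappa M) (Cfsg.sigmaCore Mstar ⊓ Subgroup.centralizer
      ((Cfsg.sigmaCore M ⊓ Subgroup.centralizer (K : Set G) : Subgroup G) : Set G)) M := by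
    rw [← c.hKst]; exact c.hKU.hall
  have h34 := (Cfsg.Agent.S1434.result c.hG Mstar c.hMstar _ Us hKUs c.Ks_ne_bot M c.hM hKst'
    hKstH').2.1
  rwa [← c.hKst] at h34

/-- `K ≤ M*_F` (S1364 for `M*`). -/
theorem K_le_fittingHall (c : Ctx M K U Mstar H r R) : K ≤ Cfsg.fittingHallOf Mstar := by
  obtain ⟨Us, hKUs⟩ := c.exists_Us
  have h := (Cfsg.Agent.S1364.result c.hG Mstar c.hMstar _ Us hKUs c.Ks_ne_bot).2.2.1
  rwa [← c.hKst] at h

/-- primes of `κ(M*)` lie in `σ(M)`. -/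
theorem kappa_Ms_sub (c : Ctx M K U Mstar H r R) {t : ℕ} (ht : t ∈ Cfsg.kappa Mstar) :
    t ∈ Cfsg.sigma M := by
  have htp : t.Prime := ht.1
  have h1 : ¬ t ∣ (Cfsg.sigmaCore M ⊓ Subgroup.centralizer (K : Set G)).relIndex Mstar :=
    c.hKstH.2.2 t htp ht
  have h2 := Cfsg.Agent.Lib.Helper4.card_mul_relIndex c.hKstH.1
  have h3 : t ∣ Nat.card ↥(Cfsg.sigmaCore M ⊓ Subgroup.centralizer (K : Set G)) := by
    have : t ∣ Nat.card Mstar := ht.2.1
    rw [← h2] at this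
    exact ((Nat.Prime.dvd_mul htp).mp this).resolve_right h1
  exact primes_card_sigmaCore M t htp (h3.trans (Subgroup.card_dvd_of_le inf_le_left))

/-- a prime of `U` is neither in `σ(M*)` nor in `κ(M*)`. -/
theorem primeU_Ms (c : Ctx M K U Mstar H r R) {t : ℕ} (ht : t.Prime) (htU : t ∣ Nat.card U) :
    t ∉ Cfsg.sigma Mstar ∧ t ∉ Cfsg.kappa Mstar := by
  constructor
  · intro hσ
    apply c.K_hall.2.2 t ht hσ
    obtain ⟨a, ha⟩ : Nat.card K ∣ Nat.card ↥(K ⊔ Cfsg.sigmaCore M) :=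
      Subgroup.card_dvd_of_le le_sup_left
    have h1 := Cfsg.Agent.Lib.Helper8.BGPS.card_complIn c.hKU.compl
    have h3 := Cfsg.Agent.Lib.Helper4.card_mul_relIndex c.hKM
    have h4 : Nat.card K * K.relIndex M = Nat.card K * (Nat.card U * a) := by
      rw [h3, ← h1, ha]; ring
    have h5 : K.relIndex M = Nat.card U * a := Nat.eq_of_mul_eq_mul_left Nat.card_pos h4
    rw [h5]
    exact Dvd.dvd.mul_right htU a
  · intro hκ
    exact (c.primeU ht htU).2 (c.kappa_Ms_sub hκ)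

/-! ### the `τ₂(H)` lemma -/

theorem solvHσ (c : Ctx M K U Mstar H r R) : Group.IsSolvable ↥(Cfsg.sigmaCore H) := by
  haveI : Group.IsSolvable ↥H := c.hG.2.2.2 H c.hH.1
  exact Group.isSolvable_of_isSolvable_injective (Subgroup.inclusion_injective (sigmaCore_le H))

/-- a subgroup of a complement `E` of `H_σ` has order prime to `|H_σ|`. -/
theorem coprime_of_le_compl (c : Ctx M K U Mstar H r R) {E : Subgroup G}
    (hE : Cfsg.IsComplIn E (Cfsg.sigmaCore H) H) {Y : Subgroup G} (hYE : Y ≤ E) :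
    Nat.Coprime (Nat.card (Cfsg.sigmaCore H)) (Nat.card Y) := by
  apply Nat.coprime_of_dvd
  intro q hq h1 h2
  exact Cfsg.Agent.Lib.Helper19.BGTypeF.not_mem_sigma_of_dvd_card_compl c.hG c.hH hE hq
    (h2.trans (Subgroup.card_dvd_of_le hYE)) (primes_card_sigmaCore H q hq h1)

/-- if `K` normalizes `B ≤ E` and acts on it without fixed points, then `B` centralizes `H_σ`. -/
theorem Hσ_le_centralizer_of_fpf (c : Ctx M K U Mstar H r R) {E : Subgroup G}
    (hE : Cfsg.IsComplIn E (Cfsg.sigmaCore H) H) (hKE : K ≤ E) {B : Subgroup G} (hBE : B ≤ E)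
    (hBn : ∀ e ∈ K, ∀ u ∈ B, e * u * e⁻¹ ∈ B)
    (hfpf : ∀ e ∈ K, e ≠ 1 → ∀ u ∈ B, e * u = u * e → u = 1) :
    Cfsg.sigmaCore H ≤ Subgroup.centralizer (B : Set G) := by
  have hBK : B ⊔ K ≤ E := sup_le hBE hKE
  apply le_centralizer_of_frob B K (Cfsg.sigmaCore H) c.hK1 hBn hfpf _ c.solvHσ
    (c.coprime_of_le_compl hE hBK) c.CHK
  intro x hx h hh
  exact (Subgroup.mem_normalizer_iff.mp (c.H_le_normalizer (hE.1 (hBK hx))) h).mp hh

/-- **the `τ₂(H)` lemma**: every `t ∈ τ₂(H)` lies in `σ(M*) ∪ κ(M*)`. -/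
theorem tau2_cases (c : Ctx M K U Mstar H r R) {t : ℕ} (ht : t ∈ Cfsg.tau2 H) :
    t ∈ Cfsg.sigma Mstar ∨ t ∈ Cfsg.kappa Mstar := by
  haveI : Fact t.Prime := ⟨ht.1⟩
  obtain ⟨E, hE, hKE⟩ := c.exists_E
  obtain ⟨B, hBE, hBe, hBc⟩ := Cfsg.Agent.Lib.Helper19.BG1210.exists_elemAb_le_compl c.hG c.hH hE ht
  have hBH : B ≤ H := hBE.trans hE.1
  have hd := (Cfsg.Agent.S1417.result c.hG H c.hH t ht B ⟨hBH, hBe, hBc⟩).2.2.2.1
  have hEN := (Cfsg.Agent.S1418.result c.hG H c.hH E hE t ht B ⟨hBE, hBe, hBc⟩).1.1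
  have hBn : ∀ e ∈ K, ∀ u ∈ B, e * u * e⁻¹ ∈ B := fun e he u hu =>
    (Subgroup.mem_normalizer_iff.mp (hEN (hKE he)) u).mp hu
  have hBcomm : ∀ a ∈ B, ∀ b ∈ B, a * b = b * a := fun a ha b hb =>
    congrArg Subtype.val (hBe.1.is_comm.comm ⟨a, ha⟩ ⟨b, hb⟩)
  rcases prime_dichotomy c.cardK B with hfpf | ⟨b, hbB, hb1, hbC⟩
  · exfalso
    have h1 := c.Hσ_le_centralizer_of_fpf hE hKE hBE hBn hfpf
    apply c.Hσ_ne_bot
    rw [eq_bot_iff, ← hd]
    exact le_inf le_rfl h1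
  · by_cases htσ : t ∈ Cfsg.sigma Mstar
    · exact Or.inl htσ
    right
    have hbMs : b ∈ Mstar := c.cent_K.1 hbC
    obtain ⟨k, hkK, hk1⟩ := c.exists_gen
    have hbk : b * k = k * b := (Subgroup.mem_centralizer_iff.mp hbC k hkK).symm
    have hord : orderOf b = t := orderOf_eq_prime (hBe.2 b hbB) hb1
    have hprime : ∀ q : ℕ, q.Prime → q ∣ orderOf b → q = t := by
      intro q hq hqd
      rw [hord] at hqd
      exact (Nat.prime_dvd_prime_iff_eq hq ht.1).mp hqd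
    rcases Cfsg.Agent.S1432.result c.hG Mstar c.hMstar k (c.K_le_Msσ hkK) hk1 b
      ⟨hbMs, Subgroup.mem_centralizer_singleton_iff.mpr hbk⟩ hb1
      (fun q hq hqd => by rw [hprime q hq hqd]; exact htσ) with ⟨h1, -⟩ | ⟨h2, -, hC, -⟩
    · exact h1 t ht.1 (by rw [hord])
    · exfalso
      have htτ : t ∈ Cfsg.tau2 Mstar := h2 t ht.1 (by rw [hord])
      have hBMs : B ≤ Mstar := by
        intro x hx
        apply hC
        exact Subgroup.mem_centralizer_singleton_iff.mpr (hBcomm x hx b hbB)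
      have h3 := (Cfsg.Agent.S1417.result c.hG Mstar c.hMstar t htτ B ⟨hBMs, hBe, hBc⟩).2.2.2.2.1
        H c.hH c.H_ne_Ms hBH
      apply c.hK1
      rw [eq_bot_iff, ← h3]
      exact le_inf c.K_le_Msσ c.K_le_H

/-- no prime of `U` lies in `τ₂(H)`. -/
theorem not_tau2_of_dvd_U (c : Ctx M K U Mstar H r R) {t : ℕ} (ht : t.Prime)
    (htU : t ∣ Nat.card U) : t ∉ Cfsg.tau2 H := by
  intro hτ
  obtain ⟨h1, h2⟩ := c.primeU_Ms ht htU
  rcases c.tau2_cases hτ with h | h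
  · exact h1 h
  · exact h2 h

end Ctx

end Cfsg.Agent.Lib.Helper27.BG156
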