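/-
helper27: S1435, part D: `r ∈ σ(H)`, `U ≤ H_σ`, `M_σ ∩ H = 1`, `M ∩ H = U K`, `N_H(U) ≰ M`,
`K ≤ F(H ∩ M*)`, `H_σ ∩ M* = 1`.
-/
import Mathlib
import Cfsg.Agent.Lib.Helper27.BG156C
import Cfsg.Agent.Lib.Helper9.BGSigPartB
import Cfsg.Agent.Lib.Helper1.BGZhat
import Cfsg.Agent.Lib.Helper1.BGEmb1
import Cfsg.Agent.Lib.Helper12.CNMinF
import Cfsg.Agent.Lib.Helper17.PrimeAct3

set_option autoImplicit false
set_option linter.unusedSectionVars false
set_option linter.unusedVariables false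
set_option linter.style.haveILetI false

namespace Cfsg.Agent.Lib.Helper27.BG156

open Cfsg Subgroup
open Cfsg.Agent.Lib.Helper8 (mem_map_conj conj_mem_map_conj map_conj_map_conj map_conj_one
  map_conj_le_iff map_conj_eq_iff card_map_conj mem_normalizer_iff_map_conj map_conj_eq_of_le
  IsSylIn)
open Cfsg.Agent.Lib.Helper2.BGCor (primes_card_sigmaCore sigmaCore_le)
open Cfsg.Agent.Lib.Helper9.BGSigPart (h17n_real h18a_real h23_real h24_real)

variable {G : Type*} [Group G] [Finite G]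

namespace Ctx

variable {M K U Mstar H : Subgroup G} {r : ℕ} [Fact r.Prime] {R : Sylow r U}

theorem ne_two_of_dvd (c : Ctx M K U Mstar H r R) {q : ℕ} (hq : q ∣ Nat.card G) : q ≠ 2 := by
  rintro rfl
  have h1 : Odd (Nat.card G) := c.hG.1
  rw [Nat.odd_iff] at h1
  omega

theorem r_ne_two (c : Ctx M K U Mstar H r R) : r ≠ 2 :=
  c.ne_two_of_dvd (c.hr.trans (Subgroup.card_subgroup_dvd_card U))

theorem p_ne_two (c : Ctx M K U Mstar H r R) : Nat.card K ≠ 2 :=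
  c.ne_two_of_dvd (Subgroup.card_subgroup_dvd_card K)

/-- `r ∈ σ(H)`. -/
theorem r_mem_sigma_H (c : Ctx M K U Mstar H r R) : r ∈ Cfsg.sigma H := by
  by_contra hrσ
  have hrτ : r ∈ Cfsg.tau2 H := by
    by_cases hcyc : IsCyclic ↥((R : Subgroup U).map U.subtype)
    · have hrk : Cfsg.PRankLE r 1 ↥M := by
        apply Cfsg.Agent.Lib.Helper17.BGU.pRankLE_of_sylow c.sylM.toSylow
        intro E hE hEc hEe
        rw [pow_one]
        have h1 : E.map M.subtype ≤ (R : Subgroup U).map U.subtype := by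
          rw [← c.sylM.toSylow_map]
          exact Subgroup.map_mono hE
        have h2 := Cfsg.Agent.Lib.Helper16.BGPrim.card_le_of_le_cyclic c.hrp hcyc h1 (by
          rintro _ ⟨e, he, rfl⟩
          have := hEe e he
          rw [← map_pow, this, map_one])
        rwa [Subgroup.card_map_of_injective M.subtype_injective] at h2
      exact ((Cfsg.Agent.Lib.Helper16.BGPrim.thm13_2_zero c.hG c.hH (c.primeU c.hrp c.hr).2 hrk
        c.Rbar_isPGroup c.Rbar_ne_bot c.hNR).2.1).resolve_left hrσ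
    · obtain ⟨A, hAR, hAe, hAc⟩ := Cfsg.Agent.Lib.Helper1.BGEmb.exists_elemAb_sq_of_not_cyclic
        c.r_ne_two c.Rbar_isPGroup hcyc
      apply Cfsg.Agent.Lib.Helper23.BGY.mem_tau2_of_not_rank_one c.hG c.hH c.hrp hrσ
      apply Cfsg.Agent.Lib.Helper17.BGU.not_pRankLE_of_elemAb (hAR.trans c.Rbar_le_H)
        (fun a ha b hb => congrArg Subtype.val (hAe.1.is_comm.comm ⟨a, ha⟩ ⟨b, hb⟩)) hAe.2
      rw [hAc, pow_one]
      have := c.hrp.one_lt
      nlinarith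
  exact c.not_tau2_of_dvd_U c.hrp c.hr hrτ

theorem Rbar_le_Hσ (c : Ctx M K U Mstar H r R) :
    (R : Subgroup U).map U.subtype ≤ Cfsg.sigmaCore H :=
  Cfsg.Agent.Lib.Helper16.BGPrim.le_sigmaCore_of_isPGroup c.hG c.hH c.r_mem_sigma_H
    c.Rbar_isPGroup c.Rbar_le_H

/-- `U ≤ H_σ`. -/
theorem U_le_Hσ (c : Ctx M K U Mstar H r R) : U ≤ Cfsg.sigmaCore H := by
  apply Cfsg.Agent.Lib.Helper27.BGConj.le_sigmaCore_of_primes c.hG c.hH c.U_le_H
  intro t ht htU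
  by_contra htσ
  obtain ⟨x, hx1⟩ := (Subgroup.ne_bot_iff_exists_ne_one).mp c.Rbar_ne_bot
  have hx1' : (x : G) ≠ 1 := fun h => hx1 (Subtype.ext h)
  have hxσ : (x : G) ∈ Cfsg.sigmaCore H := c.Rbar_le_Hσ x.2
  haveI : Fact t.Prime := ⟨ht⟩
  obtain ⟨x', hx'⟩ := exists_prime_orderOf_dvd_card' (G := ↥U) t htU
  have hord : orderOf (x' : G) = t := by rw [Subgroup.orderOf_coe]; exact hx'
  have hx'1 : (x' : G) ≠ 1 := by
    intro h
    rw [h, orderOf_one] at hord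
    exact ht.one_lt.ne hord
  have hcomm : (x' : G) * x = x * x' := c.Ucomm _ x'.2 _ (c.Rbar_le_U x.2)
  have hprime : ∀ q : ℕ, q.Prime → q ∣ orderOf (x' : G) → q = t := by
    intro q hq hqd
    rw [hord] at hqd
    exact (Nat.prime_dvd_prime_iff_eq hq ht).mp hqd
  rcases Cfsg.Agent.S1432.result c.hG H c.hH x hxσ hx1' x'
    ⟨c.U_le_H x'.2, Subgroup.mem_centralizer_singleton_iff.mpr hcomm⟩ hx'1
    (fun q hq hqd => by rw [hprime q hq hqd]; exact htσ) with ⟨h1, -⟩ | ⟨h2, -, -, -⟩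
  · have : t ∈ Cfsg.kappa H := h1 t ht (by rw [hord])
    rw [c.kappaH] at this
    exact this
  · exact c.not_tau2_of_dvd_U ht htU (h2 t ht (by rw [hord]))

/-- `M_σ ∩ H = 1`. -/
theorem Mσ_inf_H (c : Ctx M K U Mstar H r R) : Cfsg.sigmaCore M ⊓ H = ⊥ := by
  obtain ⟨hrκ, hrσ⟩ := c.primeU c.hrp c.hr
  have hrτ1 : r ∉ Cfsg.tau1 H := fun h => h.2.1 c.r_mem_sigma_H
  have h13 := Cfsg.Agent.Lib.Helper16.BGPrim.thm13_1a c.hG (h17n_real c.hG) (h18a_real c.hG)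
    (h23_real c.hG) (h24_real c.hG) c.hM c.hH c.nonconjM hrσ c.Rbar_isPGroup
    (c.Rbar_le_U.trans c.hUM) c.Rbar_le_H hrτ1
  have hrM : r ∣ Nat.card M := c.hr.trans (Subgroup.card_dvd_of_le c.hUM)
  have hP1 : ¬ (∀ q : ℕ, q.Prime → q ∣ Nat.card M → q ∉ Cfsg.sigma M → q ∈ Cfsg.kappa M) :=
    fun h => hrκ (h r c.hrp hrM hrσ)
  have hrn : r ∉ Cfsg.sigma M ∪ Cfsg.kappa M := by
    rintro (h | h)
    · exact hrσ h
    · exact hrκ h
  have h29 := (Cfsg.Agent.S1429.result c.hG M c.hM hP1 r hrM hrn c.sylM.toSylow).2.1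
  rw [c.sylM.toSylow_map] at h29
  rw [eq_bot_iff, ← h29]
  intro t ht
  refine ⟨ht.1, ?_⟩
  show t ∈ Subgroup.centralizer _
  rw [Subgroup.mem_centralizer_iff]
  intro s hs
  have hsR : s ∈ (R : Subgroup U).map U.subtype :=
    (Subgroup.closure_le _).mpr (fun x hx => hx.1) hs
  exact h13 t ht s hsR

/-- `M ∩ H = U K`. -/
theorem M_inf_H (c : Ctx M K U Mstar H r R) : M ⊓ H = U ⊔ K := by
  apply le_antisymm
  · rintro m ⟨hmM, hmH⟩
    have hcompl := Cfsg.Agent.Lib.Helper1.BGZhat.isComplIn_U_sup_K c.hallM c.hKU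
    obtain ⟨e, he, s, hs, rfl⟩ := hcompl.2.2.2 m hmM
    have heH : e ∈ H := (sup_le c.U_le_H c.K_le_H) he
    have hsH : s ∈ H := by
      have := H.mul_mem (H.inv_mem heH) hmH
      simpa using this
    have h1 : s ∈ Cfsg.sigmaCore M ⊓ H := ⟨hs, hsH⟩
    rw [c.Mσ_inf_H, Subgroup.mem_bot] at h1
    rw [h1, mul_one]
    exact he
  · exact le_inf (sup_le c.hUM c.hKM) (sup_le c.U_le_H c.K_le_H)

/-- `K ∩ H_σ = 1`. -/
theorem K_inf_Hσ (c : Ctx M K U Mstar H r R) : K ⊓ Cfsg.sigmaCore H = ⊥ := by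
  rw [Subgroup.eq_bot_iff_forall]
  rintro k ⟨hkK, hkσ⟩
  by_contra hk1
  have hord := c.orderOf_eq hkK hk1
  have h1 : Nat.card K ∣ Nat.card (Cfsg.sigmaCore H) := by
    rw [← hord]
    have := orderOf_dvd_natCard (⟨k, hkσ⟩ : ↥(Cfsg.sigmaCore H))
    rwa [Subgroup.orderOf_mk] at this
  exact c.p_notin_sigma_H (primes_card_sigmaCore H _ c.cardK h1)

/-- `U K ∩ H_σ = U`. -/
theorem UK_inf_Hσ (c : Ctx M K U Mstar H r R) : (U ⊔ K) ⊓ Cfsg.sigmaCore H = U := by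
  apply le_antisymm
  · rintro x ⟨hx1, hx2⟩
    obtain ⟨u, hu, k, hk, rfl⟩ :=
      Cfsg.Agent.Lib.Helper1.BGZhat.exists_mul_of_mem_sup' c.hKU.normal hx1
    have h1 : k ∈ K ⊓ Cfsg.sigmaCore H := by
      refine ⟨hk, ?_⟩
      have := (Cfsg.sigmaCore H).mul_mem ((Cfsg.sigmaCore H).inv_mem (c.U_le_Hσ hu)) hx2
      simpa using this
    rw [c.K_inf_Hσ, Subgroup.mem_bot] at h1
    rw [h1, mul_one]
    exact hu
  · exact le_inf le_sup_left c.U_le_Hσ

/-- `N_H(U) ≰ M`. -/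
theorem not_normalizer_le (c : Ctx M K U Mstar H r R) :
    ¬ H ⊓ Subgroup.normalizer (U : Set G) ≤ M := by
  intro hle
  by_cases hUH : U = Cfsg.sigmaCore H
  · have hHM : H ≤ M := by
      intro h hh
      exact hle ⟨hh, by rw [hUH]; exact c.H_le_normalizer hh⟩
    exact c.H_ne_M ((c.hH.le_iff_eq c.hM.1).mp hHM).symm
  · have hlt : U < Cfsg.sigmaCore H := lt_of_le_of_ne c.U_le_Hσ hUH
    haveI := c.nilH
    have hnc := Group.normalizerCondition_of_isNilpotent (G := ↥(Cfsg.sigmaCore H))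
    have hU' : U.subgroupOf (Cfsg.sigmaCore H) < ⊤ := by
      rw [lt_top_iff_ne_top]
      intro h
      rw [Subgroup.subgroupOf_eq_top] at h
      exact hUH (le_antisymm c.U_le_Hσ h)
    obtain ⟨x, hxN, hxU⟩ := SetLike.exists_of_lt (hnc _ hU')
    have hxU' : (x : G) ∉ U := fun h => hxU (Subgroup.mem_subgroupOf.mpr h)
    have hxNU : (x : G) ∈ Subgroup.normalizer (U : Set G) := by
      apply Cfsg.Agent.Lib.Helper1.mem_normalizer_of_forall_conj_mem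
      intro u hu
      have h1 := (Subgroup.mem_normalizer_iff.mp hxN ⟨u, c.U_le_Hσ hu⟩).mp
        (Subgroup.mem_subgroupOf.mpr hu)
      exact Subgroup.mem_subgroupOf.mp h1
    have hxH : (x : G) ∈ H := sigmaCore_le H x.2
    have hxM : (x : G) ∈ M := hle ⟨hxH, hxNU⟩
    have h2 : (x : G) ∈ (U ⊔ K) ⊓ Cfsg.sigmaCore H := by
      refine ⟨?_, x.2⟩
      rw [← c.M_inf_H]
      exact ⟨hxM, hxH⟩
    rw [c.UK_inf_Hσ] at h2
    exact hxU' h2

/-- `K ≤ F(H ∩ M*)`. -/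
theorem K_le_fitting (c : Ctx M K U Mstar H r R) : K ≤ Cfsg.fittingOf (H ⊓ Mstar) := by
  have h1 : K ≤ Cfsg.fittingHallOf Mstar ⊓ (H ⊓ Mstar) :=
    le_inf c.K_le_fittingHall (le_inf c.K_le_H c.K_le_Ms)
  refine h1.trans ?_
  apply Cfsg.Agent.Lib.Helper17.PrimeAct.le_fittingOf _ _ inf_le_right
  · intro x hx
    apply Cfsg.Agent.Lib.Helper17.BGExG.normalizer_inf_le
    exact ⟨Cfsg.Agent.Lib.Helper12.CNMin.le_normalizer_fittingHallOf Mstar hx.2,
      Subgroup.le_normalizer hx⟩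
  · exact Cfsg.Agent.Lib.Helper9.isNilpotent_of_le inf_le_left
      (Cfsg.Agent.Lib.Helper12.CNMin.fittingHallOf_isNilpotent Mstar)

theorem isPGroupK (c : Ctx M K U Mstar H r R) : IsPGroup (Nat.card K) K := by
  haveI : Fact (Nat.card K).Prime := ⟨c.cardK⟩
  exact IsPGroup.of_card (n := 1) (by rw [pow_one])

/-- `H_σ ∩ M* = 1`. -/
theorem Hσ_inf_Ms (c : Ctx M K U Mstar H r R) : Cfsg.sigmaCore H ⊓ Mstar = ⊥ := by
  haveI : Fact (Nat.card K).Prime := ⟨c.cardK⟩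
  have hnc : ∀ g : G, Mstar ≠ H.map (MulAut.conj g).toMonoidHom := by
    intro g hg
    apply c.nonconjMs g⁻¹
    exact (map_conj_eq_iff.mp hg.symm)
  have hτ1 : Nat.card K ∉ Cfsg.tau1 Mstar := fun h => h.2.1 c.p_mem_sigma_Ms
  have h13 := Cfsg.Agent.Lib.Helper16.BGPrim.thm13_1a c.hG (h17n_real c.hG) (h18a_real c.hG)
    (h23_real c.hG) (h24_real c.hG) c.hH c.hMstar hnc c.p_notin_sigma_H c.isPGroupK
    c.K_le_H c.K_le_Ms hτ1
  rw [eq_bot_iff, ← c.CHK]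
  intro t ht
  refine ⟨ht.1, ?_⟩
  show t ∈ Subgroup.centralizer _
  rw [Subgroup.mem_centralizer_iff]
  intro s hs
  exact h13 t ht s hs

/-- a complement of `H_σ` in `H` lying in `M*` gives clause (6). -/
theorem compl_of_le (c : Ctx M K U Mstar H r R) {E : Subgroup G}
    (hE : Cfsg.IsComplIn E (Cfsg.sigmaCore H) H) (hEMs : E ≤ Mstar) :
    Cfsg.IsComplIn (H ⊓ Mstar) (Cfsg.sigmaCore H) H := by
  refine ⟨inf_le_left, sigmaCore_le H, ?_, ?_⟩
  · rw [eq_bot_iff, ← c.Hσ_inf_Ms]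
    exact le_inf inf_le_right (inf_le_left.trans inf_le_right)
  · intro h hh
    obtain ⟨e, he, s, hs, rfl⟩ := hE.2.2.2 h hh
    exact ⟨e, ⟨hE.1 he, hEMs he⟩, s, hs, rfl⟩

end Ctx

end Cfsg.Agent.Lib.Helper27.BG156
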