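/-
helper27: S1435, part E: the two "central element" lemmas.  Let `a` have prime order `t ∉ σ(H)`
with `N_G(⟨a⟩) ≤ H`.
* If `t ∈ σ(M*)` then `H ∩ M*` is a complement of `H_σ` in `H` (B & G 12.14(f,g) for a conjugate
  of `M*`, then conjugate `K` back).
* If `t ∈ σ(M)` we reach a contradiction: `a` is conjugate into `M_σ`, the centre of `O_t(M)`
  contains an elementary abelian subgroup `V` of order at least `t ^ p ≥ t ^ 3` (S1446) lying in
  a conjugate of `H`, so `t ∈ α(H) ⊆ σ(H)`.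
-/
import Mathlib
import Cfsg.Agent.Lib.Helper27.BG156D
import Cfsg.Agent.Lib.Helper23.BG1215A
import Cfsg.Agent.Lib.Helper17.BGExF1
import Cfsg.Agent.Lib.Helper17.BGFitA
import Cfsg.Agent.S1353
import Cfsg.Agent.S1425
import Cfsg.Agent.S1446

set_option autoImplicit false
set_option linter.unusedSectionVars false
set_option linter.unusedVariables false
set_option linter.style.haveILetI false

namespace Cfsg.Agent.Lib.Helper27.BG156

open Cfsg Subgroup
open Cfsg.Agent.Lib.Helper8 (mem_map_conj conj_mem_map_conj map_conj_map_conj map_conj_one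
  map_conj_le_iff map_conj_eq_iff card_map_conj mem_normalizer_iff_map_conj map_conj_eq_of_le
  IsSylIn)
open Cfsg.Agent.Lib.Helper2.BGCor (primes_card_sigmaCore sigmaCore_le)
open Cfsg.Agent.Lib.Helper23.BG1215 (h16 h17 h17n h18e h24)

variable {G : Type*} [Group G] [Finite G]

/-- the cyclic group generated by an element of prime order `t` is a nontrivial `t`-group. -/
theorem zpowers_facts {a : G} {t : ℕ} (ht : t.Prime) (ha : orderOf a = t) :
    a ≠ 1 ∧ zpowers a ≠ ⊥ ∧ Nat.card (zpowers a) = t ∧ IsPGroup t (zpowers a) := by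
  have ha1 : a ≠ 1 := by
    intro h
    rw [h, orderOf_one] at ha
    exact ht.one_lt.ne ha
  have hcard : Nat.card (zpowers a) = t := by rw [Nat.card_zpowers, ha]
  haveI : Fact t.Prime := ⟨ht⟩
  refine ⟨ha1, ?_, hcard, IsPGroup.of_card (n := 1) (by rw [hcard, pow_one])⟩
  intro h
  rw [Subgroup.zpowers_eq_bot] at h
  exact ha1 h

namespace Ctx

variable {M K U Mstar H : Subgroup G} {r : ℕ} [Fact r.Prime] {R : Sylow r U}

/-- **Lemma C(i)**. -/
theorem compl_of_sigma_Ms (c : Ctx M K U Mstar H r R) {a : G} {t : ℕ} (ht : t.Prime)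
    (ha : orderOf a = t) (htH : t ∉ Cfsg.sigma H)
    (hN : Subgroup.normalizer ((zpowers a : Subgroup G) : Set G) ≤ H)
    (htM : t ∈ Cfsg.sigma Mstar) : Cfsg.IsComplIn (H ⊓ Mstar) (Cfsg.sigmaCore H) H := by
  haveI : Fact t.Prime := ⟨ht⟩
  obtain ⟨ha1, hY1, hYc, hYt⟩ := zpowers_facts ht ha
  have hYprimes : ∀ q : ℕ, q.Prime → q ∣ Nat.card (zpowers a) → q ∈ Cfsg.sigma Mstar := by
    intro q hq hqd
    rw [hYc] at hqd
    rw [(Nat.prime_dvd_prime_iff_eq hq ht).mp hqd]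
    exact htM
  obtain ⟨g, hg⟩ := Cfsg.Agent.S1425.result c.hG Mstar c.hMstar (zpowers a) hY1 hYprimes
  have hYL : zpowers a ≤ Mstar.map (MulAut.conj g⁻¹).toMonoidHom :=
    map_conj_le_iff.mp (hg.trans (sigmaCore_le Mstar))
  have hL : IsCoatom (Mstar.map (MulAut.conj g⁻¹).toMonoidHom) :=
    Cfsg.Agent.Lib.Helper17.BGU.isCoatom_map_conj g⁻¹ c.hMstar
  have htL : t ∈ Cfsg.sigma (Mstar.map (MulAut.conj g⁻¹).toMonoidHom) :=
    Cfsg.Agent.Lib.Helper16.BGPrim.sigma_map_conj htM g⁻¹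
  obtain ⟨-, -, -, hcompl⟩ := Cfsg.Agent.Lib.Helper2.BGCor.thm12_14fg c.hG (h16 c.hG) (h17 c.hG)
    (h17n c.hG) (h18e c.hG) (h24 c.hG) hL c.hH (c.nonconjMs g⁻¹) htL htH hYt hY1 hYL hN
  -- conjugate `K` into the complement `L ∩ H`
  obtain ⟨h, hhH, hKh⟩ := Cfsg.Agent.Lib.Helper2.BGCor.exists_conj_le_compl c.hG c.hH c.hallH
    hcompl c.K_le_H (by
      intro q hq hqd
      rw [(Nat.prime_dvd_prime_iff_eq hq c.cardK).mp hqd]
      exact c.p_notin_sigma_H)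
  have hcompl' := Cfsg.Agent.Lib.Helper23.BGY.isComplIn_conj c.H_le_normalizer hcompl
    (H.inv_mem hhH)
  have hK' : K ≤ (Mstar.map (MulAut.conj g⁻¹).toMonoidHom ⊓ H).map
      (MulAut.conj h⁻¹).toMonoidHom := map_conj_le_iff.mp hKh
  have hle : (Mstar.map (MulAut.conj g⁻¹).toMonoidHom ⊓ H).map (MulAut.conj h⁻¹).toMonoidHom ≤
      Mstar.map (MulAut.conj (h⁻¹ * g⁻¹)).toMonoidHom := by
    rw [← map_conj_map_conj]
    exact Subgroup.map_mono inf_le_left
  have heq := c.conj_eq_of_K_le (h⁻¹ * g⁻¹) (hK'.trans hle)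
  exact c.compl_of_le hcompl' (hle.trans heq.le)

/-- **Lemma C(ii)**. -/
theorem false_of_sigma_M (c : Ctx M K U Mstar H r R) {a : G} {t : ℕ} (ht : t.Prime)
    (ha : orderOf a = t) (htH : t ∉ Cfsg.sigma H)
    (hC : Subgroup.centralizer ({a} : Set G) ≤ H) (htM : t ∈ Cfsg.sigma M) : False := by
  haveI : Fact t.Prime := ⟨ht⟩
  haveI : Fact (Nat.card K).Prime := ⟨c.cardK⟩
  obtain ⟨ha1, hY1, hYc, hYt⟩ := zpowers_facts ht ha
  have hYprimes : ∀ q : ℕ, q.Prime → q ∣ Nat.card (zpowers a) → q ∈ Cfsg.sigma M := by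
    intro q hq hqd
    rw [hYc] at hqd
    rw [(Nat.prime_dvd_prime_iff_eq hq ht).mp hqd]
    exact htM
  obtain ⟨g, hg⟩ := Cfsg.Agent.S1425.result c.hG M c.hM (zpowers a) hY1 hYprimes
  obtain ⟨y, hydef⟩ : ∃ y : G, y = g * a * g⁻¹ := ⟨_, rfl⟩
  have hyσ : y ∈ Cfsg.sigmaCore M := by
    rw [hydef]
    exact hg (conj_mem_map_conj (Subgroup.mem_zpowers a))
  have hy1 : y ≠ 1 := by
    rw [hydef]
    intro h
    apply ha1
    have : a = g⁻¹ * (g * a * g⁻¹) * g := by group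
    rw [this, h]; group
  have hyt : y ^ t = 1 := by
    rw [hydef, conj_pow, ← ha, pow_orderOf_eq_one]; group
  -- `C_G(y) ≤ H^g`
  have hCy : Subgroup.centralizer ({y} : Set G) ≤ H.map (MulAut.conj g).toMonoidHom := by
    intro x hx
    rw [mem_map_conj]
    apply hC
    rw [Subgroup.mem_centralizer_singleton_iff] at hx ⊢
    rw [hydef] at hx
    calc g⁻¹ * x * g * a = g⁻¹ * (x * (g * a * g⁻¹)) * g := by group
      _ = g⁻¹ * ((g * a * g⁻¹) * x) * g := by rw [hx]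
      _ = a * (g⁻¹ * x * g) := by group
  -- `P = O_t(M)` contains `y`
  have hσF : Cfsg.sigmaCore M ≤ Cfsg.fittingOf M :=
    Cfsg.Agent.Lib.Helper17.PrimeAct.le_fittingOf _ _ (sigmaCore_le M)
      (Cfsg.Agent.Lib.Helper2.BGCor.le_normalizer_sigmaCore M) c.centU.2
  have hyP : y ∈ Cfsg.pCoreOf t M :=
    Cfsg.Agent.Lib.Helper17.BGU.mem_pCoreOf_of_mem_fittingOf (hσF hyσ) (k := 1)
      (by rw [pow_one]; exact hyt)
  have hPt : IsPGroup t (Cfsg.pCoreOf t M) := Cfsg.Agent.Lib.Helper17.PrimeAct.pCoreOf_isPGroup t M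
  have hP1 : Cfsg.pCoreOf t M ≠ ⊥ := by
    intro h
    rw [h, Subgroup.mem_bot] at hyP
    exact hy1 hyP
  have hPM : Cfsg.pCoreOf t M ≤ M := Cfsg.Agent.Lib.Helper17.PrimeAct.pCoreOf_le t M
  have hPσ : Cfsg.pCoreOf t M ≤ Cfsg.sigmaCore M :=
    Cfsg.Agent.Lib.Helper16.BGPrim.le_sigmaCore_of_isPGroup c.hG c.hM htM hPt hPM
  -- `Z = Z(P)`
  obtain ⟨Z, hZdef⟩ : ∃ Z : Subgroup G, Z = Cfsg.Agent.Lib.Helper27.PuigOdd.zOf
    (Cfsg.pCoreOf t M) := ⟨_, rfl⟩
  have hZ1 : Z ≠ ⊥ := hZdef ▸ Cfsg.Agent.Lib.Helper17.BGU.zOf_ne_bot hPt hP1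
  have hZP : Z ≤ Cfsg.pCoreOf t M := hZdef ▸ inf_le_left
  have hZC : Z ≤ Subgroup.centralizer ((Cfsg.pCoreOf t M : Subgroup G) : Set G) :=
    hZdef ▸ inf_le_right
  have hZcomm : ∀ a ∈ Z, ∀ b ∈ Z, a * b = b * a := fun a ha b hb =>
    (Subgroup.mem_centralizer_iff.mp (hZC hb) a (hZP ha))
  have hMZ : M ≤ Subgroup.normalizer (Z : Set G) := by
    rw [hZdef]
    exact (Cfsg.Agent.Lib.Helper17.BGU.le_normalizer_pCoreOf t M).trans
      (Cfsg.Agent.Lib.Helper27.PuigOdd.normalizer_le_normalizer_zOf _)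
  -- `V = Ω₁(Z)`
  obtain ⟨V, hVdef⟩ : ∃ V : Subgroup G, V = Cfsg.Agent.Lib.Helper17.BGExF.omegaOne Z t hZcomm :=
    ⟨_, rfl⟩
  have hVZ : V ≤ Z := hVdef ▸ Cfsg.Agent.Lib.Helper17.BGExF.omegaOne_le Z t hZcomm
  have hVe : Cfsg.IsElementaryAbelian t V :=
    hVdef ▸ Cfsg.Agent.Lib.Helper17.BGExF.omegaOne_elemAb Z t hZcomm
  have hMV : M ≤ Subgroup.normalizer (V : Set G) := by
    rw [hVdef]
    exact hMZ.trans (Cfsg.Agent.Lib.Helper17.BGExF.normalizer_le_normalizer_omegaOne Z t hZcomm)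
  have hVσ : V ≤ Cfsg.sigmaCore M := hVZ.trans (hZP.trans hPσ)
  have hV1 : V ≠ ⊥ := by
    have hZt : IsPGroup t Z := hPt.to_le hZP
    obtain ⟨n, hn⟩ := IsPGroup.iff_card.mp hZt
    have hn0 : n ≠ 0 := by
      rintro rfl
      rw [pow_zero] at hn
      exact hZ1 (Subgroup.card_eq_one.mp hn)
    have htZ : t ∣ Nat.card Z := hn ▸ dvd_pow_self t hn0
    obtain ⟨z, hz⟩ := exists_prime_orderOf_dvd_card' (G := ↥Z) t htZ
    have hz1 : (z : G) ≠ 1 := by
      intro h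
      have : z = 1 := Subtype.ext h
      rw [this, orderOf_one] at hz
      exact ht.one_lt.ne hz
    have hzV : (z : G) ∈ V := by
      rw [hVdef, Cfsg.Agent.Lib.Helper17.BGExF.mem_omegaOne]
      refine ⟨z.2, ?_⟩
      have : z ^ t = 1 := by rw [← hz]; exact pow_orderOf_eq_one z
      have := congrArg Subtype.val this
      simpa using this
    intro h
    rw [h, Subgroup.mem_bot] at hzV
    exact hz1 hzV
  have hVy : V ≤ Subgroup.centralizer ({y} : Set G) := by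
    intro v hv
    rw [Subgroup.mem_centralizer_singleton_iff]
    exact (Subgroup.mem_centralizer_iff.mp (hZC (hVZ hv)) y hyP).symm
  have hVH : V ≤ H.map (MulAut.conj g).toMonoidHom := hVy.trans hCy
  -- S1446 for `U ⋊ K` acting on `V`
  have hHall := c.hallM
  have hUK : U ⊓ K = ⊥ := by
    apply le_antisymm _ bot_le
    rw [← c.hKU.compl.2.2.1]
    exact inf_le_inf_left _ le_sup_left
  haveI : Group.IsSolvable ↥M := c.hG.2.2.2 M c.hM.1
  have hle : U ⊔ K ≤ M := sup_le c.hUM c.hKM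
  have hsolv : Group.IsSolvable ↥(U ⊔ K) :=
    Group.isSolvable_of_isSolvable_injective (Subgroup.inclusion_injective hle)
  have hodd : Odd (Nat.card ↥(U ⊔ K)) :=
    Odd.of_dvd_nat c.hG.1 (Subgroup.card_subgroup_dvd_card _)
  have hcard : Nat.card ↥(U ⊔ K) = Nat.card K * Nat.card U := by
    rw [sup_comm]
    apply Cfsg.Agent.Lib.Helper21.BG147.card_sup_of_inf_eq_bot K U c.hKU.normal
    rw [inf_comm]; exact hUK
  have hcop : (Nat.card ↥(U ⊔ K)).Coprime (Nat.card V) := by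
    rw [hcard]
    apply Nat.Coprime.mul_left
    · exact Cfsg.Agent.Lib.Helper21.BG147.coprime_kappa_sigma c.hKU.hall.2.1 hVσ
    · apply Nat.coprime_of_dvd
      intro q hq hqU hqV
      exact (c.primeU hq hqU).2
        (primes_card_sigmaCore M q hq (hqV.trans (Subgroup.card_dvd_of_le hVσ)))
  have hCU : V ⊓ Subgroup.centralizer (U : Set G) = ⊥ := by
    rw [eq_bot_iff, ← c.centU.1]
    exact inf_le_inf_right _ hVσ
  have hpr : ∀ x ∈ K, x ≠ 1 → V ⊓ Subgroup.centralizer ({x} : Set G) =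
      V ⊓ Subgroup.centralizer (K : Set G) := by
    intro x hx hx1
    apply le_antisymm
    · rintro v ⟨hv, hvx⟩
      exact ⟨hv, mem_centralizer_of_prime_card c.cardK hx hx1
        (Subgroup.mem_centralizer_singleton_iff.mp hvx).symm⟩
    · rintro v ⟨hv, hvK⟩
      exact ⟨hv, Subgroup.mem_centralizer_singleton_iff.mpr
        (Subgroup.mem_centralizer_iff.mp hvK x hx).symm⟩
  have hVn : Group.IsNilpotent ↥V :=
    ⟨⟨1, Subgroup.upperCentralSeries_one_eq_top_iff.mpr hVe.1⟩⟩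
  obtain ⟨-, hcardV, -⟩ := Cfsg.Agent.S1446.result (X := G) U K V c.hU1 c.hK1 hUK c.hKU.normal
    (Cfsg.Agent.S1353.result c.hG M c.hM K U c.hKU) hsolv hodd hV1 hVn (c.hUM.trans hMV)
    (c.hKM.trans hMV) hcop hCU hpr
  -- `|V| ≥ t ^ 3`
  have hVt : IsPGroup t V := by
    intro v
    exact ⟨1, by rw [pow_one]; exact Subtype.ext (by simpa using hVe.2 v v.2)⟩
  have hWt : IsPGroup t ↥(V ⊓ Subgroup.centralizer (K : Set G)) := hVt.to_le inf_le_left
  obtain ⟨n, hn⟩ := IsPGroup.iff_card.mp hWt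
  have hn0 : n ≠ 0 := by
    rintro rfl
    rw [pow_zero] at hn
    rw [hn, one_pow] at hcardV
    exact hV1 (Subgroup.card_eq_one.mp hcardV)
  have hp3 : 3 ≤ Nat.card K := by
    have h2 := c.cardK.two_le
    have := c.p_ne_two
    omega
  have hbig : t ^ 2 < Nat.card V := by
    rw [hcardV, hn, ← pow_mul]
    apply Nat.pow_lt_pow_right ht.one_lt
    have : 1 ≤ n := Nat.one_le_iff_ne_zero.mpr hn0
    nlinarith
  have hrk : ¬ Cfsg.PRankLE t 2 ↥(H.map (MulAut.conj g).toMonoidHom) :=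
    Cfsg.Agent.Lib.Helper17.BGU.not_pRankLE_of_elemAb hVH
      (fun a ha b hb => congrArg Subtype.val (hVe.1.is_comm.comm ⟨a, ha⟩ ⟨b, hb⟩)) hVe.2 hbig
  have hα : t ∈ Cfsg.sigma (H.map (MulAut.conj g).toMonoidHom) :=
    Cfsg.Agent.Lib.Helper1.BGX.alpha_subset_sigma c.hG (Cfsg.Agent.Lib.Helper19.BG123.UT_of c.hG)
      (Cfsg.Agent.Lib.Helper17.BGU.isCoatom_map_conj g c.hH) ⟨ht, hrk⟩
  exact htH ((Cfsg.Agent.Lib.Helper27.BGPCount.sigma_map_conj_iff g).mp hα)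

end Ctx

end Cfsg.Agent.Lib.Helper27.BG156
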