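/-
helper27: S1435, part F: `H ∩ M*` is a complement of `H_σ` in `H`.

Let `E ⊇ K` be a complement of `H_σ` in `H`.  If `p = |K| ∈ τ₂(H)` then `K` lies in the normal
elementary abelian subgroup `A` of order `p²` of `E`, `A ≤ C_G(K) ≤ M*` and `E ≤ N_G(A) ≤ M*`.
Otherwise `H` has `p`-rank one; we show that `K` centralizes the abelian group `E'`, hence `K` is
normal in `E` and `E ≤ N_G(K) ≤ M*`.
-/
import Mathlib
import Cfsg.Agent.Lib.Helper27.BG156E
import Cfsg.Agent.Lib.Helper17.RankOne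
import Cfsg.Agent.Lib.Helper1.Commutator
import Cfsg.Agent.S1420

set_option autoImplicit false
set_option linter.unusedSectionVars false
set_option linter.unusedVariables false
set_option linter.style.haveILetI false

namespace Cfsg.Agent.Lib.Helper27.BG156

open Cfsg Subgroup
open Cfsg.Agent.Lib.Helper8 (mem_map_conj conj_mem_map_conj map_conj_map_conj map_conj_one
  map_conj_le_iff map_conj_eq_iff card_map_conj mem_normalizer_iff_map_conj map_conj_eq_of_le
  IsSylIn)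
open Cfsg.Agent.Lib.Helper2.BGCor (primes_card_sigmaCore sigmaCore_le)
open scoped commutatorElement

variable {G : Type*} [Group G] [Finite G]

/-- in a group of `p`-rank one, an element `d` with `d ^ p = 1` commuting with a subgroup `K` of
order `p` lies in `K`. -/
theorem mem_of_rank_one {Hh K : Subgroup G} {p : ℕ} (hp : p.Prime) (hK : Nat.card K = p)
    (hKH : K ≤ Hh) (hrk : Cfsg.PRankLE p 1 ↥Hh) {d : G} (hdH : d ∈ Hh) (hdp : d ^ p = 1)
    (hdK : ∀ k ∈ K, k * d = d * k) : d ∈ K := by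
  haveI : Fact p.Prime := ⟨hp⟩
  have hKc : ∀ a ∈ K, ∀ b ∈ K, a * b = b * a := by
    intro a ha b hb
    haveI : IsCyclic ↥K := isCyclic_of_prime_card hK
    letI := IsCyclic.commGroup (α := ↥K)
    exact congrArg Subtype.val (mul_comm (⟨a, ha⟩ : ↥K) ⟨b, hb⟩)
  have hKp : ∀ a ∈ K, a ^ p = 1 := by
    intro a ha
    have := pow_card_eq_one' (G := ↥K) (x := ⟨a, ha⟩)
    rw [hK] at this
    simpa using congrArg Subtype.val this
  have hZn : zpowers d ≤ Subgroup.normalizer (K : Set G) := by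
    intro z hz
    obtain ⟨i, rfl⟩ := Subgroup.mem_zpowers_iff.mp hz
    rw [Subgroup.mem_normalizer_iff]
    intro k
    have key : ∀ k ∈ K, d ^ i * k * (d ^ i)⁻¹ = k := by
      intro k hk
      have : Commute (d ^ i) k := (Commute.zpow_left (show Commute d k from (hdK k hk).symm) i)
      rw [this.eq]; group
    constructor
    · intro hk; rw [key k hk]; exact hk
    · intro hk
      have := key _ hk
      have e : k = (d ^ i)⁻¹ * (d ^ i * k * (d ^ i)⁻¹) * d ^ i := by group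
      rw [e]
      have h2 : (d ^ i)⁻¹ * (d ^ i * k * (d ^ i)⁻¹) * d ^ i =
          (d ^ (-i)) * (d ^ i * k * (d ^ i)⁻¹) * (d ^ (-i))⁻¹ := by
        rw [zpow_neg]; group
      rw [h2]
      have key' : ∀ k ∈ K, d ^ (-i) * k * (d ^ (-i))⁻¹ = k := by
        intro k hk
        have : Commute (d ^ (-i)) k :=
          (Commute.zpow_left (show Commute d k from (hdK k hk).symm) (-i))
        rw [this.eq]; group
      rw [key' _ hk]; exact hk
  -- elements of `A = K ⊔ ⟨d⟩`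
  have hmem : ∀ x ∈ K ⊔ zpowers d, ∃ k ∈ K, ∃ i : ℤ, x = d ^ i * k := by
    intro x hx
    rw [sup_comm] at hx
    obtain ⟨z, hz, k, hk, rfl⟩ := Cfsg.Agent.Lib.Helper1.BGZhat.exists_mul_of_mem_sup hZn hx
    obtain ⟨i, rfl⟩ := Subgroup.mem_zpowers_iff.mp hz
    exact ⟨k, hk, i, rfl⟩
  have hcomm_dk : ∀ (i : ℤ), ∀ k ∈ K, d ^ i * k = k * d ^ i := fun i k hk =>
    (Commute.zpow_left (show Commute d k from (hdK k hk).symm) i).eq
  have hAc : ∀ a ∈ K ⊔ zpowers d, ∀ b ∈ K ⊔ zpowers d, a * b = b * a := by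
    intro a ha b hb
    obtain ⟨k, hk, i, rfl⟩ := hmem a ha
    obtain ⟨l, hl, j, rfl⟩ := hmem b hb
    calc d ^ i * k * (d ^ j * l) = d ^ i * (k * d ^ j) * l := by group
      _ = d ^ i * (d ^ j * k) * l := by rw [hcomm_dk j k hk]
      _ = (d ^ i * d ^ j) * (k * l) := by group
      _ = (d ^ j * d ^ i) * (l * k) := by
          rw [hKc k hk l hl, (Commute.zpow_zpow_self d i j).eq]
      _ = d ^ j * (d ^ i * l) * k := by group
      _ = d ^ j * (l * d ^ i) * k := by rw [hcomm_dk i l hl]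
      _ = d ^ j * l * (d ^ i * k) := by group
  have hAe : ∀ a ∈ K ⊔ zpowers d, a ^ p = 1 := by
    intro a ha
    obtain ⟨k, hk, i, rfl⟩ := hmem a ha
    have hc : Commute (d ^ i) k := hcomm_dk i k hk
    rw [hc.mul_pow, hKp k hk, mul_one, ← zpow_natCast, ← zpow_mul, mul_comm, zpow_mul,
      zpow_natCast, hdp, one_zpow]
  have hAH : K ⊔ zpowers d ≤ Hh := sup_le hKH ((Subgroup.zpowers_le).mpr hdH)
  have hcard : Nat.card ↥(K ⊔ zpowers d) ≤ p := by
    by_contra hlt
    push Not at hlt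
    exact Cfsg.Agent.Lib.Helper17.BGU.not_pRankLE_of_elemAb hAH hAc hAe
      (by rw [pow_one]; exact hlt) hrk
  have heq : K = K ⊔ zpowers d :=
    Subgroup.eq_of_le_of_card_ge le_sup_left (by rw [hK]; exact hcard)
  rw [heq]
  exact Subgroup.mem_sup_right (Subgroup.mem_zpowers d)

/-- elements of a `p`-subgroup of a group of `p`-rank one (`p` odd) commute. -/
theorem comm_of_rank_one {Hh Q : Subgroup G} {p : ℕ} [Fact p.Prime] (hp2 : p ≠ 2)
    (hrk : Cfsg.PRankLE p 1 ↥Hh) (hQH : Q ≤ Hh) (hQ : IsPGroup p Q) :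
    ∀ a ∈ Q, ∀ b ∈ Q, a * b = b * a := by
  intro a ha b hb
  have hcyc := Cfsg.Agent.Lib.Helper17.isCyclic_of_pRankLE_one hp2 hrk (Q.subgroupOf Hh)
    (hQ.comap_subtype)
  letI := IsCyclic.commGroup (α := ↥(Q.subgroupOf Hh))
  have h1 := mul_comm (⟨⟨a, hQH ha⟩, Subgroup.mem_subgroupOf.mpr ha⟩ : ↥(Q.subgroupOf Hh))
    ⟨⟨b, hQH hb⟩, Subgroup.mem_subgroupOf.mpr hb⟩
  have h2 := congrArg (fun x : ↥(Q.subgroupOf Hh) => ((x : ↥Hh) : G)) h1
  simpa using h2

namespace Ctx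

variable {M K U Mstar H : Subgroup G} {r : ℕ} [Fact r.Prime] {R : Sylow r U}

/-- the case `p ∈ τ₂(H)`. -/
theorem compl_of_tau2 (c : Ctx M K U Mstar H r R) {E : Subgroup G}
    (hE : Cfsg.IsComplIn E (Cfsg.sigmaCore H) H) (hKE : K ≤ E)
    (hτ : Nat.card K ∈ Cfsg.tau2 H) : Cfsg.IsComplIn (H ⊓ Mstar) (Cfsg.sigmaCore H) H := by
  haveI : Fact (Nat.card K).Prime := ⟨c.cardK⟩
  obtain ⟨A, hAE, hAe, hAc⟩ :=
    Cfsg.Agent.Lib.Helper19.BG1210.exists_elemAb_le_compl c.hG c.hH hE hτ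
  obtain ⟨⟨hEN, hsub⟩, -, -⟩ :=
    Cfsg.Agent.S1418.result c.hG H c.hH E hE _ hτ A ⟨hAE, hAe, hAc⟩
  have hKA : K ≤ A := hsub K hKE rfl
  have hAcomm : ∀ a ∈ A, ∀ b ∈ A, a * b = b * a := fun a ha b hb =>
    congrArg Subtype.val (hAe.1.is_comm.comm ⟨a, ha⟩ ⟨b, hb⟩)
  have hAMs : A ≤ Mstar := by
    intro a ha
    apply c.cent_K.1
    rw [Subgroup.mem_centralizer_iff]
    intro k hk
    exact hAcomm k (hKA hk) a ha
  obtain ⟨Es, hEs⟩ := Cfsg.Agent.Lib.Helper2.BGCor.exists_compl_sigmaCore c.hallMs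
  have hAp : IsPGroup (Nat.card K) A := IsPGroup.of_card hAc
  have h20 := (Cfsg.Agent.S1420.result c.hG Mstar c.hMstar Es hEs).2.2.1 _ A c.p_mem_sigma_Ms hAp
    hAMs (Cfsg.Agent.Lib.Helper2.BGCor.not_isCyclic_of_elemAb_sq c.cardK hAe hAc)
  exact c.compl_of_le hE (hEN.trans h20)

/-- if `K` centralizes `E'` and `H` has `p`-rank one then `K` is normal in `E`. -/
theorem K_normal_of_centralizes (c : Ctx M K U Mstar H r R) {E : Subgroup G}
    (hE : Cfsg.IsComplIn E (Cfsg.sigmaCore H) H) (hKE : K ≤ E)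
    (hrk : Cfsg.PRankLE (Nat.card K) 1 ↥H)
    (hcent : ∀ k ∈ K, ∀ d ∈ ⁅E, E⁆, k * d = d * k) :
    E ≤ Subgroup.normalizer (K : Set G) := by
  intro e he
  apply Cfsg.Agent.Lib.Helper1.mem_normalizer_of_forall_conj_mem
  intro k hk
  obtain ⟨d, hddef⟩ : ∃ d : G, d = e * k * e⁻¹ * k⁻¹ := ⟨_, rfl⟩
  have hdD : d ∈ ⁅E, E⁆ := by
    rw [hddef, ← commutatorElement_def]
    exact Subgroup.commutator_mem_commutator he (hKE hk)
  have hDE : ⁅E, E⁆ ≤ E :=
    Cfsg.Agent.Lib.Helper1.commutator_le_of_le_normalizer Subgroup.le_normalizer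
  have hdk : k * d = d * k := hcent k hk d hdD
  have hk' : e * k * e⁻¹ = d * k := by rw [hddef]; group
  have hkp : k ^ Nat.card K = 1 := by
    have h := congrArg Subtype.val (pow_card_eq_one' (G := ↥K) (x := ⟨k, hk⟩))
    rw [Subgroup.coe_pow, Subgroup.coe_one] at h
    exact h
  have hdp : d ^ Nat.card K = 1 := by
    have h1 : (d * k) ^ Nat.card K = 1 := by
      rw [← hk', conj_pow, hkp]; group
    have hc : Commute d k := hdk.symm
    rw [hc.mul_pow, hkp, mul_one] at h1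
    exact h1
  have hdK : d ∈ K := mem_of_rank_one c.cardK rfl c.K_le_H hrk (hE.1 (hDE hdD)) hdp
    (fun k' hk' => hcent k' hk' d hdD)
  rw [hk']
  exact K.mul_mem hdK hk

/-- **the main step**: in the `p`-rank one case, if clause (6) fails then `K` centralizes `E'`. -/
theorem K_centralizes_D (c : Ctx M K U Mstar H r R) {E : Subgroup G}
    (hE : Cfsg.IsComplIn E (Cfsg.sigmaCore H) H) (hKE : K ≤ E)
    (hrk : Cfsg.PRankLE (Nat.card K) 1 ↥H)
    (h6 : ¬ Cfsg.IsComplIn (H ⊓ Mstar) (Cfsg.sigmaCore H) H) :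
    ∀ k ∈ K, ∀ d ∈ ⁅E, E⁆, k * d = d * k := by
  classical
  haveI : Fact (Nat.card K).Prime := ⟨c.cardK⟩
  have hp := c.cardK
  have hDc : ∀ a ∈ ⁅E, E⁆, ∀ b ∈ ⁅E, E⁆, a * b = b * a := by
    intro a ha b hb
    have := (Cfsg.Agent.S1420.result c.hG H c.hH E hE).2.1
    exact congrArg Subtype.val (this.is_comm.comm ⟨a, ha⟩ ⟨b, hb⟩)
  have hDE : ⁅E, E⁆ ≤ E :=
    Cfsg.Agent.Lib.Helper1.commutator_le_of_le_normalizer Subgroup.le_normalizer
  have hEND : E ≤ Subgroup.normalizer ((⁅E, E⁆ : Subgroup G) : Set G) :=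
    Cfsg.Agent.Lib.Helper1.le_normalizer_commutator_left E E
  -- the coprime decomposition of `|E'|`
  obtain ⟨N, hNdef⟩ : ∃ N : ℕ, N = Nat.card ↥⁅E, E⁆ := ⟨_, rfl⟩
  have hN0 : N ≠ 0 := hNdef ▸ Nat.card_pos.ne'
  obtain ⟨n, hndef⟩ : ∃ n : ℕ, n = Nat.card K ^ N.factorization (Nat.card K) := ⟨_, rfl⟩
  obtain ⟨m, hmdef⟩ : ∃ m : ℕ, m = N / Nat.card K ^ N.factorization (Nat.card K) := ⟨_, rfl⟩
  have hnm : n * m = N := by
    rw [hndef, hmdef]
    exact Nat.ordProj_mul_ordCompl_eq_self N (Nat.card K)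
  have hpm : (Nat.card K).Coprime m := by
    rw [hmdef]
    exact Nat.coprime_ordCompl hp hN0
  have hcop : n.Coprime m := by
    rw [hndef]
    exact Nat.Coprime.pow_left _ hpm
  have hpowN : ∀ d ∈ ⁅E, E⁆, d ^ N = 1 := by
    intro d hd
    have := pow_card_eq_one' (G := ↥⁅E, E⁆) (x := ⟨d, hd⟩)
    rw [← hNdef] at this
    simpa using congrArg Subtype.val this
  -- the `p`-part
  have hpart1 : ∀ k ∈ K, ∀ d ∈ ⁅E, E⁆, d ^ n = 1 → k * d = d * k := by
    intro k hk d hd hdn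
    obtain ⟨P0, hP0def⟩ : ∃ P0 : Subgroup G,
      P0 = Cfsg.Agent.Lib.Helper17.BGExF.omegaOne ⁅E, E⁆ n hDc := ⟨_, rfl⟩
    have hP0D : P0 ≤ ⁅E, E⁆ := hP0def ▸ Cfsg.Agent.Lib.Helper17.BGExF.omegaOne_le _ n hDc
    have hdP0 : d ∈ P0 := by
      rw [hP0def, Cfsg.Agent.Lib.Helper17.BGExF.mem_omegaOne]; exact ⟨hd, hdn⟩
    have hP0p : IsPGroup (Nat.card K) P0 := by
      intro x
      refine ⟨N.factorization (Nat.card K), ?_⟩
      have hx : (x : G) ∈ Cfsg.Agent.Lib.Helper17.BGExF.omegaOne ⁅E, E⁆ n hDc := hP0def ▸ x.2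
      rw [Cfsg.Agent.Lib.Helper17.BGExF.mem_omegaOne] at hx
      apply Subtype.ext
      rw [← hndef]
      simpa using hx.2
    have hKP0 : K ≤ Subgroup.normalizer (P0 : Set G) := by
      rw [hP0def]
      exact (hKE.trans hEND).trans
        (Cfsg.Agent.Lib.Helper17.BGExF.normalizer_le_normalizer_omegaOne _ n hDc)
    have hQ : IsPGroup (Nat.card K) ↥(K ⊔ P0) :=
      IsPGroup.to_sup_of_normal_right' c.isPGroupK hP0p hKP0
    have hQH : K ⊔ P0 ≤ H := sup_le c.K_le_H ((hP0D.trans hDE).trans hE.1)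
    exact comm_of_rank_one c.p_ne_two hrk hQH hQ k (Subgroup.mem_sup_left hk) d
      (Subgroup.mem_sup_right hdP0)
  -- the `p'`-part
  have hpart2 : ∀ k ∈ K, ∀ d ∈ ⁅E, E⁆, d ^ m = 1 → k * d = d * k := by
    obtain ⟨k0, hk0K, hk01⟩ := c.exists_gen
    obtain ⟨B, hBdef⟩ : ∃ B : Subgroup G,
      B = Cfsg.Agent.Lib.Helper17.BGExF.omegaOne ⁅E, E⁆ m hDc := ⟨_, rfl⟩
    have hBD : B ≤ ⁅E, E⁆ := hBdef ▸ Cfsg.Agent.Lib.Helper17.BGExF.omegaOne_le _ m hDc
    have hBc : ∀ a ∈ B, ∀ b ∈ B, a * b = b * a := fun a ha b hb => hDc a (hBD ha) b (hBD hb)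
    have hKB : K ≤ Subgroup.normalizer (B : Set G) := by
      rw [hBdef]
      exact (hKE.trans hEND).trans
        (Cfsg.Agent.Lib.Helper17.BGExF.normalizer_le_normalizer_omegaOne _ m hDc)
    have hk0B : ∀ b ∈ B, k0 * b * k0⁻¹ ∈ B := fun b hb =>
      (Subgroup.mem_normalizer_iff.mp (hKB hk0K) b).mp hb
    have hk0B' : ∀ b ∈ B, k0⁻¹ * b * k0 ∈ B := fun b hb => by
      have := (Subgroup.mem_normalizer_iff.mp (hKB (K.inv_mem hk0K)) b).mp hb
      simpa using this
    have key : ∀ b ∈ B, k0 * b = b * k0 := by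
      rw [← commImage_eq_bot_iff B k0 hBc hk0B]
      by_contra hT1
      -- `T₁ = [B, k0] ≠ 1`
      have hk0p : k0 ^ Nat.card K = 1 := by
        have h := congrArg Subtype.val (pow_card_eq_one' (G := ↥K) (x := ⟨k0, hk0K⟩))
        rw [Subgroup.coe_pow, Subgroup.coe_one] at h
        exact h
      have htor : ∀ b ∈ B, b ^ Nat.card K = 1 → b = 1 := by
        intro b hb hbp
        have hbm : b ^ m = 1 := by
          have hb' : b ∈ Cfsg.Agent.Lib.Helper17.BGExF.omegaOne ⁅E, E⁆ m hDc := hBdef ▸ hb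
          exact (Cfsg.Agent.Lib.Helper17.BGExF.mem_omegaOne.mp hb').2
        have h1 : orderOf b ∣ Nat.gcd (Nat.card K) m :=
          Nat.dvd_gcd (orderOf_dvd_of_pow_eq_one hbp) (orderOf_dvd_of_pow_eq_one hbm)
        rw [hpm] at h1
        exact orderOf_eq_one_iff.mp (Nat.dvd_one.mp h1)
      have hT1B := commImage_le B k0 hBc hk0B
      have hT1E : commImage B k0 hBc hk0B ≤ E := hT1B.trans (hBD.trans hDE)
      have hBn : ∀ e ∈ K, ∀ u ∈ commImage B k0 hBc hk0B,
          e * u * e⁻¹ ∈ commImage B k0 hBc hk0B := by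
        intro e he u hu
        obtain ⟨j, rfl⟩ := exists_zpow_eq_of_prime_card c.cardK hk0K hk01 he
        exact zpow_conj_mem_commImage B k0 hBc hk0B hk0B' j hu
      have hfpf : ∀ e ∈ K, e ≠ 1 → ∀ u ∈ commImage B k0 hBc hk0B, e * u = u * e → u = 1 := by
        intro e he he1 u hu heu
        obtain ⟨j, hj⟩ := exists_zpow_eq_of_prime_card c.cardK he he1 hk0K
        apply commImage_fpf B k0 hBc hk0B hk0p htor hu
        rw [← hj]
        exact (Commute.zpow_left (show Commute e u from heu) j).eq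
      have hcent := c.Hσ_le_centralizer_of_fpf hE hKE hT1E hBn hfpf
      -- an element `a₁` of prime order `t` in `T₁`
      have hcard1 : Nat.card ↥(commImage B k0 hBc hk0B) ≠ 1 := fun h =>
        hT1 (Subgroup.card_eq_one.mp h)
      obtain ⟨t, ht, htd⟩ := Nat.exists_prime_and_dvd hcard1
      haveI : Fact t.Prime := ⟨ht⟩
      obtain ⟨a1, ha1⟩ := exists_prime_orderOf_dvd_card'
        (G := ↥(commImage B k0 hBc hk0B)) t htd
      have hord : orderOf (a1 : G) = t := by rw [Subgroup.orderOf_coe]; exact ha1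
      have ha11 : (a1 : G) ≠ 1 := by
        intro h
        rw [h, orderOf_one] at hord
        exact ht.one_lt.ne hord
      have htH : t ∉ Cfsg.sigma H :=
        Cfsg.Agent.Lib.Helper19.BGTypeF.not_mem_sigma_of_dvd_card_compl c.hG c.hH hE ht
          (htd.trans (Subgroup.card_dvd_of_le hT1E))
      obtain ⟨x, hx1⟩ := (Subgroup.ne_bot_iff_exists_ne_one).mp c.Hσ_ne_bot
      have hx1' : (x : G) ≠ 1 := fun h => hx1 (Subtype.ext h)
      have hcomm : (a1 : G) * x = x * a1 :=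
        (Subgroup.mem_centralizer_iff.mp (hcent x.2) a1 a1.2)
      have hprime : ∀ q : ℕ, q.Prime → q ∣ orderOf (a1 : G) → q = t := by
        intro q hq hqd
        rw [hord] at hqd
        exact (Nat.prime_dvd_prime_iff_eq hq ht).mp hqd
      rcases Cfsg.Agent.S1432.result c.hG H c.hH x x.2 hx1' a1
        ⟨hE.1 (hT1E a1.2), Subgroup.mem_centralizer_singleton_iff.mpr hcomm⟩ ha11
        (fun q hq hqd => by rw [hprime q hq hqd]; exact htH) with ⟨h1, -⟩ | ⟨h2, -, hCa, huniq⟩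
      · have : t ∈ Cfsg.kappa H := h1 t ht (by rw [hord])
        rw [c.kappaH] at this
        exact this
      · have htτ : t ∈ Cfsg.tau2 H := h2 t ht (by rw [hord])
        -- `N_G(⟨a₁⟩) ≤ H`
        have hN : Subgroup.normalizer ((zpowers (a1 : G) : Subgroup G) : Set G) ≤ H := by
          haveI := c.hG.2.1
          obtain ⟨-, hY1, -, -⟩ := zpowers_facts ht hord
          have hYtop : zpowers (a1 : G) ≠ ⊤ := fun h =>
            c.hH.1 (top_le_iff.mp (h ▸ (Subgroup.zpowers_le).mpr (hE.1 (hT1E a1.2))))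
          obtain ⟨L, hL, hNL⟩ := Cfsg.Agent.Lib.Helper17.BGU.exists_coatom_ge
            (Cfsg.Agent.Lib.Helper17.BGU.normalizer_ne_top hY1 hYtop)
          have hCL : Subgroup.centralizer ({(a1 : G)} : Set G) ≤ L := by
            intro y hy
            apply hNL
            apply Subgroup.centralizer_le_normalizer
            rw [Subgroup.mem_centralizer_iff]
            intro z hz
            obtain ⟨i, rfl⟩ := Subgroup.mem_zpowers_iff.mp hz
            have := Subgroup.mem_centralizer_singleton_iff.mp hy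
            exact (Commute.zpow_left (show Commute (a1 : G) y from this.symm) i).eq
          exact (huniq L hL hCL) ▸ hNL
        rcases c.tau2_cases htτ with h | h
        · exact h6 (c.compl_of_sigma_Ms ht hord htH hN h)
        · exact c.false_of_sigma_M ht hord htH hCa (c.kappa_Ms_sub h)
    intro k hk d hd hdm
    have hdB : d ∈ B := by
      rw [hBdef, Cfsg.Agent.Lib.Helper17.BGExF.mem_omegaOne]; exact ⟨hd, hdm⟩
    obtain ⟨j, rfl⟩ := exists_zpow_eq_of_prime_card c.cardK hk0K hk01 hk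
    exact (Commute.zpow_left (show Commute k0 d from key d hdB) j).eq
  -- combine
  intro k hk d hd
  have h1 : k * d ^ n = d ^ n * k := by
    apply hpart2 k hk (d ^ n) (Subgroup.pow_mem _ hd n)
    rw [← pow_mul, hnm]; exact hpowN d hd
  have h2 : k * d ^ m = d ^ m * k := by
    apply hpart1 k hk (d ^ m) (Subgroup.pow_mem _ hd m)
    rw [← pow_mul, mul_comm, hnm]; exact hpowN d hd
  have hb : ∃ a b : ℤ, a * (n : ℤ) + b * (m : ℤ) = 1 := by
    have := (Nat.isCoprime_iff_coprime.mpr hcop)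
    exact this
  obtain ⟨a, b, hab⟩ := hb
  have hd' : d = (d ^ n) ^ a * (d ^ m) ^ b := by
    rw [← zpow_natCast d n, ← zpow_natCast d m, ← zpow_mul, ← zpow_mul, ← zpow_add,
      mul_comm (n : ℤ) a, mul_comm (m : ℤ) b, hab, zpow_one]
  have hc1 : Commute k ((d ^ n) ^ a) := Commute.zpow_right (show Commute k (d ^ n) from h1) a
  have hc2 : Commute k ((d ^ m) ^ b) := Commute.zpow_right (show Commute k (d ^ m) from h2) b
  rw [hd']
  exact (hc1.mul_right hc2).eq

/-- **clause (6)**: `H ∩ M*` is a complement of `H_σ` in `H`. -/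
theorem compl (c : Ctx M K U Mstar H r R) :
    Cfsg.IsComplIn (H ⊓ Mstar) (Cfsg.sigmaCore H) H := by
  by_contra h6
  obtain ⟨E, hE, hKE⟩ := c.exists_E
  by_cases hτ : Nat.card K ∈ Cfsg.tau2 H
  · exact h6 (c.compl_of_tau2 hE hKE hτ)
  · have hrk : Cfsg.PRankLE (Nat.card K) 1 ↥H := by
      by_contra hrk
      exact hτ (Cfsg.Agent.Lib.Helper23.BGY.mem_tau2_of_not_rank_one c.hG c.hH c.cardK
        c.p_notin_sigma_H hrk)
    have hcent := c.K_centralizes_D hE hKE hrk h6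
    have hEN := c.K_normal_of_centralizes hE hKE hrk hcent
    exact h6 (c.compl_of_le hE (hEN.trans c.normalizer_K_le))

end Ctx

end Cfsg.Agent.Lib.Helper27.BG156
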