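import Mathlib
import Cfsg.Prelude.Def_GeometricClasses
import Cfsg.Agent.Lib.Helper25.SpTDefs
import Cfsg.Agent.Lib.Helper27.SpTGDefs

/-!
S5704 Stage III (G), the B-block: basic closure properties of `RR` (exact signatures of
`notes/S5704_G_leaves.lean`).
-/

set_option autoImplicit false
set_option linter.unusedSectionVars false
set_option linter.unusedVariables false

namespace Cfsg.Agent.Lib.Helper27.SpTGLeaf
open Matrix QuadraticMap
open Cfsg.Agent.Lib.Helper25.Tens Cfsg.Agent.Lib.Helper25.SpT Cfsg.Agent.Lib.Helper19.OSub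
  Cfsg.Agent.Lib.Helper27.SpTG
open scoped commutatorElement

variable {F : Type*} [Field F] {a b : ℕ} {Q : QuadraticForm F (Idx a b → F)}
  {M : Subgroup (GL (Idx a b) F)}

/-- a root element with zero second vector is trivial -/
theorem rt_zero_right' {ι : Type} [Fintype ι] [DecidableEq ι] {Q : QuadraticForm F (ι → F)}
    (u : ι → F) (c : F) : rt Q u 0 c = 1 := by
  by_cases h : Q u = 0 ∧ Q (0 : ι → F) = 0 ∧ polar Q u 0 = 0
  · apply gl_ext
    intro x
    rw [mv_rt h.1 h.2.1 h.2.2, mv_one]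
    simp
  · exact rt_of_not h c

/-- a root element with zero first vector is trivial -/
theorem rt_zero_left' {ι : Type} [Fintype ι] [DecidableEq ι] {Q : QuadraticForm F (ι → F)}
    (v : ι → F) (c : F) : rt Q 0 v c = 1 := by
  by_cases h : Q (0 : ι → F) = 0 ∧ Q v = 0 ∧ polar Q 0 v = 0
  · apply gl_ext
    intro x
    rw [mv_rt h.1 h.2.1 h.2.2, mv_one]
    simp
  · exact rt_of_not h c

/-- B0: a zero vector gives the trivial root element. -/
theorem RR_of_eq_zero (h : Ctx a b Q) {x x' : Fin a → F} {y y' : Fin b → F}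
    (h0 : x = 0 ∨ y = 0 ∨ x' = 0 ∨ y' = 0) : RR Q M x y x' y' := by
  intro c
  rcases h0 with rfl | rfl | rfl | rfl
  · rw [pt_zero_left, rt_zero_left']; exact one_mem _
  · rw [pt_zero_right, rt_zero_left']; exact one_mem _
  · rw [pt_zero_left, rt_zero_right']; exact one_mem _
  · rw [pt_zero_right, rt_zero_right']; exact one_mem _

/-- B0': non-orthogonal pure tensors give the trivial root element. -/
theorem RR_of_ne (h : Ctx a b Q) {x x' : Fin a → F} {y y' : Fin b → F}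
    (hne : sf x x' * sf y y' ≠ 0) : RR Q M x y x' y' := by
  intro c
  rw [rt_of_not]
  · exact one_mem _
  · rintro ⟨-, -, h3⟩
    rw [h.pol] at h3
    exact hne h3

/-- B1: symmetry (`rt_swap`). -/
theorem RR_swap (h : Ctx a b Q) {x x' : Fin a → F} {y y' : Fin b → F}
    (hr : RR Q M x y x' y') : RR Q M x' y' x y := by
  intro c
  by_cases h0 : sf x' x * sf y' y = 0
  · have hp : polar Q (pt x' y') (pt x y) = 0 := by rw [h.pol]; exact h0
    rw [rt_swap (h.pure _ _) (h.pure _ _) hp]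
    exact hr _
  · exact RR_of_ne h h0 c

/-- B2: scaling of the four arguments. -/
theorem RR_smul (h : Ctx a b Q) {x x' : Fin a → F} {y y' : Fin b → F}
    (hr : RR Q M x y x' y') (l₁ l₂ l₃ l₄ : F) : RR Q M (l₁ • x) (l₂ • y) (l₃ • x') (l₄ • y') := by
  intro c
  by_cases h0 : sf x x' * sf y y' = 0
  · have hp : polar Q (pt x y) (pt x' y') = 0 := by rw [h.pol]; exact h0
    have e1 : pt (l₁ • x) (l₂ • y) = (l₁ * l₂) • pt x y := by
      rw [pt_smul_left, pt_smul_right, smul_smul]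
    have e2 : pt (l₃ • x') (l₄ • y') = (l₃ * l₄) • pt x' y' := by
      rw [pt_smul_left, pt_smul_right, smul_smul]
    have hQ2 : Q ((l₃ * l₄) • pt x' y') = 0 := by rw [← e2]; exact h.pure _ _
    have hp2 : polar Q (pt x y) ((l₃ * l₄) • pt x' y') = 0 := by
      rw [polar_smul_right, hp, smul_zero]
    rw [e1, e2, rt_smul_left (h.pure _ _) hQ2 hp2, rt_smul_right (h.pure _ _) (h.pure _ _) hp]
    exact hr _
  · by_cases hl : l₁ = 0 ∨ l₂ = 0 ∨ l₃ = 0 ∨ l₄ = 0
    · apply RR_of_eq_zero h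
      rcases hl with rfl | rfl | rfl | rfl
      · exact Or.inl (zero_smul _ _)
      · exact Or.inr (Or.inl (zero_smul _ _))
      · exact Or.inr (Or.inr (Or.inl (zero_smul _ _)))
      · exact Or.inr (Or.inr (Or.inr (zero_smul _ _)))
    · push Not at hl
      apply RR_of_ne h
      rw [sf_smul_left, sf_smul_right, sf_smul_left, sf_smul_right]
      have : l₁ * (l₃ * sf x x') * (l₂ * (l₄ * sf y y')) = (l₁ * l₂ * l₃ * l₄) * (sf x x' * sf y y') := by
        ring
      rw [this]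
      exact mul_ne_zero (mul_ne_zero (mul_ne_zero (mul_ne_zero hl.1 hl.2.1) hl.2.2.1) hl.2.2.2) h0

/-- B3: additivity in `x'`. -/
theorem RR_add_A (h : Ctx a b Q) {x x' x'' : Fin a → F} {y y' : Fin b → F}
    (h1 : sf x x' * sf y y' = 0) (h2 : sf x x'' * sf y y' = 0)
    (hr : RR Q M x y x' y') (hr' : RR Q M x y x'' y') : RR Q M x y (x' + x'') y' := by
  intro c
  have hp1 : polar Q (pt x y) (pt x' y') = 0 := by rw [h.pol]; exact h1
  have hp2 : polar Q (pt x y) (pt x'' y') = 0 := by rw [h.pol]; exact h2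
  have hp3 : polar Q (pt x' y') (pt x'' y') = 0 := by rw [h.pol, sf_self, mul_zero]
  rw [pt_add_left, rt_add_right (h.pure _ _) (h.pure _ _) (h.pure _ _) hp1 hp2 hp3]
  exact mul_mem (hr c) (hr' c)

/-- B3': additivity in `y'`. -/
theorem RR_add_B (h : Ctx a b Q) {x x' : Fin a → F} {y y' y'' : Fin b → F}
    (h1 : sf x x' * sf y y' = 0) (h2 : sf x x' * sf y y'' = 0)
    (hr : RR Q M x y x' y') (hr' : RR Q M x y x' y'') : RR Q M x y x' (y' + y'') := by
  intro c
  have hp1 : polar Q (pt x y) (pt x' y') = 0 := by rw [h.pol]; exact h1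
  have hp2 : polar Q (pt x y) (pt x' y'') = 0 := by rw [h.pol]; exact h2
  have hp3 : polar Q (pt x' y') (pt x' y'') = 0 := by rw [h.pol, sf_self, zero_mul]
  rw [pt_add_right, rt_add_right (h.pure _ _) (h.pure _ _) (h.pure _ _) hp1 hp2 hp3]
  exact mul_mem (hr c) (hr' c)

section Fin
variable [Fintype F]

theorem kA_mem_iso' (h : GCtx a b Q M) (z : Fin a → F) (μ : F) :
    (kA z μ : GL (Idx a b) F) ∈ Cfsg.isometryGroup F ⇑Q :=
  omegaGL_le_iso (h.le_om (h.hA z μ))

theorem kB_mem_iso' (h : GCtx a b Q M) (w : Fin b → F) (ν : F) :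
    (kB w ν : GL (Idx a b) F) ∈ Cfsg.isometryGroup F ⇑Q :=
  omegaGL_le_iso (h.le_om (h.hB w ν))

/-- B4: conjugation by `kA z μ = τ_{z,μ} ⊗ 1`. -/
theorem RR_kA (h : GCtx a b Q M) (z : Fin a → F) (μ : F) {x x' : Fin a → F}
    {y y' : Fin b → F} (hr : RR Q M x y x' y') : RR Q M (tva z μ x) y (tva z μ x') y' := by
  intro c
  have e := conj_rt (kA_mem_iso' h z μ) (pt x y) (pt x' y') c
  rw [mv_kA_pt, mv_kA_pt] at e
  unfold tva
  rw [← e]
  exact mul_mem (mul_mem (h.hA z μ) (hr c)) (inv_mem (h.hA z μ))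

/-- B4': conjugation by `kB w ν = 1 ⊗ τ_{w,ν}`. -/
theorem RR_kB (h : GCtx a b Q M) (w : Fin b → F) (ν : F) {x x' : Fin a → F}
    {y y' : Fin b → F} (hr : RR Q M x y x' y') : RR Q M x (tva w ν y) x' (tva w ν y') := by
  intro c
  have e := conj_rt (kB_mem_iso' h w ν) (pt x y) (pt x' y') c
  rw [mv_kB_pt, mv_kB_pt] at e
  unfold tva
  rw [← e]
  exact mul_mem (mul_mem (h.hB w ν) (hr c)) (inv_mem (h.hB w ν))

/-- B6: one conjugation step with a single parameter. -/
theorem rt_mem_kB_step (h : GCtx a b Q M) {x x' : Fin a → F} {y y' w : Fin b → F} {c₀ : F}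
    (huv : sf x x' * sf y y' = 0) (hw : sf y w = 0)
    (hr : rt Q (pt x y) (pt x' y') c₀ ∈ M) (ν : F) :
    rt Q (pt x y) (pt x' w) (ν * sf y' w * c₀) ∈ M := by
  have hC := h.toCtx
  have e := conj_rt (kB_mem_iso' h w ν) (pt x y) (pt x' y') c₀
  rw [mv_kB_pt, mv_kB_pt, hw, mul_zero, zero_smul, add_zero, pt_add_right, pt_smul_right] at e
  have hp1 : polar Q (pt x y) (pt x' y') = 0 := by rw [hC.pol]; exact huv
  have hQ2 : Q ((ν * sf y' w) • pt x' w) = 0 := by
    rw [← pt_smul_right]; exact hC.pure _ _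
  have hp0 : polar Q (pt x y) (pt x' w) = 0 := by rw [hC.pol, hw, mul_zero]
  have hp2 : polar Q (pt x y) ((ν * sf y' w) • pt x' w) = 0 := by
    rw [polar_smul_right, hp0, smul_zero]
  have hp3 : polar Q (pt x' y') ((ν * sf y' w) • pt x' w) = 0 := by
    rw [polar_smul_right, hC.pol, sf_self, zero_mul, smul_zero]
  rw [rt_add_right (hC.pure _ _) (hC.pure _ _) hQ2 hp1 hp2 hp3,
    rt_smul_right (hC.pure _ _) (hC.pure _ _) hp0] at e
  have hmem : kB w ν * rt Q (pt x y) (pt x' y') c₀ * (kB w ν : GL (Idx a b) F)⁻¹ ∈ M :=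
    mul_mem (mul_mem (h.hB w ν) hr) (inv_mem (h.hB w ν))
  rw [e] at hmem
  have := mul_mem (inv_mem hr) hmem
  rwa [inv_mul_cancel_left] at this

/-- B6': the mirror step with `kA z μ`, `z ⊥ x`. -/
theorem rt_mem_kA_step (h : GCtx a b Q M) {x x' z : Fin a → F} {y y' : Fin b → F} {c₀ : F}
    (huv : sf x x' * sf y y' = 0) (hz : sf x z = 0)
    (hr : rt Q (pt x y) (pt x' y') c₀ ∈ M) (μ : F) :
    rt Q (pt x y) (pt z y') (μ * sf x' z * c₀) ∈ M := by
  have hC := h.toCtx
  have e := conj_rt (kA_mem_iso' h z μ) (pt x y) (pt x' y') c₀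
  rw [mv_kA_pt, mv_kA_pt, hz, mul_zero, zero_smul, add_zero, pt_add_left, pt_smul_left] at e
  have hp1 : polar Q (pt x y) (pt x' y') = 0 := by rw [hC.pol]; exact huv
  have hQ2 : Q ((μ * sf x' z) • pt z y') = 0 := by
    rw [← pt_smul_left]; exact hC.pure _ _
  have hp0 : polar Q (pt x y) (pt z y') = 0 := by rw [hC.pol, hz, zero_mul]
  have hp2 : polar Q (pt x y) ((μ * sf x' z) • pt z y') = 0 := by
    rw [polar_smul_right, hp0, smul_zero]
  have hp3 : polar Q (pt x' y') ((μ * sf x' z) • pt z y') = 0 := by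
    rw [polar_smul_right, hC.pol, sf_self, mul_zero, smul_zero]
  rw [rt_add_right (hC.pure _ _) (hC.pure _ _) hQ2 hp1 hp2 hp3,
    rt_smul_right (hC.pure _ _) (hC.pure _ _) hp0] at e
  have hmem : kA z μ * rt Q (pt x y) (pt x' y') c₀ * (kA z μ : GL (Idx a b) F)⁻¹ ∈ M :=
    mul_mem (mul_mem (h.hA z μ) hr) (inv_mem (h.hA z μ))
  rw [e] at hmem
  have := mul_mem (inv_mem hr) hmem
  rwa [inv_mul_cancel_left] at this

end Fin

/-- B5: the commutator relation. -/
theorem RR_comm (h : Ctx a b Q) {x x₁ x₂ x' : Fin a → F} {y y₁ y₂ y' : Fin b → F}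
    (huv : sf x x' * sf y y' = 0) (huw : sf x x₁ * sf y y₁ = 0) (hvw : sf x' x₁ * sf y' y₁ = 0)
    (huw' : sf x x₂ * sf y y₂ = 0) (hvw' : sf x' x₂ * sf y' y₂ = 0)
    (hww' : sf x₁ x₂ * sf y₁ y₂ = 1)
    (hr : RR Q M x y x₁ y₁) (hr' : RR Q M x₂ y₂ x' y') : RR Q M x y x' y' := by
  intro c
  have e := rt_comm (Q := Q) (u := pt x y) (v := pt x' y') (w := pt x₁ y₁) (w' := pt x₂ y₂)
    (h.pure _ _) (h.pure _ _) (h.pure _ _) (h.pure _ _)
    (by rw [h.pol]; exact huv) (by rw [h.pol]; exact huw) (by rw [h.pol]; exact hvw)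
    (by rw [h.pol]; exact huw') (by rw [h.pol]; exact hvw') (by rw [h.pol]; exact hww') (-c) 1
  have e2 : -(-c * 1) = c := by ring
  rw [e2] at e
  rw [← e, commutatorElement_def]
  exact mul_mem (mul_mem (mul_mem (hr _) (hr' _)) (inv_mem (hr _))) (inv_mem (hr' _))

end Cfsg.Agent.Lib.Helper27.SpTGLeaf
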