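import Mathlib
import Cfsg.Prelude.Def_GeometricClasses
import Cfsg.Agent.Lib.Helper25.SpTDefs
import Cfsg.Agent.Lib.Helper27.SpTGDefs
import Cfsg.Agent.Lib.Helper27.SpTGB

/-!
S5704 Stage III (G), leaves G1 / G1' in "core" form: the S-block leaf S2 (`exists_perp_not_perp`) enters as
the hypothesis `S2Stmt F`.
-/

set_option autoImplicit false
set_option linter.unusedSectionVars false
set_option linter.unusedVariables false

namespace Cfsg.Agent.Lib.Helper27.SpTGCore
open Matrix QuadraticMap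
open Cfsg.Agent.Lib.Helper25.Tens Cfsg.Agent.Lib.Helper25.SpT Cfsg.Agent.Lib.Helper19.OSub
  Cfsg.Agent.Lib.Helper27.SpTG Cfsg.Agent.Lib.Helper27.SpTGLeaf
open scoped commutatorElement

variable {F : Type*} [Field F] {a b : ℕ} {Q : QuadraticForm F (Idx a b → F)}
  {M : Subgroup (GL (Idx a b) F)}

/-- the statement of the S-block leaf S2 -/
def S2Stmt (F : Type*) [Field F] : Prop :=
  ∀ (n : ℕ), Even n → ∀ (y y' : Fin n → F), LinearIndependent F ![y, y'] →
    ∃ w : Fin n → F, sf y w = 0 ∧ sf y' w ≠ 0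

/-- two nonzero dependent vectors are proportional -/
theorem exists_smul_eq_of_not_indep {n : ℕ} {x x' : Fin n → F} (hx' : x' ≠ 0)
    (hdep : ¬ LinearIndependent F ![x, x']) : ∃ t : F, x = t • x' := by
  rw [LinearIndependent.pair_iff] at hdep
  push Not at hdep
  obtain ⟨s, t, hst, hne⟩ := hdep
  have hs : s ≠ 0 := by
    intro hs
    rw [hs, zero_smul, zero_add] at hst
    rcases smul_eq_zero.1 hst with ht | ht
    · exact hne hs ht
    · exact hx' ht
  refine ⟨-(t / s), ?_⟩
  have h1 : s • x = -(t • x') := eq_neg_of_add_eq_zero_left hst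
  have h2 : x = s⁻¹ • (s • x) := by rw [smul_smul, inv_mul_cancel₀ hs, one_smul]
  rw [h2, h1, smul_neg, smul_smul, neg_smul, div_eq_inv_mul, mul_comm]

section G
variable [Fintype F]

/-- G1 (core): one element of `RootB` gives type T3 completely at its centre `x⊗y`. -/
theorem t3_full_of_rootB_core (hS2 : S2Stmt F) (h : GCtx a b Q M) (hroot : RootB Q M) :
    ∃ (x : Fin a → F) (y : Fin b → F), x ≠ 0 ∧ y ≠ 0 ∧
      ∀ w : Fin b → F, sf y w = 0 → RR Q M x y x w := by
  obtain ⟨x, x', y, y', c₀, hc₀, hx, hx', hind, huv, hr⟩ := hroot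
  have hy : y ≠ 0 := by
    have := hind.ne_zero 0
    simpa using this
  refine ⟨x, y, hx, hy, ?_⟩
  -- Step 1: `w ⊥ y`, `w` not perpendicular to `y'`
  have step1 : ∀ w : Fin b → F, sf y w = 0 → sf y' w ≠ 0 → RR Q M x y x' w := by
    intro w hw hne c
    have hmem := rt_mem_kB_step h huv hw hr (c / (sf y' w * c₀))
    have hc : c / (sf y' w * c₀) * sf y' w * c₀ = c := by
      field_simp
    rwa [hc] at hmem
  -- Step 1': all `w ⊥ y`
  obtain ⟨w₁, hw₁, hne₁⟩ := hS2 b h.eb y y' hind
  have step1' : ∀ w : Fin b → F, sf y w = 0 → RR Q M x y x' w := by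
    intro w hw
    by_cases hne : sf y' w = 0
    · have hw2 : sf y (w - w₁) = 0 := by rw [sf_sub_right, hw, hw₁, sub_zero]
      have h1 : RR Q M x y x' (w - w₁) := by
        apply step1 (w - w₁) hw2
        rw [sf_sub_right, hne, zero_sub]
        exact neg_ne_zero.2 hne₁
      have h2 : RR Q M x y x' w₁ := step1 w₁ hw₁ hne₁
      have h3 := RR_add_B h.toCtx (by rw [hw2, mul_zero]) (by rw [hw₁, mul_zero]) h1 h2
      rwa [sub_add_cancel] at h3
    · exact step1 w hw hne
  -- Step 2: move `x'` to `x`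
  intro w hw
  have hr1 : rt Q (pt x y) (pt x' w) 1 ∈ M := step1' w hw 1
  have huv' : sf x x' * sf y w = 0 := by rw [hw, mul_zero]
  have step2 : ∀ z : Fin a → F, sf x z = 0 → sf x' z ≠ 0 → RR Q M x y z w := by
    intro z hz hne c
    have hmem := rt_mem_kA_step h huv' hz hr1 (c / sf x' z)
    have hc : c / sf x' z * sf x' z * 1 = c := by
      field_simp
    rwa [hc] at hmem
  by_cases hxx : sf x' x = 0
  · by_cases hdep : LinearIndependent F ![x, x']
    · obtain ⟨z₁, hz₁, hnz₁⟩ := hS2 a h.ea x x' hdep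
      have hz2 : sf x (x - z₁) = 0 := by rw [sf_sub_right, sf_self, hz₁, sub_zero]
      have h1 : RR Q M x y (x - z₁) w := by
        apply step2 (x - z₁) hz2
        rw [sf_sub_right, hxx, zero_sub]
        exact neg_ne_zero.2 hnz₁
      have h2 : RR Q M x y z₁ w := step2 z₁ hz₁ hnz₁
      have h3 := RR_add_A h.toCtx (by rw [hz2, zero_mul]) (by rw [hz₁, zero_mul]) h1 h2
      rwa [sub_add_cancel] at h3
    · obtain ⟨t, ht⟩ := exists_smul_eq_of_not_indep hx' hdep
      have h1 := RR_smul h.toCtx (step1' w hw) 1 1 t 1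
      rw [one_smul, one_smul, one_smul, ← ht] at h1
      exact h1
  · exact step2 x (sf_self x) hxx

/-- G1' (core): the mirror: one element of `RootA` gives type T1 completely at its centre. -/
theorem t1_full_of_rootA_core (hS2 : S2Stmt F) (h : GCtx a b Q M) (hroot : RootA Q M) :
    ∃ (x : Fin a → F) (y : Fin b → F), x ≠ 0 ∧ y ≠ 0 ∧
      ∀ z : Fin a → F, sf x z = 0 → RR Q M x y z y := by
  obtain ⟨x, x', y, y', c₀, hc₀, hy, hy', hind, huv, hr⟩ := hroot
  have hx : x ≠ 0 := by
    have := hind.ne_zero 0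
    simpa using this
  refine ⟨x, y, hx, hy, ?_⟩
  -- Step 1: `z ⊥ x`, `z` not perpendicular to `x'`
  have step1 : ∀ z : Fin a → F, sf x z = 0 → sf x' z ≠ 0 → RR Q M x y z y' := by
    intro z hz hne c
    have hmem := rt_mem_kA_step h huv hz hr (c / (sf x' z * c₀))
    have hc : c / (sf x' z * c₀) * sf x' z * c₀ = c := by
      field_simp
    rwa [hc] at hmem
  -- Step 1': all `z ⊥ x`
  obtain ⟨z₁, hz₁, hne₁⟩ := hS2 a h.ea x x' hind
  have step1' : ∀ z : Fin a → F, sf x z = 0 → RR Q M x y z y' := by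
    intro z hz
    by_cases hne : sf x' z = 0
    · have hz2 : sf x (z - z₁) = 0 := by rw [sf_sub_right, hz, hz₁, sub_zero]
      have h1 : RR Q M x y (z - z₁) y' := by
        apply step1 (z - z₁) hz2
        rw [sf_sub_right, hne, zero_sub]
        exact neg_ne_zero.2 hne₁
      have h2 : RR Q M x y z₁ y' := step1 z₁ hz₁ hne₁
      have h3 := RR_add_A h.toCtx (by rw [hz2, zero_mul]) (by rw [hz₁, zero_mul]) h1 h2
      rwa [sub_add_cancel] at h3
    · exact step1 z hz hne
  -- Step 2: move `y'` to `y`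
  intro z hz
  have hr1 : rt Q (pt x y) (pt z y') 1 ∈ M := step1' z hz 1
  have huv' : sf x z * sf y y' = 0 := by rw [hz, zero_mul]
  have step2 : ∀ w : Fin b → F, sf y w = 0 → sf y' w ≠ 0 → RR Q M x y z w := by
    intro w hw hne c
    have hmem := rt_mem_kB_step h huv' hw hr1 (c / sf y' w)
    have hc : c / sf y' w * sf y' w * 1 = c := by
      field_simp
    rwa [hc] at hmem
  by_cases hyy : sf y' y = 0
  · by_cases hdep : LinearIndependent F ![y, y']
    · obtain ⟨w₁, hw₁, hnw₁⟩ := hS2 b h.eb y y' hdep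
      have hw2 : sf y (y - w₁) = 0 := by rw [sf_sub_right, sf_self, hw₁, sub_zero]
      have h1 : RR Q M x y z (y - w₁) := by
        apply step2 (y - w₁) hw2
        rw [sf_sub_right, hyy, zero_sub]
        exact neg_ne_zero.2 hnw₁
      have h2 : RR Q M x y z w₁ := step2 w₁ hw₁ hnw₁
      have h3 := RR_add_B h.toCtx (by rw [hw2, mul_zero]) (by rw [hw₁, mul_zero]) h1 h2
      rwa [sub_add_cancel] at h3
    · obtain ⟨t, ht⟩ := exists_smul_eq_of_not_indep hy' hdep
      have h1 := RR_smul h.toCtx (step1' z hz) 1 1 1 t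
      rw [one_smul, one_smul, one_smul, ← ht] at h1
      exact h1
  · exact step2 y (sf_self y) hyy

end G

end Cfsg.Agent.Lib.Helper27.SpTGCore
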