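import Mathlib
import Cfsg.Prelude.Def_GeometricClasses
import Cfsg.Agent.Lib.Helper25.SpTDefs
import Cfsg.Agent.Lib.Helper27.SpTGDefs
import Cfsg.Agent.Lib.Helper27.SpTGG1core
import Cfsg.Agent.Lib.Helper23.SpTGS

/-!
S5704 Stage III (G), leaves G1 / G1' with the exact signatures of `notes/S5704_G_leaves.lean`
(core `SpTGG1core` + helper23's S-block leaf S2).
-/

set_option autoImplicit false
set_option linter.unusedSectionVars false
set_option linter.unusedVariables false

namespace Cfsg.Agent.Lib.Helper27.SpTGLeaf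
open Matrix QuadraticMap
open Cfsg.Agent.Lib.Helper25.Tens Cfsg.Agent.Lib.Helper25.SpT Cfsg.Agent.Lib.Helper19.OSub
  Cfsg.Agent.Lib.Helper27.SpTG
open scoped commutatorElement

variable {F : Type*} [Field F] {a b : ℕ} {Q : QuadraticForm F (Idx a b → F)}
  {M : Subgroup (GL (Idx a b) F)}

/-- helper23's S2 in the form used by the cores -/
theorem s2Stmt_holds : Cfsg.Agent.Lib.Helper27.SpTGCore.S2Stmt F := by
  intro n hn y y' h
  exact Cfsg.Agent.Lib.Helper23.SpTGLeaf.exists_perp_not_perp hn h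

section G
variable [Fintype F]

/-- G1: one element of `RootB` gives type T3 completely at its centre `x⊗y`. -/
theorem t3_full_of_rootB (h : GCtx a b Q M) (hroot : RootB Q M) :
    ∃ (x : Fin a → F) (y : Fin b → F), x ≠ 0 ∧ y ≠ 0 ∧
      ∀ w : Fin b → F, sf y w = 0 → RR Q M x y x w :=
  Cfsg.Agent.Lib.Helper27.SpTGCore.t3_full_of_rootB_core s2Stmt_holds h hroot

/-- G1': the mirror: one element of `RootA` gives type T1 completely at its centre. -/
theorem t1_full_of_rootA (h : GCtx a b Q M) (hroot : RootA Q M) :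
    ∃ (x : Fin a → F) (y : Fin b → F), x ≠ 0 ∧ y ≠ 0 ∧
      ∀ z : Fin a → F, sf x z = 0 → RR Q M x y z y :=
  Cfsg.Agent.Lib.Helper27.SpTGCore.t1_full_of_rootA_core s2Stmt_holds h hroot

end G

end Cfsg.Agent.Lib.Helper27.SpTGLeaf
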