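import Mathlib
import Cfsg.Prelude.Def_GeometricClasses
import Cfsg.Agent.Lib.Helper5.TSMax
import Cfsg.Agent.Lib.Helper19.OSubDefs
import Cfsg.Agent.Lib.Helper19.OSubBasic

/-!
S5704 Stage III leaf G8 (`omega_le_of_two_good`): two opposite singular vectors all of whose root elements lie
in `M` force `Ω ≤ M`.  Generic (any nondegenerate quadratic form on `ι → F`, `|ι| ≥ 7`).
-/

set_option autoImplicit false
set_option linter.unusedSectionVars false
set_option linter.unusedVariables false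

namespace Cfsg.Agent.Lib.Helper27.SpTGLeaf
open Cfsg Matrix QuadraticMap Module Cfsg.Agent.Lib.Helper25.Siegel Cfsg.Agent.Lib.Helper19.OSub

variable {F : Type*} [Field F] [Fintype F]

/-- G8: two opposite singular vectors all of whose root elements lie in `M` force `Ω ≤ M`. -/
theorem omega_le_of_two_good {ι : Type} [Fintype ι] [DecidableEq ι] {Q : QuadraticForm F (ι → F)}
    {M : Subgroup (GL ι F)} (hnd : (polarBilin Q).Nondegenerate) (hn : 7 ≤ Fintype.card ι)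
    {u u' : ι → F} (hu : Q u = 0) (hu' : Q u' = 0) (huu' : polar Q u u' ≠ 0)
    (hg : ∀ v : ι → F, Q v = 0 → polar Q u v = 0 → ∀ c : F, rt Q u v c ∈ M)
    (hg' : ∀ v : ι → F, Q v = 0 → polar Q u' v = 0 → ∀ c : F, rt Q u' v c ∈ M) :
    Cfsg.Geo.omegaGL ⇑Q ≤ M := by
  classical
  obtain ⟨M'', hM''⟩ : ∃ M'' : Subgroup ↥(Cfsg.isometryGroup F ⇑Q),
      M'' = M.comap (Cfsg.isometryGroup F ⇑Q).subtype ⊓ Cfsg.Omega F ⇑Q := ⟨_, rfl⟩
  have good : ∀ (a : ι → F) (ha0 : a ≠ 0) (hQa : Q a = 0),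
      (∀ v : ι → F, Q v = 0 → polar Q a v = 0 → ∀ c : F, rt Q a v c ∈ M) →
      Cfsg.Agent.Lib.Helper5.TSMax.Good Q M'' (Cfsg.Agent.Lib.Helper25.PS.mk' Q a ha0 hQa) := by
    intro a ha0 hQa hall
    unfold Cfsg.Agent.Lib.Helper5.TSMax.Good Cfsg.Agent.Lib.Helper25.PS.X
    rw [Subgroup.closure_le]
    rintro g ⟨w, hwP, hw0, v, c, hQv, hwv, hg⟩
    rw [Cfsg.Agent.Lib.Helper25.PS.mk'_val] at hwP
    obtain ⟨t, rfl⟩ := Submodule.mem_span_singleton.1 hwP
    have ht0 : t ≠ 0 := by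
      rintro rfl
      exact hw0 (zero_smul _ _)
    have hQw : Q (t • a) = 0 := by rw [QuadraticMap.map_smul, hQa, smul_zero]
    have hav : polar Q a v = 0 := by
      rw [polar_smul_left, smul_eq_mul] at hwv
      rcases mul_eq_zero.1 hwv with h0 | h0
      · exact absurd h0 ht0
      · exact h0
    rw [eq_siegG_of_coe Q hQw hQv hwv hg, hM'']
    refine Subgroup.mem_inf.2 ⟨?_, siegG_mem_omega Q hnd (by omega) _ v c hQw hQv hwv⟩
    rw [Subgroup.mem_comap, Subgroup.coe_subtype, ← rt_of hQw hQv hwv, rt_smul_left hQa hQv hav]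
    exact hall v hQv hav _
  have hu0 : u ≠ 0 := by
    rintro rfl
    rw [polar_zero_left] at huu'
    exact huu' rfl
  have hu'0 : u' ≠ 0 := by
    rintro rfl
    rw [polar_zero_right] at huu'
    exact huu' rfl
  have hP := good u hu0 hu hg
  have hR := good u' hu'0 hu' hg'
  have hPR : ¬ Cfsg.Agent.Lib.Helper25.PS.ort Q
      (Cfsg.Agent.Lib.Helper25.PS.mk' Q u hu0 hu)
      (Cfsg.Agent.Lib.Helper25.PS.mk' Q u' hu'0 hu') := by
    rw [Cfsg.Agent.Lib.Helper25.PS.ort_mk']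
    exact huu'
  have hallg := Cfsg.Agent.Lib.Helper5.TSMax.all_good_of_opposite Q hnd (by omega) M'' hP hR hPR
  have hle : M'' ≤ Cfsg.Omega F ⇑Q := by rw [hM'']; exact inf_le_right
  have heq := Cfsg.Agent.Lib.Helper5.TSMax.eq_omega_of_all_good Q hnd hn M'' hle hallg
  rintro x ⟨g, hg, rfl⟩
  have hg' : g ∈ M'' := by rw [heq]; exact hg
  rw [hM''] at hg'
  exact (Subgroup.mem_inf.1 hg').1

end Cfsg.Agent.Lib.Helper27.SpTGLeaf
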