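import Mathlib
import Cfsg.Prelude.Def_GeometricClasses
import Cfsg.Agent.Lib.Helper5.TSMax
import Cfsg.Agent.Lib.Helper20.OSubDEC
import Cfsg.Agent.Lib.Helper25.SpTDefs
import Cfsg.Agent.Lib.Helper27.SpTGDefs
import Cfsg.Agent.Lib.Helper27.SpTGB
import Cfsg.Agent.Lib.Helper27.SpTGG8
import Cfsg.Agent.Lib.Helper27.SpTGG1
import Cfsg.Agent.Lib.Helper23.SpTGS
import Cfsg.Agent.Lib.Helper9.SpTGG3
import Cfsg.Agent.Lib.Helper28.SpTGG2Core
import Cfsg.Agent.Lib.Helper28.SpTGG7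

/-!
S5704 Stage III (G), the assembly: `omega_le_of_root` (the interface for helper25): in helper25's model
`Ctx a b Q`, a subgroup `M ≤ Ω` containing all `kA x c`, `kB y c` and one nontrivial pure root element
(`RootB`, or `RootA` with `4 ≤ a`) contains `Ω`.

Leaves: S-block (helper23 `SpTGS`), B-block, G1, G8 (helper27), G2/G2' cores, G7 (helper28),
G3–G6 cores (helper9).
-/

set_option autoImplicit false
set_option linter.unusedSectionVars false
set_option linter.unusedVariables false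

namespace Cfsg.Agent.Lib.Helper27.SpTGLeaf
open Matrix QuadraticMap
open Cfsg.Agent.Lib.Helper25.Tens Cfsg.Agent.Lib.Helper25.SpT Cfsg.Agent.Lib.Helper19.OSub
  Cfsg.Agent.Lib.Helper27.SpTG
open scoped commutatorElement

variable {F : Type*} [Field F] {a b : ℕ} {Q : QuadraticForm F (Idx a b → F)}
  {M : Subgroup (GL (Idx a b) F)}

/-- `b ≥ 6` in the model -/
theorem six_le_b (h : Ctx a b Q) : 6 ≤ b := by
  have h1 := h.ha
  have h2 := h.hab
  have h3 := h.hn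
  obtain ⟨k, hk⟩ := h.eb
  by_contra hlt
  push Not at hlt
  have hb : b ≤ 5 := by omega
  have ha : a ≤ 3 := by omega
  have : a * b ≤ 3 * 5 := Nat.mul_le_mul ha hb
  obtain ⟨j, hj⟩ := h.ea
  have ha2 : a = 2 := by omega
  subst ha2
  omega

section Final
variable [Fintype F]

/-- G2 (from helper28's core + helper23's S7) -/
theorem P3_of_one' (h : GCtx a b Q M) {x : Fin a → F} {y : Fin b → F} (hx : x ≠ 0) (hy : y ≠ 0)
    (hfull : ∀ w : Fin b → F, sf y w = 0 → RR Q M x y x w) : P3 Q M :=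
  Cfsg.Agent.Lib.Helper28.SpTGLeaf.P3_of_one_core
    (fun hn Φ hinv _ hx₀ h0 => Cfsg.Agent.Lib.Helper23.SpTGLeaf.forall_of_tva_invariant hn Φ hinv hx₀ h0)
    h hx hy hfull

/-- G2' (from helper28's core + helper23's S7) -/
theorem P1_of_one' (h : GCtx a b Q M) {x : Fin a → F} {y : Fin b → F} (hx : x ≠ 0) (hy : y ≠ 0)
    (hfull : ∀ z : Fin a → F, sf x z = 0 → RR Q M x y z y) : P1 Q M :=
  Cfsg.Agent.Lib.Helper28.SpTGLeaf.P1_of_one_core
    (fun hn Φ hinv _ hx₀ h0 => Cfsg.Agent.Lib.Helper23.SpTGLeaf.forall_of_tva_invariant hn Φ hinv hx₀ h0)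
    h hx hy hfull

/-- G3 (from helper9's core + helper23's S1, S5) -/
theorem P7_of_P3' (h : GCtx a b Q M) (h3 : P3 Q M) : P7 Q M :=
  Cfsg.Agent.Lib.Helper9.SpTGLeaf.P7_of_P3_core
    (fun hn _ hx => Cfsg.Agent.Lib.Helper23.SpTGLeaf.exists_sf_eq_one hn hx)
    (fun hn h6 y y₁ => Cfsg.Agent.Lib.Helper23.SpTGLeaf.exists_hyp_pair_perp2 hn h6 y y₁) h h3

/-- G4 (from helper9's core + helper23's S1, S6) -/
theorem P4_of_P3_P7' (h : GCtx a b Q M) (h3 : P3 Q M) (h7 : P7 Q M) : P4 Q M :=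
  Cfsg.Agent.Lib.Helper9.SpTGLeaf.P4_of_P3_P7_core
    (fun hn _ hx => Cfsg.Agent.Lib.Helper23.SpTGLeaf.exists_sf_eq_one hn hx)
    (fun hn h4 _ _ hne => Cfsg.Agent.Lib.Helper23.SpTGLeaf.exists_pair_of_ne hn h4 hne) h h3 h7

/-- G5 (from helper9's core + helper23's S2) -/
theorem P6_of_P4_P7' (h : GCtx a b Q M) (h4 : P4 Q M) (h7 : P7 Q M) : P6 Q M :=
  Cfsg.Agent.Lib.Helper9.SpTGLeaf.P6_of_P4_P7_core
    (fun hn _ _ hind => Cfsg.Agent.Lib.Helper23.SpTGLeaf.exists_perp_not_perp hn hind) h h4 h7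

/-- G6 (from helper9's core + helper23's S1, S4) -/
theorem P4_of_P1' (h : GCtx a b Q M) (ha4 : 4 ≤ a) (h1 : P1 Q M) : P4 Q M :=
  Cfsg.Agent.Lib.Helper9.SpTGLeaf.P4_of_P1_core
    (fun hn _ hx => Cfsg.Agent.Lib.Helper23.SpTGLeaf.exists_sf_eq_one hn hx)
    (fun hn h4 x => Cfsg.Agent.Lib.Helper23.SpTGLeaf.exists_hyp_pair_perp1 hn h4 x) h ha4 h1

theorem PAll_of_P3 (h : GCtx a b Q M) (h3 : P3 Q M) : PAll Q M := by
  have h7 := P7_of_P3' h h3
  have h4 := P4_of_P3_P7' h h3 h7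
  have h6 := P6_of_P4_P7' h h4 h7
  intro x x' y y'
  by_cases h0 : sf x x' * sf y y' = 0
  · rcases mul_eq_zero.1 h0 with h1 | h1
    · exact h6 x x' y y' h1
    · exact h7 x x' y y' h1
  · exact RR_of_ne h.toCtx h0

/-- the interface for helper25 -/
theorem omega_le_of_root (h : Ctx a b Q) (hM : M ≤ Cfsg.Geo.omegaGL ⇑Q)
    (hA : ∀ x c, (kA x c : GL (Idx a b) F) ∈ M) (hB : ∀ y c, (kB y c : GL (Idx a b) F) ∈ M)
    (hroot : RootB Q M ∨ (4 ≤ a ∧ RootA Q M)) : Cfsg.Geo.omegaGL ⇑Q ≤ M := by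
  have hG : GCtx a b Q M := { toCtx := h, le_om := hM, hA := hA, hB := hB }
  have h3 : P3 Q M := by
    rcases hroot with hr | ⟨ha4, hr⟩
    · obtain ⟨x, y, hx, hy, hfull⟩ := t3_full_of_rootB hG hr
      exact P3_of_one' hG hx hy hfull
    · obtain ⟨x, y, hx, hy, hfull⟩ := t1_full_of_rootA hG hr
      have h1 := P1_of_one' hG hx hy hfull
      have h4 := P4_of_P1' hG ha4 h1
      intro x y y' _
      exact h4 x y y'
  have hall := PAll_of_P3 hG h3
  have h6 := six_le_b h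
  have ha0 : 0 < a := by have := h.ha; omega
  have hb0 : 0 < b := by omega
  have ha1 : 1 < a := by have := h.ha; omega
  have hb1 : 1 < b := by omega
  have hcard : 7 ≤ Fintype.card (Idx a b) := by
    rw [Fintype.card_prod, Fintype.card_fin, Fintype.card_fin]
    have := h.hn
    omega
  refine omega_le_of_two_good h.nd hcard
    (u := pt (Pi.single (⟨0, ha0⟩ : Fin a) (1 : F)) (Pi.single (⟨0, hb0⟩ : Fin b) (1 : F)))
    (u' := pt (Pi.single (⟨1, ha1⟩ : Fin a) (1 : F)) (Pi.single (⟨1, hb1⟩ : Fin b) (1 : F)))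
    (h.pure _ _) (h.pure _ _) ?_ ?_ ?_
  · rw [h.pol, sf_single_single, sf_single_single, Jm_apply, Jm_apply]
    simp
  · intro v hQv huv c
    exact Cfsg.Agent.Lib.Helper28.SpTGLeaf.rt_mem_of_PAll hG hall _ _ hQv huv c
  · intro v hQv huv c
    exact Cfsg.Agent.Lib.Helper28.SpTGLeaf.rt_mem_of_PAll hG hall _ _ hQv huv c

end Final

end Cfsg.Agent.Lib.Helper27.SpTGLeaf
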