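import Cfsg.Agent.Lib.Helper27.FSPPowerNormal
import Cfsg.Agent.Lib.Helper26.FSNormalExt
import Cfsg.Agent.Lib.Helper26.FSExtendMod

set_option autoImplicit false

/-! The extension condition for a subsystem of `p`-power index over a normal subgroup `T ≥ hyp(F)` of `S`. -/

namespace Cfsg.Agent.Lib.Helper27

open Cfsg Cfsg.FusionSystem Cfsg.Agent.Lib.Helper26

variable {Ω : Type*} [Group Ω] {S T : Subgroup Ω}

/-- The extension property of an automorphism `α` of `T`: it extends to an element `β` of `Aut_F(T C_S(T))` with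
`[β, C_S(T)] ≤ Z(T)`. -/
def ExtProp (F : FusionSystem S) (T : Subgroup Ω) (α : MulAut T) : Prop :=
  ∃ β ∈ F.autGroup (T ⊔ centralizerIn S T),
    (∀ x : T, ((β (Subgroup.inclusion le_sup_left x) : ↥(T ⊔ centralizerIn S T)) : Ω) = ((α x : T) : Ω)) ∧
    ∀ c : ↥(T ⊔ centralizerIn S T), (c : Ω) ∈ centralizerIn S T →
      (c : Ω)⁻¹ * ((β c : ↥(T ⊔ centralizerIn S T)) : Ω) ∈ T ⊓ Subgroup.centralizer (T : Set Ω)

/-- A map on `U ≥ T` extending an automorphism of `T` sends the centralizer of `T` into itself. -/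
theorem apply_mem_centralizer_of_ext {U : Subgroup Ω} (hle : T ≤ U) (ψ : U →* Ω) (α : MulAut T)
    (he : ∀ x : T, ψ (Subgroup.inclusion hle x) = ((α x : T) : Ω)) (c : U)
    (hc : (c : Ω) ∈ Subgroup.centralizer (T : Set Ω)) : ψ c ∈ Subgroup.centralizer (T : Set Ω) := by
  rw [Subgroup.mem_centralizer_iff]
  intro t ht
  have h1 : ψ (Subgroup.inclusion hle (α⁻¹ ⟨t, ht⟩)) = t := by
    rw [he]
    simp
  have h2 : Subgroup.inclusion hle (α⁻¹ ⟨t, ht⟩) * c = c * Subgroup.inclusion hle (α⁻¹ ⟨t, ht⟩) := by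
    apply Subtype.ext
    exact Subgroup.mem_centralizer_iff.mp hc _ (α⁻¹ ⟨t, ht⟩).2
  have h3 := congrArg ψ h2
  rw [map_mul, map_mul, h1] at h3
  exact h3

theorem ExtProp.mul {F : FusionSystem S} {α₁ α₂ : MulAut T} (h₁ : ExtProp F T α₁) (h₂ : ExtProp F T α₂) :
    ExtProp F T (α₁ * α₂) := by
  obtain ⟨β₁, hβ₁, he₁, hc₁⟩ := h₁
  obtain ⟨β₂, hβ₂, he₂, hc₂⟩ := h₂
  refine ⟨β₁ * β₂, mul_mem hβ₁ hβ₂, fun x => ?_, fun c hc => ?_⟩
  · rw [MulAut.mul_apply, MulAut.mul_apply]
    have e : β₂ (Subgroup.inclusion le_sup_left x) = Subgroup.inclusion le_sup_left (α₂ x) :=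
      Subtype.ext (he₂ x)
    rw [e, he₁]
  · rw [MulAut.mul_apply]
    have hz := hc₂ c hc
    obtain ⟨z, hzv, hze⟩ : ∃ z : T, (z : Ω) = (c : Ω)⁻¹ * ((β₂ c : ↥(T ⊔ centralizerIn S T)) : Ω) ∧
        β₂ c = c * Subgroup.inclusion le_sup_left z := by
      refine ⟨⟨_, hz.1⟩, rfl, ?_⟩
      apply Subtype.ext
      show _ = (c : Ω) * ((c : Ω)⁻¹ * _)
      rw [mul_inv_cancel_left]
    have hzc : (z : Ω) ∈ Subgroup.centralizer (T : Set Ω) := by rw [hzv]; exact hz.2
    have e3 : (c : Ω)⁻¹ * ((β₁ (β₂ c) : ↥(T ⊔ centralizerIn S T)) : Ω) =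
        ((c : Ω)⁻¹ * ((β₁ c : ↥(T ⊔ centralizerIn S T)) : Ω)) * ((α₁ z : T) : Ω) := by
      rw [hze, map_mul, Subgroup.coe_mul, he₁ z, mul_assoc]
    rw [e3]
    refine mul_mem (hc₁ c hc) ⟨(α₁ z).2, ?_⟩
    exact apply_mem_centralizer_of_ext (le_refl T) (T.subtype.comp α₁.toMonoidHom) α₁ (fun x => rfl) z hzc

theorem ExtProp.one (F : FusionSystem S) (T : Subgroup Ω) : ExtProp F T 1 := by
  refine ⟨1, one_mem _, fun x => rfl, fun c _ => ?_⟩
  rw [MulAut.one_apply, inv_mul_cancel]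
  exact one_mem _

theorem ExtProp.inv {F : FusionSystem S} (hTS : T ≤ S) {α : MulAut T} (h : ExtProp F T α) :
    ExtProp F T α⁻¹ := by
  obtain ⟨β, hβ, he, hc⟩ := h
  have hUS : T ⊔ centralizerIn S T ≤ S := sup_le hTS inf_le_left
  refine ⟨β⁻¹, inv_mem hβ, fun x => ?_, fun c hcc => ?_⟩
  · have : β⁻¹ (Subgroup.inclusion le_sup_left x) = Subgroup.inclusion le_sup_left (α⁻¹ x) := by
      apply β.injective
      rw [MulAut.apply_inv_self]
      apply Subtype.ext
      rw [he]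
      simp
    rw [this]
    rfl
  · have hd : ((β⁻¹ c : ↥(T ⊔ centralizerIn S T)) : Ω) ∈ centralizerIn S T := by
      refine ⟨hUS (β⁻¹ c).2, ?_⟩
      exact apply_mem_centralizer_of_ext le_sup_left
        ((T ⊔ centralizerIn S T).subtype.comp (β⁻¹ : MulAut _).toMonoidHom) α⁻¹ (fun x => by
          have : β⁻¹ (Subgroup.inclusion le_sup_left x) = Subgroup.inclusion le_sup_left (α⁻¹ x) := by
            apply β.injective
            rw [MulAut.apply_inv_self]
            apply Subtype.ext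
            rw [he]
            simp
          show ((β⁻¹ (Subgroup.inclusion le_sup_left x) : ↥(T ⊔ centralizerIn S T)) : Ω) = _
          rw [this]
          rfl) c hcc.2
    have h1 := hc (β⁻¹ c) hd
    rw [MulAut.apply_inv_self] at h1
    have h2 := inv_mem h1
    rw [mul_inv_rev, inv_inv] at h2
    exact h2

/-- The automorphisms with the extension property, as a subgroup. -/
def extSubgroup (F : FusionSystem S) (hTS : T ≤ S) : Subgroup (MulAut T) where
  carrier := {α | ExtProp F T α}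
  one_mem' := ExtProp.one F T
  mul_mem' := fun h₁ h₂ => ExtProp.mul h₁ h₂
  inv_mem' := fun h => ExtProp.inv hTS h

theorem mem_extSubgroup (F : FusionSystem S) (hTS : T ≤ S) (α : MulAut T) :
    α ∈ extSubgroup F hTS ↔ ExtProp F T α := Iff.rfl

/-- Conjugation by an element of `T` has the extension property. -/
theorem extProp_of_inner (F : FusionSystem S) (hTS : T ≤ S) {α : MulAut T} {t : Ω} (ht : t ∈ T)
    (hα : ∀ x : T, ((α x : T) : Ω) = t * (x : Ω) * t⁻¹) : ExtProp F T α := by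
  have hUS : T ⊔ centralizerIn S T ≤ S := sup_le hTS inf_le_left
  have htU : t ∈ T ⊔ centralizerIn S T := (le_sup_left : T ≤ _) ht
  refine ⟨MulAut.conj (⟨t, htU⟩ : ↥(T ⊔ centralizerIn S T)), inn_le_autGroup F hUS ⟨_, rfl⟩,
    fun x => ?_, fun c hc => ?_⟩
  · rw [hα x]
    rfl
  · have h1 : ((MulAut.conj (⟨t, htU⟩ : ↥(T ⊔ centralizerIn S T)) c : ↥(T ⊔ centralizerIn S T)) : Ω) =
        t * (c : Ω) * t⁻¹ := rfl
    have h2 : t * (c : Ω) = (c : Ω) * t := Subgroup.mem_centralizer_iff.mp hc.2 t ht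
    rw [h1, h2, mul_inv_cancel_right, inv_mul_cancel]
    exact one_mem _

/-- If `E` is fully automized at `P ≤ T`, then `Aut_E(P)` lies in every subgroup of `Aut(P)` containing `Aut_T(P)` and
`O^p(Aut_F(P))`. -/
theorem autGroup_le_of_fullyAutomized {p : ℕ} [Fact p.Prime] (F : FusionSystem S) [Finite T]
    (E : FusionSystem T) (hEF : E.IsSubsystemOf F) {P : Subgroup Ω} (hPT : P ≤ T)
    (hFA : E.IsFullyAutomized p P) (X : Subgroup (MulAut P)) (hR : autInducedBy T P ≤ X)
    (hK : (pResidual p (F.autGroup P)).map (F.autGroup P).subtype ≤ X) :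
    E.autGroup P ≤ X := by
  obtain ⟨-, R, hR'⟩ := hFA
  have hfinP : Finite P := finite_of_le hPT
  intro α hα
  have hAΓ : E.autGroup P ≤ F.autGroup P := Subgroup.closure_mono (fun β hβ => hEF P hβ)
  have htop := Cfsg.Agent.Lib.Helper12.sup_pResidual_eq_top (R : Subgroup (E.autGroup P)) R.not_dvd_index
  have hmem : (⟨α, hα⟩ : E.autGroup P) ∈ (R : Subgroup (E.autGroup P)) ⊔ pResidual p (E.autGroup P) := by
    rw [htop]; trivial
  have h2 : α ∈ ((R : Subgroup (E.autGroup P)) ⊔ pResidual p (E.autGroup P)).map (E.autGroup P).subtype :=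
    ⟨_, hmem, rfl⟩
  rw [Subgroup.map_sup] at h2
  refine (sup_le ?_ ?_ : _ ≤ X) h2
  · rw [hR']
    rintro _ ⟨β, hβ, rfl⟩
    exact hR hβ
  · exact (map_pResidual_le_map_pResidual p hAΓ).trans hK

/-- An automorphism of `T` in `Aut_F(T)` of order prime to `p` has the extension property, when `T` is strongly closed
and contains the hyperfocal subgroup. -/
theorem extProp_of_coprime [Finite S] {p : ℕ} [Fact p.Prime] (hS : IsPGroup p S) (F : FusionSystem S)
    (hF : F.IsSaturated p) (hT : F.StronglyClosed T) (hhyp : F.hyperfocalSubgroup p ≤ T) {ξ : MulAut T}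
    (hξ : ξ ∈ F.autGroup T) (hcop : Nat.Coprime (orderOf ξ) p) : ExtProp F T ξ := by
  have hTS : T ≤ S := hT.1
  have hUS : T ⊔ centralizerIn S T ≤ S := sup_le hTS inf_le_left
  have hfinU : Finite ↥(T ⊔ centralizerIn S T) := finite_of_le hUS
  -- `T` is fully normalized, hence receptive
  have hNT : normalizerIn S T = S := normalizerIn_eq_of_le_normalizer (le_normalizer_of_stronglyClosed F hT)
  have hFN : F.IsFullyNormalized T := by
    refine ⟨hTS, fun Q _ => ?_⟩
    rw [hNT]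
    exact Subgroup.card_le_of_le inf_le_left
  have hRec := saturated_fn_receptive hS F hF hFN
  have hφ : T.subtype.comp ξ.toMonoidHom ∈ F.Hom T := (mem_autGroup_iff F hTS ξ).mp hξ
  have hrange : (T.subtype.comp ξ.toMonoidHom).range = T := by
    ext y
    constructor
    · rintro ⟨x, rfl⟩
      exact (ξ x).2
    · intro hy
      exact ⟨ξ⁻¹ ⟨y, hy⟩, by simp⟩
  obtain ⟨ψ, hψ, hψe⟩ := hRec.2 T _ hφ hrange
  have hUle : T ⊔ centralizerIn S T ≤ extender S T (T.subtype.comp ξ.toMonoidHom) :=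
    sup_le (le_extender hTS _ (fun x => hTS (ξ x).2)) (centralizerIn_le_extender T _)
  have hψ' : ψ.comp (Subgroup.inclusion hUle) ∈ F.Hom (T ⊔ centralizerIn S T) :=
    inclusion_comp_mem F hUle hψ
  have hψT : ∀ x : T, (ψ.comp (Subgroup.inclusion hUle)) (Subgroup.inclusion le_sup_left x) =
      ((ξ x : T) : Ω) := by
    intro x
    exact hψe x x.2 (hUle ((le_sup_left : T ≤ T ⊔ centralizerIn S T) x.2))
  have hψC : ∀ c : ↥(T ⊔ centralizerIn S T), (c : Ω) ∈ centralizerIn S T →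
      (ψ.comp (Subgroup.inclusion hUle)) c ∈ centralizerIn S T := by
    intro c hc
    exact ⟨hom_apply_mem F hψ' c, apply_mem_centralizer_of_ext le_sup_left _ ξ hψT c hc.2⟩
  -- `T` normalizes `C_S(T)`
  have hTN : T ≤ Subgroup.normalizer ((centralizerIn S T : Subgroup Ω) : Set Ω) := by
    intro t ht
    have key : ∀ t ∈ T, ∀ y ∈ centralizerIn S T, t * y * t⁻¹ ∈ centralizerIn S T := by
      intro t ht y hy
      have h2 : t * y = y * t := Subgroup.mem_centralizer_iff.mp hy.2 t ht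
      rw [h2, mul_inv_cancel_right]
      exact hy
    apply mem_normalizer_of_conj_mem (key t ht)
    intro y hy
    have := key t⁻¹ (inv_mem ht) y hy
    rwa [inv_inv] at this
  have hrU : (ψ.comp (Subgroup.inclusion hUle)).range ≤ T ⊔ centralizerIn S T := by
    rintro _ ⟨u, rfl⟩
    obtain ⟨x, c, rfl⟩ := exists_mul_of_mem_sup' hTN u
    rw [map_mul]
    refine mul_mem ?_ ?_
    · rw [hψT x]
      exact (le_sup_left : T ≤ T ⊔ centralizerIn S T) (ξ x).2
    · exact (le_sup_right : centralizerIn S T ≤ T ⊔ centralizerIn S T) (hψC _ c.2)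
  have hr : (ψ.comp (Subgroup.inclusion hUle)).range = T ⊔ centralizerIn S T := by
    apply Subgroup.eq_of_le_of_card_ge hrU
    rw [Nat.card_congr (MonoidHom.ofInjective (F.injective_of_mem hψ')).toEquiv]
  have hβ₀ : (homEquiv F hψ' hr : MulAut ↥(T ⊔ centralizerIn S T)) ∈ F.autGroup (T ⊔ centralizerIn S T) := by
    rw [mem_autGroup_iff_isFIso F hUS]
    exact homEquiv_isFIso F hψ' hr
  have hβ₀T : ∀ y : T, ((ξ y : T) : Ω) =
      (((homEquiv F hψ' hr : MulAut ↥(T ⊔ centralizerIn S T)) (Subgroup.inclusion le_sup_left y) :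
        ↥(T ⊔ centralizerIn S T)) : Ω) := fun y => (hψT y).symm
  obtain ⟨m, hm1, hm2⟩ := exists_pow_pprime p
    (⟨(homEquiv F hψ' hr : MulAut ↥(T ⊔ centralizerIn S T)), hβ₀⟩ : F.autGroup (T ⊔ centralizerIn S T))
    (orderOf ξ) hcop
  have hξm : ξ ^ m = ξ := by
    have := (pow_eq_pow_iff_modEq (x := ξ)).mpr hm1
    rwa [pow_one] at this
  have hres := aut_pow_restrict le_sup_left (homEquiv F hψ' hr : MulAut ↥(T ⊔ centralizerIn S T)) ξ hβ₀T m
  rw [hξm] at hres
  have hmem : (⟨(homEquiv F hψ' hr : MulAut ↥(T ⊔ centralizerIn S T)), hβ₀⟩ :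
      F.autGroup (T ⊔ centralizerIn S T)) ^ m ∈ pResidual p (F.autGroup (T ⊔ centralizerIn S T)) :=
    Subgroup.subset_closure hm2
  refine ⟨(homEquiv F hψ' hr : MulAut ↥(T ⊔ centralizerIn S T)) ^ m, (F.autGroup _).pow_mem hβ₀ m,
    fun x => (hres x).symm, fun c hc => ⟨?_, ?_⟩⟩
  · have := mem_hyperfocal_of F p hUS _ hmem c
    exact hhyp this
  · have hc2 : (c : Ω) ∈ Subgroup.centralizer (T : Set Ω) := hc.2
    refine Subgroup.mul_mem _ (Subgroup.inv_mem _ hc2) ?_
    exact apply_mem_centralizer_of_ext le_sup_left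
      ((T ⊔ centralizerIn S T).subtype.comp
        ((homEquiv F hψ' hr : MulAut ↥(T ⊔ centralizerIn S T)) ^ m).toMonoidHom) ξ
      (fun x => (hres x).symm) c hc.2

/-- **S5120.** A saturated subsystem of `p`-power index over a normal subgroup of `S` is normal. -/
theorem isNormalIn_of_ppower_index [Finite S] {p : ℕ} [Fact p.Prime] (hS : IsPGroup p S) (F : FusionSystem S)
    (hF : F.IsSaturated p) (hTS : T ≤ S) (hTn : (T.subgroupOf S).Normal) (hhyp : F.hyperfocalSubgroup p ≤ T)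
    (E : FusionSystem T) (hE : E.IsSaturated p) (hEi : E.HasPPowerIndexIn F p) : E.IsNormalIn F p := by
  have hT : F.StronglyClosed T := stronglyClosed_of_hyperfocal_le hS F hF hTS hTn hhyp
  refine ⟨⟨hE, hF, isInvariantIn_of_ppower_index hS F hF E hT hE hEi.1 hEi.2.2⟩, ?_⟩
  have hfinT : Finite T := finite_of_le hTS
  have hTp : IsPGroup p T := hS.to_le hTS
  have hFA := (saturated_fn hTp E hE (top_fullyNormalized E)).2
  have hle : E.autGroup T ≤ extSubgroup F hTS := by
    apply autGroup_le_of_fullyAutomized F E hEi.1 le_rfl hFA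
    · intro α hα
      obtain ⟨g, hg, hgα⟩ := (mem_autInducedBy_iff T T α).mp hα
      exact extProp_of_inner F hTS hg hgα
    · unfold Cfsg.pResidual
      rw [MonoidHom.map_closure, Subgroup.closure_le]
      rintro _ ⟨ξ, hξ, rfl⟩
      have hξ' : Nat.Coprime (orderOf ξ) p := hξ
      rw [← Subgroup.orderOf_coe] at hξ'
      exact extProp_of_coprime hS F hF hT hhyp ξ.2 hξ'
  intro α hα
  exact hle hα

end Cfsg.Agent.Lib.Helper27
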