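import Mathlib
import Cfsg.Prelude.Def_FusionSystem
import Cfsg.Agent.Lib.Helper26.FSAlperin
import Cfsg.Agent.Lib.Helper26.FSNormalCrit
import Cfsg.Agent.Lib.Helper12.Residual

set_option autoImplicit false

/-! Subsystems of `p`-power index: a saturated one is contained in every other one over the same subgroup. -/

namespace Cfsg.Agent.Lib.Helper27

open Cfsg Cfsg.FusionSystem Cfsg.Agent.Lib.Helper26

theorem map_pResidual_le_map_pResidual {M : Type*} [Group M] (p : ℕ) {A Γ : Subgroup M} (h : A ≤ Γ) :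
    (pResidual p ↥A).map A.subtype ≤ (pResidual p ↥Γ).map Γ.subtype := by
  unfold Cfsg.pResidual
  rw [MonoidHom.map_closure, Subgroup.closure_le]
  rintro _ ⟨a, ha, rfl⟩
  refine ⟨⟨a, h a.2⟩, Subgroup.subset_closure ?_, rfl⟩
  show Nat.Coprime (orderOf (⟨(a : M), h a.2⟩ : Γ)) p
  have ha' : Nat.Coprime (orderOf a) p := ha
  rw [Subgroup.orderOf_mk, Subgroup.orderOf_coe]
  exact ha'

variable {Ω : Type*} [Group Ω] {S : Subgroup Ω}

theorem autGroup_le_of_ppower_index {p : ℕ} [Fact p.Prime] (F : FusionSystem S) {T : Subgroup Ω} [Finite T]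
    (E E' : FusionSystem T) (hEF : E.IsSubsystemOf F) {P : Subgroup Ω} (hPT : P ≤ T)
    (hFA : E.IsFullyAutomized p P)
    (hK : (pResidual p (F.autGroup P)).map (F.autGroup P).subtype ≤ E'.autGroup P) :
    E.autGroup P ≤ E'.autGroup P := by
  obtain ⟨-, R, hR⟩ := hFA
  have hfinP : Finite P := finite_of_le hPT
  intro α hα
  have hAΓ : E.autGroup P ≤ F.autGroup P := Subgroup.closure_mono (fun β hβ => hEF P hβ)
  have htop := Cfsg.Agent.Lib.Helper12.sup_pResidual_eq_top (R : Subgroup (E.autGroup P)) R.not_dvd_index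
  have hmem : (⟨α, hα⟩ : E.autGroup P) ∈ (R : Subgroup (E.autGroup P)) ⊔ pResidual p (E.autGroup P) := by
    rw [htop]; trivial
  have h2 : α ∈ ((R : Subgroup (E.autGroup P)) ⊔ pResidual p (E.autGroup P)).map (E.autGroup P).subtype :=
    ⟨_, hmem, rfl⟩
  rw [Subgroup.map_sup] at h2
  refine (sup_le ?_ ?_ : _ ≤ E'.autGroup P) h2
  · rw [hR]
    rintro _ ⟨β, hβ, rfl⟩
    exact autInducedBy_le_autGroup E' hPT hβ
  · exact (map_pResidual_le_map_pResidual p hAΓ).trans hK

/-- A saturated subsystem `E` of `F` over `T` is contained in every fusion system over `T` whose automorphism groups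
contain the `O^p(Aut_F(P))`. -/
theorem hom_subset_of_ppower_index [Finite S] {p : ℕ} [Fact p.Prime] (hS : IsPGroup p S) (F : FusionSystem S)
    {T : Subgroup Ω} (E E' : FusionSystem T) (hE : E.IsSaturated p) (hEF : E.IsSubsystemOf F)
    (hE' : ∀ P : Subgroup Ω, P ≤ T →
      (pResidual p (F.autGroup P)).map (F.autGroup P).subtype ≤ E'.autGroup P) :
    ∀ P : Subgroup Ω, E.Hom P ⊆ E'.Hom P := by
  have hTS : T ≤ S := hom_le F (hEF T (subtype_mem E le_rfl))
  have hfinT : Finite T := finite_of_le hTS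
  have hTp : IsPGroup p T := hS.to_le hTS
  apply alperin hTp E hE E'
  intro P hP
  have hfn : E.IsFullyNormalized P := by
    rcases hP with rfl | hP
    · exact top_fullyNormalized E
    · exact hP.2.1
  have hfa := (saturated_fn hTp E hE hfn).2
  exact autGroup_le_of_ppower_index F E E' hEF hfn.1 hfa (hE' P hfn.1)

/-- Two saturated subsystems of `p`-power index over the same subgroup have the same maps. -/
theorem ppower_index_unique [Finite S] {p : ℕ} [Fact p.Prime] (hS : IsPGroup p S) (F : FusionSystem S)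
    {T : Subgroup Ω} (E E' : FusionSystem T) (hE : E.IsSaturated p) (hE' : E'.IsSaturated p)
    (h : E.HasPPowerIndexIn F p) (h' : E'.HasPPowerIndexIn F p) :
    ∀ P : Subgroup Ω, E.Hom P = E'.Hom P := fun P =>
  Set.Subset.antisymm (hom_subset_of_ppower_index hS F E E' hE h.1 h'.2.2 P)
    (hom_subset_of_ppower_index hS F E' E hE' h'.1 h.2.2 P)

end Cfsg.Agent.Lib.Helper27
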