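import Cfsg.Agent.Lib.Helper27.FSTwist
import Cfsg.Agent.Lib.Helper27.FSPPowerIndex

set_option autoImplicit false

/-! Twisting the maps of a fusion system `E` over `T` by automorphisms of `T`; a saturated subsystem of
`p`-power index is invariant under `Aut_F(T)`. -/

namespace Cfsg.Agent.Lib.Helper27

open Cfsg Cfsg.FusionSystem Cfsg.Agent.Lib.Helper26

variable {Ω : Type*} [Group Ω] {S T : Subgroup Ω}

theorem aut_restrict_memT (F : FusionSystem S) (hTS : T ≤ S) {β : MulAut T} (hβ : β ∈ F.autGroup T)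
    {P : Subgroup Ω} (hP : P ≤ T) :
    (T.subtype.comp β.toMonoidHom).comp (Subgroup.inclusion hP) ∈ F.Hom P :=
  inclusion_comp_mem F hP ((mem_autGroup_iff F hTS β).mp hβ)

/-- The restriction of `β ∈ Aut_F(T)` to `P ≤ T`, as an isomorphism onto the image. -/
noncomputable def resIsoT (F : FusionSystem S) (hTS : T ≤ S) {β : MulAut T} (hβ : β ∈ F.autGroup T)
    {P : Subgroup Ω} (hP : P ≤ T) : P ≃* imgAut β P :=
  homEquiv F (aut_restrict_memT F hTS hβ hP) (aut_restrict_range β hP)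

theorem resIsoT_isFIso (F : FusionSystem S) (hTS : T ≤ S) {β : MulAut T} (hβ : β ∈ F.autGroup T)
    {P : Subgroup Ω} (hP : P ≤ T) : IsFIso F (resIsoT F hTS hβ hP) := homEquiv_isFIso F _ _

theorem resIsoT_apply (F : FusionSystem S) (hTS : T ≤ S) {β : MulAut T} (hβ : β ∈ F.autGroup T)
    {P : Subgroup Ω} (hP : P ≤ T) (x : P) :
    ((resIsoT F hTS hβ hP x : imgAut β P) : Ω) = ((β ⟨x, hP x.2⟩ : T) : Ω) := rfl

theorem resIsoT_symm_apply (F : FusionSystem S) (hTS : T ≤ S) {β : MulAut T} (hβ : β ∈ F.autGroup T)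
    {P : Subgroup Ω} (hP : P ≤ T) (y : T) (hy : (y : Ω) ∈ P) (h' : ((β y : T) : Ω) ∈ imgAut β P) :
    (resIsoT F hTS hβ hP).symm ⟨β y, h'⟩ = ⟨y, hy⟩ := by
  rw [MulEquiv.symm_apply_eq]
  apply Subtype.ext
  rfl

/-- The subsystem of `E` of the maps all of whose twists by elements of `A` lie in `E`. -/
def twistSystemA (E : FusionSystem T) (A : Set (MulAut T)) : FusionSystem T where
  Hom P := {φ | φ ∈ E.Hom P ∧ ∀ β ∈ A, TwistIn E β φ}
  le_of_mem h := E.le_of_mem h.1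
  injective_of_mem h := E.injective_of_mem h.1
  conj_mem := by
    intro P g hP hg
    refine ⟨E.conj_mem hP hg, ?_⟩
    rintro β hβ Q rfl
    refine ⟨conjHom (imgAut β P) ((β ⟨g, hg⟩ : T) : Ω), E.conj_mem (imgAut_le β P) (β ⟨g, hg⟩).2, ?_⟩
    intro y hy h' z hz
    have e : z = ⟨g, hg⟩ * y * ⟨g, hg⟩⁻¹ := Subtype.ext hz
    rw [e, map_mul, map_mul, map_inv]
    rfl
  comp_mem := by
    rintro P Q' φ ψ ⟨hφ, hφ'⟩ ⟨hψ, hψ'⟩ h
    refine ⟨E.comp_mem hφ hψ h, ?_⟩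
    rintro β hβ Q rfl
    obtain ⟨χφ, hχφ, hχφ'⟩ := hφ' β hβ _ rfl
    obtain ⟨χψ, hχψ, hχψ'⟩ := hψ' β hβ _ rfl
    have hmem : ∀ w : imgAut β P, χφ w ∈ imgAut β Q' := by
      rintro ⟨w, hw⟩
      obtain ⟨y, hy, rfl⟩ := mem_imgAut.mp hw
      rw [hχφ' y hy hw ⟨φ ⟨y, hy⟩, hom_apply_mem E hφ _⟩ rfl]
      exact apply_mem_imgAut β _ (h ⟨y, hy⟩)
    refine ⟨χψ.comp (χφ.codRestrict _ hmem), E.comp_mem hχφ hχψ hmem, ?_⟩
    intro y hy h' z hz
    have e1 := hχφ' y hy h' ⟨φ ⟨y, hy⟩, hom_apply_mem E hφ _⟩ rfl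
    have h'' : ((β ⟨φ ⟨y, hy⟩, hom_apply_mem E hφ _⟩ : T) : Ω) ∈ imgAut β Q' :=
      apply_mem_imgAut β _ (h ⟨y, hy⟩)
    have e2 := hχψ' ⟨φ ⟨y, hy⟩, hom_apply_mem E hφ _⟩ (h ⟨y, hy⟩) h'' z hz
    rw [← e2]
    show χψ ⟨χφ ⟨β y, h'⟩, hmem _⟩ = _
    congr 1
    exact Subtype.ext e1
  inv_mem := by
    rintro P φ ⟨hφ, hφ'⟩
    obtain ⟨ψ, hψ, hψx⟩ := E.inv_mem hφ
    refine ⟨ψ, ⟨hψ, ?_⟩, hψx⟩
    rintro β hβ Q rfl
    obtain ⟨χφ, hχφ, hχφ'⟩ := hφ' β hβ _ rfl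
    obtain ⟨χ', hχ', hχ'x⟩ := E.inv_mem hχφ
    have hP : P ≤ T := hom_le E hφ
    have hsub : imgAut β φ.range ≤ χφ.range := by
      intro w hw
      obtain ⟨y, ⟨x, hx⟩, rfl⟩ := mem_imgAut.mp hw
      have hxβ : ((β ⟨x, hP x.2⟩ : T) : Ω) ∈ imgAut β P := apply_mem_imgAut β _ x.2
      refine ⟨⟨β ⟨x, hP x.2⟩, hxβ⟩, ?_⟩
      rw [hχφ' ⟨x, hP x.2⟩ x.2 hxβ y hx.symm]
    refine ⟨χ'.comp (Subgroup.inclusion hsub), inclusion_comp_mem E hsub hχ', ?_⟩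
    rintro y ⟨x, hx⟩ h' z hz
    have hxβ : ((β ⟨x, hP x.2⟩ : T) : Ω) ∈ imgAut β P := apply_mem_imgAut β _ x.2
    have e1 := hχφ' ⟨x, hP x.2⟩ x.2 hxβ y hx.symm
    have e2 : z = ⟨x, hP x.2⟩ := by
      apply Subtype.ext
      rw [hz]
      have := hψx x
      rw [← this]
      congr 1
      exact Subtype.ext hx.symm
    rw [e2]
    have e3 := hχ'x ⟨β ⟨x, hP x.2⟩, hxβ⟩
    rw [← e3]
    show χ' ⟨β y, _⟩ = χ' ⟨χφ ⟨β ⟨x, hP x.2⟩, hxβ⟩, _⟩
    congr 1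
    exact Subtype.ext e1.symm

/-- The twist system contains the `p'`-generated part of `Aut_F(P)` for `P ≤ T` if `E` does. -/
theorem pResidual_le_twistSystemA (F : FusionSystem S) (hTS : T ≤ S) (E : FusionSystem T) (p : ℕ)
    (h : ∀ P : Subgroup Ω, P ≤ T →
      (pResidual p (F.autGroup P)).map (F.autGroup P).subtype ≤ E.autGroup P) {P : Subgroup Ω}
    (hP : P ≤ T) :
    (pResidual p (F.autGroup P)).map (F.autGroup P).subtype ≤
      (twistSystemA E (F.autGroup T : Set (MulAut T))).autGroup P := by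
  unfold Cfsg.pResidual
  rw [MonoidHom.map_closure, Subgroup.closure_le]
  rintro _ ⟨ξ, hξ, rfl⟩
  have hξ' : Nat.Coprime (orderOf ξ) p := hξ
  have hPS : P ≤ S := hP.trans hTS
  apply Subgroup.subset_closure
  show P.subtype.comp (ξ : MulAut P).toMonoidHom ∈ (twistSystemA E (F.autGroup T : Set (MulAut T))).Hom P
  have hξE : (ξ : MulAut P) ∈ E.autGroup P :=
    h P hP ⟨ξ, Subgroup.subset_closure hξ, rfl⟩
  refine ⟨(mem_autGroup_iff E hP _).mp hξE, ?_⟩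
  rintro β hβ Q rfl
  have he := resIsoT_isFIso F hTS hβ hP
  have hξ'F : MulAut.congr (resIsoT F hTS hβ hP) (ξ : MulAut P) ∈ F.autGroup (imgAut β P) :=
    congr_mem_autGroup F he ξ.2
  have hord : Nat.Coprime (orderOf (⟨MulAut.congr (resIsoT F hTS hβ hP) (ξ : MulAut P), hξ'F⟩ :
      F.autGroup (imgAut β P))) p := by
    rw [Subgroup.orderOf_mk, MulEquiv.orderOf_eq, Subgroup.orderOf_coe]
    exact hξ'
  have hmem : MulAut.congr (resIsoT F hTS hβ hP) (ξ : MulAut P) ∈ E.autGroup (imgAut β P) :=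
    h _ (imgAut_le β P) ⟨⟨_, hξ'F⟩, Subgroup.subset_closure hord, rfl⟩
  refine ⟨_, (mem_autGroup_iff E (imgAut_le β P) _).mp hmem, ?_⟩
  intro y hy h' z hz
  have e1 := resIsoT_symm_apply F hTS hβ hP y hy h'
  show (((resIsoT F hTS hβ hP) ((ξ : MulAut P) ((resIsoT F hTS hβ hP).symm ⟨β y, h'⟩)) : imgAut β P) : Ω) = _
  rw [e1, resIsoT_apply]
  congr 2
  exact Subtype.ext hz.symm

/-- A saturated subsystem of `F` over `T` whose automorphism groups contain the `O^p(Aut_F(P))` is invariant under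
`Aut_F(T)`. -/
theorem autInv_of_ppower_index [Finite S] {p : ℕ} [Fact p.Prime] (hS : IsPGroup p S) (F : FusionSystem S)
    (E : FusionSystem T) (hE : E.IsSaturated p) (hEF : E.IsSubsystemOf F)
    (h : ∀ P : Subgroup Ω, P ≤ T →
      (pResidual p (F.autGroup P)).map (F.autGroup P).subtype ≤ E.autGroup P) : AutInv E F := by
  have hTS : T ≤ S := hom_le F (hEF T (subtype_mem E le_rfl))
  intro P hPT φ hφ α hα
  have h1 := hom_subset_of_ppower_index hS F E (twistSystemA E (F.autGroup T : Set (MulAut T))) hE hEF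
    (fun P hP => pResidual_le_twistSystemA F hTS E p h hP) P hφ
  obtain ⟨χ, hχ, hχ'⟩ := h1.2 α hα _ rfl
  exact ⟨χ, hχ, fun x hφx hαx => hχ' ⟨x, hPT x.2⟩ x.2 hαx ⟨φ x, hφx⟩ rfl⟩

end Cfsg.Agent.Lib.Helper27
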