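import Cfsg.Agent.Lib.Helper26.FSFrobenius
set_option autoImplicit false

/-!
Inductive form of Alperin's fusion theorem (helper27; a variant of helper26's `alperin` with the induction
hypothesis exposed).
-/

namespace Cfsg.Agent.Lib.Helper27

open Cfsg Cfsg.FusionSystem Cfsg.Agent.Lib.Helper26

variable {Ω : Type*} [Group Ω] {S : Subgroup Ω}

/-- **Alperin–Goldschmidt fusion theorem**, inductive form: when checking `Aut_F(P) ≤ Aut_E(P)` for `P = S` or `P`
essential one may assume that all maps of `F` on subgroups of larger order already lie in `E`. -/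
theorem alperin_strong [Finite S] {p : ℕ} [Fact p.Prime] (hS : IsPGroup p S) (F : FusionSystem S)
    (hF : F.IsSaturated p) (E : FusionSystem S)
    (hE : ∀ P : Subgroup Ω, (P = S ∨ F.IsEssential p P) →
      (∀ R : Subgroup Ω, R ≤ S → Nat.card P < Nat.card R → F.Hom R ⊆ E.Hom R) → F.autGroup P ≤ E.autGroup P) :
    ∀ P : Subgroup Ω, F.Hom P ⊆ E.Hom P := by
  have main : ∀ d : ℕ, ∀ P : Subgroup Ω, P ≤ S → Nat.card S - Nat.card P = d → F.Hom P ⊆ E.Hom P := by
    intro d
    induction d using Nat.strong_induction_on with
    | _ d ih =>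
      intro P hP hd φ hφ
      have IH : ∀ R : Subgroup Ω, R ≤ S → Nat.card P < Nat.card R → F.Hom R ⊆ E.Hom R := by
        intro R hR hlt
        have hRS : Nat.card R ≤ Nat.card S := Subgroup.card_le_of_le hR
        exact ih (Nat.card S - Nat.card R) (by omega) R hR rfl
      have hfinP : Finite P := finite_of_le hP
      by_cases hPS : P = S
      · subst hPS
        have hr : φ.range = P := by
          apply Subgroup.eq_of_le_of_card_ge (range_le F hφ)
          rw [Nat.card_congr (MonoidHom.ofInjective (F.injective_of_mem hφ)).toEquiv]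
        have hα : (homEquiv F hφ hr : MulAut P) ∈ F.autGroup P := by
          rw [mem_autGroup_iff_isFIso F le_rfl]
          exact homEquiv_isFIso F hφ hr
        have hαE := hE P (Or.inl rfl) IH hα
        rw [mem_autGroup_iff_isFIso E le_rfl] at hαE
        have : equivHom (homEquiv F hφ hr) = φ := equivHom_homEquiv F hφ hr
        rw [← this]
        exact hαE
      · -- automorphism groups of fully normalized subgroups of the same order
        have hAut : ∀ Pst : Subgroup Ω, F.IsFullyNormalized Pst → Nat.card Pst = Nat.card P →
            F.autGroup Pst ≤ E.autGroup Pst := by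
          intro Pst hFN hcard
          have hne : Pst ≠ S := by
            rintro rfl
            exact hPS (Subgroup.eq_of_le_of_card_ge hP hcard.le)
          have IH' : ∀ R : Subgroup Ω, R ≤ S → Nat.card Pst < Nat.card R → F.Hom R ⊆ E.Hom R := by
            intro R hR hlt
            exact IH R hR (hcard ▸ hlt)
          by_cases hess : F.IsEssential p Pst
          · exact hE Pst (Or.inr hess) IH'
          by_cases hcen : F.IsCentric Pst
          · exact autGroup_le_of_not_essential hS F hF E hFN hcen hne hess IH'
          · have hFC := (saturated_fn hS F hF hFN).1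
            have hRec := saturated_fn_receptive hS F hF hFN
            have hnle : ¬ centralizerIn S Pst ≤ Pst := fun h => hcen (centric_of_fullyCentralized F Pst hFC h)
            obtain ⟨c, hc, hcP⟩ := SetLike.not_le_iff_exists.mp hnle
            intro α hα
            exact mem_autGroup_of_extender F E hRec IH' hα (centralizerIn_le_extender Pst _ hc) hcP
        obtain ⟨Pst, hPPst, hFN⟩ := exists_fullyNormalized_conj F hP
        have hFA := (saturated_fn hS F hF hFN).2
        have hRec := saturated_fn_receptive hS F hF hFN
        have hPQ : F.IsConj P φ.range := ⟨φ, hφ, rfl⟩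
        have hQS : φ.range ≤ S := range_le F hφ
        have hQPst : F.IsConj φ.range Pst := isConj_trans F (isConj_symm F hPQ) hPPst
        obtain ⟨χ₁, hχ₁, hv₁, hm₁⟩ := exists_normalizer_hom hS F hFA hRec hPPst
        obtain ⟨χ₂, hχ₂, hv₂, hm₂⟩ := exists_normalizer_hom hS F hFA hRec hQPst
        let D₁ : NormHom F P Pst := ⟨χ₁, hχ₁, hv₁, hm₁, hP⟩
        let D₂ : NormHom F φ.range Pst := ⟨χ₂, hχ₂, hv₂, hm₂, hQS⟩
        let eφ : P ≃* φ.range := homEquiv F hφ rfl
        have hcardQ : Nat.card φ.range = Nat.card P := (Nat.card_congr eφ.toEquiv).symm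
        have hQne : φ.range ≠ S := by
          intro h
          apply hPS
          apply Subgroup.eq_of_le_of_card_ge hP
          rw [← hcardQ, h]
        have hχ₁E : χ₁ ∈ E.Hom (normalizerIn S P) :=
          IH _ (normalizerIn_le S P) (card_lt_card_normalizerIn hS hP hPS) hχ₁
        have hχ₂E : χ₂ ∈ E.Hom (normalizerIn S φ.range) :=
          IH _ (normalizerIn_le S _) (hcardQ ▸ card_lt_card_normalizerIn hS hQS hQne) hχ₂
        have he₁F : IsFIso F D₁.e := D₁.e_isFIso
        have he₂F : IsFIso F D₂.e := D₂.e_isFIso
        have he₁E : IsFIso E D₁.e := inclusion_comp_mem E (le_normalizerIn hP) hχ₁E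
        have he₂E : IsFIso E D₂.e := inclusion_comp_mem E (le_normalizerIn hQS) hχ₂E
        have heφF : IsFIso F eφ := homEquiv_isFIso F hφ rfl
        let α : MulAut Pst := D₁.e.symm.trans (eφ.trans D₂.e)
        have hαF : α ∈ F.autGroup Pst := by
          rw [mem_autGroup_iff_isFIso F hFN.1]
          exact he₁F.symm.trans (heφF.trans he₂F)
        have hcardPst : Nat.card Pst = Nat.card P := (Nat.card_congr D₁.e.toEquiv).symm
        have hαE : IsFIso E (α : Pst ≃* Pst) :=
          (mem_autGroup_iff_isFIso E hFN.1 α).mp (hAut Pst hFN hcardPst hαF)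
        have heq : eφ = D₁.e.trans ((α : Pst ≃* Pst).trans D₂.e.symm) := by
          ext x
          simp [α]
        have heφE : IsFIso E eφ := by
          rw [heq]
          exact he₁E.trans (hαE.trans he₂E.symm)
        have : equivHom eφ = φ := equivHom_homEquiv F hφ rfl
        rw [← this]
        exact heφE
  intro P φ hφ
  exact main _ P (hom_le F hφ) rfl hφ

end Cfsg.Agent.Lib.Helper27
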