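import Mathlib
import Cfsg.Agent.Lib.Helper26.F2Defs

set_option autoImplicit false

/-!
Helper27 library: leaf F2-NORM of helper26's S3390 market ("F2").  If `1 < T = P_α < P` for a
2-subgroup `P` of a group in which no nonidentity element fixes three points, then `T` fixes exactly
one more point `β`, `P_β = T`, and some `y ∈ P` swaps `α` and `β`.
-/

namespace Cfsg.Agent.Lib.Helper27.F2NORM

open Cfsg.Agent.Lib.Helper26.F2 MulAction Subgroup

variable {G : Type*} [Group G] [Finite G] {Ω : Type*} [Finite Ω] [MulAction G Ω]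

/-- normalizers grow in `p`-groups, in ambient form: if `T < P`, `P` a finite `p`-group, there is
`y ∈ P`, `y ∉ T`, with `g ∈ T ↔ y * g * y⁻¹ ∈ T` for all `g ∈ P`. -/
theorem exists_normalizing_not_mem {p : ℕ} [Fact p.Prime] (P T : Subgroup G) (hP : IsPGroup p P)
    (hTP : T ≤ P) (hne : T ≠ P) :
    ∃ y ∈ P, y ∉ T ∧ ∀ g ∈ P, (g ∈ T ↔ y * g * y⁻¹ ∈ T) := by
  have : Group.IsNilpotent ↥P := hP.isNilpotent
  have hnc := Group.normalizerCondition_of_isNilpotent (G := ↥P)
  have hlt : T.subgroupOf P < ⊤ := by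
    rw [lt_top_iff_ne_top]
    intro h
    apply hne
    apply le_antisymm hTP
    intro g hg
    have : (⟨g, hg⟩ : ↥P) ∈ T.subgroupOf P := by rw [h]; exact Subgroup.mem_top _
    rwa [Subgroup.mem_subgroupOf] at this
  obtain ⟨y, hyN, hyT⟩ := SetLike.exists_of_lt (hnc _ hlt)
  refine ⟨(y : G), y.2, ?_, ?_⟩
  · intro h
    apply hyT
    rw [Subgroup.mem_subgroupOf]
    exact h
  · intro g hg
    have := (Subgroup.mem_normalizer_iff.mp hyN) ⟨g, hg⟩
    rw [Subgroup.mem_subgroupOf, Subgroup.mem_subgroupOf] at this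
    simpa using this

/-- **F2-NORM** (Step 1) if `1 < T = P_α < P` then `T` fixes exactly one more point `β`, `P_β = T`,
and some `y ∈ P` swaps `α` and `β`. -/
theorem exists_swap (hfix3 : Fix3 G Ω) (P : Subgroup G) (hP : IsPGroup 2 P) (α : Ω)
    (hT : P ⊓ stabilizer G α ≠ ⊥) (hnot : ¬ P ≤ stabilizer G α) :
    ∃ β : Ω, β ≠ α ∧ P ⊓ stabilizer G β = P ⊓ stabilizer G α ∧
      ∃ y ∈ P, y • α = β ∧ y • β = α := by
  have : Fact (Nat.Prime 2) := ⟨Nat.prime_two⟩
  have hne : P ⊓ stabilizer G α ≠ P := by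
    intro h
    apply hnot
    rw [← h]
    exact inf_le_right
  obtain ⟨y, hyP, hyT, hyN⟩ := exists_normalizing_not_mem P (P ⊓ stabilizer G α) hP inf_le_left hne
  have hyα : y • α ≠ α := by
    intro h
    exact hyT (Subgroup.mem_inf.mpr ⟨hyP, mem_stabilizer_iff.mpr h⟩)
  -- membership in `T` is invariant under conjugation by `y⁻¹` too
  have hyN' : ∀ g ∈ P, (g ∈ P ⊓ stabilizer G α ↔ y⁻¹ * g * y ∈ P ⊓ stabilizer G α) := by
    intro g hg
    have hg' : y⁻¹ * g * y ∈ P := P.mul_mem (P.mul_mem (P.inv_mem hyP) hg) hyP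
    have := hyN (y⁻¹ * g * y) hg'
    rw [this]
    have e : y * (y⁻¹ * g * y) * y⁻¹ = g := by group
    rw [e]
  have hstab : P ⊓ stabilizer G (y • α) = P ⊓ stabilizer G α := by
    ext g
    constructor
    · intro hg
      rw [Subgroup.mem_inf, mem_stabilizer_iff] at hg
      obtain ⟨hgP, hgs⟩ := hg
      rw [hyN' g hgP, Subgroup.mem_inf, mem_stabilizer_iff]
      refine ⟨P.mul_mem (P.mul_mem (P.inv_mem hyP) hgP) hyP, ?_⟩
      rw [mul_smul, mul_smul, hgs, inv_smul_smul]
    · intro hg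
      have hgP : g ∈ P := (Subgroup.mem_inf.mp hg).1
      have h2 := (hyN' g hgP).mp hg
      rw [Subgroup.mem_inf, mem_stabilizer_iff] at h2 ⊢
      refine ⟨hgP, ?_⟩
      have h3 := h2.2
      rw [mul_smul, mul_smul] at h3
      have := congrArg (fun z => y • z) h3
      simpa using this
  -- a nontrivial element of `T`
  obtain ⟨t, ht, ht1⟩ : ∃ t : G, t ∈ P ⊓ stabilizer G α ∧ t ≠ 1 := by
    obtain ⟨t, h⟩ := (Subgroup.ne_bot_iff_exists_ne_one).mp hT
    exact ⟨(t : G), t.2, fun h1 => h (Subtype.ext h1)⟩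
  have htα : t • α = α := mem_stabilizer_iff.mp (Subgroup.mem_inf.mp ht).2
  have htβ : t • (y • α) = y • α := by
    have : t ∈ P ⊓ stabilizer G (y • α) := by rw [hstab]; exact ht
    exact mem_stabilizer_iff.mp (Subgroup.mem_inf.mp this).2
  -- `y` normalizes `P ⊓ stab (y • α) = T` as well, so `t` fixes `y • y • α`
  have htγ : t • (y • (y • α)) = y • (y • α) := by
    have h2 := (hyN' t (Subgroup.mem_inf.mp ht).1).mp ht
    have h3 : y⁻¹ * t * y ∈ P ⊓ stabilizer G (y • α) := by rw [hstab]; exact h2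
    have h4 := mem_stabilizer_iff.mp (Subgroup.mem_inf.mp h3).2
    rw [mul_smul, mul_smul] at h4
    have := congrArg (fun z => y • z) h4
    simpa using this
  have hyβ : y • (y • α) ≠ y • α := by
    intro h
    apply hyα
    have := congrArg (fun z => y⁻¹ • z) h
    simpa using this
  refine ⟨y • α, hyα, hstab, y, hyP, rfl, ?_⟩
  by_contra hne3
  exact hfix3 t ht1 α (y • α) (y • (y • α)) (Ne.symm hyα) (Ne.symm hne3) (Ne.symm hyβ) htα htβ htγ

end Cfsg.Agent.Lib.Helper27.F2NORM
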