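import Mathlib
import Cfsg.Agent.Lib.Helper26.F2Defs
import Cfsg.Agent.Lib.Helper27.F2NORM

set_option autoImplicit false

/-!
Helper27 library: leaf F2-DICH of helper26's S3390 market ("F2").  For a 2-subgroup `P` of a group
in which no nonidentity element fixes three points, `T = P_α` (`1 < T < P`) has order 2 or index 2
in `P`.
-/

namespace Cfsg.Agent.Lib.Helper27.F2DICH

open Cfsg.Agent.Lib.Helper26.F2 MulAction Subgroup Cfsg.Agent.Lib.Helper27.F2NORM

variable {G : Type*} [Group G] [Finite G] {Ω : Type*} [Finite Ω] [MulAction G Ω]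

/-- an element of `P` normalizing `T = P_α = P_β` maps `α` into `{α, β}` and, if it moves `α`, swaps. -/
theorem smul_mem_pair (hfix3 : Fix3 G Ω) (P : Subgroup G) (α β : Ω) (hβα : β ≠ α)
    (hT : P ⊓ stabilizer G α ≠ ⊥)
    (hβ : P ⊓ stabilizer G β = P ⊓ stabilizer G α)
    (m : G) (hm : ∀ g ∈ P, (g ∈ P ⊓ stabilizer G α ↔ m * g * m⁻¹ ∈ P ⊓ stabilizer G α))
    (hmP : m ∈ P) :
    (m • α = α ∧ m • β = β) ∨ (m • α = β ∧ m • β = α) := by
  obtain ⟨t, ht, ht1⟩ : ∃ t : G, t ∈ P ⊓ stabilizer G α ∧ t ≠ 1 := by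
    obtain ⟨t, h⟩ := (Subgroup.ne_bot_iff_exists_ne_one).mp hT
    exact ⟨(t : G), t.2, fun h1 => h (Subtype.ext h1)⟩
  have htP : t ∈ P := (Subgroup.mem_inf.mp ht).1
  have htα : t • α = α := mem_stabilizer_iff.mp (Subgroup.mem_inf.mp ht).2
  have htβ : t • β = β := by
    have : t ∈ P ⊓ stabilizer G β := by rw [hβ]; exact ht
    exact mem_stabilizer_iff.mp (Subgroup.mem_inf.mp this).2
  -- `s = m t m⁻¹ ∈ T` fixes `m • α` and `m • β`
  have hs : m * t * m⁻¹ ∈ P ⊓ stabilizer G α := (hm t htP).mp ht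
  have hs1 : m * t * m⁻¹ ≠ 1 := by
    intro h
    apply ht1
    have : t = m⁻¹ * (m * t * m⁻¹) * m := by group
    rw [this, h]; group
  have hsα : (m * t * m⁻¹) • α = α := mem_stabilizer_iff.mp (Subgroup.mem_inf.mp hs).2
  have hsβ : (m * t * m⁻¹) • β = β := by
    have : m * t * m⁻¹ ∈ P ⊓ stabilizer G β := by rw [hβ]; exact hs
    exact mem_stabilizer_iff.mp (Subgroup.mem_inf.mp this).2
  have hsmα : (m * t * m⁻¹) • (m • α) = m • α := by
    rw [mul_smul, mul_smul, inv_smul_smul, htα]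
  have hsmβ : (m * t * m⁻¹) • (m • β) = m • β := by
    rw [mul_smul, mul_smul, inv_smul_smul, htβ]
  have hmαβ : m • α ≠ m • β := by
    intro h
    exact hβα ((MulAction.injective m) h).symm
  have h1 : m • α = α ∨ m • α = β := by
    by_contra hcon
    rw [not_or] at hcon
    exact hfix3 _ hs1 α β (m • α) (Ne.symm hβα) (Ne.symm hcon.1) (Ne.symm hcon.2) hsα hsβ hsmα
  have h2 : m • β = α ∨ m • β = β := by
    by_contra hcon
    rw [not_or] at hcon
    exact hfix3 _ hs1 α β (m • β) (Ne.symm hβα) (Ne.symm hcon.1) (Ne.symm hcon.2) hsα hsβ hsmβ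
  rcases h1 with h1 | h1
  · left
    refine ⟨h1, ?_⟩
    rcases h2 with h2 | h2
    · exact absurd (h1.trans h2.symm) hmαβ
    · exact h2
  · right
    refine ⟨h1, ?_⟩
    rcases h2 with h2 | h2
    · exact h2
    · exact absurd (h1.trans h2.symm) hmαβ

/-- **F2-DICH** (Steps 1+3a) `|T| = 2` or `T` has index 2 in `P`. -/
theorem card_two_or_relIndex_two (hfix3 : Fix3 G Ω) (P : Subgroup G) (hP : IsPGroup 2 P) (α : Ω)
    (hT : P ⊓ stabilizer G α ≠ ⊥) (hnot : ¬ P ≤ stabilizer G α) :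
    Nat.card ↥(P ⊓ stabilizer G α) = 2 ∨ (P ⊓ stabilizer G α).relIndex P = 2 := by
  have : Fact (Nat.Prime 2) := ⟨Nat.prime_two⟩
  obtain ⟨β, hβα, hβ, y, hyP, hyα, hyβ⟩ := exists_swap hfix3 P hP α hT hnot
  by_cases h2 : Nat.card ↥(P ⊓ stabilizer G α) = 2
  · left; exact h2
  right
  -- membership in `T`
  have memT : ∀ g : G, g ∈ P ⊓ stabilizer G α ↔ g ∈ P ∧ g • α = α := by
    intro g
    rw [Subgroup.mem_inf, mem_stabilizer_iff]
  have memTβ : ∀ g : G, g ∈ P ⊓ stabilizer G α ↔ g ∈ P ∧ g • β = β := by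
    intro g
    rw [← hβ, Subgroup.mem_inf, mem_stabilizer_iff]
  -- the set `M` of elements of `P` normalizing `T`
  let M : Subgroup G := P ⊓ Subgroup.normalizer ((P ⊓ stabilizer G α : Subgroup G) : Set G)
  have memM : ∀ m : G, m ∈ M ↔ m ∈ P ∧ ∀ g, (g ∈ P ⊓ stabilizer G α ↔ m * g * m⁻¹ ∈ P ⊓ stabilizer G α) := by
    intro m
    show m ∈ P ⊓ Subgroup.normalizer ((P ⊓ stabilizer G α : Subgroup G) : Set G) ↔ _
    rw [Subgroup.mem_inf, Subgroup.mem_normalizer_iff]
  have hTM : P ⊓ stabilizer G α ≤ M := by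
    intro g hg
    exact Subgroup.mem_inf.mpr ⟨(Subgroup.mem_inf.mp hg).1, Subgroup.le_normalizer hg⟩
  -- card T ≥ 3
  have hcard3 : 3 ≤ Nat.card ↥(P ⊓ stabilizer G α) := by
    have hTp : IsPGroup 2 ↥(P ⊓ stabilizer G α) := hP.to_le inf_le_left
    obtain ⟨k, hk⟩ := hTp.exists_card_eq
    have hne1 : Nat.card ↥(P ⊓ stabilizer G α) ≠ 1 := by
      intro h
      exact hT ((Subgroup.card_eq_one).mp h)
    rw [hk] at h2 hne1 ⊢
    rcases k with _ | _ | k
    · simp at hne1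
    · simp at h2
    · have : 2 ^ (k + 1 + 1) = 4 * 2 ^ k := by ring
      have hpos : 0 < 2 ^ k := Nat.pos_of_ne_zero (by positivity)
      omega
  -- `M = P`
  have hMP : M = P := by
    by_contra hne
    obtain ⟨y', hy'P, hy'M, hy'N⟩ := exists_normalizing_not_mem P M hP inf_le_left hne
    -- `γ = y' • α` is a third point
    have hγα : y' • α ≠ α := by
      intro h
      exact hy'M (hTM ((memT y').mpr ⟨hy'P, h⟩))
    have hγβ : y' • α ≠ β := by
      intro h
      apply hy'M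
      rw [memM]
      refine ⟨hy'P, fun g => ?_⟩
      rw [memT g, memTβ (y' * g * y'⁻¹)]
      constructor
      · rintro ⟨hgP, hgα⟩
        refine ⟨P.mul_mem (P.mul_mem hy'P hgP) (P.inv_mem hy'P), ?_⟩
        rw [← h, mul_smul, mul_smul, inv_smul_smul, hgα]
      · rintro ⟨hgP, hgβ⟩
        have hgP' : g ∈ P := by
          have := P.mul_mem (P.mul_mem (P.inv_mem hy'P) hgP) hy'P
          have e : y'⁻¹ * (y' * g * y'⁻¹) * y' = g := by group
          rwa [e] at this
        refine ⟨hgP', ?_⟩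
        rw [← h, mul_smul, mul_smul, inv_smul_smul] at hgβ
        exact (MulAction.injective y') hgβ
    -- three elements `1, t₁, t₂` of `T` with `t₁ t₂ ≠ 1`
    obtain ⟨t₁, t₂, ht₁, ht₂, h₁, h₂, h₁₂⟩ : ∃ t₁ t₂ : G, t₁ ∈ P ⊓ stabilizer G α ∧
        t₂ ∈ P ⊓ stabilizer G α ∧ t₁ ≠ 1 ∧ t₂ ≠ 1 ∧ t₁ * t₂ ≠ 1 := by
      obtain ⟨t, ht1⟩ : ∃ t : ↥(P ⊓ stabilizer G α), t ≠ 1 := by
        by_contra hcon
        rw [not_exists] at hcon
        have : Nat.card ↥(P ⊓ stabilizer G α) ≤ 1 := by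
          rw [Finite.card_le_one_iff_subsingleton]
          exact ⟨fun a b => by
            have ha := not_not.mp (hcon a); have hb := not_not.mp (hcon b); rw [ha, hb]⟩
        omega
      by_cases hsq : t * t = 1
      · -- `t` is an involution: take a third element
        obtain ⟨s, hs1, hst⟩ : ∃ s : ↥(P ⊓ stabilizer G α), s ≠ 1 ∧ s ≠ t := by
          by_contra hcon
          rw [not_exists] at hcon
          have hsub : (Set.univ : Set ↥(P ⊓ stabilizer G α)) ⊆ {1, t} := by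
            intro s _
            have := hcon s
            rw [not_and_or, not_not, not_not] at this
            rcases this with h | h
            · left; exact h
            · right; exact h
          have hc : Nat.card ↥(P ⊓ stabilizer G α) ≤ 2 := by
            rw [← Set.ncard_univ]
            calc (Set.univ : Set ↥(P ⊓ stabilizer G α)).ncard ≤ ({1, t} : Set _).ncard :=
                  Set.ncard_le_ncard hsub (Set.toFinite _)
              _ ≤ 2 := by
                have := Set.ncard_insert_le (1 : ↥(P ⊓ stabilizer G α)) {t}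
                rw [Set.ncard_singleton] at this
                exact this
          omega
        refine ⟨(t : G), (s : G), t.2, s.2, fun h => ht1 (Subtype.ext h), fun h => hs1 (Subtype.ext h), ?_⟩
        intro h
        apply hst
        have h' : t * s = 1 := Subtype.ext h
        have : s = t⁻¹ := (eq_inv_of_mul_eq_one_right h')
        rw [this]
        exact (eq_inv_of_mul_eq_one_left hsq).symm
      · refine ⟨(t : G), (t : G), t.2, t.2, fun h => ht1 (Subtype.ext h), fun h => ht1 (Subtype.ext h), ?_⟩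
        intro h
        exact hsq (Subtype.ext h)
    -- the conjugates `sᵢ = y' tᵢ y'⁻¹` lie in `M`, in `P`, and fix `y' • α`
    have conjM : ∀ t ∈ P ⊓ stabilizer G α, y' * t * y'⁻¹ ∈ M := fun t ht =>
      (hy'N t ((memT t).mp ht).1).mp (hTM ht)
    have conjfix : ∀ t ∈ P ⊓ stabilizer G α, (y' * t * y'⁻¹) • (y' • α) = y' • α := by
      intro t ht
      rw [mul_smul, mul_smul, inv_smul_smul, ((memT t).mp ht).2]
    have conjne : ∀ t : G, t ≠ 1 → y' * t * y'⁻¹ ≠ 1 := by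
      intro t ht h
      apply ht
      have : t = y'⁻¹ * (y' * t * y'⁻¹) * y' := by group
      rw [this, h]; group
    -- an element of `M` lies in `T` or swaps `α` and `β`
    have dich : ∀ m ∈ M, (m • α = α ∧ m • β = β) ∨ (m • α = β ∧ m • β = α) := by
      intro m hm
      have hm' := (memM m).mp hm
      exact smul_mem_pair hfix3 P α β hβα hT hβ m (fun g _ => hm'.2 g) hm'.1
    -- a nontrivial element of `T` fixing `y' • α`
    obtain ⟨s, hs1, hsT, hsγ⟩ : ∃ s : G, s ≠ 1 ∧ s ∈ P ⊓ stabilizer G α ∧ s • (y' • α) = y' • α := by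
      have hM1 := conjM t₁ ht₁
      have hM2 := conjM t₂ ht₂
      rcases dich _ hM1 with ⟨ha1, _⟩ | ⟨ha1, hb1⟩
      · exact ⟨_, conjne t₁ h₁, (memT _).mpr ⟨((memM _).mp hM1).1, ha1⟩, conjfix t₁ ht₁⟩
      rcases dich _ hM2 with ⟨ha2, _⟩ | ⟨ha2, hb2⟩
      · exact ⟨_, conjne t₂ h₂, (memT _).mpr ⟨((memM _).mp hM2).1, ha2⟩, conjfix t₂ ht₂⟩
      refine ⟨(y' * t₁ * y'⁻¹) * (y' * t₂ * y'⁻¹), ?_, ?_, ?_⟩
      · have e : (y' * t₁ * y'⁻¹) * (y' * t₂ * y'⁻¹) = y' * (t₁ * t₂) * y'⁻¹ := by group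
        rw [e]
        exact conjne _ h₁₂
      · rw [memT]
        refine ⟨P.mul_mem ((memM _).mp hM1).1 ((memM _).mp hM2).1, ?_⟩
        rw [mul_smul, ha2, hb1]
      · rw [mul_smul, conjfix t₂ ht₂, conjfix t₁ ht₁]
    have hsα : s • α = α := ((memT s).mp hsT).2
    have hsβ : s • β = β := ((memTβ s).mp hsT).2
    exact hfix3 s hs1 α β (y' • α) (Ne.symm hβα) (Ne.symm hγα) (Ne.symm hγβ) hsα hsβ hsγ
  -- index 2
  rw [Subgroup.relIndex_eq_two_iff]
  refine ⟨y, hyP, fun b hb => ?_⟩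
  have hbM : b ∈ M := by rw [hMP]; exact hb
  have hb' := (memM b).mp hbM
  have hd := smul_mem_pair hfix3 P α β hβα hT hβ b (fun g _ => hb'.2 g) hb
  rw [memT (b * y), memT b]
  rcases hd with ⟨ha, hb2⟩ | ⟨ha, hb2⟩
  · -- `b ∈ T`
    refine Or.inr ⟨⟨hb, ha⟩, ?_⟩
    rintro ⟨_, h⟩
    rw [mul_smul, hyα, hb2] at h
    exact hβα h
  · refine Or.inl ⟨⟨P.mul_mem hb hyP, ?_⟩, ?_⟩
    · rw [mul_smul, hyα, hb2]
    · rintro ⟨_, h⟩
      rw [ha] at h
      exact hβα h

end Cfsg.Agent.Lib.Helper27.F2DICH
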