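import Cfsg.Agent.Lib.Helper26.FSFrobenius
set_option autoImplicit false

/-!
The inner fusion system of a finite `p`-group is saturated; automorphisms of a normal subgroup of a fusion system
induced by maps of the system. (helper27's library, on top of helper26's)
-/

namespace Cfsg.Agent.Lib.Helper27

open Cfsg Cfsg.FusionSystem Cfsg.Agent.Lib.Helper26

variable {Ω : Type*} [Group Ω]

theorem inner_autGroup_eq (Q P : Subgroup Ω) (hP : P ≤ Q) :
    (innerFusionSystem Q).autGroup P = autInducedBy Q P := by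
  ext α
  rw [mem_autGroup_iff _ hP, mem_autInducedBy_iff]
  constructor
  · rintro ⟨-, g, hg, h⟩
    exact ⟨g, hg, h⟩
  · rintro ⟨g, hg, h⟩
    exact ⟨hP, g, hg, h⟩

/-- The inner fusion system of a finite `p`-group is saturated. -/
theorem inner_saturated (Q : Subgroup Ω) [Finite Q] {p : ℕ} [Fact p.Prime] (hQ : IsPGroup p Q) :
    (innerFusionSystem Q).IsSaturated p := by
  intro P hP
  refine ⟨P, isConj_refl _ hP, ⟨hP, ?_⟩, ⟨hP, ?_⟩⟩
  · have hfinP : Finite P := finite_of_le hP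
    have hpg : IsPGroup p ↥((innerFusionSystem Q).autGroup P) := by
      rw [inner_autGroup_eq Q P hP]
      exact autInducedBy_isPGroup hQ P
    have hpt : IsPGroup p (⊤ : Subgroup ↥((innerFusionSystem Q).autGroup P)) := hpg.to_subgroup _
    obtain ⟨R, hR⟩ := hpt.exists_le_sylow
    refine ⟨R, ?_⟩
    rw [top_le_iff.mp hR]
    symm
    rw [eq_top_iff]
    intro α _
    rw [Subgroup.mem_subgroupOf, ← inner_autGroup_eq Q P hP]
    exact α.2
  · rintro P' φ ⟨hP', g, hg, hφ⟩ -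
    have hle : extender Q P' φ ≤ Q := (extender_le Q P' φ).trans (normalizerIn_le Q P')
    refine ⟨conjHom (extender Q P' φ) g, (innerFusionSystem Q).conj_mem hle hg, fun x hxP hxN => ?_⟩
    rw [hφ ⟨x, hxP⟩]
    rfl

variable {S : Subgroup Ω}

/-- If `Q` is normal in `F`, every map of `F` agrees on `P ⊓ Q` with an element of `Aut_F(Q)`. -/
theorem exists_aut_of_isNormal (F : FusionSystem S) {Q : Subgroup Ω} (hQn : F.IsNormal Q) {P : Subgroup Ω}
    {φ : P →* Ω} (hφ : φ ∈ F.Hom P) :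
    ∃ α ∈ F.autGroup Q, ∀ (x : P) (hx : (x : Ω) ∈ Q), φ x = ((α ⟨x, hx⟩ : Q) : Ω) := by
  obtain ⟨ψ, hψ, hψφ, hψQ⟩ := hQn.2 P φ hφ
  have hψQ' := inclusion_comp_mem F (le_sup_right : Q ≤ P ⊔ Q) hψ
  obtain ⟨h1, h2⟩ := (map_subgroupOf_eq_iff ψ).mp hψQ
  have hr : (ψ.comp (Subgroup.inclusion (le_sup_right : Q ≤ P ⊔ Q))).range = Q := by
    ext z
    constructor
    · rintro ⟨q, rfl⟩
      exact h1 _ q.2
    · intro hz
      obtain ⟨y, hy, hyz⟩ := h2 z hz
      exact ⟨⟨y, hy⟩, hyz⟩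
  refine ⟨homEquiv F hψQ' hr, ?_, fun x hx => ?_⟩
  · rw [mem_autGroup_iff_isFIso F hQn.1]
    exact homEquiv_isFIso F hψQ' hr
  · rw [← hψφ x]
    rfl

end Cfsg.Agent.Lib.Helper27
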