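import Cfsg.Agent.Lib.Helper27.FMFactor3

/-!
helper27: the homomorphism induced on `T/Q → L/ι(Q)`.
-/

set_option autoImplicit false
set_option linter.unusedSectionVars false
set_option linter.unusedVariables false

namespace Cfsg.Agent.Lib.Helper27.FM

open Cfsg Cfsg.FusionSystem Cfsg.Agent.Lib.Helper26 Cfsg.Agent.Lib.Helper26.ModelThm

universe u u' v

variable {Ω : Type u} [Group Ω] {S : Subgroup Ω} {Ω' : Type u'} [Group Ω'] {S' : Subgroup Ω'}

theorem exists_induced_quot (θ : S →* Ω') (hrange : θ.range = S') {Q : Subgroup Ω}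
    (hker : ∀ s : S, θ s = 1 ↔ (s : Ω) ∈ Q) {T : Subgroup Ω} {Tb : Subgroup Ω'} (hTb : Tb ≤ S')
    (hpre : preimageAlong θ Tb = T) {L : Type v} [Group L] (ι : ↥T →* L) (hinj : Function.Injective ι)
    [hB : ((Q.subgroupOf T).map ι).Normal] :
    ∃ ιb : ↥Tb →* L ⧸ (Q.subgroupOf T).map ι, Function.Injective ιb ∧
      ∀ t ∈ T, ext1 ιb (ext1 θ t) = QuotientGroup.mk' ((Q.subgroupOf T).map ι) (ext1 ι t) := by
  have hTS : T ≤ S := hpre ▸ preimageAlong_le θ Tb
  have hθT : ∀ y : ↥T, θ ⟨y, hTS y.2⟩ ∈ Tb := by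
    intro y
    have h1 : (y : Ω) ∈ preimageAlong θ Tb := hpre ▸ y.2
    have h2 := ((mem_pre_iff θ Tb _).mp h1).2
    rwa [ext1_apply θ (hTS y.2)] at h2
  let f : ↥T →* ↥Tb := resHom θ hTS Tb hθT
  have hf : Function.Surjective f := by
    rintro ⟨z, hz⟩
    obtain ⟨x, hx, hxz⟩ := exists_pre_of_mem θ hrange hTb hz
    have hxT : x ∈ T := hpre ▸ hx
    refine ⟨⟨x, hxT⟩, Subtype.ext ?_⟩
    rw [resHom_coe]
    show θ ⟨x, hTS hxT⟩ = z
    rw [← hxz, ext1_apply θ (hTS hxT)]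
  let g : ↥T →* L ⧸ (Q.subgroupOf T).map ι := (QuotientGroup.mk' ((Q.subgroupOf T).map ι)).comp ι
  have hfg : f.ker ≤ g.ker := by
    intro y hy
    rw [MonoidHom.mem_ker] at hy ⊢
    have h1 : θ ⟨y, hTS y.2⟩ = 1 := by
      have := congrArg Subtype.val hy
      rwa [resHom_coe] at this
    have h2 : (y : Ω) ∈ Q := (hker _).mp h1
    show QuotientGroup.mk' _ (ι y) = 1
    rw [QuotientGroup.mk'_apply, QuotientGroup.eq_one_iff]
    exact ⟨y, h2, rfl⟩
  have hspec : ∀ t : ↥T, (f.liftOfSurjective hf ⟨g, hfg⟩) (f t) = g t :=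
    fun t => f.liftOfRightInverse_comp_apply _ _ ⟨g, hfg⟩ t
  refine ⟨f.liftOfSurjective hf ⟨g, hfg⟩, ?_, ?_⟩
  · rw [injective_iff_map_eq_one]
    intro z hz
    obtain ⟨t, rfl⟩ := hf z
    rw [hspec] at hz
    have h1 : ι t ∈ (Q.subgroupOf T).map ι := by
      have : QuotientGroup.mk' ((Q.subgroupOf T).map ι) (ι t) = 1 := hz
      rwa [QuotientGroup.mk'_apply, QuotientGroup.eq_one_iff] at this
    obtain ⟨q, hq, hqt⟩ := h1
    have h2 : q = t := hinj hqt
    have h3 : (t : Ω) ∈ Q := h2 ▸ hq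
    apply Subtype.ext
    rw [resHom_coe]
    exact (hker _).mpr h3
  · intro t ht
    have h1 : ext1 θ t = ((f ⟨t, ht⟩ : ↥Tb) : Ω') := by
      rw [ext1_apply θ (hTS ht), resHom_coe]
    rw [h1, ext1_coe, hspec, ext1_apply ι ht]
    rfl


theorem finite_of_range_eq [Finite S] (θ : S →* Ω') (hrange : θ.range = S') : Finite ↥S' := by
  rw [← hrange]
  exact Finite.of_surjective θ.rangeRestrict θ.rangeRestrict_surjective

/-- `L/ι(Q)` realizes `N_{F/Q}(V)` when `L` realizes `N_F(U)`, `U` the full preimage of `V`. -/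
theorem realized_factor_normalizer [Finite S] (F : FusionSystem S) {Q : Subgroup Ω} (hQ : F.IsNormal Q)
    (θ : S →* Ω') (E : FusionSystem S') (hθ : F.IsSurjectiveMorphism E θ)
    (hker : ∀ s : S, θ s = 1 ↔ (s : Ω) ∈ Q) {V : Subgroup Ω'} (hVS' : V ≤ S')
    (Nb : FusionSystem (normalizerIn S' V)) (hNb : E.IsNormalizerSystem V Nb)
    (N : FusionSystem (normalizerIn S (preimageAlong θ V)))
    (hN : F.IsNormalizerSystem (preimageAlong θ V) N)
    {L : Type v} [Group L] (ι : ↥(normalizerIn S (preimageAlong θ V)) →* L) (hreal : N.IsRealizedBy ι)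
    [hB : ((Q.subgroupOf (normalizerIn S (preimageAlong θ V))).map ι).Normal]
    (hA : (((preimageAlong θ V).subgroupOf (normalizerIn S (preimageAlong θ V))).map ι).Normal)
    (ιb : ↥(normalizerIn S' V) →* L ⧸ (Q.subgroupOf (normalizerIn S (preimageAlong θ V))).map ι)
    (hιb : Function.Injective ιb)
    (hKR : ∀ t ∈ normalizerIn S (preimageAlong θ V), ext1 ιb (ext1 θ t) =
      QuotientGroup.mk' ((Q.subgroupOf (normalizerIn S (preimageAlong θ V))).map ι) (ext1 ι t)) :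
    Nb.IsRealizedBy ιb := by
  classical
  have hrange := hθ.2.1
  haveI : Finite ↥S' := finite_of_range_eq θ hrange
  have hUS : preimageAlong θ V ≤ S := preimageAlong_le θ V
  have hTS : normalizerIn S (preimageAlong θ V) ≤ S := normalizerIn_le S _
  have hTbS' : normalizerIn S' V ≤ S' := normalizerIn_le S' V
  have hVTb : V ≤ normalizerIn S' V := le_normalizerIn hVS'
  have hUT : preimageAlong θ V ≤ normalizerIn S (preimageAlong θ V) := le_normalizerIn hUS
  have hpreT : preimageAlong θ (normalizerIn S' V) = normalizerIn S (preimageAlong θ V) :=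
    pre_normalizerIn θ hrange hVS'
  have hsc := stronglyClosed_of_isNormal F hQ
  have hQker : ∀ x ∈ S, ext1 θ x = 1 → x ∈ Q := by
    intro x hx h1
    rw [ext1_apply θ hx] at h1
    exact (hker _).mp h1
  have hkerQ : ∀ x ∈ Q, ext1 θ x = 1 := by
    intro x hx
    rw [ext1_apply θ (hQ.1 hx)]
    exact (hker _).mpr hx
  apply isRealizedBy_of_forall Nb ιb hιb
  intro Pb φb hPb hφb
  have hPbS' : Pb ≤ S' := hPb.trans hTbS'
  have hprePT : preimageAlong θ Pb ≤ normalizerIn S (preimageAlong θ V) := hpreT ▸ pre_mono θ hPb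
  constructor
  · intro hfm
    obtain ⟨-, -, φb', hφb', hext, hpresV⟩ := (isFM_normalizer_iff E hVS' Nb hNb).mp hfm
    obtain ⟨ψ, hψ, hind⟩ := exists_lift_of_isFM F E θ hθ hφb'
    have hRT : preimageAlong θ (Pb ⊔ V) ≤ normalizerIn S (preimageAlong θ V) :=
      hpreT ▸ pre_mono θ (sup_le hPb hVTb)
    have hφb'T : ∀ z ∈ Pb ⊔ V, φb' z ∈ normalizerIn S' V :=
      hφb'.map_sup_mem le_sup_left le_sup_right (fun z hz => by rw [hext z hz]; exact hφb z hz)
        (fun z hz => hVTb (hpresV z hz))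
    have hψT : ∀ x ∈ preimageAlong θ (Pb ⊔ V), ψ x ∈ normalizerIn S (preimageAlong θ V) := by
      intro x hx
      rw [← hpreT, mem_pre_iff]
      refine ⟨hψ.mem hx, ?_⟩
      rw [← hind x hx]
      exact hφb'T _ ((mem_pre_iff θ _ x).mp hx).2
    have hUR : preimageAlong θ V ≤ preimageAlong θ (Pb ⊔ V) := pre_mono θ le_sup_right
    have hψU : ∀ x ∈ preimageAlong θ V, ψ x ∈ preimageAlong θ V := by
      intro x hx
      rw [mem_pre_iff]
      refine ⟨hψ.mem (hUR hx), ?_⟩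
      rw [← hind x (hUR hx)]
      exact hpresV _ ((mem_pre_iff θ _ x).mp hx).2
    have hNψ : IsFM N (preimageAlong θ (Pb ⊔ V)) ψ := by
      rw [isFM_normalizer_iff F hUS N hN]
      exact ⟨hRT, hψT, ψ, hψ.of_eq (sup_eq_left.mpr hUR), fun _ _ => rfl, hψU⟩
    obtain ⟨-, -, g, hg⟩ := (isFM_iff_of_realized hreal).mp hNψ
    refine ⟨QuotientGroup.mk' _ g, fun z hz => ?_⟩
    obtain ⟨x, hx, rfl⟩ := exists_pre_of_mem θ hrange hPbS' hz
    have hxR : x ∈ preimageAlong θ (Pb ⊔ V) := pre_mono θ le_sup_left hx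
    rw [← hext _ hz, hind x hxR, hKR (ψ x) (hψT x hxR), hKR x (hRT hxR), hg x hxR, map_mul, map_mul, map_inv]
  · rintro ⟨gb, hgb⟩
    obtain ⟨g, rfl⟩ := QuotientGroup.mk'_surjective _ gb
    have hR_eq : preimageAlong θ (Pb ⊔ V) = preimageAlong θ Pb ⊔ preimageAlong θ V :=
      pre_sup θ hrange hPbS' hVS'
    have hRle : preimageAlong θ Pb ⊔ preimageAlong θ V ≤ conjRangeSub ι g := by
      apply sup_le
      · intro x hx
        have hxT := hprePT hx
        refine ⟨hxT, ?_⟩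
        have hz : ext1 θ x ∈ Pb := ((mem_pre_iff θ _ x).mp hx).2
        obtain ⟨x', hx', hx'z⟩ := exists_pre_of_mem θ hrange hTbS' (hφb _ hz)
        have hx'T : x' ∈ normalizerIn S (preimageAlong θ V) := hpreT ▸ hx'
        have h1 := hgb _ hz
        rw [← hx'z, hKR x' hx'T, hKR x hxT, ← map_inv, ← map_mul, ← map_mul, QuotientGroup.mk'_apply,
          QuotientGroup.mk'_apply, QuotientGroup.eq] at h1
        obtain ⟨b, -, hb⟩ := h1
        have h2 : g * ext1 ι x * g⁻¹ = ext1 ι x' * ι b := by rw [hb]; group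
        rw [h2]
        exact Subgroup.mul_mem _ (ext1_mem_range ι hx'T) ⟨b, rfl⟩
      · intro u hu
        refine ⟨hUT hu, ?_⟩
        exact Subgroup.map_le_range _ _ (hA.conj_mem _ (ext1_mem_map ι hu (hUT hu)) g)
    obtain ⟨ψ, hNψ, hspec⟩ := exists_isFM_of_conj hreal g hRle
    have hψF : IsFM F (preimageAlong θ Pb ⊔ preimageAlong θ V) ψ := hNψ.of_normalizer hN
    have hψU : ∀ u ∈ preimageAlong θ V, ψ u ∈ preimageAlong θ V := by
      intro u hu
      have hu' : u ∈ preimageAlong θ Pb ⊔ preimageAlong θ V := le_sup_right (a := preimageAlong θ Pb) hu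
      apply mem_of_ext1_mem_map ι hreal.1 (hspec u hu').1
      rw [(hspec u hu').2]
      exact hA.conj_mem _ (ext1_mem_map ι hu (hUT hu)) g
    -- the induced map
    let φb' : Ω' → Ω' := fun z =>
      if hz : ∃ x ∈ preimageAlong θ Pb ⊔ preimageAlong θ V, ext1 θ x = z then ext1 θ (ψ (Classical.choose hz))
      else 1
    have hRS : preimageAlong θ Pb ⊔ preimageAlong θ V ≤ S := hψF.le
    have hφb'spec : ∀ x ∈ preimageAlong θ Pb ⊔ preimageAlong θ V, φb' (ext1 θ x) = ext1 θ (ψ x) := by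
      intro x hx
      have hz : ∃ x' ∈ preimageAlong θ Pb ⊔ preimageAlong θ V, ext1 θ x' = ext1 θ x := ⟨x, hx, rfl⟩
      simp only [φb', dif_pos hz]
      obtain ⟨hx', he⟩ := Classical.choose_spec hz
      set x' := Classical.choose hz with hx'def
      have h1 : ext1 θ (x'⁻¹ * x) = 1 := by
        rw [ext1_mul θ (S.inv_mem (hRS hx')) (hRS hx), ext1_inv θ (hRS hx'), he, inv_mul_cancel]
      have hmem : x'⁻¹ * x ∈ preimageAlong θ Pb ⊔ preimageAlong θ V :=
        Subgroup.mul_mem _ (Subgroup.inv_mem _ hx') hx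
      have h2 : x'⁻¹ * x ∈ Q := hQker _ (hRS hmem) h1
      have h3 : ψ (x'⁻¹ * x) ∈ Q := hψF.mem_of_stronglyClosed hsc hmem h2
      rw [hψF.map_mul (Subgroup.inv_mem _ hx') hx, hψF.map_inv hx'] at h3
      have h4 := hkerQ _ h3
      rw [ext1_mul θ (S.inv_mem (hψF.mem hx')) (hψF.mem hx), ext1_inv θ (hψF.mem hx')] at h4
      exact (inv_mul_eq_one.mp h4)
    have hφb'E : IsFM E (Pb ⊔ V) φb' :=
      isFM_of_induced F E θ hθ (sup_le hPbS' hVS') (hψF.of_eq hR_eq) (fun x hx => hφb'spec x (hR_eq ▸ hx))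
    rw [isFM_normalizer_iff E hVS' Nb hNb]
    refine ⟨hPb, hφb, φb', hφb'E, fun z hz => ?_, fun z hz => ?_⟩
    · obtain ⟨x, hx, rfl⟩ := exists_pre_of_mem θ hrange hPbS' hz
      have hx' : x ∈ preimageAlong θ Pb ⊔ preimageAlong θ V := le_sup_left (b := preimageAlong θ V) hx
      rw [hφb'spec x hx']
      have hψxT : ψ x ∈ normalizerIn S (preimageAlong θ V) := (hspec x hx').1
      have hmem1 : ext1 θ (ψ x) ∈ normalizerIn S' V := by
        have : ψ x ∈ preimageAlong θ (normalizerIn S' V) := hpreT ▸ hψxT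
        exact ((mem_pre_iff θ _ _).mp this).2
      apply ext1_injOn ιb hιb hmem1 (hφb _ hz)
      rw [hKR _ hψxT, (hspec x hx').2, hgb _ hz, hKR x (hprePT hx), map_mul, map_mul, map_inv]
    · obtain ⟨u, hu, rfl⟩ := exists_pre_of_mem θ hrange hVS' hz
      have hu' : u ∈ preimageAlong θ Pb ⊔ preimageAlong θ V := le_sup_right (a := preimageAlong θ Pb) hu
      rw [hφb'spec u hu']
      exact ((mem_pre_iff θ _ _).mp (hψU u hu)).2

end Cfsg.Agent.Lib.Helper27.FM
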