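import Cfsg.Agent.Lib.Helper27.FMNorm

/-!
helper27: maps of a realized system defined by conjugation with a given element of the realizing group; a
criterion for normality in terms of partial maps.
-/

set_option autoImplicit false
set_option linter.unusedSectionVars false
set_option linter.unusedVariables false

namespace Cfsg.Agent.Lib.Helper27.FM

open Cfsg Cfsg.FusionSystem Cfsg.Agent.Lib.Helper26

variable {Ω : Type*} [Group Ω] {S : Subgroup Ω} {G : Type*} [Group G]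

/-- The elements of `S` that `g` conjugates into the image of `ι`. -/
def conjRangeSub (ι : S →* G) (g : G) : Subgroup Ω where
  carrier := {y | y ∈ S ∧ g * ext1 ι y * g⁻¹ ∈ ι.range}
  one_mem' := ⟨S.one_mem, by rw [ext1_one]; simp⟩
  mul_mem' := by
    rintro a b ⟨ha, ha'⟩ ⟨hb, hb'⟩
    refine ⟨S.mul_mem ha hb, ?_⟩
    rw [ext1_mul ι ha hb]
    have : g * (ext1 ι a * ext1 ι b) * g⁻¹ = (g * ext1 ι a * g⁻¹) * (g * ext1 ι b * g⁻¹) := by group
    rw [this]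
    exact Subgroup.mul_mem _ ha' hb'
  inv_mem' := by
    rintro a ⟨ha, ha'⟩
    refine ⟨S.inv_mem ha, ?_⟩
    rw [ext1_inv ι ha]
    have : g * (ext1 ι a)⁻¹ * g⁻¹ = (g * ext1 ι a * g⁻¹)⁻¹ := by group
    rw [this]
    exact Subgroup.inv_mem _ ha'

theorem mem_conjRangeSub (ι : S →* G) (g : G) (y : Ω) :
    y ∈ conjRangeSub ι g ↔ y ∈ S ∧ g * ext1 ι y * g⁻¹ ∈ ι.range := Iff.rfl

/-- Conjugation by `g` defines a map of the realized system on every subgroup that `g` conjugates into the image of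
`ι`. -/
theorem exists_isFM_of_conj {F : FusionSystem S} {ι : S →* G} (hreal : F.IsRealizedBy ι) {R : Subgroup Ω} (g : G)
    (hR : R ≤ conjRangeSub ι g) :
    ∃ ψ : Ω → Ω, IsFM F R ψ ∧ ∀ y ∈ R, ψ y ∈ S ∧ ext1 ι (ψ y) = g * ext1 ι y * g⁻¹ := by
  classical
  have hex : ∀ y ∈ R, ∃ z ∈ S, ext1 ι z = g * ext1 ι y * g⁻¹ :=
    fun y hy => exists_ext1_eq_of_mem_range ι (hR hy).2
  let ψ : Ω → Ω := fun y => if h : ∃ z ∈ S, ext1 ι z = g * ext1 ι y * g⁻¹ then Classical.choose h else 1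
  have hspec : ∀ y ∈ R, ψ y ∈ S ∧ ext1 ι (ψ y) = g * ext1 ι y * g⁻¹ := by
    intro y hy
    simp only [ψ, dif_pos (hex y hy)]
    exact Classical.choose_spec (hex y hy)
  refine ⟨ψ, ?_, hspec⟩
  exact (isFM_iff_of_realized hreal).mpr
    ⟨fun y hy => (hR hy).1, fun y hy => (hspec y hy).1, g, fun y hy => (hspec y hy).2⟩

/-- Normality from partial maps. -/
theorem isNormal_of_forall_isFM [Finite S] (F : FusionSystem S) {Q : Subgroup Ω} (hQS : Q ≤ S)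
    (h : ∀ (P : Subgroup Ω) (θ : Ω → Ω), IsFM F P θ →
      ∃ θ', IsFM F (P ⊔ Q) θ' ∧ (∀ x ∈ P, θ' x = θ x) ∧ ∀ x ∈ Q, θ' x ∈ Q) : F.IsNormal Q := by
  refine ⟨hQS, fun P φ hφ => ?_⟩
  obtain ⟨θ', hθ', hext, hQ⟩ := h P (ofHom φ) (isFM_ofHom hφ)
  haveI : Finite ↥Q := finite_of_le hQS
  have himg := hθ'.isImage_self_of_forall_mem (le_sup_right : Q ≤ P ⊔ Q) hQ
  obtain ⟨ψ, hψ, h1⟩ := hθ'
  refine ⟨ψ, hψ, fun x => ?_, ?_⟩
  · rw [h1]
    show θ' (x : Ω) = φ x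
    rw [hext x x.2, ofHom_apply]
  · rw [map_subgroupOf_eq_iff]
    refine ⟨fun y hy => ?_, fun z hz => ?_⟩
    · rw [h1]
      exact hQ _ hy
    · obtain ⟨x, hx, rfl⟩ := (himg z).mp hz
      exact ⟨⟨x, (le_sup_right : Q ≤ P ⊔ Q) hx⟩, hx, h1 _⟩

/-- Maps of the system preserve strongly closed subgroups. -/
theorem IsFM.mem_of_stronglyClosed {F : FusionSystem S} {Q : Subgroup Ω} (hQ : F.StronglyClosed Q) {P : Subgroup Ω}
    {θ : Ω → Ω} (h : IsFM F P θ) {x : Ω} (hxP : x ∈ P) (hxQ : x ∈ Q) : θ x ∈ Q := by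
  have h1 : IsFM F (P ⊓ Q) θ := h.mono inf_le_left
  obtain ⟨φ, hφ, he⟩ := h1
  have := hQ.2 (P ⊓ Q) inf_le_right φ hφ ⟨x, hxP, hxQ⟩
  rw [he] at this
  exact this

end Cfsg.Agent.Lib.Helper27.FM
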