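import Mathlib
import Cfsg.Prelude.Def_Solvable
import Cfsg.Agent.Lib.Helper26.McLDefs
import Cfsg.Agent.Lib.Helper26.McLBasic
import Cfsg.Agent.Lib.Helper26.McLMore

/-!
S5075 (McLaughlin over `ZMod p`), leaf **PolGlue** (`polar_glue`, generic field): gluing two
orthogonal pieces of a polarity datum.  Exact signature of `notes/S5075_leaves.lean`.
-/

set_option autoImplicit false
set_option linter.unusedSectionVars false
set_option linter.unusedVariables false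

namespace Cfsg.Agent.Lib.Helper27.McLLeaf
open Module Cfsg.Agent.Lib.Helper26.McL

universe u
variable {p : ℕ} [Fact p.Prime] {V : Type u} [AddCommGroup V] [Module (ZMod p) V]
variable {K : Subgroup (V ≃ₗ[ZMod p] V)}

section Generic
variable {F : Type*} [Field F] {N : Type*} [AddCommGroup N] [Module F N]

/-- skew-symmetry of an alternating form -/
theorem alt_skew {B : LinearMap.BilinForm F N} (hB : B.IsAlt) (x y : N) : B x y = - B y x := by
  have := hB.neg_eq y x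
  rw [← this]

/-- transitivity of the "transvection moves" `e ↦ e + t B(e',e) e'` on the non-zero vectors of a
subspace on which `B` is non-degenerate -/
theorem pol_trans_of_moves (B : LinearMap.BilinForm F N) (hB : B.IsAlt) (S : Submodule F N)
    (hnd : ∀ u ∈ S, u ≠ 0 → ∃ u' ∈ S, B u u' ≠ 0) (P : N → Prop)
    (hmove : ∀ e ∈ S, e ≠ 0 → ∀ e' ∈ S, e' ≠ 0 → ∀ t : F, P e → P (e + (t * B e' e) • e'))
    {e e'' : N} (he : e ∈ S) (he0 : e ≠ 0) (he'' : e'' ∈ S) (he''0 : e'' ≠ 0) (hP : P e) :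
    P e'' := by
  have step : ∀ e e'' : N, e ∈ S → e ≠ 0 → e'' ∈ S → B e e'' ≠ 0 → P e → P e'' := by
    intro e e'' he he0 he'' hne hP
    have he'0 : e - e'' ≠ 0 := by
      intro h0
      rw [sub_eq_zero] at h0
      rw [← h0, hB e] at hne
      exact hne rfl
    have h1 := hmove e he he0 (e - e'') (S.sub_mem he he'') he'0 (-(B e e'')⁻¹) hP
    have h2 : B (e - e'') e = B e e'' := by
      rw [map_sub, LinearMap.sub_apply, hB e, zero_sub, ← alt_skew hB]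
    rw [h2, neg_mul, inv_mul_cancel₀ hne, neg_smul, one_smul] at h1
    simpa using h1
  by_cases hne : B e e'' = 0
  · obtain ⟨a, ha, hea⟩ := hnd e he he0
    obtain ⟨b, hb, heb⟩ := hnd e'' he'' he''0
    have key : ∃ m ∈ S, B e m ≠ 0 ∧ B e'' m ≠ 0 := by
      by_cases h1 : B e'' a = 0
      · by_cases h2 : B e b = 0
        · refine ⟨a + b, S.add_mem ha hb, ?_, ?_⟩
          · rw [map_add, h2, add_zero]; exact hea
          · rw [map_add, h1, zero_add]; exact heb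
        · exact ⟨b, hb, h2, heb⟩
      · exact ⟨a, ha, hea, h1⟩
    obtain ⟨m, hm, hem, he''m⟩ := key
    have hm0 : m ≠ 0 := by
      intro h0
      rw [h0, map_zero] at hem
      exact hem rfl
    have hPm := step e m he he0 hm hem hP
    have hme'' : B m e'' ≠ 0 := by
      rw [alt_skew hB]
      exact neg_ne_zero.2 he''m
    exact step m e'' hm hm0 he'' hme'' hPm
  · exact step e e'' he he0 he'' hne hP

variable [FiniteDimensional F N]

/-- the hypotheses of `polar_glue` -/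
structure PolGlueCtx (Φ : N → Submodule F (Dual F N)) (Na Nb : Submodule F N)
    (Ba Bb : LinearMap.BilinForm F N) : Prop where
  h1 : ∀ v, v ≠ 0 → finrank F (Φ v) = 1
  h0 : ∀ v, ∀ φ ∈ Φ v, φ v = 0
  h2 : ∀ v w, v ≠ 0 → w ≠ 0 → ∀ φ ∈ Φ v, ∀ ψ ∈ Φ w, ψ - ψ v • φ ∈ Φ (w + φ w • v)
  hsymm : ∀ v w, v ≠ 0 → w ≠ 0 → (∀ φ ∈ Φ v, φ w = 0) → ∀ ψ ∈ Φ w, ψ v = 0
  hc : IsCompl Na Nb
  hBa : Ba.IsAlt
  hBb : Bb.IsAlt
  hab : ∀ u ∈ Nb, Ba u = 0
  hba : ∀ u ∈ Na, Bb u = 0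
  hΦa : ∀ u ∈ Na, u ≠ 0 → Φ u = Submodule.span F {Ba u}
  hΦb : ∀ u ∈ Nb, u ≠ 0 → Φ u = Submodule.span F {Bb u}

namespace PolGlueCtx

variable {Φ : N → Submodule F (Dual F N)} {Na Nb : Submodule F N}
  {Ba Bb : LinearMap.BilinForm F N}

theorem symm (C : PolGlueCtx Φ Na Nb Ba Bb) : PolGlueCtx Φ Nb Na Bb Ba :=
  { h1 := C.h1, h0 := C.h0, h2 := C.h2, hsymm := C.hsymm, hc := C.hc.symm, hBa := C.hBb,
    hBb := C.hBa, hab := C.hba, hba := C.hab, hΦa := C.hΦb, hΦb := C.hΦa }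

/-- a one-dimensional `Φ w` is spanned by any of its non-zero elements -/
theorem eq_span (C : PolGlueCtx Φ Na Nb Ba Bb) {w : N} (hw : w ≠ 0) {ψ : Dual F N}
    (hψ : ψ ∈ Φ w) (hψ0 : ψ ≠ 0) : Φ w = Submodule.span F {ψ} := by
  have hle : Submodule.span F {ψ} ≤ Φ w := by
    rw [Submodule.span_singleton_le_iff_mem]
    exact hψ
  exact (Submodule.eq_of_le_of_finrank_eq hle
    (by rw [finrank_span_singleton hψ0, C.h1 w hw])).symm

theorem Ba_ne (C : PolGlueCtx Φ Na Nb Ba Bb) {e : N} (he : e ∈ Na) (he0 : e ≠ 0) : Ba e ≠ 0 := by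
  intro h
  have h1 := C.h1 e he0
  rw [C.hΦa e he he0, h] at h1
  have h2 : Submodule.span F {(0 : N →ₗ[F] F)} = (⊥ : Submodule F (Dual F N)) :=
    Submodule.span_zero_singleton F
  rw [h2, finrank_bot] at h1
  exact zero_ne_one h1

/-- `Ba u` kills `Nb` -/
theorem Ba_right (C : PolGlueCtx Φ Na Nb Ba Bb) (u : N) {z : N} (hz : z ∈ Nb) : Ba u z = 0 := by
  rw [alt_skew C.hBa, C.hab z hz]
  simp

theorem decomp (C : PolGlueCtx Φ Na Nb Ba Bb) (u : N) : ∃ ua ∈ Na, ∃ ub ∈ Nb, ua + ub = u := by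
  have : u ∈ Na ⊔ Nb := by rw [C.hc.sup_eq_top]; exact Submodule.mem_top
  exact Submodule.mem_sup.1 this

theorem exists_partner (C : PolGlueCtx Φ Na Nb Ba Bb) {e : N} (he : e ∈ Na) (he0 : e ≠ 0) :
    ∃ e₁ ∈ Na, Ba e e₁ = 1 := by
  have hne := C.Ba_ne he he0
  obtain ⟨u, hu⟩ : ∃ u, Ba e u ≠ 0 := by
    by_contra hcon
    push Not at hcon
    exact hne (LinearMap.ext hcon)
  obtain ⟨ua, hua, ub, hub, rfl⟩ := C.decomp u
  rw [map_add, C.Ba_right e hub, add_zero] at hu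
  refine ⟨(Ba e ua)⁻¹ • ua, Na.smul_mem _ hua, ?_⟩
  rw [map_smul, smul_eq_mul, inv_mul_cancel₀ hu]

theorem add_ne_zero (C : PolGlueCtx Φ Na Nb Ba Bb) {e z : N} (he : e ∈ Na) (hz : z ∈ Nb)
    (hz0 : z ≠ 0) : e + z ≠ 0 := by
  intro h
  have h1 : z = -e := by rw [eq_neg_iff_add_eq_zero, add_comm]; exact h
  have h2 : z ∈ Na := by rw [h1]; exact Na.neg_mem he
  have h3 : z ∈ Na ⊓ Nb := ⟨h2, hz⟩
  rw [C.hc.inf_eq_bot] at h3
  exact hz0 ((Submodule.mem_bot F).1 h3)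

/-- `φ ∈ Φ (e + z)` kills the part of `Na` perpendicular to `e` -/
theorem kill (C : PolGlueCtx Φ Na Nb Ba Bb) {e z : N} (he : e ∈ Na) (hz : z ∈ Nb) (hz0 : z ≠ 0)
    {φ : Dual F N} (hφ : φ ∈ Φ (e + z)) {e' : N} (he' : e' ∈ Na) (h : Ba e e' = 0) :
    φ e' = 0 := by
  by_cases he'0 : e' = 0
  · rw [he'0, map_zero]
  · refine C.hsymm e' (e + z) he'0 (C.add_ne_zero he hz hz0) ?_ φ hφ
    intro ψ hψ
    rw [C.hΦa e' he' he'0, Submodule.mem_span_singleton] at hψ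
    obtain ⟨k, rfl⟩ := hψ
    rw [LinearMap.smul_apply, map_add, C.Ba_right e' hz, add_zero, alt_skew C.hBa, h]
    simp

/-- a non-zero `φ ∈ Φ (e + z)` does not kill `e₁ ∈ Na` with `Ba e e₁ ≠ 0` -/
theorem nonkill (C : PolGlueCtx Φ Na Nb Ba Bb) {e z : N} (he : e ∈ Na) (hz : z ∈ Nb) (hz0 : z ≠ 0)
    {φ : Dual F N} (hφ : φ ∈ Φ (e + z)) (hφ0 : φ ≠ 0) {e₁ : N} (he₁ : e₁ ∈ Na)
    (h : Ba e e₁ ≠ 0) : φ e₁ ≠ 0 := by
  intro hcon
  have he₁0 : e₁ ≠ 0 := by
    intro h0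
    rw [h0, map_zero] at h
    exact h rfl
  have hw := C.add_ne_zero he hz hz0
  have hall : ∀ ψ ∈ Φ (e + z), ψ e₁ = 0 := by
    intro ψ hψ
    rw [C.eq_span hw hφ hφ0, Submodule.mem_span_singleton] at hψ
    obtain ⟨k, rfl⟩ := hψ
    rw [LinearMap.smul_apply, hcon, smul_zero]
  have h3 := C.hsymm (e + z) e₁ hw he₁0 hall (Ba e₁)
    (by rw [C.hΦa e₁ he₁ he₁0]; exact Submodule.mem_span_singleton_self _)
  rw [map_add, C.Ba_right e₁ hz, add_zero, alt_skew C.hBa] at h3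
  exact h (neg_eq_zero.1 h3)

/-- the shape of `Φ (e + z)` -/
theorem mixed (C : PolGlueCtx Φ Na Nb Ba Bb) {e z : N} (he : e ∈ Na) (he0 : e ≠ 0) (hz : z ∈ Nb)
    (hz0 : z ≠ 0) : ∃ c : F, c ≠ 0 ∧ Φ (e + z) = Submodule.span F {c • Ba e + Bb z} := by
  have hw := C.add_ne_zero he hz hz0
  obtain ⟨φ, hφ, hφ0⟩ : ∃ φ ∈ Φ (e + z), φ ≠ 0 := by
    have h1 := C.h1 (e + z) hw
    have hne : Φ (e + z) ≠ ⊥ := by
      intro hbot
      rw [hbot] at h1
      simp at h1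
    exact (Submodule.ne_bot_iff _).1 hne
  obtain ⟨e₁, he₁, hee₁⟩ := C.exists_partner he he0
  obtain ⟨z₁, hz₁, hzz₁⟩ := C.symm.exists_partner hz hz0
  have hα : φ e₁ ≠ 0 := C.nonkill he hz hz0 hφ hφ0 he₁ (by rw [hee₁]; exact one_ne_zero)
  have hφ' : φ ∈ Φ (z + e) := by rw [add_comm]; exact hφ
  have hβ : φ z₁ ≠ 0 :=
    C.symm.nonkill hz he he0 hφ' hφ0 hz₁ (by rw [hzz₁]; exact one_ne_zero)
  have hform : φ = φ e₁ • Ba e + φ z₁ • Bb z := by
    apply LinearMap.ext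
    intro u
    obtain ⟨ua, hua, ub, hub, rfl⟩ := C.decomp u
    have h1 : φ (ua - Ba e ua • e₁) = 0 := by
      apply C.kill he hz hz0 hφ (Na.sub_mem hua (Na.smul_mem _ he₁))
      rw [map_sub, map_smul, hee₁, smul_eq_mul, mul_one, sub_self]
    have h2 : φ (ub - Bb z ub • z₁) = 0 := by
      apply C.symm.kill hz he he0 hφ' (Nb.sub_mem hub (Nb.smul_mem _ hz₁))
      rw [map_sub, map_smul, hzz₁, smul_eq_mul, mul_one, sub_self]
    rw [map_sub, map_smul, sub_eq_zero] at h1 h2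
    rw [map_add, h1, h2, LinearMap.add_apply, LinearMap.smul_apply, LinearMap.smul_apply,
      map_add, map_add, C.Ba_right e hub, C.symm.Ba_right z hua]
    simp only [smul_eq_mul, add_zero, zero_add]
    ring
  refine ⟨φ e₁ / φ z₁, div_ne_zero hα hβ, ?_⟩
  rw [C.eq_span hw hφ hφ0]
  have h3 : φ = φ z₁ • ((φ e₁ / φ z₁) • Ba e + Bb z) := by
    rw [smul_add, smul_smul, mul_div_cancel₀ _ hβ]
    exact hform
  rw [h3]
  rw [Submodule.span_singleton_smul_eq (IsUnit.mk0 _ hβ)]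
  congr 2
  rw [← h3]

/-- `c • Ba e + Bb z ≠ 0` for `z ∈ Nb \ 0` -/
theorem form_ne (C : PolGlueCtx Φ Na Nb Ba Bb) (c : F) (e : N) {z : N} (hz : z ∈ Nb) (hz0 : z ≠ 0) :
    c • Ba e + Bb z ≠ 0 := by
  intro h
  obtain ⟨z₁, hz₁, hzz₁⟩ := C.symm.exists_partner hz hz0
  have h1 := LinearMap.congr_fun h z₁
  rw [LinearMap.add_apply, LinearMap.smul_apply, C.Ba_right e hz₁, smul_zero, zero_add, hzz₁,
    LinearMap.zero_apply] at h1
  exact one_ne_zero h1

/-- the invariance of `c` under the moves in `Na` -/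
theorem moveA (C : PolGlueCtx Φ Na Nb Ba Bb) {e z : N} (he : e ∈ Na) (hz : z ∈ Nb) (hz0 : z ≠ 0)
    {c : F} (hΦ : Φ (e + z) = Submodule.span F {c • Ba e + Bb z}) {e' : N} (he' : e' ∈ Na)
    (he'0 : e' ≠ 0) (t : F) :
    Φ ((e + (t * Ba e' e) • e') + z) =
      Submodule.span F {c • Ba (e + (t * Ba e' e) • e') + Bb z} := by
  have hw := C.add_ne_zero he hz hz0
  have hmem : t • Ba e' ∈ Φ e' := by
    rw [C.hΦa e' he' he'0]
    exact Submodule.smul_mem _ _ (Submodule.mem_span_singleton_self _)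
  have hmem2 : c • Ba e + Bb z ∈ Φ (e + z) := by
    rw [hΦ]
    exact Submodule.mem_span_singleton_self _
  have h3 := C.h2 e' (e + z) he'0 hw (t • Ba e') hmem (c • Ba e + Bb z) hmem2
  have hvec : e + z + (t • Ba e') (e + z) • e' = (e + (t * Ba e' e) • e') + z := by
    rw [LinearMap.smul_apply, map_add, C.Ba_right e' hz, add_zero, smul_eq_mul]
    abel
  have hfun : c • Ba e + Bb z - (c • Ba e + Bb z) e' • t • Ba e' =
      c • Ba (e + (t * Ba e' e) • e') + Bb z := by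
    rw [LinearMap.add_apply, LinearMap.smul_apply, C.symm.Ba_right z he', add_zero, map_add,
      map_smul, alt_skew C.hBa e e']
    simp only [smul_eq_mul, smul_add, smul_smul]
    have : -(c * -(Ba e') e * t) = c * (t * (Ba e') e) := by ring
    rw [sub_eq_add_neg, ← neg_smul, mul_neg, neg_mul, neg_neg]
    rw [show c * (Ba e') e * t = c * (t * (Ba e') e) by ring]
    abel
  rw [hvec, hfun] at h3
  have hw' : (e + (t * Ba e' e) • e') + z ≠ 0 :=
    C.add_ne_zero (Na.add_mem he (Na.smul_mem _ he')) hz hz0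
  exact C.eq_span hw' h3 (C.form_ne c _ hz hz0)

/-- conversion between the two normalisations -/
theorem conv (C : PolGlueCtx Φ Na Nb Ba Bb) {e z : N} {c : F} (hc : c ≠ 0)
    (hΦ : Φ (e + z) = Submodule.span F {c • Ba e + Bb z}) :
    Φ (z + e) = Submodule.span F {c⁻¹ • Bb z + Ba e} := by
  rw [add_comm, hΦ]
  have h1 : c⁻¹ • Bb z + Ba e = c⁻¹ • (c • Ba e + Bb z) := by
    rw [smul_add, smul_smul, inv_mul_cancel₀ hc, one_smul, add_comm]
  rw [h1, Submodule.span_singleton_smul_eq (IsUnit.mk0 _ (inv_ne_zero hc))]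

end PolGlueCtx

end Generic

/-- **PolGlue** (generic field).  Gluing two orthogonal pieces of a polarity datum. -/
theorem polar_glue {F : Type*} [Field F] {N : Type*} [AddCommGroup N] [Module F N]
    [FiniteDimensional F N] (Φ : N → Submodule F (Dual F N))
    (h1 : ∀ v, v ≠ 0 → finrank F (Φ v) = 1) (h0 : ∀ v, ∀ φ ∈ Φ v, φ v = 0)
    (h2 : ∀ v w, v ≠ 0 → w ≠ 0 → ∀ φ ∈ Φ v, ∀ ψ ∈ Φ w, ψ - ψ v • φ ∈ Φ (w + φ w • v))
    (hsymm : ∀ v w, v ≠ 0 → w ≠ 0 → (∀ φ ∈ Φ v, φ w = 0) → ∀ ψ ∈ Φ w, ψ v = 0)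
    (Na Nb : Submodule F N) (hc : IsCompl Na Nb) (Ba Bb : LinearMap.BilinForm F N)
    (hBa : Ba.IsAlt) (hBb : Bb.IsAlt) (hab : ∀ u ∈ Nb, Ba u = 0) (hba : ∀ u ∈ Na, Bb u = 0)
    (hΦa : ∀ u ∈ Na, u ≠ 0 → Φ u = Submodule.span F {Ba u})
    (hΦb : ∀ u ∈ Nb, u ≠ 0 → Φ u = Submodule.span F {Bb u}) :
    ∃ c : F, c ≠ 0 ∧ ∀ v, v ≠ 0 → Φ v = Submodule.span F {(c • Ba + Bb) v} := by
  have C : PolGlueCtx Φ Na Nb Ba Bb :=
    { h1 := h1, h0 := h0, h2 := h2, hsymm := hsymm, hc := hc, hBa := hBa, hBb := hBb,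
      hab := hab, hba := hba, hΦa := hΦa, hΦb := hΦb }
  have hval : ∀ (c : F) (e z : N), e ∈ Na → z ∈ Nb →
      (c • Ba + Bb) (e + z) = c • Ba e + Bb z := by
    intro c e z he hz
    rw [LinearMap.add_apply, LinearMap.smul_apply, map_add, map_add, hab z hz, hba e he]
    simp
  by_cases hA : ∃ e₀ ∈ Na, e₀ ≠ 0
  · by_cases hB : ∃ z₀ ∈ Nb, z₀ ≠ 0
    · obtain ⟨e₀, he₀, he₀0⟩ := hA
      obtain ⟨z₀, hz₀, hz₀0⟩ := hB
      obtain ⟨c, hc0, hcΦ⟩ := C.mixed he₀ he₀0 hz₀ hz₀0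
      refine ⟨c, hc0, ?_⟩
      intro v hv
      obtain ⟨e, he, z, hz, rfl⟩ := C.decomp v
      rw [hval c e z he hz]
      by_cases hz0 : z = 0
      · subst hz0
        rw [add_zero] at hv ⊢
        rw [hΦa e he hv, map_zero, add_zero,
          Submodule.span_singleton_smul_eq (IsUnit.mk0 _ hc0)]
      · by_cases he0 : e = 0
        · subst he0
          rw [zero_add] at hv ⊢
          rw [hΦb z hz hv, map_zero, smul_zero, zero_add]
        · have hndA : ∀ u ∈ Na, u ≠ 0 → ∃ u' ∈ Na, Ba u u' ≠ 0 := by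
            intro u hu hu0
            obtain ⟨u', hu', h⟩ := C.exists_partner hu hu0
            exact ⟨u', hu', by rw [h]; exact one_ne_zero⟩
          have hndB : ∀ u ∈ Nb, u ≠ 0 → ∃ u' ∈ Nb, Bb u u' ≠ 0 := by
            intro u hu hu0
            obtain ⟨u', hu', h⟩ := C.symm.exists_partner hu hu0
            exact ⟨u', hu', by rw [h]; exact one_ne_zero⟩
          have hstepA : Φ (e + z₀) = Submodule.span F {c • Ba e + Bb z₀} :=
            pol_trans_of_moves Ba hBa Na hndA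
              (fun e' => Φ (e' + z₀) = Submodule.span F {c • Ba e' + Bb z₀})
              (fun e1 he1 he10 e' he' he'0 t hP => C.moveA he1 hz₀ hz₀0 hP he' he'0 t)
              he₀ he₀0 he he0 hcΦ
          have hstepA' := C.conv hc0 hstepA
          have hstepB : Φ (z + e) = Submodule.span F {c⁻¹ • Bb z + Ba e} :=
            pol_trans_of_moves Bb hBb Nb hndB
              (fun z' => Φ (z' + e) = Submodule.span F {c⁻¹ • Bb z' + Ba e})
              (fun z1 hz1 hz10 z' hz' hz'0 t hP => C.symm.moveA hz1 he he0 hP hz' hz'0 t)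
              hz₀ hz₀0 hz hz0 hstepA'
          have hfin := C.symm.conv (inv_ne_zero hc0) hstepB
          rw [inv_inv] at hfin
          exact hfin
    · push Not at hB
      refine ⟨1, one_ne_zero, ?_⟩
      intro v hv
      obtain ⟨e, he, z, hz, rfl⟩ := C.decomp v
      have hz0 : z = 0 := hB z hz
      subst hz0
      rw [hval 1 e 0 he hz, map_zero, add_zero, one_smul]
      rw [add_zero] at hv ⊢
      exact hΦa e he hv
  · push Not at hA
    refine ⟨1, one_ne_zero, ?_⟩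
    intro v hv
    obtain ⟨e, he, z, hz, rfl⟩ := C.decomp v
    have he0 : e = 0 := hA e he
    subst he0
    rw [hval 1 0 z he hz, map_zero, smul_zero, zero_add]
    rw [zero_add] at hv ⊢
    exact hΦb z hz hv

end Cfsg.Agent.Lib.Helper27.McLLeaf
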