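import Mathlib
import Cfsg.Prelude.Def_Solvable
import Cfsg.Agent.Lib.Helper26.McLDefs
import Cfsg.Agent.Lib.Helper26.McLBasic
import Cfsg.Agent.Lib.Helper26.McLMore

/-!
S5075 (McLaughlin over `ZMod p`), leaf **PolMain** (`exists_form_of_polarity`, generic field), part A:
splitting off a hyperbolic pair from a polarity datum.
-/

set_option autoImplicit false
set_option linter.unusedSectionVars false
set_option linter.unusedVariables false

namespace Cfsg.Agent.Lib.Helper27.McLLeaf
open Module Cfsg.Agent.Lib.Helper26.McL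

section Generic
variable {F : Type*} [Field F] {N : Type*} [AddCommGroup N] [Module F N]

theorem exists_ne_of_finrank_one {M : Type*} [AddCommGroup M] [Module F M] {S : Submodule F M}
    (h : finrank F S = 1) : ∃ φ ∈ S, φ ≠ 0 := by
  have hne : S ≠ ⊥ := by
    intro hbot
    rw [hbot, finrank_bot] at h
    exact zero_ne_one h
  exact (Submodule.ne_bot_iff _).1 hne

theorem eq_span_of_finrank_one {M : Type*} [AddCommGroup M] [Module F M] [FiniteDimensional F M]
    {S : Submodule F M} (h : finrank F S = 1) {φ : M} (hφ : φ ∈ S) (hφ0 : φ ≠ 0) :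
    S = Submodule.span F {φ} := by
  have hle : Submodule.span F {φ} ≤ S := by
    rw [Submodule.span_singleton_le_iff_mem]
    exact hφ
  exact (Submodule.eq_of_le_of_finrank_eq hle (by rw [finrank_span_singleton hφ0, h])).symm

theorem span_zero_dual_ne (M : Type*) [AddCommGroup M] [Module F M] :
    finrank F (Submodule.span F {(0 : M)}) ≠ 1 := by
  rw [Submodule.span_zero_singleton, finrank_bot]
  exact zero_ne_one

variable [FiniteDimensional F N]

/-- a polarity datum with a chosen hyperbolic pair -/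
structure PolPairCtx (Φ : N → Submodule F (Dual F N)) (x y : N) (φx ψy : Dual F N) : Prop where
  h1 : ∀ v, v ≠ 0 → finrank F (Φ v) = 1
  h0 : ∀ v, ∀ φ ∈ Φ v, φ v = 0
  h2 : ∀ v w, v ≠ 0 → w ≠ 0 → ∀ φ ∈ Φ v, ∀ ψ ∈ Φ w, ψ - ψ v • φ ∈ Φ (w + φ w • v)
  hsymm : ∀ v w, v ≠ 0 → w ≠ 0 → (∀ φ ∈ Φ v, φ w = 0) → ∀ ψ ∈ Φ w, ψ v = 0
  hx : x ≠ 0
  hy : y ≠ 0
  hΦx : Φ x = Submodule.span F {φx}
  hΦy : Φ y = Submodule.span F {ψy}
  hxy : φx y = 1
  ha : ψy x ≠ 0

/-- the hyperbolic plane -/
def polNa (x y : N) : Submodule F N := Submodule.span F {x, y}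

/-- its perpendicular space -/
def polNb (φx ψy : Dual F N) : Submodule F N := LinearMap.ker φx ⊓ LinearMap.ker ψy

/-- the form of the hyperbolic plane, extended by zero -/
def polBa (φx ψy : Dual F N) : LinearMap.BilinForm F N := φx.smulRight ψy - ψy.smulRight φx

theorem polBa_apply (φx ψy : Dual F N) (u u' : N) :
    polBa φx ψy u u' = φx u * ψy u' - ψy u * φx u' := by
  simp [polBa]

theorem polBa_isAlt (φx ψy : Dual F N) : (polBa φx ψy).IsAlt := by
  intro u
  rw [polBa_apply]
  ring

theorem mem_polNb {φx ψy : Dual F N} {u : N} : u ∈ polNb φx ψy ↔ φx u = 0 ∧ ψy u = 0 := by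
  simp [polNb]

theorem polBa_eq_zero {φx ψy : Dual F N} {u : N} (hu : u ∈ polNb φx ψy) : polBa φx ψy u = 0 := by
  apply LinearMap.ext
  intro u'
  rw [polBa_apply, (mem_polNb.1 hu).1, (mem_polNb.1 hu).2]
  simp

namespace PolPairCtx
variable {Φ : N → Submodule F (Dual F N)} {x y : N} {φx ψy : Dual F N}

theorem hxx (C : PolPairCtx Φ x y φx ψy) : φx x = 0 :=
  C.h0 x φx (by rw [C.hΦx]; exact Submodule.mem_span_singleton_self _)

theorem hyy (C : PolPairCtx Φ x y φx ψy) : ψy y = 0 :=
  C.h0 y ψy (by rw [C.hΦy]; exact Submodule.mem_span_singleton_self _)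

/-- the decomposition `u = (ψy u / a) x + (φx u) y + rest` -/
theorem rest_mem (C : PolPairCtx Φ x y φx ψy) (u : N) :
    u - (ψy u / ψy x) • x - (φx u) • y ∈ polNb φx ψy := by
  rw [mem_polNb]
  constructor
  · rw [map_sub, map_sub, map_smul, map_smul, C.hxx, C.hxy]
    simp
  · rw [map_sub, map_sub, map_smul, map_smul, C.hyy, smul_eq_mul, div_mul_cancel₀ _ C.ha]
    simp

theorem isCompl (C : PolPairCtx Φ x y φx ψy) : IsCompl (polNa x y) (polNb φx ψy) := by
  constructor
  · rw [Submodule.disjoint_def]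
    intro u hu hu'
    obtain ⟨α, β, rfl⟩ := Submodule.mem_span_pair.1 hu
    rw [mem_polNb] at hu'
    obtain ⟨h1, h2⟩ := hu'
    rw [map_add, map_smul, map_smul, C.hxx, C.hxy] at h1
    rw [map_add, map_smul, map_smul, C.hyy] at h2
    simp only [smul_eq_mul, mul_zero, mul_one, zero_add, add_zero] at h1 h2
    have hα : α = 0 := by
      rcases mul_eq_zero.1 h2 with h | h
      · exact h
      · exact absurd h C.ha
    rw [hα, h1]
    simp
  · rw [codisjoint_iff, Submodule.eq_top_iff']
    intro u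
    rw [Submodule.mem_sup]
    refine ⟨(ψy u / ψy x) • x + (φx u) • y, ?_, _, C.rest_mem u, by abel⟩
    exact Submodule.mem_span_pair.2 ⟨_, _, rfl⟩

theorem x_mem (x y : N) : x ∈ polNa (F := F) x y := Submodule.subset_span (by simp)
theorem y_mem (x y : N) : y ∈ polNa (F := F) x y := Submodule.subset_span (by simp)

/-- `Φ z` kills the hyperbolic plane for `z` in its perpendicular space -/
theorem kills_pair (C : PolPairCtx Φ x y φx ψy) {z : N} (hz : z ∈ polNb φx ψy) (hz0 : z ≠ 0)
    {χ : Dual F N} (hχ : χ ∈ Φ z) : χ x = 0 ∧ χ y = 0 := by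
  rw [mem_polNb] at hz
  constructor
  · refine C.hsymm x z C.hx hz0 ?_ χ hχ
    intro φ hφ
    rw [C.hΦx, Submodule.mem_span_singleton] at hφ
    obtain ⟨k, rfl⟩ := hφ
    rw [LinearMap.smul_apply, hz.1, smul_zero]
  · refine C.hsymm y z C.hy hz0 ?_ χ hχ
    intro φ hφ
    rw [C.hΦy, Submodule.mem_span_singleton] at hφ
    obtain ⟨k, rfl⟩ := hφ
    rw [LinearMap.smul_apply, hz.2, smul_zero]

theorem kills_Na (C : PolPairCtx Φ x y φx ψy) {z : N} (hz : z ∈ polNb φx ψy) (hz0 : z ≠ 0)
    {χ : Dual F N} (hχ : χ ∈ Φ z) {e : N} (he : e ∈ polNa (F := F) x y) : χ e = 0 := by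
  obtain ⟨α, β, rfl⟩ := Submodule.mem_span_pair.1 he
  obtain ⟨h1, h2⟩ := C.kills_pair hz hz0 hχ
  rw [map_add, map_smul, map_smul, h1, h2]
  simp

/-- `Φ e` kills the perpendicular space for `e` in the hyperbolic plane -/
theorem kills_Nb (C : PolPairCtx Φ x y φx ψy) {e : N} (he : e ∈ polNa (F := F) x y) (he0 : e ≠ 0)
    {χ : Dual F N} (hχ : χ ∈ Φ e) {z : N} (hz : z ∈ polNb φx ψy) : χ z = 0 := by
  by_cases hz0 : z = 0
  · rw [hz0, map_zero]
  · exact C.hsymm z e hz0 he0 (fun ψ hψ => C.kills_Na hz hz0 hψ he) χ hχ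

/-- a functional killing the perpendicular space is a combination of `ψy`, `φx` -/
theorem eq_comb (C : PolPairCtx Φ x y φx ψy) {χ : Dual F N}
    (hχ : ∀ z ∈ polNb φx ψy, χ z = 0) : χ = (χ x / ψy x) • ψy + (χ y) • φx := by
  apply LinearMap.ext
  intro u
  have h := hχ _ (C.rest_mem u)
  rw [map_sub, map_sub, map_smul, map_smul, sub_sub, sub_eq_zero] at h
  rw [h, LinearMap.add_apply, LinearMap.smul_apply, LinearMap.smul_apply]
  simp only [smul_eq_mul]
  ring

/-- the datum on the hyperbolic plane -/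
theorem hΦa (C : PolPairCtx Φ x y φx ψy) {e : N} (he : e ∈ polNa (F := F) x y) (he0 : e ≠ 0) :
    Φ e = Submodule.span F {polBa φx ψy e} := by
  obtain ⟨α, β, rfl⟩ := Submodule.mem_span_pair.1 he
  have hφe : φx (α • x + β • y) = β := by
    rw [map_add, map_smul, map_smul, C.hxx, C.hxy]; simp
  have hψe : ψy (α • x + β • y) = α * ψy x := by
    rw [map_add, map_smul, map_smul, C.hyy]; simp
  have hBa : polBa φx ψy (α • x + β • y) = β • ψy - (α * ψy x) • φx := by
    apply LinearMap.ext
    intro u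
    rw [polBa_apply, hφe, hψe]
    simp
  have hne : polBa φx ψy (α • x + β • y) ≠ 0 := by
    intro h
    have hx' := LinearMap.congr_fun h x
    have hy' := LinearMap.congr_fun h y
    rw [polBa_apply, hφe, hψe, C.hxx] at hx'
    rw [polBa_apply, hφe, hψe, C.hyy, C.hxy] at hy'
    simp only [LinearMap.zero_apply, mul_zero, sub_zero, mul_one, zero_sub, neg_eq_zero] at hx' hy'
    have hβ : β = 0 := by
      rcases mul_eq_zero.1 hx' with h | h
      · exact h
      · exact absurd h C.ha
    have hα : α = 0 := by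
      rcases mul_eq_zero.1 hy' with h | h
      · exact h
      · exact absurd h C.ha
    apply he0
    rw [hα, hβ]
    simp
  have hle : Φ (α • x + β • y) ≤ Submodule.span F {polBa φx ψy (α • x + β • y)} := by
    intro χ hχ
    have hcomb := C.eq_comb (fun z hz => C.kills_Nb he he0 hχ hz)
    have hχe := C.h0 _ χ hχ
    rw [map_add, map_smul, map_smul] at hχe
    simp only [smul_eq_mul] at hχe
    rw [Submodule.mem_span_singleton, hBa]
    by_cases hβ : β = 0
    · have hα : α ≠ 0 := by
        intro hα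
        apply he0
        rw [hα, hβ]
        simp
      rw [hβ, zero_mul, add_zero] at hχe
      have hχx : χ x = 0 := by
        rcases mul_eq_zero.1 hχe with h | h
        · exact absurd h hα
        · exact h
      refine ⟨-(χ y / (α * ψy x)), ?_⟩
      have h3 : α * ψy x ≠ 0 := mul_ne_zero hα C.ha
      conv_rhs => rw [hcomb]
      rw [hχx, hβ, zero_div, zero_smul, zero_sub, zero_add, smul_neg, smul_smul,
        neg_mul, neg_smul, neg_neg, div_mul_cancel₀ _ h3]
    · refine ⟨χ x / (ψy x * β), ?_⟩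
      have hχy : χ y = -(α * χ x) / β := by
        field_simp
        linear_combination hχe
      conv_rhs => rw [hcomb]
      rw [smul_sub, smul_smul, smul_smul, hχy]
      have h3 := C.ha
      have e1 : χ x / (ψy x * β) * β = χ x / ψy x := by field_simp
      have e2 : χ x / (ψy x * β) * (α * ψy x) = -(-(α * χ x) / β) := by field_simp
      rw [e1, e2, neg_smul, sub_neg_eq_add]
  exact Submodule.eq_of_le_of_finrank_eq hle
    (by rw [finrank_span_singleton hne, C.h1 _ he0])

end PolPairCtx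

end Generic

end Cfsg.Agent.Lib.Helper27.McLLeaf
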