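import Mathlib
import Cfsg.Prelude.Def_Solvable
import Cfsg.Agent.Lib.Helper26.McLDefs
import Cfsg.Agent.Lib.Helper26.McLBasic
import Cfsg.Agent.Lib.Helper26.McLMore
import Cfsg.Agent.Lib.Helper27.McLPolMainA

/-!
S5075 (McLaughlin over `ZMod p`), leaf **PolMain** (`exists_form_of_polarity`, generic field): a polarity
datum equivariant under its own transvections comes from a non-degenerate alternating form.
Exact signature of `notes/S5075_leaves.lean`.
-/

set_option autoImplicit false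
set_option linter.unusedSectionVars false
set_option linter.unusedVariables false

namespace Cfsg.Agent.Lib.Helper27.McLLeaf
open Module Cfsg.Agent.Lib.Helper26.McL

universe u
variable {p : ℕ} [Fact p.Prime] {V : Type u} [AddCommGroup V] [Module (ZMod p) V]
variable {K : Subgroup (V ≃ₗ[ZMod p] V)}

section Generic
variable {F : Type*} [Field F] {N : Type*} [AddCommGroup N] [Module F N]

/-- restriction of functionals to a submodule -/
def polRes (S : Submodule F N) : Dual F N →ₗ[F] Dual F S := S.subtype.dualMap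

theorem polRes_apply (S : Submodule F N) (φ : Dual F N) (z : S) : polRes S φ z = φ (z : N) := rfl

/-- the restricted datum -/
def polΦb (Φ : N → Submodule F (Dual F N)) (S : Submodule F N) (z : S) : Submodule F (Dual F S) :=
  (Φ (z : N)).map (polRes S)

variable [FiniteDimensional F N]

namespace PolPairCtx
variable {Φ : N → Submodule F (Dual F N)} {x y : N} {φx ψy : Dual F N}

/-- a functional in `Φ z` (`z` in the perpendicular space) with zero restriction is zero -/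
theorem eq_zero_of_res (C : PolPairCtx Φ x y φx ψy) {z : N} (hz : z ∈ polNb φx ψy) (hz0 : z ≠ 0)
    {χ : Dual F N} (hχ : χ ∈ Φ z) (hres : polRes (polNb φx ψy) χ = 0) : χ = 0 := by
  have hk : ∀ w ∈ polNb φx ψy, χ w = 0 := by
    intro w hw
    have := LinearMap.congr_fun hres ⟨w, hw⟩
    simpa [polRes_apply] using this
  obtain ⟨h1, h2⟩ := C.kills_pair hz hz0 hχ
  rw [C.eq_comb hk, h1, h2]
  simp

theorem h1b (C : PolPairCtx Φ x y φx ψy) (z : polNb φx ψy) (hz : z ≠ 0) :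
    finrank F (polΦb Φ (polNb φx ψy) z) = 1 := by
  have hz0 : (z : N) ≠ 0 := fun h => hz (Subtype.ext h)
  obtain ⟨χ, hχ, hχ0⟩ := exists_ne_of_finrank_one (C.h1 _ hz0)
  have hspan := eq_span_of_finrank_one (C.h1 _ hz0) hχ hχ0
  unfold polΦb
  rw [hspan, Submodule.map_span, Set.image_singleton]
  apply finrank_span_singleton
  intro hres
  exact hχ0 (C.eq_zero_of_res z.2 hz0 hχ hres)

theorem h0b (C : PolPairCtx Φ x y φx ψy) (z : polNb φx ψy) :
    ∀ φ ∈ polΦb Φ (polNb φx ψy) z, φ z = 0 := by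
  intro φ' hφ'
  obtain ⟨φ, hφ, rfl⟩ := Submodule.mem_map.1 hφ'
  rw [polRes_apply]
  exact C.h0 _ φ hφ

theorem h2b (C : PolPairCtx Φ x y φx ψy) (v w : polNb φx ψy) (hv : v ≠ 0) (hw : w ≠ 0) :
    ∀ φ ∈ polΦb Φ (polNb φx ψy) v, ∀ ψ ∈ polΦb Φ (polNb φx ψy) w,
      ψ - ψ v • φ ∈ polΦb Φ (polNb φx ψy) (w + φ w • v) := by
  intro φ' hφ' ψ' hψ'
  obtain ⟨φ, hφ, rfl⟩ := Submodule.mem_map.1 hφ'
  obtain ⟨ψ, hψ, rfl⟩ := Submodule.mem_map.1 hψ'
  have hv0 : (v : N) ≠ 0 := fun h => hv (Subtype.ext h)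
  have hw0 : (w : N) ≠ 0 := fun h => hw (Subtype.ext h)
  have h3 := C.h2 _ _ hv0 hw0 φ hφ ψ hψ
  refine Submodule.mem_map.2 ⟨ψ - ψ (v : N) • φ, ?_, ?_⟩
  · rw [polRes_apply]
    exact h3
  · rw [map_sub, map_smul, polRes_apply]

/-- the datum on the perpendicular space in terms of the form given by the induction -/
theorem hΦb (C : PolPairCtx Φ x y φx ψy) (B₁ : LinearMap.BilinForm F (polNb φx ψy))
    (hB₁ : ∀ v : polNb φx ψy, v ≠ 0 →
      polΦb Φ (polNb φx ψy) v = Submodule.span F {B₁ v})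
    {z : N} (hz : z ∈ polNb φx ψy) (hz0 : z ≠ 0) :
    Φ z = Submodule.span F
      {(B₁.compl₁₂ (Submodule.projectionOnto (polNb φx ψy) (polNa x y) C.isCompl.symm)
        (Submodule.projectionOnto (polNb φx ψy) (polNa x y) C.isCompl.symm)) z} := by
  set π := Submodule.projectionOnto (polNb φx ψy) (polNa x y) C.isCompl.symm with hπ
  obtain ⟨χ, hχ, hχ0⟩ := exists_ne_of_finrank_one (C.h1 _ hz0)
  have hspan := eq_span_of_finrank_one (C.h1 _ hz0) hχ hχ0
  have hzz : (⟨z, hz⟩ : polNb φx ψy) ≠ 0 := fun h => hz0 (congrArg Subtype.val h)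
  have hmem : polRes (polNb φx ψy) χ ∈ polΦb Φ (polNb φx ψy) ⟨z, hz⟩ :=
    Submodule.mem_map.2 ⟨χ, hχ, rfl⟩
  rw [hB₁ _ hzz, Submodule.mem_span_singleton] at hmem
  obtain ⟨k, hk⟩ := hmem
  have hk0 : k ≠ 0 := by
    intro h0
    rw [h0, zero_smul] at hk
    exact hχ0 (C.eq_zero_of_res hz hz0 hχ hk.symm)
  have hπz : π z = ⟨z, hz⟩ := Submodule.projectionOnto_apply_left C.isCompl.symm ⟨z, hz⟩
  have hχeq : χ = k • (B₁.compl₁₂ π π) z := by
    apply LinearMap.ext
    intro u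
    have hu : u ∈ polNa x y ⊔ polNb φx ψy := by
      rw [C.isCompl.sup_eq_top]; exact Submodule.mem_top
    obtain ⟨ua, hua, ub, hub, rfl⟩ := Submodule.mem_sup.1 hu
    have hπa : π ua = 0 := Submodule.projectionOnto_apply_of_mem_right C.isCompl.symm hua
    have hπb : π ub = ⟨ub, hub⟩ :=
      Submodule.projectionOnto_apply_left C.isCompl.symm ⟨ub, hub⟩
    rw [map_add, C.kills_Na hz hz0 hχ hua, zero_add, LinearMap.smul_apply,
      LinearMap.compl₁₂_apply, map_add, hπa, zero_add, hπb, hπz]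
    have := LinearMap.congr_fun hk ⟨ub, hub⟩
    rw [LinearMap.smul_apply, polRes_apply] at this
    exact this.symm
  rw [hspan, hχeq, Submodule.span_singleton_smul_eq (IsUnit.mk0 _ hk0)]

end PolPairCtx

end Generic

/-- **PolMain** (generic field).  A polarity datum equivariant under its own transvections comes
from a non-degenerate alternating form. -/
theorem exists_form_of_polarity {F : Type*} [Field F]
    (hglue : ∀ {N : Type u} [AddCommGroup N] [Module F N] [FiniteDimensional F N]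
      (Φ : N → Submodule F (Dual F N)),
      (∀ v, v ≠ 0 → finrank F (Φ v) = 1) → (∀ v, ∀ φ ∈ Φ v, φ v = 0) →
      (∀ v w, v ≠ 0 → w ≠ 0 → ∀ φ ∈ Φ v, ∀ ψ ∈ Φ w, ψ - ψ v • φ ∈ Φ (w + φ w • v)) →
      (∀ v w, v ≠ 0 → w ≠ 0 → (∀ φ ∈ Φ v, φ w = 0) → ∀ ψ ∈ Φ w, ψ v = 0) →
      ∀ (Na Nb : Submodule F N), IsCompl Na Nb → ∀ (Ba Bb : LinearMap.BilinForm F N),
      Ba.IsAlt → Bb.IsAlt → (∀ u ∈ Nb, Ba u = 0) → (∀ u ∈ Na, Bb u = 0) →
      (∀ u ∈ Na, u ≠ 0 → Φ u = Submodule.span F {Ba u}) →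
      (∀ u ∈ Nb, u ≠ 0 → Φ u = Submodule.span F {Bb u}) →
      ∃ c : F, c ≠ 0 ∧ ∀ v, v ≠ 0 → Φ v = Submodule.span F {(c • Ba + Bb) v})
    {N : Type u} [AddCommGroup N] [Module F N] [FiniteDimensional F N]
    (Φ : N → Submodule F (Dual F N))
    (h1 : ∀ v, v ≠ 0 → finrank F (Φ v) = 1) (h0 : ∀ v, ∀ φ ∈ Φ v, φ v = 0)
    (h2 : ∀ v w, v ≠ 0 → w ≠ 0 → ∀ φ ∈ Φ v, ∀ ψ ∈ Φ w, ψ - ψ v • φ ∈ Φ (w + φ w • v))
    (hsymm : ∀ {N : Type u} [AddCommGroup N] [Module F N] [FiniteDimensional F N]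
      (Φ : N → Submodule F (Dual F N)),
      (∀ v, v ≠ 0 → finrank F (Φ v) = 1) → (∀ v, ∀ φ ∈ Φ v, φ v = 0) →
      (∀ v w, v ≠ 0 → w ≠ 0 → ∀ φ ∈ Φ v, ∀ ψ ∈ Φ w, ψ - ψ v • φ ∈ Φ (w + φ w • v)) →
      ∀ v w, v ≠ 0 → w ≠ 0 → (∀ φ ∈ Φ v, φ w = 0) → ∀ ψ ∈ Φ w, ψ v = 0) :
    ∃ B : LinearMap.BilinForm F N, B.IsAlt ∧ B.Nondegenerate ∧
      ∀ v, v ≠ 0 → Φ v = Submodule.span F {B v} := by
  suffices H : ∀ n : ℕ, ∀ (N : Type u) [AddCommGroup N] [Module F N] [FiniteDimensional F N],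
      finrank F N = n → ∀ Φ : N → Submodule F (Dual F N),
      (∀ v, v ≠ 0 → finrank F (Φ v) = 1) → (∀ v, ∀ φ ∈ Φ v, φ v = 0) →
      (∀ v w, v ≠ 0 → w ≠ 0 → ∀ φ ∈ Φ v, ∀ ψ ∈ Φ w, ψ - ψ v • φ ∈ Φ (w + φ w • v)) →
      ∃ B : LinearMap.BilinForm F N, B.IsAlt ∧ B.Nondegenerate ∧
        ∀ v, v ≠ 0 → Φ v = Submodule.span F {B v} from H _ N rfl Φ h1 h0 h2
  intro n
  induction n using Nat.strong_induction_on with
  | _ n ih =>
    intro N _ _ _ hn Φ h1 h0 h2
    by_cases htriv : ∀ v : N, v = 0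
    · refine ⟨0, fun x => by simp, ⟨fun m _ => htriv m, fun m _ => htriv m⟩, ?_⟩
      intro v hv
      exact absurd (htriv v) hv
    · push Not at htriv
      obtain ⟨x, hx⟩ := htriv
      have hsym := hsymm Φ h1 h0 h2
      obtain ⟨φx₀, hφx₀, hφx₀0⟩ := exists_ne_of_finrank_one (h1 x hx)
      obtain ⟨y₀, hy₀⟩ : ∃ y₀, φx₀ y₀ ≠ 0 := by
        by_contra hcon
        push Not at hcon
        exact hφx₀0 (LinearMap.ext hcon)
      -- normalise
      obtain ⟨y, hxy⟩ : ∃ y, φx₀ y = 1 :=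
        ⟨(φx₀ y₀)⁻¹ • y₀, by rw [map_smul, smul_eq_mul, inv_mul_cancel₀ hy₀]⟩
      have hy : y ≠ 0 := by
        intro h
        rw [h, map_zero] at hxy
        exact zero_ne_one hxy
      obtain ⟨ψy, hψy, hψy0⟩ := exists_ne_of_finrank_one (h1 y hy)
      have hΦx := eq_span_of_finrank_one (h1 x hx) hφx₀ hφx₀0
      have hΦy := eq_span_of_finrank_one (h1 y hy) hψy hψy0
      have ha : ψy x ≠ 0 := by
        intro hcon
        have hall : ∀ ψ ∈ Φ y, ψ x = 0 := by
          intro ψ hψ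
          rw [hΦy, Submodule.mem_span_singleton] at hψ
          obtain ⟨k, rfl⟩ := hψ
          rw [LinearMap.smul_apply, hcon, smul_zero]
        have := hsym y x hy hx hall φx₀ hφx₀
        rw [hxy] at this
        exact one_ne_zero this
      have C : PolPairCtx Φ x y φx₀ ψy :=
        { h1 := h1, h0 := h0, h2 := h2, hsymm := hsym, hx := hx, hy := hy, hΦx := hΦx,
          hΦy := hΦy, hxy := hxy, ha := ha }
      -- the induction on the perpendicular space
      have hlt : finrank F (polNb φx₀ ψy) < n := by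
        rw [← hn]
        apply Submodule.finrank_lt
        intro htop
        have : x ∈ polNb φx₀ ψy := by rw [htop]; exact Submodule.mem_top
        exact ha (mem_polNb.1 this).2
      obtain ⟨B₁, hB₁alt, hB₁nd, hB₁⟩ := ih _ hlt (polNb φx₀ ψy) rfl
        (polΦb Φ (polNb φx₀ ψy)) C.h1b C.h0b C.h2b
      set π := Submodule.projectionOnto (polNb φx₀ ψy) (polNa x y) C.isCompl.symm with hπ
      have hBb : (B₁.compl₁₂ π π).IsAlt := by
        intro u
        rw [LinearMap.compl₁₂_apply]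
        exact hB₁alt _
      have hba : ∀ u ∈ polNa (F := F) x y, (B₁.compl₁₂ π π) u = 0 := by
        intro u hu
        apply LinearMap.ext
        intro u'
        have hπu : π u = 0 := Submodule.projectionOnto_apply_of_mem_right C.isCompl.symm hu
        rw [LinearMap.compl₁₂_apply, hπu]
        simp
      obtain ⟨c, hc0, hall⟩ := hglue Φ h1 h0 h2 hsym (polNa x y) (polNb φx₀ ψy) C.isCompl
        (polBa φx₀ ψy) (B₁.compl₁₂ π π) (polBa_isAlt _ _) hBb
        (fun u hu => polBa_eq_zero hu) hba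
        (fun u hu hu0 => C.hΦa hu hu0) (fun u hu hu0 => C.hΦb B₁ hB₁ hu hu0)
      have hAlt : (c • polBa φx₀ ψy + B₁.compl₁₂ π π).IsAlt := by
        intro u
        rw [LinearMap.add_apply, LinearMap.add_apply, LinearMap.smul_apply, LinearMap.smul_apply,
          polBa_isAlt _ _ u, hBb u]
        simp
      refine ⟨c • polBa φx₀ ψy + B₁.compl₁₂ π π, hAlt,
        (LinearMap.IsRefl.nondegenerate_iff_separatingLeft hAlt.isRefl).2 ?_, hall⟩
      intro v hv
      by_contra hv0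
      have h3 := h1 v hv0
      have hBv : (c • polBa φx₀ ψy + B₁.compl₁₂ π π) v = 0 := LinearMap.ext hv
      rw [hall v hv0, hBv] at h3
      exact span_zero_dual_ne _ h3

end Cfsg.Agent.Lib.Helper27.McLLeaf
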