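import Mathlib
import Cfsg.Prelude.Def_Solvable
import Cfsg.Agent.Lib.Helper26.McLDefs
import Cfsg.Agent.Lib.Helper26.McLBasic
import Cfsg.Agent.Lib.Helper26.McLMore

/-!
S5075 (McLaughlin over `ZMod p`), leaf **PolS** (`polar_symm`, generic field): the perpendicularity
relation of a polarity datum is symmetric.  Exact signature of `notes/S5075_leaves.lean`.
-/

set_option autoImplicit false
set_option linter.unusedSectionVars false
set_option linter.unusedVariables false

namespace Cfsg.Agent.Lib.Helper27.McLLeaf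
open Module Cfsg.Agent.Lib.Helper26.McL

universe u
variable {p : ℕ} [Fact p.Prime] {V : Type u} [AddCommGroup V] [Module (ZMod p) V]
variable {K : Subgroup (V ≃ₗ[ZMod p] V)}

/-- **PolS** (generic field).  The perpendicularity relation of a polarity datum is symmetric. -/
theorem polar_symm {F : Type*} [Field F] {N : Type*} [AddCommGroup N] [Module F N]
    [FiniteDimensional F N] (Φ : N → Submodule F (Dual F N))
    (h1 : ∀ v, v ≠ 0 → finrank F (Φ v) = 1) (h0 : ∀ v, ∀ φ ∈ Φ v, φ v = 0)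
    (h2 : ∀ v w, v ≠ 0 → w ≠ 0 → ∀ φ ∈ Φ v, ∀ ψ ∈ Φ w, ψ - ψ v • φ ∈ Φ (w + φ w • v))
    {v w : N} (hv : v ≠ 0) (hw : w ≠ 0) (h : ∀ φ ∈ Φ v, φ w = 0) : ∀ ψ ∈ Φ w, ψ v = 0 := by
  intro ψ hψ
  by_contra hne
  have hle : Φ v ≤ Φ w := by
    intro φ hφ
    have h3 := h2 v w hv hw φ hφ ψ hψ
    rw [h φ hφ, zero_smul, add_zero] at h3
    have h4 : ψ v • φ ∈ Φ w := by
      have := (Φ w).sub_mem hψ h3
      simpa using this
    have h5 := (Φ w).smul_mem (ψ v)⁻¹ h4
    rwa [smul_smul, inv_mul_cancel₀ hne, one_smul] at h5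
  have heq : Φ v = Φ w := Submodule.eq_of_le_of_finrank_eq hle (by rw [h1 v hv, h1 w hw])
  exact hne (h0 v ψ (heq ▸ hψ))

end Cfsg.Agent.Lib.Helper27.McLLeaf
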