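import Cfsg.Agent.Lib.Helper27.OPMinStage
import Cfsg.Agent.Lib.Helper24.OPMinWS
import Cfsg.Agent.Lib.Helper22.OPMinB
import Cfsg.Agent.Lib.Helper13.OPMinI1
import Cfsg.Agent.Lib.Helper13.OPMinI2
import Cfsg.Agent.Lib.Helper13.OPMinAR
import Cfsg.Agent.Lib.Helper8.OPMinA
import Cfsg.Agent.Lib.Helper26.OPMinCon1
import Cfsg.Agent.Lib.Helper19.OPMinCon2
import Cfsg.Agent.Lib.Helper24.OPMinCon3
import Cfsg.Agent.Lib.Helper16.SLMinSpine

/-!
# S2345: the glue (helper27)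
-/

set_option autoImplicit false
set_option linter.unusedSectionVars false
set_option linter.unusedVariables false

namespace Cfsg.Agent.Lib.Helper27.OPMin

open Matrix Module Cfsg.Agent.Lib.Helper16.SLMin

section fixed

variable {F : Type*} [Field F] [Fintype F] [DecidableEq F] {n : ℕ} {H : Type*} [Group H]
  {M : Type*} [AddCommGroup M] [Module ℂ M] [FiniteDimensional ℂ M]
  (D : Siegel F n H) (ρ : Representation ℂ H M)

/-- the Levi factor preserves the fixed space of the radical -/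
theorem levi_mem_fixed (g : SpecialLinearGroup (Fin n) F) (m : M) (hm : m ∈ wt ρ D.radv 0) :
    ρ (D.levi g) m ∈ wt ρ D.radv 0 := by
  have h := Cfsg.Agent.Lib.Helper24.OPMin.map_wt_levi D ρ g 0 0 (by rw [toM_zero, Matrix.mul_zero, Matrix.zero_mul])
  rw [← h]
  exact ⟨m, hm, rfl⟩

/-- the fixed space of the radical as a representation of `SL_n` -/
noncomputable def fixedRep : Representation ℂ (SpecialLinearGroup (Fin n) F) ↥(wt ρ D.radv 0) where
  toFun g := (ρ (D.levi g)).restrict (fun m hm => levi_mem_fixed D ρ g m hm)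
  map_one' := by
    apply LinearMap.ext
    intro m
    apply Subtype.ext
    show ρ (D.levi 1) m.1 = m.1
    rw [map_one, map_one]
    rfl
  map_mul' g h := by
    apply LinearMap.ext
    intro m
    apply Subtype.ext
    show ρ (D.levi (g * h)) m.1 = ρ (D.levi g) (ρ (D.levi h) m.1)
    rw [map_mul, map_mul]
    rfl

theorem fixedRep_apply (g : SpecialLinearGroup (Fin n) F) (x : ↥(wt ρ D.radv 0)) :
    ((fixedRep D ρ g x : ↥(wt ρ D.radv 0)) : M) = ρ (D.levi g) (x : M) := rfl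

theorem trace_conj_eq (g y : H) :
    LinearMap.trace ℂ M (ρ (g * y * g⁻¹)) = LinearMap.trace ℂ M (ρ y) := by
  have h1 : ρ (g * y * g⁻¹) = ρ g * (ρ y * ρ g⁻¹) := by
    rw [mul_assoc, map_mul, map_mul]
  rw [h1, LinearMap.trace_mul_comm, mul_assoc, ← map_mul, inv_mul_cancel, map_one, mul_one]

end fixed

section MAIN

theorem main {F : Type*} [Field F] [Fintype F] (n : ℕ) (hn : 4 ≤ n) (h3 : 3 < Fintype.card F)
    (hT : ∀ (M₀ : Type) [AddCommGroup M₀] [Module ℂ M₀] [FiniteDimensional ℂ M₀]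
      (σ : Representation ℂ (SpecialLinearGroup (Fin n) F) M₀), (∃ g, σ g ≠ 1) →
      tgt (Fintype.card F) n ≤ finrank ℂ M₀) :
    ∀ (k : ℕ) (ρ : Representation ℂ (Cfsg.Omega F (Cfsg.quadFormPlus n F)) (Fin k → ℂ)),
      ρ.IsIrreducible → 2 ≤ k → bnd (Fintype.card F) n ≤ k := by
  classical
  intro k ρ hρ hk
  obtain ⟨D, hDrad, hDlevi⟩ := Cfsg.Agent.Lib.Helper26.OPMin.exists_siegel (F := F) (n := n) (by omega) h3
  have hcl := Cfsg.Agent.Lib.Helper19.OPMin.normalClosure_rad hn h3 D hDrad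
  obtain ⟨L, hLconj, hLcard, hLrad⟩ := Cfsg.Agent.Lib.Helper24.OPMin.exists_root_set hn h3 D hDrad
  have hfin : finrank ℂ (Fin k → ℂ) = k := Module.finrank_fin_fun ℂ
  have hq2 : 2 ≤ Fintype.card F := by omega
  have hnt : ∃ g, ρ g ≠ 1 := by
    by_contra hcon
    push Not at hcon
    exact Cfsg.Agent.Lib.Helper16.SLMinSpine.not_irr_of_trivial k hk ρ hcon hρ
  obtain ⟨v₁, hv₁0, hv₁⟩ := Cfsg.Agent.Lib.Helper24.OPMin.exists_wt_ne_bot D ρ hcl hnt
  rw [← hfin]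
  by_cases hB : ∀ v : Fin n × Fin n → F, v ≠ 0 → wt ρ D.radv v ≠ ⊥ →
      ∃ a b : Fin n → F, toM v = wedge a b
  swap
  · push Not at hB
    obtain ⟨v, hv0, hv, hnw⟩ := hB
    exact Cfsg.Agent.Lib.Helper8.OPMin.caseA D ρ hn h3 v hv0 hv (fun ⟨a, b, h⟩ => hnw a b h)
  -- Case B
  obtain ⟨a₁, b₁, hab₁⟩ := hB v₁ hv₁0 hv₁
  have hv₁' : v₁ = ofM (wedge a₁ b₁) := by
    rw [← hab₁, ofM_toM]
  have hind₁ : LinearIndependent F ![a₁, b₁] := by
    apply Cfsg.Agent.Lib.Helper22.OPMin.indep_of_wedge_ne_zero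
    intro h0
    apply hv₁0
    rw [hv₁', h0, ofM_zero]
  have hd := Cfsg.Agent.Lib.Helper22.OPMin.finrank_eq_caseB D ρ (by omega) hB a₁ b₁ hind₁
  have hm₂pos : 1 ≤ finrank ℂ ↥(wt ρ D.radv (ofM (wedge a₁ b₁))) := by
    rw [← hv₁']
    by_contra hcon
    apply hv₁
    apply Submodule.finrank_eq_zero.mp
    omega
  by_cases hm₂ : 2 ≤ finrank ℂ ↥(wt ρ D.radv (ofM (wedge a₁ b₁)))
  · calc bnd (Fintype.card F) n ≤ 2 * R2 (Fintype.card F) n :=
          Cfsg.Agent.Lib.Helper13.OPMin.bnd_le_two_R2 (Fintype.card F) n hq2 hn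
      _ ≤ finrank ℂ ↥(wt ρ D.radv (ofM (wedge a₁ b₁))) * R2 (Fintype.card F) n :=
          Nat.mul_le_mul_right _ hm₂
      _ ≤ finrank ℂ (Fin k → ℂ) := by rw [hd]; exact Nat.le_add_left _ _
  have hm₂1 : finrank ℂ ↥(wt ρ D.radv (ofM (wedge a₁ b₁))) = 1 := by omega
  have hm2 : ∀ a b : Fin n → F, LinearIndependent F ![a, b] →
      finrank ℂ ↥(wt ρ D.radv (ofM (wedge a b))) = 1 := by
    intro a b h
    rw [Cfsg.Agent.Lib.Helper22.OPMin.finrank_wt_wedge_eq D ρ (by omega) a b a₁ b₁ h hind₁]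
    exact hm₂1
  rw [hm₂1, one_mul] at hd
  -- the stage lemma
  have hnt0 : ∃ g, fixedRep D ρ g ≠ 1 := by
    by_contra hcon
    push Not at hcon
    apply stage D ρ hn h3 hm2
    intro g m hm
    have h1 := congrArg (fun f => ((f ⟨m, hm⟩ : ↥(wt ρ D.radv 0)) : Fin k → ℂ)) (hcon g)
    exact h1
  have hc := hT ↥(wt ρ D.radv 0) (fixedRep D ρ) hnt0
  -- integrality
  have hchar : ∀ y ∈ L, LinearMap.trace ℂ (Fin k → ℂ) (ρ y) =
      (finrank ℂ (Fin k → ℂ) : ℂ) - ((Fintype.card F ^ (2 * n - 3) : ℕ) : ℂ) := by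
    intro y hy
    obtain ⟨g, a, b, hind, hg⟩ := hLrad y hy
    rw [← trace_conj_eq ρ g y, hg]
    exact Cfsg.Agent.Lib.Helper13.OPMin.trace_rad_wedge D ρ (by omega) hB hm2 a b hind
  have hdvd := Cfsg.Agent.Lib.Helper13.OPMin.finrank_dvd_card_mul ρ hρ L hLconj (Fintype.card F ^ (2 * n - 3)) hchar
  rw [hLcard] at hdvd
  exact Cfsg.Agent.Lib.Helper13.OPMin.arith_final (Fintype.card F) n _ _ hq2 hn hd hc hdvd

end MAIN

end Cfsg.Agent.Lib.Helper27.OPMin
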