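import Mathlib
import Cfsg.Agent.Lib.Helper7.SylowCount
import Cfsg.Agent.Lib.Helper8.SmallSimple

set_option autoImplicit false

/-!
# Sylow subgroups through a given subgroup `D` of an abelian Sylow subgroup

For an abelian Sylow `p`-subgroup `P` of a finite group `G` and `D ≤ P`, the Sylow `p`-subgroups of
`G` containing `D` are exactly the Sylow `p`-subgroups of `N_G(D)`; their number `sCount p D`
satisfies `sCount p D * |N_G(P) ∩ N_G(D)| = |N_G(D)|` and `sCount p D ≡ 1 [MOD p]`.
-/

namespace Cfsg.Agent.Lib.Helper27.SylInt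

open Subgroup
open scoped Pointwise

variable {G : Type*} [Group G]

/-- Elementwise commutativity of a subgroup. -/
def Ab (H : Subgroup G) : Prop := ∀ x ∈ H, ∀ y ∈ H, x * y = y * x

theorem mem_conj_smul_iff (g x : G) (H : Subgroup G) :
    x ∈ MulAut.conj g • H ↔ g⁻¹ * x * g ∈ H := by
  rw [Subgroup.mem_pointwise_smul_iff_inv_smul_mem, MulAut.smul_def, ← map_inv,
    MulAut.conj_apply, inv_inv]

theorem Ab.conj {H : Subgroup G} (h : Ab H) (g : G) : Ab (MulAut.conj g • H) := by
  intro x hx y hy
  rw [mem_conj_smul_iff] at hx hy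
  have := h _ hx _ hy
  have h1 : g⁻¹ * (x * y) * g = g⁻¹ * (y * x) * g := by
    calc g⁻¹ * (x * y) * g = (g⁻¹ * x * g) * (g⁻¹ * y * g) := by group
      _ = (g⁻¹ * y * g) * (g⁻¹ * x * g) := this
      _ = g⁻¹ * (y * x) * g := by group
  exact mul_left_cancel (mul_right_cancel h1)

variable [Finite G] {p : ℕ} [hp : Fact p.Prime]

/-- If one Sylow `p`-subgroup is abelian, all are. -/
theorem ab_sylow (P : Sylow p G) (hab : Ab (P : Subgroup G)) (Q : Sylow p G) :
    Ab (Q : Subgroup G) := by
  obtain ⟨g, rfl⟩ := MulAction.exists_smul_eq G P Q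
  rw [Sylow.coe_subgroup_smul]
  exact hab.conj g

/-- Sylow subgroups of a subgroup `L` containing a Sylow subgroup of `G` are the Sylow subgroups
of `G` inside `L`. -/
theorem card_sylow_subgroup_eq (P : Sylow p G) (L : Subgroup G) (hPL : (P : Subgroup G) ≤ L) :
    Nat.card (Sylow p ↥L) = Nat.card {Q : Sylow p G // (Q : Subgroup G) ≤ L} := by
  symm
  have hcardL : (Nat.card ↥L).factorization p = (Nat.card G).factorization p := by
    have h1 := (P.subtype hPL).card_eq_multiplicity
    have h2 := P.card_eq_multiplicity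
    rw [Sylow.coe_subtype] at h1
    have h3 : Nat.card ↥((P : Subgroup G).subgroupOf L) = Nat.card ↥(P : Subgroup G) :=
      Nat.card_congr (Subgroup.subgroupOfEquivOfLe hPL).toEquiv
    rw [h3, h2] at h1
    exact (Nat.pow_right_injective hp.out.two_le h1).symm
  apply Nat.card_congr
  refine Equiv.ofBijective
    (fun Q : {Q : Sylow p G // (Q : Subgroup G) ≤ L} => Q.1.subtype Q.2) ⟨?_, ?_⟩
  · intro Q1 Q2 h
    exact Subtype.ext (Sylow.subtype_injective h)
  · intro Q'
    have hH : Nat.card ↥((Q' : Subgroup ↥L).map L.subtype) =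
        p ^ (Nat.card G).factorization p := by
      rw [Subgroup.card_map_of_injective (Subgroup.subtype_injective L), Q'.card_eq_multiplicity,
        hcardL]
    have hle : (Sylow.ofCard ((Q' : Subgroup ↥L).map L.subtype) hH : Subgroup G) ≤ L := by
      rw [Sylow.coe_ofCard]
      exact Subgroup.map_subtype_le _
    refine ⟨⟨Sylow.ofCard _ hH, hle⟩, ?_⟩
    apply Sylow.ext
    rw [Sylow.coe_subtype, Sylow.coe_ofCard]
    ext x
    rw [Subgroup.mem_subgroupOf, Subgroup.mem_map]
    constructor
    · rintro ⟨y, hy, hxy⟩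
      have : y = x := Subtype.ext hxy
      rw [← this]
      exact hy
    · intro hx
      exact ⟨x, hx, rfl⟩

/-- A Sylow subgroup normalizing a `p`-subgroup `D` contains it. -/
theorem le_of_le_normalizer (Q : Sylow p G) (D : Subgroup G) (hD : IsPGroup p D)
    (h : (Q : Subgroup G) ≤ normalizer (D : Set G)) : D ≤ (Q : Subgroup G) := by
  have h1 : IsPGroup p (D ⊔ (Q : Subgroup G) : Subgroup G) :=
    IsPGroup.to_sup_of_normal_left' hD Q.isPGroup' h
  have h2 := Q.is_maximal' h1 le_sup_right
  calc D ≤ D ⊔ (Q : Subgroup G) := le_sup_left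
    _ = (Q : Subgroup G) := h2

/-- For an abelian Sylow subgroup `Q`: `D ≤ Q → Q ≤ N(D)`. -/
theorem le_normalizer_of_le (Q : Sylow p G) (hQ : Ab (Q : Subgroup G)) (D : Subgroup G)
    (h : D ≤ (Q : Subgroup G)) : (Q : Subgroup G) ≤ normalizer (D : Set G) := by
  intro x hx
  have hc : x ∈ centralizer (D : Set G) := by
    rw [Subgroup.mem_centralizer_iff]
    intro y hy
    exact hQ y (h hy) x hx
  exact Subgroup.centralizer_le_normalizer _ hc

/-- The number of Sylow `p`-subgroups containing `D`. -/
noncomputable def sCount (p : ℕ) (D : Subgroup G) : ℕ :=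
  Nat.card {Q : Sylow p G // D ≤ (Q : Subgroup G)}

theorem sCount_eq_card_sylow (P : Sylow p G) (hab : Ab (P : Subgroup G)) (D : Subgroup G)
    (hDP : D ≤ (P : Subgroup G)) :
    sCount p D = Nat.card (Sylow p ↥(normalizer (D : Set G))) := by
  rw [card_sylow_subgroup_eq P _ (le_normalizer_of_le P hab D hDP)]
  unfold sCount
  apply Nat.card_congr
  refine Equiv.subtypeEquivRight fun Q => ?_
  constructor
  · intro h
    exact le_normalizer_of_le Q (ab_sylow P hab Q) D h
  · intro h
    exact le_of_le_normalizer Q D (P.isPGroup'.to_le hDP) h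

theorem sCount_mul (P : Sylow p G) (hab : Ab (P : Subgroup G)) (D : Subgroup G)
    (hDP : D ≤ (P : Subgroup G)) :
    sCount p D * Nat.card ↥(normalizer ((P : Subgroup G) : Set G) ⊓ normalizer (D : Set G)) =
      Nat.card ↥(normalizer (D : Set G)) := by
  rw [sCount_eq_card_sylow P hab D hDP]
  exact Cfsg.Agent.Lib.Helper8.SmallSimple.card_sylow_subgroup_mul P _
    (le_normalizer_of_le P hab D hDP)

theorem sCount_modEq_one (P : Sylow p G) (hab : Ab (P : Subgroup G)) (D : Subgroup G)
    (hDP : D ≤ (P : Subgroup G)) : sCount p D ≡ 1 [MOD p] := by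
  rw [sCount_eq_card_sylow P hab D hDP]
  exact card_sylow_modEq_one p _

theorem sCount_pos (P : Sylow p G) (D : Subgroup G) (hDP : D ≤ (P : Subgroup G)) :
    0 < sCount p D := by
  unfold sCount
  have : Nonempty {Q : Sylow p G // D ≤ (Q : Subgroup G)} := ⟨⟨P, hDP⟩⟩
  exact Nat.card_pos

theorem sCount_le (D : Subgroup G) : sCount p D ≤ Nat.card (Sylow p G) := by
  unfold sCount
  exact Nat.card_le_card_of_injective (fun Q => Q.1) Subtype.val_injective

/-- Conjugation invariance. -/
theorem sCount_conj (g : G) (D : Subgroup G) : sCount p (MulAut.conj g • D) = sCount p D := by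
  unfold sCount
  symm
  apply Nat.card_congr
  refine Equiv.subtypeEquiv (MulAction.toPerm g) fun Q => ?_
  rw [MulAction.toPerm_apply, Sylow.coe_subgroup_smul, Subgroup.pointwise_smul_le_pointwise_smul_iff]

/-- If every Sylow subgroup contains `D` then `D` lies in the normal core of `P`. -/
theorem le_normalCore_of_sCount_eq (P : Sylow p G) (D : Subgroup G)
    (h : sCount p D = Nat.card (Sylow p G)) : D ≤ (P : Subgroup G).normalCore := by
  have hall : ∀ Q : Sylow p G, D ≤ (Q : Subgroup G) := by
    intro Q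
    have hinj : Function.Injective
        (fun Q : {Q : Sylow p G // D ≤ (Q : Subgroup G)} => (Q.1 : Sylow p G)) :=
      Subtype.val_injective
    have hbij := hinj.bijective_of_nat_card_le (le_of_eq h.symm)
    obtain ⟨Q', hQ'⟩ := hbij.2 Q
    rw [← hQ']
    exact Q'.2
  intro d hd
  change d ∈ {a : G | ∀ b : G, b * a * b⁻¹ ∈ (P : Subgroup G)}
  intro b
  have h1 := hall (b⁻¹ • P) hd
  rw [Sylow.coe_subgroup_smul, mem_conj_smul_iff, inv_inv] at h1
  exact h1

end Cfsg.Agent.Lib.Helper27.SylInt
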