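import Mathlib
import Cfsg.Agent.Lib.Helper27.SylIntA

set_option autoImplicit false

/-!
# Sylow `p`-subgroups of order `p²`: the intersection pattern

`P` a Sylow `p`-subgroup of order `p²`.  Every other Sylow subgroup `Q` meets `P` trivially or in
a subgroup `D` of order `p`, and `P ∩ Q = D` as soon as `D ≤ Q`.  Hence
`n_p = 1 + p² a + ∑_D (sCount p D - 1)`, the sum over the subgroups `D` of order `p` of `P` that lie
in a second Sylow subgroup.
-/

namespace Cfsg.Agent.Lib.Helper27.SylInt

open Subgroup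
open scoped Pointwise

variable {G : Type*} [Group G] [Finite G] {p : ℕ} [hp : Fact p.Prime]

theorem sylow_eq_of_le (P Q : Sylow p G) (h : (P : Subgroup G) ≤ Q) : Q = P :=
  Sylow.ext (P.is_maximal' Q.isPGroup' h)

/-- For `Q ≠ P`, `|P| = p²`: the intersection has order `1` or `p`. -/
theorem card_inf_of_ne (P Q : Sylow p G) (hP : Nat.card (P : Subgroup G) = p ^ 2) (hne : Q ≠ P) :
    Nat.card ↥((P : Subgroup G) ⊓ Q) = 1 ∨ Nat.card ↥((P : Subgroup G) ⊓ Q) = p := by
  have h1 : Nat.card ↥((P : Subgroup G) ⊓ Q) ∣ p ^ 2 := by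
    rw [← hP]
    exact Subgroup.card_dvd_of_le inf_le_left
  obtain ⟨j, hj, hj2⟩ := (Nat.dvd_prime_pow hp.out).mp h1
  interval_cases j
  · left; rw [hj2]; norm_num
  · right; rw [hj2]; norm_num
  · exfalso
    apply hne
    apply sylow_eq_of_le
    have : (P : Subgroup G) ⊓ Q = P := by
      apply Subgroup.eq_of_le_of_card_ge inf_le_left
      rw [hj2, hP]
    rw [← this]
    exact inf_le_right

theorem inf_eq_of_le (P Q : Sylow p G) (hP : Nat.card (P : Subgroup G) = p ^ 2) (hne : Q ≠ P)
    (D : Subgroup G) (hDP : D ≤ (P : Subgroup G)) (hD : Nat.card D = p)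
    (hDQ : D ≤ (Q : Subgroup G)) : (P : Subgroup G) ⊓ Q = D := by
  have hle : D ≤ (P : Subgroup G) ⊓ Q := le_inf hDP hDQ
  have h1 := Subgroup.card_le_of_le hle
  have hp2 := hp.out.two_le
  have hc : Nat.card ↥((P : Subgroup G) ⊓ Q) = p := by
    rcases card_inf_of_ne P Q hP hne with h | h
    · rw [h, hD] at h1; omega
    · exact h
  symm
  apply Subgroup.eq_of_le_of_card_ge hle
  rw [hc, hD]

/-- two different subgroups of order `p` of `P` lie in no common Sylow subgroup but `P` -/
theorem eq_of_le_of_le (P Q : Sylow p G) (hP : Nat.card (P : Subgroup G) = p ^ 2)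
    (D₁ D₂ : Subgroup G) (h₁ : D₁ ≤ (P : Subgroup G)) (h₂ : D₂ ≤ (P : Subgroup G))
    (c₁ : Nat.card D₁ = p) (c₂ : Nat.card D₂ = p) (hne : D₁ ≠ D₂)
    (q₁ : D₁ ≤ (Q : Subgroup G)) (q₂ : D₂ ≤ (Q : Subgroup G)) : Q = P := by
  by_contra hQ
  apply hne
  rw [← inf_eq_of_le P Q hP hQ D₁ h₁ c₁ q₁, ← inf_eq_of_le P Q hP hQ D₂ h₂ c₂ q₂]

theorem sCount_eq_filter_card [Fintype (Sylow p G)] (D : Subgroup G)
    [DecidablePred fun Q : Sylow p G => D ≤ (Q : Subgroup G)] :
    sCount p D = (Finset.univ.filter fun Q : Sylow p G => D ≤ (Q : Subgroup G)).card := by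
  unfold sCount
  rw [Nat.card_eq_fintype_card, Fintype.card_subtype]

/-- The trivially intersecting Sylow subgroups come in `P`-orbits of length `p²`. -/
theorem sq_dvd_card_trivial_inter (P : Sylow p G) (hP : Nat.card (P : Subgroup G) = p ^ 2) :
    p ^ 2 ∣ Nat.card {Q : Sylow p G // Q ≠ P ∧ (P : Subgroup G) ⊓ Q = ⊥} := by
  classical
  let X : SubMulAction ↥(P : Subgroup G) (Sylow p G) :=
    { carrier := {Q | Q = P ∨ (P : Subgroup G) ⊓ Q = ⊥}
      smul_mem' := by
        rintro ⟨g, hg⟩ Q hQ
        have hgP : g • P = P :=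
          Sylow.smul_eq_iff_mem_normalizer.mpr (Subgroup.le_normalizer hg)
        rcases hQ with h | h
        · left
          rw [h, Subgroup.mk_smul, hgP]
        · right
          have h1 : MulAut.conj g • (P : Subgroup G) = (P : Subgroup G) := by
            conv_rhs => rw [← hgP]
            rfl
          rw [Subgroup.mk_smul, Sylow.coe_subgroup_smul]
          calc (P : Subgroup G) ⊓ MulAut.conj g • (Q : Subgroup G)
              = MulAut.conj g • (P : Subgroup G) ⊓ MulAut.conj g • (Q : Subgroup G) := by rw [h1]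
            _ = MulAut.conj g • ((P : Subgroup G) ⊓ (Q : Subgroup G)) :=
                (Subgroup.smul_inf _ _ _).symm
            _ = ⊥ := by rw [h, Subgroup.smul_bot] }
  have hX : Nat.card ↥X ≡ 1 [MOD p ^ 2] := by
    apply Cfsg.Agent.Lib.Helper7.card_modEq_one_of_orbits (P := ↥(P : Subgroup G)) (p ^ 2)
      (⟨P, Or.inl rfl⟩ : ↥X)
    · intro g
      apply Subtype.ext
      change g • P = P
      rw [Subgroup.smul_def]
      exact Sylow.smul_eq_iff_mem_normalizer.mpr (Subgroup.le_normalizer g.2)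
    · intro x hx
      have hxP : (x : Sylow p G) ≠ P := fun h => hx (Subtype.ext h)
      have hbot : (P : Subgroup G) ⊓ ((x : Sylow p G) : Subgroup G) = ⊥ := by
        rcases x.2 with h | h
        · exact absurd h hxP
        · exact h
      rw [← MulAction.index_stabilizer, SubMulAction.stabilizer_of_subMul,
        Cfsg.Agent.Lib.Helper7.stabilizer_sylow_eq_subgroupOf (P : Subgroup G) P.isPGroup'
          (x : Sylow p G)]
      have hidx : (((x : Sylow p G) : Subgroup G).subgroupOf (P : Subgroup G)).index = p ^ 2 := by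
        rw [← Subgroup.relIndex, ← Subgroup.inf_relIndex_right, inf_comm, hbot,
          Subgroup.relIndex_bot_left, hP]
      rw [hidx]
  have : Fintype (Sylow p G) := Fintype.ofFinite _
  have hcard : Nat.card ↥X =
      Nat.card {Q : Sylow p G // Q ≠ P ∧ (P : Subgroup G) ⊓ Q = ⊥} + 1 := by
    have e : ↥X ≃ {Q : Sylow p G // Q = P ∨ (P : Subgroup G) ⊓ Q = ⊥} := Equiv.refl _
    rw [Nat.card_congr e, Nat.card_eq_fintype_card, Nat.card_eq_fintype_card,
      Fintype.card_subtype, Fintype.card_subtype]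
    have : (Finset.univ.filter fun Q : Sylow p G => Q = P ∨ (P : Subgroup G) ⊓ Q = ⊥) =
        insert P (Finset.univ.filter fun Q : Sylow p G => Q ≠ P ∧ (P : Subgroup G) ⊓ Q = ⊥) := by
      ext Q
      simp only [Finset.mem_filter, Finset.mem_univ, true_and, Finset.mem_insert]
      constructor
      · rintro (h | h)
        · exact Or.inl h
        · by_cases hQ : Q = P
          · exact Or.inl hQ
          · exact Or.inr ⟨hQ, h⟩
      · rintro (h | ⟨-, h⟩)
        · exact Or.inl h
        · exact Or.inr h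
    rw [this, Finset.card_insert_of_notMem]
    simp
  rw [hcard] at hX
  have h1 : 1 < p ^ 2 := by
    have := hp.out.two_le
    nlinarith
  exact (Nat.modEq_zero_iff_dvd).mp (Nat.ModEq.add_right_cancel' 1 (by simpa using hX))

end Cfsg.Agent.Lib.Helper27.SylInt
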