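import Mathlib
import Cfsg.Agent.Lib.Helper27.SylIntB

set_option autoImplicit false

/-!
# Sylow `p`-subgroups of order `p²`: the partition of `Syl_p(G)` and the action of `N(P)`
-/

namespace Cfsg.Agent.Lib.Helper27.SylInt

open Subgroup
open scoped Pointwise

variable {G : Type*} [Group G] [Finite G] {p : ℕ} [hp : Fact p.Prime]

/-- **The partition formula.**  `T` is the set of subgroups of order `p` of `P` lying in a second
Sylow subgroup. -/
theorem card_sylow_partition (P : Sylow p G) (hP : Nat.card (P : Subgroup G) = p ^ 2) :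
    ∃ (T : Finset (Subgroup G)) (a : ℕ),
      (∀ D ∈ T, D ≤ (P : Subgroup G) ∧ Nat.card D = p ∧ 1 < sCount p D) ∧
      (∀ D : Subgroup G, D ≤ (P : Subgroup G) → Nat.card D = p → 1 < sCount p D → D ∈ T) ∧
      Nat.card (Sylow p G) = 1 + p ^ 2 * a + ∑ D ∈ T, (sCount p D - 1) := by
  classical
  have : Fintype (Sylow p G) := Fintype.ofFinite _
  have hp2 := hp.out.two_le
  let B : Finset (Sylow p G) :=
    Finset.univ.filter fun Q => Q ≠ P ∧ (P : Subgroup G) ⊓ Q ≠ ⊥
  let R : Finset (Sylow p G) :=
    Finset.univ.filter fun Q => Q ≠ P ∧ (P : Subgroup G) ⊓ Q = ⊥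
  let f : Sylow p G → Subgroup G := fun Q => (P : Subgroup G) ⊓ Q
  obtain ⟨a, ha⟩ := sq_dvd_card_trivial_inter P hP
  rw [Nat.card_eq_fintype_card, Fintype.card_subtype] at ha
  change R.card = p ^ 2 * a at ha
  -- members of T
  have hT : ∀ D ∈ B.image f, D ≤ (P : Subgroup G) ∧ Nat.card D = p ∧ 1 < sCount p D := by
    intro D hD
    obtain ⟨Q, hQ, rfl⟩ := Finset.mem_image.mp hD
    obtain ⟨hQP, hbot⟩ := (Finset.mem_filter.mp hQ).2
    have hc : Nat.card ↥(f Q) = p := by
      rcases card_inf_of_ne P Q hP hQP with h | h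
      · exact absurd (Subgroup.card_eq_one.mp h) hbot
      · exact h
    refine ⟨inf_le_left, hc, ?_⟩
    rw [sCount_eq_filter_card]
    apply Finset.one_lt_card.mpr
    refine ⟨P, ?_, Q, ?_, fun h => hQP h.symm⟩
    · simp only [Finset.mem_filter, Finset.mem_univ, true_and]
      exact inf_le_left
    · simp only [Finset.mem_filter, Finset.mem_univ, true_and]
      exact inf_le_right
  -- the fibres
  have hfib : ∀ D ∈ B.image f, (B.filter fun Q => f Q = D).card = sCount p D - 1 := by
    intro D hD
    obtain ⟨hDP, hDc, -⟩ := hT D hD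
    rw [sCount_eq_filter_card]
    have : (Finset.univ.filter fun Q : Sylow p G => D ≤ (Q : Subgroup G)) =
        insert P (B.filter fun Q => f Q = D) := by
      ext Q
      simp only [Finset.mem_filter, Finset.mem_univ, true_and, Finset.mem_insert, B]
      constructor
      · intro h
        by_cases hQ : Q = P
        · exact Or.inl hQ
        · right
          have h1 := inf_eq_of_le P Q hP hQ D hDP hDc h
          refine ⟨⟨hQ, ?_⟩, h1⟩
          change (P : Subgroup G) ⊓ Q ≠ ⊥
          rw [h1]
          intro hb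
          rw [hb, Subgroup.card_bot] at hDc
          omega
      · rintro (h | ⟨-, h⟩)
        · rw [h]; exact hDP
        · rw [← h]; exact inf_le_right
    rw [this, Finset.card_insert_of_notMem]
    · omega
    · simp [B]
  refine ⟨B.image f, a, hT, ?_, ?_⟩
  · intro D hDP hDc hs
    rw [sCount_eq_filter_card] at hs
    obtain ⟨Q₁, h₁, Q₂, h₂, hne⟩ := Finset.one_lt_card.mp hs
    simp only [Finset.mem_filter, Finset.mem_univ, true_and] at h₁ h₂
    -- one of them is not `P`
    obtain ⟨Q, hQ, hQP⟩ : ∃ Q : Sylow p G, D ≤ (Q : Subgroup G) ∧ Q ≠ P := by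
      by_cases h : Q₁ = P
      · exact ⟨Q₂, h₂, fun h' => hne (h.trans h'.symm)⟩
      · exact ⟨Q₁, h₁, h⟩
    have h1 := inf_eq_of_le P Q hP hQP D hDP hDc hQ
    apply Finset.mem_image.mpr
    refine ⟨Q, ?_, h1⟩
    simp only [Finset.mem_filter, Finset.mem_univ, true_and, B]
    refine ⟨hQP, ?_⟩
    rw [h1]
    intro hb
    rw [hb, Subgroup.card_bot] at hDc
    omega
  · -- counting
    have h1 : (Finset.univ : Finset (Sylow p G)) = insert P (R ∪ B) := by
      ext Q
      simp only [Finset.mem_univ, Finset.mem_insert, Finset.mem_union, Finset.mem_filter,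
        true_and, true_iff, R, B]
      by_cases hQ : Q = P
      · exact Or.inl hQ
      · by_cases hb : (P : Subgroup G) ⊓ Q = ⊥
        · exact Or.inr (Or.inl ⟨hQ, hb⟩)
        · exact Or.inr (Or.inr ⟨hQ, hb⟩)
    have h2 : Disjoint R B := by
      rw [Finset.disjoint_left]
      intro Q hR hB
      exact (Finset.mem_filter.mp hB).2.2 (Finset.mem_filter.mp hR).2.2
    have h3 : P ∉ R ∪ B := by
      simp [R, B]
    rw [Nat.card_eq_fintype_card, ← Finset.card_univ, h1, Finset.card_insert_of_notMem h3,
      Finset.card_union_of_disjoint h2, ha, Finset.card_eq_sum_card_image f B,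
      Finset.sum_congr rfl hfib]
    ring

/-- `N(P)` permutes the subgroups of order `p` of `P`, preserving `sCount`. -/
theorem conj_mem_of_mem (P : Sylow p G) (T : Finset (Subgroup G))
    (hT : ∀ D : Subgroup G, D ≤ (P : Subgroup G) → Nat.card D = p → 1 < sCount p D → D ∈ T)
    (D : Subgroup G) (hDP : D ≤ (P : Subgroup G)) (hDc : Nat.card D = p) (hs : 1 < sCount p D)
    (n : G) (hn : n ∈ normalizer ((P : Subgroup G) : Set G)) : MulAut.conj n • D ∈ T := by
  apply hT
  · have h1 : MulAut.conj n • (P : Subgroup G) = (P : Subgroup G) := by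
      have := Sylow.smul_eq_iff_mem_normalizer.mpr hn
      conv_rhs => rw [← this]
      rfl
    rw [← h1]
    exact Subgroup.pointwise_smul_le_pointwise_smul_iff.mpr hDP
  · rw [← hDc]
    exact Nat.card_congr (Subgroup.equivSMul (MulAut.conj n) D).symm.toEquiv
  · rw [sCount_conj]
    exact hs

omit [Finite G] in
theorem mem_normalizer_of_conj_smul_eq (g : G) (D : Subgroup G) (h : MulAut.conj g • D = D) :
    g ∈ normalizer (D : Set G) := by
  rw [Subgroup.mem_set_normalizer_iff]
  intro n
  have h1 : g * n * g⁻¹ ∈ MulAut.conj g • D ↔ n ∈ D := by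
    rw [mem_conj_smul_iff]
    have : g⁻¹ * (g * n * g⁻¹) * g = n := by group
    rw [this]
  rw [h] at h1
  exact h1.symm

/-- Orbit counting: if all `N(P)`-conjugates of `D` lie in the finite set `T` then
`|N(P)| ≤ |T| · |N(P) ∩ N(D)|`. -/
theorem card_normalizer_le (P : Sylow p G) (T : Finset (Subgroup G)) (D : Subgroup G)
    (hT : ∀ n : G, n ∈ normalizer ((P : Subgroup G) : Set G) → MulAut.conj n • D ∈ T) :
    Nat.card ↥(normalizer ((P : Subgroup G) : Set G)) ≤
      T.card * Nat.card ↥(normalizer ((P : Subgroup G) : Set G) ⊓ normalizer (D : Set G)) := by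
  classical
  set N := normalizer ((P : Subgroup G) : Set G) with hN
  have : Fintype ↥N := Fintype.ofFinite _
  have : Fintype ↥(N ⊓ normalizer (D : Set G)) := Fintype.ofFinite _
  let f : ↥N → Subgroup G := fun n => MulAut.conj (n : G) • D
  have key := Finset.card_le_mul_card_image_of_maps_to (s := (Finset.univ : Finset ↥N)) (t := T)
    (f := f) (fun n _ => hT n n.2) (Nat.card ↥(N ⊓ normalizer (D : Set G))) ?_
  · rw [Nat.card_eq_fintype_card, ← Finset.card_univ, mul_comm]
    exact key
  · intro D' _
    by_cases hne : (Finset.univ.filter fun n : ↥N => f n = D').Nonempty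
    · obtain ⟨n₀, hn₀⟩ := hne
      have hn₀' : f n₀ = D' := (Finset.mem_filter.mp hn₀).2
      let S : Finset ↥N := Finset.univ.filter fun m => (m : G) ∈ normalizer (D : Set G)
      have hS : S.card = Nat.card ↥(N ⊓ normalizer (D : Set G)) := by
        rw [Nat.card_eq_fintype_card, ← Finset.card_univ]
        apply Finset.card_bij (s := S) (fun (m : ↥N) hm => (⟨(m : G), ⟨m.2, (Finset.mem_filter.mp hm).2⟩⟩ :
          ↥(N ⊓ normalizer (D : Set G))))
        · intro m hm
          exact Finset.mem_univ _
        · intro m₁ _ m₂ _ h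
          exact Subtype.ext (congrArg (fun z : ↥(N ⊓ normalizer (D : Set G)) => (z : G)) h)
        · intro z _
          exact ⟨⟨(z : G), z.2.1⟩, Finset.mem_filter.mpr ⟨Finset.mem_univ _, z.2.2⟩, rfl⟩
      rw [← hS]
      apply Finset.card_le_card_of_injOn (fun n : ↥N => n₀⁻¹ * n)
      · intro n hn
        have hn' : f n = D' := (Finset.mem_filter.mp hn).2
        apply Finset.mem_filter.mpr
        refine ⟨Finset.mem_univ _, ?_⟩
        apply mem_normalizer_of_conj_smul_eq
        have h1 : MulAut.conj (n : G) • D = MulAut.conj (n₀ : G) • D := hn'.trans hn₀'.symm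
        have h2 : ((n₀⁻¹ * n : ↥N) : G) = (n₀ : G)⁻¹ * (n : G) := rfl
        rw [h2, map_mul, mul_smul, h1, ← mul_smul, ← map_mul, inv_mul_cancel, map_one, one_smul]
      · intro n₁ _ n₂ _ h
        exact mul_left_cancel h
    · rw [Finset.not_nonempty_iff_eq_empty.mp hne]
      simp

end Cfsg.Agent.Lib.Helper27.SylInt
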