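import Mathlib
import Cfsg.Agent.Lib.Helper27.SylIntC
import Cfsg.Agent.Lib.Helper8.OrdSieveE

set_option autoImplicit false

/-!
# No simple group of order 5880 = 2³·3·5·7²

`n₇ ∈ {15, 120}`.  `n₇ = 120`: `N(P) = P` and Burnside's transfer theorem.  `n₇ = 15`: the 14 other
Sylow 7-subgroups meet `P` in exactly two subgroups `D` of order 7, each in 8 Sylow subgroups;
`|N(D)| = 8 |N(P) ∩ N(D)|` divides `5880` so `N(P) ∩ N(D) = P`, and the `N(P)`-orbit of `D` has
`8 > 2` members.
-/

namespace Cfsg.Agent.Lib.Helper27.SylInt

open Subgroup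
open scoped Pointwise
open Cfsg.Agent.Lib.Helper7 Cfsg.Agent.Lib.Helper8.OrdSieve

/-- In a simple group a Sylow subgroup which is not the whole group has trivial normal core. -/
theorem normalCore_sylow_eq_bot {G : Type*} [Group G] [Finite G] [IsSimpleGroup G] {p : ℕ}
    [Fact p.Prime] (P : Sylow p G) (hne : Nat.card (P : Subgroup G) ≠ Nat.card G) :
    (P : Subgroup G).normalCore = ⊥ := by
  rcases (Subgroup.normalCore_normal (P : Subgroup G)).eq_bot_or_eq_top with h | h
  · exact h
  · exfalso
    apply hne
    have : (P : Subgroup G) = ⊤ := top_le_iff.mp (h ▸ Subgroup.normalCore_le _)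
    rw [this, Subgroup.card_top]

theorem not_simple_5880 {G : Type*} [Group G] [Finite G] [IsSimpleGroup G] :
    Nat.card G ≠ 5880 := by
  intro hcard
  have hp7 : Nat.Prime 7 := by norm_num
  have : Fact (Nat.Prime 7) := ⟨hp7⟩
  have hG : ¬ IsMulCommutative G :=
    not_comm_of_card_not_prime (by rw [hcard]; norm_num)
  have hn : Nat.card G = 7 ^ 2 * 120 := by rw [hcard]; norm_num
  have hmem := sylow_count_mem hG hp7 (by norm_num) (by norm_num) hn (by norm_num)
  have hlist : npList 7 2 120 = [15, 120] := by decide +kernel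
  rw [hlist] at hmem
  obtain ⟨P⟩ : Nonempty (Sylow 7 G) := inferInstance
  obtain ⟨hP, -⟩ := sylow_card_index_of_pow hn (by norm_num) P
  have hab : Ab (P : Subgroup G) := comm_of_card_prime_sq (P : Subgroup G) hP
  have hNcard := card_sylow_mul_card_normalizer P
  rw [hcard] at hNcard
  simp only [List.mem_cons, List.not_mem_nil, or_false] at hmem
  rcases hmem with h15 | h120
  · -- n₇ = 15
    rw [h15] at hNcard
    have hN : Nat.card ↥(normalizer ((P : Subgroup G) : Set G)) = 392 := by omega
    obtain ⟨T, a, hT1, hT2, hsum⟩ := card_sylow_partition P hP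
    rw [h15] at hsum
    -- every `D ∈ T` has `sCount = 8`
    have hcore := normalCore_sylow_eq_bot P (by rw [hP, hcard]; norm_num)
    have h8 : ∀ D ∈ T, sCount 7 D = 8 := by
      intro D hD
      obtain ⟨hDP, hDc, hs⟩ := hT1 D hD
      have hmod := sCount_modEq_one P hab D hDP
      have hle := sCount_le (p := 7) D
      rw [h15] at hle
      have hne15 : sCount 7 D ≠ 15 := by
        intro h
        have := le_normalCore_of_sCount_eq P D (by rw [h, h15])
        rw [hcore, le_bot_iff] at this
        rw [this, Subgroup.card_bot] at hDc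
        norm_num at hDc
      unfold Nat.ModEq at hmod
      omega
    rw [Finset.sum_congr rfl (fun D hD => by rw [h8 D hD])] at hsum
    rw [Finset.sum_const, smul_eq_mul] at hsum
    have hT2c : T.card = 2 := by omega
    obtain ⟨D, hD⟩ : T.Nonempty := by
      rw [← Finset.card_pos, hT2c]; norm_num
    obtain ⟨hDP, hDc, hs⟩ := hT1 D hD
    have hmul := sCount_mul P hab D hDP
    rw [h8 D hD] at hmul
    -- `k = |N(P) ∩ N(D)|`
    set k := Nat.card ↥(normalizer ((P : Subgroup G) : Set G) ⊓ normalizer (D : Set G)) with hk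
    have hPle : (P : Subgroup G) ≤
        normalizer ((P : Subgroup G) : Set G) ⊓ normalizer (D : Set G) :=
      le_inf Subgroup.le_normalizer (le_normalizer_of_le P hab D hDP)
    have h49k : 49 ∣ k := by
      have := Subgroup.card_dvd_of_le hPle
      rw [hP] at this
      exact this
    have hk392 : k ∣ 392 := by
      rw [← hN]
      exact Subgroup.card_dvd_of_le inf_le_left
    have hND : 8 * k ∣ 5880 := by
      rw [hmul, ← hcard]
      exact Subgroup.card_subgroup_dvd_card _
    have hk49 : k = 49 := by
      obtain ⟨c, hc⟩ := h49k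
      have hc8 : c ∣ 8 := by
        have : 49 * c ∣ 49 * 8 := by rw [← hc]; exact hk392
        exact Nat.dvd_of_mul_dvd_mul_left (by norm_num) this
      have hc15 : c ∣ 15 := by
        have : 392 * c ∣ 392 * 15 := by
          have h1 : 8 * k = 392 * c := by rw [hc]; ring
          rw [← h1]; exact hND
        exact Nat.dvd_of_mul_dvd_mul_left (by norm_num) this
      have hc1 : c ∣ Nat.gcd 8 15 := Nat.dvd_gcd hc8 hc15
      have : c = 1 := by
        have h : Nat.gcd 8 15 = 1 := by norm_num
        rw [h] at hc1
        exact Nat.dvd_one.mp hc1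
      rw [hc, this]
    have hle := card_normalizer_le P T D
      (fun n hn => conj_mem_of_mem P T hT2 D hDP hDc hs n hn)
    rw [hN, hT2c, ← hk, hk49] at hle
    norm_num at hle
  · -- n₇ = 120: `N(P) = P`
    rw [h120] at hNcard
    have hN : Nat.card ↥(normalizer ((P : Subgroup G) : Set G)) = 49 := by omega
    apply not_normalizer_le_centralizer hG P (by rw [hP]; norm_num) hab
    have hNP : normalizer ((P : Subgroup G) : Set G) = (P : Subgroup G) := by
      symm
      apply Subgroup.eq_of_le_of_card_ge Subgroup.le_normalizer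
      rw [hN, hP]; norm_num
    rw [hNP]
    intro x hx
    rw [Subgroup.mem_centralizer_iff]
    intro y hy
    exact hab y hy x hx

end Cfsg.Agent.Lib.Helper27.SylInt
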