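import Mathlib
import Cfsg.Agent.Lib.Helper27.SpMDefs
import Cfsg.Agent.Lib.Helper5.Symp

/-!
# SpnMax leaf T4 (helper27): a matrix commuting with all symplectic transvections is scalar
-/

set_option autoImplicit false
set_option linter.unusedSectionVars false
set_option linter.unusedVariables false

namespace Cfsg.Agent.Lib.Helper27.SpMLeaf

open Cfsg Cfsg.Geo Matrix Module Cfsg.Agent.Lib.Helper27.SpM

/-- a matrix for which every vector is an eigenvector is scalar -/
theorem scalar_of_forall_eigen {ι : Type} [Fintype ι] [DecidableEq ι] {F : Type*} [Field F] (X : Matrix ι ι F)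
    (h : ∀ a : ι → F, ∃ c : F, X *ᵥ a = c • a) : ∃ c : F, X = c • (1 : Matrix ι ι F) := by
  classical
  rcases isEmpty_or_nonempty ι with hι | ⟨⟨i₀⟩⟩
  · exact ⟨0, by ext i; exact hι.elim i⟩
  choose lam hlam using fun i : ι => h (Pi.single i 1)
  have hcol : ∀ i j : ι, X j i = lam i * (if j = i then 1 else 0) := by
    intro i j
    have := congrFun (hlam i) j
    rw [Matrix.mulVec_single_one, Pi.smul_apply, smul_eq_mul, Pi.single_apply] at this
    simpa using this
  have heq : ∀ i j : ι, lam i = lam j := by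
    intro i j
    by_cases hij : i = j
    · rw [hij]
    obtain ⟨μ, hμ⟩ := h (Pi.single i 1 + Pi.single j 1)
    rw [Matrix.mulVec_add, hlam i, hlam j] at hμ
    have h1 := congrFun hμ i
    have h2 := congrFun hμ j
    simp only [Pi.add_apply, Pi.smul_apply, Pi.single_eq_same, smul_eq_mul, mul_one,
      Pi.single_eq_of_ne hij, Pi.single_eq_of_ne (Ne.symm hij), mul_zero, add_zero, zero_add] at h1 h2
    rw [h1, h2]
  refine ⟨lam i₀, ?_⟩
  ext j i
  rw [hcol i j, heq i i₀, Matrix.smul_apply, Matrix.one_apply, smul_eq_mul]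

variable {m : ℕ} {F : Type*} [Field F]

/-- T4.  A matrix commuting with all symplectic transvections `x ↦ x + f(x,a) a` is scalar. -/
theorem scalar_of_commute_sympTransvections (X : Matrix (Fin m ⊕ Fin m) (Fin m ⊕ Fin m) F)
    (h : ∀ a : Fin m ⊕ Fin m → F, X * sympTransvection m a 1 = sympTransvection m a 1 * X) :
    ∃ c : F, X = c • (1 : Matrix (Fin m ⊕ Fin m) (Fin m ⊕ Fin m) F) := by
  apply scalar_of_forall_eigen
  intro a
  by_cases ha : a = 0
  · exact ⟨0, by rw [ha, Matrix.mulVec_zero, smul_zero]⟩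
  obtain ⟨x, hx⟩ := Cfsg.Agent.Lib.Helper5.sympForm_nondeg a ha
  have hx' : sympForm m F x a ≠ 0 := by
    rw [Cfsg.Agent.Lib.Helper5.sympForm_swap]; exact neg_ne_zero.mpr hx
  have key := congrArg (fun A : Matrix (Fin m ⊕ Fin m) (Fin m ⊕ Fin m) F => A *ᵥ x) (h a)
  simp only [← Matrix.mulVec_mulVec] at key
  rw [Cfsg.Agent.Lib.Helper5.sympTransvection_mulVec, Cfsg.Agent.Lib.Helper5.sympTransvection_mulVec,
    Matrix.mulVec_add, Matrix.mulVec_smul, one_mul, one_mul] at key
  have key2 : sympForm m F x a • X *ᵥ a = sympForm m F (X *ᵥ x) a • a := add_left_cancel key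
  refine ⟨(sympForm m F x a)⁻¹ * sympForm m F (X *ᵥ x) a, ?_⟩
  rw [mul_smul, ← key2, smul_smul, inv_mul_cancel₀ hx', one_smul]

end Cfsg.Agent.Lib.Helper27.SpMLeaf
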