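import Cfsg.Agent.Lib.Helper26.FSProduct
import Cfsg.Agent.Lib.Helper26.FSSatCrit
import Cfsg.Agent.Lib.Helper26.FSSatEquiv
import Cfsg.Agent.Lib.Helper26.FSNormalCrit

set_option autoImplicit false

/-! The direct product of two saturated fusion systems is saturated. -/

namespace Cfsg.Agent.Lib.Helper27

open Cfsg Cfsg.FusionSystem Cfsg.Agent.Lib.Helper26

variable {Ω₁ Ω₂ : Type*} [Group Ω₁] [Group Ω₂] {S₁ : Subgroup Ω₁} {S₂ : Subgroup Ω₂}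

/-- The two projections of a subgroup of the product. -/
abbrev pr₁ (P : Subgroup (Ω₁ × Ω₂)) : Subgroup Ω₁ := P.map (MonoidHom.fst Ω₁ Ω₂)
abbrev pr₂ (P : Subgroup (Ω₁ × Ω₂)) : Subgroup Ω₂ := P.map (MonoidHom.snd Ω₁ Ω₂)

theorem fst_mem_normalizer {R : Subgroup (Ω₁ × Ω₂)} {g : Ω₁ × Ω₂}
    (hg : g ∈ Subgroup.normalizer (R : Set (Ω₁ × Ω₂))) : g.1 ∈ Subgroup.normalizer ((pr₁ R : Subgroup Ω₁) : Set Ω₁) := by
  apply mem_normalizer_of_conj_mem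
  · rintro _ ⟨x, hx, rfl⟩
    exact ⟨g * x * g⁻¹, (Subgroup.mem_normalizer_iff.mp hg x).mp hx, rfl⟩
  · rintro _ ⟨x, hx, rfl⟩
    refine ⟨g⁻¹ * x * g, ?_, rfl⟩
    have := (Subgroup.mem_normalizer_iff.mp (Subgroup.inv_mem _ hg) x).mp hx
    rwa [inv_inv] at this

theorem snd_mem_normalizer {R : Subgroup (Ω₁ × Ω₂)} {g : Ω₁ × Ω₂}
    (hg : g ∈ Subgroup.normalizer (R : Set (Ω₁ × Ω₂))) : g.2 ∈ Subgroup.normalizer ((pr₂ R : Subgroup Ω₂) : Set Ω₂) := by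
  apply mem_normalizer_of_conj_mem
  · rintro _ ⟨x, hx, rfl⟩
    exact ⟨g * x * g⁻¹, (Subgroup.mem_normalizer_iff.mp hg x).mp hx, rfl⟩
  · rintro _ ⟨x, hx, rfl⟩
    refine ⟨g⁻¹ * x * g, ?_, rfl⟩
    have := (Subgroup.mem_normalizer_iff.mp (Subgroup.inv_mem _ hg) x).mp hx
    rwa [inv_inv] at this

/-- The ranges of the components of a product map. -/
theorem range_fst_of_prod {P : Subgroup (Ω₁ × Ω₂)} {φ : P →* Ω₁ × Ω₂} {φ₁ : pr₁ P →* Ω₁} {φ₂ : pr₂ P →* Ω₂}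
    (hφ : ∀ (x : P) (h₁ : (x : Ω₁ × Ω₂).1 ∈ pr₁ P) (h₂ : (x : Ω₁ × Ω₂).2 ∈ pr₂ P),
      φ x = (φ₁ ⟨(x : Ω₁ × Ω₂).1, h₁⟩, φ₂ ⟨(x : Ω₁ × Ω₂).2, h₂⟩)) : φ₁.range = pr₁ φ.range := by
  apply le_antisymm
  · rintro _ ⟨⟨_, x, hx, rfl⟩, rfl⟩
    refine ⟨φ ⟨x, hx⟩, ⟨_, rfl⟩, ?_⟩
    rw [hφ ⟨x, hx⟩ (fst_mem_map _) (snd_mem_map _)]
    rfl
  · rintro _ ⟨_, ⟨x, rfl⟩, rfl⟩
    rw [hφ x (fst_mem_map _) (snd_mem_map _)]
    exact ⟨_, rfl⟩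

theorem range_snd_of_prod {P : Subgroup (Ω₁ × Ω₂)} {φ : P →* Ω₁ × Ω₂} {φ₁ : pr₁ P →* Ω₁} {φ₂ : pr₂ P →* Ω₂}
    (hφ : ∀ (x : P) (h₁ : (x : Ω₁ × Ω₂).1 ∈ pr₁ P) (h₂ : (x : Ω₁ × Ω₂).2 ∈ pr₂ P),
      φ x = (φ₁ ⟨(x : Ω₁ × Ω₂).1, h₁⟩, φ₂ ⟨(x : Ω₁ × Ω₂).2, h₂⟩)) : φ₂.range = pr₂ φ.range := by
  apply le_antisymm
  · rintro _ ⟨⟨_, x, hx, rfl⟩, rfl⟩
    refine ⟨φ ⟨x, hx⟩, ⟨_, rfl⟩, ?_⟩
    rw [hφ ⟨x, hx⟩ (fst_mem_map _) (snd_mem_map _)]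
    rfl
  · rintro _ ⟨_, ⟨x, rfl⟩, rfl⟩
    rw [hφ x (fst_mem_map _) (snd_mem_map _)]
    exact ⟨_, rfl⟩

/-- A subgroup of the product whose two projections are receptive is receptive in the product system. -/
theorem prod_receptive (F₁ : FusionSystem S₁) (F₂ : FusionSystem S₂) {Q : Subgroup (Ω₁ × Ω₂)}
    (hQ : Q ≤ S₁.prod S₂) (h₁ : F₁.IsReceptive (pr₁ Q)) (h₂ : F₂.IsReceptive (pr₂ Q)) :
    (prodSystem F₁ F₂).IsReceptive Q := by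
  refine ⟨hQ, fun R φ hφ hr => ?_⟩
  obtain ⟨hR, φ₁, hφ₁, φ₂, hφ₂, hφe⟩ := hφ
  have hr₁ : φ₁.range = pr₁ Q := by rw [range_fst_of_prod hφe, hr]
  have hr₂ : φ₂.range = pr₂ Q := by rw [range_snd_of_prod hφe, hr]
  obtain ⟨ψ₁, hψ₁, hψ₁e⟩ := h₁.2 (pr₁ R) φ₁ hφ₁ hr₁
  obtain ⟨ψ₂, hψ₂, hψ₂e⟩ := h₂.2 (pr₂ R) φ₂ hφ₂ hr₂
  have hN₁ : pr₁ (extender (S₁.prod S₂) R φ) ≤ extender S₁ (pr₁ R) φ₁ := by
    rintro _ ⟨g, hg, rfl⟩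
    rw [SetLike.mem_coe, mem_extender_iff] at hg
    rw [mem_extender_iff]
    obtain ⟨hgS, hgN, h, hhS, hgh⟩ := hg
    refine ⟨hgS.1, fst_mem_normalizer hgN, h.1, hhS.1, ?_⟩
    rintro ⟨_, x, hx, rfl⟩ hy
    have hx' : g * x * g⁻¹ ∈ R := (Subgroup.mem_normalizer_iff.mp hgN x).mp hx
    have e := hgh ⟨x, hx⟩ hx'
    rw [hφe ⟨g * x * g⁻¹, hx'⟩ (fst_mem_map _) (snd_mem_map _),
      hφe ⟨x, hx⟩ (fst_mem_map _) (snd_mem_map _)] at e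
    exact congrArg Prod.fst e
  have hN₂ : pr₂ (extender (S₁.prod S₂) R φ) ≤ extender S₂ (pr₂ R) φ₂ := by
    rintro _ ⟨g, hg, rfl⟩
    rw [SetLike.mem_coe, mem_extender_iff] at hg
    rw [mem_extender_iff]
    obtain ⟨hgS, hgN, h, hhS, hgh⟩ := hg
    refine ⟨hgS.2, snd_mem_normalizer hgN, h.2, hhS.2, ?_⟩
    rintro ⟨_, x, hx, rfl⟩ hy
    have hx' : g * x * g⁻¹ ∈ R := (Subgroup.mem_normalizer_iff.mp hgN x).mp hx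
    have e := hgh ⟨x, hx⟩ hx'
    rw [hφe ⟨g * x * g⁻¹, hx'⟩ (fst_mem_map _) (snd_mem_map _),
      hφe ⟨x, hx⟩ (fst_mem_map _) (snd_mem_map _)] at e
    exact congrArg Prod.snd e
  have hNS : extender (S₁.prod S₂) R φ ≤ S₁.prod S₂ :=
    (extender_le _ R φ).trans (normalizerIn_le _ R)
  refine ⟨prodHom _ (ψ₁.comp (Subgroup.inclusion hN₁)) (ψ₂.comp (Subgroup.inclusion hN₂)),
    ⟨hNS, _, inclusion_comp_mem F₁ hN₁ hψ₁, _, inclusion_comp_mem F₂ hN₂ hψ₂, fun x _ _ => rfl⟩, ?_⟩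
  intro x hxR hxN
  rw [prodHom_apply, hφe ⟨x, hxR⟩ (fst_mem_map _) (snd_mem_map _)]
  apply Prod.ext
  · exact hψ₁e x.1 (fst_mem_map (⟨x, hxR⟩ : R)) (hN₁ (fst_mem_map (⟨x, hxN⟩ : extender (S₁.prod S₂) R φ)))
  · exact hψ₂e x.2 (snd_mem_map (⟨x, hxR⟩ : R)) (hN₂ (snd_mem_map (⟨x, hxN⟩ : extender (S₁.prod S₂) R φ)))

instance prod_finite [Finite S₁] [Finite S₂] : Finite ↥(S₁.prod S₂) :=
  Finite.of_equiv _ (Subgroup.prodEquiv S₁ S₂).symm.toEquiv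

/-- A fully normalized subgroup of the product system of two saturated systems is receptive. -/
theorem prod_receptive_of_fn [Finite S₁] [Finite S₂] {p : ℕ} [Fact p.Prime] (h₁ : IsPGroup p S₁)
    (h₂ : IsPGroup p S₂) (F₁ : FusionSystem S₁) (F₂ : FusionSystem S₂) (hF₁ : F₁.IsSaturated p)
    (hF₂ : F₂.IsSaturated p) {Q : Subgroup (Ω₁ × Ω₂)} (hQn : (prodSystem F₁ F₂).IsFullyNormalized Q) :
    (prodSystem F₁ F₂).IsReceptive Q := by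
  have hQ : Q ≤ S₁.prod S₂ := hQn.1
  obtain ⟨Q₁s, hc₁, hn₁⟩ := exists_fullyNormalized_conj F₁ (map_fst_le hQ)
  obtain ⟨Q₂s, hc₂, hn₂⟩ := exists_fullyNormalized_conj F₂ (map_snd_le hQ)
  have hA₁ := (saturated_fn h₁ F₁ hF₁ hn₁).2
  have hR₁ := saturated_fn_receptive h₁ F₁ hF₁ hn₁
  have hA₂ := (saturated_fn h₂ F₂ hF₂ hn₂).2
  have hR₂ := saturated_fn_receptive h₂ F₂ hF₂ hn₂
  obtain ⟨χ₁, hχ₁, hv₁, hm₁⟩ := exists_normalizer_hom h₁ F₁ hA₁ hR₁ hc₁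
  obtain ⟨χ₂, hχ₂, hv₂, hm₂⟩ := exists_normalizer_hom h₂ F₂ hA₂ hR₂ hc₂
  have hN₁ : pr₁ (normalizerIn (S₁.prod S₂) Q) ≤ normalizerIn S₁ (pr₁ Q) := by
    rintro _ ⟨g, hg, rfl⟩
    exact ⟨hg.1.1, fst_mem_normalizer hg.2⟩
  have hN₂ : pr₂ (normalizerIn (S₁.prod S₂) Q) ≤ normalizerIn S₂ (pr₂ Q) := by
    rintro _ ⟨g, hg, rfl⟩
    exact ⟨hg.1.2, snd_mem_normalizer hg.2⟩
  have hNS : normalizerIn (S₁.prod S₂) Q ≤ S₁.prod S₂ := normalizerIn_le _ Q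
  have hχ : prodHom (normalizerIn (S₁.prod S₂) Q) (χ₁.comp (Subgroup.inclusion hN₁))
      (χ₂.comp (Subgroup.inclusion hN₂)) ∈ (prodSystem F₁ F₂).Hom (normalizerIn (S₁.prod S₂) Q) :=
    ⟨hNS, _, inclusion_comp_mem F₁ hN₁ hχ₁, _, inclusion_comp_mem F₂ hN₂ hχ₂, fun x _ _ => rfl⟩
  -- the image of `Q`
  have hQs₁ : pr₁ ((Q.subgroupOf (normalizerIn (S₁.prod S₂) Q)).map
      (prodHom (normalizerIn (S₁.prod S₂) Q) (χ₁.comp (Subgroup.inclusion hN₁))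
        (χ₂.comp (Subgroup.inclusion hN₂)))) = Q₁s := by
    rw [← hm₁]
    ext y
    constructor
    · rintro ⟨_, ⟨x, hx, rfl⟩, rfl⟩
      refine ⟨⟨(x : Ω₁ × Ω₂).1, hN₁ (fst_mem_map x)⟩, ?_, rfl⟩
      exact Subgroup.mem_subgroupOf.mpr ⟨(x : Ω₁ × Ω₂), Subgroup.mem_subgroupOf.mp hx, rfl⟩
    · rintro ⟨⟨y₁, hy₁N⟩, hy₁, rfl⟩
      obtain ⟨x, hx, hxy⟩ := Subgroup.mem_subgroupOf.mp hy₁
      have hxN : x ∈ normalizerIn (S₁.prod S₂) Q := le_normalizerIn hQ hx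
      refine ⟨_, ⟨⟨x, hxN⟩, Subgroup.mem_subgroupOf.mpr hx, rfl⟩, ?_⟩
      rw [prodHom_apply]
      show χ₁ _ = χ₁ _
      congr 1
      exact Subtype.ext hxy
  have hQs₂ : pr₂ ((Q.subgroupOf (normalizerIn (S₁.prod S₂) Q)).map
      (prodHom (normalizerIn (S₁.prod S₂) Q) (χ₁.comp (Subgroup.inclusion hN₁))
        (χ₂.comp (Subgroup.inclusion hN₂)))) = Q₂s := by
    rw [← hm₂]
    ext y
    constructor
    · rintro ⟨_, ⟨x, hx, rfl⟩, rfl⟩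
      refine ⟨⟨(x : Ω₁ × Ω₂).2, hN₂ (snd_mem_map x)⟩, ?_, rfl⟩
      exact Subgroup.mem_subgroupOf.mpr ⟨(x : Ω₁ × Ω₂), Subgroup.mem_subgroupOf.mp hx, rfl⟩
    · rintro ⟨⟨y₂, hy₂N⟩, hy₂, rfl⟩
      obtain ⟨x, hx, hxy⟩ := Subgroup.mem_subgroupOf.mp hy₂
      have hxN : x ∈ normalizerIn (S₁.prod S₂) Q := le_normalizerIn hQ hx
      refine ⟨_, ⟨⟨x, hxN⟩, Subgroup.mem_subgroupOf.mpr hx, rfl⟩, ?_⟩
      rw [prodHom_apply]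
      show χ₂ _ = χ₂ _
      congr 1
      exact Subtype.ext hxy
  have hQsS : (Q.subgroupOf (normalizerIn (S₁.prod S₂) Q)).map
      (prodHom (normalizerIn (S₁.prod S₂) Q) (χ₁.comp (Subgroup.inclusion hN₁))
        (χ₂.comp (Subgroup.inclusion hN₂))) ≤ S₁.prod S₂ := by
    rintro _ ⟨x, -, rfl⟩
    exact hom_apply_mem (prodSystem F₁ F₂) hχ x
  have hRec : (prodSystem F₁ F₂).IsReceptive ((Q.subgroupOf (normalizerIn (S₁.prod S₂) Q)).map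
      (prodHom (normalizerIn (S₁.prod S₂) Q) (χ₁.comp (Subgroup.inclusion hN₁))
        (χ₂.comp (Subgroup.inclusion hN₂)))) :=
    prod_receptive F₁ F₂ hQsS (by rw [hQs₁]; exact hR₁) (by rw [hQs₂]; exact hR₂)
  have hfinQs : Finite ↥((Q.subgroupOf (normalizerIn (S₁.prod S₂) Q)).map
      (prodHom (normalizerIn (S₁.prod S₂) Q) (χ₁.comp (Subgroup.inclusion hN₁))
        (χ₂.comp (Subgroup.inclusion hN₂)))) := finite_of_le hQsS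
  have hval : ∀ x, prodHom (normalizerIn (S₁.prod S₂) Q) (χ₁.comp (Subgroup.inclusion hN₁))
      (χ₂.comp (Subgroup.inclusion hN₂)) x ∈ normalizerIn (S₁.prod S₂)
        ((Q.subgroupOf (normalizerIn (S₁.prod S₂) Q)).map
          (prodHom (normalizerIn (S₁.prod S₂) Q) (χ₁.comp (Subgroup.inclusion hN₁))
            (χ₂.comp (Subgroup.inclusion hN₂)))) := by
    intro x
    refine ⟨hom_apply_mem (prodSystem F₁ F₂) hχ x, ?_⟩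
    apply mem_normalizer_of_conj_mem_finite
    rintro _ ⟨q, hq, rfl⟩
    refine ⟨x * q * x⁻¹, ?_, by rw [map_mul, map_mul, map_inv]⟩
    rw [SetLike.mem_coe, Subgroup.mem_subgroupOf] at hq ⊢
    exact (Subgroup.mem_normalizer_iff.mp x.2.2 _).mp hq
  let D : NormHom (prodSystem F₁ F₂) Q ((Q.subgroupOf (normalizerIn (S₁.prod S₂) Q)).map
      (prodHom (normalizerIn (S₁.prod S₂) Q) (χ₁.comp (Subgroup.inclusion hN₁))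
        (χ₂.comp (Subgroup.inclusion hN₂)))) := ⟨_, hχ, hval, rfl, hQ⟩
  have hcard := hQn.2 _ ⟨D.φP, D.φP_mem, D.φP_range⟩
  exact D.receptive hRec (D.card_centralizerIn_le hcard)

theorem exists_conj_mem_sylow' {G : Type*} [Group G] [Finite G] {p : ℕ} [Fact p.Prime] (R : Sylow p G) (a : G)
    (k : ℕ) (hk : a ^ (p ^ k) = 1) : ∃ g : G, g⁻¹ * a * g ∈ (R : Subgroup G) := by
  have hz : IsPGroup p (Subgroup.zpowers a) := by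
    rintro ⟨b, hb⟩
    obtain ⟨n, rfl⟩ := Subgroup.mem_zpowers_iff.mp hb
    refine ⟨k, ?_⟩
    apply Subtype.ext
    show (a ^ n) ^ (p ^ k) = 1
    rw [← zpow_natCast, ← zpow_mul, mul_comm, zpow_mul, zpow_natCast, hk, one_zpow]
  obtain ⟨P', hP'⟩ := hz.exists_le_sylow
  obtain ⟨g, hg⟩ := MulAction.exists_smul_eq G R P'
  refine ⟨g, ?_⟩
  have hmem : a ∈ ((g • R : Sylow p G) : Subgroup G) := by rw [hg]; exact hP' (Subgroup.mem_zpowers a)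
  rw [Sylow.coe_subgroup_smul, Subgroup.mem_pointwise_smul_iff_inv_smul_mem] at hmem
  simpa [MulAut.smul_def, mul_assoc] using hmem

/-- In a saturated system over `S`, an automorphism of `S` in the system of `p`-power order is inner. -/
theorem exists_conj_of_pElement {Ω : Type*} [Group Ω] {S : Subgroup Ω} [Finite S] {p : ℕ} [Fact p.Prime]
    (hS : IsPGroup p S) (F : FusionSystem S) (hF : F.IsSaturated p) {P : Subgroup Ω} (hP : P = S) (a : MulAut P)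
    (ha : a ∈ F.autGroup P) (k : ℕ) (hk : a ^ (p ^ k) = 1) :
    ∃ s ∈ S, ∀ x : P, ((a x : P) : Ω) = s * x * s⁻¹ := by
  subst hP
  obtain ⟨-, R, hR⟩ := (saturated_fn hS F hF (top_fullyNormalized F)).2
  have hk' : (⟨a, ha⟩ : F.autGroup P) ^ (p ^ k) = 1 := Subtype.ext (by simpa using hk)
  obtain ⟨g, hg⟩ := exists_conj_mem_sylow' R ⟨a, ha⟩ k hk'
  rw [hR, Subgroup.mem_subgroupOf] at hg
  obtain ⟨s, hs, hsx⟩ := (mem_autInducedBy_iff P P _).mp hg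
  refine ⟨((g : MulAut P) ⟨s, hs⟩ : P), ((g : MulAut P) ⟨s, hs⟩).2, fun x => ?_⟩
  have h1 := hsx ((g : MulAut P)⁻¹ x)
  have h2 : ((g⁻¹ * ⟨a, ha⟩ * g : F.autGroup P) : MulAut P) ((g : MulAut P)⁻¹ x) =
      (g : MulAut P)⁻¹ (a x) := by
    show (g : MulAut P)⁻¹ (a ((g : MulAut P) ((g : MulAut P)⁻¹ x))) = _
    rw [MulAut.apply_inv_self]
  rw [h2] at h1
  have h3 : (g : MulAut P)⁻¹ (a x) = ⟨s, hs⟩ * (g : MulAut P)⁻¹ x * ⟨s, hs⟩⁻¹ := Subtype.ext h1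
  have h4 := congrArg (g : MulAut P) h3
  rw [MulAut.apply_inv_self, map_mul, map_mul, map_inv, MulAut.apply_inv_self] at h4
  rw [h4]
  rfl

theorem prod_isPGroup {p : ℕ} (h₁ : IsPGroup p S₁) (h₂ : IsPGroup p S₂) : IsPGroup p ↥(S₁.prod S₂) := by
  rintro ⟨g, hg⟩
  obtain ⟨k₁, hk₁⟩ := h₁ ⟨g.1, hg.1⟩
  obtain ⟨k₂, hk₂⟩ := h₂ ⟨g.2, hg.2⟩
  have e₁ : g.1 ^ p ^ k₁ = 1 := congrArg Subtype.val hk₁
  have e₂ : g.2 ^ p ^ k₂ = 1 := congrArg Subtype.val hk₂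
  refine ⟨k₁ + k₂, ?_⟩
  apply Subtype.ext
  show g ^ p ^ (k₁ + k₂) = 1
  apply Prod.ext
  · show g.1 ^ p ^ (k₁ + k₂) = 1
    rw [pow_add, pow_mul, e₁, one_pow]
  · show g.2 ^ p ^ (k₁ + k₂) = 1
    rw [pow_add, mul_comm, pow_mul, e₂, one_pow]

theorem pr₁_prod (S₁ : Subgroup Ω₁) (S₂ : Subgroup Ω₂) : pr₁ (S₁.prod S₂) = S₁ := by
  ext y
  constructor
  · rintro ⟨x, hx, rfl⟩
    exact hx.1
  · intro hy
    exact ⟨(y, 1), ⟨hy, one_mem _⟩, rfl⟩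

theorem pr₂_prod (S₁ : Subgroup Ω₁) (S₂ : Subgroup Ω₂) : pr₂ (S₁.prod S₂) = S₂ := by
  ext y
  constructor
  · rintro ⟨x, hx, rfl⟩
    exact hx.2
  · intro hy
    exact ⟨(1, y), ⟨one_mem _, hy⟩, rfl⟩

/-- `S₁ × S₂` is fully automized in the product of two saturated systems. -/
theorem prod_top_fullyAutomized [Finite S₁] [Finite S₂] {p : ℕ} [Fact p.Prime] (h₁ : IsPGroup p S₁)
    (h₂ : IsPGroup p S₂) (F₁ : FusionSystem S₁) (F₂ : FusionSystem S₂) (hF₁ : F₁.IsSaturated p)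
    (hF₂ : F₂.IsSaturated p) : (prodSystem F₁ F₂).IsFullyAutomized p (S₁.prod S₂) := by
  have hT : IsPGroup p ↥(S₁.prod S₂) := prod_isPGroup h₁ h₂
  refine ⟨le_rfl, ?_⟩
  have hKp : IsPGroup p ((autInducedBy (S₁.prod S₂) (S₁.prod S₂)).subgroupOf
      ((prodSystem F₁ F₂).autGroup (S₁.prod S₂))) := (autInducedBy_isPGroup hT (S₁.prod S₂)).comap_subtype
  refine ⟨⟨_, hKp, ?_⟩, rfl⟩
  intro Q hQp hKQ
  apply le_antisymm _ hKQ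
  intro α hαQ
  obtain ⟨k, hk⟩ := hQp ⟨α, hαQ⟩
  have hk' : (α : MulAut ↥(S₁.prod S₂)) ^ (p ^ k) = 1 := by
    have := congrArg (fun z : Q => ((z : (prodSystem F₁ F₂).autGroup (S₁.prod S₂)) : MulAut ↥(S₁.prod S₂))) hk
    simpa using this
  have hαE : (S₁.prod S₂).subtype.comp (α : MulAut ↥(S₁.prod S₂)).toMonoidHom ∈
      (prodSystem F₁ F₂).Hom (S₁.prod S₂) := (mem_autGroup_iff (prodSystem F₁ F₂) le_rfl _).mp α.2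
  obtain ⟨-, α₁, hα₁, α₂, hα₂, hαe⟩ := hαE
  have hrange : ((S₁.prod S₂).subtype.comp (α : MulAut ↥(S₁.prod S₂)).toMonoidHom).range = S₁.prod S₂ := by
    ext y
    constructor
    · rintro ⟨x, rfl⟩
      exact ((α : MulAut ↥(S₁.prod S₂)) x).2
    · intro hy
      exact ⟨(α : MulAut ↥(S₁.prod S₂))⁻¹ ⟨y, hy⟩, by simp⟩
  have hr₁ : α₁.range = pr₁ (S₁.prod S₂) := by rw [range_fst_of_prod hαe, hrange]
  have hr₂ : α₂.range = pr₂ (S₁.prod S₂) := by rw [range_snd_of_prod hαe, hrange]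
  have ha₁ : (homEquiv F₁ hα₁ hr₁ : MulAut ↥(pr₁ (S₁.prod S₂))) ∈ F₁.autGroup (pr₁ (S₁.prod S₂)) :=
    (mem_autGroup_iff_isFIso F₁ (map_fst_le le_rfl) _).mpr (homEquiv_isFIso F₁ hα₁ hr₁)
  have ha₂ : (homEquiv F₂ hα₂ hr₂ : MulAut ↥(pr₂ (S₁.prod S₂))) ∈ F₂.autGroup (pr₂ (S₁.prod S₂)) :=
    (mem_autGroup_iff_isFIso F₂ (map_snd_le le_rfl) _).mpr (homEquiv_isFIso F₂ hα₂ hr₂)
  have hstep : ∀ y : ↥(S₁.prod S₂), (((α : MulAut ↥(S₁.prod S₂)) y : ↥(S₁.prod S₂)) : Ω₁ × Ω₂) =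
      ((((homEquiv F₁ hα₁ hr₁ : MulAut ↥(pr₁ (S₁.prod S₂))) ⟨(y : Ω₁ × Ω₂).1, fst_mem_map y⟩ :
          ↥(pr₁ (S₁.prod S₂))) : Ω₁),
        (((homEquiv F₂ hα₂ hr₂ : MulAut ↥(pr₂ (S₁.prod S₂))) ⟨(y : Ω₁ × Ω₂).2, snd_mem_map y⟩ :
          ↥(pr₂ (S₁.prod S₂))) : Ω₂)) := fun y => hαe y (fst_mem_map y) (snd_mem_map y)
  have hpow : ∀ n : ℕ, ∀ x : ↥(S₁.prod S₂),
      ((((α : MulAut ↥(S₁.prod S₂)) ^ n) x : ↥(S₁.prod S₂)) : Ω₁ × Ω₂) =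
      (((((homEquiv F₁ hα₁ hr₁ : MulAut ↥(pr₁ (S₁.prod S₂))) ^ n) ⟨(x : Ω₁ × Ω₂).1, fst_mem_map x⟩ :
          ↥(pr₁ (S₁.prod S₂))) : Ω₁),
        ((((homEquiv F₂ hα₂ hr₂ : MulAut ↥(pr₂ (S₁.prod S₂))) ^ n) ⟨(x : Ω₁ × Ω₂).2, snd_mem_map x⟩ :
          ↥(pr₂ (S₁.prod S₂))) : Ω₂)) := by
    intro n
    induction n with
    | zero => intro x; rfl
    | succ n ih =>
      intro x
      rw [pow_succ', pow_succ', pow_succ', MulAut.mul_apply, MulAut.mul_apply, MulAut.mul_apply, hstep]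
      have e := ih x
      apply Prod.ext
      · show (((homEquiv F₁ hα₁ hr₁ : MulAut ↥(pr₁ (S₁.prod S₂))) _ : ↥(pr₁ (S₁.prod S₂))) : Ω₁) =
          (((homEquiv F₁ hα₁ hr₁ : MulAut ↥(pr₁ (S₁.prod S₂))) _ : ↥(pr₁ (S₁.prod S₂))) : Ω₁)
        congr 2
        exact Subtype.ext (congrArg Prod.fst e)
      · show (((homEquiv F₂ hα₂ hr₂ : MulAut ↥(pr₂ (S₁.prod S₂))) _ : ↥(pr₂ (S₁.prod S₂))) : Ω₂) =
          (((homEquiv F₂ hα₂ hr₂ : MulAut ↥(pr₂ (S₁.prod S₂))) _ : ↥(pr₂ (S₁.prod S₂))) : Ω₂)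
        congr 2
        exact Subtype.ext (congrArg Prod.snd e)
  have ha₁k : (homEquiv F₁ hα₁ hr₁ : MulAut ↥(pr₁ (S₁.prod S₂))) ^ (p ^ k) = 1 := by
    apply MulEquiv.ext
    rintro ⟨_, x, hx, rfl⟩
    apply Subtype.ext
    have := hpow (p ^ k) ⟨x, hx⟩
    rw [hk'] at this
    exact (congrArg Prod.fst this).symm
  have ha₂k : (homEquiv F₂ hα₂ hr₂ : MulAut ↥(pr₂ (S₁.prod S₂))) ^ (p ^ k) = 1 := by
    apply MulEquiv.ext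
    rintro ⟨_, x, hx, rfl⟩
    apply Subtype.ext
    have := hpow (p ^ k) ⟨x, hx⟩
    rw [hk'] at this
    exact (congrArg Prod.snd this).symm
  obtain ⟨s₁, hs₁, hs₁x⟩ := exists_conj_of_pElement h₁ F₁ hF₁ (pr₁_prod S₁ S₂) _ ha₁ k ha₁k
  obtain ⟨s₂, hs₂, hs₂x⟩ := exists_conj_of_pElement h₂ F₂ hF₂ (pr₂_prod S₁ S₂) _ ha₂ k ha₂k
  rw [Subgroup.mem_subgroupOf, mem_autInducedBy_iff]
  refine ⟨(s₁, s₂), ⟨hs₁, hs₂⟩, fun x => ?_⟩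
  rw [hstep x]
  apply Prod.ext
  · exact hs₁x _
  · exact hs₂x _

/-- **S5137.** The direct product of two saturated fusion systems is saturated. -/
theorem prodSystem_saturated [Finite S₁] [Finite S₂] {p : ℕ} [Fact p.Prime] (h₁ : IsPGroup p S₁)
    (h₂ : IsPGroup p S₂) (F₁ : FusionSystem S₁) (F₂ : FusionSystem S₂) (hF₁ : F₁.IsSaturated p)
    (hF₂ : F₂.IsSaturated p) : (prodSystem F₁ F₂).IsSaturated p := by
  rw [saturated_iff_crit (prod_isPGroup h₁ h₂)]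
  exact ⟨prod_top_fullyAutomized h₁ h₂ F₁ F₂ hF₁ hF₂,
    fun P hP => prod_receptive_of_fn h₁ h₂ F₁ F₂ hF₁ hF₂ hP⟩

end Cfsg.Agent.Lib.Helper27
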