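import Cfsg.Agent.Lib.Helper26.FSFrobenius
set_option autoImplicit false

/-!
Saturated fusion systems over an abelian `p`-group (helper27's library, built on helper26's).
-/

namespace Cfsg.Agent.Lib.Helper27

open Cfsg Cfsg.FusionSystem Cfsg.Agent.Lib.Helper26

variable {Ω : Type*} [Group Ω] {S : Subgroup Ω}

/-- In an abelian `S` conjugation is trivial. -/
theorem conj_eq_of_abelian (hab : ∀ x ∈ S, ∀ y ∈ S, x * y = y * x) {g x : Ω} (hg : g ∈ S) (hx : x ∈ S) :
    g * x * g⁻¹ = x := by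
  rw [hab g hg x hx, mul_inv_cancel_right]

theorem centralizerIn_eq_of_abelian (hab : ∀ x ∈ S, ∀ y ∈ S, x * y = y * x) (P : Subgroup Ω) (hP : P ≤ S) :
    centralizerIn S P = S := by
  apply le_antisymm (centralizerIn_le S P)
  intro s hs
  rw [mem_centralizerIn_iff]
  exact ⟨hs, fun x hx => hab x (hP hx) s hs⟩

theorem eq_of_isCentric_of_abelian (F : FusionSystem S) (hab : ∀ x ∈ S, ∀ y ∈ S, x * y = y * x)
    {P : Subgroup Ω} (hc : F.IsCentric P) : P = S := by
  apply le_antisymm hc.1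
  have := hc.2 P (isConj_refl F hc.1)
  rwa [centralizerIn_eq_of_abelian hab P hc.1] at this

/-- Over an abelian `S`, the subgroup `S` is normal in every saturated fusion system. -/
theorem isNormal_self_of_abelian [Finite S] {p : ℕ} [Fact p.Prime] (hS : IsPGroup p S) (F : FusionSystem S)
    (hF : F.IsSaturated p) (hab : ∀ x ∈ S, ∀ y ∈ S, x * y = y * x) : F.IsNormal S := by
  apply isNormal_of_forall_aut hS F hF S
  intro P hP
  have hPS : P = S := by
    rcases hP with h | h
    · exact h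
    · exact eq_of_isCentric_of_abelian F hab h.1
  rw [hPS]
  refine ⟨le_rfl, fun α _ => ?_⟩
  rw [Subgroup.subgroupOf_self]
  exact Subgroup.map_top_of_surjective _ α.surjective

/-- Over an abelian `S`, every map of a saturated system is the restriction of an element of `Aut_F(S)`. -/
theorem exists_aut_extension [Finite S] {p : ℕ} [Fact p.Prime] (hS : IsPGroup p S) (F : FusionSystem S)
    (hF : F.IsSaturated p) (hab : ∀ x ∈ S, ∀ y ∈ S, x * y = y * x) {P : Subgroup Ω} {φ : P →* Ω}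
    (hφ : φ ∈ F.Hom P) :
    ∃ α ∈ F.autGroup S, ∀ (x : P) (hx : (x : Ω) ∈ S), φ x = ((α ⟨x, hx⟩ : S) : Ω) := by
  have hN := isNormal_self_of_abelian hS F hF hab
  obtain ⟨ψ, hψ, hψφ, -⟩ := hN.2 P φ hφ
  have hle : S ≤ P ⊔ S := le_sup_right
  have hψ' : ψ.comp (Subgroup.inclusion hle) ∈ F.Hom S := inclusion_comp_mem F hle hψ
  have hr : (ψ.comp (Subgroup.inclusion hle)).range = S := by
    apply Subgroup.eq_of_le_of_card_ge (range_le F hψ')
    rw [Nat.card_congr (MonoidHom.ofInjective (F.injective_of_mem hψ')).toEquiv]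
  refine ⟨homEquiv F hψ' hr, ?_, fun x hx => ?_⟩
  · rw [mem_autGroup_iff_isFIso F le_rfl]
    exact homEquiv_isFIso F hψ' hr
  · rw [← hψφ x]
    rfl

theorem autInducedBy_eq_bot_of_abelian (hab : ∀ x ∈ S, ∀ y ∈ S, x * y = y * x) {P : Subgroup Ω} (hP : P ≤ S) :
    autInducedBy S P = ⊥ := by
  rw [eq_bot_iff]
  intro α hα
  obtain ⟨g, hg, h⟩ := (mem_autInducedBy_iff S P α).mp hα
  rw [Subgroup.mem_bot]
  ext x
  rw [h x, conj_eq_of_abelian hab hg (hP x.2)]
  rfl

/-- Over an abelian `S`, `Aut_F(S)` has order prime to `p`. -/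
theorem not_dvd_card_autGroup [Finite S] {p : ℕ} [Fact p.Prime] (hS : IsPGroup p S) (F : FusionSystem S)
    (hF : F.IsSaturated p) (hab : ∀ x ∈ S, ∀ y ∈ S, x * y = y * x) : ¬ p ∣ Nat.card (F.autGroup S) := by
  intro hdvd
  obtain ⟨-, R, hR⟩ := (saturated_fn hS F hF (top_fullyNormalized F)).2
  rw [autInducedBy_eq_bot_of_abelian hab le_rfl, Subgroup.bot_subgroupOf] at hR
  exact R.ne_bot_of_dvd_card hdvd hR

/-- Maps of the inner system of an abelian subgroup are inclusions. -/
theorem inner_hom_apply_of_abelian {T : Subgroup Ω} (habT : ∀ x ∈ T, ∀ y ∈ T, x * y = y * x) {P : Subgroup Ω}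
    {φ : P →* Ω} (hφ : φ ∈ (innerFusionSystem T).Hom P) (x : P) : φ x = x := by
  obtain ⟨hP, g, hg, h⟩ := hφ
  rw [h x, conj_eq_of_abelian habT hg (hP x.2)]

theorem inner_autGroup_eq_bot_of_abelian {T : Subgroup Ω} (habT : ∀ x ∈ T, ∀ y ∈ T, x * y = y * x)
    (P : Subgroup Ω) : (innerFusionSystem T).autGroup P = ⊥ := by
  by_cases hP : P ≤ T
  · rw [eq_bot_iff]
    intro α hα
    rw [mem_autGroup_iff _ hP] at hα
    rw [Subgroup.mem_bot]
    ext x
    have := inner_hom_apply_of_abelian habT hα x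
    exact this
  · exact autGroup_eq_bot_of_not_le _ hP

/-- The inner fusion system of an abelian subgroup is saturated (for any prime). -/
theorem inner_saturated_of_abelian {T : Subgroup Ω} (habT : ∀ x ∈ T, ∀ y ∈ T, x * y = y * x) (p : ℕ)
    [Fact p.Prime] : (innerFusionSystem T).IsSaturated p := by
  intro P hP
  refine ⟨P, isConj_refl _ hP, ⟨hP, ?_⟩, ⟨hP, ?_⟩⟩
  · have hbot := inner_autGroup_eq_bot_of_abelian habT P
    have hss : Subsingleton ↥((innerFusionSystem T).autGroup P) := by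
      rw [hbot]; infer_instance
    obtain ⟨R⟩ : Nonempty (Sylow p ↥((innerFusionSystem T).autGroup P)) := inferInstance
    refine ⟨R, ?_⟩
    ext x
    have hx : x = 1 := Subsingleton.elim _ _
    rw [hx]
    exact ⟨fun _ => Subgroup.one_mem _, fun _ => Subgroup.one_mem _⟩
  · intro P' φ hφ _
    have hle : extender T P' φ ≤ T := (extender_le T P' φ).trans (normalizerIn_le T P')
    refine ⟨(extender T P' φ).subtype, subtype_mem _ hle, fun x hP' hN => ?_⟩
    rw [inner_hom_apply_of_abelian habT hφ ⟨x, hP'⟩]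
    rfl

/-- Normality of the inner system of a subgroup `T` of an abelian `S` in a saturated system `F`, given strong closure
and the Frattini property. -/
theorem inner_isNormalIn_of_abelian [Finite S] {p : ℕ} [Fact p.Prime] (F : FusionSystem S)
    (hF : F.IsSaturated p) (hab : ∀ x ∈ S, ∀ y ∈ S, x * y = y * x) {T : Subgroup Ω} (hTS : T ≤ S)
    (hsc : F.StronglyClosed T)
    (hfrat : ∀ (P : Subgroup Ω) (hP : P ≤ T) (φ : P →* Ω), φ ∈ F.Hom P →
      ∃ α ∈ F.autGroup T, ∀ x : P, φ x = ((α ⟨x, hP x.2⟩ : T) : Ω)) :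
    (innerFusionSystem T).IsNormalIn F p := by
  have habT : ∀ x ∈ T, ∀ y ∈ T, x * y = y * x := fun x hx y hy => hab x (hTS hx) y (hTS hy)
  refine ⟨⟨inner_saturated_of_abelian habT p, hF, ?_, hsc, ?_, ?_⟩, ?_⟩
  · -- subsystem
    rintro P φ ⟨hP, g, hg, hφ⟩
    have : φ = conjHom P g := by
      ext x
      rw [hφ x]
      rfl
    rw [this]
    exact F.conj_mem (hP.trans hTS) (hTS hg)
  · -- invariance
    intro P hPT φ hφ α _
    have hle : (P.subgroupOf T).map (T.subtype.comp α.toMonoidHom) ≤ T := by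
      rintro _ ⟨y, -, rfl⟩
      exact (α y).2
    refine ⟨((P.subgroupOf T).map (T.subtype.comp α.toMonoidHom)).subtype, subtype_mem _ hle, ?_⟩
    intro x hφx hαx
    have hx : φ x = x := inner_hom_apply_of_abelian habT hφ x
    show ((α ⟨x, hPT x.2⟩ : T) : Ω) = ((α ⟨φ x, hφx⟩ : T) : Ω)
    congr 2
    apply Subtype.ext
    exact hx.symm
  · -- Frattini
    intro P hP φ hφ
    obtain ⟨α, hα, h⟩ := hfrat P hP φ hφ
    refine ⟨α, hα, P.subtype, subtype_mem _ hP, fun x hx => ?_⟩
    exact h x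
  · -- extension condition
    intro α hα
    rw [inner_autGroup_eq_bot_of_abelian habT T, Subgroup.mem_bot] at hα
    subst hα
    refine ⟨1, Subgroup.one_mem _, fun x => rfl, fun c _ => ?_⟩
    simp

end Cfsg.Agent.Lib.Helper27
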