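import Cfsg.Agent.Lib.Helper27.KL14

/-!
helper27: closed predicates on partial maps of a fusion system; Alperin's theorem with induction hypothesis and the
generation `F = ⟨S C_F(Q), N_F(Q C_S(Q))⟩` for such predicates; the predicate of maps extending to fix a subgroup
pointwise.
-/

set_option autoImplicit false
set_option linter.unusedSectionVars false
set_option linter.unusedVariables false

namespace Cfsg.Agent.Lib.Helper27.KL

open Cfsg Cfsg.FusionSystem Cfsg.Agent.Lib.Helper26 Cfsg.Agent.Lib.Helper27.FM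
  Cfsg.Agent.Lib.Helper27.ModelRad

universe u

variable {Ω : Type u} [Group Ω] {S : Subgroup Ω}

/-- A predicate on the partial maps of a fusion system closed under the operations of the system. -/
structure PMPred (F : FusionSystem S) where
  C : Subgroup Ω → (Ω → Ω) → Prop
  isFM : ∀ {R : Subgroup Ω} {θ : Ω → Ω}, C R θ → IsFM F R θ
  mono : ∀ {R R' : Subgroup Ω} {θ : Ω → Ω}, C R θ → R' ≤ R → C R' θ
  congr : ∀ {R : Subgroup Ω} {θ θ₂ : Ω → Ω}, C R θ → (∀ x ∈ R, θ x = θ₂ x) → C R θ₂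
  conj : ∀ {R : Subgroup Ω} {s : Ω}, R ≤ S → s ∈ S → C R (fun x => s * x * s⁻¹)
  comp : ∀ {R R' : Subgroup Ω} {θ θ' : Ω → Ω}, C R θ → C R' θ' → (∀ x ∈ R, θ x ∈ R') →
    C R (fun x => θ' (θ x))
  inverse : ∀ {R R' : Subgroup Ω} {θ θinv : Ω → Ω}, C R θ → IsImage R θ R' → (∀ x ∈ R, θinv (θ x) = x) →
    C R' θinv

/-- The associated predicate on homomorphisms. -/
def PMPred.toHomPred {F : FusionSystem S} (C : PMPred F) : HomPred F where
  C P φ := C.C P (ofHom φ)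
  conj := by
    intro P g hP hg
    refine C.congr (C.conj hP hg) (fun x hx => ?_)
    rw [ofHom_apply' _ hx]
    rfl
  comp := by
    intro P R φ ψ hφ hψ hCφ hCψ h
    have hval : ∀ x ∈ P, ofHom φ x ∈ R := fun x hx => by
      rw [ofHom_apply' _ hx]; exact h ⟨x, hx⟩
    refine C.congr (C.comp hCφ hCψ hval) (fun x hx => ?_)
    rw [ofHom_apply' _ hx, ofHom_apply' _ hx, ofHom_apply' ψ (h ⟨x, hx⟩)]
    rfl
  inv := by
    intro P φ hφ hCφ ψ hψ hψx
    have hi : IsImage P (ofHom φ) φ.range := by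
      intro y
      constructor
      · rintro ⟨x, rfl⟩
        exact ⟨x, x.2, ofHom_apply φ x⟩
      · rintro ⟨x, hx, rfl⟩
        exact ⟨⟨x, hx⟩, (ofHom_apply' φ hx).symm⟩
    apply C.inverse hCφ hi
    intro x hx
    have hm : ofHom φ x ∈ φ.range := hi.mem hx
    rw [ofHom_apply' ψ hm]
    have e : (⟨ofHom φ x, hm⟩ : ↥φ.range) = ⟨φ ⟨x, hx⟩, ⟨⟨x, hx⟩, rfl⟩⟩ :=
      Subtype.ext (ofHom_apply' φ hx)
    rw [e, hψx]

/-- Alperin's theorem with an induction hypothesis, for predicates on partial maps. -/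
theorem PMPred.forall_of_step [Finite S] {p : ℕ} [Fact p.Prime] (hS : IsPGroup p S) {F : FusionSystem S}
    (hF : F.IsSaturated p) (C : PMPred F)
    (hstep : ∀ (P : Subgroup Ω), P ≤ S → F.IsFullyNormalized P → (P = S ∨ (F.IsEssential p P ∧ P ≠ S)) →
      (∀ (R : Subgroup Ω) (θ : Ω → Ω), IsFM F R θ → Nat.card P < Nat.card R → C.C R θ) →
      ∀ a : Ω → Ω, IsFM F P a → IsImage P a P → C.C P a) :
    ∀ (R : Subgroup Ω) (θ : Ω → Ω), IsFM F R θ → C.C R θ := by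
  have key := KL.forall_of_step hS hF C.toHomPred
    (by
      intro α hα
      exact hstep S le_rfl (top_fullyNormalized F) (Or.inl rfl)
        (fun R θ hθ hlt => by
          exfalso
          have := Subgroup.card_le_of_le hθ.le
          omega) _ (aut_isFM F le_rfl hα) (isImage_aut α))
    (by
      intro P hess hne IH α hα
      have hPS : P ≤ S := hess.1.1
      refine hstep P hPS hess.2.1 (Or.inr ⟨hess, hne⟩) (fun R θ hθ hlt => ?_) _ (aut_isFM F hPS hα)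
        (isImage_aut α)
      obtain ⟨φ, hφ, h1⟩ := hθ
      exact C.congr (IH R φ hφ hlt) (fun x hx => by rw [ofHom_apply' φ hx]; exact h1 ⟨x, hx⟩))
  intro R θ hθ
  obtain ⟨φ, hφ, h1⟩ := hθ
  exact C.congr (key R φ hφ) (fun x hx => by rw [ofHom_apply' φ hx]; exact h1 ⟨x, hx⟩)

/-- The generation step for predicates on partial maps: a closed predicate that holds for the maps of `S C_F(Q)` and
for those of `N_F(Q C_S(Q))` holds for all maps of `F`. -/
theorem PMPred.forall_of_gen [Finite S] {p : ℕ} [Fact p.Prime] (hS : IsPGroup p S) {F : FusionSystem S}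
    (hF : F.IsSaturated p) (C : PMPred F) {Q : Subgroup Ω} (hQ : F.IsNormal Q) [Finite Q]
    (hQn : ∀ s ∈ S, ∀ q ∈ Q, s * q * s⁻¹ ∈ Q)
    (hD : ∀ (R : Subgroup Ω) (θ : Ω → Ω), SC F Q R θ → C.C R θ)
    (hRS : Q ⊔ centralizerIn S Q ≤ S)
    (hR : ∀ (R : Subgroup Ω) (θ : Ω → Ω), IsFM (normalizerSystem F (Q ⊔ centralizerIn S Q) hRS) R θ →
      C.C R θ) :
    ∀ (R : Subgroup Ω) (θ : Ω → Ω), IsFM F R θ → C.C R θ := by
  have hQS : Q ≤ S := hQ.1
  have hCS : centralizerIn S Q ≤ S := centralizerIn_le S Q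
  have hsc := stronglyClosed_of_isNormal F hQ
  have hE₀ := normalizerSystem_isNormalizerSystem F (Q ⊔ centralizerIn S Q) hRS
  have hRn : ∀ s ∈ S, ∀ r ∈ Q ⊔ centralizerIn S Q, s * r * s⁻¹ ∈ Q ⊔ centralizerIn S Q := fun s hs =>
    conj_mem_sup_of_forall (hQn s hs) (fun c hc => conj_mem_centralizerIn hQn hs hc)
  haveI : Finite ↥(Q ⊔ centralizerIn S Q) := finite_of_le hRS
  have hSN : S ≤ normalizerIn S (Q ⊔ centralizerIn S Q) := fun s hs =>
    ⟨hs, mem_normalizer_of_conj_mem_finite (hRn s hs)⟩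
  have hQfn : F.IsFullyNormalized Q := isFullyNormalized_of_isNormal F hQ
  have hRec := saturated_fn_receptive hS F hF hQfn
  apply C.forall_of_step hS hF
  intro P hPS hPfn hPess IH a ha hi
  have hQP : Q ≤ P := by
    rcases hPess with rfl | ⟨hess, -⟩
    · exact hQS
    · exact le_of_isNormal_of_centric_radical hS F hQ hess.1 (radical_of_essential hS F P hess)
  have haQ : ∀ q ∈ Q, a q ∈ Q := fun q hq => ha.mem_of_stronglyClosed hsc (hQP hq) hq
  have hiQ : IsImage Q a Q := ha.isImage_self_of_forall_mem hQP haQ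
  by_cases hC : centralizerIn S Q ≤ P
  · have hRP : Q ⊔ centralizerIn S Q ≤ P := sup_le hQP hC
    have haC : ∀ c ∈ centralizerIn S Q, a c ∈ centralizerIn S Q := by
      intro c hc
      obtain ⟨hcS, hcc⟩ := mem_centralizerIn_iff.mp hc
      rw [mem_centralizerIn_iff]
      refine ⟨ha.mem (hC hc), fun x hx => ?_⟩
      obtain ⟨x', hx', rfl⟩ := (hiQ x).mp hx
      rw [← ha.map_mul (hQP hx') (hC hc), ← ha.map_mul (hC hc) (hQP hx'), hcc x' hx']
    have haR : ∀ r ∈ Q ⊔ centralizerIn S Q, a r ∈ Q ⊔ centralizerIn S Q :=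
      ha.map_sup_mem hQP hC (fun x hx => (le_sup_left : Q ≤ _) (haQ x hx))
        (fun x hx => (le_sup_right : centralizerIn S Q ≤ _) (haC x hx))
    have haE : IsFM (normalizerSystem F (Q ⊔ centralizerIn S Q) hRS) P a := by
      rw [isFM_normalizer_iff F hRS _ hE₀]
      exact ⟨hPS.trans hSN, fun x hx => hSN (ha.mem hx), a, ha.of_eq (sup_eq_left.mpr hRP),
        fun _ _ => rfl, haR⟩
    exact hR P a haE
  · obtain ⟨φ, hφ, hφa⟩ := ha.mono hQP
    have hφr : φ.range = Q := by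
      ext y
      rw [hiQ y]
      constructor
      · rintro ⟨x, rfl⟩
        exact ⟨x, x.2, (hφa x).symm⟩
      · rintro ⟨x, hx, rfl⟩
        exact ⟨⟨x, hx⟩, hφa ⟨x, hx⟩⟩
    have hPext : P ≤ extender S Q φ := by
      intro g hg
      rw [mem_extender_iff]
      refine ⟨hPS hg, mem_normalizer_of_conj_mem_finite (hQn g (hPS hg)), a g, ha.mem hg, fun x hx => ?_⟩
      rw [hφa, hφa]
      show a (g * (x : Ω) * g⁻¹) = a g * a x * (a g)⁻¹
      rw [ha.map_mul (P.mul_mem hg (hQP x.2)) (P.inv_mem hg), ha.map_mul hg (hQP x.2), ha.map_inv hg]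
    have hCext : centralizerIn S Q ≤ extender S Q φ := centralizerIn_le_extender Q φ
    obtain ⟨γ', hγ', hγ'φ⟩ := exists_ext_of_receptive hRec φ hφ hφr (sup_le hPext hCext)
    have hXS : P ⊔ centralizerIn S Q ≤ S := sup_le hPS hCS
    have hPX : P ≤ P ⊔ centralizerIn S Q := le_sup_left
    have hXeq : (P ⊔ centralizerIn S Q) ⊔ Q = P ⊔ centralizerIn S Q :=
      sup_eq_left.mpr (hQP.trans hPX)
    have hγX : IsFM F (P ⊔ centralizerIn S Q) γ' := hγ'.of_eq hXeq.symm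
    have hlt : Nat.card P < Nat.card ↥(P ⊔ centralizerIn S Q) :=
      card_lt_of_not_le hPX hXS (fun h => hC (le_sup_right.trans h))
    have hγC : C.C P γ' := C.mono (IH _ γ' hγX hlt) hPX
    have hγQ : ∀ q ∈ Q, γ' q = a q := fun q hq => by rw [hγ'φ ⟨q, hq⟩, hφa ⟨q, hq⟩]
    have hγP : IsFM F P γ' := hγX.mono hPX
    obtain ⟨P₁, hP₁⟩ := hγP.exists_image
    obtain ⟨θinv, hθinv, hθinvi, hl, hr⟩ := hγP.exists_inverse hP₁
    have hQP₁ : Q ≤ P₁ := by
      intro q hq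
      obtain ⟨q', hq', rfl⟩ := (hiQ q).mp hq
      rw [← hγQ q' hq']
      exact hP₁.mem (hQP hq')
    have hχ : IsFM F P₁ (fun y => a (θinv y)) := hθinv.comp ha (fun y hy => hθinvi.mem hy)
    have hχfix : ∀ q ∈ Q, a (θinv q) = q := by
      intro q hq
      obtain ⟨q', hq', rfl⟩ := (hiQ q).mp hq
      rw [← hγQ q' hq', hl q' (hQP hq'), hγQ q' hq']
    have hχC : C.C P₁ (fun y => a (θinv y)) := hD _ _ (SC.of_fix hQP₁ hχ hχfix)
    exact C.congr (C.comp hγC hχC (fun x hx => hP₁.mem hx)) (fun x hx => by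
      show a (θinv (γ' x)) = a x
      rw [hl x hx])

/-- `θ` on `R` is a map of `F` that extends to `R ⊔ X` fixing `X` pointwise. -/
def CM (F : FusionSystem S) (X R : Subgroup Ω) (θ : Ω → Ω) : Prop :=
  ∃ θ' : Ω → Ω, IsFM F (R ⊔ X) θ' ∧ (∀ x ∈ R, θ' x = θ x) ∧ ∀ q ∈ X, θ' q = q

theorem CM.isFM {F : FusionSystem S} {X R : Subgroup Ω} {θ : Ω → Ω} (h : CM F X R θ) : IsFM F R θ := by
  obtain ⟨θ', h1, h2, -⟩ := h
  exact (h1.mono le_sup_left).congr h2

theorem CM.of_fix {F : FusionSystem S} {X R : Subgroup Ω} {θ : Ω → Ω} (hXR : X ≤ R) (h : IsFM F R θ)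
    (hfix : ∀ q ∈ X, θ q = q) : CM F X R θ :=
  ⟨θ, h.of_eq (sup_eq_left.mpr hXR), fun _ _ => rfl, hfix⟩

theorem CM.apply_eq {F : FusionSystem S} {X R : Subgroup Ω} {θ : Ω → Ω} (h : CM F X R θ) {q : Ω}
    (hqX : q ∈ X) (hqR : q ∈ R) : θ q = q := by
  obtain ⟨θ', h1, h2, h3⟩ := h
  rw [← h2 q hqR, h3 q hqX]

/-- The maps extending to fix `X` pointwise, as a closed predicate (`X` central in `S`). -/
def cmPM (F : FusionSystem S) (X : Subgroup Ω) (hX : X ≤ S) (hXc : ∀ s ∈ S, ∀ q ∈ X, s * q * s⁻¹ = q)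
    [Finite X] : PMPred F where
  C R θ := CM F X R θ
  isFM := fun h => h.isFM
  mono := by
    rintro R R' θ ⟨θ', h1, h2, h3⟩ hle
    exact ⟨θ', h1.mono (sup_le_sup_right hle X), fun x hx => h2 x (hle hx), h3⟩
  congr := by
    rintro R θ θ₂ ⟨θ', h1, h2, h3⟩ he
    exact ⟨θ', h1, fun x hx => (h2 x hx).trans (he x hx), h3⟩
  conj := by
    intro R s hR hs
    exact ⟨fun x => s * x * s⁻¹, isFM_conj F (sup_le hR hX) hs, fun _ _ => rfl, hXc s hs⟩
  comp := by
    rintro R R' θ θ' ⟨θ₁, h1, h2, h3⟩ ⟨θ₁', h1', h2', h3'⟩ hRR'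
    have hmap : ∀ x ∈ R ⊔ X, θ₁ x ∈ R' ⊔ X :=
      h1.map_sup_mem le_sup_left le_sup_right
        (fun x hx => (le_sup_left : R' ≤ R' ⊔ X) (by rw [h2 x hx]; exact hRR' x hx))
        (fun u hu => (le_sup_right : X ≤ R' ⊔ X) (by rw [h3 u hu]; exact hu))
    refine ⟨fun x => θ₁' (θ₁ x), h1.comp h1' hmap, fun x hx => ?_, fun q hq => ?_⟩
    · show θ₁' (θ₁ x) = θ' (θ x)
      rw [h2 x hx, h2' _ (hRR' x hx)]
    · show θ₁' (θ₁ q) = q
      rw [h3 q hq, h3' q hq]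
  inverse := by
    rintro R R' θ θinv ⟨θ₁, h1, h2, h3⟩ hi hinv
    have hiR : IsImage R θ₁ R' := hi.congr (fun x hx => (h2 x hx).symm)
    have hiX : IsImage X θ₁ X := h1.isImage_self_of_forall_mem le_sup_right
      (fun q hq => by rw [h3 q hq]; exact hq)
    have hisup : IsImage (R ⊔ X) θ₁ (R' ⊔ X) := h1.isImage_sup le_sup_left le_sup_right hiR hiX
    obtain ⟨θ₂, hθ₂, -, hl, hr⟩ := h1.exists_inverse hisup
    refine ⟨θ₂, hθ₂, fun y hy => ?_, fun q hq => ?_⟩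
    · obtain ⟨x, hx, rfl⟩ := (hi y).mp hy
      rw [hinv x hx, ← h2 x hx, hl x (le_sup_left (a := R) (b := X) hx)]
    · have := hl q (le_sup_right (a := R) (b := X) hq)
      rw [h3 q hq] at this
      exact this

/-- A subgroup all of whose... : `X` is central in `F` iff every map of `F` extends to fix `X` pointwise. -/
theorem isCentral_iff_forall_cm (F : FusionSystem S) {X : Subgroup Ω} :
    F.IsCentral X ↔ X ≤ S ∧ ∀ (R : Subgroup Ω) (θ : Ω → Ω), IsFM F R θ → CM F X R θ := by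
  constructor
  · rintro ⟨hXS, h⟩
    refine ⟨hXS, fun R θ hθ => ?_⟩
    obtain ⟨φ, hφ, h1⟩ := hθ
    obtain ⟨ψ, hψ, hψφ, hψX⟩ := h R φ hφ
    refine ⟨ofHom ψ, isFM_ofHom hψ, fun x hx => ?_, fun q hq => ?_⟩
    · rw [ofHom_apply' ψ ((le_sup_left : R ≤ R ⊔ X) hx), ← h1 ⟨x, hx⟩, ← hψφ ⟨x, hx⟩]
      rfl
    · rw [ofHom_apply' ψ ((le_sup_right : X ≤ R ⊔ X) hq)]
      exact hψX ⟨q, hq⟩
  · rintro ⟨hXS, h⟩
    refine ⟨hXS, fun P φ hφ => ?_⟩
    obtain ⟨θ', ⟨ψ, hψ, h1⟩, hext, hfix⟩ := h P (ofHom φ) (isFM_ofHom hφ)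
    refine ⟨ψ, hψ, fun x => ?_, fun q => ?_⟩
    · rw [h1]
      show θ' (x : Ω) = φ x
      rw [hext x x.2, ofHom_apply]
    · rw [h1]
      exact hfix q q.2

end Cfsg.Agent.Lib.Helper27.KL
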