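import Cfsg.Agent.Lib.Helper27.BS12
import Cfsg.Agent.Lib.Helper26.FSNormal
import Cfsg.Agent.Lib.Helper27.KL15

/-!
# `foc(F) ∩ Z(F) = S' ∩ Z(F)` (helper27)
-/

set_option autoImplicit false

namespace Cfsg.Agent.Lib.Helper27.BS

open Cfsg Cfsg.FusionSystem Cfsg.Agent.Lib.Helper26 Cfsg.Agent.Lib.Helper27.FM
open Cfsg.Agent.Lib.Helper27.KL MulAction

universe u

variable {Ω : Type u} [Group Ω] {S : Subgroup Ω}

/-- elements of the centre of the system are fixed by all maps of the system -/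
theorem center_fixed [Finite S] (F : FusionSystem S) {P : Subgroup Ω} {θ : Ω → Ω} (hθ : IsFM F P θ) {w : Ω}
    (hw : w ∈ F.center) (hwP : w ∈ P) : θ w = w := by
  obtain ⟨-, hcm⟩ := (isCentral_iff_forall_cm F).mp (center_isCentral F)
  obtain ⟨θ', -, h2, h3⟩ := hcm P θ hθ
  rw [← h2 w hwP, h3 w hw]

theorem focal_inf_center_le {p : ℕ} [Fact p.Prime] [Finite S] (hS : IsPGroup p S) (F : FusionSystem S)
    (hF : F.IsSaturated p) : F.focalSubgroup ⊓ F.center ≤ ⁅S, S⁆ := by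
  obtain ⟨X, instX, finX, hst, htw, n, hn, hpn⟩ := exists_char_biset hS F hF
  letI : MulAction ↥S X := MulAction.compHom X rtHom
  have hcomp : ∀ (b : ↥S) (x : X), b • x = pair 1 b • x := fun _ _ => rfl
  rintro z ⟨hzf, hzc⟩
  have hcS : F.center ≤ S := (center_isCentral F).1
  have hzS : z ∈ S := hcS hzc
  have h1 := focal_le_ker_of_stable F (trf hcomp hst (Abelianization.of (G := ↥S)))
    (fun P θ hθ a ha => trfFun_stable hcomp hst htw _ hθ a ha)
  obtain ⟨z', hz', hzz'⟩ := h1 hzf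
  have hz'' : z' = ⟨z, hzS⟩ := Subtype.ext hzz'
  rw [hz''] at hz'
  have h2 : trfFun X (Abelianization.of (G := ↥S)) ⟨z, hzS⟩ = 1 := hz'
  have h3 := trfFun_central hcomp hst (Abelianization.of (G := ↥S)) (F.center.subgroupOf S)
    (fun P θ hθ w hw hwP => center_fixed F hθ (Subgroup.mem_subgroupOf.mp hw) hwP) ⟨z, hzS⟩
    (Subgroup.mem_subgroupOf.mpr hzc)
  rw [h2] at h3
  have h4 := card_eq_card_orb_mul (rfree hcomp hst)
  rw [hn, mul_comm] at h4
  have hSpos : 0 < Nat.card ↥S := Nat.card_pos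
  have h5 : Nat.card (Orb ↥S X) = n := (Nat.eq_of_mul_eq_mul_right hSpos h4).symm
  rw [h5, inv_pow] at h3
  have h6 : (Abelianization.of (⟨z, hzS⟩ : ↥S)) ^ n = 1 := by
    rw [← inv_inj, ← h3, inv_one]
  have h7 : orderOf (Abelianization.of (⟨z, hzS⟩ : ↥S)) ∣ n := orderOf_dvd_of_pow_eq_one h6
  obtain ⟨k, hk⟩ := hS ⟨z, hzS⟩
  have h8 : orderOf (Abelianization.of (⟨z, hzS⟩ : ↥S)) ∣ p ^ k :=
    (orderOf_map_dvd _ _).trans (orderOf_dvd_of_pow_eq_one hk)
  have hcop : Nat.Coprime (p ^ k) n :=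
    Nat.Coprime.pow_left k ((Nat.Prime.coprime_iff_not_dvd (Fact.out)).mpr hpn)
  have h9 : orderOf (Abelianization.of (⟨z, hzS⟩ : ↥S)) = 1 :=
    Nat.eq_one_of_dvd_coprimes hcop h8 h7
  have h10 : Abelianization.of (⟨z, hzS⟩ : ↥S) = 1 := orderOf_eq_one_iff.mp h9
  have h11 : (⟨z, hzS⟩ : ↥S) ∈ commutator ↥S := by
    rw [← Abelianization.ker_of, MonoidHom.mem_ker]
    exact h10
  rw [← Subgroup.map_subtype_commutator]
  exact ⟨⟨z, hzS⟩, h11, rfl⟩

end Cfsg.Agent.Lib.Helper27.BS
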