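import Mathlib
import Cfsg.Agent.Lib.Helper27.A7BlkG

/-!
# Simple groups of order 2520, part H: the patterns `(8,15;24)` and `(15,20;4)` (helper27)

Both die by the equation of the involutions, a positive definite quadratic form.
-/

set_option autoImplicit false
set_option linter.unusedSectionVars false
set_option linter.style.haveILetI false

namespace Cfsg.Agent.Lib.Helper27.A7Blk

open MulAction Cfsg Cfsg.Agent.CharLib Cfsg.Agent.Lib.Helper24 Cfsg.Agent.Lib.Helper6
  Cfsg.Agent.Lib.Helper5.L33 Cfsg.Agent.Lib.Helper12.BSF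
open scoped ComplexConjugate

universe u

variable {G : Type u} [Group G] [Finite G]

theorem exists_orderOf_eq_prime (hG : Nat.card G = 2520) (r : ℕ) (hr : r.Prime) (hd : r ∣ 2520) :
    ∃ g : G, orderOf g = r := by
  haveI : Fact r.Prime := ⟨hr⟩
  exact exists_prime_orderOf_dvd_card' (G := G) r (by rw [hG]; exact hd)

section kills

variable [IsSimpleGroup G] (hG : Nat.card G = 2520)
  (h21 : ∀ y : G, orderOf y = 7 →
    Nat.card ↥(Subgroup.normalizer ((Subgroup.zpowers y : Subgroup G) : Set G)) = 21)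

include hG h21

/-- the pattern `1 + 8 + 15 = 24` is impossible -/
theorem false_of_pat1 {x8 x15 : IrrCharacter G} {Yf : Finset (IrrCharacter G)}
    (B : Blk7 x8 x15 Yf 8 1 15 1 24 (-1)) : False := by
  obtain ⟨t, ht⟩ := exists_orderOf_eq_prime hG 2 (by norm_num) (by norm_num)
  obtain ⟨y, hy⟩ := exists_orderOf_eq_prime hG 7 (by norm_num) (by norm_num)
  have hu2 := B.unique2 (by norm_num) (by norm_num) (by norm_num) (by norm_num)
  have hu3 := B.unique3 (by norm_num) (by norm_num) (by norm_num) (by norm_num)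
  obtain ⟨p, hp⟩ := int_of_unique x8 hu2 t
  obtain ⟨q, hq⟩ := int_of_unique x15 hu3 t
  have h := B.invol_eq h21 y hy t t ht ht p q p q hp hq hp hq
  push_cast at h
  have hQ : (q - 15) ^ 2 = 0 := by
    nlinarith [sq_nonneg (2 * (p - 8) - (q - 15)), sq_nonneg (q - 15)]
  have hq15 : q = 15 := by
    have := pow_eq_zero_iff (two_ne_zero) |>.mp hQ
    omega
  subst hq15
  have hP : (p - 8) ^ 2 = 0 := by nlinarith [sq_nonneg (p - 8)]
  have hp8 : p = 8 := by
    have := pow_eq_zero_iff (two_ne_zero) |>.mp hP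
    omega
  subst hp8
  have ht1 : t = 1 := by
    apply eq_one_of_apply_eq_apply_one x8 B.t2 t
    rw [hp, B.apply_one_2]
    norm_num
  rw [ht1, orderOf_one] at ht
  omega

/-- the pattern `1 + 15 + 4 = 20` is impossible -/
theorem false_of_pat4 {x15 x20 : IrrCharacter G} {Yf : Finset (IrrCharacter G)}
    (B : Blk7 x15 x20 Yf 15 1 20 (-1) 4 1) : False := by
  obtain ⟨t, ht⟩ := exists_orderOf_eq_prime hG 2 (by norm_num) (by norm_num)
  obtain ⟨y, hy⟩ := exists_orderOf_eq_prime hG 7 (by norm_num) (by norm_num)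
  have hu2 := B.unique2 (by norm_num) (by norm_num) (by norm_num) (by norm_num)
  have hu3 := B.unique3 (by norm_num) (by norm_num) (by norm_num) (by norm_num)
  obtain ⟨p, hp⟩ := int_of_unique x15 hu2 t
  obtain ⟨q, hq⟩ := int_of_unique x20 hu3 t
  have h := B.invol_eq h21 y hy t t ht ht p q p q hp hq hp hq
  push_cast at h
  -- θ = 1 + p - q ; (p - 3 + 3θ)² + 3 (θ + 4)² = 0
  have hT : (1 + p - q + 4) ^ 2 = 0 := by
    nlinarith [sq_nonneg (p - 3 + 3 * (1 + p - q)), sq_nonneg (1 + p - q + 4)]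
  have hθ : 1 + p - q + 4 = 0 := pow_eq_zero_iff (two_ne_zero) |>.mp hT
  have hq' : q = p + 5 := by omega
  subst hq'
  have hP : (p - 15) ^ 2 = 0 := by nlinarith [sq_nonneg (p - 15)]
  have hp15 : p = 15 := by
    have := pow_eq_zero_iff (two_ne_zero) |>.mp hP
    omega
  subst hp15
  have ht1 : t = 1 := by
    apply eq_one_of_apply_eq_apply_one x15 B.t2 t
    rw [hp, B.apply_one_2]
    norm_num
  rw [ht1, orderOf_one] at ht
  omega

end kills

end Cfsg.Agent.Lib.Helper27.A7Blk
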