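import Mathlib
import Cfsg.Agent.Lib.Helper27.A7BlkH

/-!
# Simple groups of order 2520, part I: the pattern `(8,6;3)` and the reduction (helper27)

The pattern `1 + 8 = 6 + 3` (the principal `7`-block of `PSL₂(7)`) dies on an element of order `5`:
the characters of degree `8` and `6` are unique of their degree, hence rational, so the exceptional
character `η` of degree `3` has the integer value `θ = 1 + χ₈ - χ₆` on all non-identity powers, and
`3 + 4 θ ∈ 5 ℕ`, `|θ| ≤ 3` force `θ = 3`.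
-/

set_option autoImplicit false
set_option linter.unusedSectionVars false
set_option linter.style.haveILetI false

namespace Cfsg.Agent.Lib.Helper27.A7Blk

open MulAction Cfsg Cfsg.Agent.CharLib Cfsg.Agent.Lib.Helper24 Cfsg.Agent.Lib.Helper6
  Cfsg.Agent.Lib.Helper5.L33 Cfsg.Agent.Lib.Helper12.BSF
open scoped ComplexConjugate

universe u

variable {G : Type u} [Group G] [Finite G]

/-- the pattern `1 + 8 = 6 + 3` is impossible -/
theorem false_of_pat2 [IsSimpleGroup G] (hG : Nat.card G = 2520)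
    {x8 x6 : IrrCharacter G} {Yf : Finset (IrrCharacter G)}
    (B : Blk7 x8 x6 Yf 8 1 6 (-1) 3 (-1)) : False := by
  obtain ⟨x, hx⟩ := exists_orderOf_eq_prime hG 5 (by norm_num) (by norm_num)
  have hu2 := B.unique2 (by norm_num) (by norm_num) (by norm_num) (by norm_num)
  have hu3 := B.unique3 (by norm_num) (by norm_num) (by norm_num) (by norm_num)
  obtain ⟨p, hp⟩ := int_of_unique x8 hu2 x
  obtain ⟨q, hq⟩ := int_of_unique x6 hu3 x
  obtain ⟨η, hη⟩ := B.exists_mem_Y
  have hval : ∀ j : ℕ, 0 < j → j < 5 → (η : G → ℂ) (x ^ j) = ((1 + p - q : ℤ) : ℂ) := by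
    intro j h1 h2
    have hcop : j.Coprime (orderOf x) := by
      rw [hx]
      exact ((Nat.Prime.coprime_iff_not_dvd (by norm_num : Nat.Prime 5)).mpr
        (Nat.not_dvd_of_pos_of_lt h1 h2)).symm
    have hreg : ¬ 7 ∣ orderOf (x ^ j) := by
      intro h7
      have hd : orderOf (x ^ j) ∣ 5 := by rw [← hx]; exact orderOf_pow_dvd j
      have := Nat.dvd_trans h7 hd
      omega
    rw [B.eta_eq hη (x ^ j) hreg, pow_eq_of_unique x8 hu2 x j hcop,
      pow_eq_of_unique x6 hu3 x j hcop, hp, hq]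
    push_cast
    ring
  obtain ⟨m, hm⟩ := prime_sum η x 5 (by norm_num) hx (1 + p - q) hval
  rw [B.dY η hη] at hm
  have hx1 : (η : G → ℂ) x = ((1 + p - q : ℤ) : ℂ) := by
    have := hval 1 (by norm_num) (by norm_num)
    rwa [pow_one] at this
  have hnorm := irr_norm_le η x
  rw [B.dY η hη, hx1, Complex.norm_intCast] at hnorm
  have habs : |1 + p - q| ≤ 3 := by
    have h3 : ((|1 + p - q| : ℤ) : ℝ) ≤ ((3 : ℤ) : ℝ) := by
      rw [Int.cast_abs]
      have : (((3 : ℕ) : ℝ)) = ((3 : ℤ) : ℝ) := by norm_num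
      rw [← this]
      exact hnorm
    exact_mod_cast h3
  have hθ : 1 + p - q = 3 := by
    have h1 := abs_le.mp habs
    push_cast at hm
    omega
  have hx1' : x = 1 := by
    apply eq_one_of_apply_eq_apply_one η (B.tY η hη) x
    rw [hx1, B.apply_one_Y hη, hθ]
    norm_num
  rw [hx1', orderOf_one] at hx
  omega

/-- **the principal `7`-block of a simple group of order `2520`** is that of `A₇` -/
theorem exists_blk7_A7 [IsSimpleGroup G] (hG : Nat.card G = 2520)
    (h21 : ∀ y : G, orderOf y = 7 →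
      Nat.card ↥(Subgroup.normalizer ((Subgroup.zpowers y : Subgroup G) : Set G)) = 21)
    [Fact (Nat.Prime 7)]
    (P : Sylow 7 G) (hP : Nat.card ↥(P : Subgroup G) = 7)
    (hCc : Nat.card ↥(Subgroup.centralizer ((P : Subgroup G) : Set G)) = 7)
    (hr : (Subgroup.centralizer ((P : Subgroup G) : Set G)).relIndex
      (Subgroup.normalizer ((P : Subgroup G) : Set G)) = 3) :
    ∃ (x15 x6 : IrrCharacter G) (Yf : Finset (IrrCharacter G)),
      Blk7 x15 x6 Yf 15 1 6 (-1) 10 (-1) := by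
  obtain ⟨x2, x3, Yf, n2, a2, n3, a3, e, κ, B, hpat⟩ := exists_blk7 hG P hP hCc hr
  rcases hpat with ⟨rfl, rfl, rfl, rfl, rfl, rfl⟩ | ⟨rfl, rfl, rfl, rfl, rfl, rfl⟩ |
    ⟨rfl, rfl, rfl, rfl, rfl, rfl⟩ | ⟨rfl, rfl, rfl, rfl, rfl, rfl⟩
  · exact (false_of_pat1 hG h21 B).elim
  · exact (false_of_pat2 hG B).elim
  · exact ⟨x2, x3, Yf, B⟩
  · exact (false_of_pat4 hG h21 B).elim

end Cfsg.Agent.Lib.Helper27.A7Blk
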