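import Mathlib
import Cfsg.Agent.Lib.Helper8.A7ValB

/-!
# Simple groups of order 2520, part J: the elements of order `4` (helper27)

`four_data`: in the `A₇` pattern the character of degree `6` takes the value `0` or `2` at every
element of order `4`.
-/

set_option autoImplicit false
set_option linter.unusedSectionVars false
set_option linter.style.haveILetI false

namespace Cfsg.Agent.Lib.Helper27.A7Blk

open MulAction Cfsg Cfsg.Agent.CharLib Cfsg.Agent.Lib.Helper24 Cfsg.Agent.Lib.Helper6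
  Cfsg.Agent.Lib.Helper5.L33 Cfsg.Agent.Lib.Helper12.BSF Cfsg.Agent.Lib.Helper8.A7Val
open scoped ComplexConjugate

universe u

variable {G : Type u} [Group G] [Finite G]

/-- arithmetic of the elements of order `4` -/
theorem four_arith (a b : ℤ) (N c m m' : ℕ)
    (h6 : (8 : ℤ) + 2 * a = 4 * m) (h15 : (14 : ℤ) + 2 * b = 4 * m')
    (F1 : (N : ℤ) * (c : ℤ) = 14 * (9 + b - 4 * a)) (hc24 : c ∣ 24) (h4c : 4 ∣ c)
    (F5 : 1 + b ^ 2 + a ^ 2 + 2 * (1 + 1 * b + (-1) * a) ^ 2 ≤ (c : ℤ)) :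
    a = 0 ∨ a = 2 := by
  have hc : c = 4 ∨ c = 8 ∨ c = 12 ∨ c = 24 := by
    have hle : c ≤ 24 := Nat.le_of_dvd (by norm_num) hc24
    have hpos : 0 < c := Nat.pos_of_dvd_of_pos hc24 (by norm_num)
    interval_cases c <;> omega
  have hcle : (c : ℤ) ≤ 24 := by
    rcases hc with h | h | h | h <;> rw [h] <;> norm_num
  have ha1 : -4 ≤ a ∧ a ≤ 4 := by
    constructor <;> nlinarith [sq_nonneg b, sq_nonneg (1 + 1 * b + (-1) * a), sq_nonneg (a - 5),
      sq_nonneg (a + 5)]
  have hb1 : -4 ≤ b ∧ b ≤ 4 := by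
    constructor <;> nlinarith [sq_nonneg a, sq_nonneg (1 + 1 * b + (-1) * a), sq_nonneg (b - 5),
      sq_nonneg (b + 5)]
  obtain ⟨ha1, ha2⟩ := ha1
  obtain ⟨hb1, hb2⟩ := hb1
  rcases hc with rfl | rfl | rfl | rfl <;> interval_cases a <;> interval_cases b <;>
    (norm_num at F5) <;> omega

section main

variable [IsSimpleGroup G] (hG : Nat.card G = 2520)
  (h7 : ∀ y : G, orderOf y = 7 → Nat.card ↥(Subgroup.centralizer ({y} : Set G)) = 7)
  {x15 x6 : IrrCharacter G} {Yf : Finset (IrrCharacter G)}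
  (B : Blk7 x15 x6 Yf 15 1 6 (-1) 10 (-1))

include hG h7 B in
/-- **(C-4)** the elements of order `4` -/
theorem four_data
    (hinv : ∀ t : G, orderOf t = 2 → (x6 : G → ℂ) t = 2 ∧ (x15 : G → ℂ) t = -1 ∧
      Nat.card ↥(Subgroup.centralizer ({t} : Set G)) = 24) :
    ∀ u : G, orderOf u = 4 → (x6 : G → ℂ) u = 0 ∨ (x6 : G → ℂ) u = 2 := by
  classical
  intro u hu4
  have hreg : ¬ 7 ∣ orderOf u := by rw [hu4]; norm_num
  have hu1 : u ≠ 1 := by
    intro h
    rw [h, orderOf_one] at hu4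
    omega
  obtain ⟨a, b, ha, hb, ha6, ha5, hb15, hb14, F5, F6, F15, F7⟩ :=
    common_facts hG h7 B u hu1 hreg
  obtain ⟨y, hy⟩ := exists_orderOf_seven hG
  have ht : orderOf (u ^ 2) = 2 := by
    rw [orderOf_pow' u (by norm_num : (2 : ℕ) ≠ 0), hu4]
    norm_num
  obtain ⟨ht6, ht15, htc⟩ := hinv (u ^ 2) ht
  have hregt : ¬ 7 ∣ orderOf (u ^ 2) := by rw [ht]; norm_num
  -- the sums over `⟨u⟩`
  letI : Fintype (Subgroup.zpowers u) := Fintype.ofFinite _
  have hcop : (3 : ℕ).Coprime (orderOf u) := by rw [hu4]; norm_num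
  have hsum : ∀ χ : IrrCharacter G,
      (∀ ψ : IrrCharacter G, charDegree (ψ : G → ℂ) = charDegree (χ : G → ℂ) → ψ = χ) →
      ∃ m : ℕ, (χ : G → ℂ) 1 + (χ : G → ℂ) u + (χ : G → ℂ) (u ^ 2) + (χ : G → ℂ) u =
        4 * (m : ℂ) := by
    intro χ hu
    obtain ⟨m, hm⟩ := sum_subgroup_irr (Subgroup.zpowers u) χ
    refine ⟨m, ?_⟩
    rw [Cfsg.Agent.Lib.Helper13.FrobRep.sum_zpowers_eq_sum_range u (fun x => (χ : G → ℂ) x), hu4,
      ← Nat.card_eq_fintype_card, Nat.card_zpowers, hu4] at hm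
    simp only [Finset.sum_range_succ, Finset.sum_range_zero, pow_zero, pow_one, zero_add] at hm
    rw [pow_eq_of_unique χ hu u 3 hcop] at hm
    rw [hm]
    norm_num
  obtain ⟨m, hm⟩ := hsum x6 (unique6 B)
  obtain ⟨m', hm'⟩ := hsum x15 (unique15 B)
  rw [irr_apply_one, B.d3, ha, ht6] at hm
  rw [irr_apply_one, B.d2, hb, ht15] at hm'
  have h6 : (8 : ℤ) + 2 * a = 4 * m := by
    have : ((8 + 2 * a : ℤ) : ℂ) = ((4 * m : ℤ) : ℂ) := by
      push_cast
      linear_combination hm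
    exact_mod_cast this
  have h15 : (14 : ℤ) + 2 * b = 4 * m' := by
    have : ((14 + 2 * b : ℤ) : ℂ) = ((4 * m' : ℤ) : ℂ) := by
      push_cast
      linear_combination hm'
    exact_mod_cast this
  -- the class multiplication coefficient
  have hp := B.pair_count_int u (u ^ 2) y hreg hregt hy b a (-1) 2 hb ha
    (by rw [ht15]; norm_num) (by rw [ht6]; norm_num)
  rw [htc, hG] at hp
  set N := Nat.card {s_1 : G // IsConj u s_1 ∧ IsConj (u ^ 2) (s_1⁻¹ * y)} with hN
  set c := Nat.card ↥(Subgroup.centralizer ({u} : Set G)) with hc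
  have F1 : (N : ℤ) * (c : ℤ) = 14 * (9 + b - 4 * a) := by
    push_cast at hp
    linarith
  -- `C(u) ≤ C(u²)`
  have hle : Subgroup.centralizer ({u} : Set G) ≤ Subgroup.centralizer ({u ^ 2} : Set G) := by
    intro g hg
    rw [Subgroup.mem_centralizer_singleton_iff] at hg ⊢
    exact ((Commute.pow_right (show Commute g u from hg) 2)).eq
  have hc24 : c ∣ 24 := by
    have := Subgroup.card_dvd_of_le hle
    rwa [htc] at this
  have h4c : 4 ∣ c := by
    have hmem : u ∈ Subgroup.centralizer ({u} : Set G) := by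
      rw [Subgroup.mem_centralizer_singleton_iff]
    have := Subgroup.orderOf_dvd_natCard _ hmem
    rwa [hu4] at this
  rcases four_arith a b N c m m' h6 h15 F1 hc24 h4c F5 with h | h
  · left; rw [ha, h]; norm_num
  · right; rw [ha, h]; norm_num

end main

end Cfsg.Agent.Lib.Helper27.A7Blk
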