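import Mathlib

/-!
helper27: a ring-theoretic lemma behind Glauberman's theorem on `p^n`-th powers of central elements: if
`(u + 1) ^ p = 1` and `u ^ (n (p - 1) + 1) = 0` then `p ^ n * u = 0`.
-/

set_option autoImplicit false

namespace Cfsg.Agent.Lib.Helper27.AG

open Finset

/-- In a commutative ring, if `(u + 1) ^ p = 1` and `u` is nilpotent then `u ^ (k + p - 1) ∣ p * u ^ k` for `k ≥ 1`. -/
theorem pow_dvd_p_mul_pow {A : Type*} [CommRing A] {p : ℕ} (hp : p.Prime) (u : A) (h1 : (u + 1) ^ p = 1)
    (c : ℕ) (hc : u ^ c = 0) : ∀ d k : ℕ, c ≤ k + d → 1 ≤ k → u ^ (k + p - 1) ∣ (p : A) * u ^ k := by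
  obtain ⟨q, rfl⟩ : ∃ q, p = q + 2 := ⟨p - 2, by have := hp.two_le; omega⟩
  have hzero : ∀ k, c ≤ k → u ^ k = 0 := by
    intro k hk
    obtain ⟨e, rfl⟩ := Nat.exists_eq_add_of_le hk
    rw [pow_add, hc, zero_mul]
  -- the basic identity
  have hid : ((q + 2 : ℕ) : A) * u + ∑ m ∈ range q, u ^ (m + 2) * ((q + 2).choose (m + 2) : A) + u ^ (q + 2) = 0 := by
    have h2 := add_pow u 1 (q + 2)
    rw [h1] at h2
    simp only [one_pow, mul_one] at h2
    rw [sum_range_succ, sum_range_succ', sum_range_succ'] at h2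
    simp only [Nat.choose_self, Nat.cast_one, mul_one, pow_zero, Nat.choose_zero_right, zero_add, pow_one,
      Nat.choose_one_right] at h2
    have h3 : ∑ k ∈ range q, u ^ (k + 1 + 1) * (((q + 2).choose (k + 1 + 1) : ℕ) : A) + u * ((q + 2 : ℕ) : A) +
        u ^ (q + 2) = 0 := by
      have h4 := sub_eq_zero.mpr h2.symm
      rw [← h4]
      ring
    rw [← h3]
    ring
  intro d
  induction d with
  | zero =>
    intro k hk _
    rw [hzero k (by omega), mul_zero]
    exact dvd_zero _
  | succ d ih =>
    intro k hk hk1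
    by_cases hck : c ≤ k
    · rw [hzero k hck, mul_zero]
      exact dvd_zero _
    · obtain ⟨k', rfl⟩ : ∃ k', k = k' + 1 := ⟨k - 1, by omega⟩
      have h4 : ((q + 2 : ℕ) : A) * u ^ (k' + 1) =
          -(∑ m ∈ range q, u ^ (m + 2) * ((q + 2).choose (m + 2) : A) * u ^ k') - u ^ (q + 2) * u ^ k' := by
        have := congrArg (fun x => x * u ^ k') hid
        simp only [zero_mul, add_mul, sum_mul] at this
        rw [pow_succ]
        linear_combination this
      rw [h4]
      apply dvd_sub
      · apply (dvd_neg).mpr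
        apply dvd_sum
        intro m hm
        rw [mem_range] at hm
        have hdvd : (q + 2) ∣ (q + 2).choose (m + 2) := hp.dvd_choose_self (by omega) (by omega)
        obtain ⟨e, he⟩ := hdvd
        have h5 := ih (m + k' + 2) (by omega) (by omega)
        have h6 : u ^ (m + 2) * ((q + 2).choose (m + 2) : A) * u ^ k' =
            (e : A) * (((q + 2 : ℕ) : A) * u ^ (m + k' + 2)) := by
          rw [he]
          push_cast
          ring
        rw [h6]
        apply Dvd.dvd.mul_left
        refine dvd_trans ?_ h5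
        apply pow_dvd_pow
        omega
      · have : u ^ (q + 2) * u ^ k' = u ^ (k' + 1 + (q + 2) - 1) := by
          rw [← pow_add]
          congr 1
          omega
        rw [this]

/-- In a commutative ring: if `(u + 1) ^ p = 1` and `u ^ (n (p - 1) + 1) = 0` then `p ^ n * u = 0`. -/
theorem pow_mul_eq_zero_comm {A : Type*} [CommRing A] {p : ℕ} (hp : p.Prime) (u : A) (h1 : (u + 1) ^ p = 1)
    (n : ℕ) (hc : u ^ (n * (p - 1) + 1) = 0) : (p : A) ^ n * u = 0 := by
  have key : ∀ j : ℕ, u ^ (j * (p - 1) + 1) ∣ (p : A) ^ j * u := by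
    intro j
    induction j with
    | zero => simp
    | succ j ih =>
      obtain ⟨r, hr⟩ := ih
      have h2 := pow_dvd_p_mul_pow hp u h1 _ hc (n * (p - 1) + 1) (j * (p - 1) + 1) (by omega) (by omega)
      have h3 : (p : A) ^ (j + 1) * u = ((p : A) * u ^ (j * (p - 1) + 1)) * r := by
        rw [pow_succ, mul_assoc, mul_comm (p : A) u, ← mul_assoc, hr]
        ring
      rw [h3]
      apply Dvd.dvd.mul_right
      have h4 : (j + 1) * (p - 1) + 1 = j * (p - 1) + 1 + p - 1 := by
        have := hp.two_le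
        rw [Nat.succ_mul]
        omega
      rw [h4]
      exact h2
  have := key n
  rw [hc] at this
  exact zero_dvd_iff.mp this

/-- In any ring: if `(u + 1) ^ p = 1` and `u ^ (n (p - 1) + 1) = 0` then `p ^ n * u = 0`. -/
theorem pow_mul_eq_zero {R : Type*} [Ring R] {p : ℕ} (hp : p.Prime) (u : R) (h1 : (u + 1) ^ p = 1)
    (n : ℕ) (hc : u ^ (n * (p - 1) + 1) = 0) : (p : R) ^ n * u = 0 := by
  have hcomm : IsMulCommutative (Subring.closure ({u} : Set R)) :=
    Subring.isMulCommutative_closure (by
      intro x hx y hy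
      rw [Set.mem_singleton_iff] at hx hy
      rw [hx, hy])
  letI : CommRing (Subring.closure ({u} : Set R)) :=
    { (inferInstance : Ring (Subring.closure ({u} : Set R))) with
      mul_comm := fun a b => hcomm.is_comm.comm a b }
  set u' : Subring.closure ({u} : Set R) := ⟨u, Subring.subset_closure (Set.mem_singleton u)⟩ with hu'
  have h1' : (u' + 1) ^ p = 1 := Subtype.ext (by simpa using h1)
  have hc' : u' ^ (n * (p - 1) + 1) = 0 := Subtype.ext (by simpa using hc)
  have := pow_mul_eq_zero_comm hp u' h1' n hc'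
  have h2 := congrArg Subtype.val this
  simpa using h2

end Cfsg.Agent.Lib.Helper27.AG
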