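import Cfsg.Agent.Lib.Helper27.AG1

/-!
helper27: if `s` normalizes the abelian subgroup `V`, `s ^ p` centralizes `V` and the `(n (p - 1) + 1)`-fold
commutators `[s, [s, …, [s, v]]]` vanish on `V`, then `s` centralizes the `p ^ n`-th powers of the elements of `V`.
-/

set_option autoImplicit false

namespace Cfsg.Agent.Lib.Helper27.AG

/-- The iterated commutator `[s, [s, …, [s, v]]]`. -/
def itc {Ω : Type*} [Group Ω] (s : Ω) : ℕ → Ω → Ω
  | 0, v => v
  | k + 1, v => s * itc s k v * s⁻¹ * (itc s k v)⁻¹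

theorem itc_mem {Ω : Type*} [Group Ω] (s : Ω) (V : Subgroup Ω) (hs : ∀ v ∈ V, s * v * s⁻¹ ∈ V) :
    ∀ (k : ℕ) (v : Ω), v ∈ V → itc s k v ∈ V
  | 0, v, hv => hv
  | k + 1, v, hv => V.mul_mem (hs _ (itc_mem s V hs k v hv)) (V.inv_mem (itc_mem s V hs k v hv))

theorem comm_pow_of_itc {Ω : Type*} [Group Ω] {p : ℕ} (hp : p.Prime) (V : Subgroup Ω)
    (hVab : ∀ a ∈ V, ∀ b ∈ V, a * b = b * a) (s : Ω) (hs : ∀ v ∈ V, s * v * s⁻¹ ∈ V)
    (hsp : ∀ v ∈ V, s ^ p * v = v * s ^ p) (n : ℕ) (hc : ∀ v ∈ V, itc s (n * (p - 1) + 1) v = 1) :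
    ∀ v ∈ V, s * v ^ (p ^ n) = v ^ (p ^ n) * s := by
  letI : CommGroup ↥V :=
    { (inferInstance : Group ↥V) with mul_comm := fun a b => Subtype.ext (hVab a a.2 b b.2) }
  let f : ↥V →* ↥V :=
    { toFun := fun v => ⟨s * v * s⁻¹, hs v v.2⟩
      map_one' := Subtype.ext (by simp)
      map_mul' := fun a b => Subtype.ext (by simp) }
  let σ : AddMonoid.End (Additive ↥V) := MonoidHom.toAdditive f
  have hσ : ∀ v : ↥V, σ (Additive.ofMul v) = Additive.ofMul (f v) := fun v => rfl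
  have hf : ∀ v : ↥V, ((f v : ↥V) : Ω) = s * v * s⁻¹ := fun v => rfl
  -- powers of σ
  have hpow : ∀ (k : ℕ) (v : ↥V), ((Additive.toMul ((σ ^ k) (Additive.ofMul v)) : ↥V) : Ω) =
      s ^ k * v * (s ^ k)⁻¹ := by
    intro k
    induction k with
    | zero => intro v; simp
    | succ k ih =>
      intro v
      rw [pow_succ', AddMonoid.End.coe_mul, Function.comp_apply]
      have := ih v
      set w := Additive.toMul ((σ ^ k) (Additive.ofMul v)) with hw
      have e : (σ ^ k) (Additive.ofMul v) = Additive.ofMul w := rfl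
      rw [e, hσ, toMul_ofMul, hf, this, pow_succ']
      group
  have hσp : σ ^ p = 1 := by
    apply AddMonoidHom.ext
    intro m
    have h := hpow p (Additive.toMul m)
    rw [ofMul_toMul] at h
    have h2 : (Additive.toMul ((σ ^ p) m) : ↥V) = Additive.toMul m := by
      apply Subtype.ext
      rw [h, hsp _ (Additive.toMul m).2]
      group
    exact Additive.toMul.injective h2
  -- powers of u
  have hu : ∀ (k : ℕ) (v : ↥V), ((Additive.toMul (((σ - 1) ^ k) (Additive.ofMul v)) : ↥V) : Ω) =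
      itc s k v := by
    intro k
    induction k with
    | zero => intro v; simp [itc]
    | succ k ih =>
      intro v
      rw [pow_succ', AddMonoid.End.coe_mul, Function.comp_apply]
      have := ih v
      set w := Additive.toMul (((σ - 1) ^ k) (Additive.ofMul v)) with hw
      have e : ((σ - 1) ^ k) (Additive.ofMul v) = Additive.ofMul w := rfl
      rw [e]
      have e2 : (σ - 1) (Additive.ofMul w) = Additive.ofMul (f w / w) := by
        show σ (Additive.ofMul w) - (1 : AddMonoid.End (Additive ↥V)) (Additive.ofMul w) = _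
        rfl
      rw [e2, toMul_ofMul, div_eq_mul_inv]
      show ((f w : ↥V) : Ω) * ((w : ↥V) : Ω)⁻¹ = _
      rw [hf, this]
      rfl
  have huc : (σ - 1) ^ (n * (p - 1) + 1) = 0 := by
    apply AddMonoidHom.ext
    intro m
    have h := hu (n * (p - 1) + 1) (Additive.toMul m)
    rw [ofMul_toMul, hc _ (Additive.toMul m).2] at h
    have h2 : (Additive.toMul (((σ - 1) ^ (n * (p - 1) + 1)) m) : ↥V) = 1 := Subtype.ext h
    exact Additive.toMul.injective h2
  have h1 : ((σ - 1) + 1) ^ p = 1 := by rw [sub_add_cancel]; exact hσp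
  have key := pow_mul_eq_zero hp (σ - 1) h1 n huc
  intro v hv
  have h2 := congrArg (fun g : AddMonoid.End (Additive ↥V) => g (Additive.ofMul ⟨v, hv⟩)) key
  simp only [AddMonoid.End.coe_mul, Function.comp_apply] at h2
  have e2 : (σ - 1) (Additive.ofMul (⟨v, hv⟩ : ↥V)) = Additive.ofMul (f ⟨v, hv⟩ * (⟨v, hv⟩ : ↥V)⁻¹) := by
    show σ (Additive.ofMul (⟨v, hv⟩ : ↥V)) - (1 : AddMonoid.End (Additive ↥V)) (Additive.ofMul ⟨v, hv⟩) = _
    rw [← div_eq_mul_inv]
    rfl
  rw [e2] at h2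
  have h3 : ((p : AddMonoid.End (Additive ↥V)) ^ n) = ((p ^ n : ℕ) : AddMonoid.End (Additive ↥V)) := by
    push_cast; rfl
  rw [h3, AddMonoid.End.natCast_apply] at h2
  have h4 : (f ⟨v, hv⟩ * (⟨v, hv⟩ : ↥V)⁻¹) ^ (p ^ n) = 1 := by
    have := congrArg Additive.toMul h2
    rw [toMul_nsmul, toMul_ofMul] at this
    exact this
  have h5 := congrArg (Subtype.val) h4
  simp only [Subgroup.coe_pow, Subgroup.coe_mul, Subgroup.coe_inv, Subgroup.coe_one] at h5
  rw [hf] at h5
  -- (s v s⁻¹ v⁻¹)^(p^n) = 1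
  have hcomm : Commute (s * v * s⁻¹) v⁻¹ := hVab _ (hs v hv) _ (V.inv_mem hv)
  rw [hcomm.mul_pow, conj_pow, inv_pow] at h5
  calc s * v ^ p ^ n = (s * v ^ p ^ n * s⁻¹ * (v ^ p ^ n)⁻¹) * v ^ p ^ n * s := by group
    _ = v ^ p ^ n * s := by rw [h5, one_mul]

end Cfsg.Agent.Lib.Helper27.AG
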