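import Cfsg.Agent.Lib.Helper27.KL18
import Cfsg.Agent.Lib.Helper16.Minimal

/-!
helper27: a group-theoretic theorem of Glauberman: if a positive characteristic `p`-functor `W` has the property that
`W(P)` not normal in `G` gives an element of `P` outside `O_p(G)` acting quadratically on `Z(O_p(G))`, then in a group
`L` with `C_L(O_p(L)) ≤ O_p(L)` the `p`-th powers of elements of `Z(P)` centralized by `N_L(W(P))` are central.
-/

set_option autoImplicit false
set_option linter.unusedSectionVars false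
set_option linter.unusedVariables false

namespace Cfsg.Agent.Lib.Helper27.KL

open Cfsg
open scoped commutatorElement

universe u

/-- The quadratic property of a functor. -/
def QuadProp (p : ℕ) (W : ∀ (Q : Type u) [Group Q], Subgroup Q) : Prop :=
  ∀ (G : Type u) [Group G] [Finite G] (P : Sylow p G),
    ¬ (((W ↥(P : Subgroup G)).map (P : Subgroup G).subtype : Subgroup G)).Normal →
    ∃ g : G, g ∈ (P : Subgroup G) ∧ g ∉ Cfsg.pCore p G ∧
      ⁅⁅(Subgroup.center ↥(Cfsg.pCore p G)).map (Cfsg.pCore p G).subtype, Subgroup.zpowers g⁆,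
        Subgroup.zpowers g⁆ = ⊥

section Quad

variable {G : Type*} [Group G]

/-- If `g` acts quadratically on the abelian normal subgroup `V` and `g ^ n` centralizes `V`, then `g` centralizes
the `n`-th powers of the elements of `V`. -/
theorem quad_pow_comm (V : Subgroup G) (hVn : ∀ h v, v ∈ V → h * v * h⁻¹ ∈ V)
    (hVab : ∀ a ∈ V, ∀ b ∈ V, a * b = b * a) (g : G)
    (hquad : ⁅⁅V, Subgroup.zpowers g⁆, Subgroup.zpowers g⁆ = ⊥) (n : ℕ)
    (hn : ∀ v ∈ V, g ^ n * v = v * g ^ n) : ∀ v ∈ V, g * v ^ n = v ^ n * g := by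
  intro v hv
  obtain ⟨c, hc⟩ : ∃ c : G, c = g * v * g⁻¹ * v⁻¹ := ⟨_, rfl⟩
  have hcV : c ∈ V := by rw [hc]; exact V.mul_mem (hVn g v hv) (V.inv_mem hv)
  have hcc : c ∈ ⁅V, Subgroup.zpowers g⁆ := by
    rw [Subgroup.commutator_comm, hc]
    exact Subgroup.commutator_mem_commutator (Subgroup.mem_zpowers g) hv
  have hcg : c * g = g * c := by
    have h1 : ⁅c, g⁆ ∈ ⁅⁅V, Subgroup.zpowers g⁆, Subgroup.zpowers g⁆ :=
      Subgroup.commutator_mem_commutator hcc (Subgroup.mem_zpowers g)
    rw [hquad, Subgroup.mem_bot] at h1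
    exact (commutatorElement_eq_one_iff_mul_comm.mp h1)
  have hgv : g * v * g⁻¹ = c * v := by rw [hc]; group
  have hpow : ∀ j : ℕ, g ^ j * v * (g ^ j)⁻¹ = c ^ j * v := by
    intro j
    induction j with
    | zero => simp
    | succ j ih =>
      have e : g ^ (j + 1) * v * (g ^ (j + 1))⁻¹ = g * (g ^ j * v * (g ^ j)⁻¹) * g⁻¹ := by
        rw [pow_succ']; group
      rw [e, ih]
      have e2 : g * (c ^ j * v) * g⁻¹ = (g * c ^ j * g⁻¹) * (g * v * g⁻¹) := by group
      have e3 : g * c ^ j * g⁻¹ = c ^ j := by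
        have : Commute g (c ^ j) := (Commute.pow_right (show Commute g c from hcg.symm) j)
        rw [this.eq]; group
      rw [e2, e3, hgv, pow_succ, mul_assoc]
  have h1 := hpow n
  have h2 : g ^ n * v * (g ^ n)⁻¹ = v := by rw [hn v hv]; group
  rw [h2] at h1
  have hcn : c ^ n = 1 := by
    have : 1 * v = c ^ n * v := by rw [one_mul]; exact h1
    exact (mul_right_cancel this).symm
  have hcv : Commute c v := hVab c hcV v hv
  have h3 : g * v ^ n * g⁻¹ = v ^ n := by
    rw [← conj_pow, hgv, hcv.mul_pow, hcn, one_mul]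
  calc g * v ^ n = g * v ^ n * g⁻¹ * g := by group
    _ = v ^ n * g := by rw [h3]

end Quad

section Functor

variable {p : ℕ} [Fact p.Prime] {W : ∀ (Q : Type u) [Group Q], Subgroup Q}

/-- The value of the functor on a subgroup, computed in an intermediate subgroup. -/
theorem map_WS_subgroupOf (hW : PosChar p W) {L : Type u} [Group L] {A H : Subgroup L} [Finite A]
    (hA : IsPGroup p A) (hAH : A ≤ H) :
    ((W ↥(A.subgroupOf H)).map (A.subgroupOf H).subtype).map H.subtype = (W ↥A).map A.subtype := by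
  haveI : Finite ↥(A.subgroupOf H) := Finite.of_equiv _ (Subgroup.subgroupOfEquivOfLe hAH).symm.toEquiv
  have hAp : IsPGroup p ↥(A.subgroupOf H) := hA.comap_subtype
  have h1 := hW.map_eq ↥(A.subgroupOf H) ↥A hAp (Subgroup.subgroupOfEquivOfLe hAH)
  rw [← h1, Subgroup.map_map, Subgroup.map_map]
  rfl

end Functor

section Main

variable {p : ℕ} [Fact p.Prime] {W : ∀ (Q : Type u) [Group Q], Subgroup Q}

theorem mem_center_pCore_map {L : Type*} [Group L] (p : ℕ) (v : L) :
    v ∈ (Subgroup.center ↥(Cfsg.pCore p L)).map (Cfsg.pCore p L).subtype ↔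
      v ∈ Cfsg.pCore p L ∧ ∀ q ∈ Cfsg.pCore p L, q * v = v * q := by
  constructor
  · rintro ⟨w, hw, rfl⟩
    refine ⟨w.2, fun q hq => ?_⟩
    have := Subgroup.mem_center_iff.mp hw ⟨q, hq⟩
    exact congrArg Subtype.val this
  · rintro ⟨hv, hc⟩
    refine ⟨⟨v, hv⟩, ?_, rfl⟩
    rw [SetLike.mem_coe, Subgroup.mem_center_iff]
    intro q
    exact Subtype.ext (hc q q.2)

/-- **Glauberman**: `p`-th powers of elements of `Z(P)` centralized by `N_L(W(P))` are central in `L`, for `L` with
`C_L(O_p(L)) ≤ O_p(L)`. -/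
theorem pth_power_central (hW : PosChar p W) (hq : QuadProp p W) :
    ∀ (n : ℕ) (L : Type u) [Group L] [Finite L], Nat.card L = n → ∀ (P : Sylow p L),
      Subgroup.centralizer ((Cfsg.pCore p L : Subgroup L) : Set L) ≤ Cfsg.pCore p L →
      ∀ z : L, z ∈ (P : Subgroup L) → (∀ y ∈ (P : Subgroup L), y * z = z * y) →
        (∀ g ∈ Subgroup.normalizer (((W ↥(P : Subgroup L)).map (P : Subgroup L).subtype : Subgroup L) : Set L),
          g * z ^ p = z ^ p * g) →
        ∀ h : L, h * z ^ p = z ^ p * h := by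
  intro n
  induction n using Nat.strong_induction_on with
  | _ n ih =>
  intro L _ _ hn P hcon z hzP hzc hzN
  set Q : Subgroup L := Cfsg.pCore p L with hQdef
  haveI hQn : Q.Normal := Cfsg.Agent.Lib.Helper17.pCore_normal p L
  have hQP : Q ≤ (P : Subgroup L) := Cfsg.Agent.Lib.Helper16.pCore_le_sylow P
  -- the induction hypothesis for subgroups containing `P`
  have hsubgroup : ∀ H : Subgroup L, (P : Subgroup L) ≤ H → H ≠ ⊤ → ∀ h ∈ H, h * z ^ p = z ^ p * h := by
    intro H hPH hHne h hh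
    have hcard : Nat.card ↥H < n := by
      rw [← hn]
      have hle := Subgroup.card_le_card_group H
      rcases hle.lt_or_eq with hlt | heq
      · exact hlt
      · exact absurd ((Subgroup.card_eq_iff_eq_top H).mp heq) hHne
    have hconH : Subgroup.centralizer ((Cfsg.pCore p ↥H : Subgroup ↥H) : Set ↥H) ≤ Cfsg.pCore p ↥H := by
      have hQH : Q.subgroupOf H ≤ Cfsg.pCore p ↥H :=
        Cfsg.Agent.Lib.Helper16.le_pCore (hQn.subgroupOf H)
          ((Cfsg.Agent.Lib.Helper16.pCore_isPGroup (G := L) (p := p)).comap_subtype)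
      intro c hc
      apply hQH
      rw [Subgroup.mem_subgroupOf]
      apply hcon
      rw [Subgroup.mem_centralizer_iff]
      intro q hq
      have hqH : q ∈ H := hPH (hQP hq)
      have h1 := Subgroup.mem_centralizer_iff.mp hc ⟨q, hqH⟩ (hQH (Subgroup.mem_subgroupOf.mpr hq))
      exact congrArg Subtype.val h1
    have hzPH : (⟨z, hPH hzP⟩ : ↥H) ∈ ((P.subtype hPH : Sylow p ↥H) : Subgroup ↥H) := by
      rw [P.coe_subtype hPH, Subgroup.mem_subgroupOf]
      exact hzP
    have hzcH : ∀ y ∈ ((P.subtype hPH : Sylow p ↥H) : Subgroup ↥H), y * (⟨z, hPH hzP⟩ : ↥H) = ⟨z, hPH hzP⟩ * y := by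
      intro y hy
      rw [P.coe_subtype hPH, Subgroup.mem_subgroupOf] at hy
      exact Subtype.ext (hzc y hy)
    have hWmap : ((W ↥((P.subtype hPH : Sylow p ↥H) : Subgroup ↥H)).map
        ((P.subtype hPH : Sylow p ↥H) : Subgroup ↥H).subtype).map H.subtype =
        (W ↥(P : Subgroup L)).map (P : Subgroup L).subtype := by
      have h1 := map_WS_subgroupOf hW (A := (P : Subgroup L)) (H := H) P.isPGroup' hPH
      have e : ((P.subtype hPH : Sylow p ↥H) : Subgroup ↥H) = (P : Subgroup L).subgroupOf H :=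
        P.coe_subtype hPH
      rw [e]
      exact h1
    have hzNH : ∀ g ∈ Subgroup.normalizer (((W ↥((P.subtype hPH : Sylow p ↥H) : Subgroup ↥H)).map
        ((P.subtype hPH : Sylow p ↥H) : Subgroup ↥H).subtype : Subgroup ↥H) : Set ↥H),
        g * (⟨z, hPH hzP⟩ : ↥H) ^ p = (⟨z, hPH hzP⟩ : ↥H) ^ p * g := by
      intro g hg
      apply Subtype.ext
      rw [Subgroup.coe_mul, Subgroup.coe_mul, Subgroup.coe_pow]
      apply hzN
      rw [← hWmap]
      rw [Subgroup.mem_normalizer_iff] at hg ⊢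
      intro y
      constructor
      · rintro ⟨y', hy', rfl⟩
        exact ⟨g * y' * g⁻¹, (hg y').mp hy', rfl⟩
      · rintro ⟨w, hw, hwe⟩
        have hyH : y ∈ H := by
          have h1 : (g : L)⁻¹ * ((g : L) * y * (g : L)⁻¹) * (g : L) = y := by group
          rw [← h1, ← hwe]
          exact H.mul_mem (H.mul_mem (H.inv_mem g.2) w.2) g.2
        refine ⟨⟨y, hyH⟩, (hg ⟨y, hyH⟩).mpr ?_, rfl⟩
        have : g * ⟨y, hyH⟩ * g⁻¹ = w := Subtype.ext hwe.symm
        rw [this]
        exact hw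
    have := ih (Nat.card ↥H) hcard ↥H rfl (P.subtype hPH) hconH ⟨z, hPH hzP⟩ hzPH hzcH hzNH ⟨h, hh⟩
    have h2 := congrArg Subtype.val this
    rw [Subgroup.coe_mul, Subgroup.coe_mul, Subgroup.coe_pow] at h2
    exact h2
  by_cases hWn : (((W ↥(P : Subgroup L)).map (P : Subgroup L).subtype : Subgroup L)).Normal
  · intro h
    apply hzN
    rw [Subgroup.normalizer_eq_top_iff.mpr hWn]
    trivial
  · obtain ⟨g, hgP, hgQ, hquad⟩ := hq L P hWn
    set V : Subgroup L := (Subgroup.center ↥Q).map Q.subtype with hVdef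
    have hmemV : ∀ v, v ∈ V ↔ v ∈ Q ∧ ∀ q ∈ Q, q * v = v * q := mem_center_pCore_map p
    have hzV : z ∈ V := by
      rw [hmemV]
      have hzQ : z ∈ Q := by
        apply hcon
        rw [Subgroup.mem_centralizer_iff]
        intro q hq
        exact hzc q (hQP hq)
      exact ⟨hzQ, fun q hq => hzc q (hQP hq)⟩
    have hVn : ∀ h v, v ∈ V → h * v * h⁻¹ ∈ V := by
      intro h v hv
      rw [hmemV] at hv ⊢
      refine ⟨hQn.conj_mem v hv.1 h, fun q hq => ?_⟩
      have hq' : h⁻¹ * q * h⁻¹⁻¹ ∈ Q := hQn.conj_mem q hq h⁻¹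
      have h1 := hv.2 _ hq'
      calc q * (h * v * h⁻¹) = h * ((h⁻¹ * q * h⁻¹⁻¹) * v) * h⁻¹ := by group
        _ = h * (v * (h⁻¹ * q * h⁻¹⁻¹)) * h⁻¹ := by rw [h1]
        _ = h * v * h⁻¹ * q := by group
    have hVab : ∀ a ∈ V, ∀ b ∈ V, a * b = b * a := by
      intro a ha b hb
      exact ((hmemV b).mp hb).2 a ((hmemV a).mp ha).1
    -- the right power of `g`
    have hex : ∃ k : ℕ, g ^ p ^ k ∈ Q := by
      obtain ⟨m, hm⟩ := P.isPGroup' ⟨g, hgP⟩
      refine ⟨m, ?_⟩
      have : g ^ p ^ m = 1 := by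
        have := congrArg Subtype.val hm
        simpa using this
      rw [this]
      exact Q.one_mem
    classical
    set k₀ := Nat.find hex with hk₀
    have hk₀Q : g ^ p ^ k₀ ∈ Q := Nat.find_spec hex
    have hk₀ne : k₀ ≠ 0 := by
      intro h0
      rw [h0, pow_zero, pow_one] at hk₀Q
      exact hgQ hk₀Q
    set g' : L := g ^ p ^ (k₀ - 1) with hg'
    have hg'Q : g' ∉ Q := Nat.find_min hex (by omega : k₀ - 1 < k₀)
    have hg'p : g' ^ p ∈ Q := by
      have : g' ^ p = g ^ p ^ k₀ := by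
        rw [hg', ← pow_mul, ← pow_succ]
        congr 2
        omega
      rw [this]
      exact hk₀Q
    have hg'P : g' ∈ (P : Subgroup L) := Subgroup.pow_mem _ hgP _
    have hquad' : ⁅⁅V, Subgroup.zpowers g'⁆, Subgroup.zpowers g'⁆ = ⊥ := by
      have hle : Subgroup.zpowers g' ≤ Subgroup.zpowers g := by
        rw [Subgroup.zpowers_le]
        exact Subgroup.pow_mem _ (Subgroup.mem_zpowers g) _
      rw [eq_bot_iff, ← hquad]
      exact Subgroup.commutator_mono (Subgroup.commutator_mono le_rfl hle) hle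
    have hcomm : ∀ v ∈ V, g' * v ^ p = v ^ p * g' :=
      quad_pow_comm V hVn hVab g' hquad' p (fun v hv => ((hmemV v).mp hv).2 _ hg'p)
    -- the centralizer of the conjugates of `z ^ p`
    let K : Subgroup L :=
      { carrier := {k | ∀ h : L, k * (h * z ^ p * h⁻¹) = (h * z ^ p * h⁻¹) * k}
        one_mem' := fun h => by simp
        mul_mem' := by
          intro a b ha hb h
          rw [mul_assoc, hb h, ← mul_assoc, ha h, mul_assoc]
        inv_mem' := by
          intro a ha h
          have := ha h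
          calc a⁻¹ * (h * z ^ p * h⁻¹) = a⁻¹ * ((h * z ^ p * h⁻¹) * a) * a⁻¹ := by group
            _ = a⁻¹ * (a * (h * z ^ p * h⁻¹)) * a⁻¹ := by rw [this]
            _ = (h * z ^ p * h⁻¹) * a⁻¹ := by group }
    have hKmem : ∀ k, k ∈ K ↔ ∀ h : L, k * (h * z ^ p * h⁻¹) = (h * z ^ p * h⁻¹) * k := fun k => Iff.rfl
    haveI hKn : K.Normal := by
      constructor
      intro k hk a
      rw [hKmem] at hk ⊢
      intro h
      have := hk (a⁻¹ * h)
      calc a * k * a⁻¹ * (h * z ^ p * h⁻¹) = a * (k * (a⁻¹ * h * z ^ p * (a⁻¹ * h)⁻¹)) * a⁻¹ := by group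
        _ = a * ((a⁻¹ * h * z ^ p * (a⁻¹ * h)⁻¹) * k) * a⁻¹ := by rw [this]
        _ = (h * z ^ p * h⁻¹) * (a * k * a⁻¹) := by group
    have hg'K : g' ∈ K := by
      rw [hKmem]
      intro h
      rw [← conj_pow]
      exact hcomm _ (hVn h z hzV)
    have hKz : ∀ k ∈ K, k * z ^ p = z ^ p * k := by
      intro k hk
      have := (hKmem k).mp hk 1
      simpa using this
    obtain ⟨PK, hPK⟩ := Cfsg.Agent.Lib.Helper16.exists_sylow_of_normal_inf P K
    have hfrat := Sylow.normalizer_sup_eq_top PK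
    rw [hPK] at hfrat
    set H : Subgroup L := Subgroup.normalizer ((((P : Subgroup L) ⊓ K : Subgroup L)) : Set L) with hH
    have hPH : (P : Subgroup L) ≤ H := by
      intro y hy
      rw [hH, Subgroup.mem_normalizer_iff]
      intro w
      constructor
      · rintro ⟨hwP, hwK⟩
        exact ⟨Subgroup.mul_mem _ (Subgroup.mul_mem _ hy hwP) (Subgroup.inv_mem _ hy), hKn.conj_mem w hwK y⟩
      · rintro ⟨hwP, hwK⟩
        have e : w = y⁻¹ * (y * w * y⁻¹) * y := by group
        rw [e]
        refine ⟨Subgroup.mul_mem _ (Subgroup.mul_mem _ (Subgroup.inv_mem _ hy) hwP) hy, ?_⟩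
        have := hKn.conj_mem _ hwK y⁻¹
        simpa using this
    have hHne : H ≠ ⊤ := by
      intro htop
      have hnorm : ((P : Subgroup L) ⊓ K).Normal := Subgroup.normalizer_eq_top_iff.mp htop
      have hle : (P : Subgroup L) ⊓ K ≤ Q :=
        Cfsg.Agent.Lib.Helper16.le_pCore hnorm (P.isPGroup'.to_le inf_le_left)
      exact hg'Q (hle ⟨hg'P, hg'K⟩)
    have hHz := hsubgroup H hPH hHne
    -- conclude
    have hle : H ⊔ K ≤ Subgroup.centralizer ({z ^ p} : Set L) := by
      apply sup_le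
      · intro h hh
        rw [Subgroup.mem_centralizer_singleton_iff]
        exact hHz h hh
      · intro k hk
        rw [Subgroup.mem_centralizer_singleton_iff]
        exact hKz k hk
    intro h
    have hh : h ∈ H ⊔ K := by rw [hfrat]; trivial
    exact Subgroup.mem_centralizer_singleton_iff.mp (hle hh)

end Main

end Cfsg.Agent.Lib.Helper27.KL
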