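import Cfsg.Agent.Lib.Helper27.AG2
import Cfsg.Agent.Lib.Helper27.KL19
import Cfsg.Agent.Lib.Helper26.FSSatCrit

/-!
helper27: Glauberman's theorem on `p^n`-th powers of central elements, for fusion systems: if `S` has class at most
`n (p - 1) + 1` then the subgroup generated by the `p^n`-th powers of the elements of `Z(S)` is normal in every
saturated fusion system over `S`.
-/

set_option autoImplicit false
set_option linter.unusedSectionVars false
set_option linter.unusedVariables false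

namespace Cfsg.Agent.Lib.Helper27.AG

open Cfsg Cfsg.FusionSystem Cfsg.Agent.Lib.Helper26 Cfsg.Agent.Lib.Helper27.FM Cfsg.Agent.Lib.Helper27.KL
open scoped commutatorElement

universe u

/-- The Frattini argument, elementwise. -/
theorem frattini_decomp {A : Type*} [Group A] [Finite A] {p : ℕ} [Fact p.Prime] (R : Sylow p A) (K : Subgroup A)
    [K.Normal] (a : A) :
    ∃ h ∈ Subgroup.normalizer ((((R : Subgroup A) ⊓ K : Subgroup A)) : Set A), ∃ k ∈ K, a = h * k := by
  obtain ⟨PK, hPK⟩ := Cfsg.Agent.Lib.Helper16.exists_sylow_of_normal_inf R K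
  have hfrat := Sylow.normalizer_sup_eq_top PK
  rw [hPK] at hfrat
  have ha : a ∈ Subgroup.normalizer ((((R : Subgroup A) ⊓ K : Subgroup A)) : Set A) ⊔ K := by
    rw [hfrat]; trivial
  have h2 : a ∈ ((Subgroup.normalizer ((((R : Subgroup A) ⊓ K : Subgroup A)) : Set A) ⊔ K : Subgroup A) : Set A) := ha
  rw [Subgroup.mul_normal] at h2
  obtain ⟨h, hh, k, hk, rfl⟩ := Set.mem_mul.mp h2
  exact ⟨h, hh, k, hk, rfl⟩

variable {Ω : Type u} [Group Ω] {S : Subgroup Ω} {p : ℕ} [Fact p.Prime]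

/-- Iterated commutators land in the lower central series. -/
theorem itc_mem_lowerCentralSeries {s : Ω} (hs : s ∈ S) : ∀ (k : ℕ) (v : Ω), v ∈ S →
    itc s k v ∈ S.lowerCentralSeries k
  | 0, v, hv => hv
  | k + 1, v, hv => by
    rw [Subgroup.lowerCentralSeries_succ, Subgroup.commutator_comm]
    have := itc_mem_lowerCentralSeries hs k v hv
    have h2 : itc s (k + 1) v = ⁅s, itc s k v⁆ := rfl
    rw [h2]
    exact Subgroup.commutator_mem_commutator hs this

/-- The group-theoretic core: an element of `N_S(P)` whose `p`-th power lies in `P` centralizes the `p^n`-th powers of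
the elements of `Z(P)`. -/
theorem comm_pow_center (n : ℕ) (hcl : S.lowerCentralSeries (n * (p - 1) + 1) = ⊥) {P : Subgroup Ω} (hPS : P ≤ S)
    {s : Ω} (hsS : s ∈ S) (hsN : ∀ x ∈ P, s * x * s⁻¹ ∈ P) (hsN' : ∀ x ∈ P, s⁻¹ * x * s ∈ P) (hsp : s ^ p ∈ P)
    {v : Ω} (hvP : v ∈ P) (hvc : ∀ x ∈ P, x * v = v * x) : s * v ^ (p ^ n) = v ^ (p ^ n) * s := by
  let V : Subgroup Ω :=
    { carrier := {v | v ∈ P ∧ ∀ x ∈ P, x * v = v * x}
      one_mem' := ⟨P.one_mem, fun x _ => by simp⟩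
      mul_mem' := by
        rintro a b ⟨ha, ha'⟩ ⟨hb, hb'⟩
        refine ⟨P.mul_mem ha hb, fun x hx => ?_⟩
        rw [← mul_assoc, ha' x hx, mul_assoc, hb' x hx, mul_assoc]
      inv_mem' := by
        rintro a ⟨ha, ha'⟩
        refine ⟨P.inv_mem ha, fun x hx => ?_⟩
        have := ha' x hx
        calc x * a⁻¹ = a⁻¹ * (a * x) * a⁻¹ := by group
          _ = a⁻¹ * (x * a) * a⁻¹ := by rw [this]
          _ = a⁻¹ * x := by group }
  have hVmem : ∀ w, w ∈ V ↔ w ∈ P ∧ ∀ x ∈ P, x * w = w * x := fun w => Iff.rfl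
  have hVab : ∀ a ∈ V, ∀ b ∈ V, a * b = b * a := fun a ha b hb => ((hVmem b).mp hb).2 a ((hVmem a).mp ha).1
  have hVs : ∀ w ∈ V, s * w * s⁻¹ ∈ V := by
    intro w hw
    obtain ⟨hwP, hwc⟩ := (hVmem w).mp hw
    refine (hVmem _).mpr ⟨hsN w hwP, fun x hx => ?_⟩
    have := hwc _ (hsN' x hx)
    calc x * (s * w * s⁻¹) = s * ((s⁻¹ * x * s) * w) * s⁻¹ := by group
      _ = s * (w * (s⁻¹ * x * s)) * s⁻¹ := by rw [this]
      _ = s * w * s⁻¹ * x := by group
  have hVsp : ∀ w ∈ V, s ^ p * w = w * s ^ p := fun w hw => ((hVmem w).mp hw).2 _ hsp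
  have hc : ∀ w ∈ V, itc s (n * (p - 1) + 1) w = 1 := by
    intro w hw
    have := itc_mem_lowerCentralSeries hsS (n * (p - 1) + 1) w (hPS ((hVmem w).mp hw).1)
    rw [hcl, Subgroup.mem_bot] at this
    exact this
  exact comm_pow_of_itc (Fact.out : p.Prime) V hVab s hVs hVsp n hc v ((hVmem v).mpr ⟨hvP, hvc⟩)

end Cfsg.Agent.Lib.Helper27.AG
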