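import Cfsg.Agent.Lib.Helper27.AG3

/-!
helper27: Glauberman's theorem on `p^n`-th powers of central elements, for fusion systems (continued): the
essential step and the theorem.
-/

set_option autoImplicit false
set_option linter.unusedSectionVars false
set_option linter.unusedVariables false

namespace Cfsg.Agent.Lib.Helper27.AG

open Cfsg Cfsg.FusionSystem Cfsg.Agent.Lib.Helper26 Cfsg.Agent.Lib.Helper27.FM Cfsg.Agent.Lib.Helper27.KL
open scoped commutatorElement

universe u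

variable {Ω : Type u} [Group Ω] {S : Subgroup Ω} {p : ℕ} [Fact p.Prime]

/-- The subgroup generated by the `p^n`-th powers of the elements of `Z(S)`. -/
abbrev agemoZ (p n : ℕ) (S : Subgroup Ω) : Subgroup Ω :=
  Cfsg.powerClosure p n (S ⊓ Subgroup.centralizer (S : Set Ω))

theorem agemoZ_le (n : ℕ) : agemoZ p n S ≤ S := by
  unfold agemoZ Cfsg.powerClosure
  rw [Subgroup.closure_le]
  rintro y ⟨x, hx, rfl⟩
  exact S.pow_mem hx.1 _

theorem agemoZ_central (n : ℕ) : ∀ s ∈ S, ∀ u ∈ agemoZ p n S, s * u * s⁻¹ = u := by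
  intro s hs u hu
  unfold agemoZ Cfsg.powerClosure at hu
  induction hu using Subgroup.closure_induction with
  | mem y hy =>
    obtain ⟨x, hx, rfl⟩ := hy
    have h1 := Subgroup.mem_centralizer_iff.mp hx.2 s hs
    rw [← conj_pow]
    congr 1
    rw [h1]
    group
  | one => group
  | mul a b _ _ ha hb =>
    calc s * (a * b) * s⁻¹ = (s * a * s⁻¹) * (s * b * s⁻¹) := by group
      _ = a * b := by rw [ha, hb]
  | inv a _ ha =>
    calc s * a⁻¹ * s⁻¹ = (s * a * s⁻¹)⁻¹ := by group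
      _ = a⁻¹ := by rw [ha]

/-- A partial map fixing the generators fixes `agemoZ` pointwise; more generally a multiplicative map sending
generators into `agemoZ` sends `agemoZ` into itself. -/
theorem map_agemoZ_mem (n : ℕ) {R : Subgroup Ω} (hXR : agemoZ p n S ≤ R) (θ : Ω → Ω)
    (hmul : ∀ x ∈ R, ∀ y ∈ R, θ (x * y) = θ x * θ y)
    (hgen : ∀ z ∈ S ⊓ Subgroup.centralizer (S : Set Ω), θ (z ^ (p ^ n)) ∈ agemoZ p n S) :
    ∀ u ∈ agemoZ p n S, θ u ∈ agemoZ p n S := by
  have h1 : θ 1 = 1 := by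
    have := hmul 1 R.one_mem 1 R.one_mem
    rw [mul_one] at this
    exact (mul_eq_left.mp this.symm)
  have hinv : ∀ x ∈ R, θ x⁻¹ = (θ x)⁻¹ := by
    intro x hx
    have := hmul x hx x⁻¹ (R.inv_mem hx)
    rw [mul_inv_cancel, h1] at this
    exact (eq_inv_of_mul_eq_one_right this.symm)
  intro u hu
  have key : u ∈ agemoZ p n S ∧ θ u ∈ agemoZ p n S := by
    have hu' := hu
    unfold agemoZ Cfsg.powerClosure at hu'
    clear hu
    induction hu' using Subgroup.closure_induction with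
    | mem y hy =>
      obtain ⟨x, hx, rfl⟩ := hy
      exact ⟨Subgroup.subset_closure ⟨x, hx, rfl⟩, hgen x hx⟩
    | one => exact ⟨Subgroup.one_mem _, by rw [h1]; exact Subgroup.one_mem _⟩
    | mul a b _ _ ha hb =>
      refine ⟨Subgroup.mul_mem _ ha.1 hb.1, ?_⟩
      rw [hmul a (hXR ha.1) b (hXR hb.1)]
      exact Subgroup.mul_mem _ ha.2 hb.2
    | inv a _ ha =>
      refine ⟨Subgroup.inv_mem _ ha.1, ?_⟩
      rw [hinv a (hXR ha.1)]
      exact Subgroup.inv_mem _ ha.2
  exact key.2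

/-- Powers landing in a subgroup: from an element of `N` outside `P` of `p`-power order one gets an element of `N`
outside `P` whose `p`-th power lies in `P`. -/
theorem exists_pow_mem_not_mem {N P : Subgroup Ω} {t : Ω} (htN : t ∈ N) (htP : t ∉ P) {m : ℕ}
    (htm : t ^ (p ^ m) = 1) : ∃ s ∈ N, s ∉ P ∧ s ^ p ∈ P := by
  classical
  have hex : ∃ k : ℕ, t ^ p ^ k ∈ P := ⟨m, by rw [htm]; exact P.one_mem⟩
  set k₀ := Nat.find hex with hk₀
  have hk₀P : t ^ p ^ k₀ ∈ P := Nat.find_spec hex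
  have hk₀ne : k₀ ≠ 0 := by
    intro h0
    rw [h0, pow_zero, pow_one] at hk₀P
    exact htP hk₀P
  refine ⟨t ^ p ^ (k₀ - 1), N.pow_mem htN _, Nat.find_min hex (by omega : k₀ - 1 < k₀), ?_⟩
  have : (t ^ p ^ (k₀ - 1)) ^ p = t ^ p ^ k₀ := by
    rw [← pow_mul, ← pow_succ]
    congr 2
    omega
  rw [this]
  exact hk₀P

variable [Finite S]

/-- The essential step. -/
theorem aut_mem_agemoZ (hS : IsPGroup p S) (F : FusionSystem S) (hF : F.IsSaturated p) (n : ℕ)
    (hcl : S.lowerCentralSeries (n * (p - 1) + 1) = ⊥) {P : Subgroup Ω} (hess : F.IsEssential p P) (hne : P ≠ S)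
    (hXP : agemoZ p n S ≤ P)
    (IH : ∀ (R : Subgroup Ω) (θ : Ω → Ω), IsFM F R θ → Nat.card P < Nat.card R → agemoZ p n S ≤ R →
      ∀ u ∈ agemoZ p n S, θ u ∈ agemoZ p n S)
    (α : MulAut P) (hα : α ∈ F.autGroup P) :
    ∀ u (hu : u ∈ agemoZ p n S), ((α ⟨u, hXP hu⟩ : P) : Ω) ∈ agemoZ p n S := by
  have hPS : P ≤ S := hess.1.1
  have hfn := hess.2.1
  have hcent := hess.1
  haveI : Finite ↥P := finite_of_le hPS
  obtain ⟨R, hR⟩ := (saturated_fn hS F hF hfn).2.2
  -- central elements of `S` lie in the centre of `P`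
  have hZP : ∀ z ∈ S ⊓ Subgroup.centralizer (S : Set Ω), z ∈ P ∧ ∀ x ∈ P, x * z = z * x := by
    intro z hz
    have hzc : ∀ x ∈ S, x * z = z * x := fun x hx => Subgroup.mem_centralizer_iff.mp hz.2 x hx
    refine ⟨?_, fun x hx => hzc x (hPS hx)⟩
    apply hcent.2 P (isConj_refl F hPS)
    rw [mem_centralizerIn_iff]
    exact ⟨hz.1, fun x hx => hzc x (hPS hx)⟩
  -- the subgroup `K`
  let K : Subgroup ↥(F.autGroup P) :=
    { carrier := {a | ∀ v : ↥P, (∀ x : ↥P, x * v = v * x) → (a : MulAut P) (v ^ (p ^ n)) = v ^ (p ^ n)}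
      one_mem' := fun v _ => rfl
      mul_mem' := by
        intro a b ha hb v hv
        show (a : MulAut P) ((b : MulAut P) (v ^ p ^ n)) = _
        rw [hb v hv, ha v hv]
      inv_mem' := by
        intro a ha v hv
        have := ha v hv
        show ((a : MulAut P))⁻¹ (v ^ p ^ n) = _
        apply (a : MulAut P).injective
        rw [MulAut.apply_inv_self]
        exact this.symm }
  have hKmem : ∀ a : ↥(F.autGroup P), a ∈ K ↔
      ∀ v : ↥P, (∀ x : ↥P, x * v = v * x) → (a : MulAut P) (v ^ (p ^ n)) = v ^ (p ^ n) := fun a => Iff.rfl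
  haveI hKn : K.Normal := by
    constructor
    intro a ha b
    rw [hKmem] at ha ⊢
    intro v hv
    show (b : MulAut P) ((a : MulAut P) (((b : MulAut P))⁻¹ (v ^ p ^ n))) = _
    have hv' : ∀ x : ↥P, x * ((b : MulAut P)⁻¹ v) = ((b : MulAut P)⁻¹ v) * x := by
      intro x
      have := hv ((b : MulAut P) x)
      apply (b : MulAut P).injective
      rw [map_mul, map_mul, MulAut.apply_inv_self]
      exact this
    rw [map_pow, ha _ hv', ← map_pow, MulAut.apply_inv_self]
  -- the element `s`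
  obtain ⟨t, htN, htP⟩ := exists_mem_normalizerIn_not_mem hS hPS hne
  obtain ⟨m, hm⟩ := hS ⟨t, htN.1⟩
  have htm : t ^ p ^ m = 1 := by
    have := congrArg Subtype.val hm
    simpa using this
  obtain ⟨s, hsN, hsP, hspP⟩ := exists_pow_mem_not_mem htN htP htm
  have hsS : s ∈ S := hsN.1
  have hsNP : s ∈ Subgroup.normalizer (P : Set Ω) := hsN.2
  have hconj : ∀ x ∈ P, s * x * s⁻¹ ∈ P := fun x hx => (Subgroup.mem_normalizer_iff.mp hsNP x).mp hx
  have hconj' : ∀ x ∈ P, s⁻¹ * x * s ∈ P := by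
    intro x hx
    have := (Subgroup.mem_normalizer_iff.mp (Subgroup.inv_mem _ hsNP) x).mp hx
    simpa using this
  have hcs : P.normalizerMonoidHom ⟨s, hsNP⟩ ∈ autInducedBy S P := by
    rw [mem_autInducedBy_iff]
    exact ⟨s, hsS, fun x => rfl⟩
  have hcsF : P.normalizerMonoidHom ⟨s, hsNP⟩ ∈ F.autGroup P := autInducedBy_le_autGroup F hPS hcs
  set as : ↥(F.autGroup P) := ⟨P.normalizerMonoidHom ⟨s, hsNP⟩, hcsF⟩ with has
  have hasR : as ∈ (R : Subgroup ↥(F.autGroup P)) := by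
    rw [hR, Subgroup.mem_subgroupOf]
    exact hcs
  have hasK : as ∈ K := by
    rw [hKmem]
    intro v hv
    apply Subtype.ext
    show s * ((v ^ p ^ n : ↥P) : Ω) * s⁻¹ = ((v ^ p ^ n : ↥P) : Ω)
    rw [Subgroup.coe_pow]
    have := comm_pow_center n hcl hPS hsS hconj hconj' hspP v.2
      (fun x hx => congrArg Subtype.val (hv ⟨x, hx⟩))
    rw [this]
    group
  -- Frattini
  obtain ⟨h, hh, k, hk, hαhk⟩ := frattini_decomp R K (⟨α, hα⟩ : ↥(F.autGroup P))
  -- `k` fixes the subgroup pointwise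
  have hkfix : ∀ u (hu : u ∈ agemoZ p n S), (((k : MulAut P) ⟨u, hXP hu⟩ : P) : Ω) = u := by
    intro u hu
    have key : ∃ huP : u ∈ P, (((k : MulAut P) ⟨u, huP⟩ : P) : Ω) = u := by
      have hu' := hu
      unfold agemoZ Cfsg.powerClosure at hu'
      clear hu
      induction hu' using Subgroup.closure_induction with
      | mem y hy =>
        obtain ⟨z, hz, rfl⟩ := hy
        obtain ⟨hzP, hzc⟩ := hZP z hz
        refine ⟨P.pow_mem hzP _, ?_⟩
        have := (hKmem k).mp hk ⟨z, hzP⟩ (fun x => Subtype.ext (hzc x x.2))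
        have h2 := congrArg Subtype.val this
        rw [Subgroup.coe_pow] at h2
        exact h2
      | one => exact ⟨P.one_mem, by
          have : (⟨1, P.one_mem⟩ : ↥P) = 1 := rfl
          rw [this, map_one]; rfl⟩
      | mul a b _ _ ha hb =>
        obtain ⟨haP, ha'⟩ := ha
        obtain ⟨hbP, hb'⟩ := hb
        refine ⟨P.mul_mem haP hbP, ?_⟩
        have : (⟨a * b, P.mul_mem haP hbP⟩ : ↥P) = ⟨a, haP⟩ * ⟨b, hbP⟩ := rfl
        rw [this, map_mul, Subgroup.coe_mul, ha', hb']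
      | inv a _ ha =>
        obtain ⟨haP, ha'⟩ := ha
        refine ⟨P.inv_mem haP, ?_⟩
        have : (⟨a⁻¹, P.inv_mem haP⟩ : ↥P) = ⟨a, haP⟩⁻¹ := rfl
        rw [this, map_inv, Subgroup.coe_inv, ha']
    obtain ⟨_, h2⟩ := key
    exact h2
  -- `h` extends to a larger subgroup
  have hhX : ∀ u (hu : u ∈ agemoZ p n S), (((h : MulAut P) ⟨u, hXP hu⟩ : P) : Ω) ∈ agemoZ p n S := by
    intro u hu
    have hmem : h * as * h⁻¹ ∈ (R : Subgroup ↥(F.autGroup P)) ⊓ K :=
      (Subgroup.mem_normalizer_iff.mp hh as).mp ⟨hasR, hasK⟩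
    have hmemR := (Subgroup.mem_inf.mp hmem).1
    rw [hR, Subgroup.mem_subgroupOf] at hmemR
    have hcoe : ((h * as * h⁻¹ : ↥(F.autGroup P)) : MulAut P) =
        (h : MulAut P) * P.normalizerMonoidHom ⟨s, hsNP⟩ * (h : MulAut P)⁻¹ := rfl
    rw [hcoe] at hmemR
    have hsext := mem_extender_of_conj_mem (h : MulAut P) hsS hsNP hmemR
    set φh : ↥P →* Ω := P.subtype.comp ((h : MulAut P) : P ≃* P).toMonoidHom with hφh
    have hφhF : φh ∈ F.Hom P := (mem_autGroup_iff F hPS _).mp h.2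
    have hr : φh.range = P := by
      ext y
      constructor
      · rintro ⟨x, rfl⟩
        exact ((h : MulAut P) x).2
      · intro hy
        refine ⟨(h : MulAut P)⁻¹ ⟨y, hy⟩, ?_⟩
        show (((h : MulAut P) ((h : MulAut P)⁻¹ ⟨y, hy⟩) : P) : Ω) = y
        rw [MulAut.apply_inv_self]
    have hRec := saturated_fn_receptive hS F hF hfn
    have hzs : Subgroup.zpowers s ≤ extender S P φh := by
      rw [Subgroup.zpowers_le]
      exact hsext
    obtain ⟨γ', hγ', hγ'φ⟩ := exists_ext_of_receptive hRec φh hφhF hr hzs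
    have hlt : Nat.card P < Nat.card ↥(Subgroup.zpowers s ⊔ P) :=
      card_lt_of_not_le le_sup_right (sup_le (Subgroup.zpowers_le.mpr hsS) hPS)
        (fun hle => hsP (hle (le_sup_left (a := Subgroup.zpowers s) (Subgroup.mem_zpowers s))))
    have := IH _ γ' hγ' hlt (hXP.trans le_sup_right) u hu
    rw [hγ'φ ⟨u, hXP hu⟩] at this
    exact this
  intro u hu
  have hαu : α ⟨u, hXP hu⟩ = (h : MulAut P) ((k : MulAut P) ⟨u, hXP hu⟩) := by
    have : α = (h : MulAut P) * (k : MulAut P) := by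
      have := congrArg Subtype.val hαhk
      exact this
    rw [this]
    rfl
  have hku : (k : MulAut P) ⟨u, hXP hu⟩ = ⟨u, hXP hu⟩ := Subtype.ext (hkfix u hu)
  rw [hαu, hku]
  exact hhX u hu

end Cfsg.Agent.Lib.Helper27.AG
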