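import Cfsg.Agent.Lib.Helper27.AG4

/-!
helper27: Glauberman's theorem on `p^n`-th powers of central elements, for fusion systems: the theorem.
-/

set_option autoImplicit false
set_option linter.unusedSectionVars false
set_option linter.unusedVariables false

namespace Cfsg.Agent.Lib.Helper27.AG

open Cfsg Cfsg.FusionSystem Cfsg.Agent.Lib.Helper26 Cfsg.Agent.Lib.Helper27.FM Cfsg.Agent.Lib.Helper27.KL

universe u

variable {Ω : Type u} [Group Ω] {S : Subgroup Ω} {p : ℕ} [Fact p.Prime] [Finite S]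

/-- If `S` has class at most `n (p - 1) + 1` then the subgroup generated by the `p^n`-th powers of the elements of
`Z(S)` is normal in every saturated fusion system over `S`. -/
theorem agemoZ_isNormal (hS : IsPGroup p S) (F : FusionSystem S) (hF : F.IsSaturated p) (n : ℕ)
    (hcl : S.lowerCentralSeries (n * (p - 1) + 1) = ⊥) : F.IsNormal (agemoZ p n S) := by
  have hXS : agemoZ p n S ≤ S := agemoZ_le n
  have hXc := agemoZ_central (p := p) (S := S) n
  have hXn : ∀ s ∈ S, ∀ u ∈ agemoZ p n S, s * u * s⁻¹ ∈ agemoZ p n S := fun s hs u hu => by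
    rw [hXc s hs u hu]; exact hu
  have hScent : S ≤ Subgroup.centralizer ((agemoZ p n S : Subgroup Ω) : Set Ω) := by
    intro s hs
    rw [Subgroup.mem_centralizer_iff]
    intro u hu
    have := hXc s hs u hu
    calc u * s = s * u * s⁻¹ * s := by rw [this]
      _ = s * u := by group
  haveI : Finite ↥(agemoZ p n S) := finite_of_le hXS
  apply NM.of_forall F hXS hXn
  apply forall_of_step hS hF
  · intro α hα
    have hFM := aut_isFM F le_rfl hα
    apply NM.of_le hXS hFM
    apply map_agemoZ_mem n hXS _ (fun x hx y hy => hFM.map_mul hx hy)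
    intro z hz
    have hz := Subgroup.mem_inf.mp hz
    have h1 : ofHom (S.subtype.comp (α : S ≃* S).toMonoidHom) (z ^ p ^ n) =
        ((α ⟨z, hz.1⟩ : S) : Ω) ^ p ^ n := by
      have := aut_ofHom_apply α (⟨z, hz.1⟩ ^ p ^ n : ↥S)
      rw [Subgroup.coe_pow] at this
      rw [this, map_pow, Subgroup.coe_pow]
    rw [h1]
    apply Subgroup.subset_closure
    refine ⟨((α ⟨z, hz.1⟩ : S) : Ω), Subgroup.mem_inf.mpr ⟨(α ⟨z, hz.1⟩ : S).2, ?_⟩, rfl⟩
    rw [Subgroup.mem_centralizer_iff]
    intro y hy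
    have hzc : ∀ x : ↥S, x * ⟨z, hz.1⟩ = ⟨z, hz.1⟩ * x := fun x =>
      Subtype.ext (Subgroup.mem_centralizer_iff.mp hz.2 x x.2)
    have h2 := hzc (α⁻¹ ⟨y, hy⟩)
    have h3 := congrArg α h2
    rw [map_mul, map_mul, MulAut.apply_inv_self] at h3
    exact congrArg Subtype.val h3
  · intro P hess hne IH α hα
    have hPS : P ≤ S := hess.1.1
    have hXP : agemoZ p n S ≤ P := le_of_essential_of_le_centralizer F hess hXS hScent
    apply NM.of_le hXP (aut_isFM F hPS hα)
    intro u hu
    have e : ofHom (P.subtype.comp (α : P ≃* P).toMonoidHom) u = ((α ⟨u, hXP hu⟩ : P) : Ω) :=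
      aut_ofHom_apply α ⟨u, hXP hu⟩
    rw [e]
    apply aut_mem_agemoZ hS F hF n hcl hess hne hXP ?_ α hα u hu
    intro R θ hθ hlt hXR v hv
    obtain ⟨φ, hφ, h1⟩ := hθ
    obtain ⟨θ', hθ', hag, hX⟩ := IH R φ hφ hlt
    have := hX v hv
    rw [hag v (hXR hv), ofHom_apply' φ (hXR hv), h1 ⟨v, hXR hv⟩] at this
    exact this

end Cfsg.Agent.Lib.Helper27.AG
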