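import Mathlib

/-!
helper27: exponent of a nilpotent group in terms of the exponent of its centre and its class:
if `z ^ e = 1` for all central `z` then `x ^ (e ^ k) = 1` for all `x` in the `k`-th term of the upper central series.
-/

set_option autoImplicit false

namespace Cfsg.Agent.Lib.Helper27.AG

open scoped commutatorElement

/-- If the commutator `⁅a, b⁆` is central then `⁅a ^ j, b⁆ = ⁅a, b⁆ ^ j`. -/
theorem commutator_pow_of_central {Q : Type*} [Group Q] (a b : Q) (hc : ∀ q : Q, q * ⁅a, b⁆ = ⁅a, b⁆ * q) :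
    ∀ j : ℕ, ⁅a ^ j, b⁆ = ⁅a, b⁆ ^ j := by
  intro j
  induction j with
  | zero => simp
  | succ j ih =>
    have h1 : ⁅a ^ (j + 1), b⁆ = a * ⁅a ^ j, b⁆ * a⁻¹ * ⁅a, b⁆ := by
      simp only [commutatorElement_def, pow_succ']
      group
    rw [h1, ih]
    have h2 : a * ⁅a, b⁆ ^ j = ⁅a, b⁆ ^ j * a := by
      have : Commute a ⁅a, b⁆ := hc a
      exact (this.pow_right j).eq
    rw [h2, mul_assoc (⁅a, b⁆ ^ j), mul_inv_cancel, mul_one, pow_succ]

theorem pow_mem_upperCentralSeries {G : Type*} [Group G] (e : ℕ) (he : ∀ z ∈ Subgroup.center G, z ^ e = 1) :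
    ∀ k : ℕ, ∀ x ∈ Subgroup.upperCentralSeries G (k + 1), x ^ e ∈ Subgroup.upperCentralSeries G k := by
  intro k
  induction k with
  | zero =>
    intro x hx
    rw [Subgroup.upperCentralSeries_one] at hx
    rw [Subgroup.upperCentralSeries_zero, Subgroup.mem_bot]
    exact he x hx
  | succ k ih =>
    intro x hx
    rw [Subgroup.mem_upperCentralSeries_succ_iff] at hx ⊢
    intro y
    set N := Subgroup.upperCentralSeries G k with hN
    set π := QuotientGroup.mk' N with hπ
    -- the image of `⁅x, y⁆` is central in the quotient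
    have hcent : ∀ c ∈ Subgroup.upperCentralSeries G (k + 1), ∀ q : G ⧸ N, q * π c = π c * q := by
      intro c hc q
      obtain ⟨g, rfl⟩ := QuotientGroup.mk'_surjective N q
      rw [← map_mul, ← map_mul]
      rw [hπ, QuotientGroup.mk'_apply, QuotientGroup.mk'_apply, QuotientGroup.eq]
      have h1 := Subgroup.mem_upperCentralSeries_succ_iff.mp ((Subgroup.upperCentralSeries G (k + 1)).inv_mem hc) g⁻¹
      have h2 : (g * c)⁻¹ * (c * g) = ⁅c⁻¹, g⁻¹⁆ := by
        rw [commutatorElement_def]; group
      rw [h2]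
      exact h1
    have h3 : π ⁅x ^ e, y⁆ = 1 := by
      rw [map_commutatorElement, map_pow]
      have hc' : ∀ q : G ⧸ N, q * ⁅π x, π y⁆ = ⁅π x, π y⁆ * q := by
        intro q
        rw [← map_commutatorElement]
        exact hcent _ (hx y) q
      rw [commutator_pow_of_central (π x) (π y) hc' e, ← map_commutatorElement, ← map_pow]
      rw [hπ, QuotientGroup.mk'_apply, QuotientGroup.eq_one_iff]
      exact ih _ (hx y)
    rw [hπ, QuotientGroup.mk'_apply, QuotientGroup.eq_one_iff] at h3
    exact h3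

theorem pow_pow_eq_one_of_mem_upperCentralSeries {G : Type*} [Group G] (e : ℕ)
    (he : ∀ z ∈ Subgroup.center G, z ^ e = 1) : ∀ k : ℕ, ∀ x ∈ Subgroup.upperCentralSeries G k, x ^ (e ^ k) = 1 := by
  intro k
  induction k with
  | zero =>
    intro x hx
    rw [Subgroup.upperCentralSeries_zero, Subgroup.mem_bot] at hx
    rw [hx, one_pow]
  | succ k ih =>
    intro x hx
    rw [pow_succ', pow_mul]
    exact ih _ (pow_mem_upperCentralSeries e he k x hx)

end Cfsg.Agent.Lib.Helper27.AG
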