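import Mathlib

/-!
Bound `|A| ≤ (n/k)^k` for abelian `p`-subgroups of rank `k` of `Sym(n)` (helper27).
-/

set_option autoImplicit false

namespace Cfsg.Agent.Lib.Helper27.AbelPermBound

open Subgroup

section Numeric

/-- weighted AM-GM in integer form -/
theorem amgm (m q a b : ℕ) :
    (a + b) ^ (a + b) * m ^ a * q ^ b ≤ (m + q) ^ (a + b) * a ^ a * b ^ b := by
  rcases Nat.eq_zero_or_pos a with rfl | ha
  · simp only [zero_add, pow_zero, mul_one]
    rw [← mul_pow, ← mul_pow]
    exact Nat.pow_le_pow_left (by nlinarith) b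
  rcases Nat.eq_zero_or_pos b with rfl | hb
  · simp only [add_zero, pow_zero, mul_one]
    rw [← mul_pow, ← mul_pow]
    exact Nat.pow_le_pow_left (by nlinarith) a
  rcases Nat.eq_zero_or_pos m with rfl | hm
  · simp [ha.ne']
  rcases Nat.eq_zero_or_pos q with rfl | hq
  · simp [hb.ne']
  -- real AM-GM
  have haR : (0 : ℝ) < a := by exact_mod_cast ha
  have hbR : (0 : ℝ) < b := by exact_mod_cast hb
  have hmR : (0 : ℝ) < m := by exact_mod_cast hm
  have hqR : (0 : ℝ) < q := by exact_mod_cast hq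
  have hk : (0 : ℝ) < (a : ℝ) + b := by positivity
  have key := Real.geom_mean_le_arith_mean2_weighted
    (w₁ := (a : ℝ) / (a + b)) (w₂ := (b : ℝ) / (a + b)) (p₁ := (m : ℝ) / a) (p₂ := (q : ℝ) / b)
    (by positivity) (by positivity) (by positivity) (by positivity) (by field_simp)
  have hrhs : (a : ℝ) / (a + b) * ((m : ℝ) / a) + (b : ℝ) / (a + b) * ((q : ℝ) / b)
      = ((m : ℝ) + q) / (a + b) := by
    field_simp
  rw [hrhs] at key
  have hpow := pow_le_pow_left₀ (by positivity) key (a + b)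
  have hlhs : (((m : ℝ) / a) ^ ((a : ℝ) / (a + b)) * ((q : ℝ) / b) ^ ((b : ℝ) / (a + b))) ^ (a + b)
      = ((m : ℝ) / a) ^ a * ((q : ℝ) / b) ^ b := by
    rw [mul_pow, ← Real.rpow_natCast, ← Real.rpow_natCast, ← Real.rpow_mul (by positivity),
      ← Real.rpow_mul (by positivity)]
    have e1 : (a : ℝ) / (a + b) * ((a + b : ℕ) : ℝ) = a := by
      push_cast; field_simp
    have e2 : (b : ℝ) / (a + b) * ((a + b : ℕ) : ℝ) = b := by
      push_cast; field_simp
    rw [e1, e2, Real.rpow_natCast, Real.rpow_natCast]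
  rw [hlhs, div_pow, div_pow, div_pow] at hpow
  have hfin : ((a : ℝ) + b) ^ (a + b) * (m : ℝ) ^ a * (q : ℝ) ^ b
      ≤ ((m : ℝ) + q) ^ (a + b) * (a : ℝ) ^ a * (b : ℝ) ^ b := by
    have h1 : (0 : ℝ) < (a : ℝ) ^ a := by positivity
    have h2 : (0 : ℝ) < (b : ℝ) ^ b := by positivity
    have h3 : (0 : ℝ) < ((a : ℝ) + b) ^ (a + b) := by positivity
    rw [div_mul_div_comm, div_le_div_iff₀ (by positivity) h3] at hpow
    nlinarith [hpow]
  exact_mod_cast hfin

theorem le_two_pow_pred (t : ℕ) (ht : 1 ≤ t) : t ≤ 2 ^ (t - 1) := by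
  have := Nat.lt_two_pow_self (n := t - 1)
  omega

/-- the numerical induction step -/
theorem numeric_step (m q k' t X : ℕ) (ht : 1 ≤ t) (hq : 2 ^ t ≤ q)
    (hX : X * k' ^ k' ≤ m ^ k') :
    q * X * (k' + t) ^ (k' + t) ≤ (m + q) ^ (k' + t) := by
  have hB : q * t ^ t ≤ q ^ t := by
    have h1 : t ^ t ≤ q ^ (t - 1) := by
      calc t ^ t ≤ (2 ^ (t - 1)) ^ t := Nat.pow_le_pow_left (le_two_pow_pred t ht) t
        _ = (2 ^ t) ^ (t - 1) := by rw [← pow_mul, ← pow_mul, mul_comm]
        _ ≤ q ^ (t - 1) := Nat.pow_le_pow_left hq _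
    calc q * t ^ t ≤ q * q ^ (t - 1) := Nat.mul_le_mul_left q h1
      _ = q ^ t := by
        rw [← pow_succ']
        congr 1
        omega
  have hA := amgm m q k' t
  have hpos : 0 < k' ^ k' * t ^ t := by
    apply Nat.mul_pos
    · rcases Nat.eq_zero_or_pos k' with rfl | h
      · simp
      · positivity
    · positivity
  apply Nat.le_of_mul_le_mul_right _ hpos
  calc q * X * (k' + t) ^ (k' + t) * (k' ^ k' * t ^ t)
      = (X * k' ^ k') * (k' + t) ^ (k' + t) * (q * t ^ t) := by ring
    _ ≤ m ^ k' * (k' + t) ^ (k' + t) * q ^ t := by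
        apply Nat.mul_le_mul (Nat.mul_le_mul_right _ hX) hB
    _ = (k' + t) ^ (k' + t) * m ^ k' * q ^ t := by ring
    _ ≤ (m + q) ^ (k' + t) * k' ^ k' * t ^ t := hA
    _ = (m + q) ^ (k' + t) * (k' ^ k' * t ^ t) := by ring

end Numeric

section Grp

universe u

variable (p : ℕ) [hp : Fact p.Prime]

/-- the `p`-torsion subgroup of a commutative group -/
def tor (X : Type*) [Group X] (hcomm : ∀ a b : X, a * b = b * a) : Subgroup X where
  carrier := {x | x ^ p = 1}
  one_mem' := one_pow p
  mul_mem' := fun {a b} ha hb => by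
    show (a * b) ^ p = 1
    rw [(show Commute a b from hcomm a b).mul_pow, show a ^ p = 1 from ha,
      show b ^ p = 1 from hb, one_mul]
  inv_mem' := fun {a} ha => by
    show a⁻¹ ^ p = 1
    rw [inv_pow, show a ^ p = 1 from ha, inv_one]

theorem mem_tor {X : Type*} [Group X] (hcomm : ∀ a b : X, a * b = b * a) (x : X) :
    x ∈ tor p X hcomm ↔ x ^ p = 1 := Iff.rfl

theorem card_tor (X : Type*) [Group X] (hcomm : ∀ a b : X, a * b = b * a) :
    Nat.card {x : X // x ^ p = 1} = Nat.card (tor p X hcomm) :=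
  Nat.card_congr (Equiv.subtypeEquivRight (fun _ => Iff.rfl))

theorem relIndex_mul_card' {X : Type*} [Group X] {A B : Subgroup X} (h : A ≤ B) :
    A.relIndex B * Nat.card A = Nat.card B := by
  rw [relIndex, ← Nat.card_congr (subgroupOfEquivOfLe h).toEquiv]
  exact Subgroup.index_mul_card _

/-- a `p`-group whose `p`-torsion is trivial is trivial -/
theorem card_eq_one_of_tor {A : Type*} [Group A] [Finite A] (hA : IsPGroup p A)
    (h : Nat.card {x : A // x ^ p = 1} = 1) : Nat.card A = 1 := by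
  by_contra hne
  obtain ⟨n, hn⟩ := IsPGroup.iff_card.mp hA
  have hn0 : n ≠ 0 := by rintro rfl; exact hne (by simpa using hn)
  have hdvd : p ∣ Nat.card A := by rw [hn]; exact dvd_pow_self p hn0
  obtain ⟨x, hx⟩ := exists_prime_orderOf_dvd_card' p hdvd
  have hx1 : x ≠ 1 := by
    rintro rfl
    rw [orderOf_one] at hx
    exact hp.out.one_lt.ne hx
  have hxp : x ^ p = 1 := by rw [← hx]; exact pow_orderOf_eq_one x
  haveI := (Nat.card_eq_one_iff_unique.mp h).1
  have : (⟨x, hxp⟩ : {x : A // x ^ p = 1}) = ⟨1, one_pow p⟩ := Subsingleton.elim _ _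
  exact hx1 (congrArg Subtype.val this)

/-- **Main inequality** for a family of subgroups with trivial intersection. -/
theorem star {ι : Type*} [DecidableEq ι] :
    ∀ (N : ℕ) (A : Type u) [Group A] [Finite A] (_hcomm : ∀ a b : A, a * b = b * a)
      (_hA : IsPGroup p A) (s : Finset ι) (K : ι → Subgroup A), s.card = N →
      (∀ g : A, (∀ i ∈ s, g ∈ K i) → g = 1) →
      ∀ k : ℕ, Nat.card {x : A // x ^ p = 1} = p ^ k →
        Nat.card A * k ^ k ≤ (∑ i ∈ s, (K i).index) ^ k := by
  intro N
  induction N with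
  | zero =>
    intro A _ _ hcomm hA s K hs htriv k hk
    have hs' : s = ∅ := Finset.card_eq_zero.mp hs
    have hall : ∀ g : A, g = 1 := fun g => htriv g (by simp [hs'])
    haveI : Subsingleton A := ⟨fun a b => (hall a).trans (hall b).symm⟩
    have hcard : Nat.card A = 1 := Nat.card_unique
    have hk0 : k = 0 := by
      have h1 : Nat.card {x : A // x ^ p = 1} = 1 := by
        haveI : Nonempty {x : A // x ^ p = 1} := ⟨⟨1, one_pow p⟩⟩
        exact Nat.card_unique
      rw [h1] at hk
      by_contra hk0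
      have : 1 < p ^ k := Nat.one_lt_pow hk0 hp.out.one_lt
      omega
    subst hk0
    simp [hcard]
  | succ N ih =>
    intro A _ _ hcomm hA s K hs htriv k hk
    rcases Nat.eq_zero_or_pos k with rfl | hkpos
    · have := card_eq_one_of_tor p hA (by simpa using hk)
      simp [this]
    -- the torsion subgroup
    have hT : Nat.card (tor p A hcomm) = p ^ k := by rw [← card_tor]; exact hk
    obtain ⟨x, hxT, hx1⟩ : ∃ x ∈ tor p A hcomm, x ≠ 1 := by
      by_contra hcon
      have hbot : tor p A hcomm = ⊥ := by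
        rw [eq_bot_iff]
        intro x hx
        by_contra hx1
        exact hcon ⟨x, hx, fun h => hx1 (Subgroup.mem_bot.mpr h)⟩
      rw [hbot, Subgroup.card_bot] at hT
      have : 1 < p ^ k := Nat.one_lt_pow hkpos.ne' hp.out.one_lt
      omega
    obtain ⟨i₀, hi₀, hxi₀⟩ : ∃ i₀ ∈ s, x ∉ K i₀ := by
      by_contra hcon
      apply hx1
      apply htriv
      intro i hi
      by_contra hxi
      exact hcon ⟨i, hi, hxi⟩
    set L : Subgroup A := K i₀ with hL
    have hcommL : ∀ a b : ↥L, a * b = b * a := fun a b => Subtype.ext (hcomm a b)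
    have hLp : IsPGroup p ↥L := hA.to_subgroup L
    have hs' : (s.erase i₀).card = N := by
      rw [Finset.card_erase_of_mem hi₀, hs]; rfl
    have htriv' : ∀ g : ↥L, (∀ i ∈ s.erase i₀, g ∈ (K i).subgroupOf L) → g = 1 := by
      intro g hg
      apply Subtype.ext
      apply htriv
      intro i hi
      by_cases hii : i = i₀
      · rw [hii]; exact g.2
      · exact Subgroup.mem_subgroupOf.mp (hg i (Finset.mem_erase.mpr ⟨hii, hi⟩))
    obtain ⟨k', hk'⟩ := IsPGroup.iff_card.mp (hLp.to_subgroup (tor p ↥L hcommL))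
    have hk'' : Nat.card {x : ↥L // x ^ p = 1} = p ^ k' := by rw [card_tor p ↥L hcommL]; exact hk'
    have hIH := ih ↥L hcommL hLp (s.erase i₀) (fun i => (K i).subgroupOf L) hs' htriv' k' hk''
    -- normality
    have hnormal : ∀ H : Subgroup A, H.Normal := fun H =>
      ⟨fun n hn g => by rw [hcomm g n, mul_inv_cancel_right]; exact hn⟩
    have hidx : ∀ i, ((K i).subgroupOf L).index ≤ (K i).index := by
      intro i
      haveI := hnormal (K i)
      have hd : (K i).relIndex L ∣ (K i).index := Subgroup.relIndex_dvd_index_of_normal (K i) L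
      exact Nat.le_of_dvd (Nat.pos_of_ne_zero (Subgroup.index_ne_zero_of_finite)) hd
    set m := ∑ i ∈ s.erase i₀, (K i).index with hm
    have hX : Nat.card ↥L * k' ^ k' ≤ m ^ k' :=
      hIH.trans (Nat.pow_le_pow_left (Finset.sum_le_sum fun i _ => hidx i) k')
    have hsum : ∑ i ∈ s, (K i).index = m + L.index := by
      rw [hm, add_comm]
      exact (Finset.add_sum_erase s (fun i => (K i).index) hi₀).symm
    have hcardA : Nat.card A = L.index * Nat.card ↥L := (Subgroup.index_mul_card L).symm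
    -- ranks
    have hmap : (tor p ↥L hcommL).map L.subtype = tor p A hcomm ⊓ L := by
      ext y
      constructor
      · rintro ⟨z, hz, rfl⟩
        refine ⟨?_, z.2⟩
        have : z ^ p = 1 := hz
        show (z : A) ^ p = 1
        simpa using congrArg Subtype.val this
      · rintro ⟨hy1, hy2⟩
        refine ⟨⟨y, hy2⟩, ?_, rfl⟩
        show (⟨y, hy2⟩ : ↥L) ^ p = 1
        exact Subtype.ext (by simpa using (show y ^ p = 1 from hy1))
    have hcardinf : Nat.card ↥(tor p A hcomm ⊓ L) = p ^ k' := by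
      rw [← hmap, Subgroup.card_map_of_injective L.subtype_injective, hk']
    have hrel := relIndex_mul_card' (inf_le_left : tor p A hcomm ⊓ L ≤ tor p A hcomm)
    rw [Subgroup.inf_relIndex_left, hcardinf, hT] at hrel
    haveI := hnormal L
    have hd : L.relIndex (tor p A hcomm) ∣ L.index := Subgroup.relIndex_dvd_index_of_normal L _
    obtain ⟨a, ha⟩ := hA.index L
    rw [ha] at hd
    obtain ⟨t, hta, ht⟩ := (Nat.dvd_prime_pow hp.out).mp hd
    have ht0 : t ≠ 0 := by
      rintro rfl
      rw [pow_zero, Subgroup.relIndex_eq_one] at ht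
      exact hxi₀ (ht hxT)
    rw [ht, ← pow_add] at hrel
    have hkk : t + k' = k := Nat.pow_right_injective hp.out.two_le hrel
    have hq : 2 ^ t ≤ L.index := by
      rw [ha]
      calc 2 ^ t ≤ 2 ^ a := Nat.pow_le_pow_right (by norm_num) hta
        _ ≤ p ^ a := Nat.pow_le_pow_left hp.out.two_le a
    have hstep := numeric_step m L.index k' t (Nat.card ↥L) (by omega) hq hX
    rw [hsum, hcardA, ← hkk, add_comm t k']
    exact hstep

end Grp

end Cfsg.Agent.Lib.Helper27.AbelPermBound
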