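/-
helper27: S4501 market "BQ", leaf BQ-KLEIN (twin): the Klein-four data of a simple group of order 4 g₀ (g₀ odd):
S0948 + lead order formula (S4479) cleared of denominators + S0992 (3 ∣ g₀).
-/
import Mathlib
import Cfsg.Prelude.Def_BlockRank
import Cfsg.Agent.Lib.Helper6.BRHDefs
import Cfsg.Agent.Lib.Helper24.BRCDefs
import Cfsg.Agent.Lib.Helper24.IrrFacts
import Cfsg.Agent.Lib.Helper6.Knoerr
import Cfsg.Agent.Lib.Lead.KleinOrder3
import Cfsg.Agent.S0948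
import Cfsg.Agent.S0992

set_option autoImplicit false

namespace Cfsg.Agent.Lib.Helper27.BQKLEIN

open Cfsg Cfsg.Agent.CharLib
open scoped ComplexConjugate

universe u

variable {G : Type u} [Group G] [Finite G]

theorem klein_data [IsSimpleGroup G] (hna : ∃ x y : G, x * y ≠ y * x) (g₀ : ℕ) (hg₀ : Odd g₀) (hG : Nat.card G = 4 * g₀) :
    ∃ (ζ₂ ζ₃ ζ₄ : IrrCharacter G) (ε : ℤ) (k k' : ℕ), (ε = 1 ∨ ε = -1) ∧
      ζ₂ ≠ trivIrr G ∧ ζ₃ ≠ trivIrr G ∧ ζ₄ ≠ trivIrr G ∧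
      (4 : ℤ) ∣ (charDegree (ζ₂ : G → ℂ) : ℤ) - 1 ∧ (4 : ℤ) ∣ (charDegree (ζ₃ : G → ℂ) : ℤ) - ε ∧
      (4 : ℤ) ∣ (charDegree (ζ₄ : G → ℂ) : ℤ) + 1 ∧
      1 + (charDegree (ζ₂ : G → ℂ) : ℤ) + ε * (charDegree (ζ₃ : G → ℂ) : ℤ) - (charDegree (ζ₄ : G → ℂ) : ℤ) = 0 ∧
      3 ∣ g₀ ∧ k ∣ g₀ ∧
      (g₀ : ℤ) * (((charDegree (ζ₂ : G → ℂ) : ℤ) + 1) * ((charDegree (ζ₃ : G → ℂ) : ℤ) + ε) *
          ((charDegree (ζ₄ : G → ℂ) : ℤ) - 1)) * (k' : ℤ) ^ 2 =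
        8 * ((charDegree (ζ₂ : G → ℂ) : ℤ) * (charDegree (ζ₃ : G → ℂ) : ℤ) * (charDegree (ζ₄ : G → ℂ) : ℤ)) * (k : ℤ) ^ 3 := by
  classical
  have : Fact (Nat.Prime 2) := ⟨Nat.prime_two⟩
  have hg₀pos : 0 < g₀ := hg₀.pos
  -- no normal subgroup of order g₀
  have hnc : ¬ ∃ N : Subgroup G, N.Normal ∧ Nat.card N = g₀ := by
    rintro ⟨N, hN, hcard⟩
    rcases hN.eq_bot_or_eq_top with h | h
    · rw [h, Subgroup.card_bot] at hcard
      have h4 : Nat.card G = 2 ^ 2 := by rw [hG, ← hcard]; norm_num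
      obtain ⟨x, y, hxy⟩ := hna
      have hc := IsPGroup.isMulCommutative_of_card_eq_prime_sq h4
      exact hxy (isMulCommutative_iff.mp hc x y)
    · rw [h, Subgroup.card_top, hG] at hcard
      omega
  obtain ⟨M, hM⟩ := Cfsg.Agent.Lib.Helper6.exists_isPModular 2
  let P : Sylow 2 G := default
  have hP : IsKleinFour (P : Subgroup G) := ko_isKleinFour g₀ hg₀ hG hnc P
  have hone : ∀ s t : G, orderOf s = 2 → orderOf t = 2 → IsConj s t :=
    fun s t hs ht => ko_invol_conj g₀ hg₀ hG hnc P s t hs ht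
  obtain ⟨ζ₂, ζ₃, ζ₄, ε, hε, h21, h31, h23, h24, h34, hB, hval, h4a, h4b, h4c, hy⟩ :=
    Cfsg.Agent.S0948.result M hM P hP hone
  obtain ⟨J, -, hJP, -, hJ1, -, -, -⟩ := Cfsg.Agent.Lib.Helper2.klein_exists_gens P hP
  have hJ2 : orderOf J = 2 := Cfsg.Agent.Lib.Helper2.klein_orderOf P hP hJP hJ1
  obtain ⟨hv2, hv3, hv4⟩ := hval J hJ2
  have h41 : (ζ₄ : G → ℂ) ≠ (fun _ => 1) := by
    intro h
    rw [h] at hv4
    norm_num at hv4
  have hform := klein_order_formula M hM g₀ hg₀ hG hnc P J hJP hJ2 ζ₂ ζ₃ ζ₄ 1 ε (-1) hB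
    ⟨h21, h31, h41, h23, h24, h34⟩ ⟨Or.inl rfl, hε, Or.inr rfl⟩
    ⟨by rw [hv2]; norm_num, hv3, by rw [hv4]; norm_num⟩
  -- degrees
  have hd2 := Cfsg.Agent.Lib.Helper24.irr_apply_one ζ₂
  have hd3 := Cfsg.Agent.Lib.Helper24.irr_apply_one ζ₃
  have hd4 := Cfsg.Agent.Lib.Helper24.irr_apply_one ζ₄
  set d₂ := charDegree (ζ₂ : G → ℂ) with hd₂
  set d₃ := charDegree (ζ₃ : G → ℂ) with hd₃
  set d₄ := charDegree (ζ₄ : G → ℂ) with hd₄
  have hrel : 1 + (d₂ : ℤ) + ε * (d₃ : ℤ) - (d₄ : ℤ) = 0 := by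
    have h := hy 1 (by rw [orderOf_one]; exact odd_one)
    rw [hd2, hd3, hd4] at h
    exact_mod_cast h
  -- the two centralizers
  have hcomm := Cfsg.Agent.Lib.Helper2.klein_comm P hP
  have hP4 : Nat.card (P : Subgroup G) = 4 := ko_card_sylow g₀ hg₀ hG P
  have hPC : (P : Subgroup G) ≤ Subgroup.centralizer ({J} : Set G) := by
    intro x hx
    rw [Subgroup.mem_centralizer_singleton_iff]
    exact hcomm x hx J hJP
  have hPZ : (P : Subgroup G) ≤ Subgroup.centralizer ((P : Subgroup G) : Set G) := by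
    intro x hx
    rw [Subgroup.mem_centralizer_iff]
    intro y hy
    exact hcomm y hy x hx
  obtain ⟨k, hk⟩ : 4 ∣ Nat.card (Subgroup.centralizer ({J} : Set G)) := by
    rw [← hP4]; exact Subgroup.card_dvd_of_le hPC
  obtain ⟨k', hk'⟩ : 4 ∣ Nat.card (Subgroup.centralizer ((P : Subgroup G) : Set G)) := by
    rw [← hP4]; exact Subgroup.card_dvd_of_le hPZ
  have hkg : k ∣ g₀ := by
    have h := Subgroup.card_subgroup_dvd_card (Subgroup.centralizer ({J} : Set G))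
    rw [hk, hG] at h
    exact Nat.dvd_of_mul_dvd_mul_left (by norm_num) h
  have hk'pos : 0 < k' := by
    rcases Nat.eq_zero_or_pos k' with h | h
    · rw [h, mul_zero] at hk'
      exact absurd hk' Nat.card_pos.ne'
    · exact h
  -- 3 ∣ g₀
  have h3 : 3 ∣ g₀ := by
    have hnc' : ¬ IsMulCommutative G := by
      intro hc
      obtain ⟨x, y, hxy⟩ := hna
      exact hxy (isMulCommutative_iff.mp hc x y)
    have h2 : Even (Nat.card G) := by rw [hG]; exact ⟨2 * g₀, by ring⟩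
    have h8 : ¬ 8 ∣ Nat.card G := by
      rw [hG]
      rcases hg₀ with ⟨m, hm⟩
      omega
    obtain ⟨-, hrel3⟩ := Cfsg.Agent.S0992.result hnc' h2 h8 P
    have h1 : (Subgroup.centralizer ((P : Subgroup G) : Set G)).relIndex
        (Subgroup.normalizer ((P : Subgroup G) : Set G)) ∣
        Nat.card (Subgroup.normalizer ((P : Subgroup G) : Set G)) :=
      Subgroup.index_dvd_card _
    rw [hrel3] at h1
    have h2' := h1.trans (Subgroup.card_subgroup_dvd_card _)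
    rw [hG] at h2'
    exact (Nat.Coprime.dvd_of_dvd_mul_left (by norm_num) h2')
  refine ⟨ζ₂, ζ₃, ζ₄, ε, k, k', hε, ?_, ?_, ?_, h4a, h4b, h4c, hrel, h3, hkg, ?_⟩
  · intro h; exact h21 (by rw [h]; rfl)
  · intro h; exact h31 (by rw [h]; rfl)
  · intro h; exact h41 (by rw [h]; rfl)
  · rw [hG, hk, hk'] at hform
    have hE : ((d₂ : ℚ) + ((1 : ℤ) : ℚ)) * ((d₃ : ℚ) + (ε : ℚ)) * ((d₄ : ℚ) + ((-1 : ℤ) : ℚ)) ≠ 0 := by
      intro h0
      rw [h0, div_zero, mul_zero, zero_mul, zero_div] at hform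
      have : (g₀ : ℚ) = 0 := by
        push_cast at hform
        linarith
      have : g₀ = 0 := by exact_mod_cast this
      omega
    have hk'q : (k' : ℚ) ≠ 0 := by exact_mod_cast hk'pos.ne'
    have hq : (g₀ : ℚ) * (((d₂ : ℚ) + 1) * ((d₃ : ℚ) + ε) * ((d₄ : ℚ) - 1)) * (k' : ℚ) ^ 2 =
        8 * ((d₂ : ℚ) * d₃ * d₄) * (k : ℚ) ^ 3 := by
      push_cast at hform hE
      have hE' : ((d₂ : ℚ) + 1) * ((d₃ : ℚ) + ε) * ((d₄ : ℚ) - 1) ≠ 0 := by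
        intro h; apply hE; rw [← h]; ring
      have e1 : ((d₄ : ℚ) + -1) = (d₄ : ℚ) - 1 := by ring
      rw [e1] at hform
      set E : ℚ := ((d₂ : ℚ) + 1) * ((d₃ : ℚ) + ε) * ((d₄ : ℚ) - 1) with hEdef
      set D : ℚ := (d₂ : ℚ) * d₃ * d₄ with hDdef
      have h2 : (4 : ℚ) * g₀ * E * (4 * (k' : ℚ)) ^ 2 = 8 * D * (4 * (k : ℚ)) ^ 3 := by
        rw [hform]
        field_simp
      linear_combination h2 / 64
    exact_mod_cast hq

end Cfsg.Agent.Lib.Helper27.BQKLEIN
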