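import Mathlib

/-!
# Marks of finite group actions (helper27)

For a finite group `N` acting on a finite set `Y`: `mk U Y` is the number of points fixed by the subgroup `U`,
`ex U Y` the number of points whose stabilizer is exactly `U`.  The marks determine the numbers `ex` on upward
closed families (`ex_eq_of_mk_eq`), which gives the congruence `mk D Y₁ ≡ mk D Y₂ mod |N : D|` for a normal
subgroup `D` when the marks of all strictly larger subgroups agree (`mk_modEq_of_forall_lt`).
-/

set_option autoImplicit false

namespace Cfsg.Agent.Lib.Helper27.BS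

open MulAction

section Marks

variable {N : Type*} [Group N]

/-- number of points fixed by `U` -/
noncomputable def mk (U : Subgroup N) (Y : Type*) [MulAction N Y] : ℕ :=
  Nat.card {y : Y // U ≤ stabilizer N y}

/-- number of points with stabilizer exactly `U` -/
noncomputable def ex (U : Subgroup N) (Y : Type*) [MulAction N Y] : ℕ :=
  Nat.card {y : Y // stabilizer N y = U}

/-- number of points with stabilizer strictly above `U` -/
noncomputable def gtc (U : Subgroup N) (Y : Type*) [MulAction N Y] : ℕ :=
  Nat.card {y : Y // U < stabilizer N y}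

theorem mem_fixedPoints_subgroup_iff {Y : Type*} [MulAction N Y] (U : Subgroup N) (y : Y) :
    y ∈ fixedPoints U Y ↔ U ≤ stabilizer N y := by
  constructor
  · intro h u hu
    exact mem_stabilizer_iff.mpr (h ⟨u, hu⟩)
  · intro h u
    exact mem_stabilizer_iff.mp (h u.2)

theorem mk_eq_card_fixedPoints {Y : Type*} [MulAction N Y] (U : Subgroup N) :
    mk U Y = Nat.card (fixedPoints U Y) := by
  unfold mk
  apply Nat.card_congr
  exact Equiv.subtypeEquivRight (fun y => (mem_fixedPoints_subgroup_iff U y).symm)

theorem mk_eq_ex_add_gtc {Y : Type*} [MulAction N Y] [Finite Y] (U : Subgroup N) :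
    mk U Y = ex U Y + gtc U Y := by
  classical
  haveI := Fintype.ofFinite Y
  unfold mk ex gtc
  rw [Nat.card_eq_fintype_card, Nat.card_eq_fintype_card, Nat.card_eq_fintype_card,
    Fintype.card_subtype, Fintype.card_subtype, Fintype.card_subtype, ← Finset.card_union_of_disjoint]
  · congr 1
    ext y
    simp only [Finset.mem_filter, Finset.mem_univ, true_and, Finset.mem_union]
    constructor
    · intro h
      rcases eq_or_lt_of_le h with h1 | h1
      · exact Or.inl h1.symm
      · exact Or.inr h1
    · rintro (h | h)
      · exact h ▸ le_rfl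
      · exact h.le
  · rw [Finset.disjoint_left]
    intro y hy hy'
    simp only [Finset.mem_filter, Finset.mem_univ, true_and] at hy hy'
    exact absurd hy.symm hy'.ne

open scoped Classical in
theorem gtc_eq_sum [Fintype (Subgroup N)] {Y : Type*} [MulAction N Y] [Finite Y] (U : Subgroup N) :
    gtc U Y = ∑ V : Subgroup N, if U < V then ex V Y else 0 := by
  classical
  haveI := Fintype.ofFinite Y
  unfold gtc ex
  rw [Nat.card_eq_fintype_card, Fintype.card_subtype]
  rw [Finset.card_eq_sum_card_fiberwise (f := fun y => stabilizer N y) (t := Finset.univ)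
    (fun _ _ => Finset.mem_univ _)]
  apply Finset.sum_congr rfl
  intro V _
  split_ifs with h
  · rw [Nat.card_eq_fintype_card, Fintype.card_subtype]
    congr 1
    ext y
    simp only [Finset.mem_filter, Finset.mem_univ, true_and]
    constructor
    · rintro ⟨_, h2⟩; exact h2
    · intro h2; exact ⟨h2 ▸ h, h2⟩
  · rw [Finset.card_eq_zero, Finset.filter_eq_empty_iff]
    intro y hy
    simp only [Finset.mem_filter, Finset.mem_univ, true_and] at hy
    intro h2
    exact h (h2 ▸ hy)

/-- The marks on an upward closed family of subgroups determine the numbers of points with given stabilizer in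
the family. -/
theorem ex_eq_of_mk_eq [Finite N] {Y₁ Y₂ : Type*} [MulAction N Y₁] [MulAction N Y₂] [Finite Y₁] [Finite Y₂]
    (𝒰 : Set (Subgroup N)) (hup : ∀ U V, U ∈ 𝒰 → U ≤ V → V ∈ 𝒰)
    (hmk : ∀ U ∈ 𝒰, mk U Y₁ = mk U Y₂) : ∀ U ∈ 𝒰, ex U Y₁ = ex U Y₂ := by
  classical
  haveI := Fintype.ofFinite (Subgroup N)
  have key : ∀ (d : ℕ) (U : Subgroup N), U ∈ 𝒰 → Nat.card N - Nat.card U = d → ex U Y₁ = ex U Y₂ := by
    intro d
    induction d using Nat.strong_induction_on with
    | _ d ih =>
    intro U hU hd
    have h1 := mk_eq_ex_add_gtc (Y := Y₁) U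
    have h2 := mk_eq_ex_add_gtc (Y := Y₂) U
    have h3 : gtc U Y₁ = gtc U Y₂ := by
      rw [gtc_eq_sum, gtc_eq_sum]
      apply Finset.sum_congr rfl
      intro V _
      split_ifs with hV
      · apply ih (Nat.card N - Nat.card V) _ V (hup U V hU hV.le) rfl
        have hlt : Nat.card U < Nat.card V := by
          have hle := Subgroup.card_le_of_le hV.le
          rcases lt_or_eq_of_le hle with h | h
          · exact h
          · exfalso
            exact hV.ne (Subgroup.eq_of_le_of_card_ge hV.le h.ge)
        have hVN : Nat.card V ≤ Nat.card N := Subgroup.card_le_card_group V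
        omega
      · exact rfl
    have h4 := hmk U hU
    omega
  intro U hU
  exact key _ U hU rfl

theorem map_conj_eq_of_normal (D : Subgroup N) [hD : D.Normal] (c : N) :
    D.map (MulAut.conj c).toMonoidHom = D := by
  ext x
  constructor
  · rintro ⟨d, hd, rfl⟩
    exact hD.conj_mem d hd c
  · intro hx
    refine ⟨c⁻¹ * x * c, ?_, ?_⟩
    · have := hD.conj_mem x hx c⁻¹
      simpa using this
    · simp [MulAut.conj_apply, mul_assoc]

/-- For a normal subgroup `D`, the number of points with stabilizer exactly `D` is a multiple of `|N : D|`. -/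
theorem index_dvd_ex [Finite N] {Y : Type*} [MulAction N Y] [Finite Y] (D : Subgroup N) [hD : D.Normal] :
    D.index ∣ ex D Y := by
  classical
  let E : SubMulAction N Y :=
    { carrier := {y | stabilizer N y = D}
      smul_mem' := by
        intro c y hy
        simp only [Set.mem_setOf_eq] at hy ⊢
        rw [stabilizer_smul_eq_stabilizer_map_conj, hy]
        exact map_conj_eq_of_normal D c }
  have hstab : ∀ e : E, stabilizer N e = D := fun e => by
    rw [SubMulAction.stabilizer_of_subMul]; exact e.2
  have hcard : Nat.card E = ex D Y := by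
    unfold ex
    exact Nat.card_congr (Equiv.subtypeEquivRight (fun y => Iff.rfl))
  rw [← hcard]
  haveI : Finite E := Subtype.finite
  haveI := Fintype.ofFinite (Quotient (orbitRel N E))
  rw [Nat.card_congr (selfEquivSigmaOrbitsQuotientStabilizer N E), Nat.card_sigma]
  apply Finset.dvd_sum
  intro ω _
  rw [hstab]
  exact dvd_of_eq rfl

/-- If the marks of two `N`-sets agree on all subgroups strictly above the normal subgroup `D`, then the numbers of
fixed points of `D` are congruent modulo `|N : D|`. -/
theorem mk_modEq_of_forall_lt [Finite N] {Y₁ Y₂ : Type*} [MulAction N Y₁] [MulAction N Y₂] [Finite Y₁] [Finite Y₂]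
    (D : Subgroup N) [hD : D.Normal] (hmk : ∀ U, D < U → mk U Y₁ = mk U Y₂) :
    mk D Y₁ ≡ mk D Y₂ [MOD D.index] := by
  classical
  haveI := Fintype.ofFinite (Subgroup N)
  have hex := ex_eq_of_mk_eq (Y₁ := Y₁) (Y₂ := Y₂) {U | D < U} (fun U V hU hUV => lt_of_lt_of_le hU hUV) hmk
  have hg : gtc D Y₁ = gtc D Y₂ := by
    rw [gtc_eq_sum, gtc_eq_sum]
    apply Finset.sum_congr rfl
    intro V _
    split_ifs with hV
    · exact hex V hV
    · exact rfl
  rw [mk_eq_ex_add_gtc, mk_eq_ex_add_gtc, hg]
  apply Nat.ModEq.add_right
  have h1 := index_dvd_ex (Y := Y₁) D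
  have h2 := index_dvd_ex (Y := Y₂) D
  exact ((Nat.modEq_zero_iff_dvd).mpr h1).trans ((Nat.modEq_zero_iff_dvd).mpr h2).symm

end Marks

end Cfsg.Agent.Lib.Helper27.BS
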