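import Cfsg.Agent.Lib.Helper27.BS9

/-!
# The characteristic biset of a saturated fusion system (helper27)

`exists_char_biset`: for a saturated fusion system `F` over a finite `p`-group `S` there is a finite set `X` with an
action of `S × S` such that every point stabilizer is the graph of a map of `F`, the left action twisted by any map of
`F` is isomorphic to the untwisted one (compatibly with the right action), and `|X| / |S|` is prime to `p`
(Broto–Levi–Oliver, Proposition 5.5).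
-/

set_option autoImplicit false

namespace Cfsg.Agent.Lib.Helper27.BS

open Cfsg Cfsg.FusionSystem Cfsg.Agent.Lib.Helper26 Cfsg.Agent.Lib.Helper27.FM
open Cfsg.Agent.Lib.Helper27.KL MulAction

universe u

section Biset

variable {Ω : Type u} [Group Ω] {S : Subgroup Ω} [Finite S]

/-- the untwisted embedding of `P × S` into `S × S` -/
def j1 (P : Subgroup Ω) : ↥(P.subgroupOf S) × ↥S →* ↥(S.prod S) :=
  MonoidHom.mk' (fun n => pair n.1.1 n.2) (fun a b => rfl)

/-- the twisted embedding of `P × S` into `S × S` -/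
def j2 {F : FusionSystem S} {P : Subgroup Ω} {θ : Ω → Ω} (hθ : IsFM F P θ) :
    ↥(P.subgroupOf S) × ↥S →* ↥(S.prod S) :=
  MonoidHom.mk' (fun n => pair ⟨θ (n.1.1 : Ω), hθ.mem n.1.2⟩ n.2) (fun a b => by
    apply ext_c
    · apply Subtype.ext
      show θ (((a.1 * b.1 : ↥(P.subgroupOf S)) : ↥S) : Ω) = θ (a.1.1 : Ω) * θ (b.1.1 : Ω)
      exact hθ.map_mul a.1.2 b.1.2
    · rfl)

theorem j1_apply (P : Subgroup Ω) (n : ↥(P.subgroupOf S) × ↥S) : j1 P n = pair n.1.1 n.2 := rfl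

theorem j2_apply {F : FusionSystem S} {P : Subgroup Ω} {θ : Ω → Ω} (hθ : IsFM F P θ)
    (n : ↥(P.subgroupOf S) × ↥S) : j2 hθ n = pair ⟨θ (n.1.1 : Ω), hθ.mem n.1.2⟩ n.2 := rfl

theorem FC_map_j (F : FusionSystem S) {P : Subgroup Ω} {θ : Ω → Ω} (hθ : IsFM F P θ)
    (U : Subgroup (↥(P.subgroupOf S) × ↥S)) : FC (PS F) (U.map (j1 P)) (U.map (j2 hθ)) := by
  show (PS F).IsConj (up (U.map (j1 P))) (up (U.map (j2 hθ)))
  rw [isConj_iff_isFM]
  have hL : up (U.map (j1 P)) ≤ P.prod S := by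
    intro x hx
    obtain ⟨hxS, n, _, hn⟩ := mem_up.mp hx
    have h1 : x = (((n.1.1 : ↥S) : Ω), ((n.2 : ↥S) : Ω)) := (congrArg Subtype.val hn).symm
    rw [h1]
    exact ⟨n.1.2, n.2.2⟩
  refine ⟨fun x => (θ x.1, x.2), isFM_PS_prod hθ (isFM_id F le_rfl) hL, fun y => ?_⟩
  constructor
  · intro hy
    obtain ⟨hyS, n, hn, hny⟩ := mem_up.mp hy
    refine ⟨((j1 P n : ↥(S.prod S)) : Ω × Ω), coe_mem_up.mpr (Subgroup.mem_map.mpr ⟨n, hn, rfl⟩), ?_⟩
    exact congrArg Subtype.val hny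
  · rintro ⟨x, hx, rfl⟩
    obtain ⟨hxS, n, hn, hnx⟩ := mem_up.mp hx
    have h1 : x = ((j1 P n : ↥(S.prod S)) : Ω × Ω) := (congrArg Subtype.val hnx).symm
    rw [h1]
    exact coe_mem_up.mpr (Subgroup.mem_map.mpr ⟨n, hn, rfl⟩)

attribute [local instance] Fintype.ofFinite in
/-- **Existence of a characteristic biset.** -/
theorem exists_char_biset {p : ℕ} [Fact p.Prime] (hS : IsPGroup p S) (F : FusionSystem S)
    (hF : F.IsSaturated p) :
    ∃ (X : Type u) (_ : MulAction ↥(S.prod S) X) (_ : Finite X),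
      (∀ x : X, IsGr F (stabilizer ↥(S.prod S) x)) ∧
      (∀ (P : Subgroup Ω) (θ : Ω → Ω) (hθ : IsFM F P θ), ∃ γ : X ≃ X,
        ∀ (a b : ↥S) (ha : (a : Ω) ∈ P) (x : X),
          γ (pair a b • x) = pair ⟨θ a, hθ.mem ha⟩ b • γ x) ∧
      ∃ n : ℕ, Nat.card X = Nat.card S * n ∧ ¬ p ∣ n := by
  obtain ⟨c, hc1, hc2, hc3⟩ := exists_stable hS F hF
  refine ⟨XS c, inferInstance, inferInstance, ?_, ?_, exists_card hS F hF c hc1 hc3⟩
  · intro x
    obtain ⟨E, g, hE, hst⟩ := stabilizer_XS c x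
    rw [hst]
    exact (isGr_of_FC F (hc1 E hE) (FC_cj (PS F) E g)).1
  · intro P θ hθ
    have hmk : ∀ U : Subgroup (↥(P.subgroupOf S) × ↥S),
        @mk _ _ U (XS c) (MulAction.compHom (XS c) (j1 P)) =
          @mk _ _ U (XS c) (MulAction.compHom (XS c) (j2 hθ)) := by
      intro U
      rw [mk_compHom, mk_compHom, ← mc_eq_mk_XS, ← mc_eq_mk_XS]
      exact hc2 _ _ (FC_map_j F hθ U)
    obtain ⟨γ, hγ⟩ := @exists_equivariant_equiv (↥(P.subgroupOf S) × ↥S) _ _ _ (XS c) (XS c)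
      (MulAction.compHom (XS c) (j1 P)) (MulAction.compHom (XS c) (j2 hθ)) _ _ rfl hmk
    refine ⟨γ, fun a b ha x => ?_⟩
    exact hγ (⟨a, ha⟩, b) x

end Biset

end Cfsg.Agent.Lib.Helper27.BS
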