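import Mathlib

/-!
# The determinant of an equivariant permutation of a free `R`-set (helper27)

For a finite set `X` with a free action of a group `R`, a homomorphism `π : R →* A` into a commutative group, and a
permutation `g` of `X` commuting with the action, `det π g ∈ A` is the product over the `R`-orbits `o` of `π (c o)`, where
`g (σ o) = c o • σ (g o)` for a fixed section `σ` of the orbit map.  It is multiplicative (`det_mul`), hence invariant
under conjugation, and can be computed from an equivariant function `f : X → A` (`det_eq_pow`).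
-/

set_option autoImplicit false

namespace Cfsg.Agent.Lib.Helper27.BS

open MulAction

section Det

variable {R : Type*} [Group R] {X : Type*} [MulAction R X] {A : Type*} [CommGroup A]

/-- `g` commutes with the action of `R` -/
def REq (R : Type*) [Group R] {X : Type*} [MulAction R X] (g : Equiv.Perm X) : Prop :=
  ∀ (b : R) (x : X), g (b • x) = b • g x

theorem REq.one : REq R (1 : Equiv.Perm X) := fun _ _ => rfl

theorem REq.mul {g h : Equiv.Perm X} (hg : REq R g) (hh : REq R h) : REq R (g * h) := fun b x => by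
  rw [Equiv.Perm.mul_apply, Equiv.Perm.mul_apply, hh, hg]

theorem REq.inv {g : Equiv.Perm X} (hg : REq R g) : REq R g⁻¹ := fun b x => by
  apply g.injective
  have h1 : ∀ y : X, g (g⁻¹ y) = y := fun y => g.apply_symm_apply y
  rw [hg, h1, h1]

/-- the orbits -/
abbrev Orb (R : Type*) [Group R] (X : Type*) [MulAction R X] : Type _ := orbitRel.Quotient R X

/-- the section -/
noncomputable def sec (o : Orb R X) : X := Quotient.out o

theorem mk_sec (o : Orb R X) : (Quotient.mk'' (sec o) : Orb R X) = o := Quotient.out_eq' o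

theorem exists_smul_sec (x : X) : ∃ b : R, x = b • sec (Quotient.mk'' x : Orb R X) := by
  have h : (Quotient.mk'' (sec (Quotient.mk'' x : Orb R X)) : Orb R X) = Quotient.mk'' x := mk_sec _
  have h2 := Quotient.exact' h
  obtain ⟨b, hb⟩ := h2
  exact ⟨b⁻¹, by rw [← hb, inv_smul_smul]⟩

/-- the induced map on orbits -/
noncomputable def gbar (g : Equiv.Perm X) (o : Orb R X) : Orb R X := Quotient.mk'' (g (sec o))

theorem gbar_mk {g : Equiv.Perm X} (hg : REq R g) (x : X) :
    gbar g (Quotient.mk'' x : Orb R X) = Quotient.mk'' (g x) := by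
  obtain ⟨b, hb⟩ := exists_smul_sec (R := R) x
  unfold gbar
  apply Quotient.sound'
  show g (sec _) ∈ orbit R (g x)
  refine ⟨b⁻¹, ?_⟩
  show b⁻¹ • g x = g (sec _)
  conv_lhs => rw [hb, hg, inv_smul_smul]

theorem gbar_mul {g h : Equiv.Perm X} (hg : REq R g) (hh : REq R h) (o : Orb R X) :
    gbar (g * h) o = gbar g (gbar h o) := by
  have h1 : gbar (g * h) o = (Quotient.mk'' (g (h (sec o))) : Orb R X) := rfl
  have h2 : gbar h o = (Quotient.mk'' (h (sec o)) : Orb R X) := rfl
  rw [h1, h2, gbar_mk hg]

theorem gbar_one (o : Orb R X) : gbar (1 : Equiv.Perm X) o = o := mk_sec o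

/-- the induced permutation of the orbits -/
noncomputable def gbarEquiv {g : Equiv.Perm X} (hg : REq R g) : Orb R X ≃ Orb R X where
  toFun := gbar g
  invFun := gbar g⁻¹
  left_inv o := by rw [← gbar_mul hg.inv hg, inv_mul_cancel, gbar_one]
  right_inv o := by rw [← gbar_mul hg hg.inv, mul_inv_cancel, gbar_one]

theorem exists_cg (g : Equiv.Perm X) (o : Orb R X) : ∃ b : R, g (sec o) = b • sec (gbar g o) :=
  exists_smul_sec (g (sec o))

/-- the cocycle -/
noncomputable def cg (g : Equiv.Perm X) (o : Orb R X) : R := Classical.choose (exists_cg g o)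

theorem cg_spec (g : Equiv.Perm X) (o : Orb R X) : g (sec o) = cg g o • sec (gbar g o) :=
  Classical.choose_spec (exists_cg g o)

/-- the determinant -/
noncomputable def det [Fintype (Orb R X)] (π : R →* A) (g : Equiv.Perm X) : A := ∏ o : Orb R X, π (cg g o)

variable (hfree : ∀ (b : R) (x : X), b • x = x → b = 1)

include hfree in
theorem cg_mul {g h : Equiv.Perm X} (hg : REq R g) (hh : REq R h) (o : Orb R X) :
    cg (g * h) o = cg h o * cg g (gbar h o) := by
  have h1 : (g * h) (sec o) = (cg h o * cg g (gbar h o)) • sec (gbar (g * h) o) := by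
    rw [Equiv.Perm.mul_apply, cg_spec h o, hg, cg_spec g (gbar h o), gbar_mul hg hh, mul_smul]
  have h2 := cg_spec (g * h) o
  rw [h1] at h2
  have h3 : ((cg (g * h) o)⁻¹ * (cg h o * cg g (gbar h o))) • sec (gbar (g * h) o) = sec (gbar (g * h) o) := by
    rw [mul_smul, h2, inv_smul_smul]
  have h4 := hfree _ _ h3
  exact (inv_mul_eq_one.mp h4)

include hfree in
theorem det_mul [Fintype (Orb R X)] (π : R →* A) {g h : Equiv.Perm X} (hg : REq R g) (hh : REq R h) :
    det π (g * h) = det π g * det π h := by
  unfold det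
  have h1 : ∀ o : Orb R X, π (cg (g * h) o) = π (cg h o) * π (cg g (gbar h o)) := fun o => by
    rw [cg_mul hfree hg hh, map_mul]
  rw [Finset.prod_congr rfl (fun o _ => h1 o), Finset.prod_mul_distrib, mul_comm]
  congr 1
  exact Equiv.prod_comp (gbarEquiv hh) (fun o => π (cg g o))

include hfree in
theorem det_one [Fintype (Orb R X)] (π : R →* A) : det π (1 : Equiv.Perm X) = 1 := by
  have h := det_mul hfree π (REq.one (R := R) (X := X)) (REq.one (R := R) (X := X))
  rw [mul_one] at h
  exact (mul_eq_left (a := det π (1 : Equiv.Perm X))).mp h.symm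

include hfree in
theorem det_conj [Fintype (Orb R X)] (π : R →* A) {g γ : Equiv.Perm X} (hg : REq R g) (hγ : REq R γ) :
    det π (γ * g * γ⁻¹) = det π g := by
  rw [det_mul hfree π (hγ.mul hg) hγ.inv, det_mul hfree π hγ hg]
  have h := det_mul hfree π hγ hγ.inv
  rw [mul_inv_cancel, det_one hfree] at h
  calc det π γ * det π g * det π γ⁻¹ = det π g * (det π γ * det π γ⁻¹) := by
        rw [mul_comm (det π γ) (det π g), mul_assoc]
    _ = det π g := by rw [← h, mul_one]

/-- computing the determinant from an equivariant function -/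
theorem det_eq_pow [Fintype (Orb R X)] (π : R →* A) (g : Equiv.Perm X) (hg : REq R g) (f : X → A)
    (hf : ∀ (b : R) (x : X), f (b • x) = π b * f x) (a₀ : A) (hfg : ∀ x, f (g x) = a₀ * f x) :
    det π g = a₀ ^ Fintype.card (Orb R X) := by
  unfold det
  have h1 : ∀ o : Orb R X, π (cg g o) = a₀ * (f (sec o) * (f (sec (gbar g o)))⁻¹) := by
    intro o
    have h2 := congrArg f (cg_spec g o)
    rw [hfg, hf] at h2
    have h5 : π (cg g o) = a₀ * f (sec o) * (f (sec (gbar g o)))⁻¹ := eq_mul_inv_of_mul_eq h2.symm
    rw [h5, mul_assoc]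
  rw [Finset.prod_congr rfl (fun o _ => h1 o), Finset.prod_mul_distrib, Finset.prod_const,
    Finset.prod_mul_distrib, Finset.prod_inv_distrib]
  have h3 : ∏ o : Orb R X, f (sec (gbar g o)) = ∏ o : Orb R X, f (sec o) :=
    Equiv.prod_comp (gbarEquiv hg) (fun o => f (sec o))
  rw [h3, mul_inv_cancel, mul_one, Finset.card_univ]

end Det

end Cfsg.Agent.Lib.Helper27.BS
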