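import Cfsg.Agent.Lib.Helper27.BS10
import Cfsg.Agent.Lib.Helper27.BS11

/-!
# The transfer of a saturated fusion system (helper27)

From a characteristic biset `X` of `F` and a homomorphism `π : S →* A` into a commutative group we get the transfer
`trf π : S →* A`, `trf π a = det π (left multiplication by a)`; it is constant on `F`-conjugacy classes (`trf_stable`),
and on an element `z` that is fixed by every map of `F` it is `π z ^ (-n)` with `n = |X| / |S|` (`trf_central`).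
-/

set_option autoImplicit false

namespace Cfsg.Agent.Lib.Helper27.BS

open Cfsg Cfsg.FusionSystem Cfsg.Agent.Lib.Helper26 Cfsg.Agent.Lib.Helper27.FM
open Cfsg.Agent.Lib.Helper27.KL MulAction

universe u

section General

/-- a free action: `|X| = |X/R| |R|` -/
theorem card_eq_card_orb_mul {R : Type*} [Group R] {X : Type*} [MulAction R X]
    (hfree : ∀ (b : R) (x : X), b • x = x → b = 1) : Nat.card X = Nat.card (Orb R X) * Nat.card R := by
  have hmk : ∀ (b : R) (x : X), (Quotient.mk'' (b • x) : Orb R X) = Quotient.mk'' x := fun b x =>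
    Quotient.sound' (mem_orbit x b)
  have hinj : Function.Injective (fun q : Orb R X × R => q.2 • sec q.1) := by
    rintro ⟨o, b⟩ ⟨o', b'⟩ h
    have h0 : b • sec o = b' • sec o' := h
    have h1 : o = o' := by
      rw [← mk_sec o, ← mk_sec o', ← hmk b (sec o), ← hmk b' (sec o'), h0]
    subst h1
    have h2 : (b'⁻¹ * b) • sec o = sec o := by rw [mul_smul, h0, inv_smul_smul]
    have h3 := hfree _ _ h2
    have h4 : b = b' := by
      have := inv_mul_eq_one.mp h3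
      exact this.symm
    rw [h4]
  have hsurj : Function.Surjective (fun q : Orb R X × R => q.2 • sec q.1) := by
    intro x
    obtain ⟨b, hb⟩ := exists_smul_sec (R := R) x
    exact ⟨(Quotient.mk'' x, b), hb.symm⟩
  rw [← Nat.card_congr (Equiv.ofBijective _ ⟨hinj, hsurj⟩), Nat.card_prod]

/-- an equivariant function for a character that is trivial on the point stabilizers -/
theorem exists_equivariant_fun {H : Type*} [Group H] {X : Type*} [MulAction H X] {A : Type*} [CommGroup A]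
    (χ : H →* A) (hχ : ∀ (x : X) (h : H), h • x = x → χ h = 1) :
    ∃ f : X → A, ∀ (h : H) (x : X), f (h • x) = χ h * f x := by
  have hk : ∀ x : X, ∃ k : H, x = k • sec (Quotient.mk'' x : Orb H X) := fun x => exists_smul_sec x
  choose k hk using hk
  refine ⟨fun x => χ (k x), fun h x => ?_⟩
  show χ (k (h • x)) = χ h * χ (k x)
  have h1 : (Quotient.mk'' (h • x) : Orb H X) = Quotient.mk'' x := Quotient.sound' (mem_orbit x h)
  have h2 := hk (h • x)
  rw [h1] at h2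
  obtain ⟨kk, hkk⟩ : ∃ kk : H, kk = k (h • x) := ⟨_, rfl⟩
  rw [← hkk] at h2 ⊢
  have h3 : (kk⁻¹ * h * k x) • sec (Quotient.mk'' x : Orb H X) = sec (Quotient.mk'' x : Orb H X) := by
    rw [mul_smul, ← hk x, mul_smul, h2, inv_smul_smul]
  have h4 := hχ _ _ h3
  rw [map_mul, map_mul, map_inv] at h4
  show χ kk = χ h * χ (k x)
  have h5 : χ kk = χ kk * ((χ kk)⁻¹ * χ h * χ (k x)) := by rw [h4, mul_one]
  rw [h5]
  group

end General

section Transfer

variable {Ω : Type u} [Group Ω] {S : Subgroup Ω}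

/-- the right factor -/
def rtHom : ↥S →* ↥(S.prod S) := MonoidHom.mk' (fun b => pair 1 b) (fun a b => by apply ext_c <;> simp)

/-- the left factor -/
def lfHom : ↥S →* ↥(S.prod S) := MonoidHom.mk' (fun a => pair a 1) (fun a b => by apply ext_c <;> simp)

theorem rtHom_apply (b : ↥S) : rtHom b = pair 1 b := rfl
theorem lfHom_apply (a : ↥S) : lfHom a = pair a 1 := rfl

theorem pair_eq_mul (a b : ↥S) : pair a b = pair a 1 * pair 1 b := by apply ext_c <;> simp

theorem pair_comm (a b : ↥S) : pair a 1 * pair 1 b = pair 1 b * pair a 1 := by apply ext_c <;> simp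

variable {X : Type*} [MulAction ↥(S.prod S) X]

/-- left multiplication -/
def lam (X : Type*) [MulAction ↥(S.prod S) X] : ↥S →* Equiv.Perm X := (MulAction.toPermHom ↥(S.prod S) X).comp lfHom

theorem lam_apply (a : ↥S) (x : X) : lam X a x = pair a 1 • x := rfl

variable [MulAction ↥S X]

theorem lam_rEq (hcomp : ∀ (b : ↥S) (x : X), b • x = pair 1 b • x) (a : ↥S) : REq ↥S (lam X a) := fun b x => by
  rw [lam_apply, lam_apply, hcomp, hcomp, smul_smul, smul_smul, pair_comm]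

theorem rfree (hcomp : ∀ (b : ↥S) (x : X), b • x = pair 1 b • x) {F : FusionSystem S}
    (hst : ∀ x : X, IsGr F (stabilizer ↥(S.prod S) x)) (b : ↥S) (x : X)
    (h : b • x = x) : b = 1 := by
  rw [hcomp] at h
  have h1 : pair 1 b ∈ stabilizer ↥(S.prod S) x := h
  obtain ⟨P, θ, hθ, hg⟩ := hst x
  have h2 : ((pair 1 b : ↥(S.prod S)) : Ω × Ω) ∈ up (stabilizer ↥(S.prod S) x) := coe_mem_up.mpr h1
  obtain ⟨h3, h4⟩ := (hg _).mp h2
  have h5 : θ 1 = (b : Ω) := h4
  rw [hθ.map_one] at h5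
  exact Subtype.ext h5.symm

variable {A : Type*} [CommGroup A]

/-- the transfer, as a function -/
noncomputable def trfFun (X : Type*) [MulAction ↥(S.prod S) X] [MulAction ↥S X] [Finite X] (π : ↥S →* A)
    (a : ↥S) : A :=
  @det ↥S _ X _ A _ (Fintype.ofFinite _) π (lam X a)

theorem trfFun_mul (hcomp : ∀ (b : ↥S) (x : X), b • x = pair 1 b • x) {F : FusionSystem S}
    (hst : ∀ x : X, IsGr F (stabilizer ↥(S.prod S) x)) [Finite X] (π : ↥S →* A) (a b : ↥S) :
    trfFun X π (a * b) = trfFun X π a * trfFun X π b := by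
  unfold trfFun
  rw [map_mul]
  exact @det_mul ↥S _ X _ A _ (rfree hcomp hst) (Fintype.ofFinite _) π _ _ (lam_rEq hcomp a) (lam_rEq hcomp b)

/-- the transfer -/
noncomputable def trf (hcomp : ∀ (b : ↥S) (x : X), b • x = pair 1 b • x) {F : FusionSystem S}
    (hst : ∀ x : X, IsGr F (stabilizer ↥(S.prod S) x)) [Finite X] (π : ↥S →* A) : ↥S →* A :=
  MonoidHom.mk' (trfFun X π) (trfFun_mul hcomp hst π)

theorem trf_apply (hcomp : ∀ (b : ↥S) (x : X), b • x = pair 1 b • x) {F : FusionSystem S}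
    (hst : ∀ x : X, IsGr F (stabilizer ↥(S.prod S) x)) [Finite X] (π : ↥S →* A) (a : ↥S) :
    trf hcomp hst π a = trfFun X π a := rfl

/-- the transfer is constant on the classes of the system -/
theorem trfFun_stable (hcomp : ∀ (b : ↥S) (x : X), b • x = pair 1 b • x) {F : FusionSystem S}
    (hst : ∀ x : X, IsGr F (stabilizer ↥(S.prod S) x))
    (htw : ∀ (P : Subgroup Ω) (θ : Ω → Ω) (hθ : IsFM F P θ), ∃ γ : X ≃ X,
        ∀ (a b : ↥S) (ha : (a : Ω) ∈ P) (x : X), γ (pair a b • x) = pair ⟨θ a, hθ.mem ha⟩ b • γ x)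
    [Finite X] (π : ↥S →* A) {P : Subgroup Ω} {θ : Ω → Ω} (hθ : IsFM F P θ) (a : ↥S) (ha : (a : Ω) ∈ P) :
    trfFun X π ⟨θ a, hθ.mem ha⟩ = trfFun X π a := by
  obtain ⟨γ, hγ⟩ := htw P θ hθ
  have hγR : REq ↥S (γ : Equiv.Perm X) := fun b x => by
    rw [hcomp, hcomp]
    have h0 := hγ 1 b P.one_mem x
    have h1 : (⟨θ ((1 : ↥S) : Ω), hθ.mem P.one_mem⟩ : ↥S) = 1 := Subtype.ext hθ.map_one
    rw [h1] at h0
    exact h0
  have hconj : lam X ⟨θ a, hθ.mem ha⟩ = (γ : Equiv.Perm X) * lam X a * (γ : Equiv.Perm X)⁻¹ := by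
    ext x
    have h2 : ∀ y : X, γ ((γ : Equiv.Perm X)⁻¹ y) = y := fun y => γ.apply_symm_apply y
    rw [Equiv.Perm.mul_apply, Equiv.Perm.mul_apply, lam_apply, lam_apply, hγ a 1 ha, h2]
  unfold trfFun
  rw [hconj]
  exact @det_conj ↥S _ X _ A _ (rfree hcomp hst) (Fintype.ofFinite _) π _ _ (lam_rEq hcomp a) hγR

/-- the transfer on a subgroup all of whose elements are fixed by all maps of the system -/
theorem trfFun_central (hcomp : ∀ (b : ↥S) (x : X), b • x = pair 1 b • x) {F : FusionSystem S}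
    (hst : ∀ x : X, IsGr F (stabilizer ↥(S.prod S) x)) [Finite X] (π : ↥S →* A) (Z : Subgroup ↥S)
    (hZ : ∀ (P : Subgroup Ω) (θ : Ω → Ω), IsFM F P θ → ∀ w : ↥S, w ∈ Z → (w : Ω) ∈ P → θ w = w)
    (z : ↥S) (hz : z ∈ Z) : trfFun X π z = (π z)⁻¹ ^ Nat.card (Orb ↥S X) := by
  -- the group `Z × S` acts on `X`
  let j : ↥Z × ↥S →* ↥(S.prod S) := MonoidHom.mk' (fun n => pair n.1.1 n.2) (fun a b => rfl)
  letI : MulAction (↥Z × ↥S) X := MulAction.compHom X j
  have hj : ∀ (n : ↥Z × ↥S) (x : X), n • x = pair n.1.1 n.2 • x := fun _ _ => rfl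
  let χ : ↥Z × ↥S →* A :=
    ((π.comp Z.subtype).comp (MonoidHom.fst ↥Z ↥S))⁻¹ * π.comp (MonoidHom.snd ↥Z ↥S)
  have hχ : ∀ n : ↥Z × ↥S, χ n = (π n.1.1)⁻¹ * π n.2 := fun n => rfl
  have hχ1 : ∀ (x : X) (n : ↥Z × ↥S), n • x = x → χ n = 1 := by
    intro x n hn
    rw [hj] at hn
    have h1 : pair n.1.1 n.2 ∈ stabilizer ↥(S.prod S) x := hn
    obtain ⟨P, θ, hθ, hg⟩ := hst x
    have h2 : ((pair n.1.1 n.2 : ↥(S.prod S)) : Ω × Ω) ∈ up (stabilizer ↥(S.prod S) x) := coe_mem_up.mpr h1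
    obtain ⟨h3, h4⟩ := (hg _).mp h2
    have h5 : θ ((n.1.1 : ↥S) : Ω) = ((n.2 : ↥S) : Ω) := h4
    have h6 : ((n.1.1 : ↥S) : Ω) ∈ P := h3
    rw [hZ P θ hθ n.1.1 n.1.2 h6] at h5
    have h7 : n.2 = n.1.1 := Subtype.ext h5.symm
    rw [hχ, h7, inv_mul_cancel]
  obtain ⟨f, hf⟩ := exists_equivariant_fun χ hχ1
  have hf1 : ∀ (b : ↥S) (x : X), f (b • x) = π b * f x := by
    intro b x
    have h1 := hf ((1 : ↥Z), b) x
    rw [hj, hχ] at h1
    rw [hcomp]
    simpa using h1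
  have hf2 : ∀ x : X, f (lam X z x) = (π z)⁻¹ * f x := by
    intro x
    have h1 := hf ((⟨z, hz⟩ : ↥Z), (1 : ↥S)) x
    rw [hj, hχ] at h1
    rw [lam_apply]
    simpa using h1
  unfold trfFun
  rw [@det_eq_pow ↥S _ X _ A _ (Fintype.ofFinite _) π (lam X z) (lam_rEq hcomp z) f hf1 _ hf2,
    @Nat.card_eq_fintype_card _ (Fintype.ofFinite _)]

/-- a homomorphism constant on the classes of the system kills the focal subgroup -/
theorem focal_le_ker_of_stable (F : FusionSystem S) (T : ↥S →* A)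
    (hT : ∀ (P : Subgroup Ω) (θ : Ω → Ω) (hθ : IsFM F P θ) (a : ↥S) (ha : (a : Ω) ∈ P),
      T ⟨θ a, hθ.mem ha⟩ = T a) :
    F.focalSubgroup ≤ T.ker.map S.subtype := by
  unfold FusionSystem.focalSubgroup
  rw [Subgroup.closure_le]
  rintro y ⟨P, φ, x, hφ, rfl⟩
  have hPS : P ≤ S := hom_le F hφ
  have hx : (x : Ω) ∈ S := hPS x.2
  have hφx : φ x ∈ S := hom_apply_mem F hφ x
  refine ⟨(⟨x, hx⟩ : ↥S)⁻¹ * ⟨φ x, hφx⟩, ?_, rfl⟩
  rw [SetLike.mem_coe, MonoidHom.mem_ker, map_mul, map_inv]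
  have h1 := hT P (ofHom φ) (isFM_ofHom hφ) ⟨x, hx⟩ x.2
  have h2 : (⟨ofHom φ ((⟨x, hx⟩ : ↥S) : Ω), (isFM_ofHom hφ).mem x.2⟩ : ↥S) = ⟨φ x, hφx⟩ :=
    Subtype.ext (ofHom_apply φ x)
  rw [h2] at h1
  rw [h1, inv_mul_cancel]

end Transfer

end Cfsg.Agent.Lib.Helper27.BS
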