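import Cfsg.Agent.Lib.Helper27.BS12

/-!
# Counting lemmas for free actions and the determinant of an involution (helper27)
-/

set_option autoImplicit false

namespace Cfsg.Agent.Lib.Helper27.BS

open MulAction

section General

variable {R : Type*} [Group R] {X : Type*} [MulAction R X]

/-- a free action, an invariant subset: `|Q| = |Q/R| |R|` -/
theorem card_subtype_eq_card_orb_mul (hfree : ∀ (b : R) (x : X), b • x = x → b = 1) (Q : X → Prop)
    (hQ : ∀ (b : R) (x : X), Q x → Q (b • x)) :
    Nat.card {x : X // Q x} = Nat.card {o : Orb R X // Q (sec o)} * Nat.card R := by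
  have hmk : ∀ (b : R) (x : X), (Quotient.mk'' (b • x) : Orb R X) = Quotient.mk'' x := fun b x =>
    Quotient.sound' (mem_orbit x b)
  let e : {o : Orb R X // Q (sec o)} × R → {x : X // Q x} := fun q => ⟨q.2 • sec q.1.1, hQ _ _ q.1.2⟩
  have hinj : Function.Injective e := by
    rintro ⟨⟨o, ho⟩, b⟩ ⟨⟨o', ho'⟩, b'⟩ h
    have h0 : b • sec o = b' • sec o' := congrArg Subtype.val h
    have h1 : o = o' := by
      rw [← mk_sec o, ← mk_sec o', ← hmk b (sec o), ← hmk b' (sec o'), h0]
    subst h1
    have h2 : (b'⁻¹ * b) • sec o = sec o := by rw [mul_smul, h0, inv_smul_smul]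
    have h3 := hfree _ _ h2
    have h4 : b = b' := (inv_mul_eq_one.mp h3).symm
    rw [h4]
  have hsurj : Function.Surjective e := by
    rintro ⟨x, hx⟩
    obtain ⟨b, hb⟩ := exists_smul_sec (R := R) x
    have h1 : Q (sec (Quotient.mk'' x : Orb R X)) := by
      have h2 : sec (Quotient.mk'' x : Orb R X) = b⁻¹ • x := by
        conv_rhs => rw [hb]
        rw [inv_smul_smul]
      rw [h2]
      exact hQ _ _ hx
    exact ⟨(⟨Quotient.mk'' x, h1⟩, b), Subtype.ext hb.symm⟩
  rw [← Nat.card_congr (Equiv.ofBijective e ⟨hinj, hsurj⟩), Nat.card_prod]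

/-- if `d` divides the size of every orbit then it divides the size of the set -/
theorem dvd_card_of_dvd_orbit {G : Type*} [Group G] {Y : Type*} [MulAction G Y] [Finite Y] (d : ℕ)
    (h : ∀ y : Y, d ∣ Nat.card (orbit G y)) : d ∣ Nat.card Y := by
  classical
  haveI : Fintype (orbitRel.Quotient G Y) := Fintype.ofFinite _
  rw [Nat.card_congr (selfEquivSigmaOrbits G Y), Nat.card_sigma]
  exact Finset.dvd_sum (fun ω _ => h _)

theorem two_mul_dvd_of_lt {a b : ℕ} (ha : ∃ j, a = 2 ^ j) (hb : ∃ k, b = 2 ^ k) (h : a < b) : 2 * a ∣ b := by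
  obtain ⟨j, rfl⟩ := ha
  obtain ⟨k, rfl⟩ := hb
  have h1 : j < k := (Nat.pow_lt_pow_iff_right (by norm_num)).mp h
  have h2 : 2 * 2 ^ j = 2 ^ (j + 1) := by rw [pow_succ, mul_comm]
  rw [h2]
  exact pow_dvd_pow 2 h1

/-- a `2`-group acting with all point stabilizers of order less than `c` (a power of `2`): `2 |G| / c` divides the size
of the set -/
theorem dvd_card_of_stabilizer_lt {G : Type*} [Group G] [Finite G] (hG : IsPGroup 2 G) {Y : Type*} [MulAction G Y]
    [Finite Y] (c m : ℕ) (hc : ∃ k, c = 2 ^ k) (hcm : Nat.card G = c * m)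
    (h : ∀ y : Y, Nat.card (stabilizer G y) < c) : 2 * m ∣ Nat.card Y := by
  classical
  apply dvd_card_of_dvd_orbit (G := G)
  intro y
  haveI : Fintype G := Fintype.ofFinite _
  haveI : Fintype (orbit G y) := Fintype.ofFinite _
  haveI : Fintype (stabilizer G y) := Fintype.ofFinite _
  have h1 := card_orbit_mul_card_stabilizer_eq_card_group G y
  rw [← Nat.card_eq_fintype_card, ← Nat.card_eq_fintype_card, ← Nat.card_eq_fintype_card, hcm] at h1
  have h2 : ∃ j, Nat.card (stabilizer G y) = 2 ^ j := (IsPGroup.iff_card).mp (hG.to_subgroup _)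
  obtain ⟨q, hq⟩ := two_mul_dvd_of_lt h2 hc (h y)
  have hpos : 0 < Nat.card (stabilizer G y) := Nat.card_pos
  have h3 : Nat.card (orbit G y) * Nat.card (stabilizer G y) = (2 * m * q) * Nat.card (stabilizer G y) := by
    rw [h1, hq]; ring
  have h4 := Nat.eq_of_mul_eq_mul_right hpos h3
  exact ⟨q, h4⟩

end General

section Det

variable {R : Type*} [Group R] {X : Type*} [MulAction R X]

variable (hfree : ∀ (b : R) (x : X), b • x = x → b = 1)

include hfree in
theorem cg_one (o : Orb R X) : cg (1 : Equiv.Perm X) o = 1 := by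
  have h1 := cg_spec (R := R) (1 : Equiv.Perm X) o
  rw [gbar_one, Equiv.Perm.one_apply] at h1
  exact hfree _ _ h1.symm

include hfree in
theorem cg_mul_cg_of_sq {g : Equiv.Perm X} (hg : REq R g) (hgg : g * g = 1) (o : Orb R X) :
    cg g o * cg g (gbar g o) = 1 := by
  rw [← cg_mul hfree hg hg, hgg, cg_one hfree]

theorem gbar_gbar_of_sq {g : Equiv.Perm X} (hg : REq R g) (hgg : g * g = 1) (o : Orb R X) :
    gbar g (gbar g o) = o := by
  rw [← gbar_mul hg hg, hgg, gbar_one]

open Classical in
include hfree in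
/-- the product over the orbits that are moved is trivial -/
theorem prod_moved_of_sq {A : Type*} [CommGroup A] [Fintype (Orb R X)] (π : R →* A) {g : Equiv.Perm X}
    (hg : REq R g) (hgg : g * g = 1) :
    ∏ o ∈ Finset.univ.filter (fun o : Orb R X => ¬ gbar g o = o), π (cg g o) = 1 := by
  refine Finset.prod_involution (fun o _ => gbar g o) ?_ ?_ ?_ ?_
  · intro o _
    rw [← map_mul, cg_mul_cg_of_sq hfree hg hgg, map_one]
  · intro o ho _
    exact (Finset.mem_filter.mp ho).2
  · intro o ho
    rw [Finset.mem_filter] at ho ⊢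
    refine ⟨Finset.mem_univ _, fun h => ho.2 ?_⟩
    have h1 := congrArg (gbar g) h
    rw [gbar_gbar_of_sq hg hgg, gbar_gbar_of_sq hg hgg] at h1
    exact h1
  · intro o _
    exact gbar_gbar_of_sq hg hgg o

open Classical in
include hfree in
/-- the number of moved orbits is even -/
theorem even_card_moved_of_sq [Fintype (Orb R X)] {g : Equiv.Perm X}
    (hg : REq R g) (hgg : g * g = 1) :
    Even (Finset.univ.filter (fun o : Orb R X => ¬ gbar g o = o)).card := by
  have h1 : ∏ o ∈ Finset.univ.filter (fun o : Orb R X => ¬ gbar g o = o), (-1 : ℤˣ) = 1 := by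
    refine Finset.prod_involution (fun o _ => gbar g o) ?_ ?_ ?_ ?_
    · intro o _
      decide
    · intro o ho _
      exact (Finset.mem_filter.mp ho).2
    · intro o ho
      rw [Finset.mem_filter] at ho ⊢
      refine ⟨Finset.mem_univ _, fun h => ho.2 ?_⟩
      have h1 := congrArg (gbar g) h
      rw [gbar_gbar_of_sq hg hgg, gbar_gbar_of_sq hg hgg] at h1
      exact h1
    · intro o _
      exact gbar_gbar_of_sq hg hgg o
  rw [Finset.prod_const] at h1
  by_contra hne
  rw [Nat.not_even_iff_odd] at hne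
  rw [hne.neg_one_pow] at h1
  exact absurd h1 (by decide)

open Classical in
include hfree in
/-- the determinant of an involution with values in `{±1}` -/
theorem det_units_of_sq [Fintype (Orb R X)] (π : R →* ℤˣ) {g : Equiv.Perm X} (hg : REq R g) (hgg : g * g = 1) :
    det π g = (-1) ^ (Finset.univ.filter (fun o : Orb R X => gbar g o = o ∧ π (cg g o) ≠ 1)).card := by
  unfold det
  rw [← Finset.prod_filter_mul_prod_filter_not Finset.univ (fun o : Orb R X => gbar g o = o),
    prod_moved_of_sq hfree π hg hgg, mul_one]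
  have h1 : ∀ o : Orb R X, π (cg g o) = if π (cg g o) ≠ 1 then (-1 : ℤˣ) else 1 := by
    intro o
    rcases Int.units_eq_one_or (π (cg g o)) with h | h
    · rw [h]; simp
    · rw [h]; simp
  rw [Finset.prod_congr rfl (fun o _ => h1 o), Finset.prod_ite, Finset.prod_const, Finset.prod_const_one, mul_one,
    Finset.filter_filter]

end Det

end Cfsg.Agent.Lib.Helper27.BS
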