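import Cfsg.Agent.Lib.Helper27.BS14

/-!
# The transfer of an involution into a group of order two (helper27)

`trfFun_involution`: let `X` be a characteristic biset of `F` over the `2`-group `S`, `π : S →* ℤˣ` and `i` an involution
of `S` such that every `s ∈ ker π` with `i x = x s` for some `x ∈ X` has a smaller centralizer in `S` than `i`.  Then
the transfer of `i` is `-1`.
-/

set_option autoImplicit false

namespace Cfsg.Agent.Lib.Helper27.BS

open Cfsg Cfsg.FusionSystem Cfsg.Agent.Lib.Helper26 Cfsg.Agent.Lib.Helper27.FM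
open Cfsg.Agent.Lib.Helper27.KL MulAction

universe u

section Thompson

variable {Ω : Type u} [Group Ω] {S : Subgroup Ω}

variable {X : Type*} [MulAction ↥(S.prod S) X]

/-- the points on which `i` acts on the left like an element of `ker π` on the right -/
def QT (X : Type*) [MulAction ↥(S.prod S) X] (π : ↥S →* ℤˣ) (i : ↥S) (x : X) : Prop :=
  ∃ s : ↥S, π s = 1 ∧ pair i s • x = x

variable [MulAction ↥S X]

theorem eq_of_rsmul_eq {R : Type*} [Group R] {Y : Type*} [MulAction R Y]
    (hfree : ∀ (b : R) (x : Y), b • x = x → b = 1) {a b : R} {x : Y} (h : a • x = b • x) : a = b := by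
  have h1 : (b⁻¹ * a) • x = x := by rw [mul_smul, h, inv_smul_smul]
  have h2 := hfree _ _ h1
  exact (inv_mul_eq_one.mp h2).symm

theorem QT_rsmul (hcomp : ∀ (b : ↥S) (x : X), b • x = pair 1 b • x) (π : ↥S →* ℤˣ) (i : ↥S) (b : ↥S) (x : X)
    (h : QT X π i x) : QT X π i (b • x) := by
  obtain ⟨s, hs, hx⟩ := h
  refine ⟨b * s * b⁻¹, ?_, ?_⟩
  · rw [map_mul, map_mul, map_inv, hs, mul_one, mul_inv_cancel]
  · rw [hcomp, smul_smul]
    have h1 : pair i (b * s * b⁻¹) * pair 1 b = pair 1 b * pair i s := by apply ext_c <;> simp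
    rw [h1, mul_smul, hx]

theorem QT_sec_iff (hcomp : ∀ (b : ↥S) (x : X), b • x = pair 1 b • x)
    (hfree : ∀ (b : ↥S) (x : X), b • x = x → b = 1) (π : ↥S →* ℤˣ) (i : ↥S) (o : Orb ↥S X) :
    QT X π i (sec o) ↔ (gbar (lam X i) o = o ∧ π (cg (lam X i) o) = 1) := by
  constructor
  · rintro ⟨s, hs, hx⟩
    have h1 : lam X i (sec o) = s⁻¹ • sec o := by
      rw [lam_apply, hcomp]
      conv_rhs => rw [← hx]
      rw [smul_smul]
      congr 1
      apply ext_c <;> simp
    have hfix : gbar (lam X i) o = o := by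
      have h2 : gbar (lam X i) o = (Quotient.mk'' (lam X i (sec o)) : Orb ↥S X) := rfl
      rw [h2, h1]
      have h3 : (Quotient.mk'' (s⁻¹ • sec o) : Orb ↥S X) = Quotient.mk'' (sec o) :=
        Quotient.sound' (mem_orbit (sec o) s⁻¹)
      rw [h3, mk_sec]
    refine ⟨hfix, ?_⟩
    have h4 := cg_spec (R := ↥S) (lam X i) o
    rw [hfix, h1] at h4
    have h5 : s⁻¹ = cg (lam X i) o := eq_of_rsmul_eq hfree h4
    rw [← h5, map_inv, hs, inv_one]
  · rintro ⟨hfix, hπ⟩
    have h4 := cg_spec (R := ↥S) (lam X i) o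
    rw [hfix, lam_apply, hcomp] at h4
    refine ⟨(cg (lam X i) o)⁻¹, by rw [map_inv, hπ, inv_one], ?_⟩
    have h5 : pair i (cg (lam X i) o)⁻¹ = pair 1 (cg (lam X i) o)⁻¹ * pair i 1 := by apply ext_c <;> simp
    rw [h5, mul_smul, h4, smul_smul]
    have h6 : pair (1 : ↥S) (cg (lam X i) o)⁻¹ * pair 1 (cg (lam X i) o) = 1 := by apply ext_c <;> simp
    rw [h6, one_smul]

theorem two_mul_card_dvd_card_QT (hcomp : ∀ (b : ↥S) (x : X), b • x = pair 1 b • x) {F : FusionSystem S}
    (hst : ∀ x : X, IsGr F (stabilizer ↥(S.prod S) x)) [Finite X] [Finite S] (hS : IsPGroup 2 S)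
    (π : ↥S →* ℤˣ) (i : ↥S)
    (hlt : ∀ (s : ↥S) (x : X), pair i s • x = x → π s = 1 →
      Nat.card (Subgroup.centralizer ({s} : Set ↥S)) < Nat.card (Subgroup.centralizer ({i} : Set ↥S))) :
    2 * Nat.card ↥S ∣ Nat.card {x : X // QT X π i x} := by
  have hfree := rfree hcomp hst
  let C : Subgroup ↥S := Subgroup.centralizer ({i} : Set ↥S)
  let j' : ↥C × ↥S →* ↥(S.prod S) := MonoidHom.mk' (fun n => pair n.1.1 n.2) (fun _ _ => rfl)
  letI act : MulAction (↥C × ↥S) X := MulAction.compHom X j'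
  have hj : ∀ (n : ↥C × ↥S) (x : X), n • x = pair n.1.1 n.2 • x := fun _ _ => rfl
  let sub : SubMulAction (↥C × ↥S) X :=
    { carrier := {x | QT X π i x}
      smul_mem' := by
        rintro n x ⟨s, hs, hx⟩
        refine ⟨n.2 * s * n.2⁻¹, ?_, ?_⟩
        · rw [map_mul, map_mul, map_inv, hs, mul_one, mul_inv_cancel]
        · rw [hj, smul_smul]
          have hc : i * n.1.1 = n.1.1 * i := (Subgroup.mem_centralizer_iff.mp n.1.2) i rfl
          have h1 : pair i (n.2 * s * n.2⁻¹) * pair n.1.1 n.2 = pair n.1.1 n.2 * pair i s := by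
            apply ext_c
            · simp [hc]
            · simp
          rw [h1, mul_smul, hx] }
  have hGp : IsPGroup 2 (↥C × ↥S) := by
    obtain ⟨a, ha⟩ := (IsPGroup.iff_card).mp (hS.to_subgroup C)
    obtain ⟨b, hb⟩ := (IsPGroup.iff_card).mp hS
    exact IsPGroup.of_card (n := a + b) (by rw [Nat.card_prod, ha, hb, pow_add])
  have hc2 : ∃ k, Nat.card ↥C = 2 ^ k := (IsPGroup.iff_card).mp (hS.to_subgroup C)
  have hfin : Finite ↥sub := Subtype.finite
  have key := dvd_card_of_stabilizer_lt (G := ↥C × ↥S) hGp (Y := ↥sub) (Nat.card ↥C) (Nat.card ↥S) hc2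
    (Nat.card_prod _ _) ?_
  · exact key
  · intro y
    rw [SubMulAction.stabilizer_of_subMul]
    obtain ⟨s, hs, hx⟩ := y.2
    refine lt_of_le_of_lt ?_ (hlt s y.1 hx hs)
    have hmem : ∀ n : ↥(stabilizer (↥C × ↥S) (y : X)), (n : ↥C × ↥S).2 ∈ Subgroup.centralizer ({s} : Set ↥S) := by
      rintro ⟨n, hn⟩
      have hn' : pair n.1.1 n.2 • (y : X) = y := hn
      rw [Subgroup.mem_centralizer_iff]
      intro h0 hh
      have hh' : h0 = s := hh
      rw [hh']
      have hc : i * n.1.1 = n.1.1 * i := (Subgroup.mem_centralizer_iff.mp n.1.2) i rfl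
      have h1 : pair (n.1.1 * i) (n.2 * s) • (y : X) = y := by
        have : pair (n.1.1 * i) (n.2 * s) = pair n.1.1 n.2 * pair i s := by apply ext_c <;> simp
        rw [this, mul_smul, hx, hn']
      have h2 : pair (n.1.1 * i) (s * n.2) • (y : X) = y := by
        have : pair (n.1.1 * i) (s * n.2) = pair i s * pair n.1.1 n.2 := by
          apply ext_c
          · simp [hc]
          · simp
        rw [this, mul_smul, hn', hx]
      have h3 : (s * n.2) • (y : X) = (n.2 * s) • (y : X) := by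
        rw [hcomp, hcomp]
        have e1 : pair 1 (s * n.2) = (pair (n.1.1 * i) 1)⁻¹ * pair (n.1.1 * i) (s * n.2) := by
          apply ext_c <;> simp
        have e2 : pair 1 (n.2 * s) = (pair (n.1.1 * i) 1)⁻¹ * pair (n.1.1 * i) (n.2 * s) := by
          apply ext_c <;> simp
        rw [e1, e2, mul_smul, mul_smul, h1, h2]
      exact eq_of_rsmul_eq hfree h3
    let ψ : ↥(stabilizer (↥C × ↥S) (y : X)) → ↥(Subgroup.centralizer ({s} : Set ↥S)) :=
      fun n => ⟨(n : ↥C × ↥S).2, hmem n⟩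
    have hψ : Function.Injective ψ := by
      rintro ⟨n, hn⟩ ⟨n', hn'⟩ h
      have hb : n.2 = n'.2 := congrArg Subtype.val h
      have hn1 : pair n.1.1 n.2 • (y : X) = y := hn
      have hn2 : pair n'.1.1 n'.2 • (y : X) = y := hn'
      obtain ⟨P, θ, hθ, hgr⟩ := hst (y : X)
      have h1 : pair n.1.1 n.2 ∈ stabilizer ↥(S.prod S) (y : X) := hn1
      have h2 : pair n'.1.1 n'.2 ∈ stabilizer ↥(S.prod S) (y : X) := hn2
      obtain ⟨h3, h4⟩ := (hgr _).mp (coe_mem_up.mpr h1)
      obtain ⟨h5, h6⟩ := (hgr _).mp (coe_mem_up.mpr h2)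
      have h7 : ((n.1.1 : ↥S) : Ω) = ((n'.1.1 : ↥S) : Ω) := by
        apply hθ.injOn h3 h5
        show θ ((n.1.1 : ↥S) : Ω) = θ ((n'.1.1 : ↥S) : Ω)
        have h4' : θ ((n.1.1 : ↥S) : Ω) = ((n.2 : ↥S) : Ω) := h4
        have h6' : θ ((n'.1.1 : ↥S) : Ω) = ((n'.2 : ↥S) : Ω) := h6
        rw [h4', h6', hb]
      apply Subtype.ext
      apply Prod.ext
      · exact Subtype.ext (Subtype.ext h7)
      · exact hb
    exact Nat.card_le_card_of_injective ψ hψ

open Classical in
/-- **Thompson transfer**, biset form. -/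
theorem trfFun_involution (hcomp : ∀ (b : ↥S) (x : X), b • x = pair 1 b • x) {F : FusionSystem S}
    (hst : ∀ x : X, IsGr F (stabilizer ↥(S.prod S) x)) [Finite X] [Finite S] (hS : IsPGroup 2 S)
    (n : ℕ) (hn : Nat.card X = Nat.card S * n) (hodd : ¬ 2 ∣ n)
    (π : ↥S →* ℤˣ) (i : ↥S) (hii : i * i = 1)
    (hlt : ∀ (s : ↥S) (x : X), pair i s • x = x → π s = 1 →
      Nat.card (Subgroup.centralizer ({s} : Set ↥S)) < Nat.card (Subgroup.centralizer ({i} : Set ↥S))) :
    trfFun X π i = -1 := by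
  have hfree := rfree hcomp hst
  have hg := lam_rEq hcomp i
  have hgg : lam X i * lam X i = 1 := by rw [← map_mul, hii, map_one]
  unfold trfFun
  rw [@det_units_of_sq ↥S _ X _ hfree (Fintype.ofFinite _) π _ hg hgg]
  letI : Fintype (Orb ↥S X) := Fintype.ofFinite _
  have hOrb : Fintype.card (Orb ↥S X) = n := by
    have h4 := card_eq_card_orb_mul hfree
    rw [hn, mul_comm] at h4
    have hSpos : 0 < Nat.card ↥S := Nat.card_pos
    rw [← Nat.card_eq_fintype_card]
    exact (Nat.eq_of_mul_eq_mul_right hSpos h4).symm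
  have hm := @even_card_moved_of_sq ↥S _ X _ hfree (Fintype.ofFinite _) _ hg hgg
  have hf := Finset.card_filter_add_card_filter_not (s := (Finset.univ : Finset (Orb ↥S X)))
    (fun o : Orb ↥S X => gbar (lam X i) o = o)
  have hab : (Finset.univ.filter (fun o : Orb ↥S X => gbar (lam X i) o = o ∧ π (cg (lam X i) o) ≠ 1)).card +
      (Finset.univ.filter (fun o : Orb ↥S X => gbar (lam X i) o = o ∧ ¬ π (cg (lam X i) o) ≠ 1)).card =
      (Finset.univ.filter (fun o : Orb ↥S X => gbar (lam X i) o = o)).card := by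
    rw [← Finset.filter_filter, ← Finset.filter_filter]
    exact Finset.card_filter_add_card_filter_not _
  have hb : Even (Finset.univ.filter
      (fun o : Orb ↥S X => gbar (lam X i) o = o ∧ ¬ π (cg (lam X i) o) ≠ 1)).card := by
    have h1 : (Finset.univ.filter
        (fun o : Orb ↥S X => gbar (lam X i) o = o ∧ ¬ π (cg (lam X i) o) ≠ 1)).card =
        Nat.card {o : Orb ↥S X // QT X π i (sec o)} := by
      rw [← Fintype.card_subtype, ← Nat.card_eq_fintype_card]
      apply Nat.card_congr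
      apply Equiv.subtypeEquivRight
      intro o
      rw [QT_sec_iff hcomp hfree π i o, not_not]
    have h2 := card_subtype_eq_card_orb_mul hfree (QT X π i) (QT_rsmul hcomp π i)
    obtain ⟨q, hq⟩ := two_mul_card_dvd_card_QT hcomp hst hS π i hlt
    rw [h2] at hq
    have hSpos : 0 < Nat.card ↥S := Nat.card_pos
    have h3 : Nat.card {o : Orb ↥S X // QT X π i (sec o)} * Nat.card ↥S = (2 * q) * Nat.card ↥S := by
      rw [hq]; ring
    have h4 := Nat.eq_of_mul_eq_mul_right hSpos h3
    rw [h1, h4]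
    exact even_two_mul q
  rw [Finset.card_univ, hOrb] at hf
  have hnodd : Odd n := Nat.not_even_iff_odd.mp (fun he => hodd (even_iff_two_dvd.mp he))
  have hfo : Odd (Finset.univ.filter (fun o : Orb ↥S X => gbar (lam X i) o = o)).card := by
    by_contra hne
    rw [Nat.not_odd_iff_even] at hne
    have := hne.add hm
    rw [hf] at this
    exact (Nat.not_even_iff_odd.mpr hnodd) this
  have hao : Odd (Finset.univ.filter
      (fun o : Orb ↥S X => gbar (lam X i) o = o ∧ π (cg (lam X i) o) ≠ 1)).card := by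
    by_contra hne
    rw [Nat.not_odd_iff_even] at hne
    have := hne.add hb
    rw [hab] at this
    exact (Nat.not_even_iff_odd.mpr hfo) this
  exact hao.neg_one_pow

end Thompson

end Cfsg.Agent.Lib.Helper27.BS
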