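import Cfsg.Agent.Lib.Helper27.BS15
import Cfsg.Agent.Lib.Helper26.FSMinimalNonInner

/-!
# Thompson transfer for saturated fusion systems (helper27)
-/

set_option autoImplicit false

namespace Cfsg.Agent.Lib.Helper27.BS

open Cfsg Cfsg.FusionSystem Cfsg.Agent.Lib.Helper26 Cfsg.Agent.Lib.Helper27.FM
open Cfsg.Agent.Lib.Helper27.KL MulAction

universe u

section Idx2

open Classical in
/-- the homomorphism onto `{±1}` with kernel a subgroup of index two -/
noncomputable def idx2Hom {G : Type*} [Group G] (H : Subgroup G) (h : H.index = 2) : G →* ℤˣ :=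
  MonoidHom.mk' (fun a => if a ∈ H then 1 else -1) (fun a b => by
    by_cases ha : a ∈ H <;> by_cases hb : b ∈ H <;>
      simp [Subgroup.mul_mem_iff_of_index_two h, ha, hb])

theorem idx2Hom_eq_one_iff {G : Type*} [Group G] (H : Subgroup G) (h : H.index = 2) (a : G) :
    idx2Hom H h a = 1 ↔ a ∈ H := by
  classical
  show (if a ∈ H then (1 : ℤˣ) else -1) = 1 ↔ a ∈ H
  by_cases ha : a ∈ H
  · simp [ha]
  · simp only [ha, if_false, iff_false]
    decide

end Idx2

section Elt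

variable {Ω : Type u} [Group Ω] {S : Subgroup Ω}

theorem IsFM.map_zpow' {F : FusionSystem S} {P : Subgroup Ω} {θ : Ω → Ω} (hθ : IsFM F P θ) {a : Ω} (ha : a ∈ P)
    (k : ℤ) : θ (a ^ k) = θ a ^ k := by
  obtain ⟨φ, -, he⟩ := hθ
  have h1 := he (⟨a, ha⟩ ^ k)
  rw [map_zpow, he] at h1
  exact h1.symm

theorem isImage_zpowers {F : FusionSystem S} {P : Subgroup Ω} {θ : Ω → Ω} (hθ : IsFM F P θ) {a : Ω} (ha : a ∈ P) :
    IsImage (Subgroup.zpowers a) θ (Subgroup.zpowers (θ a)) := by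
  intro y
  constructor
  · rintro ⟨k, rfl⟩
    exact ⟨a ^ k, ⟨k, rfl⟩, IsFM.map_zpow' hθ ha k⟩
  · rintro ⟨x, ⟨k, rfl⟩, rfl⟩
    exact ⟨k, (IsFM.map_zpow' hθ ha k).symm⟩

theorem isConjElt_of_isFM {F : FusionSystem S} {P : Subgroup Ω} {θ : Ω → Ω} (hθ : IsFM F P θ) {a : Ω}
    (ha : a ∈ P) : F.IsConjElt a (θ a) := by
  obtain ⟨φ, hφ, he⟩ := hθ.mono ((Subgroup.zpowers_le).mpr ha)
  exact ⟨φ, hφ, he _⟩

theorem isConj_zpowers_of_isFM {F : FusionSystem S} {P : Subgroup Ω} {θ : Ω → Ω} (hθ : IsFM F P θ) {a : Ω}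
    (ha : a ∈ P) : F.IsConj (Subgroup.zpowers a) (Subgroup.zpowers (θ a)) :=
  (isConj_iff_isFM F).mpr ⟨θ, hθ.mono ((Subgroup.zpowers_le).mpr ha), isImage_zpowers hθ ha⟩

/-- the normalizer in `S` of the subgroup generated by an involution is its centralizer -/
theorem normalizerIn_zpowers_eq (s : ↥S) (hs : s * s = 1) :
    normalizerIn S (Subgroup.zpowers (s : Ω)) = up (Subgroup.centralizer ({s} : Set ↥S)) := by
  have hs' : (s : Ω) * (s : Ω) = 1 := congrArg Subtype.val hs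
  have hpow : ∀ k : ℤ, (s : Ω) ^ k = 1 ∨ (s : Ω) ^ k = (s : Ω) := by
    intro k
    rcases Int.even_or_odd' k with ⟨m, hm | hm⟩
    · left
      rw [hm, zpow_mul, zpow_two, hs', one_zpow]
    · right
      rw [hm, zpow_add, zpow_mul, zpow_two, hs', one_zpow, one_mul, zpow_one]
  ext g
  rw [mem_up]
  constructor
  · rintro ⟨hgS, hgN⟩
    refine ⟨hgS, ?_⟩
    rw [Subgroup.mem_centralizer_iff]
    intro h0 hh
    have hh' : h0 = s := hh
    rw [hh']
    apply Subtype.ext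
    show (s : Ω) * g = g * (s : Ω)
    have h1 : g * (s : Ω) * g⁻¹ ∈ Subgroup.zpowers (s : Ω) :=
      (Subgroup.mem_normalizer_iff.mp hgN (s : Ω)).mp (Subgroup.mem_zpowers _)
    obtain ⟨k, hk⟩ := h1
    have hk' : (s : Ω) ^ k = g * (s : Ω) * g⁻¹ := hk
    rcases hpow k with h2 | h2
    · rw [h2] at hk'
      have h3 : (s : Ω) = 1 := by
        have : g⁻¹ * (g * (s : Ω) * g⁻¹) * g = (s : Ω) := by group
        rw [← this, ← hk']
        group
      rw [h3, one_mul, mul_one]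
    · rw [h2] at hk'
      calc (s : Ω) * g = g * (s : Ω) * g⁻¹ * g := by rw [← hk']
        _ = g * (s : Ω) := by group
  · rintro ⟨hgS, hgC⟩
    refine ⟨hgS, ?_⟩
    have hc : s * ⟨g, hgS⟩ = ⟨g, hgS⟩ * s := (Subgroup.mem_centralizer_iff.mp hgC) s rfl
    have hc' : (s : Ω) * g = g * (s : Ω) := congrArg Subtype.val hc
    have hck : ∀ k : ℤ, g * (s : Ω) ^ k * g⁻¹ = (s : Ω) ^ k := by
      intro k
      have h1 : Commute g ((s : Ω) ^ k) := (Commute.zpow_right hc'.symm k)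
      rw [h1.eq, mul_assoc, mul_inv_cancel, mul_one]
    show g ∈ Subgroup.normalizer ((Subgroup.zpowers (s : Ω) : Subgroup Ω) : Set Ω)
    rw [Subgroup.mem_normalizer_iff]
    intro x
    constructor
    · rintro ⟨k, rfl⟩
      exact ⟨k, (hck k).symm⟩
    · rintro ⟨k, hk⟩
      have hk' : (s : Ω) ^ k = g * x * g⁻¹ := hk
      refine ⟨k, ?_⟩
      show (s : Ω) ^ k = x
      have h2 : x = g⁻¹ * (g * x * g⁻¹) * g := by group
      rw [h2, ← hk']
      have h3 := hck k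
      calc (s : Ω) ^ k = g⁻¹ * (g * (s : Ω) ^ k * g⁻¹) * g := by group
        _ = g⁻¹ * (s : Ω) ^ k * g := by rw [h3]

theorem card_normalizerIn_zpowers (s : ↥S) (hs : s * s = 1) :
    Nat.card (normalizerIn S (Subgroup.zpowers (s : Ω))) = Nat.card (Subgroup.centralizer ({s} : Set ↥S)) := by
  rw [normalizerIn_zpowers_eq s hs, card_up]

end Elt

end Cfsg.Agent.Lib.Helper27.BS
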