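import Cfsg.Agent.Lib.Helper27.BS16

/-!
# Thompson transfer for saturated fusion systems: the theorem (helper27)
-/

set_option autoImplicit false

namespace Cfsg.Agent.Lib.Helper27.BS

open Cfsg Cfsg.FusionSystem Cfsg.Agent.Lib.Helper26 Cfsg.Agent.Lib.Helper27.FM
open Cfsg.Agent.Lib.Helper27.KL MulAction

universe u

variable {Ω : Type u} [Group Ω] {S : Subgroup Ω}

/-- **Thompson transfer.**  `F` saturated over the finite `2`-group `S`, `T` of index two in `S`, `i` an involution of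
`S` all of whose fully normalized `F`-conjugates lie outside `T`: then `i` is not in the focal subgroup. -/
theorem thompson_transfer_focal [Finite S] (hS : IsPGroup 2 S) (F : FusionSystem S) (hF : F.IsSaturated 2)
    (T : Subgroup Ω) (hT : T.relIndex S = 2) (i : Ω) (hi : i ∈ S) (hi2 : i * i = 1)
    (h : ∀ j : Ω, F.IsConjElt i j → F.IsFullyNormalized (Subgroup.zpowers j) → j ∉ T) :
    i ∉ F.focalSubgroup := by
  haveI : Fact (Nat.Prime 2) := ⟨Nat.prime_two⟩
  obtain ⟨X, instX, finX, hst, htw, n, hn, hpn⟩ := exists_char_biset hS F hF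
  letI : MulAction ↥S X := MulAction.compHom X rtHom
  have hcomp : ∀ (b : ↥S) (x : X), b • x = pair 1 b • x := fun _ _ => rfl
  have hidx : (T.subgroupOf S).index = 2 := hT
  let π : ↥S →* ℤˣ := idx2Hom (T.subgroupOf S) hidx
  have hπ : ∀ s : ↥S, π s = 1 ↔ (s : Ω) ∈ T := fun s => by
    rw [idx2Hom_eq_one_iff, Subgroup.mem_subgroupOf]
  -- a fully normalized conjugate
  obtain ⟨Q, hQc, hQn⟩ := exists_fullyNormalized_conj F ((Subgroup.zpowers_le).mpr hi)
  obtain ⟨θ₀, hθ₀, him⟩ := (isConj_iff_isFM F).mp hQc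
  have hiz : i ∈ Subgroup.zpowers i := Subgroup.mem_zpowers i
  have hQ : Q = Subgroup.zpowers (θ₀ i) := him.unique (isImage_zpowers hθ₀ hiz)
  have hs₀S : θ₀ i ∈ S := hθ₀.mem hiz
  have hs₀2 : (⟨θ₀ i, hs₀S⟩ : ↥S) * ⟨θ₀ i, hs₀S⟩ = 1 := by
    apply Subtype.ext
    show θ₀ i * θ₀ i = 1
    rw [← hθ₀.map_mul hiz hiz, hi2, hθ₀.map_one]
  rw [hQ] at hQn
  intro hif
  -- the transfer kills the focal subgroup
  have h1 := focal_le_ker_of_stable F (trf hcomp hst π)
    (fun P θ hθ a ha => trfFun_stable hcomp hst htw _ hθ a ha)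
  obtain ⟨z', hz', hzz'⟩ := h1 hif
  have hz'' : z' = ⟨i, hi⟩ := Subtype.ext hzz'
  rw [hz''] at hz'
  have h2 : trfFun X π ⟨i, hi⟩ = 1 := hz'
  have h3 : trfFun X π ⟨θ₀ i, hs₀S⟩ = trfFun X π ⟨i, hi⟩ :=
    trfFun_stable hcomp hst htw π hθ₀ ⟨i, hi⟩ hiz
  have h4 : trfFun X π ⟨θ₀ i, hs₀S⟩ = -1 := by
    refine trfFun_involution hcomp hst hS n hn hpn π ⟨θ₀ i, hs₀S⟩ hs₀2 ?_
    intro s x hx hs
    -- `s` is a conjugate of `i` in `T`
    obtain ⟨P, θ, hθ, hgr⟩ := hst x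
    have hx' : pair ⟨θ₀ i, hs₀S⟩ s ∈ stabilizer ↥(S.prod S) x := hx
    obtain ⟨h5, h6⟩ := (hgr _).mp (coe_mem_up.mpr hx')
    have h5' : θ₀ i ∈ P := h5
    have h6' : θ (θ₀ i) = (s : Ω) := h6
    have hsT : (s : Ω) ∈ T := (hπ s).mp hs
    have hcomp2 : IsFM F (Subgroup.zpowers i) (fun w => θ (θ₀ w)) := by
      refine hθ₀.comp hθ (fun w hw => ?_)
      obtain ⟨k, rfl⟩ := hw
      rw [IsFM.map_zpow' hθ₀ hiz k]
      exact P.zpow_mem h5' k
    have hconj : F.IsConjElt i (s : Ω) := by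
      have := isConjElt_of_isFM hcomp2 hiz
      rw [← h6']
      exact this
    have hss : s * s = 1 := by
      apply Subtype.ext
      show (s : Ω) * (s : Ω) = 1
      rw [← h6', ← hθ.map_mul h5' h5']
      have : θ₀ i * θ₀ i = 1 := congrArg Subtype.val hs₀2
      rw [this, hθ.map_one]
    have hnfn : ¬ F.IsFullyNormalized (Subgroup.zpowers (s : Ω)) := fun hfn => h (s : Ω) hconj hfn hsT
    unfold FusionSystem.IsFullyNormalized at hnfn
    push Not at hnfn
    obtain ⟨Q', hQ'c, hQ'lt⟩ := hnfn ((Subgroup.zpowers_le).mpr s.2)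
    have hc1 : F.IsConj (Subgroup.zpowers (θ₀ i)) (Subgroup.zpowers (s : Ω)) := by
      have := isConj_zpowers_of_isFM hθ h5'
      rw [h6'] at this
      exact this
    have hle := hQn.2 Q' (isConj_trans F hc1 hQ'c)
    have hlt := lt_of_lt_of_le hQ'lt hle
    rw [card_normalizerIn_zpowers s hss, card_normalizerIn_zpowers ⟨θ₀ i, hs₀S⟩ hs₀2] at hlt
    exact hlt
  rw [h3, h2] at h4
  exact absurd h4 (by decide)

/-- **Thompson transfer**, hyperfocal form. -/
theorem thompson_transfer [Finite S] (hS : IsPGroup 2 S) (F : FusionSystem S) (hF : F.IsSaturated 2)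
    (T : Subgroup Ω) (hT : T.relIndex S = 2) (i : Ω) (hi : i ∈ S) (hi2 : i * i = 1)
    (h : ∀ j : Ω, F.IsConjElt i j → F.IsFullyNormalized (Subgroup.zpowers j) → j ∉ T) :
    i ∉ F.hyperfocalSubgroup 2 := fun hh =>
  thompson_transfer_focal hS F hF T hT i hi hi2 h (hyperfocal_le_focal F 2 hh)

end Cfsg.Agent.Lib.Helper27.BS
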