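import Cfsg.Agent.Lib.Helper27.BS13

/-!
# The transfer on a subgroup whose elements are fixed modulo the kernel of `π` (helper27)

`inf_focal_le`: if `D₀ ≥ S'` and every map `θ` of `F` satisfies `x⁻¹ θ(x) ∈ D₀` for the `x ∈ Q`, then
`Q ∩ foc(F) ≤ D₀`.
-/

set_option autoImplicit false

namespace Cfsg.Agent.Lib.Helper27.BS

open Cfsg Cfsg.FusionSystem Cfsg.Agent.Lib.Helper26 Cfsg.Agent.Lib.Helper27.FM
open Cfsg.Agent.Lib.Helper27.KL MulAction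

universe u

section

variable {Ω : Type u} [Group Ω] {S : Subgroup Ω}

variable {X : Type*} [MulAction ↥(S.prod S) X] [MulAction ↥S X] {A : Type*} [CommGroup A]

/-- the transfer on a subgroup all of whose elements are fixed, modulo the kernel of `π`, by all maps of the system -/
theorem trfFun_central' (hcomp : ∀ (b : ↥S) (x : X), b • x = pair 1 b • x) {F : FusionSystem S}
    (hst : ∀ x : X, IsGr F (stabilizer ↥(S.prod S) x)) [Finite X] (π : ↥S →* A) (Z : Subgroup ↥S)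
    (hZ : ∀ (P : Subgroup Ω) (θ : Ω → Ω) (hθ : IsFM F P θ) (w : ↥S), w ∈ Z → ∀ hwP : (w : Ω) ∈ P,
      π ⟨θ w, hθ.mem hwP⟩ = π w)
    (z : ↥S) (hz : z ∈ Z) : trfFun X π z = (π z)⁻¹ ^ Nat.card (Orb ↥S X) := by
  let j : ↥Z × ↥S →* ↥(S.prod S) := MonoidHom.mk' (fun n => pair n.1.1 n.2) (fun a b => rfl)
  letI : MulAction (↥Z × ↥S) X := MulAction.compHom X j
  have hj : ∀ (n : ↥Z × ↥S) (x : X), n • x = pair n.1.1 n.2 • x := fun _ _ => rfl
  let χ : ↥Z × ↥S →* A :=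
    ((π.comp Z.subtype).comp (MonoidHom.fst ↥Z ↥S))⁻¹ * π.comp (MonoidHom.snd ↥Z ↥S)
  have hχ : ∀ n : ↥Z × ↥S, χ n = (π n.1.1)⁻¹ * π n.2 := fun n => rfl
  have hχ1 : ∀ (x : X) (n : ↥Z × ↥S), n • x = x → χ n = 1 := by
    intro x n hn
    rw [hj] at hn
    have h1 : pair n.1.1 n.2 ∈ stabilizer ↥(S.prod S) x := hn
    obtain ⟨P, θ, hθ, hg⟩ := hst x
    have h2 : ((pair n.1.1 n.2 : ↥(S.prod S)) : Ω × Ω) ∈ up (stabilizer ↥(S.prod S) x) := coe_mem_up.mpr h1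
    obtain ⟨h3, h4⟩ := (hg _).mp h2
    have h5 : θ ((n.1.1 : ↥S) : Ω) = ((n.2 : ↥S) : Ω) := h4
    have h6 : ((n.1.1 : ↥S) : Ω) ∈ P := h3
    have h7 : n.2 = ⟨θ ((n.1.1 : ↥S) : Ω), hθ.mem h6⟩ := Subtype.ext h5.symm
    rw [hχ, h7, hZ P θ hθ n.1.1 n.1.2 h6, inv_mul_cancel]
  obtain ⟨f, hf⟩ := exists_equivariant_fun χ hχ1
  have hf1 : ∀ (b : ↥S) (x : X), f (b • x) = π b * f x := by
    intro b x
    have h1 := hf ((1 : ↥Z), b) x
    rw [hj, hχ] at h1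
    rw [hcomp]
    simpa using h1
  have hf2 : ∀ x : X, f (lam X z x) = (π z)⁻¹ * f x := by
    intro x
    have h1 := hf ((⟨z, hz⟩ : ↥Z), (1 : ↥S)) x
    rw [hj, hχ] at h1
    rw [lam_apply]
    simpa using h1
  unfold trfFun
  rw [@det_eq_pow ↥S _ X _ A _ (Fintype.ofFinite _) π (lam X z) (lam_rEq hcomp z) f hf1 _ hf2,
    @Nat.card_eq_fintype_card _ (Fintype.ofFinite _)]

end

section Hom

/-- a homomorphism onto an abelian group with prescribed kernel `H ≥ G'` -/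
noncomputable def abHom {G : Type*} [Group G] (H : Subgroup G) :
    G →* Abelianization G ⧸ H.map (Abelianization.of (G := G)) :=
  (QuotientGroup.mk' (H.map (Abelianization.of (G := G)))).comp Abelianization.of

theorem abHom_eq_one_iff {G : Type*} [Group G] (H : Subgroup G) (hH : commutator G ≤ H) (g : G) :
    abHom H g = 1 ↔ g ∈ H := by
  unfold abHom
  rw [MonoidHom.comp_apply, QuotientGroup.mk'_apply, QuotientGroup.eq_one_iff]
  constructor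
  · rintro ⟨d, hd, hdg⟩
    have h1 : Abelianization.of (d⁻¹ * g) = 1 := by rw [map_mul, map_inv, hdg, inv_mul_cancel]
    have h2 : d⁻¹ * g ∈ commutator G := by
      rw [← Abelianization.ker_of, MonoidHom.mem_ker]; exact h1
    have h3 : g = d * (d⁻¹ * g) := by group
    rw [h3]
    exact H.mul_mem hd (hH h2)
  · intro hg
    exact ⟨g, hg, rfl⟩

end Hom

section Main

variable {Ω : Type u} [Group Ω] {S : Subgroup Ω}

theorem inf_focal_le {p : ℕ} [Fact p.Prime] [Finite S] (hS : IsPGroup p S) (F : FusionSystem S)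
    (hF : F.IsSaturated p) (Q : Subgroup Ω) (hQS : Q ≤ S) (D₀ : Subgroup Ω)
    (hD₀ : ∀ s ∈ S, ∀ x ∈ S, x⁻¹ * (s * x * s⁻¹) ∈ D₀)
    (hall : ∀ (R : Subgroup Ω) (θ : Ω → Ω), IsFM F R θ → ∀ x ∈ R, x ∈ Q → x⁻¹ * θ x ∈ D₀) :
    Q ⊓ F.focalSubgroup ≤ D₀ := by
  obtain ⟨X, instX, finX, hst, htw, n, hn, hpn⟩ := exists_char_biset hS F hF
  letI : MulAction ↥S X := MulAction.compHom X rtHom
  have hcomp : ∀ (b : ↥S) (x : X), b • x = pair 1 b • x := fun _ _ => rfl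
  have hcomm : commutator ↥S ≤ D₀.subgroupOf S := by
    rw [commutator_def, Subgroup.commutator_le]
    intro a _ b _
    rw [Subgroup.mem_subgroupOf, commutatorElement_def]
    have h1 := hD₀ b b.2 (a⁻¹ : ↥S) (a⁻¹ : ↥S).2
    have e : ((a * b * a⁻¹ * b⁻¹ : ↥S) : Ω) =
        (((a⁻¹ : ↥S) : Ω))⁻¹ * ((b : Ω) * ((a⁻¹ : ↥S) : Ω) * (b : Ω)⁻¹) := by
      push_cast
      group
    rw [e]
    exact h1
  set π := abHom (D₀.subgroupOf S) with hπ
  have hπ1 : ∀ s : ↥S, π s = 1 ↔ (s : Ω) ∈ D₀ := fun s => by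
    rw [hπ, abHom_eq_one_iff _ hcomm, Subgroup.mem_subgroupOf]
  rintro z ⟨hzQ, hzf⟩
  have hzS : z ∈ S := hQS hzQ
  have h1 := focal_le_ker_of_stable F (trf hcomp hst π)
    (fun P θ hθ a ha => trfFun_stable hcomp hst htw _ hθ a ha)
  obtain ⟨z', hz', hzz'⟩ := h1 hzf
  have hz'' : z' = ⟨z, hzS⟩ := Subtype.ext hzz'
  rw [hz''] at hz'
  have h2 : trfFun X π ⟨z, hzS⟩ = 1 := hz'
  have h3 := trfFun_central' hcomp hst π (Q.subgroupOf S)
    (fun P θ hθ w hw hwP => by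
      have hw' : (w : Ω) ∈ Q := Subgroup.mem_subgroupOf.mp hw
      have h4 := hall P θ hθ w hwP hw'
      have h5 : π (w⁻¹ * ⟨θ w, hθ.mem hwP⟩) = 1 := (hπ1 _).mpr h4
      rw [map_mul, map_inv] at h5
      exact (inv_mul_eq_one.mp h5).symm) ⟨z, hzS⟩ (Subgroup.mem_subgroupOf.mpr hzQ)
  rw [h2] at h3
  have h4 := card_eq_card_orb_mul (rfree hcomp hst)
  rw [hn, mul_comm] at h4
  have hSpos : 0 < Nat.card ↥S := Nat.card_pos
  have h5 : Nat.card (Orb ↥S X) = n := (Nat.eq_of_mul_eq_mul_right hSpos h4).symm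
  rw [h5, inv_pow] at h3
  have h6 : (π (⟨z, hzS⟩ : ↥S)) ^ n = 1 := by
    rw [← inv_inj, ← h3, inv_one]
  have h7 : orderOf (π (⟨z, hzS⟩ : ↥S)) ∣ n := orderOf_dvd_of_pow_eq_one h6
  obtain ⟨k, hk⟩ := hS ⟨z, hzS⟩
  have h8 : orderOf (π (⟨z, hzS⟩ : ↥S)) ∣ p ^ k :=
    (orderOf_map_dvd _ _).trans (orderOf_dvd_of_pow_eq_one hk)
  have hcop : Nat.Coprime (p ^ k) n :=
    Nat.Coprime.pow_left k ((Nat.Prime.coprime_iff_not_dvd (Fact.out)).mpr hpn)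
  have h9 : orderOf (π (⟨z, hzS⟩ : ↥S)) = 1 := Nat.eq_one_of_dvd_coprimes hcop h8 h7
  have h10 : π (⟨z, hzS⟩ : ↥S) = 1 := orderOf_eq_one_iff.mp h9
  exact (hπ1 _).mp h10

end Main

end Cfsg.Agent.Lib.Helper27.BS
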