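import Cfsg.Agent.Lib.Helper27.BS1

/-!
# Marks determine finite `N`-sets (helper27)

`exists_equivariant_equiv`: two finite `N`-sets with the same marks are isomorphic.
-/

set_option autoImplicit false

namespace Cfsg.Agent.Lib.Helper27.BS

open MulAction

universe v w

section Equivariant

variable {N : Type*} [Group N]

theorem mk_congr_of_equivariant {Y₁ : Type*} {Y₂ : Type*} [MulAction N Y₁] [MulAction N Y₂] (e : Y₁ ≃ Y₂)
    (he : ∀ (g : N) (y : Y₁), e (g • y) = g • e y) (U : Subgroup N) : mk U Y₁ = mk U Y₂ := by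
  unfold mk
  apply Nat.card_congr
  refine e.subtypeEquiv (fun y => ?_)
  have hst : stabilizer N (e y) = stabilizer N y := by
    ext g
    rw [mem_stabilizer_iff, mem_stabilizer_iff, ← he]
    exact e.apply_eq_iff_eq
  rw [hst]

/-- the complement of an orbit, with the restricted action -/
abbrev Cmpl {Y : Type*} [MulAction N Y] (y : Y) : Type _ := {x : Y // x ∉ orbit N y}

instance cmplAction {Y : Type*} [MulAction N Y] (y : Y) : MulAction N (Cmpl (N := N) y) where
  smul g x := ⟨g • x.1, fun h => x.2 (by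
    have := mem_orbit_of_mem_orbit g⁻¹ h
    simpa using this)⟩
  one_smul x := Subtype.ext (one_smul _ _)
  mul_smul g h x := Subtype.ext (mul_smul _ _ _)

theorem cmpl_coe_smul {Y : Type*} [MulAction N Y] (y : Y) (g : N) (x : Cmpl (N := N) y) :
    ((g • x : Cmpl (N := N) y)).1 = g • x.1 := rfl

theorem stabilizer_cmpl {Y : Type*} [MulAction N Y] (y : Y) (x : Cmpl (N := N) y) :
    stabilizer N x = stabilizer N x.1 := by
  ext g
  rw [mem_stabilizer_iff, mem_stabilizer_iff]
  constructor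
  · intro h
    have := congrArg Subtype.val h
    exact this
  · intro h
    exact Subtype.ext h

theorem stabilizer_orbit_elt {Y : Type*} [MulAction N Y] (y : Y) (x : orbit N y) :
    stabilizer N x = stabilizer N (x : Y) := by
  ext g
  rw [mem_stabilizer_iff, mem_stabilizer_iff]
  constructor
  · intro h
    have := congrArg Subtype.val h
    rwa [orbit.coe_smul] at this
  · intro h
    apply Subtype.ext
    rw [orbit.coe_smul]
    exact h

theorem mk_eq_orbit_add_cmpl {Y : Type*} [MulAction N Y] [Finite Y] (y : Y) (U : Subgroup N) :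
    mk U Y = mk U (orbit N y) + mk U (Cmpl (N := N) y) := by
  classical
  haveI := Fintype.ofFinite Y
  have h1 : mk U (orbit N y) = Nat.card {x : Y // x ∈ orbit N y ∧ U ≤ stabilizer N x} := by
    unfold mk
    apply Nat.card_congr
    refine ⟨fun x => ⟨x.1.1, x.1.2, by rw [← stabilizer_orbit_elt]; exact x.2⟩,
      fun x => ⟨⟨x.1, x.2.1⟩, by rw [stabilizer_orbit_elt]; exact x.2.2⟩, fun x => rfl, fun x => rfl⟩
  have h2 : mk U (Cmpl (N := N) y) = Nat.card {x : Y // x ∉ orbit N y ∧ U ≤ stabilizer N x} := by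
    unfold mk
    apply Nat.card_congr
    refine ⟨fun x => ⟨x.1.1, x.1.2, by rw [← stabilizer_cmpl]; exact x.2⟩,
      fun x => ⟨(⟨x.1, x.2.1⟩ : Cmpl (N := N) y), by rw [stabilizer_cmpl]; exact x.2.2⟩,
      fun x => rfl, fun x => rfl⟩
  rw [h1, h2]
  unfold mk
  rw [Nat.card_eq_fintype_card, Nat.card_eq_fintype_card, Nat.card_eq_fintype_card,
    Fintype.card_subtype, Fintype.card_subtype, Fintype.card_subtype, ← Finset.card_union_of_disjoint]
  · congr 1
    ext x
    simp only [Finset.mem_filter, Finset.mem_univ, true_and, Finset.mem_union]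
    tauto
  · rw [Finset.disjoint_left]
    intro x hx hx'
    simp only [Finset.mem_filter, Finset.mem_univ, true_and] at hx hx'
    exact hx'.1 hx.1

theorem exists_orbit_equiv {Y₁ : Type*} {Y₂ : Type*} [MulAction N Y₁] [MulAction N Y₂] (y₁ : Y₁) (y₂ : Y₂)
    (h : stabilizer N y₁ = stabilizer N y₂) :
    ∃ e : orbit N y₁ ≃ orbit N y₂, ∀ (g : N) (x : orbit N y₁), e (g • x) = g • e x := by
  let e : orbit N y₁ ≃ orbit N y₂ :=
    (orbitEquivQuotientStabilizer N y₁).trans
      ((Subgroup.quotientEquivOfEq h).trans (orbitEquivQuotientStabilizer N y₂).symm)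
  have key : ∀ (k : N) (hk : k • y₁ ∈ orbit N y₁), ((e ⟨k • y₁, hk⟩ : orbit N y₂) : Y₂) = k • y₂ := by
    intro k hk
    have h1 : orbitEquivQuotientStabilizer N y₁ ⟨k • y₁, hk⟩ = (QuotientGroup.mk k : N ⧸ stabilizer N y₁) := by
      rw [Equiv.apply_eq_iff_eq_symm_apply]
      apply Subtype.ext
      rw [orbitEquivQuotientStabilizer_symm_apply]
    show (((orbitEquivQuotientStabilizer N y₂).symm
      (Subgroup.quotientEquivOfEq h (orbitEquivQuotientStabilizer N y₁ ⟨k • y₁, hk⟩)) : orbit N y₂) : Y₂) = k • y₂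
    rw [h1, Subgroup.quotientEquivOfEq_mk, orbitEquivQuotientStabilizer_symm_apply]
  refine ⟨e, fun g x => ?_⟩
  obtain ⟨x, hx⟩ := x
  obtain ⟨k, hk⟩ := id hx
  have hk' : x = k • y₁ := hk.symm
  subst hk'
  apply Subtype.ext
  rw [orbit.coe_smul]
  have h2 : (g • (⟨k • y₁, hx⟩ : orbit N y₁) : orbit N y₁) = ⟨(g * k) • y₁, mem_orbit y₁ (g * k)⟩ := by
    apply Subtype.ext
    rw [orbit.coe_smul]
    exact (mul_smul g k y₁).symm
  rw [h2, key, key, mul_smul]

theorem mk_bot (Y : Type*) [MulAction N Y] : mk (⊥ : Subgroup N) Y = Nat.card Y := by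
  unfold mk
  exact Nat.card_congr (Equiv.subtypeUnivEquiv (fun y => bot_le))

theorem mk_pos_iff (Y : Type*) [MulAction N Y] [Finite Y] (V : Subgroup N) :
    0 < mk V Y ↔ ∃ y : Y, V ≤ stabilizer N y := by
  unfold mk
  rw [Nat.card_pos_iff]
  constructor
  · rintro ⟨⟨y, hy⟩, _⟩; exact ⟨y, hy⟩
  · rintro ⟨y, hy⟩; exact ⟨⟨⟨y, hy⟩⟩, Subtype.finite⟩

/-- **Marks determine the set**: two finite `N`-sets with the same marks are isomorphic. -/
theorem exists_equivariant_equiv [Finite N] :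
    ∀ (n : ℕ) (Y₁ : Type v) (Y₂ : Type w) [MulAction N Y₁] [MulAction N Y₂] [Finite Y₁] [Finite Y₂],
      Nat.card Y₁ = n → (∀ U : Subgroup N, mk U Y₁ = mk U Y₂) →
      ∃ e : Y₁ ≃ Y₂, ∀ (g : N) (y : Y₁), e (g • y) = g • e y := by
  intro n
  induction n using Nat.strong_induction_on with
  | _ n ih =>
  intro Y₁ Y₂ _ _ _ _ hn hmk
  classical
  have hcard : Nat.card Y₁ = Nat.card Y₂ := by rw [← mk_bot (N := N) Y₁, ← mk_bot (N := N) Y₂]; exact hmk ⊥
  by_cases hemp : IsEmpty Y₁
  · haveI := hemp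
    have h0 : Nat.card Y₂ = 0 := by rw [← hcard]; exact Nat.card_of_isEmpty
    haveI : IsEmpty Y₂ := by
      rcases Nat.card_eq_zero.mp h0 with h | h
      · exact h
      · exact absurd ‹Finite Y₂› (not_finite_iff_infinite.mpr h)
    exact ⟨Equiv.equivOfIsEmpty Y₁ Y₂, fun g y => isEmptyElim y⟩
  · rw [not_isEmpty_iff] at hemp
    -- choose y₁ with stabilizer of maximal order
    obtain ⟨y₁, hy₁max⟩ : ∃ y₁ : Y₁, ∀ y : Y₁, Nat.card (stabilizer N y) ≤ Nat.card (stabilizer N y₁) := by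
      haveI := Fintype.ofFinite Y₁
      obtain ⟨y₁, _, hy₁⟩ := Finset.exists_max_image (Finset.univ : Finset Y₁)
        (fun y => Nat.card (stabilizer N y)) ⟨hemp.some, Finset.mem_univ _⟩
      exact ⟨y₁, fun y => hy₁ y (Finset.mem_univ _)⟩
    set U := stabilizer N y₁ with hU
    obtain ⟨y₂, hy₂⟩ : ∃ y₂ : Y₂, U ≤ stabilizer N y₂ := by
      rw [← mk_pos_iff, ← hmk, mk_pos_iff]
      exact ⟨y₁, le_rfl⟩
    have hy₂eq : stabilizer N y₁ = stabilizer N y₂ := by
      apply Subgroup.eq_of_le_of_card_ge hy₂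
      obtain ⟨y, hy⟩ : ∃ y : Y₁, stabilizer N y₂ ≤ stabilizer N y := by
        rw [← mk_pos_iff, hmk, mk_pos_iff]
        exact ⟨y₂, le_rfl⟩
      exact (Subgroup.card_le_of_le hy).trans (hy₁max y)
    obtain ⟨eo, heo⟩ := exists_orbit_equiv (N := N) y₁ y₂ hy₂eq
    -- complements
    have hmk' : ∀ V : Subgroup N, mk V (Cmpl (N := N) y₁) = mk V (Cmpl (N := N) y₂) := by
      intro V
      have h1 := mk_eq_orbit_add_cmpl (N := N) y₁ V
      have h2 := mk_eq_orbit_add_cmpl (N := N) y₂ V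
      have h3 := mk_congr_of_equivariant eo heo V
      have h4 := hmk V
      omega
    haveI : Finite (Cmpl (N := N) y₁) := Subtype.finite
    haveI : Finite (Cmpl (N := N) y₂) := Subtype.finite
    have hlt : Nat.card (Cmpl (N := N) y₁) < n := by
      rw [← hn]
      haveI := Fintype.ofFinite Y₁
      unfold Cmpl
      rw [Nat.card_eq_fintype_card, Nat.card_eq_fintype_card, Fintype.card_subtype]
      apply Finset.card_lt_univ_of_notMem (x := y₁)
      simp [mem_orbit_self]
    obtain ⟨e', he'⟩ := ih _ hlt (Cmpl (N := N) y₁) (Cmpl (N := N) y₂) rfl hmk'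
    -- glue
    let e : Y₁ ≃ Y₂ :=
      (Equiv.sumCompl (fun x => x ∈ orbit N y₁)).symm.trans
        ((Equiv.sumCongr eo e').trans (Equiv.sumCompl (fun x => x ∈ orbit N y₂)))
    refine ⟨e, fun g y => ?_⟩
    by_cases hy : y ∈ orbit N y₁
    · have hgy : g • y ∈ orbit N y₁ := mem_orbit_of_mem_orbit g hy
      have e1 : e y = (eo ⟨y, hy⟩ : Y₂) := by
        show (Equiv.sumCompl _) ((Equiv.sumCongr eo e') ((Equiv.sumCompl _).symm y)) = _
        rw [Equiv.sumCompl_symm_apply_of_pos (p := fun x => x ∈ orbit N y₁) hy]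
        rfl
      have e2 : e (g • y) = (eo ⟨g • y, hgy⟩ : Y₂) := by
        show (Equiv.sumCompl _) ((Equiv.sumCongr eo e') ((Equiv.sumCompl _).symm (g • y))) = _
        rw [Equiv.sumCompl_symm_apply_of_pos (p := fun x => x ∈ orbit N y₁) hgy]
        rfl
      rw [e1, e2]
      have := heo g ⟨y, hy⟩
      have h5 : (g • (⟨y, hy⟩ : orbit N y₁) : orbit N y₁) = ⟨g • y, hgy⟩ := Subtype.ext (by rw [orbit.coe_smul])
      rw [h5] at this
      rw [this, orbit.coe_smul]
    · have hgy : g • y ∉ orbit N y₁ := fun h => hy (by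
        have := mem_orbit_of_mem_orbit g⁻¹ h
        simpa using this)
      have e1 : e y = (e' ⟨y, hy⟩ : Cmpl (N := N) y₂).1 := by
        show (Equiv.sumCompl _) ((Equiv.sumCongr eo e') ((Equiv.sumCompl _).symm y)) = _
        rw [Equiv.sumCompl_symm_apply_of_neg (p := fun x => x ∈ orbit N y₁) hy]
        rfl
      have e2 : e (g • y) = (e' ⟨g • y, hgy⟩ : Cmpl (N := N) y₂).1 := by
        show (Equiv.sumCompl _) ((Equiv.sumCongr eo e') ((Equiv.sumCompl _).symm (g • y))) = _
        rw [Equiv.sumCompl_symm_apply_of_neg (p := fun x => x ∈ orbit N y₁) hgy]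
        rfl
      rw [e1, e2]
      have := he' g ⟨y, hy⟩
      have h5 : (g • (⟨y, hy⟩ : Cmpl (N := N) y₁) : Cmpl (N := N) y₁) = ⟨g • y, hgy⟩ := Subtype.ext rfl
      rw [h5] at this
      rw [this, cmpl_coe_smul]

end Equivariant

end Cfsg.Agent.Lib.Helper27.BS
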