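import Cfsg.Agent.Lib.Helper27.BS2

/-!
# Marks of coset spaces and of disjoint unions of coset spaces (helper27)
-/

set_option autoImplicit false

namespace Cfsg.Agent.Lib.Helper27.BS

open MulAction

section Coset

variable {G : Type*} [Group G]

/-- the conjugate `g E g⁻¹` -/
def cj (g : G) (E : Subgroup G) : Subgroup G := E.map (MulAut.conj g).toMonoidHom

theorem mem_cj {g : G} {E : Subgroup G} {x : G} : x ∈ cj g E ↔ g⁻¹ * x * g ∈ E := by
  unfold cj
  constructor
  · rintro ⟨e, he, rfl⟩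
    simpa [MulAut.conj_apply, mul_assoc] using he
  · intro h
    exact ⟨g⁻¹ * x * g, h, by simp [MulAut.conj_apply, mul_assoc]⟩

theorem card_cj [Finite G] (g : G) (E : Subgroup G) : Nat.card (cj g E) = Nat.card E := by
  unfold cj
  exact Subgroup.card_map_of_injective (MulAut.conj g).injective

theorem cj_one (E : Subgroup G) : cj 1 E = E := by
  ext x; rw [mem_cj]; simp

theorem cj_mul (g h : G) (E : Subgroup G) : cj (g * h) E = cj g (cj h E) := by
  ext x; rw [mem_cj, mem_cj, mem_cj]; simp [mul_assoc]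

theorem stabilizer_smul_eq_cj {Y : Type*} [MulAction G Y] (g : G) (y : Y) :
    stabilizer G (g • y) = cj g (stabilizer G y) :=
  stabilizer_smul_eq_stabilizer_map_conj g y

theorem stabilizer_coset (E : Subgroup G) (g : G) :
    stabilizer G ((g : G) : G ⧸ E) = cj g E := by
  have h : ((g : G) : G ⧸ E) = g • ((1 : G) : G ⧸ E) := by
    rw [MulAction.Quotient.smul_mk, smul_eq_mul, mul_one]
  rw [h, stabilizer_smul_eq_cj, stabilizer_quotient]

/-- marks are invariant under conjugation -/
theorem mk_cj {Y : Type*} [MulAction G Y] (g : G) (K : Subgroup G) : mk (cj g K) Y = mk K Y := by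
  unfold mk
  apply Nat.card_congr
  refine ⟨fun y => ⟨g⁻¹ • y.1, ?_⟩, fun y => ⟨g • y.1, ?_⟩, fun y => ?_, fun y => ?_⟩
  · rw [stabilizer_smul_eq_cj]
    intro k hk
    rw [mem_cj, inv_inv]
    exact y.2 (mem_cj.mpr (by simpa [mul_assoc] using hk))
  · rw [stabilizer_smul_eq_cj]
    intro k hk
    rw [mem_cj] at hk ⊢
    exact y.2 hk
  · exact Subtype.ext (smul_inv_smul g y.1)
  · exact Subtype.ext (inv_smul_smul g y.1)

theorem exists_le_cj_of_mk_ne_zero (K E : Subgroup G) (h : mk K (G ⧸ E) ≠ 0) : ∃ g, K ≤ cj g E := by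
  unfold mk at h
  have : Nonempty {y : G ⧸ E // K ≤ stabilizer G y} := by
    by_contra hne
    rw [not_nonempty_iff] at hne
    exact h Nat.card_of_isEmpty
  obtain ⟨⟨y, hy⟩⟩ := this
  induction y using QuotientGroup.induction_on with
  | H g => exact ⟨g, by rwa [stabilizer_coset] at hy⟩

/-- the normalizer of a subgroup -/
abbrev nz (K : Subgroup G) : Subgroup G := Subgroup.normalizer (K : Set G)

theorem mem_nz {K : Subgroup G} {x : G} : x ∈ nz K ↔ ∀ y, y ∈ K ↔ x * y * x⁻¹ ∈ K :=
  Subgroup.mem_normalizer_iff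

theorem le_nz (K : Subgroup G) : K ≤ nz K := Subgroup.le_normalizer

/-- `|N_G(K) : K|` -/
noncomputable def nidx (K : Subgroup G) : ℕ := (K.subgroupOf (nz K)).index

theorem nz_cj (g : G) (K : Subgroup G) : nz (cj g K) = cj g (nz K) := by
  ext x
  rw [mem_cj, mem_nz, mem_nz]
  constructor
  · intro h y
    have := h (g * y * g⁻¹)
    rw [mem_cj, mem_cj] at this
    convert this using 2 <;> group
  · intro h y
    rw [mem_cj, mem_cj]
    have := h (g⁻¹ * y * g)
    convert this using 2 <;> group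

theorem nidx_cj (g : G) (K : Subgroup G) : nidx (cj g K) = nidx K := by
  unfold nidx
  have hN := nz_cj g K
  let e : ↥(nz K) ≃* ↥(nz (cj g K)) :=
    { toFun := fun x => ⟨g * x.1 * g⁻¹, by rw [hN, mem_cj]; convert x.2 using 1; group⟩
      invFun := fun x => ⟨g⁻¹ * x.1 * g, by
        have h1 : (x : G) ∈ cj g (nz K) := hN ▸ x.2
        exact mem_cj.mp h1⟩
      left_inv := fun x => Subtype.ext (by show g⁻¹ * (g * x.1 * g⁻¹) * g = x.1; group)
      right_inv := fun x => Subtype.ext (by show g * (g⁻¹ * x.1 * g) * g⁻¹ = x.1; group)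
      map_mul' := fun x y => Subtype.ext (by
        show g * (x.1 * y.1) * g⁻¹ = (g * x.1 * g⁻¹) * (g * y.1 * g⁻¹); group) }
  have hmap : (K.subgroupOf (nz K)).map e.toMonoidHom = (cj g K).subgroupOf (nz (cj g K)) := by
    ext x
    rw [Subgroup.mem_map, Subgroup.mem_subgroupOf, mem_cj]
    constructor
    · rintro ⟨y, hy, rfl⟩
      rw [Subgroup.mem_subgroupOf] at hy
      show g⁻¹ * (g * y.1 * g⁻¹) * g ∈ K
      convert hy using 1; group
    · intro hx
      refine ⟨e.symm x, ?_, ?_⟩
      · rw [Subgroup.mem_subgroupOf]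
        exact hx
      · exact e.apply_symm_apply x
  rw [← hmap]
  exact Subgroup.index_map_equiv _ e

theorem cj_eq_self_iff [Finite G] (n : G) (K : Subgroup G) : cj n K = K ↔ n ∈ nz K := by
  constructor
  · intro h
    rw [mem_nz]
    intro y
    constructor
    · intro hy
      rw [← h, mem_cj]
      convert hy using 1; group
    · intro hy
      rw [← h, mem_cj] at hy
      convert hy using 1; group
  · intro h
    apply Subgroup.eq_of_le_of_card_ge
    · intro x hx
      rw [mem_cj] at hx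
      have := (mem_nz.mp h (n⁻¹ * x * n)).mp hx
      convert this using 1; group
    · exact (card_cj n K).ge

theorem mk_coset_eq_zero_of_card_lt [Finite G] (K E : Subgroup G) (h : Nat.card E < Nat.card K) :
    mk K (G ⧸ E) = 0 := by
  by_contra hne
  obtain ⟨g, hg⟩ := exists_le_cj_of_mk_ne_zero K E hne
  have := Subgroup.card_le_of_le hg
  rw [card_cj] at this
  omega

theorem mk_coset_eq_zero [Finite G] (K E : Subgroup G) (hc : Nat.card K = Nat.card E)
    (h : ¬ ∃ g, K = cj g E) : mk K (G ⧸ E) = 0 := by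
  by_contra hne
  obtain ⟨g, hg⟩ := exists_le_cj_of_mk_ne_zero K E hne
  exact h ⟨g, Subgroup.eq_of_le_of_card_ge hg (by rw [card_cj, hc])⟩

theorem mk_coset_of_eq_cj [Finite G] (K E : Subgroup G) (g : G) (hK : K = cj g E) :
    mk K (G ⧸ E) = nidx K := by
  classical
  set y₀ : G ⧸ E := ((g : G) : G ⧸ E) with hy₀
  have hst₀ : stabilizer G y₀ = K := by rw [hy₀, stabilizer_coset, hK]
  have hcard : ∀ y : G ⧸ E, Nat.card (stabilizer G y) = Nat.card K := by
    intro y
    induction y using QuotientGroup.induction_on with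
    | H h => rw [stabilizer_coset, card_cj, hK, card_cj]
  -- fixed points of K = points with stabilizer K = orbit of y₀ under the normalizer
  have h1 : mk K (G ⧸ E) = Nat.card {y : G ⧸ E // stabilizer G y = K} := by
    unfold mk
    apply Nat.card_congr
    refine Equiv.subtypeEquivRight (fun y => ?_)
    constructor
    · intro h
      exact (Subgroup.eq_of_le_of_card_ge h (hcard y).le).symm
    · intro h
      exact h ▸ le_rfl
  have h2 : {y : G ⧸ E | stabilizer G y = K} = orbit ↥(nz K) y₀ := by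
    ext y
    simp only [Set.mem_setOf_eq]
    constructor
    · intro hy
      obtain ⟨h, rfl⟩ := MulAction.exists_smul_eq G y₀ y
      rw [stabilizer_smul_eq_cj, hst₀, cj_eq_self_iff] at hy
      exact ⟨⟨h, hy⟩, rfl⟩
    · rintro ⟨n, rfl⟩
      show stabilizer G ((n : G) • y₀) = K
      rw [stabilizer_smul_eq_cj, hst₀, cj_eq_self_iff]
      exact n.2
  have h3 : stabilizer ↥(nz K) y₀ = K.subgroupOf (nz K) := by
    ext n
    rw [mem_stabilizer_iff, Subgroup.mem_subgroupOf]
    have : (n : G) ∈ K ↔ (n : G) ∈ stabilizer G y₀ := by rw [hst₀]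
    rw [this, mem_stabilizer_iff]
    rfl
  rw [h1]
  have h4 := MulAction.index_stabilizer ↥(nz K) y₀
  rw [h3] at h4
  unfold nidx
  rw [h4, ← h2]
  exact (Nat.card_coe_set_eq _)

end Coset

section Realize

variable {G : Type*} [Group G]

theorem stabilizer_sigma_mk {ι : Type*} {α : ι → Type*} [∀ i, MulAction G (α i)] (i : ι) (y : α i) :
    stabilizer G (⟨i, y⟩ : Σ i, α i) = stabilizer G y := by
  ext g
  rw [mem_stabilizer_iff, mem_stabilizer_iff, Sigma.smul_mk]
  constructor
  · intro h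
    exact eq_of_heq (Sigma.mk.inj h).2
  · intro h
    rw [h]

theorem mk_sigma {ι : Type*} [Fintype ι] {α : ι → Type*} [∀ i, MulAction G (α i)] [∀ i, Finite (α i)]
    (K : Subgroup G) : mk K (Σ i, α i) = ∑ i, mk K (α i) := by
  unfold mk
  rw [← Nat.card_sigma]
  apply Nat.card_congr
  refine ⟨fun x => ⟨x.1.1, ⟨x.1.2, ?_⟩⟩, fun x => ⟨⟨x.1, x.2.1⟩, ?_⟩, fun x => ?_, fun x => ?_⟩
  · have := x.2
    obtain ⟨⟨i, y⟩, hx⟩ := x
    rw [stabilizer_sigma_mk] at hx
    exact hx
  · rw [stabilizer_sigma_mk]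
    exact x.2.2
  · obtain ⟨⟨i, y⟩, hx⟩ := x
    rfl
  · obtain ⟨i, y, hy⟩ := x
    rfl

/-- index type of the disjoint union -/
abbrev Idx (c : Subgroup G → ℕ) : Type _ := Σ E : Subgroup G, Fin (c E)

/-- the `G`-set `⊔_E c(E) · (G/E)` -/
abbrev XS (c : Subgroup G → ℕ) : Type _ := Σ i : Idx c, G ⧸ i.1

theorem mk_XS [Finite G] [Fintype (Subgroup G)] (c : Subgroup G → ℕ) (K : Subgroup G) :
    mk K (XS c) = ∑ E : Subgroup G, c E * mk K (G ⧸ E) := by
  classical
  rw [mk_sigma, Fintype.sum_sigma]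
  apply Finset.sum_congr rfl
  intro E _
  show ∑ _y : Fin (c E), mk K (G ⧸ E) = c E * mk K (G ⧸ E)
  rw [Finset.sum_const, Finset.card_univ, Fintype.card_fin, smul_eq_mul]

theorem stabilizer_XS (c : Subgroup G → ℕ) (x : XS c) :
    ∃ (E : Subgroup G) (g : G), c E ≠ 0 ∧ stabilizer G x = cj g E := by
  obtain ⟨⟨E, i⟩, y⟩ := x
  induction y using QuotientGroup.induction_on with
  | H g =>
    refine ⟨E, g, ?_, ?_⟩
    · intro h
      rw [h] at i
      exact i.elim0
    · rw [stabilizer_sigma_mk]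
      exact stabilizer_coset E g

end Realize

end Cfsg.Agent.Lib.Helper27.BS
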