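import Cfsg.Agent.Lib.Helper27.BS3

/-!
# Stable extension of sets of cosets (helper27)

Abstract form of the construction of stable sets (Broto–Levi–Oliver, Reeh): given an equivalence relation `FC` on the
subgroups of a finite group `G` coarser than conjugacy, a family `ℋ` of subgroups closed under `FC` and under passing to
subgroups, and "normalizer maps" into a distinguished member of every class in `ℋ`, every formal sum of coset spaces
whose marks are `FC`-stable outside `ℋ` can be enlarged, by coset spaces `G/E` with `E ∈ ℋ`, to one whose marks are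
`FC`-stable everywhere.
-/

set_option autoImplicit false

namespace Cfsg.Agent.Lib.Helper27.BS

open MulAction

section CompHom

variable {N G : Type*} [Group N] [Group G]

theorem mk_compHom {X : Type*} [MulAction G X] (f : N →* G) (U : Subgroup N) :
    @mk N _ U X (MulAction.compHom X f) = mk (U.map f) X := by
  letI : MulAction N X := MulAction.compHom X f
  unfold mk
  apply Nat.card_congr
  refine Equiv.subtypeEquivRight (fun x => ?_)
  have hst : stabilizer N x = (stabilizer G x).comap f := by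
    ext n
    rw [mem_stabilizer_iff, Subgroup.mem_comap, mem_stabilizer_iff]
    rfl
  rw [hst, Subgroup.map_le_iff_le_comap]

end CompHom

section Stable

variable {G : Type*} [Group G] [Finite G] [Fintype (Subgroup G)]

/-- marks of the formal sum `c` of coset spaces -/
noncomputable def mc (c : Subgroup G → ℕ) (K : Subgroup G) : ℕ := ∑ E : Subgroup G, c E * mk K (G ⧸ E)

theorem mc_eq_mk_XS (c : Subgroup G → ℕ) (K : Subgroup G) : mc c K = mk K (XS c) := (mk_XS c K).symm

theorem mc_cj (c : Subgroup G → ℕ) (g : G) (K : Subgroup G) : mc c (cj g K) = mc c K := by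
  rw [mc_eq_mk_XS, mc_eq_mk_XS, mk_cj]

theorem mc_add (c a : Subgroup G → ℕ) (K : Subgroup G) : mc (fun E => c E + a E) K = mc c K + mc a K := by
  unfold mc
  rw [← Finset.sum_add_distrib]
  apply Finset.sum_congr rfl
  intro E _
  ring

/-- hypotheses of the stable extension theorem -/
structure StableData (FC : Subgroup G → Subgroup G → Prop) (ℋ : Set (Subgroup G)) : Prop where
  refl : ∀ K, FC K K
  symm : ∀ K K', FC K K' → FC K' K
  trans : ∀ K K' K'', FC K K' → FC K' K'' → FC K K''
  conj : ∀ K g, FC K (cj g K)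
  card : ∀ K K', FC K K' → Nat.card K = Nat.card K'
  closed : ∀ K K', K ∈ ℋ → FC K K' → K' ∈ ℋ
  down : ∀ K K', K ≤ K' → K' ∈ ℋ → K ∈ ℋ
  norm : ∀ K ∈ ℋ, ∃ K₀, FC K K₀ ∧ ∀ K', FC K' K₀ →
      ∃ ι : ↥(nz K') →* G, Function.Injective ι ∧ (K'.subgroupOf (nz K')).map ι = K₀ ∧
        ∀ U : Subgroup ↥(nz K'), FC (U.map (nz K').subtype) (U.map ι)

/-- stability of the marks of `c` at level `k` and outside `ℋ` -/
def StableAt (FC : Subgroup G → Subgroup G → Prop) (ℋ : Set (Subgroup G)) (c : Subgroup G → ℕ) (k : ℕ) : Prop :=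
  ∀ K K', FC K K' → (K ∉ ℋ ∨ k ≤ Nat.card K) → mc c K = mc c K'

theorem nidx_dvd_card (K : Subgroup G) : nidx K ∣ Nat.card G := by
  unfold nidx
  have h1 := Subgroup.index_dvd_card (K.subgroupOf (nz K))
  exact h1.trans (Subgroup.card_dvd_of_le le_top |>.trans (by rw [Subgroup.card_top]))

/-- the key congruence -/
theorem mc_modEq {FC : Subgroup G → Subgroup G → Prop} {ℋ : Set (Subgroup G)} (hD : StableData FC ℋ)
    (c : Subgroup G → ℕ) (k : ℕ) (hst : StableAt FC ℋ c (k + 1)) {K' K₀ : Subgroup G} (hk : Nat.card K' = k)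
    (ι : ↥(nz K') →* G) (hι : Function.Injective ι) (hmap : (K'.subgroupOf (nz K')).map ι = K₀)
    (hFC : ∀ U : Subgroup ↥(nz K'), FC (U.map (nz K').subtype) (U.map ι)) :
    mc c K' ≡ mc c K₀ [MOD nidx K'] := by
  classical
  set D : Subgroup ↥(nz K') := K'.subgroupOf (nz K') with hDdef
  haveI hDn : D.Normal := Subgroup.normal_in_normalizer
  have hD1 : D.map (nz K').subtype = K' := by
    rw [hDdef, Subgroup.subgroupOf_map_subtype]
    exact inf_eq_left.mpr (le_nz K')
  have hcardD : Nat.card D = k := by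
    rw [← hk]
    have := Subgroup.card_map_of_injective (K := D) (nz K').subtype_injective
    rw [hD1] at this
    exact this.symm
  have key := @mk_modEq_of_forall_lt ↥(nz K') _ _ (XS c) (XS c) (MulAction.compHom (XS c) (nz K').subtype)
    (MulAction.compHom (XS c) ι) _ _ D hDn (by
      intro U hDU
      rw [mk_compHom, mk_compHom, ← mc_eq_mk_XS, ← mc_eq_mk_XS]
      apply hst _ _ (hFC U)
      right
      rw [Subgroup.card_map_of_injective (nz K').subtype_injective]
      have hlt : Nat.card D < Nat.card U := by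
        rcases lt_or_eq_of_le (Subgroup.card_le_of_le hDU.le) with h | h
        · exact h
        · exact absurd (Subgroup.eq_of_le_of_card_ge hDU.le h.ge) hDU.ne
      omega)
  rw [mk_compHom, mk_compHom, hD1, hmap, ← mc_eq_mk_XS, ← mc_eq_mk_XS] at key
  exact key

/-- conjugacy of subgroups -/
def conjS (G : Type*) [Group G] : Setoid (Subgroup G) where
  r K K' := ∃ g, K' = cj g K
  iseqv := ⟨fun K => ⟨1, (cj_one K).symm⟩,
    fun {K K'} ⟨g, h⟩ => ⟨g⁻¹, by rw [h, ← cj_mul, inv_mul_cancel, cj_one]⟩,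
    fun {K K' K''} ⟨g, h⟩ ⟨g', h'⟩ => ⟨g' * g, by rw [h', h, cj_mul]⟩⟩

/-- a representative of the conjugacy class of `K` -/
noncomputable def rep (K : Subgroup G) : Subgroup G := (Quotient.mk (conjS G) K).out

theorem rep_spec (K : Subgroup G) : ∃ g, K = cj g (rep K) := by
  have h : (conjS G).r (rep K) K := Quotient.mk_out (s := conjS G) K
  exact h

theorem rep_cj (g : G) (K : Subgroup G) : rep (cj g K) = rep K := by
  unfold rep
  congr 1
  apply Quotient.sound
  exact (conjS G).iseqv.symm ⟨g, rfl⟩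

theorem rep_rep (K : Subgroup G) : rep (rep K) = rep K := by
  obtain ⟨g, hg⟩ := rep_spec K
  conv_rhs => rw [hg, rep_cj]

theorem stable_step {FC : Subgroup G → Subgroup G → Prop} {ℋ : Set (Subgroup G)} (hD : StableData FC ℋ)
    (c : Subgroup G → ℕ) (k : ℕ) (hst : StableAt FC ℋ c (k + 1)) :
    ∃ c' : Subgroup G → ℕ, (∀ E, E ∉ ℋ → c' E = c E) ∧ StableAt FC ℋ c' k := by
  classical
  -- the target values
  let Sv : Subgroup G → Set ℕ := fun K => {v | ∀ K', FC K K' → mc c K' ≤ v ∧ mc c K' ≡ v [MOD nidx K']}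
  let v : Subgroup G → ℕ := fun K => sInf (Sv K)
  have hne : ∀ K : Subgroup G, K ∈ ℋ → Nat.card K = k → (Sv K).Nonempty := by
    intro K hK hKk
    obtain ⟨K₀, hKK₀, hnorm⟩ := hD.norm K hK
    refine ⟨mc c K₀ + (∑ K' : Subgroup G, mc c K') * Nat.card G, fun K' hKK' => ?_⟩
    have hK'K₀ : FC K' K₀ := hD.trans _ _ _ (hD.symm _ _ hKK') hKK₀
    obtain ⟨ι, hι, hmap, hFC⟩ := hnorm K' hK'K₀
    have hK'k : Nat.card K' = k := by rw [← hD.card K K' hKK', hKk]
    have hmod := mc_modEq hD c k hst hK'k ι hι hmap hFC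
    constructor
    · have h1 : mc c K' ≤ ∑ K'' : Subgroup G, mc c K'' :=
        Finset.single_le_sum (f := fun K'' => mc c K'') (fun _ _ => Nat.zero_le _) (Finset.mem_univ K')
      have h2 : 1 ≤ Nat.card G := Nat.card_pos
      nlinarith
    · refine hmod.trans ?_
      have hdvd : nidx K' ∣ (∑ K' : Subgroup G, mc c K') * Nat.card G :=
        Dvd.dvd.mul_left (nidx_dvd_card K') _
      have : mc c K₀ + (∑ K' : Subgroup G, mc c K') * Nat.card G ≡ mc c K₀ + 0 [MOD nidx K'] :=
        Nat.ModEq.add_left _ ((Nat.modEq_zero_iff_dvd).mpr hdvd)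
      exact this.symm
  have hv_spec : ∀ K : Subgroup G, K ∈ ℋ → Nat.card K = k → ∀ K', FC K K' →
      mc c K' ≤ v K ∧ mc c K' ≡ v K [MOD nidx K'] := fun K hK hKk => Nat.sInf_mem (hne K hK hKk)
  have hv_class : ∀ K K₁, FC K K₁ → v K = v K₁ := by
    intro K K₁ h
    have : Sv K = Sv K₁ := by
      ext w
      constructor
      · intro hw K' hK'
        exact hw K' (hD.trans _ _ _ h hK')
      · intro hw K' hK'
        exact hw K' (hD.trans _ _ _ (hD.symm _ _ h) hK')
    show sInf (Sv K) = sInf (Sv K₁)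
    rw [this]
  -- the added multiplicities
  let a : Subgroup G → ℕ := fun E =>
    if E ∈ ℋ ∧ Nat.card E = k ∧ rep E = E then (v E - mc c E) / nidx E else 0
  have ha_ne : ∀ E, a E ≠ 0 → E ∈ ℋ ∧ Nat.card E = k ∧ rep E = E := by
    intro E hE
    by_contra hcon
    exact hE (if_neg hcon)
  have hA1 : ∀ K : Subgroup G, K ∉ ℋ → mc a K = 0 := by
    intro K hK
    unfold mc
    apply Finset.sum_eq_zero
    intro E _
    by_cases haE : a E = 0
    · rw [haE, zero_mul]
    · obtain ⟨hEℋ, _, _⟩ := ha_ne E haE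
      have : mk K (G ⧸ E) = 0 := by
        by_contra hne0
        obtain ⟨g, hg⟩ := exists_le_cj_of_mk_ne_zero K E hne0
        exact hK (hD.down _ _ hg (hD.closed _ _ hEℋ (hD.conj E g)))
      rw [this, mul_zero]
  have hA2 : ∀ K : Subgroup G, k < Nat.card K → mc a K = 0 := by
    intro K hK
    unfold mc
    apply Finset.sum_eq_zero
    intro E _
    by_cases haE : a E = 0
    · rw [haE, zero_mul]
    · obtain ⟨_, hEk, _⟩ := ha_ne E haE
      rw [mk_coset_eq_zero_of_card_lt K E (by omega), mul_zero]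
  have hA3 : ∀ K : Subgroup G, K ∈ ℋ → Nat.card K = k → mc a K = v K - mc c K := by
    intro K hK hKk
    obtain ⟨g, hg⟩ := rep_spec K
    have hFCrep : FC K (rep K) := by
      have := hD.conj (rep K) g
      rw [← hg] at this
      exact hD.symm _ _ this
    have hrepℋ : rep K ∈ ℋ := hD.closed _ _ hK hFCrep
    have hrepk : Nat.card (rep K) = k := by rw [← hD.card _ _ hFCrep, hKk]
    unfold mc
    rw [Finset.sum_eq_single (rep K)]
    · have haval : a (rep K) = (v (rep K) - mc c (rep K)) / nidx (rep K) :=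
        if_pos ⟨hrepℋ, hrepk, rep_rep K⟩
      rw [haval, mk_coset_of_eq_cj K (rep K) g hg, ← hv_class K (rep K) hFCrep]
      have h1 : mc c (rep K) = mc c K := by
        conv_rhs => rw [hg, mc_cj]
      have h2 : nidx (rep K) = nidx K := by
        conv_rhs => rw [hg, nidx_cj]
      rw [h1, h2]
      obtain ⟨hle, hmod⟩ := hv_spec K hK hKk K (hD.refl K)
      exact Nat.div_mul_cancel ((Nat.modEq_iff_dvd' hle).mp hmod)
    · intro E _ hE
      by_cases haE : a E = 0
      · rw [haE, zero_mul]
      · obtain ⟨_, hEk, hErep⟩ := ha_ne E haE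
        have : mk K (G ⧸ E) = 0 := by
          apply mk_coset_eq_zero K E (by rw [hKk, hEk])
          rintro ⟨g', hg'⟩
          apply hE
          rw [← hErep, hg', rep_cj]
        rw [this, mul_zero]
    · intro h
      exact absurd (Finset.mem_univ _) h
  refine ⟨fun E => c E + a E, fun E hE => ?_, ?_⟩
  · have : a E = 0 := by
      by_contra h
      exact hE (ha_ne E h).1
    show c E + a E = c E
    rw [this, add_zero]
  · intro K K' hKK' hcond
    rw [mc_add, mc_add]
    by_cases hK : K ∈ ℋ
    · have hK' : K' ∈ ℋ := hD.closed _ _ hK hKK'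
      have hcard := hD.card _ _ hKK'
      have hkle : k ≤ Nat.card K := by
        rcases hcond with h | h
        · exact absurd hK h
        · exact h
      rcases lt_or_eq_of_le hkle with hlt | heq
      · rw [hA2 K hlt, hA2 K' (by rw [← hcard]; exact hlt), hst K K' hKK' (Or.inr hlt)]
      · have hKk : Nat.card K = k := heq.symm
        have hK'k : Nat.card K' = k := by rw [← hcard, hKk]
        rw [hA3 K hK hKk, hA3 K' hK' hK'k]
        have h1 := (hv_spec K hK hKk K (hD.refl K)).1
        have h2 := (hv_spec K' hK' hK'k K' (hD.refl K')).1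
        have h3 := hv_class K K' hKK'
        omega
    · have hK' : K' ∉ ℋ := fun h => hK (hD.closed _ _ h (hD.symm _ _ hKK'))
      rw [hA1 K hK, hA1 K' hK', hst K K' hKK' (Or.inl hK)]

/-- **Stable extension theorem.** -/
theorem stable_extension {FC : Subgroup G → Subgroup G → Prop} {ℋ : Set (Subgroup G)} (hD : StableData FC ℋ)
    (c₀ : Subgroup G → ℕ) (h₀ : ∀ K K', FC K K' → K ∉ ℋ → mc c₀ K = mc c₀ K') :
    ∃ c : Subgroup G → ℕ, (∀ E, E ∉ ℋ → c E = c₀ E) ∧ ∀ K K', FC K K' → mc c K = mc c K' := by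
  have key : ∀ j : ℕ, ∃ c : Subgroup G → ℕ, (∀ E, E ∉ ℋ → c E = c₀ E) ∧
      StableAt FC ℋ c (Nat.card G + 1 - j) := by
    intro j
    induction j with
    | zero =>
      refine ⟨c₀, fun _ _ => rfl, fun K K' hKK' hcond => ?_⟩
      rcases hcond with h | h
      · exact h₀ K K' hKK' h
      · have := Subgroup.card_le_card_group K
        omega
    | succ j ih =>
      obtain ⟨c, hc, hst⟩ := ih
      by_cases hj : j < Nat.card G + 1
      · have e : Nat.card G + 1 - j = (Nat.card G + 1 - (j + 1)) + 1 := by omega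
        rw [e] at hst
        obtain ⟨c', hc', hst'⟩ := stable_step hD c _ hst
        exact ⟨c', fun E hE => (hc' E hE).trans (hc E hE), hst'⟩
      · have e : Nat.card G + 1 - (j + 1) = Nat.card G + 1 - j := by omega
        rw [e]
        exact ⟨c, hc, hst⟩
  obtain ⟨c, hc, hst⟩ := key (Nat.card G + 1)
  refine ⟨c, hc, fun K K' hKK' => hst K K' hKK' (Or.inr ?_)⟩
  omega

end Stable

end Cfsg.Agent.Lib.Helper27.BS
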