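import Cfsg.Agent.Lib.Helper26.FSNormalizerConstrained
import Cfsg.Agent.Lib.Helper26.FSSatEquiv

/-!
Maps of a fusion system as partial self-maps of the ambient group `Ω` (bookkeeping layer that works across
systems over different subgroups of `Ω`).
-/

set_option autoImplicit false
set_option linter.unusedSectionVars false
set_option linter.unusedVariables false

namespace Cfsg.Agent.Lib.Helper27.FM

open Cfsg Cfsg.FusionSystem Cfsg.Agent.Lib.Helper26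

variable {Ω : Type*} [Group Ω] {S : Subgroup Ω}

/-- `θ` restricted to the subgroup `P` is a map of the system. -/
def IsFM (F : FusionSystem S) (P : Subgroup Ω) (θ : Ω → Ω) : Prop :=
  ∃ φ ∈ F.Hom P, ∀ x : P, φ x = θ x

theorem IsFM.le {F : FusionSystem S} {P : Subgroup Ω} {θ : Ω → Ω} (h : IsFM F P θ) : P ≤ S := by
  obtain ⟨φ, hφ, -⟩ := h
  exact hom_le F hφ

theorem IsFM.mem {F : FusionSystem S} {P : Subgroup Ω} {θ : Ω → Ω} (h : IsFM F P θ) {x : Ω} (hx : x ∈ P) :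
    θ x ∈ S := by
  obtain ⟨φ, hφ, he⟩ := h
  rw [← he ⟨x, hx⟩]
  exact hom_apply_mem F hφ _

theorem IsFM.map_mul {F : FusionSystem S} {P : Subgroup Ω} {θ : Ω → Ω} (h : IsFM F P θ) {x y : Ω}
    (hx : x ∈ P) (hy : y ∈ P) : θ (x * y) = θ x * θ y := by
  obtain ⟨φ, -, he⟩ := h
  have h1 := he ⟨x * y, P.mul_mem hx hy⟩
  have h2 := he ⟨x, hx⟩
  have h3 := he ⟨y, hy⟩
  have h4 : φ ⟨x * y, P.mul_mem hx hy⟩ = φ ⟨x, hx⟩ * φ ⟨y, hy⟩ := φ.map_mul ⟨x, hx⟩ ⟨y, hy⟩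
  rw [h1, h2, h3] at h4
  exact h4

theorem IsFM.map_one {F : FusionSystem S} {P : Subgroup Ω} {θ : Ω → Ω} (h : IsFM F P θ) : θ 1 = 1 := by
  obtain ⟨φ, -, he⟩ := h
  have := he 1
  rw [_root_.map_one] at this
  exact this.symm

theorem IsFM.map_inv {F : FusionSystem S} {P : Subgroup Ω} {θ : Ω → Ω} (h : IsFM F P θ) {x : Ω}
    (hx : x ∈ P) : θ x⁻¹ = (θ x)⁻¹ := by
  have := h.map_mul (P.inv_mem hx) hx
  rw [inv_mul_cancel, h.map_one] at this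
  exact eq_inv_of_mul_eq_one_left this.symm

theorem IsFM.injOn {F : FusionSystem S} {P : Subgroup Ω} {θ : Ω → Ω} (h : IsFM F P θ) {x y : Ω}
    (hx : x ∈ P) (hy : y ∈ P) (hxy : θ x = θ y) : x = y := by
  obtain ⟨φ, hφ, he⟩ := h
  have h1 : φ ⟨x, hx⟩ = φ ⟨y, hy⟩ := by rw [he, he]; exact hxy
  exact congrArg Subtype.val (F.injective_of_mem hφ h1)

theorem IsFM.congr {F : FusionSystem S} {P : Subgroup Ω} {θ θ' : Ω → Ω} (h : IsFM F P θ)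
    (he : ∀ x ∈ P, θ x = θ' x) : IsFM F P θ' := by
  obtain ⟨φ, hφ, h1⟩ := h
  exact ⟨φ, hφ, fun x => by rw [h1, he x x.2]⟩

theorem IsFM.mono {F : FusionSystem S} {P P' : Subgroup Ω} {θ : Ω → Ω} (h : IsFM F P θ) (hle : P' ≤ P) :
    IsFM F P' θ := by
  obtain ⟨φ, hφ, h1⟩ := h
  exact ⟨φ.comp (Subgroup.inclusion hle), inclusion_comp_mem F hle hφ, fun x => h1 _⟩

theorem IsFM.of_eq {F : FusionSystem S} {P P' : Subgroup Ω} {θ : Ω → Ω} (h : IsFM F P θ) (he : P' = P) :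
    IsFM F P' θ := h.mono he.le

theorem isFM_id (F : FusionSystem S) {P : Subgroup Ω} (hP : P ≤ S) : IsFM F P (fun x => x) :=
  ⟨P.subtype, subtype_mem F hP, fun _ => rfl⟩

theorem isFM_conj (F : FusionSystem S) {P : Subgroup Ω} (hP : P ≤ S) {s : Ω} (hs : s ∈ S) :
    IsFM F P (fun x => s * x * s⁻¹) :=
  ⟨conjHom P s, F.conj_mem hP hs, fun _ => rfl⟩

theorem IsFM.comp {F : FusionSystem S} {P P' : Subgroup Ω} {θ θ' : Ω → Ω} (h : IsFM F P θ)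
    (h' : IsFM F P' θ') (hPP' : ∀ x ∈ P, θ x ∈ P') : IsFM F P (fun x => θ' (θ x)) := by
  obtain ⟨φ, hφ, h1⟩ := h
  obtain ⟨φ', hφ', h1'⟩ := h'
  have hval : ∀ x : P, φ x ∈ P' := fun x => by rw [h1]; exact hPP' x x.2
  refine ⟨φ'.comp (φ.codRestrict P' hval), F.comp_mem hφ hφ' hval, fun x => ?_⟩
  rw [MonoidHom.comp_apply, h1']
  show θ' (φ x) = _
  rw [h1]

/-- The partial map attached to a homomorphism. -/
noncomputable def ofHom {P : Subgroup Ω} (φ : P →* Ω) : Ω → Ω := by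
  classical
  exact fun x => if hx : x ∈ P then φ ⟨x, hx⟩ else 1

theorem ofHom_apply {P : Subgroup Ω} (φ : P →* Ω) (x : P) : ofHom φ x = φ x := by
  classical
  unfold ofHom
  simp only [dif_pos x.2]

theorem ofHom_apply' {P : Subgroup Ω} (φ : P →* Ω) {x : Ω} (hx : x ∈ P) : ofHom φ x = φ ⟨x, hx⟩ :=
  ofHom_apply φ ⟨x, hx⟩

theorem isFM_ofHom {F : FusionSystem S} {P : Subgroup Ω} {φ : P →* Ω} (hφ : φ ∈ F.Hom P) :
    IsFM F P (ofHom φ) :=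
  ⟨φ, hφ, fun x => (ofHom_apply φ x).symm⟩

theorem IsFM.hom_mem {F : FusionSystem S} {P : Subgroup Ω} {θ : Ω → Ω} (h : IsFM F P θ) (φ : P →* Ω)
    (he : ∀ x : P, φ x = θ x) : φ ∈ F.Hom P := by
  obtain ⟨ψ, hψ, h1⟩ := h
  have : φ = ψ := by
    ext x
    rw [he, h1]
  rw [this]
  exact hψ

theorem isFM_ofHom_iff {F : FusionSystem S} {P : Subgroup Ω} {φ : P →* Ω} :
    IsFM F P (ofHom φ) ↔ φ ∈ F.Hom P :=
  ⟨fun h => h.hom_mem φ (fun x => (ofHom_apply φ x).symm), isFM_ofHom⟩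

/-- Image of a subgroup under a partial map that is multiplicative on it. -/
def IsImage (P : Subgroup Ω) (θ : Ω → Ω) (P' : Subgroup Ω) : Prop :=
  ∀ y, y ∈ P' ↔ ∃ x ∈ P, θ x = y

theorem IsFM.exists_image {F : FusionSystem S} {P : Subgroup Ω} {θ : Ω → Ω} (h : IsFM F P θ) :
    ∃ P' : Subgroup Ω, IsImage P θ P' := by
  obtain ⟨φ, hφ, h1⟩ := h
  refine ⟨φ.range, fun y => ?_⟩
  constructor
  · rintro ⟨x, rfl⟩
    exact ⟨x, x.2, (h1 x).symm⟩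
  · rintro ⟨x, hx, rfl⟩
    exact ⟨⟨x, hx⟩, h1 ⟨x, hx⟩⟩

theorem IsFM.exists_image_of_le {F : FusionSystem S} {P : Subgroup Ω} {θ : Ω → Ω} (h : IsFM F P θ)
    {P₁ : Subgroup Ω} (hle : P₁ ≤ P) : ∃ P' : Subgroup Ω, IsImage P₁ θ P' :=
  (h.mono hle).exists_image

theorem IsImage.mem {P P' : Subgroup Ω} {θ : Ω → Ω} (h : IsImage P θ P') {x : Ω} (hx : x ∈ P) : θ x ∈ P' :=
  (h _).mpr ⟨x, hx, rfl⟩

theorem IsImage.le_of_forall {P P' X : Subgroup Ω} {θ : Ω → Ω} (h : IsImage P θ P')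
    (hX : ∀ x ∈ P, θ x ∈ X) : P' ≤ X := by
  intro y hy
  obtain ⟨x, hx, rfl⟩ := (h y).mp hy
  exact hX x hx

theorem IsImage.unique {P P' P'' : Subgroup Ω} {θ : Ω → Ω} (h : IsImage P θ P') (h' : IsImage P θ P'') :
    P' = P'' := by
  ext y
  rw [h y, h' y]

theorem IsImage.congr {P P' : Subgroup Ω} {θ θ' : Ω → Ω} (h : IsImage P θ P')
    (he : ∀ x ∈ P, θ x = θ' x) : IsImage P θ' P' := by
  intro y
  rw [h y]
  constructor
  · rintro ⟨x, hx, rfl⟩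
    exact ⟨x, hx, (he x hx).symm⟩
  · rintro ⟨x, hx, rfl⟩
    exact ⟨x, hx, he x hx⟩

theorem IsFM.isImage_le {F : FusionSystem S} {P P' : Subgroup Ω} {θ : Ω → Ω} (h : IsFM F P θ)
    (hi : IsImage P θ P') : P' ≤ S :=
  hi.le_of_forall (fun _ hx => h.mem hx)

theorem IsFM.card_image {F : FusionSystem S} {P P' : Subgroup Ω} {θ : Ω → Ω} (h : IsFM F P θ)
    (hi : IsImage P θ P') : Nat.card P' = Nat.card P := by
  symm
  apply Nat.card_congr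
  refine Equiv.ofBijective (fun x : P => (⟨θ x, hi.mem x.2⟩ : P')) ⟨?_, ?_⟩
  · intro x y hxy
    have : θ x = θ y := congrArg Subtype.val hxy
    exact Subtype.ext (h.injOn x.2 y.2 this)
  · rintro ⟨y, hy⟩
    obtain ⟨x, hx, rfl⟩ := (hi y).mp hy
    exact ⟨⟨x, hx⟩, rfl⟩

/-- The inverse of a map of the system. -/
theorem IsFM.exists_inverse {F : FusionSystem S} {P P' : Subgroup Ω} {θ : Ω → Ω} (h : IsFM F P θ)
    (hi : IsImage P θ P') :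
    ∃ θ' : Ω → Ω, IsFM F P' θ' ∧ IsImage P' θ' P ∧ (∀ x ∈ P, θ' (θ x) = x) ∧ ∀ y ∈ P', θ (θ' y) = y := by
  classical
  obtain ⟨φ, hφ, h1⟩ := h
  obtain ⟨ψ, hψ, h2⟩ := F.inv_mem hφ
  have hrange : φ.range = P' := by
    ext y
    rw [hi y]
    constructor
    · rintro ⟨x, rfl⟩
      exact ⟨x, x.2, (h1 x).symm⟩
    · rintro ⟨x, hx, rfl⟩
      exact ⟨⟨x, hx⟩, h1 ⟨x, hx⟩⟩
  have hψ' := hom_congr F hrange hψ
  have hkey : ∀ x : P, ofHom (ψ.comp (Subgroup.inclusion hrange.ge)) (θ x) = x := by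
    intro x
    have hmem : θ x ∈ P' := hi.mem x.2
    rw [ofHom_apply' _ hmem, MonoidHom.comp_apply]
    have e : (Subgroup.inclusion hrange.ge ⟨θ x, hmem⟩ : ↥φ.range) = ⟨φ x, ⟨x, rfl⟩⟩ :=
      Subtype.ext (h1 x).symm
    rw [e, h2]
  refine ⟨ofHom (ψ.comp (Subgroup.inclusion hrange.ge)), isFM_ofHom hψ', ?_, fun x hx => hkey ⟨x, hx⟩, ?_⟩
  · intro x
    constructor
    · intro hx
      exact ⟨θ x, hi.mem hx, hkey ⟨x, hx⟩⟩
    · rintro ⟨y, hy, rfl⟩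
      obtain ⟨x, hx, rfl⟩ := (hi y).mp hy
      rw [hkey ⟨x, hx⟩]
      exact hx
  · intro y hy
    obtain ⟨x, hx, rfl⟩ := (hi y).mp hy
    rw [hkey ⟨x, hx⟩]

/-- A partial map that is multiplicative on `P` maps joins into subgroups containing the images. -/
theorem IsFM.map_sup_mem {F : FusionSystem S} {P : Subgroup Ω} {θ : Ω → Ω} (h : IsFM F P θ)
    {P₁ P₂ X : Subgroup Ω} (h₁ : P₁ ≤ P) (h₂ : P₂ ≤ P) (hX₁ : ∀ x ∈ P₁, θ x ∈ X) (hX₂ : ∀ x ∈ P₂, θ x ∈ X) :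
    ∀ x ∈ P₁ ⊔ P₂, θ x ∈ X := by
  have hle : P₁ ⊔ P₂ ≤ P := sup_le h₁ h₂
  let Y : Subgroup Ω :=
    { carrier := {x | x ∈ P ∧ θ x ∈ X}
      one_mem' := ⟨P.one_mem, by rw [h.map_one]; exact X.one_mem⟩
      mul_mem' := by
        rintro a b ⟨ha, ha'⟩ ⟨hb, hb'⟩
        exact ⟨P.mul_mem ha hb, by rw [h.map_mul ha hb]; exact X.mul_mem ha' hb'⟩
      inv_mem' := by
        rintro a ⟨ha, ha'⟩
        exact ⟨P.inv_mem ha, by rw [h.map_inv ha]; exact X.inv_mem ha'⟩ }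
  have hY : P₁ ⊔ P₂ ≤ Y := sup_le (fun x hx => ⟨h₁ hx, hX₁ x hx⟩) (fun x hx => ⟨h₂ hx, hX₂ x hx⟩)
  intro x hx
  exact (hY hx).2

/-- Image of a join. -/
theorem IsFM.isImage_sup {F : FusionSystem S} {P : Subgroup Ω} {θ : Ω → Ω} (h : IsFM F P θ)
    {P₁ P₂ P₁' P₂' : Subgroup Ω} (h₁ : P₁ ≤ P) (h₂ : P₂ ≤ P) (hi₁ : IsImage P₁ θ P₁') (hi₂ : IsImage P₂ θ P₂') :
    IsImage (P₁ ⊔ P₂) θ (P₁' ⊔ P₂') := by
  obtain ⟨R, hR⟩ := h.exists_image_of_le (sup_le h₁ h₂)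
  have h1 : R ≤ P₁' ⊔ P₂' := hR.le_of_forall
    (h.map_sup_mem h₁ h₂ (fun x hx => (le_sup_left : P₁' ≤ _) (hi₁.mem hx))
      (fun x hx => (le_sup_right : P₂' ≤ _) (hi₂.mem hx)))
  have h2 : P₁' ⊔ P₂' ≤ R := by
    apply sup_le
    · exact hi₁.le_of_forall (fun x hx => hR.mem ((le_sup_left : P₁ ≤ _) hx))
    · exact hi₂.le_of_forall (fun x hx => hR.mem ((le_sup_right : P₂ ≤ _) hx))
  have : R = P₁' ⊔ P₂' := le_antisymm h1 h2
  rw [← this]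
  exact hR

theorem isConj_iff_isFM (F : FusionSystem S) {P Q : Subgroup Ω} :
    F.IsConj P Q ↔ ∃ θ, IsFM F P θ ∧ IsImage P θ Q := by
  constructor
  · rintro ⟨φ, hφ, hr⟩
    refine ⟨ofHom φ, isFM_ofHom hφ, fun y => ?_⟩
    rw [← hr]
    constructor
    · rintro ⟨x, rfl⟩
      exact ⟨x, x.2, ofHom_apply φ x⟩
    · rintro ⟨x, hx, rfl⟩
      exact ⟨⟨x, hx⟩, (ofHom_apply' φ hx).symm⟩
  · rintro ⟨θ, ⟨φ, hφ, h1⟩, hi⟩
    refine ⟨φ, hφ, ?_⟩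
    ext y
    rw [hi y]
    constructor
    · rintro ⟨x, rfl⟩
      exact ⟨x, x.2, (h1 x).symm⟩
    · rintro ⟨x, hx, rfl⟩
      exact ⟨⟨x, hx⟩, h1 ⟨x, hx⟩⟩

/-- An injective self-map of a finite subgroup is onto. -/
theorem IsFM.isImage_self_of_forall_mem {F : FusionSystem S} {P Q : Subgroup Ω} {θ : Ω → Ω} (h : IsFM F P θ)
    (hQP : Q ≤ P) [Finite Q] (hQ : ∀ x ∈ Q, θ x ∈ Q) : IsImage Q θ Q := by
  intro y
  constructor
  · intro hy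
    have hinj : Function.Injective (fun x : Q => (⟨θ x, hQ x x.2⟩ : Q)) := by
      intro a b hab
      have : θ a = θ b := congrArg Subtype.val hab
      exact Subtype.ext (h.injOn (hQP a.2) (hQP b.2) this)
    obtain ⟨x, hx⟩ := (Finite.injective_iff_surjective.mp hinj) ⟨y, hy⟩
    exact ⟨x, x.2, congrArg Subtype.val hx⟩
  · rintro ⟨x, hx, rfl⟩
    exact hQ x hx

end Cfsg.Agent.Lib.Helper27.FM
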