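import Cfsg.Agent.Lib.Helper27.BS4
import Cfsg.Agent.Lib.Helper27.FMBasic
import Cfsg.Agent.Lib.Helper26.FSSylow

/-!
# Saturated fusion systems give stable data (helper27)
-/

set_option autoImplicit false

namespace Cfsg.Agent.Lib.Helper27.BS

open Cfsg Cfsg.FusionSystem Cfsg.Agent.Lib.Helper26 Cfsg.Agent.Lib.Helper27.FM MulAction

section Fusion

variable {𝔒 : Type*} [Group 𝔒] {𝔖 : Subgroup 𝔒}

/-- a subgroup of `↥𝔖` as a subgroup of the ambient group -/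
def up (K : Subgroup ↥𝔖) : Subgroup 𝔒 := K.map 𝔖.subtype

theorem up_le (K : Subgroup ↥𝔖) : up K ≤ 𝔖 := by
  rintro _ ⟨x, _, rfl⟩
  exact x.2

theorem mem_up {K : Subgroup ↥𝔖} {x : 𝔒} : x ∈ up K ↔ ∃ h : x ∈ 𝔖, (⟨x, h⟩ : ↥𝔖) ∈ K := by
  constructor
  · rintro ⟨y, hy, rfl⟩
    exact ⟨y.2, hy⟩
  · rintro ⟨h, hx⟩
    exact ⟨⟨x, h⟩, hx, rfl⟩

theorem coe_mem_up {K : Subgroup ↥𝔖} {x : ↥𝔖} : (x : 𝔒) ∈ up K ↔ x ∈ K := by
  rw [mem_up]
  constructor
  · rintro ⟨_, hx⟩; exact hx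
  · intro hx; exact ⟨x.2, hx⟩

theorem up_le_up {K K' : Subgroup ↥𝔖} : up K ≤ up K' ↔ K ≤ K' := by
  constructor
  · intro h x hx
    exact coe_mem_up.mp (h (coe_mem_up.mpr hx))
  · intro h
    exact Subgroup.map_mono h

theorem up_injective {K K' : Subgroup ↥𝔖} (h : up K = up K') : K = K' :=
  le_antisymm (up_le_up.mp h.le) (up_le_up.mp h.ge)

theorem card_up (K : Subgroup ↥𝔖) : Nat.card (up K) = Nat.card K :=
  Subgroup.card_map_of_injective 𝔖.subtype_injective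

theorem up_subgroupOf {Q : Subgroup 𝔒} (hQ : Q ≤ 𝔖) : up (Q.subgroupOf 𝔖) = Q := by
  unfold up
  rw [Subgroup.subgroupOf_map_subtype]
  exact inf_eq_left.mpr hQ

theorem coe_mem_normalizer_up {K : Subgroup ↥𝔖} {n : ↥𝔖} :
    (n : 𝔒) ∈ Subgroup.normalizer ((up K : Subgroup 𝔒) : Set 𝔒) ↔ n ∈ nz K := by
  constructor
  · intro h
    apply mem_nz.mpr
    intro y
    have := Subgroup.mem_normalizer_iff.mp h (y : 𝔒)
    constructor
    · intro hy
      exact coe_mem_up.mp (this.mp (coe_mem_up.mpr hy))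
    · intro hy
      exact coe_mem_up.mp (this.mpr (coe_mem_up.mpr hy))
  · intro h
    have h' := mem_nz.mp h
    apply Subgroup.mem_normalizer_iff.mpr
    intro y
    constructor
    · intro hy
      obtain ⟨hyS, hyK⟩ := mem_up.mp hy
      have := (h' ⟨y, hyS⟩).mp hyK
      exact coe_mem_up.mpr this
    · intro hy
      have hyS : y ∈ 𝔖 := by
        have h1 := up_le K hy
        have : y = (n : 𝔒)⁻¹ * ((n : 𝔒) * y * (n : 𝔒)⁻¹) * (n : 𝔒) := by group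
        rw [this]
        exact 𝔖.mul_mem (𝔖.mul_mem (𝔖.inv_mem n.2) h1) n.2
      have h2 : n * ⟨y, hyS⟩ * n⁻¹ ∈ K := by
        apply coe_mem_up.mp
        exact hy
      exact coe_mem_up.mpr ((h' ⟨y, hyS⟩).mpr h2)

/-- conjugacy in the fusion system, for subgroups of `↥𝔖` -/
def FC (𝔉 : FusionSystem 𝔖) (K K' : Subgroup ↥𝔖) : Prop := 𝔉.IsConj (up K) (up K')

theorem FC_cj (𝔉 : FusionSystem 𝔖) (K : Subgroup ↥𝔖) (g : ↥𝔖) : FC 𝔉 K (cj g K) := by
  unfold FC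
  rw [isConj_iff_isFM]
  refine ⟨fun x => (g : 𝔒) * x * (g : 𝔒)⁻¹, isFM_conj 𝔉 (up_le K) g.2, fun y => ?_⟩
  constructor
  · intro hy
    obtain ⟨hyS, hyK⟩ := mem_up.mp hy
    rw [mem_cj] at hyK
    refine ⟨_, coe_mem_up.mpr hyK, ?_⟩
    show (g : 𝔒) * ((g : 𝔒)⁻¹ * y * (g : 𝔒)) * (g : 𝔒)⁻¹ = y
    group
  · rintro ⟨x, hx, rfl⟩
    obtain ⟨hxS, hxK⟩ := mem_up.mp hx
    have : (⟨(g : 𝔒) * x * (g : 𝔒)⁻¹, 𝔖.mul_mem (𝔖.mul_mem g.2 hxS) (𝔖.inv_mem g.2)⟩ : ↥𝔖) ∈ cj g K := by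
      rw [mem_cj]
      convert hxK using 1
      apply Subtype.ext
      show (g : 𝔒)⁻¹ * ((g : 𝔒) * x * (g : 𝔒)⁻¹) * (g : 𝔒) = x
      group
    exact coe_mem_up.mpr this

theorem FC_card [Finite 𝔖] (𝔉 : FusionSystem 𝔖) {K K' : Subgroup ↥𝔖} (h : FC 𝔉 K K') :
    Nat.card K = Nat.card K' := by
  obtain ⟨φ, hφ, hr⟩ := h
  rw [← card_up K, ← card_up K', ← hr]
  exact Nat.card_congr (Equiv.ofInjective φ (𝔉.injective_of_mem hφ)) |>.trans (by rfl)

/-- A saturated fusion system gives stable data for every family of subgroups closed under conjugacy in the system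
and under passing to subgroups. -/
theorem stableData_of_saturated [Finite 𝔖] {p : ℕ} [Fact p.Prime] (h𝔖 : IsPGroup p 𝔖) (𝔉 : FusionSystem 𝔖)
    (h𝔉 : 𝔉.IsSaturated p) (ℋ : Set (Subgroup ↥𝔖))
    (hcl : ∀ K K', K ∈ ℋ → FC 𝔉 K K' → K' ∈ ℋ) (hdown : ∀ K K', K ≤ K' → K' ∈ ℋ → K ∈ ℋ) :
    StableData (FC 𝔉) ℋ where
  refl K := isConj_refl 𝔉 (up_le K)
  symm K K' h := isConj_symm 𝔉 h
  trans K K' K'' h h' := isConj_trans 𝔉 h h'
  conj K g := FC_cj 𝔉 K g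
  card K K' h := FC_card 𝔉 h
  closed := hcl
  down := hdown
  norm := by
    intro K _
    obtain ⟨Q, hKQ, hQfn⟩ := exists_fullyNormalized_conj 𝔉 (up_le K)
    have hQS : Q ≤ 𝔖 := hQfn.1
    have hQaut := (saturated_fn h𝔖 𝔉 h𝔉 hQfn).2
    have hQrec := saturated_fn_receptive h𝔖 𝔉 h𝔉 hQfn
    refine ⟨Q.subgroupOf 𝔖, ?_, ?_⟩
    · show 𝔉.IsConj (up K) (up (Q.subgroupOf 𝔖))
      rw [up_subgroupOf hQS]
      exact hKQ
    · intro K' hK'
      have hK'Q : 𝔉.IsConj (up K') Q := by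
        have : 𝔉.IsConj (up K') (up (Q.subgroupOf 𝔖)) := hK'
        rwa [up_subgroupOf hQS] at this
      obtain ⟨φ, hφ, hval, hmap⟩ := exists_normalizer_hom h𝔖 𝔉 hQaut hQrec hK'Q
      have hmemN : ∀ n : ↥(nz K'), ((n : ↥𝔖) : 𝔒) ∈ normalizerIn 𝔖 (up K') :=
        fun n => ⟨(n : ↥𝔖).2, coe_mem_normalizer_up.mpr n.2⟩
      let ι : ↥(nz K') →* ↥𝔖 :=
        { toFun := fun n => ⟨φ ⟨((n : ↥𝔖) : 𝔒), hmemN n⟩, (hval _).1⟩
          map_one' := by
            apply Subtype.ext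
            show φ ⟨((1 : ↥(nz K')) : ↥𝔖), _⟩ = 1
            have : (⟨(((1 : ↥(nz K')) : ↥𝔖) : 𝔒), hmemN 1⟩ : ↥(normalizerIn 𝔖 (up K'))) = 1 := Subtype.ext rfl
            rw [this, map_one]
          map_mul' := by
            intro a b
            apply Subtype.ext
            show φ ⟨(((a * b : ↥(nz K')) : ↥𝔖) : 𝔒), _⟩ = φ ⟨((a : ↥𝔖) : 𝔒), _⟩ * φ ⟨((b : ↥𝔖) : 𝔒), _⟩
            rw [← map_mul]
            congr 1 }
      have hι_apply : ∀ n : ↥(nz K'), ((ι n : ↥𝔖) : 𝔒) = φ ⟨((n : ↥𝔖) : 𝔒), hmemN n⟩ := fun n => rfl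
      refine ⟨ι, ?_, ?_, ?_⟩
      · intro a b hab
        have h1 : φ ⟨((a : ↥𝔖) : 𝔒), hmemN a⟩ = φ ⟨((b : ↥𝔖) : 𝔒), hmemN b⟩ := by
          rw [← hι_apply, ← hι_apply, hab]
        have h2 := 𝔉.injective_of_mem hφ h1
        apply Subtype.ext
        apply Subtype.ext
        have h3 := congrArg Subtype.val h2
        exact h3
      · ext y
        rw [Subgroup.mem_map, Subgroup.mem_subgroupOf]
        constructor
        · rintro ⟨n, hn, rfl⟩
          rw [Subgroup.mem_subgroupOf] at hn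
          rw [hι_apply, ← hmap]
          refine ⟨⟨((n : ↥𝔖) : 𝔒), hmemN n⟩, ?_, rfl⟩
          rw [SetLike.mem_coe, Subgroup.mem_subgroupOf]
          exact coe_mem_up.mpr hn
        · intro hy
          rw [← hmap] at hy
          obtain ⟨x, hx, hxy⟩ := hy
          rw [SetLike.mem_coe, Subgroup.mem_subgroupOf] at hx
          obtain ⟨hxS, hxK⟩ := mem_up.mp hx
          have hxn : (⟨x, hxS⟩ : ↥𝔖) ∈ nz K' := coe_mem_normalizer_up.mp x.2.2
          refine ⟨⟨⟨x, hxS⟩, hxn⟩, ?_, ?_⟩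
          · rw [Subgroup.mem_subgroupOf]
            exact hxK
          · apply Subtype.ext
            rw [hι_apply]
            exact hxy
      · intro U
        show 𝔉.IsConj (up (U.map (nz K').subtype)) (up (U.map ι))
        rw [isConj_iff_isFM]
        have hle : up (U.map (nz K').subtype) ≤ normalizerIn 𝔖 (up K') := by
          intro x hx
          obtain ⟨hxS, hxU⟩ := mem_up.mp hx
          obtain ⟨n, _, hn⟩ := hxU
          have := hmemN n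
          rw [show ((n : ↥𝔖) : 𝔒) = x from congrArg Subtype.val hn] at this
          exact this
        refine ⟨ofHom φ, (isFM_ofHom hφ).mono hle, fun y => ?_⟩
        constructor
        · intro hy
          obtain ⟨hyS, hyU⟩ := mem_up.mp hy
          obtain ⟨n, hn, hny⟩ := hyU
          refine ⟨((n : ↥𝔖) : 𝔒), ?_, ?_⟩
          · exact coe_mem_up.mpr ⟨n, hn, rfl⟩
          · rw [ofHom_apply' φ (hmemN n), ← hι_apply, hny]
        · rintro ⟨x, hx, rfl⟩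
          obtain ⟨hxS, hxU⟩ := mem_up.mp hx
          obtain ⟨n, hn, hnx⟩ := hxU
          have hx' : x = ((n : ↥𝔖) : 𝔒) := (congrArg Subtype.val hnx).symm
          rw [hx', ofHom_apply' φ (hmemN n), ← hι_apply]
          exact coe_mem_up.mpr ⟨n, hn, rfl⟩

end Fusion

end Cfsg.Agent.Lib.Helper27.BS
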