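import Cfsg.Agent.Lib.Helper27.BS5
import Cfsg.Agent.Lib.Helper27.FSProdSat

/-!
# Graph subgroups of `S × S` and the product fusion system (helper27)
-/

set_option autoImplicit false

namespace Cfsg.Agent.Lib.Helper27.BS

open Cfsg Cfsg.FusionSystem Cfsg.Agent.Lib.Helper26 Cfsg.Agent.Lib.Helper27.FM MulAction

section Graph

variable {Ω : Type*} [Group Ω] {S : Subgroup Ω}

/-- the product system `F × F` -/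
abbrev PS (F : FusionSystem S) : FusionSystem (S.prod S) := prodSystem F F

/-- first projection of a subgroup of `Ω × Ω` -/
abbrev pr1 (L : Subgroup (Ω × Ω)) : Subgroup Ω := L.map (MonoidHom.fst Ω Ω)

/-- second projection of a subgroup of `Ω × Ω` -/
abbrev pr2 (L : Subgroup (Ω × Ω)) : Subgroup Ω := L.map (MonoidHom.snd Ω Ω)

theorem mem_pr1 {L : Subgroup (Ω × Ω)} {a : Ω} : a ∈ pr1 L ↔ ∃ b, (a, b) ∈ L := by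
  constructor
  · rintro ⟨x, hx, rfl⟩
    exact ⟨x.2, hx⟩
  · rintro ⟨b, hb⟩
    exact ⟨(a, b), hb, rfl⟩

theorem mem_pr2 {L : Subgroup (Ω × Ω)} {b : Ω} : b ∈ pr2 L ↔ ∃ a, (a, b) ∈ L := by
  constructor
  · rintro ⟨x, hx, rfl⟩
    exact ⟨x.1, hx⟩
  · rintro ⟨a, ha⟩
    exact ⟨(a, b), ha, rfl⟩

theorem isFM_PS_of_components {F : FusionSystem S} {L : Subgroup (Ω × Ω)} (hL : L ≤ S.prod S) {θ₁ θ₂ : Ω → Ω}
    (h₁ : IsFM F (pr1 L) θ₁) (h₂ : IsFM F (pr2 L) θ₂) :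
    IsFM (PS F) L (fun x => (θ₁ x.1, θ₂ x.2)) := by
  obtain ⟨φ₁, hφ₁, e₁⟩ := h₁
  obtain ⟨φ₂, hφ₂, e₂⟩ := h₂
  refine ⟨prodHom L φ₁ φ₂, ⟨hL, φ₁, hφ₁, φ₂, hφ₂, fun x _ _ => rfl⟩, fun x => ?_⟩
  rw [prodHom_apply, e₁, e₂]

theorem isFM_PS_prod {F : FusionSystem S} {P₁ P₂ : Subgroup Ω} {θ₁ θ₂ : Ω → Ω}
    (h₁ : IsFM F P₁ θ₁) (h₂ : IsFM F P₂ θ₂) {L : Subgroup (Ω × Ω)} (hL : L ≤ P₁.prod P₂) :
    IsFM (PS F) L (fun x => (θ₁ x.1, θ₂ x.2)) := by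
  have hLS : L ≤ S.prod S := fun x hx => ⟨h₁.le (hL hx).1, h₂.le (hL hx).2⟩
  apply isFM_PS_of_components hLS
  · apply h₁.mono
    rintro _ ⟨x, hx, rfl⟩
    exact (hL hx).1
  · apply h₂.mono
    rintro _ ⟨x, hx, rfl⟩
    exact (hL hx).2

theorem exists_components {F : FusionSystem S} {L : Subgroup (Ω × Ω)} {ψ : Ω × Ω → Ω × Ω}
    (h : IsFM (PS F) L ψ) :
    ∃ θ₁ θ₂ : Ω → Ω, IsFM F (pr1 L) θ₁ ∧ IsFM F (pr2 L) θ₂ ∧ ∀ x ∈ L, ψ x = (θ₁ x.1, θ₂ x.2) := by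
  obtain ⟨φ, ⟨_, φ₁, hφ₁, φ₂, hφ₂, hφ⟩, e⟩ := h
  refine ⟨ofHom φ₁, ofHom φ₂, isFM_ofHom hφ₁, isFM_ofHom hφ₂, fun x hx => ?_⟩
  rw [← e ⟨x, hx⟩, hφ ⟨x, hx⟩ (fst_mem_map ⟨x, hx⟩) (snd_mem_map ⟨x, hx⟩)]
  rw [ofHom_apply' φ₁ (fst_mem_map ⟨x, hx⟩), ofHom_apply' φ₂ (snd_mem_map ⟨x, hx⟩)]

/-- `L` is the graph of a map of the system -/
def IsGrU (F : FusionSystem S) (L : Subgroup (Ω × Ω)) : Prop :=
  ∃ (P : Subgroup Ω) (θ : Ω → Ω), IsFM F P θ ∧ ∀ x : Ω × Ω, x ∈ L ↔ x.1 ∈ P ∧ θ x.1 = x.2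

theorem IsGrU.le {F : FusionSystem S} {L : Subgroup (Ω × Ω)} (h : IsGrU F L) : L ≤ S.prod S := by
  obtain ⟨P, θ, hθ, hL⟩ := h
  intro x hx
  obtain ⟨h1, h2⟩ := (hL x).mp hx
  exact ⟨hθ.le h1, h2 ▸ hθ.mem h1⟩

theorem pr1_eq_of_graph {L : Subgroup (Ω × Ω)} {P : Subgroup Ω} {θ : Ω → Ω}
    (hL : ∀ x : Ω × Ω, x ∈ L ↔ x.1 ∈ P ∧ θ x.1 = x.2) : pr1 L = P := by
  ext a
  rw [mem_pr1]
  constructor
  · rintro ⟨b, hb⟩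
    exact ((hL (a, b)).mp hb).1
  · intro ha
    exact ⟨θ a, (hL (a, θ a)).mpr ⟨ha, rfl⟩⟩

theorem IsGrU.mono {F : FusionSystem S} {L L' : Subgroup (Ω × Ω)} (h : IsGrU F L) (hle : L' ≤ L) :
    IsGrU F L' := by
  obtain ⟨P, θ, hθ, hL⟩ := h
  have hP : pr1 L' ≤ P := by
    intro a ha
    obtain ⟨b, hb⟩ := mem_pr1.mp ha
    exact ((hL (a, b)).mp (hle hb)).1
  refine ⟨pr1 L', θ, hθ.mono hP, fun x => ?_⟩
  constructor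
  · intro hx
    exact ⟨mem_pr1.mpr ⟨x.2, hx⟩, ((hL x).mp (hle hx)).2⟩
  · rintro ⟨h1, h2⟩
    obtain ⟨b, hb⟩ := mem_pr1.mp h1
    have h3 := ((hL (x.1, b)).mp (hle hb)).2
    have : x = (x.1, b) := by
      apply Prod.ext
      · rfl
      · show x.2 = b
        rw [← h2]
        exact h3
    rw [this]
    exact hb

/-- graphs are carried to graphs by the product system, and the first projections are conjugate -/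
theorem IsGrU.of_isConj {F : FusionSystem S} {L L' : Subgroup (Ω × Ω)} (h : IsGrU F L)
    (hc : (PS F).IsConj L L') : IsGrU F L' ∧ F.IsConj (pr1 L) (pr1 L') := by
  obtain ⟨P, θ, hθ, hL⟩ := h
  obtain ⟨ψ, hψ, hi⟩ := (isConj_iff_isFM (PS F)).mp hc
  obtain ⟨θ₁, θ₂, hθ₁, hθ₂, hψe⟩ := exists_components hψ
  have hP : pr1 L = P := pr1_eq_of_graph hL
  rw [hP] at hθ₁
  have hP₂ : IsImage P θ (pr2 L) := by
    intro y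
    rw [mem_pr2]
    constructor
    · rintro ⟨a, ha⟩
      obtain ⟨h1, h2⟩ := (hL (a, y)).mp ha
      exact ⟨a, h1, h2⟩
    · rintro ⟨a, ha, rfl⟩
      exact ⟨a, (hL (a, θ a)).mpr ⟨ha, rfl⟩⟩
  obtain ⟨P', hP'⟩ := hθ₁.exists_image
  obtain ⟨θ₁i, hθ₁i, hi₁, hinv₁, hinv₂⟩ := hθ₁.exists_inverse hP'
  have hθ' : IsFM F P' (fun y => θ₂ (θ (θ₁i y))) := by
    have h1 : IsFM F P' (fun y => θ (θ₁i y)) := hθ₁i.comp hθ (fun y hy => hi₁.mem hy)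
    exact h1.comp hθ₂ (fun y hy => hP₂.mem (hi₁.mem hy))
  have hL' : ∀ x : Ω × Ω, x ∈ L' ↔ x.1 ∈ P' ∧ θ₂ (θ (θ₁i x.1)) = x.2 := by
    intro x'
    rw [hi x']
    constructor
    · rintro ⟨x, hx, rfl⟩
      obtain ⟨h1, h2⟩ := (hL x).mp hx
      rw [hψe x hx]
      refine ⟨hP'.mem h1, ?_⟩
      show θ₂ (θ (θ₁i (θ₁ x.1))) = θ₂ x.2
      rw [hinv₁ x.1 h1, h2]
    · rintro ⟨h1, h2⟩
      obtain ⟨a, ha, hax⟩ := (hP' x'.1).mp h1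
      refine ⟨(a, θ a), (hL (a, θ a)).mpr ⟨ha, rfl⟩, ?_⟩
      rw [hψe _ ((hL (a, θ a)).mpr ⟨ha, rfl⟩)]
      apply Prod.ext
      · exact hax
      · show θ₂ (θ a) = x'.2
        rw [← h2, ← hax, hinv₁ a ha]
  refine ⟨⟨P', _, hθ', hL'⟩, ?_⟩
  rw [hP, pr1_eq_of_graph (θ := fun y => θ₂ (θ (θ₁i y))) hL']
  exact (isConj_iff_isFM F).mpr ⟨θ₁, hθ₁, hP'⟩

end Graph

end Cfsg.Agent.Lib.Helper27.BS
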