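import Cfsg.Agent.Lib.Helper27.KL12
import Cfsg.Agent.Lib.Helper26.FSFactor

/-!
helper27: if every map of `F` acts on the normal subgroup `Q` as an element of `S` does, then the full preimage of
a subgroup normal in `F/Q` is normal in `F`.
-/

set_option autoImplicit false
set_option linter.unusedSectionVars false
set_option linter.unusedVariables false

namespace Cfsg.Agent.Lib.Helper27.KL

open Cfsg Cfsg.FusionSystem Cfsg.Agent.Lib.Helper26 Cfsg.Agent.Lib.Helper27.FM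

universe u v

variable {Ω : Type u} [Group Ω] {S : Subgroup Ω} {Ω' : Type v} [Group Ω'] {S' : Subgroup Ω'}

theorem exists_aut_of_isFM (F : FusionSystem S) {P : Subgroup Ω} (hPS : P ≤ S) {d : Ω → Ω} (hd : IsFM F P d)
    (hi : IsImage P d P) : ∃ δ ∈ F.autGroup P, ∀ x : P, ((δ x : P) : Ω) = d x := by
  obtain ⟨φ, hφ, h1⟩ := hd
  have hval : ∀ x : P, φ x ∈ P := fun x => by rw [h1]; exact hi.mem x.2
  have hinj : Function.Injective (φ.codRestrict P hval) := by
    intro a b hab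
    apply F.injective_of_mem hφ
    exact congrArg Subtype.val hab
  have hsurj : Function.Surjective (φ.codRestrict P hval) := by
    intro y
    obtain ⟨x, hx, hxy⟩ := (hi y).mp y.2
    refine ⟨⟨x, hx⟩, ?_⟩
    apply Subtype.ext
    show φ ⟨x, hx⟩ = y
    rw [h1]
    exact hxy
  refine ⟨MulEquiv.ofBijective (φ.codRestrict P hval) ⟨hinj, hsurj⟩, ?_, fun x => ?_⟩
  · rw [mem_autGroup_iff F hPS]
    have : P.subtype.comp
        ((MulEquiv.ofBijective (φ.codRestrict P hval) ⟨hinj, hsurj⟩ : P ≃* P) : P ≃* P).toMonoidHom = φ := by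
      ext x
      rfl
    rw [this]
    exact hφ
  · show φ x = d x
    exact h1 x

theorem preimageAlong_mono' (θ : S →* Ω') {A B : Subgroup Ω'} (h : A ≤ B) :
    preimageAlong θ A ≤ preimageAlong θ B := by
  intro y hy
  obtain ⟨hyS, hy'⟩ := (mem_preimageAlong_iff θ A y).mp hy
  exact (mem_preimageAlong_iff θ B y).mpr ⟨hyS, h hy'⟩

theorem isNormal_preimage_of_forall_sc [Finite S] {p : ℕ} [Fact p.Prime] (hS : IsPGroup p S)
    (F : FusionSystem S) (hF : F.IsSaturated p) {Q : Subgroup Ω} (hQ : F.IsNormal Q)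
    (hall : ∀ (R : Subgroup Ω) (θ : Ω → Ω), IsFM F R θ → SC F Q R θ)
    {θ : S →* Ω'} {E : FusionSystem S'} (hE : F.IsFactorSystem Q θ E) {V' : Subgroup Ω'}
    (hV' : E.IsNormal V') : F.IsNormal (preimageAlong θ V') := by
  have hsc := stronglyClosed_of_isNormal F hQ
  have hθ := factorSystem_isSurjectiveMorphism hS F hF Q hsc θ E hE
  obtain ⟨hQS, hker, hrange, hhom⟩ := hE
  have hVS : preimageAlong θ V' ≤ S := preimageAlong_le θ V'
  have hθS' : ∀ x ∈ S, ext1 θ x ∈ S' := fun x hx => by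
    rw [ext1_apply θ hx, ← hrange]; exact ⟨_, rfl⟩
  have hker' : ∀ x ∈ S, (ext1 θ x = 1 ↔ x ∈ Q) := fun x hx => by
    rw [ext1_apply θ hx]; exact hker ⟨x, hx⟩
  have hQV : Q ≤ preimageAlong θ V' := by
    intro q hq
    rw [mem_preimageAlong_iff_ext1]
    refine ⟨hQS hq, ?_⟩
    rw [(hker' q (hQS hq)).mpr hq]
    exact V'.one_mem
  have hV'n : S' ≤ Subgroup.normalizer (V' : Set Ω') :=
    le_normalizer_of_stronglyClosed E (stronglyClosed_of_isNormal E hV')
  have hVn : ∀ s ∈ S, ∀ v ∈ preimageAlong θ V', s * v * s⁻¹ ∈ preimageAlong θ V' := by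
    intro s hs v hv
    obtain ⟨hvS, hvV⟩ := (mem_preimageAlong_iff_ext1 θ V' v).mp hv
    rw [mem_preimageAlong_iff_ext1]
    refine ⟨S.mul_mem (S.mul_mem hs hvS) (S.inv_mem hs), ?_⟩
    rw [ext1_conj θ hs hvS]
    exact (Subgroup.mem_normalizer_iff.mp (hV'n (hθS' s hs)) _).mp hvV
  haveI : Finite ↥(preimageAlong θ V') := finite_of_le hVS
  -- the key step
  have step : ∀ (P : Subgroup Ω), F.IsFullyNormalized P → Q ≤ P → ∀ a : Ω → Ω, IsFM F P a → IsImage P a P →
      NM F (preimageAlong θ V') P a := by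
    intro P hPfn hQP a ha hi
    have hPS : P ≤ S := hPfn.1
    haveI : Finite ↥P := finite_of_le hPS
    have hpre : preimageAlong θ (imageAlong θ P) = P := by
      rw [preimageAlong_imageAlong θ hQS hker hPS]
      exact sup_eq_left.mpr hQP
    have hP'S' : imageAlong θ P ≤ S' := by
      intro z hz
      obtain ⟨s, -, rfl⟩ := (mem_imageAlong_iff θ P z).mp hz
      rw [← hrange]
      exact ⟨s, rfl⟩
    have hθP : ∀ x ∈ P, ext1 θ x ∈ imageAlong θ P := by
      intro x hx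
      have hx' : x ∈ preimageAlong θ (imageAlong θ P) := by rw [hpre]; exact hx
      exact ((mem_preimageAlong_iff_ext1 θ _ x).mp hx').2
    obtain ⟨a', ha'E, ha'θ⟩ := IsFM.exists_induced hθ hP'S' (ha.of_eq hpre)
    obtain ⟨b', hb', hb'ext, hb'V⟩ := NM.of_isNormal hV' ha'E
    have hX'S' : imageAlong θ P ⊔ V' ≤ S' := sup_le hP'S' hV'.1
    obtain ⟨b, hb, hbθ⟩ := IsFM.exists_lift hθ hX'S' hb'
    have hPX : P ≤ preimageAlong θ (imageAlong θ P ⊔ V') := by
      have := preimageAlong_mono' θ (le_sup_left : imageAlong θ P ≤ imageAlong θ P ⊔ V')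
      rw [hpre] at this
      exact this
    have hVX : preimageAlong θ V' ≤ preimageAlong θ (imageAlong θ P ⊔ V') :=
      preimageAlong_mono' θ le_sup_right
    have hbV : ∀ v ∈ preimageAlong θ V', b v ∈ preimageAlong θ V' := by
      intro v hv
      rw [mem_preimageAlong_iff_ext1]
      refine ⟨hb.mem (hVX hv), ?_⟩
      rw [← hbθ v (hVX hv)]
      exact hb'V _ ((mem_preimageAlong_iff_ext1 θ V' v).mp hv).2
    have hbP : ∀ x ∈ P, ext1 θ (b x) = ext1 θ (a x) := by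
      intro x hx
      rw [← hbθ x (hPX hx), hb'ext _ (hθP x hx), ha'θ x (by rw [hpre]; exact hx)]
    have hdiff : ∀ x ∈ P, (a x)⁻¹ * b x ∈ Q := by
      intro x hx
      have h1 : a x ∈ S := ha.mem hx
      have h2 : b x ∈ S := hb.mem (hPX hx)
      rw [← hker' _ (S.mul_mem (S.inv_mem h1) h2), ext1_mul θ (S.inv_mem h1) h2, ext1_inv θ h1, hbP x hx]
      group
    have hbPP : ∀ x ∈ P, b x ∈ P := by
      intro x hx
      have e : b x = a x * ((a x)⁻¹ * b x) := by group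
      rw [e]
      exact P.mul_mem (hi.mem hx) (hQP (hdiff x hx))
    obtain ⟨ainv, hainv, hainvi, hl, hr⟩ := ha.exists_inverse hi
    have hd : IsFM F P (fun x => ainv (b x)) := (hb.mono hPX).comp hainv hbPP
    have hdP : ∀ x ∈ P, ainv (b x) ∈ P := fun x hx => hainvi.mem (hbPP x hx)
    have hdi : IsImage P (fun x => ainv (b x)) P := hd.isImage_self_of_forall_mem le_rfl hdP
    have hdmod : ∀ x ∈ P, x⁻¹ * ainv (b x) ∈ Q := by
      intro x hx
      have h1 : a (x⁻¹ * ainv (b x)) = (a x)⁻¹ * b x := by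
        rw [ha.map_mul (P.inv_mem hx) (hdP x hx), ha.map_inv hx, hr _ (hbPP x hx)]
      have h2 : x⁻¹ * ainv (b x) ∈ P := P.mul_mem (P.inv_mem hx) (hdP x hx)
      have h3 := hainv.mem_of_stronglyClosed hsc (hi.mem h2) (by rw [h1]; exact hdiff x hx)
      rw [hl _ h2] at h3
      exact h3
    obtain ⟨δ, hδA, hδd⟩ := exists_aut_of_isFM F hPS hd hdi
    have hδK : (⟨δ, hδA⟩ : F.autGroup P) ∈ trivMod F P Q := by
      intro x
      show ((x : Ω))⁻¹ * ((δ x : P) : Ω) ∈ Q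
      rw [hδd x]
      exact hdmod x x.2
    have hδS := trivMod_le_autInducedBy hS F hF hPfn hQP hsc hall ⟨δ, hδA⟩ hδK
    obtain ⟨g, hg, hgδ⟩ := (mem_autInducedBy_iff S P δ).mp hδS
    have hdg : ∀ x ∈ P, ainv (b x) = g * x * g⁻¹ := fun x hx => by
      rw [← hδd ⟨x, hx⟩, hgδ ⟨x, hx⟩]
    have hgP : ∀ x ∈ P, g⁻¹ * x * g⁻¹⁻¹ ∈ P := by
      intro x hx
      obtain ⟨y, hy, hyx⟩ := (hdi x).mp hx
      have hyx' : ainv (b y) = x := hyx
      rw [hdg y hy] at hyx'
      rw [← hyx']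
      have e : g⁻¹ * (g * y * g⁻¹) * g⁻¹⁻¹ = y := by group
      rw [e]
      exact hy
    have hPVS : P ⊔ preimageAlong θ V' ≤ S := sup_le hPS hVS
    have hc : IsFM F (P ⊔ preimageAlong θ V') (fun x => g⁻¹ * x * g⁻¹⁻¹) :=
      isFM_conj F hPVS (S.inv_mem hg)
    have hcX : ∀ x ∈ P ⊔ preimageAlong θ V', g⁻¹ * x * g⁻¹⁻¹ ∈ preimageAlong θ (imageAlong θ P ⊔ V') :=
      hc.map_sup_mem le_sup_left le_sup_right (fun x hx => hPX (hgP x hx))
        (fun v hv => hVX (hVn g⁻¹ (S.inv_mem hg) v hv))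
    refine ⟨fun x => b (g⁻¹ * x * g⁻¹⁻¹), hc.comp hb hcX, fun x hx => ?_, fun v hv => ?_⟩
    · have hy : g⁻¹ * x * g⁻¹⁻¹ ∈ P := hgP x hx
      have h1 := hdg _ hy
      have e : g * (g⁻¹ * x * g⁻¹⁻¹) * g⁻¹ = x := by group
      rw [e] at h1
      show b (g⁻¹ * x * g⁻¹⁻¹) = a x
      have h2 : a x = a (ainv (b (g⁻¹ * x * g⁻¹⁻¹))) := by rw [h1]
      rw [h2, hr _ (hbPP _ hy)]
    · exact hbV _ (hVn g⁻¹ (S.inv_mem hg) v hv)
  apply NM.of_forall F hVS hVn
  apply forall_of_step hS hF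
  · intro α hα
    exact step S (top_fullyNormalized F) hQS _ (aut_isFM F le_rfl hα) (isImage_aut α)
  · intro P hess hne IH α hα
    have hPS : P ≤ S := hess.1.1
    have hQP : Q ≤ P := le_of_isNormal_of_centric_radical hS F hQ hess.1 (radical_of_essential hS F P hess)
    exact step P hess.2.1 hQP _ (aut_isFM F hPS hα) (isImage_aut α)

end Cfsg.Agent.Lib.Helper27.KL
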