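import Cfsg.Agent.Lib.Helper27.BS6
import Cfsg.Agent.Lib.Helper27.KL13

/-!
# Top graphs: graphs of automorphisms of `S` (helper27)
-/

set_option autoImplicit false

namespace Cfsg.Agent.Lib.Helper27.BS

open Cfsg Cfsg.FusionSystem Cfsg.Agent.Lib.Helper26 Cfsg.Agent.Lib.Helper27.FM
open Cfsg.Agent.Lib.Helper27.KL MulAction

section Top

variable {Ω : Type*} [Group Ω] {S : Subgroup Ω}

/-- first coordinate of an element of `↥(S.prod S)` as an element of `↥S` -/
def c1 (x : ↥(S.prod S)) : ↥S := ⟨x.1.1, x.2.1⟩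

/-- second coordinate -/
def c2 (x : ↥(S.prod S)) : ↥S := ⟨x.1.2, x.2.2⟩

/-- pairing -/
def pair (a b : ↥S) : ↥(S.prod S) := ⟨(a.1, b.1), ⟨a.2, b.2⟩⟩

@[simp] theorem c1_pair (a b : ↥S) : c1 (pair a b) = a := rfl
@[simp] theorem c2_pair (a b : ↥S) : c2 (pair a b) = b := rfl
@[simp] theorem pair_c1_c2 (x : ↥(S.prod S)) : pair (c1 x) (c2 x) = x := rfl
@[simp] theorem c1_mul (x y : ↥(S.prod S)) : c1 (x * y) = c1 x * c1 y := rfl
@[simp] theorem c2_mul (x y : ↥(S.prod S)) : c2 (x * y) = c2 x * c2 y := rfl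
@[simp] theorem c1_one : c1 (1 : ↥(S.prod S)) = 1 := rfl
@[simp] theorem c2_one : c2 (1 : ↥(S.prod S)) = 1 := rfl
@[simp] theorem c1_inv (x : ↥(S.prod S)) : c1 x⁻¹ = (c1 x)⁻¹ := rfl
@[simp] theorem c2_inv (x : ↥(S.prod S)) : c2 x⁻¹ = (c2 x)⁻¹ := rfl

theorem ext_c {x y : ↥(S.prod S)} (h1 : c1 x = c1 y) (h2 : c2 x = c2 y) : x = y := by
  apply Subtype.ext
  apply Prod.ext
  · exact congrArg Subtype.val h1
  · exact congrArg Subtype.val h2

/-- the graph of an automorphism of `S` -/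
def topGr (α : MulAut ↥S) : Subgroup ↥(S.prod S) where
  carrier := {x | α (c1 x) = c2 x}
  one_mem' := by simp
  mul_mem' := by
    intro a b ha hb
    simp only [Set.mem_setOf_eq] at ha hb ⊢
    rw [c1_mul, c2_mul, map_mul, ha, hb]
  inv_mem' := by
    intro a ha
    simp only [Set.mem_setOf_eq] at ha ⊢
    rw [c1_inv, c2_inv, map_inv, ha]

theorem mem_topGr {α : MulAut ↥S} {x : ↥(S.prod S)} : x ∈ topGr α ↔ α (c1 x) = c2 x := Iff.rfl

theorem topGr_injective {α β : MulAut ↥S} (h : topGr α = topGr β) : α = β := by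
  ext a
  have h1 : pair a (α a) ∈ topGr α := by rw [mem_topGr]; simp
  rw [h, mem_topGr] at h1
  simp only [c1_pair, c2_pair] at h1
  rw [h1]

theorem cj_topGr (g : ↥(S.prod S)) (α : MulAut ↥S) :
    cj g (topGr α) = topGr (MulAut.conj (c2 g) * α * (MulAut.conj (c1 g))⁻¹) := by
  ext x
  rw [mem_cj, mem_topGr, mem_topGr]
  simp only [c1_mul, c2_mul, c1_inv, c2_inv, MulAut.mul_apply, MulAut.conj_apply, MulAut.conj_inv_apply]
  constructor
  · intro h
    rw [h]
    group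
  · intro h
    rw [← h]
    group

theorem card_topGr [Finite S] (α : MulAut ↥S) : Nat.card (topGr α) = Nat.card S := by
  apply Nat.card_congr
  refine ⟨fun x => c1 x.1, fun a => ⟨pair a (α a), by rw [mem_topGr]; simp⟩, fun x => ?_, fun a => rfl⟩
  apply Subtype.ext
  apply ext_c
  · rfl
  · show α (c1 x.1) = c2 x.1
    exact x.2

/-- `K` is the graph of a map of the system -/
def IsGr (F : FusionSystem S) (K : Subgroup ↥(S.prod S)) : Prop := IsGrU F (up K)

/-- the domain of a graph -/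
def dom (K : Subgroup ↥(S.prod S)) : Subgroup Ω := pr1 (up K)

theorem dom_le (K : Subgroup ↥(S.prod S)) : dom K ≤ S := by
  rintro _ ⟨x, hx, rfl⟩
  exact (up_le K hx).1

theorem dom_mono {K K' : Subgroup ↥(S.prod S)} (h : K ≤ K') : dom K ≤ dom K' :=
  Subgroup.map_mono (up_le_up.mpr h)

theorem mem_up_iff {K : Subgroup ↥(S.prod S)} {x : Ω × Ω} :
    x ∈ up K ↔ ∃ (h1 : x.1 ∈ S) (h2 : x.2 ∈ S), pair ⟨x.1, h1⟩ ⟨x.2, h2⟩ ∈ K := by
  rw [mem_up]
  constructor
  · rintro ⟨h, hx⟩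
    exact ⟨h.1, h.2, hx⟩
  · rintro ⟨h1, h2, hx⟩
    exact ⟨⟨h1, h2⟩, hx⟩

theorem isGr_topGr (F : FusionSystem S) {α : MulAut ↥S} (hα : α ∈ F.autGroup S) :
    IsGr F (topGr α) ∧ dom (topGr α) = S := by
  have hmem := (mem_autGroup_iff F le_rfl α).mp hα
  have hgraph : ∀ x : Ω × Ω, x ∈ up (topGr α) ↔
      x.1 ∈ S ∧ ofHom (S.subtype.comp α.toMonoidHom) x.1 = x.2 := by
    intro x
    rw [mem_up_iff]
    constructor
    · rintro ⟨h1, h2, hx⟩
      refine ⟨h1, ?_⟩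
      rw [ofHom_apply' _ h1]
      rw [mem_topGr] at hx
      simp only [c1_pair, c2_pair] at hx
      show ((α ⟨x.1, h1⟩ : ↥S) : Ω) = x.2
      rw [hx]
    · rintro ⟨h1, h2⟩
      rw [ofHom_apply' _ h1] at h2
      have h3 : x.2 ∈ S := by
        rw [← h2]
        exact (α ⟨x.1, h1⟩).2
      refine ⟨h1, h3, ?_⟩
      rw [mem_topGr]
      simp only [c1_pair, c2_pair]
      exact Subtype.ext h2
  refine ⟨⟨S, _, isFM_ofHom hmem, hgraph⟩, ?_⟩
  exact pr1_eq_of_graph hgraph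

theorem exists_topGr_of_isGr [Finite S] (F : FusionSystem S) {K : Subgroup ↥(S.prod S)} (hK : IsGr F K)
    (hd : dom K = S) : ∃ α ∈ F.autGroup S, K = topGr α := by
  obtain ⟨P, θ, hθ, hL⟩ := hK
  have hP : P = S := by rw [← pr1_eq_of_graph hL]; exact hd
  subst hP
  have hi : IsImage P θ P := hθ.isImage_self_of_forall_mem le_rfl (fun x hx => hθ.mem hx)
  obtain ⟨δ, hδ, hδe⟩ := exists_aut_of_isFM F le_rfl hθ hi
  refine ⟨δ, hδ, ?_⟩
  ext x
  rw [mem_topGr, ← coe_mem_up (K := K), hL]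
  constructor
  · rintro ⟨h1, h2⟩
    apply Subtype.ext
    rw [hδe]
    exact h2
  · intro h
    refine ⟨x.2.1, ?_⟩
    have := hδe (c1 x)
    rw [h] at this
    exact this.symm

/-- conjugacy of top graphs in terms of cosets of the inner automorphisms -/
theorem topGr_conj_iff (F : FusionSystem S) (α β : ↥(F.autGroup S)) :
    (∃ g : ↥(S.prod S), topGr (β : MulAut ↥S) = cj g (topGr (α : MulAut ↥S))) ↔
      α⁻¹ * β ∈ (autInducedBy S S).subgroupOf (F.autGroup S) := by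
  rw [Subgroup.mem_subgroupOf, mem_autInducedBy_iff]
  constructor
  · rintro ⟨g, hg⟩
    rw [cj_topGr] at hg
    have hβ := topGr_injective hg
    refine ⟨(((α : MulAut ↥S)⁻¹ (c2 g) * (c1 g)⁻¹ : ↥S) : Ω), (((α : MulAut ↥S)⁻¹ (c2 g) * (c1 g)⁻¹ : ↥S)).2,
      fun x => ?_⟩
    show ((((α : MulAut ↥S)⁻¹ * (β : MulAut ↥S)) x : ↥S) : Ω) = _
    rw [hβ]
    simp only [MulAut.mul_apply, MulAut.conj_apply, MulAut.conj_inv_apply, map_mul, map_inv,
      MulAut.inv_apply_self]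
    simp only [Subgroup.coe_mul, Subgroup.coe_inv]
    group
  · rintro ⟨g, hg, hgx⟩
    refine ⟨pair (⟨g, hg⟩ : ↥S)⁻¹ 1, ?_⟩
    rw [cj_topGr]
    congr 1
    ext x
    simp only [c1_pair, c2_pair, MulAut.mul_apply, MulAut.conj_apply, MulAut.conj_inv_apply, map_one,
      inv_one, one_mul, mul_one, inv_inv]
    have h1 := hgx x
    have h2 : ((α : MulAut ↥S)⁻¹ * (β : MulAut ↥S)) x = ⟨g, hg⟩ * x * (⟨g, hg⟩ : ↥S)⁻¹ := Subtype.ext h1
    have h3 : (β : MulAut ↥S) x = (α : MulAut ↥S) (((α : MulAut ↥S)⁻¹ * (β : MulAut ↥S)) x) := by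
      simp [MulAut.mul_apply]
    rw [h3, h2]

theorem nidx_map_equiv {G G' : Type*} [Group G] [Group G'] (e : G ≃* G') (K : Subgroup G) :
    nidx (K.map e.toMonoidHom) = nidx K := by
  unfold nidx nz
  rw [← Subgroup.map_equiv_normalizer_eq K e]
  exact Subgroup.relIndex_map_map_of_injective K (Subgroup.normalizer (K : Set G)) e.injective

/-- the automorphism `(a, b) ↦ (a, β b)` of `S × S` -/
def twistEquiv (β : MulAut ↥S) : ↥(S.prod S) ≃* ↥(S.prod S) where
  toFun x := pair (c1 x) (β (c2 x))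
  invFun x := pair (c1 x) (β⁻¹ (c2 x))
  left_inv x := ext_c rfl (by simp)
  right_inv x := ext_c rfl (by simp)
  map_mul' x y := ext_c rfl (by simp)

theorem map_twistEquiv_topGr (β : MulAut ↥S) : (topGr (1 : MulAut ↥S)).map (twistEquiv β).toMonoidHom = topGr β := by
  ext x
  rw [Subgroup.mem_map, mem_topGr]
  constructor
  · rintro ⟨y, hy, rfl⟩
    rw [mem_topGr] at hy
    show β (c1 (pair (c1 y) (β (c2 y)))) = c2 (pair (c1 y) (β (c2 y)))
    simp only [c1_pair, c2_pair]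
    rw [← hy]
    rfl
  · intro h
    refine ⟨pair (c1 x) (c1 x), by rw [mem_topGr]; simp, ?_⟩
    apply ext_c
    · rfl
    · show β (c2 (pair (c1 x) (c1 x))) = c2 x
      simp only [c2_pair]
      exact h

theorem nidx_topGr (β : MulAut ↥S) : nidx (topGr β) = nidx (topGr (1 : MulAut ↥S)) := by
  rw [← map_twistEquiv_topGr β, nidx_map_equiv]

theorem card_eq_of_isConj (F : FusionSystem S) {P Q : Subgroup Ω} (h : F.IsConj P Q) :
    Nat.card P = Nat.card Q := by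
  obtain ⟨φ, hφ, rfl⟩ := h
  exact Nat.card_congr (Equiv.ofInjective φ (F.injective_of_mem hφ))

/-- the family of proper graphs -/
def HH (F : FusionSystem S) : Set (Subgroup ↥(S.prod S)) := {K | IsGr F K ∧ dom K ≠ S}

theorem isGr_of_FC (F : FusionSystem S) {K K' : Subgroup ↥(S.prod S)} (hK : IsGr F K)
    (h : FC (PS F) K K') : IsGr F K' ∧ F.IsConj (dom K) (dom K') :=
  IsGrU.of_isConj hK h

theorem isGr_mono (F : FusionSystem S) {K K' : Subgroup ↥(S.prod S)} (hK' : IsGr F K') (h : K ≤ K') :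
    IsGr F K := IsGrU.mono hK' (up_le_up.mpr h)

theorem dom_eq_top_iff_of_FC [Finite S] (F : FusionSystem S) {K K' : Subgroup ↥(S.prod S)} (hK : IsGr F K)
    (h : FC (PS F) K K') : dom K = S ↔ dom K' = S := by
  have hc := card_eq_of_isConj F (isGr_of_FC F hK h).2
  constructor
  · intro hd
    apply Subgroup.eq_of_le_of_card_ge (dom_le K')
    rw [← hc, hd]
  · intro hd
    apply Subgroup.eq_of_le_of_card_ge (dom_le K)
    rw [hc, hd]

theorem HH_closed [Finite S] (F : FusionSystem S) (K K' : Subgroup ↥(S.prod S)) (hK : K ∈ HH F)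
    (h : FC (PS F) K K') : K' ∈ HH F := by
  refine ⟨(isGr_of_FC F hK.1 h).1, fun hd => hK.2 ?_⟩
  exact (dom_eq_top_iff_of_FC F hK.1 h).mpr hd

theorem HH_down [Finite S] (F : FusionSystem S) (K K' : Subgroup ↥(S.prod S)) (h : K ≤ K')
    (hK' : K' ∈ HH F) : K ∈ HH F := by
  refine ⟨isGr_mono F hK'.1 h, fun hd => hK'.2 ?_⟩
  apply le_antisymm (dom_le K')
  exact hd.ge.trans (dom_mono h)

end Top

end Cfsg.Agent.Lib.Helper27.BS
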