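import Cfsg.Agent.Lib.Helper27.BS7
import Cfsg.Agent.Lib.Helper26.FSSatCrit

/-!
# Existence of stable multiplicities for `F × F` (helper27)
-/

set_option autoImplicit false

namespace Cfsg.Agent.Lib.Helper27.BS

open Cfsg Cfsg.FusionSystem Cfsg.Agent.Lib.Helper26 Cfsg.Agent.Lib.Helper27.FM
open Cfsg.Agent.Lib.Helper27.KL MulAction

section Char

variable {Ω : Type*} [Group Ω] {S : Subgroup Ω}

instance finite_prod [Finite S] : Finite ↥(S.prod S) :=
  Finite.of_equiv (↥S × ↥S) (Subgroup.prodEquiv S S).symm.toEquiv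

theorem card_prod [Finite S] : Nat.card ↥(S.prod S) = Nat.card S * Nat.card S := by
  rw [Nat.card_congr (Subgroup.prodEquiv S S).toEquiv, Nat.card_prod]

/-- the inner automorphisms inside `Aut_F(S)` -/
abbrev InnS (F : FusionSystem S) : Subgroup ↥(F.autGroup S) := (autInducedBy S S).subgroupOf (F.autGroup S)

/-- the representatives of the cosets of the inner automorphisms -/
noncomputable def topRep (F : FusionSystem S) (q : ↥(F.autGroup S) ⧸ InnS F) : Subgroup ↥(S.prod S) :=
  topGr ((q.out : ↥(F.autGroup S)) : MulAut ↥S)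

theorem topRep_injective (F : FusionSystem S) : Function.Injective (topRep F) := by
  intro q q' h
  have h1 := topGr_injective h
  have h2 : q.out = q'.out := Subtype.ext h1
  exact Quotient.out_injective h2

open Classical in
/-- top-level multiplicities -/
noncomputable def c0 (F : FusionSystem S) : Subgroup ↥(S.prod S) → ℕ :=
  fun E => if ∃ q : ↥(F.autGroup S) ⧸ InnS F, E = topRep F q then 1 else 0

theorem c0_ne_zero (F : FusionSystem S) {E : Subgroup ↥(S.prod S)} (h : c0 F E ≠ 0) :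
    ∃ q : ↥(F.autGroup S) ⧸ InnS F, E = topRep F q := by
  classical
  by_contra hcon
  exact h (if_neg hcon)

theorem c0_topRep (F : FusionSystem S) (q : ↥(F.autGroup S) ⧸ InnS F) : c0 F (topRep F q) = 1 := by
  classical
  exact if_pos ⟨q, rfl⟩

theorem isGr_of_c0_ne_zero (F : FusionSystem S) {E : Subgroup ↥(S.prod S)} (h : c0 F E ≠ 0) :
    IsGr F E ∧ dom E = S := by
  obtain ⟨q, rfl⟩ := c0_ne_zero F h
  exact isGr_topGr F (q.out : ↥(F.autGroup S)).2

variable [Finite S]

attribute [local instance] Fintype.ofFinite in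
theorem mc_c0_of_not_isGr (F : FusionSystem S) {K : Subgroup ↥(S.prod S)} (hK : ¬ IsGr F K) :
    mc (c0 F) K = 0 := by
  unfold mc
  apply Finset.sum_eq_zero
  intro E _
  by_cases hE : c0 F E = 0
  · rw [hE, zero_mul]
  · have hEg := (isGr_of_c0_ne_zero F hE).1
    have : mk K (↥(S.prod S) ⧸ E) = 0 := by
      by_contra hne
      obtain ⟨g, hg⟩ := exists_le_cj_of_mk_ne_zero K E hne
      exact hK (isGr_mono F (isGr_of_FC F hEg (FC_cj (PS F) E g)).1 hg)
    rw [this, mul_zero]

attribute [local instance] Fintype.ofFinite in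
theorem mc_c0_topGr (F : FusionSystem S) {β : MulAut ↥S} (hβ : β ∈ F.autGroup S) :
    mc (c0 F) (topGr β) = nidx (topGr (1 : MulAut ↥S)) := by
  set q₀ : ↥(F.autGroup S) ⧸ InnS F := QuotientGroup.mk ⟨β, hβ⟩ with hq₀
  have hout : (q₀.out)⁻¹ * ⟨β, hβ⟩ ∈ InnS F := by
    rw [← QuotientGroup.eq, QuotientGroup.out_eq']
  unfold mc
  rw [Finset.sum_eq_single (topRep F q₀)]
  · rw [c0_topRep, one_mul]
    obtain ⟨g, hg⟩ := (topGr_conj_iff F q₀.out ⟨β, hβ⟩).mpr hout
    rw [mk_coset_of_eq_cj (topGr β) (topRep F q₀) g hg, nidx_topGr]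
  · intro E _ hE
    by_cases hE0 : c0 F E = 0
    · rw [hE0, zero_mul]
    · obtain ⟨q, rfl⟩ := c0_ne_zero F hE0
      have : mk (topGr β) (↥(S.prod S) ⧸ topRep F q) = 0 := by
        apply mk_coset_eq_zero
        · unfold topRep
          rw [card_topGr, card_topGr]
        · rintro ⟨g, hg⟩
          have h1 := (topGr_conj_iff F q.out ⟨β, hβ⟩).mp ⟨g, hg⟩
          have h2 : (QuotientGroup.mk q.out : ↥(F.autGroup S) ⧸ InnS F) = QuotientGroup.mk ⟨β, hβ⟩ :=
            QuotientGroup.eq.mpr h1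
          rw [QuotientGroup.out_eq'] at h2
          exact hE (by rw [h2])
      rw [this, mul_zero]
  · intro h
    exact absurd (Finset.mem_univ _) h

attribute [local instance] Fintype.ofFinite in
theorem c0_stable (F : FusionSystem S) (K K' : Subgroup ↥(S.prod S)) (h : FC (PS F) K K')
    (hK : K ∉ HH F) : mc (c0 F) K = mc (c0 F) K' := by
  by_cases hg : IsGr F K
  · have hd : dom K = S := by
      by_contra hd
      exact hK ⟨hg, hd⟩
    obtain ⟨β, hβ, rfl⟩ := exists_topGr_of_isGr F hg hd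
    have hg' := (isGr_of_FC F hg h).1
    have hd' : dom K' = S := (dom_eq_top_iff_of_FC F hg h).mp hd
    obtain ⟨β', hβ', rfl⟩ := exists_topGr_of_isGr F hg' hd'
    rw [mc_c0_topGr F hβ, mc_c0_topGr F hβ']
  · have hg' : ¬ IsGr F K' := fun hg' => hg (isGr_of_FC F hg' (isConj_symm (PS F) h)).1
    rw [mc_c0_of_not_isGr F hg, mc_c0_of_not_isGr F hg']

attribute [local instance] Fintype.ofFinite in
/-- existence of stable multiplicities supported on graphs -/
theorem exists_stable {p : ℕ} [Fact p.Prime] (hS : IsPGroup p S) (F : FusionSystem S) (hF : F.IsSaturated p) :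
    ∃ c : Subgroup ↥(S.prod S) → ℕ, (∀ E, c E ≠ 0 → IsGr F E) ∧
      (∀ K K', FC (PS F) K K' → mc c K = mc c K') ∧ ∀ E, E ∉ HH F → c E = c0 F E := by
  have hsat : (PS F).IsSaturated p := Cfsg.Agent.Lib.Helper27.prodSystem_saturated hS hS F F hF hF
  have hD := stableData_of_saturated (Cfsg.Agent.Lib.Helper27.prod_isPGroup hS hS) (PS F) hsat (HH F)
    (HH_closed F) (HH_down F)
  obtain ⟨c, hc, hst⟩ := stable_extension hD (c0 F) (c0_stable F)
  refine ⟨c, fun E hE => ?_, hst, hc⟩
  by_cases hEH : E ∈ HH F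
  · exact hEH.1
  · rw [hc E hEH] at hE
    exact (isGr_of_c0_ne_zero F hE).1

end Char

end Cfsg.Agent.Lib.Helper27.BS
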