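import Cfsg.Agent.Lib.Helper27.BS8

/-!
# The size of the characteristic biset (helper27)
-/

set_option autoImplicit false

namespace Cfsg.Agent.Lib.Helper27.BS

open Cfsg Cfsg.FusionSystem Cfsg.Agent.Lib.Helper26 Cfsg.Agent.Lib.Helper27.FM
open Cfsg.Agent.Lib.Helper27.KL MulAction

section Count

variable {Ω : Type*} [Group Ω] {S : Subgroup Ω} [Finite S]

/-- the index of the domain of a graph in `S` -/
noncomputable def rdx (E : Subgroup ↥(S.prod S)) : ℕ := ((dom E).subgroupOf S).index

theorem card_eq_card_dom (F : FusionSystem S) {E : Subgroup ↥(S.prod S)} (hE : IsGr F E) :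
    Nat.card E = Nat.card (dom E) := by
  obtain ⟨P, θ, hθ, hL⟩ := hE
  rw [← card_up E]
  apply Nat.card_congr
  refine Equiv.ofBijective (fun x => ⟨x.1.1, ⟨x.1, x.2, rfl⟩⟩) ⟨?_, ?_⟩
  · intro x y hxy
    have h1 : x.1.1 = y.1.1 := congrArg Subtype.val hxy
    apply Subtype.ext
    apply Prod.ext h1
    rw [← ((hL x.1).mp x.2).2, ← ((hL y.1).mp y.2).2, h1]
  · rintro ⟨a, x, hx, rfl⟩
    exact ⟨⟨x, hx⟩, rfl⟩

theorem index_eq_of_isGr (F : FusionSystem S) {E : Subgroup ↥(S.prod S)} (hE : IsGr F E) :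
    E.index = Nat.card S * rdx E := by
  have h1 := Subgroup.card_mul_index E
  rw [card_prod, card_eq_card_dom F hE] at h1
  have h2 := Subgroup.card_mul_index ((dom E).subgroupOf S)
  have h3 : Nat.card ((dom E).subgroupOf S) = Nat.card (dom E) :=
    Nat.card_congr (Subgroup.subgroupOfEquivOfLe (dom_le E)).toEquiv
  rw [h3] at h2
  haveI : Finite ↥(dom E) :=
    Finite.of_injective (Subgroup.inclusion (dom_le E)) (Subgroup.inclusion_injective _)
  have hpos : 0 < Nat.card (dom E) := Nat.card_pos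
  unfold rdx
  apply Nat.eq_of_mul_eq_mul_left hpos
  rw [h1, ← h2]
  ring

attribute [local instance] Fintype.ofFinite in
theorem card_XS_eq (c : Subgroup ↥(S.prod S) → ℕ) :
    Nat.card (XS c) = ∑ E : Subgroup ↥(S.prod S), c E * E.index := by
  rw [← mk_bot (N := ↥(S.prod S)) (XS c), mk_XS]
  apply Finset.sum_congr rfl
  intro E _
  rw [mk_bot]
  rfl

theorem rdx_eq_one_of_dom {E : Subgroup ↥(S.prod S)} (h : dom E = S) : rdx E = 1 := by
  unfold rdx
  rw [h, Subgroup.subgroupOf_self, Subgroup.index_top]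

theorem dvd_rdx {p : ℕ} [Fact p.Prime] (hS : IsPGroup p S) {E : Subgroup ↥(S.prod S)} (h : dom E ≠ S) :
    p ∣ rdx E := by
  unfold rdx
  obtain ⟨n, hn⟩ := hS.index ((dom E).subgroupOf S)
  rw [hn]
  have hn0 : n ≠ 0 := by
    rintro rfl
    rw [pow_zero, Subgroup.index_eq_one, Subgroup.subgroupOf_eq_top] at hn
    exact h (le_antisymm (dom_le E) hn)
  exact dvd_pow_self p hn0

attribute [local instance] Fintype.ofFinite in
theorem sum_c0 (F : FusionSystem S) :
    ∑ E : Subgroup ↥(S.prod S), c0 F E = (InnS F).index := by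
  classical
  have h1 : ∀ E : Subgroup ↥(S.prod S), c0 F E = if E ∈ Finset.univ.image (topRep F) then 1 else 0 := by
    intro E
    unfold c0
    congr 1
    apply propext
    constructor
    · rintro ⟨q, rfl⟩
      exact Finset.mem_image.mpr ⟨q, Finset.mem_univ _, rfl⟩
    · intro h
      obtain ⟨q, _, rfl⟩ := Finset.mem_image.mp h
      exact ⟨q, rfl⟩
  simp_rw [h1]
  rw [Finset.sum_ite_mem, Finset.sum_const, smul_eq_mul, mul_one, Finset.univ_inter,
    Finset.card_image_of_injective _ (topRep_injective F), Finset.card_univ, ← Nat.card_eq_fintype_card]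
  rfl

attribute [local instance] Fintype.ofFinite in
/-- the size of the biset is `|S|` times a number prime to `p` -/
theorem exists_card {p : ℕ} [Fact p.Prime] (hS : IsPGroup p S) (F : FusionSystem S) (hF : F.IsSaturated p)
    (c : Subgroup ↥(S.prod S) → ℕ) (hc1 : ∀ E, c E ≠ 0 → IsGr F E) (hc3 : ∀ E, E ∉ HH F → c E = c0 F E) :
    ∃ n : ℕ, Nat.card (XS c) = Nat.card S * n ∧ ¬ p ∣ n := by
  classical
  refine ⟨∑ E : Subgroup ↥(S.prod S), c E * rdx E, ?_, ?_⟩
  · rw [card_XS_eq, Finset.mul_sum]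
    apply Finset.sum_congr rfl
    intro E _
    by_cases hE : c E = 0
    · rw [hE, zero_mul, zero_mul, mul_zero]
    · rw [index_eq_of_isGr F (hc1 E hE)]
      ring
  · have hsplit : ∀ E : Subgroup ↥(S.prod S),
        c E * rdx E = (if E ∈ HH F then c E * rdx E else 0) + c0 F E := by
      intro E
      by_cases hE : E ∈ HH F
      · rw [if_pos hE]
        have : c0 F E = 0 := by
          by_contra h0
          exact hE.2 (isGr_of_c0_ne_zero F h0).2
        rw [this, add_zero]
      · rw [if_neg hE, zero_add, hc3 E hE]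
        by_cases h0 : c0 F E = 0
        · rw [h0, zero_mul]
        · rw [rdx_eq_one_of_dom (isGr_of_c0_ne_zero F h0).2, mul_one]
    rw [Finset.sum_congr rfl (fun E _ => hsplit E), Finset.sum_add_distrib, sum_c0]
    have hdvd : p ∣ ∑ E : Subgroup ↥(S.prod S), (if E ∈ HH F then c E * rdx E else 0) := by
      apply Finset.dvd_sum
      intro E _
      split_ifs with hE
      · exact Dvd.dvd.mul_left (dvd_rdx hS hE.2) _
      · exact dvd_zero p
    have hA := ((saturated_iff_crit hS F).mp hF).1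
    obtain ⟨_, R, hR⟩ := hA
    have hnd : ¬ p ∣ (InnS F).index := by
      have := R.not_dvd_index
      rw [hR] at this
      exact this
    intro hcon
    exact hnd ((Nat.dvd_add_right hdvd).mp hcon)

end Count

end Cfsg.Agent.Lib.Helper27.BS
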