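/-
helper27: S4705 market "BS", leaf BS-CSET (`cset_of_twoBlock`) [twin]: all members of a `TwoBlock` have the same
central character (the relation `ε ψ = v₁ η₁ + v₂ η₂` at `z ∈ Z(G)` and at `1`, `|ω| = 1`).
-/
import Mathlib
import Cfsg.Prelude.Def_BlockRank
import Cfsg.Agent.Lib.Helper6.BRHDefs
import Cfsg.Agent.Lib.Helper6.BSDefs
import Cfsg.Agent.Lib.Helper23.BRVIDefs
import Cfsg.Agent.Lib.Helper23.BRVIZC

set_option autoImplicit false

namespace Cfsg.Agent.Lib.Helper27.BSCSET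

open Cfsg Cfsg.Agent.Lib.Helper8.DOM Cfsg.Agent.Lib.Helper27.DO Cfsg.Agent.CharLib
open Cfsg.Agent.Lib.Helper6.BRH Cfsg.Agent.Lib.Helper23.BRVI Cfsg.Agent.Lib.Helper6.BS
open Cfsg.Agent.Lib.Helper23.BRVIZC
open scoped ComplexConjugate

universe u

variable {G : Type u} [Group G] [Finite G] {p : ℕ} [Fact p.Prime] {M : Ideal AlgInt}

/-- two unit complex numbers with `Re (w1 conj w2) = 1` are equal -/
theorem eq_of_re_mul_conj {w1 w2 : ℂ} (h1 : ‖w1‖ = 1) (h2 : ‖w2‖ = 1)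
    (h : (w1 * conj w2).re = 1) : w1 = w2 := by
  have hs : Complex.normSq (w1 - w2) = 0 := by
    rw [Complex.normSq_sub, Complex.normSq_eq_norm_sq, Complex.normSq_eq_norm_sq, h1, h2, h]
    norm_num
  have := Complex.normSq_eq_zero.mp hs
  exact sub_eq_zero.mp this

/-- equality in the (signed) triangle inequality -/
theorem unit_key (a b : ℝ) (ha : a ≠ 0) (hb : b ≠ 0) (hab : a + b ≠ 0) (w0 w1 w2 : ℂ)
    (h0 : ‖w0‖ = 1) (h1 : ‖w1‖ = 1) (h2 : ‖w2‖ = 1)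
    (h : w0 * ((a : ℂ) + (b : ℂ)) = (a : ℂ) * w1 + (b : ℂ) * w2) : w1 = w0 ∧ w2 = w0 := by
  have e1 : Complex.normSq ((a : ℂ) + (b : ℂ)) = (a + b) ^ 2 := by
    rw [← Complex.ofReal_add, Complex.normSq_ofReal]; ring
  have e2 : Complex.normSq (a : ℂ) = a ^ 2 := by rw [Complex.normSq_ofReal]; ring
  have e3 : Complex.normSq (b : ℂ) = b ^ 2 := by rw [Complex.normSq_ofReal]; ring
  have e4 : ((a : ℂ) * w1 * conj ((b : ℂ) * w2)).re = a * b * (w1 * conj w2).re := by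
    rw [map_mul, Complex.conj_ofReal]
    have : (a : ℂ) * w1 * ((b : ℂ) * conj w2) = ((a * b : ℝ) : ℂ) * (w1 * conj w2) := by
      push_cast; ring
    rw [this, Complex.re_ofReal_mul]
  have hL : Complex.normSq (w0 * ((a : ℂ) + (b : ℂ))) = (a + b) ^ 2 := by
    rw [Complex.normSq_mul, Complex.normSq_eq_norm_sq w0, h0, e1]; ring
  have hR : Complex.normSq ((a : ℂ) * w1 + (b : ℂ) * w2) =
      a ^ 2 + b ^ 2 + 2 * (a * b * (w1 * conj w2).re) := by
    rw [Complex.normSq_add, Complex.normSq_mul, Complex.normSq_mul,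
      Complex.normSq_eq_norm_sq w1, Complex.normSq_eq_norm_sq w2, h1, h2, e2, e3, e4]; ring
  have hn : (a + b) ^ 2 = a ^ 2 + b ^ 2 + 2 * (a * b * (w1 * conj w2).re) := by
    rw [← hL, ← hR, h]
  have hre : (w1 * conj w2).re = 1 := by
    have hab' : a * b ≠ 0 := mul_ne_zero ha hb
    have : a * b * ((w1 * conj w2).re - 1) = 0 := by nlinarith
    have := (mul_eq_zero.mp this).resolve_left hab'
    linarith
  have h12 : w1 = w2 := eq_of_re_mul_conj h1 h2 hre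
  have hc : ((a : ℂ) + (b : ℂ)) ≠ 0 := by
    rw [← Complex.ofReal_add]; exact_mod_cast hab
  have h10 : w1 = w0 := by
    rw [← h12] at h
    have : w0 * ((a : ℂ) + (b : ℂ)) = w1 * ((a : ℂ) + (b : ℂ)) := by rw [h]; ring
    exact (mul_right_cancel₀ hc this).symm
  exact ⟨h10, h12 ▸ h10⟩

/-- BS-CSET : all members of the block have the same central character. -/
theorem cset_of_twoBlock (hZreg : ∀ z ∈ Subgroup.center G, ¬ p ∣ orderOf z) (P : Subgroup G)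
    (η₁ η₂ : IrrCharacter G) (v₁ v₂ : ℤ) (Y : Set (IrrCharacter G)) (ε : ℤ)
    (d : TwoBlock p P η₁ η₂ v₁ v₂ Y ε) (ψ0 : IrrCharacter G) (hψ0 : ψ0 ∈ Y) :
    η₁ ∈ cset ψ0 ∧ η₂ ∈ cset ψ0 ∧ Y ⊆ cset ψ0 := by
  have hp : p.Prime := Fact.out
  have hreg1 : ¬ p ∣ orderOf (1 : G) := by
    rw [orderOf_one]; exact hp.one_lt.ne' ∘ Nat.dvd_one.mp
  have hε0 : (ε : ℂ) ≠ 0 := by
    rcases d.sgn with h | h <;> rw [h] <;> norm_num
  -- the relation at `1`
  have hrel1 := d.relY ψ0 hψ0 1 hreg1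
  -- degrees
  have hA := Cfsg.Agent.Lib.Helper24.irr_apply_one η₁
  have hB := Cfsg.Agent.Lib.Helper24.irr_apply_one η₂
  have hD := Cfsg.Agent.Lib.Helper24.irr_apply_one ψ0
  have hApos := charDegree_pos η₁
  have hBpos := charDegree_pos η₂
  have hDpos := charDegree_pos ψ0
  set A : ℕ := charDegree (η₁ : G → ℂ) with hAdef
  set B : ℕ := charDegree (η₂ : G → ℂ) with hBdef
  set D : ℕ := charDegree (ψ0 : G → ℂ) with hDdef
  set a : ℝ := (v₁ : ℝ) * (A : ℝ) with hadef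
  set b : ℝ := (v₂ : ℝ) * (B : ℝ) with hbdef
  have hv1 : (v₁ : ℝ) ≠ 0 := by
    rcases d.sgn1 with h | h <;> rw [h] <;> norm_num
  have hv2 : (v₂ : ℝ) ≠ 0 := by
    rcases d.sgn2 with h | h <;> rw [h] <;> norm_num
  have ha : a ≠ 0 := mul_ne_zero hv1 (by exact_mod_cast hApos.ne')
  have hb : b ≠ 0 := mul_ne_zero hv2 (by exact_mod_cast hBpos.ne')
  have hab_c : ((a : ℂ) + (b : ℂ)) = (ε : ℂ) * (D : ℂ) := by
    rw [hA, hB, hD] at hrel1
    rw [hrel1, hadef, hbdef]; push_cast; ring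
  have hab : a + b ≠ 0 := by
    intro h0
    have : ((a : ℂ) + (b : ℂ)) = 0 := by rw [← Complex.ofReal_add, h0]; simp
    rw [hab_c] at this
    rcases mul_eq_zero.mp this with h | h
    · exact hε0 h
    · exact hDpos.ne' (by exact_mod_cast h)
  -- the omega's agree
  have hω : ∀ z : Subgroup.center G, omegaHom η₁ z = omegaHom ψ0 z ∧ omegaHom η₂ z = omegaHom ψ0 z := by
    intro z
    have hrelz := d.relY ψ0 hψ0 (z : G) (hZreg (z : G) z.2)
    have e1 : (η₁ : G → ℂ) (z : G) = omegaHom η₁ z * (A : ℂ) := by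
      rw [omegaHom_apply, ← hA]; field_simp [Cfsg.Agent.Lib.Helper24.irr_apply_one_ne_zero η₁]
    have e2 : (η₂ : G → ℂ) (z : G) = omegaHom η₂ z * (B : ℂ) := by
      rw [omegaHom_apply, ← hB]; field_simp [Cfsg.Agent.Lib.Helper24.irr_apply_one_ne_zero η₂]
    have e0 : (ψ0 : G → ℂ) (z : G) = omegaHom ψ0 z * (D : ℂ) := by
      rw [omegaHom_apply, ← hD]; field_simp [Cfsg.Agent.Lib.Helper24.irr_apply_one_ne_zero ψ0]
    rw [e1, e2, e0] at hrelz
    apply unit_key a b ha hb hab (omegaHom ψ0 z) (omegaHom η₁ z) (omegaHom η₂ z)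
      (norm_omegaHom ψ0 z) (norm_omegaHom η₁ z) (norm_omegaHom η₂ z)
    rw [hab_c]
    calc omegaHom ψ0 z * ((ε : ℂ) * (D : ℂ)) = (ε : ℂ) * (omegaHom ψ0 z * (D : ℂ)) := by ring
      _ = (v₁ : ℂ) * (omegaHom η₁ z * (A : ℂ)) + (v₂ : ℂ) * (omegaHom η₂ z * (B : ℂ)) := hrelz
      _ = (a : ℂ) * omegaHom η₁ z + (b : ℂ) * omegaHom η₂ z := by
          rw [hadef, hbdef]; push_cast; ring
  refine ⟨?_, ?_, ?_⟩
  · rw [mem_cset_iff]; ext z; exact (hω z).1
  · rw [mem_cset_iff]; ext z; exact (hω z).2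
  · intro ψ hψ z hz
    have h1 := d.relY ψ hψ z (hZreg z hz)
    have h2 := d.relY ψ0 hψ0 z (hZreg z hz)
    have h3 := d.relY ψ hψ 1 hreg1
    have hz' : (ψ : G → ℂ) z = (ψ0 : G → ℂ) z := mul_left_cancel₀ hε0 (h1.trans h2.symm)
    have h1' : (ψ : G → ℂ) 1 = (ψ0 : G → ℂ) 1 := mul_left_cancel₀ hε0 (h3.trans hrel1.symm)
    rw [hz', h1']

end Cfsg.Agent.Lib.Helper27.BSCSET
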