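import Mathlib

/-!
Block embedding `SL_a(F) → GL_{a ⊕ b}(F)` and the involution `diag(1, -1)` (helper27).
-/

set_option autoImplicit false

namespace Cfsg.Agent.Lib.Helper27.BlockEmb

open Matrix

variable {a b F : Type*} [Fintype a] [Fintype b] [DecidableEq a] [DecidableEq b] [Field F]

/-- the matrix `diag(1, -1)` -/
def T (a b F : Type*) [DecidableEq a] [DecidableEq b] [Field F] : Matrix (a ⊕ b) (a ⊕ b) F :=
  fromBlocks 1 0 0 (-1)

theorem T_mul_T : T a b F * T a b F = 1 := by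
  rw [T, fromBlocks_multiply]
  simp [fromBlocks_one]

/-- the involution `diag(1, -1)` in `GL` -/
def t₀ (a b F : Type*) [Fintype a] [Fintype b] [DecidableEq a] [DecidableEq b] [Field F] :
    GL (a ⊕ b) F := ⟨T a b F, T a b F, T_mul_T, T_mul_T⟩

theorem t₀_mul_self : t₀ a b F * t₀ a b F = 1 := Units.ext T_mul_T

theorem t₀_ne_one [Nonempty b] (h2 : (2 : F) ≠ 0) : t₀ a b F ≠ 1 := by
  intro h
  obtain ⟨j⟩ := ‹Nonempty b›
  have h1 : (T a b F) (Sum.inr j) (Sum.inr j) = (1 : Matrix (a ⊕ b) (a ⊕ b) F) (Sum.inr j) (Sum.inr j) := by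
    have := congrArg Units.val h
    exact congrFun (congrFun this _) _
  simp only [T, fromBlocks_apply₂₂, Matrix.neg_apply, one_apply_eq] at h1
  apply h2
  have : (2 : F) = 1 - (-1) := by ring
  rw [this, h1]; ring

theorem comm_T_iff (h2 : (2 : F) ≠ 0) (M : Matrix (a ⊕ b) (a ⊕ b) F) :
    M * T a b F = T a b F * M ↔ M.toBlocks₁₂ = 0 ∧ M.toBlocks₂₁ = 0 := by
  conv_lhs => rw [← fromBlocks_toBlocks M]
  rw [T, fromBlocks_multiply, fromBlocks_multiply]
  simp only [Matrix.mul_one, Matrix.mul_zero, add_zero, Matrix.mul_neg, zero_add, Matrix.one_mul,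
    Matrix.zero_mul, Matrix.neg_mul, fromBlocks_inj, true_and]
  constructor
  · rintro ⟨h1, h3, -⟩
    constructor
    · ext i j
      have e := congrFun (congrFun h1 i) j
      simp only [Matrix.neg_apply] at e
      have h4 : (2 : F) * M.toBlocks₁₂ i j = 0 := by
        first | linear_combination e | linear_combination -e
      rcases mul_eq_zero.mp h4 with h | h
      · exact absurd h h2
      · simpa using h
    · ext i j
      have e := congrFun (congrFun h3 i) j
      simp only [Matrix.neg_apply] at e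
      have h4 : (2 : F) * M.toBlocks₂₁ i j = 0 := by
        first | linear_combination e | linear_combination -e
      rcases mul_eq_zero.mp h4 with h | h
      · exact absurd h h2
      · simpa using h
  · rintro ⟨h1, h3⟩
    rw [h1, h3]
    simp

/-- the block embedding of matrices -/
def φ₀ (a b F : Type*) [Fintype a] [Fintype b] [DecidableEq a] [DecidableEq b] [Field F] :
    Matrix a a F →* Matrix (a ⊕ b) (a ⊕ b) F where
  toFun A := fromBlocks A 0 0 1
  map_one' := fromBlocks_one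
  map_mul' A B := by
    rw [fromBlocks_multiply]
    simp

/-- the block embedding `SL_a → GL_{a ⊕ b}` -/
def f₀ (a b F : Type*) [Fintype a] [Fintype b] [DecidableEq a] [DecidableEq b] [Field F] :
    SpecialLinearGroup a F →* GL (a ⊕ b) F :=
  (Units.map (φ₀ a b F)).comp SpecialLinearGroup.toGL

theorem f₀_val (A : SpecialLinearGroup a F) :
    ((f₀ a b F A : GL (a ⊕ b) F) : Matrix (a ⊕ b) (a ⊕ b) F) = fromBlocks (A : Matrix a a F) 0 0 1 :=
  rfl

theorem f₀_comm (A : SpecialLinearGroup a F) : f₀ a b F A * t₀ a b F = t₀ a b F * f₀ a b F A := by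
  apply Units.ext
  show fromBlocks (A : Matrix a a F) 0 0 1 * T a b F = T a b F * fromBlocks (A : Matrix a a F) 0 0 1
  rw [T, fromBlocks_multiply, fromBlocks_multiply]
  simp

theorem f₀_conj (h2 : (2 : F) ≠ 0) (g : GL (a ⊕ b) F) (hg : g * t₀ a b F = t₀ a b F * g)
    (A : SpecialLinearGroup a F) : ∃ A' : SpecialLinearGroup a F, g * f₀ a b F A * g⁻¹ = f₀ a b F A' := by
  have hg1 : (g : Matrix (a ⊕ b) (a ⊕ b) F) * T a b F = T a b F * (g : Matrix (a ⊕ b) (a ⊕ b) F) :=
    congrArg Units.val hg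
  have hgi : g⁻¹ * t₀ a b F = t₀ a b F * g⁻¹ := by
    have : g⁻¹ * (g * t₀ a b F) * g⁻¹ = g⁻¹ * (t₀ a b F * g) * g⁻¹ := by rw [hg]
    simpa [mul_assoc] using this.symm
  have hg2 : ((g⁻¹ : GL (a ⊕ b) F) : Matrix (a ⊕ b) (a ⊕ b) F) * T a b F =
      T a b F * ((g⁻¹ : GL (a ⊕ b) F) : Matrix (a ⊕ b) (a ⊕ b) F) := congrArg Units.val hgi
  obtain ⟨h12, h21⟩ := (comm_T_iff h2 _).mp hg1
  obtain ⟨k12, k21⟩ := (comm_T_iff h2 _).mp hg2
  set M := (g : Matrix (a ⊕ b) (a ⊕ b) F) with hM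
  set N := ((g⁻¹ : GL (a ⊕ b) F) : Matrix (a ⊕ b) (a ⊕ b) F) with hN
  have eM : M = fromBlocks M.toBlocks₁₁ 0 0 M.toBlocks₂₂ := by
    conv_lhs => rw [← fromBlocks_toBlocks M, h12, h21]
  have eN : N = fromBlocks N.toBlocks₁₁ 0 0 N.toBlocks₂₂ := by
    conv_lhs => rw [← fromBlocks_toBlocks N, k12, k21]
  have hMN : M * N = 1 := by
    rw [hM, hN, ← Units.val_mul, mul_inv_cancel, Units.val_one]
  have hblocks : M.toBlocks₁₁ * N.toBlocks₁₁ = 1 ∧ M.toBlocks₂₂ * N.toBlocks₂₂ = 1 := by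
    rw [eM, eN, fromBlocks_multiply, ← fromBlocks_one, fromBlocks_inj] at hMN
    simp only [Matrix.mul_zero, add_zero, Matrix.zero_mul, zero_add] at hMN
    exact ⟨hMN.1, hMN.2.2.2⟩
  have hdet : (M.toBlocks₁₁ * (A : Matrix a a F) * N.toBlocks₁₁).det = 1 := by
    rw [det_mul, det_mul, A.2, mul_one, ← det_mul, hblocks.1, det_one]
  refine ⟨⟨M.toBlocks₁₁ * (A : Matrix a a F) * N.toBlocks₁₁, hdet⟩, ?_⟩
  apply Units.ext
  show M * fromBlocks (A : Matrix a a F) 0 0 1 * N =
    fromBlocks (M.toBlocks₁₁ * (A : Matrix a a F) * N.toBlocks₁₁) 0 0 1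
  conv_lhs => rw [eM, eN]
  rw [fromBlocks_multiply, fromBlocks_multiply]
  simp [hblocks.2]

theorem exists_not_comm [Nonempty a] [Nonempty b] (h2 : (2 : F) ≠ 0) :
    ∃ g : GL (a ⊕ b) F, g * t₀ a b F ≠ t₀ a b F * g := by
  obtain ⟨i⟩ := ‹Nonempty a›
  obtain ⟨j⟩ := ‹Nonempty b›
  let B : Matrix a b F := Matrix.single i j 1
  have hmul : fromBlocks (1 : Matrix a a F) B 0 (1 : Matrix b b F) * fromBlocks 1 (-B) 0 1 = 1 := by
    rw [fromBlocks_multiply]
    simp [fromBlocks_one]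
  have hmul' : fromBlocks (1 : Matrix a a F) (-B) 0 (1 : Matrix b b F) * fromBlocks 1 B 0 1 = 1 := by
    rw [fromBlocks_multiply]
    simp [fromBlocks_one]
  refine ⟨⟨fromBlocks 1 B 0 1, fromBlocks 1 (-B) 0 1, hmul, hmul'⟩, ?_⟩
  intro h
  have h1 : fromBlocks (1 : Matrix a a F) B 0 (1 : Matrix b b F) * T a b F =
      T a b F * fromBlocks 1 B 0 1 := congrArg Units.val h
  have := ((comm_T_iff h2 _).mp h1).1
  rw [toBlocks_fromBlocks₁₂] at this
  have := congrFun (congrFun this i) j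
  simp [B] at this

/-- an involution in `SL_a(F)` when `a` has two distinct elements -/
theorem exists_involution (h2 : (2 : F) ≠ 0) {i j : a} (hij : i ≠ j) :
    ∃ A : SpecialLinearGroup a F, A ≠ 1 ∧ A * A = 1 := by
  let d₁ : a → F := fun k => if k = i then -1 else 1
  let d₂ : a → F := fun k => if k = j then -1 else 1
  have hdet1 : (diagonal d₁).det = -1 := by
    rw [det_diagonal]
    simp [d₁, Finset.prod_ite_eq']
  have hdet2 : (diagonal d₂).det = -1 := by
    rw [det_diagonal]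
    simp [d₂, Finset.prod_ite_eq']
  have hdet : (diagonal d₁ * diagonal d₂).det = 1 := by
    rw [det_mul, hdet1, hdet2]; ring
  refine ⟨⟨diagonal d₁ * diagonal d₂, hdet⟩, ?_, ?_⟩
  · intro h
    have h1 : diagonal d₁ * diagonal d₂ = (1 : Matrix a a F) := by
      have := congrArg (fun A : SpecialLinearGroup a F => (A : Matrix a a F)) h
      simpa using this
    have h3 := congrFun (congrFun h1 i) i
    simp only [diagonal_mul_diagonal, diagonal_apply_eq,
      one_apply_eq, d₁, d₂, if_pos, if_neg hij] at h3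
    apply h2
    have : (2 : F) = 1 - (-1 * 1) := by ring
    rw [this, h3]; ring
  · apply Subtype.ext
    show diagonal d₁ * diagonal d₂ * (diagonal d₁ * diagonal d₂) = 1
    rw [diagonal_mul_diagonal, diagonal_mul_diagonal, ← diagonal_one]
    congr 1
    funext k
    simp only [d₁, d₂]
    split_ifs <;> ring

end Cfsg.Agent.Lib.Helper27.BlockEmb
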