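import Mathlib
import Cfsg.Prelude.Def_ClassicalGeometry
import Cfsg.Prelude.Def_GeometricClasses
import Cfsg.Agent.Lib.Helper5.NDMax
import Cfsg.Agent.Lib.Helper25.OmegaNonMax
import Cfsg.Agent.Lib.Helper1.C3ODefs
import Cfsg.Agent.Lib.Helper1.C3OCalc
import Cfsg.Agent.Lib.Helper1.C3OF4
import Cfsg.Agent.Lib.Lead.C3OG123
import Cfsg.Agent.Lib.Helper20.C3OG45
import Cfsg.Agent.Lib.Helper27.C3OCore

/-!
helper27: S5700 leaves CP (`core_P`), CL (`core_line`), CG (`core_good`), exact signatures of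
`notes/S5700_leaves.lean`.
-/

set_option autoImplicit false
set_option linter.unusedSectionVars false
set_option linter.unusedVariables false

namespace Cfsg.Agent.Lib.Helper27.C3OLeaf
open Module QuadraticMap Matrix Cfsg.Agent.Lib.Helper25.CD Cfsg.Agent.Lib.Helper25.Spin
  Cfsg.Agent.Lib.Helper25.Fam Cfsg.Agent.Lib.Helper25.Siegel
  Cfsg.Agent.Lib.Helper25.PS Cfsg.Agent.Lib.Helper25.OGeom Cfsg.Agent.Lib.Helper15
  Cfsg.Agent.Lib.Helper5.TSMax Cfsg.Agent.Lib.Helper5.NSMax Cfsg.Agent.Lib.Helper5.PairMax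
  Cfsg.Agent.Lib.Helper5.NDMax Cfsg.Agent.Lib.Helper1.C3O

variable {ι : Type} [Fintype ι] [DecidableEq ι] {F : Type*} [Field F] [Fintype F]
  {Q : QuadraticForm F (ι → F)}

theorem f4Stmt : Cfsg.Agent.Lib.Helper27.C3OCore.F4Stmt Q :=
  fun hu hu' huu' h h' huy hu'y' hyu' hy'u hyy' =>
    Cfsg.Agent.Lib.Helper1.C3OLeaf.inA_comm hu hu' huu' h h' huy hu'y' hyu' hy'u hyy'

theorem g3Stmt (hQ : (polarBilin Q).Nondegenerate) (hn : 13 ≤ Fintype.card ι) :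
    Cfsg.Agent.Lib.Helper27.C3OCore.G3Stmt Q :=
  fun l hl N hN _ hx => Cfsg.Agent.Lib.Lead.C3OLeaf.mem_span_sing_perp_not_mem hQ hn l hl N hN hx

theorem g4Stmt (hQ : (polarBilin Q).Nondegenerate) : Cfsg.Agent.Lib.Helper27.C3OCore.G4Stmt Q :=
  fun l _ hz => Cfsg.Agent.Lib.Helper20.C3OLeaf.exists_perp_list_ne hQ l hz

theorem g5Stmt (hQ : (polarBilin Q).Nondegenerate) : Cfsg.Agent.Lib.Helper27.C3OCore.G5Stmt Q :=
  fun l N h => Cfsg.Agent.Lib.Helper20.C3OLeaf.exists_perp_list_not_mem hQ l N h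

/-- (a)+(b) : `⟨u, Ju, J'u⟩^⊥` lies in the root module of `u` -/
theorem core_P (hQ : (polarBilin Q).Nondegenerate) (hn : 13 ≤ Fintype.card ι) {t ν : F}
    {J J' : Matrix ι ι F} (hJ : CS Q t ν J) (hJ' : CS Q t ν J')
    {M : Subgroup ↥(Cfsg.isometryGroup F ⇑Q)} (hA : Adm Q M J) (hA' : Adm Q M J') {u : ι → F}
    (hu : Q u = 0) (hnot : ¬ KL J u (J' *ᵥ u)) {x : ι → F}
    (hx : ∀ y ∈ [u, J *ᵥ u, J' *ᵥ u], polar Q y x = 0) : InA Q M u x :=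
  Cfsg.Agent.Lib.Helper27.C3OCore.core_P_of f4Stmt (g3Stmt hQ hn) (g4Stmt hQ) hJ hJ' hA hA' hu hnot hx

/-- (c) : if `r ∋ u, J₁u` is a short list with `r^⊥` in the root module of `u` then so is `⟨u, J₁u⟩^⊥` -/
theorem core_line (hQ : (polarBilin Q).Nondegenerate) (hn : 13 ≤ Fintype.card ι) {t ν : F}
    {J₁ : Matrix ι ι F} (hJ₁ : CS Q t ν J₁) {M : Subgroup ↥(Cfsg.isometryGroup F ⇑Q)}
    (hA : Adm Q M J₁) {u : ι → F} (hu : Q u = 0) (r : List (ι → F)) (hr : r.length ≤ 3)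
    (hur : u ∈ r) (hJur : J₁ *ᵥ u ∈ r)
    (hP : ∀ x : ι → F, (∀ y ∈ r, polar Q y x = 0) → InA Q M u x) {x : ι → F}
    (h1 : polar Q u x = 0) (h2 : polar Q (J₁ *ᵥ u) x = 0) : InA Q M u x :=
  Cfsg.Agent.Lib.Helper27.C3OCore.core_line_of f4Stmt (g3Stmt hQ hn) (g4Stmt hQ) (g5Stmt hQ) hn hJ₁ hA
    hu r hr hur hJur hP h1 h2

/-- (d) + `good_of_all` -/
theorem core_good (hQ : (polarBilin Q).Nondegenerate) (hn : 13 ≤ Fintype.card ι) {t ν : F}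
    {J J' : Matrix ι ι F} (hJ : CS Q t ν J) (hJ' : CS Q t ν J')
    {M : Subgroup ↥(Cfsg.isometryGroup F ⇑Q)} (hA : Adm Q M J) (hA' : Adm Q M J') {u : ι → F}
    (hu0 : u ≠ 0) (hu : Q u = 0) (hnot : ¬ KL J u (J' *ᵥ u)) : Good Q M (mk' Q u hu0 hu) :=
  Cfsg.Agent.Lib.Helper27.C3OCore.core_good_of f4Stmt (g3Stmt hQ hn) (g4Stmt hQ) (g5Stmt hQ) hn hJ hJ'
    hA hA' hu0 hu hnot

end Cfsg.Agent.Lib.Helper27.C3OLeaf
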