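import Mathlib
import Cfsg.Prelude.Def_Classical
import Cfsg.Prelude.Def_ClassicalGeometry
import Cfsg.Prelude.Def_GeometricClasses
import Cfsg.Agent.Lib.Helper5.SUMax
import Cfsg.Agent.Lib.Helper5.UForm
import Cfsg.Agent.Lib.Helper5.HermBridge
import Cfsg.Agent.Lib.Helper22.C3LDefs
import Cfsg.Agent.Lib.Helper22.C3LTool
import Cfsg.Agent.Lib.Helper16.C3uDefs
import Cfsg.Agent.Lib.Helper12.C3uF
import Cfsg.Agent.Lib.Helper27.C3u2CW1

/-!
S5840 conjunct (7), rank-one unitary C3 (planner helper13, notes/S5840_C3_leaves.lean): leaf **DU**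
`mem_of_perp` (helper27): duality for `(x, y) ↦ τ (x * st y)` on `E`.  Tools: `tauForm S` (the symmetric
`F`-bilinear form `τ (x * y)`, nondegenerate), `stSub S hF Φ = st(Φ)` (an `F`-subspace with the same `finrank`).
-/

set_option autoImplicit false
set_option linter.unusedSectionVars false
set_option linter.unusedVariables false

namespace Cfsg.Agent.Lib.Helper27.C3qLeaf
open Cfsg Matrix Module Cfsg.Agent.Lib.Helper5.SpMax Cfsg.Agent.Lib.Helper5.SUMax
  Cfsg.Agent.Lib.Helper22.C3L Cfsg.Agent.Lib.Helper16.C3u Cfsg.Agent.Lib.Helper5.HermBridge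
  Cfsg.Agent.Lib.Helper27.C3u2Leaf

universe u
variable {F : Type u} [Field F] [Fintype F] {n q : ℕ} {E : Type u} [Field E] [Algebra F E]

/-- the symmetric bilinear form `(x, y) ↦ τ (x * y)` -/
noncomputable def tauForm (S : KU n q F E) : LinearMap.BilinForm F E :=
  (LinearMap.mul F E).compr₂ S.τ

theorem tauForm_apply (S : KU n q F E) (x y : E) : tauForm S x y = S.τ (x * y) := rfl

theorem tauForm_nondeg (S : KU n q F E) (hF : Fintype.card F = q ^ 2) (hn : 0 < n) :
    (tauForm S).Nondegenerate := by
  constructor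
  · intro x hx
    exact Cfsg.Agent.Lib.Helper12.C3uLeaf.tau_nondeg S hF hn hx
  · intro y hy
    apply Cfsg.Agent.Lib.Helper12.C3uLeaf.tau_nondeg S hF hn
    intro b
    have := hy b
    rwa [tauForm_apply, mul_comm] at this

/-- the image `st(Φ)` of an `F`-subspace (again an `F`-subspace) -/
def stSub (S : KU n q F E) (hF : Fintype.card F = q ^ 2) (Φ : Submodule F E) : Submodule F E where
  carrier := {x | S.st x ∈ Φ}
  add_mem' := by
    intro a b ha hb
    show S.st (a + b) ∈ Φ
    rw [map_add]
    exact Φ.add_mem ha hb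
  zero_mem' := by
    show S.st 0 ∈ Φ
    rw [map_zero]
    exact Φ.zero_mem
  smul_mem' := by
    intro c x hx
    show S.st (c • x) ∈ Φ
    rw [st_fsmul]
    exact Φ.smul_mem _ hx

theorem mem_stSub (S : KU n q F E) (hF : Fintype.card F = q ^ 2) (Φ : Submodule F E) (x : E) :
    x ∈ stSub S hF Φ ↔ S.st x ∈ Φ := Iff.rfl

theorem finrank_stSub (S : KU n q F E) (hF : Fintype.card F = q ^ 2) [FiniteDimensional F E]
    (Φ : Submodule F E) : finrank F (stSub S hF Φ) = finrank F Φ := by
  have : Finite E := Module.finite_of_finite F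
  have h1 : Nat.card (stSub S hF Φ) = Nat.card F ^ finrank F (stSub S hF Φ) :=
    Module.natCard_eq_pow_finrank
  have h2 : Nat.card Φ = Nat.card F ^ finrank F Φ := Module.natCard_eq_pow_finrank
  have h3 : Nat.card (stSub S hF Φ) = Nat.card Φ :=
    Nat.card_congr
      { toFun := fun x => ⟨S.st x.1, x.2⟩
        invFun := fun y => ⟨S.st y.1, by rw [mem_stSub, S.st_st]; exact y.2⟩
        left_inv := fun x => Subtype.ext (S.st_st x.1)
        right_inv := fun y => Subtype.ext (S.st_st y.1) }
  rw [h1, h2] at h3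
  have hc : 1 < Nat.card F := by
    rw [Nat.card_eq_fintype_card]
    exact Fintype.one_lt_card
  exact Nat.pow_right_injective hc h3

/-- **DU** duality for `(x, y) ↦ τ (x * st y)`: a pair of mutually orthogonal subspaces of
complementary dimensions are each other's orthogonal -/
theorem mem_of_perp (S : KU n q F E) (hF : Fintype.card F = q ^ 2) (hn : 0 < n)
    [FiniteDimensional F E] (B Φ : Submodule F E) (hdim : finrank F Φ + finrank F B = finrank F E)
    (hperp : ∀ b ∈ B, ∀ φ ∈ Φ, S.τ (b * S.st φ) = 0) :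
    (∀ φ : E, (∀ b ∈ B, S.τ (b * S.st φ) = 0) → φ ∈ Φ) ∧
    (∀ b : E, (∀ φ ∈ Φ, S.τ (b * S.st φ) = 0) → b ∈ B) := by
  have hnd := tauForm_nondeg S hF hn
  constructor
  · -- `st(Φ) = B^⊥`
    have hle : stSub S hF Φ ≤ (tauForm S).orthogonal B := by
      intro x hx b hb
      show tauForm S b x = 0
      rw [tauForm_apply]
      have := hperp b hb (S.st x) hx
      rwa [S.st_st] at this
    have hfr : finrank F ((tauForm S).orthogonal B) = finrank F (stSub S hF Φ) := by
      rw [LinearMap.BilinForm.finrank_orthogonal hnd, finrank_stSub]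
      omega
    have heq := Submodule.eq_of_le_of_finrank_eq hle hfr.symm
    intro φ hφ
    have h1 : S.st φ ∈ (tauForm S).orthogonal B := by
      intro b hb
      show tauForm S b (S.st φ) = 0
      rw [tauForm_apply]
      exact hφ b hb
    rw [← heq, mem_stSub, S.st_st] at h1
    exact h1
  · -- `B = st(Φ)^⊥`
    have hle : B ≤ (tauForm S).orthogonal (stSub S hF Φ) := by
      intro b hb x hx
      show tauForm S x b = 0
      rw [tauForm_apply, mul_comm]
      have := hperp b hb (S.st x) hx
      rwa [S.st_st] at this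
    have hfr : finrank F ((tauForm S).orthogonal (stSub S hF Φ)) = finrank F B := by
      rw [LinearMap.BilinForm.finrank_orthogonal hnd, finrank_stSub]
      omega
    have heq := Submodule.eq_of_le_of_finrank_eq hle hfr.symm
    intro b hb
    rw [heq]
    intro x hx
    show tauForm S x b = 0
    rw [tauForm_apply, mul_comm]
    have := hb (S.st x) hx
    rwa [S.st_st] at this

end Cfsg.Agent.Lib.Helper27.C3qLeaf
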