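import Mathlib
import Cfsg.Agent.Lib.Helper29.PrimePowerElement
import Cfsg.Agent.Lib.Helper10.CNGroup
import Cfsg.Agent.Lib.Helper21.ClassSize

/-!
Cossey–Hawkes–Mann: a finite group with the same multiset of class sizes as a nilpotent group is
nilpotent (helper27).
-/

set_option autoImplicit false

namespace Cfsg.Agent.Lib.Helper27.ClassSizeNilp

open Subgroup
open scoped Pointwise

/-- class size of an element -/
noncomputable def cs (X : Type*) [Group X] (x : X) : ℕ := Nat.card (ConjClasses.mk x).carrier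

section Transfer

theorem card_fiber (X : Type*) [Group X] [Finite X] (k : ℕ) :
    Nat.card {x : X // cs X x = k} =
      Nat.card {C : ConjClasses X // Nat.card C.carrier = k} * k := by
  classical
  haveI : Fintype {C : ConjClasses X // Nat.card C.carrier = k} := Fintype.ofFinite _
  let e : {x : X // cs X x = k} ≃
      Σ C : {C : ConjClasses X // Nat.card C.carrier = k}, C.1.carrier :=
    { toFun := fun x => ⟨⟨ConjClasses.mk x.1, x.2⟩, ⟨x.1, ConjClasses.mem_carrier_mk⟩⟩
      invFun := fun Cy => ⟨Cy.2.1, by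
        have := ConjClasses.mem_carrier_iff_mk_eq.mp Cy.2.2
        unfold cs
        rw [this]
        exact Cy.1.2⟩
      left_inv := fun x => rfl
      right_inv := by
        rintro ⟨⟨C, hC⟩, ⟨y, hy⟩⟩
        obtain rfl := ConjClasses.mem_carrier_iff_mk_eq.mp hy
        rfl }
  rw [Nat.card_congr e, Nat.card_sigma]
  rw [Finset.sum_congr rfl (fun C _ => C.2), Finset.sum_const, Finset.card_univ,
    Nat.card_eq_fintype_card, smul_eq_mul]

theorem exists_equiv {G H : Type*} [Group G] [Finite G] [Group H] [Finite H]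
    (h : ∀ k : ℕ, Nat.card {C : ConjClasses G // Nat.card C.carrier = k} =
      Nat.card {C : ConjClasses H // Nat.card C.carrier = k}) :
    ∃ Φ : G ≃ H, ∀ x, cs H (Φ x) = cs G x := by
  have hk : ∀ k : ℕ, Nonempty ({x : G // cs G x = k} ≃ {y : H // cs H y = k}) := by
    intro k
    rw [← Finite.card_eq, card_fiber, card_fiber, h k]
  choose e _ using fun k => (⟨(hk k).some, trivial⟩ : ∃ _ : {x : G // cs G x = k} ≃ {y : H // cs H y = k}, True)
  refine ⟨(Equiv.sigmaFiberEquiv (cs G)).symm.trans
    ((Equiv.sigmaCongrRight e).trans (Equiv.sigmaFiberEquiv (cs H))), fun x => ?_⟩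
  exact ((e (cs G x)) ⟨x, rfl⟩).2

theorem card_congr_of_equiv {G H : Type*} [Group G] [Group H] (Φ : G ≃ H)
    (hΦ : ∀ x, cs H (Φ x) = cs G x) (Q : ℕ → Prop) :
    Nat.card {x : G // Q (cs G x)} = Nat.card {y : H // Q (cs H y)} :=
  Nat.card_congr (Φ.subtypeEquiv (fun x => by rw [hΦ x]))

end Transfer

section Generic

variable {X : Type*} [Group X] [Finite X]

theorem cs_eq_index (x : X) : cs X x = (centralizer ({x} : Set X)).index := by
  unfold cs
  rw [Cfsg.Agent.Lib.Helper21.index_centralizer_eq_ncard_carrier, Nat.card_coe_set_eq]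

theorem cs_eq_one_iff (x : X) : cs X x = 1 ↔ x ∈ center X := by
  rw [cs_eq_index, Subgroup.index_eq_one, Subgroup.centralizer_eq_top_iff_subset,
    Set.singleton_subset_iff]
  rfl

omit [Finite X] in
theorem le_centralizer_singleton_iff (Q : Subgroup X) (x : X) :
    Q ≤ centralizer ({x} : Set X) ↔ x ∈ centralizer (Q : Set X) := by
  rw [mem_centralizer_iff]
  constructor
  · intro h q hq
    exact mem_centralizer_singleton_iff.mp (h hq)
  · intro h q hq
    exact mem_centralizer_singleton_iff.mpr (h q hq)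

omit [Finite X] in
theorem relIndex_mul_card {A B : Subgroup X} (h : A ≤ B) :
    A.relIndex B * Nat.card A = Nat.card B := by
  rw [relIndex, ← Nat.card_congr (subgroupOfEquivOfLe h).toEquiv]
  exact Subgroup.index_mul_card _

variable (p : ℕ) [Fact p.Prime]

theorem not_dvd_index_iff (K : Subgroup X) :
    ¬ p ∣ K.index ↔ ∃ Q : Sylow p X, (Q : Subgroup X) ≤ K := by
  constructor
  · intro h
    obtain ⟨R⟩ : Nonempty (Sylow p K) := inferInstance
    have hidx : ¬ p ∣ (R.1.map K.subtype).index := by
      rw [Subgroup.index_map_subtype]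
      exact Nat.Prime.not_dvd_mul Fact.out R.not_dvd_index h
    exact ⟨(R.2.map K.subtype).toSylow hidx, Subgroup.map_subtype_le _⟩
  · rintro ⟨Q, hQ⟩ hdvd
    exact Q.not_dvd_index (hdvd.trans (Subgroup.index_dvd_of_le hQ))

theorem not_dvd_cs_iff (x : X) :
    ¬ p ∣ cs X x ↔ ∃ Q : Sylow p X, (Q : Subgroup X) ≤ centralizer ({x} : Set X) := by
  rw [cs_eq_index, not_dvd_index_iff]

theorem card_sylow_le_modEq_one (K : Subgroup X) (h : ¬ p ∣ K.index) :
    Nat.card {Q : Sylow p X // (Q : Subgroup X) ≤ K} ≡ 1 [MOD p] := by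
  have hbij : Function.Bijective
      (fun Q : {Q : Sylow p X // (Q : Subgroup X) ≤ K} => Q.1.subtype Q.2) := by
    constructor
    · intro Q Q' hQQ'
      exact Subtype.ext (Sylow.subtype_injective hQQ')
    · intro R
      have hidx : ¬ p ∣ (R.1.map K.subtype).index := by
        rw [Subgroup.index_map_subtype]
        exact Nat.Prime.not_dvd_mul Fact.out R.not_dvd_index h
      refine ⟨⟨(R.2.map K.subtype).toSylow hidx, Subgroup.map_subtype_le _⟩, ?_⟩
      apply Sylow.ext
      simp only [Sylow.coe_subtype]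
      change (R.1.map K.subtype).subgroupOf K = R.1
      rw [Subgroup.subgroupOf, Subgroup.comap_map_eq_self_of_injective K.subtype_injective]
  rw [Nat.card_congr (Equiv.ofBijective _ hbij)]
  exact card_sylow_modEq_one p K

end Generic

section PartA

theorem nilpotent_count {H : Type*} [Group H] [Finite H] (hH : Group.IsNilpotent H) (p : ℕ)
    [Fact p.Prime] (P : Sylow p H) :
    ∃ j : ℕ, p ^ j ∣ Nat.card (center H) ∧
      Nat.card {y : H // ¬ p ∣ cs H y} * Nat.card P = Nat.card H * p ^ j := by
  have hPn : (P : Subgroup H).Normal :=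
    ((Group.isNilpotent_of_finite_tfae (G := H)).out 0 3 rfl rfl).mp hH p inferInstance P
  haveI := hPn
  set C := centralizer ((P : Subgroup H) : Set H) with hC
  haveI : C.Normal := Subgroup.normal_centralizer
  have hA1 : Nat.card {y : H // ¬ p ∣ cs H y} = Nat.card C := by
    apply Nat.card_congr
    apply Equiv.subtypeEquivRight
    intro y
    rw [not_dvd_cs_iff, hC, ← le_centralizer_singleton_iff]
    constructor
    · rintro ⟨Q, hQ⟩
      have : Q = P := by
        haveI := Sylow.unique_of_normal P hPn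
        exact Subsingleton.elim _ _
      rwa [this] at hQ
    · intro h
      exact ⟨P, h⟩
  have hA2 : (P : Subgroup H) ⊔ C = ⊤ := by
    rw [eq_top_iff]
    intro h _
    apply Cfsg.Agent.Lib.Helper10.mem_of_parts_mem p _ h
    · intro k y _ hy
      apply (le_sup_left : (P : Subgroup H) ≤ (P : Subgroup H) ⊔ C)
      exact Cfsg.Agent.Lib.Helper29.le_of_isPGroup_of_normal_sylow P _
        (Cfsg.Agent.Lib.Helper10.isPGroup_zpowers_of_pow_eq_one y k hy) (mem_zpowers y)
    · intro y _ hy
      apply (le_sup_right : C ≤ (P : Subgroup H) ⊔ C)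
      rw [hC, mem_centralizer_iff]
      intro u hu
      obtain ⟨k, hk⟩ := P.2 ⟨u, hu⟩
      have hk' : u ^ p ^ k = 1 := by simpa using congrArg Subtype.val hk
      exact Cfsg.Agent.Lib.Helper29.commute_of_isNilpotent_of_coprime hH u y k hk' hy
  set D := (P : Subgroup H) ⊓ C with hD
  have hA3 : Nat.card C * Nat.card P = Nat.card H * Nat.card D := by
    have h1 : C.relIndex ((P : Subgroup H) ⊔ C) = C.relIndex P :=
      Subgroup.relIndex_sup_right (P : Subgroup H) C
    rw [hA2, relIndex_top_right] at h1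
    have h2 : C.relIndex P * Nat.card D = Nat.card P := by
      rw [← inf_relIndex_left (H := (P : Subgroup H)) (K := C)]
      exact relIndex_mul_card inf_le_left
    have h3 : C.index * Nat.card C = Nat.card H := Subgroup.index_mul_card C
    rw [← h2, ← h3, h1]
    ring
  have hA4 : D ≤ center H := by
    intro z hz
    have hzP : z ∈ (P : Subgroup H) := hz.1
    have hzC : z ∈ C := hz.2
    have : centralizer ({z} : Set H) = ⊤ := by
      rw [eq_top_iff, ← hA2]
      apply sup_le
      · rw [le_centralizer_singleton_iff]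
        exact hzC
      · intro c hc
        rw [mem_centralizer_singleton_iff]
        exact (mem_centralizer_iff.mp hc z hzP).symm
    rw [Subgroup.centralizer_eq_top_iff_subset, Set.singleton_subset_iff] at this
    exact this
  obtain ⟨j, hj⟩ := IsPGroup.iff_card.mp (P.2.to_le inf_le_left : IsPGroup p D)
  refine ⟨j, ?_, ?_⟩
  · rw [← hj]
    exact Subgroup.card_dvd_of_le hA4
  · rw [hA1, hA3, hj]

end PartA

section PartB

variable {X : Type*} [Group X] [Fintype X] (p : ℕ) [Fact p.Prime]

/-- number of Sylow `p`-subgroups centralizing `x` -/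
noncomputable def nu (x : X) : ℕ :=
  Nat.card {Q : Sylow p X // (Q : Subgroup X) ≤ centralizer ({x} : Set X)}

open Classical in
/-- indicator of `p ∤ |x^G|` -/
noncomputable def del (x : X) : ℕ := if p ∣ cs X x then 0 else 1

theorem nu_modEq_del (x : X) : nu p x ≡ del p x [MOD p] := by
  unfold nu del
  by_cases h : p ∣ cs X x
  · rw [if_pos h]
    have : IsEmpty {Q : Sylow p X // (Q : Subgroup X) ≤ centralizer ({x} : Set X)} := by
      rw [isEmpty_subtype]
      intro Q hQ
      exact (not_dvd_cs_iff p x).mpr ⟨Q, hQ⟩ h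
    rw [Nat.card_of_isEmpty]
  · rw [if_neg h]
    exact card_sylow_le_modEq_one p _ (by rwa [← cs_eq_index])

theorem del_le_nu (x : X) : del p x ≤ nu p x := by
  unfold nu del
  by_cases h : p ∣ cs X x
  · rw [if_pos h]
    exact Nat.zero_le _
  · rw [if_neg h]
    obtain ⟨Q, hQ⟩ := (not_dvd_cs_iff p x).mp h
    haveI : Nonempty {Q : Sylow p X // (Q : Subgroup X) ≤ centralizer ({x} : Set X)} := ⟨⟨Q, hQ⟩⟩
    exact Nat.card_pos

theorem sum_del : ∑ x : X, del p x = Nat.card {x : X // ¬ p ∣ cs X x} := by
  classical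
  unfold del
  rw [Nat.card_eq_fintype_card, Fintype.card_subtype, Finset.card_eq_sum_ones,
    Finset.sum_filter]
  apply Finset.sum_congr rfl
  intro x _
  by_cases h : p ∣ cs X x
  · rw [if_pos h, if_neg (not_not.mpr h)]
  · rw [if_neg h, if_pos h]

omit [Fintype X] [Fact p.Prime] in
theorem card_centralizer_smul (g : X) (Q : Subgroup X) :
    Nat.card (centralizer ((MulAut.conj g • Q : Subgroup X) : Set X)) =
      Nat.card (centralizer (Q : Set X)) := by
  symm
  apply Nat.card_congr
  refine Equiv.subtypeEquiv (MulAut.conj g).toEquiv (fun x => ?_)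
  rw [mem_centralizer_iff, mem_centralizer_iff]
  constructor
  · intro h y hy
    rw [SetLike.mem_coe, Subgroup.mem_smul_pointwise_iff_exists] at hy
    obtain ⟨q, hq, rfl⟩ := hy
    have := h q hq
    simp only [MulEquiv.toEquiv_eq_coe, EquivLike.coe_coe, MulAut.smul_def, MulAut.conj_apply]
    calc g * q * g⁻¹ * (g * x * g⁻¹) = g * (q * x) * g⁻¹ := by group
      _ = g * (x * q) * g⁻¹ := by rw [this]
      _ = g * x * g⁻¹ * (g * q * g⁻¹) := by group
  · intro h q hq
    have hy : MulAut.conj g • q ∈ ((MulAut.conj g • Q : Subgroup X) : Set X) :=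
      Subgroup.smul_mem_pointwise_smul q _ Q hq
    have := h _ hy
    simp only [MulEquiv.toEquiv_eq_coe, EquivLike.coe_coe, MulAut.smul_def,
      MulAut.conj_apply] at this
    calc q * x = g⁻¹ * (g * q * g⁻¹ * (g * x * g⁻¹)) * g := by group
      _ = g⁻¹ * (g * x * g⁻¹ * (g * q * g⁻¹)) * g := by rw [this]
      _ = x * q := by group

theorem sum_nu (P : Sylow p X) :
    ∑ x : X, nu p x =
      Nat.card (Sylow p X) * Nat.card (centralizer ((P : Subgroup X) : Set X)) := by
  classical
  haveI : Fintype (Sylow p X) := Fintype.ofFinite _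
  have h1 : ∀ x : X, nu p x = ∑ Q : Sylow p X,
      if x ∈ centralizer ((Q : Subgroup X) : Set X) then 1 else 0 := by
    intro x
    unfold nu
    rw [Nat.card_eq_fintype_card, Fintype.card_subtype, Finset.card_eq_sum_ones,
      Finset.sum_filter]
    apply Finset.sum_congr rfl
    intro Q _
    simp only [le_centralizer_singleton_iff]
  rw [Finset.sum_congr rfl (fun x _ => h1 x), Finset.sum_comm]
  have h2 : ∀ Q : Sylow p X,
      (∑ x : X, if x ∈ centralizer ((Q : Subgroup X) : Set X) then 1 else 0) =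
        Nat.card (centralizer ((P : Subgroup X) : Set X)) := by
    intro Q
    rw [← Finset.sum_filter, ← Finset.card_eq_sum_ones]
    obtain ⟨g, rfl⟩ := MulAction.exists_smul_eq X P Q
    rw [Sylow.coe_subgroup_smul, ← card_centralizer_smul g (P : Subgroup X),
      Nat.card_eq_fintype_card, Fintype.card_subtype]
  rw [Finset.sum_congr rfl (fun Q _ => h2 Q), Finset.sum_const, Finset.card_univ,
    ← Nat.card_eq_fintype_card, smul_eq_mul]

omit [Fintype X] in
theorem centralizer_mul_central (x z : X) (hz : z ∈ center X) :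
    centralizer ({x * z} : Set X) = centralizer ({x} : Set X) := by
  ext g
  rw [mem_centralizer_singleton_iff, mem_centralizer_singleton_iff]
  have hzg : g * z = z * g := (mem_center_iff.mp hz g)
  constructor
  · intro h
    have : g * x * z = x * g * z := by
      calc g * x * z = g * (x * z) := by group
        _ = x * z * g := h
        _ = x * (z * g) := by group
        _ = x * (g * z) := by rw [hzg]
        _ = x * g * z := by group
    exact mul_right_cancel this
  · intro h
    calc g * (x * z) = g * x * z := by group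
      _ = x * g * z := by rw [h]
      _ = x * (g * z) := by group
      _ = x * (z * g) := by rw [hzg]
      _ = x * z * g := by group

theorem nu_mul_central (x z : X) (hz : z ∈ center X) : nu p (x * z) = nu p x := by
  unfold nu
  rw [centralizer_mul_central x z hz]

theorem del_mul_central (x z : X) (hz : z ∈ center X) : del p (x * z) = del p x := by
  unfold del
  rw [cs_eq_index, cs_eq_index, centralizer_mul_central x z hz]

omit [Fact p.Prime] in
theorem sum_eq_card_mul_sum_out (K : Subgroup X) [Fintype (X ⧸ K)] (f : X → ℕ)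
    (hf : ∀ x, ∀ z ∈ K, f (x * z) = f x) :
    ∑ x, f x = Nat.card K * ∑ q : X ⧸ K, f q.out := by
  classical
  rw [← Finset.sum_fiberwise (Finset.univ) (QuotientGroup.mk : X → X ⧸ K) f, Finset.mul_sum]
  apply Finset.sum_congr rfl
  intro q _
  have h1 : ∀ x ∈ Finset.univ.filter (fun x : X => (QuotientGroup.mk x : X ⧸ K) = q),
      f x = f q.out := by
    intro x hx
    rw [Finset.mem_filter] at hx
    have : (q.out)⁻¹ * x ∈ K := by
      rw [← QuotientGroup.eq, QuotientGroup.out_eq', hx.2]
    have := hf q.out _ this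
    rwa [mul_inv_cancel_left] at this
  rw [Finset.sum_congr rfl h1, Finset.sum_const, smul_eq_mul]
  congr 1
  have h2 := QuotientGroup.card_preimage_mk K ({q} : Set (X ⧸ K))
  have h3 : Nat.card ({q} : Set (X ⧸ K)) = 1 := by simp
  rw [h3, mul_one] at h2
  rw [← h2, Nat.card_eq_fintype_card, Fintype.card_subtype]
  apply congrArg Finset.card
  ext x
  simp

omit [Fact p.Prime] in
theorem sums_modEq (K : Subgroup X) (f₁ f₂ : X → ℕ)
    (h₁ : ∀ x, ∀ z ∈ K, f₁ (x * z) = f₁ x) (h₂ : ∀ x, ∀ z ∈ K, f₂ (x * z) = f₂ x)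
    (h : ∀ x, f₁ x ≡ f₂ x [MOD p]) :
    ∃ A B : ℕ, ∑ x, f₁ x = Nat.card K * A ∧ ∑ x, f₂ x = Nat.card K * B ∧ A ≡ B [MOD p] := by
  classical
  haveI : Fintype (X ⧸ K) := Fintype.ofFinite _
  exact ⟨∑ q : X ⧸ K, f₁ q.out, ∑ q : X ⧸ K, f₂ q.out, sum_eq_card_mul_sum_out K f₁ h₁,
    sum_eq_card_mul_sum_out K f₂ h₂, Nat.ModEq.sum (fun q _ => h q.out)⟩

end PartB

section PartBMain

theorem central_pgroup_le_sylow {X : Type*} [Group X] [Finite X] (p : ℕ) [Fact p.Prime]
    (K : Subgroup X) (hK : K ≤ center X) (hKp : IsPGroup p K) (P : Sylow p X) :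
    K ≤ (P : Subgroup X) := by
  obtain ⟨Q, hQ⟩ := hKp.exists_le_sylow
  obtain ⟨g, rfl⟩ := MulAction.exists_smul_eq X P Q
  intro z hz
  have h1 := hQ hz
  rw [Sylow.coe_subgroup_smul, Subgroup.mem_smul_pointwise_iff_exists] at h1
  obtain ⟨s, hs, hsz⟩ := h1
  rw [MulAut.smul_def, MulAut.conj_apply] at hsz
  have hzc := mem_center_iff.mp (hK hz) g
  have : s = z := by
    calc s = g⁻¹ * (g * s * g⁻¹) * g := by group
      _ = g⁻¹ * z * g := by rw [hsz]
      _ = g⁻¹ * (z * g) := by group
      _ = g⁻¹ * (g * z) := by rw [hzc]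
      _ = z := by group
  rwa [← this]

theorem sylow_normal_of_count {X : Type*} [Group X] [Finite X] (p : ℕ) [Fact p.Prime]
    (K : Subgroup X) (hK : K ≤ center X) (j : ℕ) (hKc : Nat.card K = p ^ j)
    (P : Sylow p X)
    (hm : Nat.card {x : X // ¬ p ∣ cs X x} * Nat.card P = Nat.card X * p ^ j) :
    (P : Subgroup X).Normal := by
  classical
  haveI : Fintype X := Fintype.ofFinite X
  have hp : p.Prime := Fact.out
  set C := centralizer ((P : Subgroup X) : Set X) with hC
  set N := normalizer ((P : Subgroup X) : Set X) with hN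
  set D := (P : Subgroup X) ⊓ C with hD
  have hcpos : 0 < p ^ j := Nat.pos_of_ne_zero (pow_ne_zero _ hp.ne_zero)
  have hPpos : 0 < Nat.card P := Nat.card_pos
  have hm' : Nat.card {x : X // ¬ p ∣ cs X x} = (P : Subgroup X).index * p ^ j := by
    have h1 : (P : Subgroup X).index * Nat.card P = Nat.card X := Subgroup.index_mul_card _
    rw [← h1] at hm
    apply Nat.eq_of_mul_eq_mul_right hPpos
    rw [hm]
    ring
  obtain ⟨A, B, hA, hB, hAB⟩ := sums_modEq p K (nu p) (del p)
    (fun x z hz => nu_mul_central p x z (hK hz)) (fun x z hz => del_mul_central p x z (hK hz))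
    (nu_modEq_del p)
  have hBt : B = (P : Subgroup X).index := by
    rw [sum_del, hm', hKc] at hB
    apply Nat.eq_of_mul_eq_mul_left hcpos
    rw [← hB]
    ring
  rw [hKc] at hA
  have hKP : K ≤ (P : Subgroup X) := central_pgroup_le_sylow p K hK (IsPGroup.of_card hKc) P
  have hKC : K ≤ C := (Subgroup.center_le_centralizer _).trans' hK
  have hKD : K ≤ D := le_inf hKP hKC
  -- indices
  have hd : K.relIndex D * p ^ j = Nat.card D := by
    rw [← hKc]
    exact relIndex_mul_card hKD
  have hr : (P : Subgroup X).relIndex C * Nat.card D = Nat.card C := by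
    rw [← inf_relIndex_right (H := (P : Subgroup X)) (K := C)]
    exact relIndex_mul_card inf_le_right
  have hu : (P : Subgroup X).relIndex N * N.index = (P : Subgroup X).index :=
    Subgroup.relIndex_mul_index le_normalizer
  have hnp : Nat.card (Sylow p X) = N.index := Sylow.card_eq_index_normalizer P
  have htne : (P : Subgroup X).index ≠ 0 := Subgroup.index_ne_zero_of_finite
  have hune : (P : Subgroup X).relIndex N ≠ 0 := by
    intro h0
    rw [h0, zero_mul] at hu
    exact htne hu.symm
  have hru : (P : Subgroup X).relIndex C ≤ (P : Subgroup X).relIndex N :=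
    Subgroup.relIndex_le_of_le_right (Subgroup.centralizer_le_normalizer _) hune
  -- B1
  have hAeq : A = Nat.card (Sylow p X) * (P : Subgroup X).relIndex C * K.relIndex D := by
    apply Nat.eq_of_mul_eq_mul_left hcpos
    rw [← hA, sum_nu p P, ← hC, ← hr, ← hd]
    ring
  have hpA : ¬ p ∣ A := by
    rw [Nat.ModEq.dvd_iff hAB (dvd_refl p), hBt]
    exact P.not_dvd_index
  have hpd : ¬ p ∣ K.relIndex D := fun h => hpA (hAeq ▸ Dvd.dvd.mul_left h _)
  have hd1 : K.relIndex D = 1 := by
    obtain ⟨k, hk⟩ := IsPGroup.iff_card.mp (P.2.to_le inf_le_left : IsPGroup p D)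
    have hdvd : K.relIndex D ∣ p ^ k := by
      rw [← hk, ← hd]
      exact Dvd.intro _ rfl
    obtain ⟨i, -, hi⟩ := (Nat.dvd_prime_pow hp).mp hdvd
    rcases Nat.eq_zero_or_pos i with h0 | hpos
    · rw [hi, h0, pow_zero]
    · exact absurd (hi ▸ dvd_pow_self p hpos.ne') hpd
  have hDc : Nat.card D = p ^ j := by rw [← hd, hd1, one_mul]
  -- B2
  have hle : ∑ x : X, nu p x ≤ ∑ x : X, del p x := by
    rw [sum_del, hm', sum_nu p P, ← hC, ← hr, hDc, ← hu, hnp]
    calc N.index * ((P : Subgroup X).relIndex C * p ^ j)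
        = (P : Subgroup X).relIndex C * (N.index * p ^ j) := by ring
      _ ≤ (P : Subgroup X).relIndex N * (N.index * p ^ j) := Nat.mul_le_mul_right _ hru
      _ = (P : Subgroup X).relIndex N * N.index * p ^ j := by ring
  have heq : ∑ x : X, del p x = ∑ x : X, nu p x :=
    le_antisymm (Finset.sum_le_sum (fun x _ => del_le_nu p x)) hle
  have hall := (Finset.sum_eq_sum_iff_of_le (fun x _ => del_le_nu p x)).mp heq
  have h1 : nu p (1 : X) = del p (1 : X) := (hall 1 (Finset.mem_univ _)).symm
  have hnu1 : nu p (1 : X) = Nat.card (Sylow p X) := by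
    unfold nu
    apply Nat.card_congr
    apply Equiv.subtypeUnivEquiv
    intro Q
    have : centralizer ({1} : Set X) = ⊤ := by
      rw [Subgroup.centralizer_eq_top_iff_subset, Set.singleton_subset_iff]
      exact Subgroup.one_mem _
    rw [this]
    exact le_top
  have hdel1 : del p (1 : X) ≤ 1 := by
    unfold del
    split_ifs <;> simp
  have hnp1 : N.index = 1 := by
    have h2 : N.index ≤ 1 := by rw [← hnp, ← hnu1, h1]; exact hdel1
    have h3 : N.index ≠ 0 := Subgroup.index_ne_zero_of_finite
    omega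
  rw [Subgroup.index_eq_one] at hnp1
  exact Subgroup.normalizer_eq_top_iff.mp hnp1

end PartBMain

end Cfsg.Agent.Lib.Helper27.ClassSizeNilp
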