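import Mathlib
import Cfsg.Prelude.Def_CaseTheorems
import Cfsg.Agent.Lib.Helper9.PComponent4
import Cfsg.Agent.Lib.Helper12.Cores

/-!
A criterion for `C_G(t)/O(C_G(t))` to have a component (helper27).
-/

set_option autoImplicit false

namespace Cfsg.Agent.Lib.Helper27.CompLemma

open Subgroup

/-- If a quasisimple group `S` maps into `C_G(t)` with image normalized by `C_G(t)`, and some
element of `S` maps to an involution, then `C_G(t)/O(C_G(t))` has a component. -/
theorem hasComponent_of_hom {G S : Type*} [Group G] [Finite G] [Group S] (hS : Cfsg.IsQuasisimple S)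
    (t : G) (f : S →* G) (hcomm : ∀ s : S, f s * t = t * f s)
    (hnorm : ∀ g : G, g * t = t * g → ∀ s : S, ∃ s' : S, g * f s * g⁻¹ = f s')
    (hinv : ∃ s : S, f s ≠ 1 ∧ f s * f s = 1) :
    Cfsg.HasComponent (↥(Subgroup.centralizer ({t} : Set G)) ⧸
      Cfsg.oddCore ↥(Subgroup.centralizer ({t} : Set G))) := by
  set C : Subgroup G := Subgroup.centralizer ({t} : Set G) with hC
  have hmemC : ∀ g : G, g ∈ C ↔ g * t = t * g := by
    intro g
    rw [hC, Subgroup.mem_centralizer_iff]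
    constructor
    · intro h; exact (h t rfl).symm
    · intro h x hx
      rw [Set.mem_singleton_iff.mp hx]; exact h.symm
  let f' : S →* ↥C := f.codRestrict C (fun s => (hmemC _).mpr (hcomm s))
  let π : ↥C →* ↥C ⧸ Cfsg.oddCore ↥C := QuotientGroup.mk' (Cfsg.oddCore ↥C)
  let Φ : S →* ↥C ⧸ Cfsg.oddCore ↥C := π.comp f'
  have hKn : (Φ.range).Normal := by
    constructor
    rintro _ ⟨s, rfl⟩ y
    obtain ⟨c, rfl⟩ := QuotientGroup.mk'_surjective (Cfsg.oddCore ↥C) y
    obtain ⟨s', hs'⟩ := hnorm (c : G) ((hmemC _).mp c.2) s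
    refine ⟨s', ?_⟩
    have e : c * f' s * c⁻¹ = f' s' := by
      apply Subtype.ext
      simpa [f'] using hs'
    show π (f' s') = π c * π (f' s) * (π c)⁻¹
    rw [← e, map_mul, map_mul, map_inv]
  obtain ⟨s₀, hs₀1, hs₀2⟩ := hinv
  have hnt : Nontrivial ↥(Φ.range) := by
    refine ⟨⟨⟨Φ s₀, s₀, rfl⟩, 1, ?_⟩⟩
    intro h
    have h1 : Φ s₀ = 1 := congrArg Subtype.val h
    have h2 : f' s₀ ∈ Cfsg.oddCore ↥C := by
      have : π (f' s₀) = 1 := h1
      rwa [QuotientGroup.mk'_apply, QuotientGroup.eq_one_iff] at this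
    have hcop := Cfsg.Agent.Lib.Helper12.pPrimeCore_coprime (X := ↥C) 2
    have hne : f' s₀ ≠ 1 := by
      intro h3
      apply hs₀1
      have := congrArg Subtype.val h3
      simpa [f'] using this
    have hsq : f' s₀ ^ 2 = 1 := by
      apply Subtype.ext
      rw [pow_two]
      simpa [f'] using hs₀2
    have hord : orderOf (f' s₀) = 2 := orderOf_eq_prime hsq hne
    have hdvd : orderOf (⟨f' s₀, h2⟩ : ↥(Cfsg.oddCore ↥C)) ∣ Nat.card ↥(Cfsg.oddCore ↥C) :=
      orderOf_dvd_natCard _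
    rw [Subgroup.orderOf_mk, hord] at hdvd
    have : Nat.gcd (Nat.card ↥(Cfsg.oddCore ↥C)) 2 = 1 := hcop
    have h4 : 2 ∣ Nat.gcd (Nat.card ↥(Cfsg.oddCore ↥C)) 2 := Nat.dvd_gcd hdvd (dvd_refl 2)
    rw [this] at h4
    omega
  refine ⟨Φ.range, hKn.isSubnormal, ?_⟩
  exact Cfsg.Agent.Lib.Helper9.isQuasisimple_of_surjective Φ.rangeRestrict
    (MonoidHom.rangeRestrict_surjective Φ) hS

end Cfsg.Agent.Lib.Helper27.CompLemma
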