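/-
helper27: DEFECT-ONE Part O, leaf OFF in `_of` form (over LOC1 + equal degrees, via `DOSMT0.muC_const_of`):
the integer columns vanish off `B`.
-/
import Mathlib
import Cfsg.Agent.Lib.Helper27.DOSMT0

set_option autoImplicit false

namespace Cfsg.Agent.Lib.Helper27.DOOFFof

open Cfsg Cfsg.Agent.CharLib Cfsg.Agent.Lib.Helper24 Cfsg.Agent.Lib.Helper6
open Cfsg.Agent.Lib.Helper8.DOM Cfsg.Agent.Lib.Helper27.DO
open scoped ComplexConjugate

universe u

variable {G : Type u} [Group G] [Finite G] {p : ℕ} [Fact p.Prime] {M : Ideal AlgInt}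
  {P : Subgroup G} {B : Set (IrrCharacter G)} {θ : IrrCharacter (Cz P)} {T : Subgroup G} {x0 : G}

/-- the block of `θ` does not induce the block of a character outside `B` -/
theorem not_induced_of_not_mem (c : Ctx p M P B θ T x0) (χ : IrrCharacter G) (hχ : χ ∉ B) :
    ¬ IsInducedBlock M (Cz P) (blockOf M (θ : Cz P → ℂ)) (blockOf M (χ : G → ℂ)) := by
  have hprime : M.IsPrime := isPrime_of_isPModular c.hM
  intro h
  have := isInducedBlock_unique c.hind h
  apply hχ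
  rw [this]
  exact mem_blockOf_self χ

/-- OFF, `_of` form. -/
theorem muZ_off_of (c : Ctx p M P B θ T x0)
    (hloc1 : ∀ φ : IrrCharacter (Cz P), ∃! i : ZMod p, HasIdx p P x0 (φ : Cz P → ℂ) i)
    (hdeg : ∀ φ ∈ blockOf M (θ : Cz P → ℂ), (φ : Cz P → ℂ) 1 = (θ : Cz P → ℂ) 1)
    (χ : IrrCharacter G) (hχ : χ ∉ B) (i : ZMod p) :
    muZ p M P θ x0 χ i = muZ p M P θ x0 χ 0 := by
  unfold muZ
  rw [DOSMT0.muC_const_of c.hM P c.hP x0 c.gen θ χ (not_induced_of_not_mem c χ hχ) hloc1 hdeg i]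

end Cfsg.Agent.Lib.Helper27.DOOFFof
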