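/-
helper27: DEFECT-ONE Part O: read-off of S4442 in `_of` form over `hfull : FullStmt G p M` (= leaf DO-FULL, see `DOFullStmt`),
over Part M FINAL (helper8 `DOMFinal.card_conjClasses_le_sum_blockRank`) and helper6's `FirstMain`.
Final: `s4442_of p M hM hodd P hP B hB hBP b hind θ hθ hθP T hT e f he hf
  (fun P hP hSyl hfinal B hB hBP θ hθP hind T hT => struct_full_of hM P hP hSyl hfinal B hB hBP θ hθP hind T hT)`.
-/
import Mathlib
import Cfsg.Prelude.Def_BlockRank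
import Cfsg.Agent.Lib.Helper27.DODefs
import Cfsg.Agent.Lib.Helper27.BlkAlgDefs2
import Cfsg.Agent.Lib.Helper27.DOFullStmt
import Cfsg.Agent.Lib.Helper8.DOMFinal
import Cfsg.Agent.Lib.Helper6.FirstMain

set_option autoImplicit false
open Cfsg

namespace Cfsg.Agent.Lib.Helper27.DOS4442of
open Cfsg.Agent.Lib.Helper8.DOM Cfsg.Agent.Lib.Helper27.DO Cfsg.Agent.Lib.Helper27.BlkAlg Cfsg.Agent.Lib.Helper6
open Cfsg.Agent.Lib.Helper27.DOFullStmt

universe u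

theorem s4442_of {G : Type u} [Group G] [Finite G] [Fintype (IrrCharacter G)] (p : ℕ) [Fact p.Prime] (M : Ideal Cfsg.AlgInt) (hM : Cfsg.IsPModular p M) (hodd : p ≠ 2) (P : Sylow p G) (hP : Nat.card P = p) (B : Set (Cfsg.IrrCharacter G)) (hB : Cfsg.IsPBlock M B) (hBP : Cfsg.IsDefectGroup p M B P) (b : Set (Cfsg.IrrCharacter (Subgroup.centralizer ((P : Subgroup G) : Set G)))) (hind : Cfsg.IsInducedBlock M (Subgroup.centralizer ((P : Subgroup G) : Set G)) b B) (θ : Cfsg.IrrCharacter (Subgroup.centralizer ((P : Subgroup G) : Set G))) (hθ : θ ∈ b) (hθP : ∀ x : Subgroup.centralizer ((P : Subgroup G) : Set G), (x : G) ∈ (P : Subgroup G) → (θ : Subgroup.centralizer ((P : Subgroup G) : Set G) → ℂ) x = (θ : Subgroup.centralizer ((P : Subgroup G) : Set G) → ℂ) 1) (T : Subgroup G) (hT : ∀ g : G, g ∈ T ↔ (g ∈ Subgroup.normalizer ((P : Subgroup G) : Set G) ∧ ∀ c c' : Subgroup.centralizer ((P : Subgroup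 G) : Set G), (c' : G) = g * c * g⁻¹ → (θ : Subgroup.centralizer ((P : Subgroup G) : Set G) → ℂ) c' = (θ : Subgroup.centralizer ((P : Subgroup G) : Set G) → ℂ) c)) (e f : ℕ) (he : (Subgroup.centralizer ((P : Subgroup G) : Set G)).relIndex T = e) (hf : (Subgroup.centralizer ((P : Subgroup G) : Set G)).relIndex (Subgroup.normalizer ((P : Subgroup G) : Set G)) = f) (hfull : FullStmt G p M) : e ∣ p - 1 ∧ Nat.card B = e + (p - 1) / e ∧ ∃ X Y : Set (Cfsg.IrrCharacter G), B = X ∪ Y ∧ Disjoint X Y ∧ Nat.card X = e ∧ Nat.card Y = (p - 1) / e ∧ (∀ χ ∈ X, (Cfsg.charDegree (χ : G → ℂ) : ℤ) ≡ ((f / e * Cfsg.charDegree (θ : Subgroup.centralizer ((P : Subgroup G) : Set G) → ℂ) : ℕ) : ℤ) [ZMOD p] ∨ (Cfsg.charDegree (χ : G → ℂ) : ℤ) ≡ -((f / e * Cfsg.charDegree (θ : Subgroup.centralizer ((P : Subgroup G) : Set G) → ℂ) : ℕ) : ℤ) [ZMOD p]) ∧ (∃ ε : ℤ, (ε = 1 ∨ ε = -1) ∧ ∀ ψ ∈ Y, (Cfsg.charDegree (ψ : G → ℂ)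 : ℤ) ≡ ε * ((f * Cfsg.charDegree (θ : Subgroup.centralizer ((P : Subgroup G) : Set G) → ℂ) : ℕ) : ℤ) [ZMOD p]) ∧ ∀ ψ ∈ Y, ∀ ψ' ∈ Y, ∀ g : G, ¬ p ∣ orderOf g → (ψ : G → ℂ) g = (ψ' : G → ℂ) g := by
  classical
  letI : Fintype G := Fintype.ofFinite G
  haveI : M.IsMaximal := hM.2.1
  have hprime : M.IsPrime := Ideal.IsMaximal.isPrime hM.2.1
  have hSyl : ¬ p ∣ (P : Subgroup G).index := P.not_dvd_index
  have hidx : ¬ p ∣ (P : Subgroup G).relIndex (Nz (P : Subgroup G)) := by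
    intro h
    apply hSyl
    rw [← Subgroup.relIndex_mul_index (Subgroup.le_normalizer (H := (P : Subgroup G)))]
    exact Dvd.dvd.mul_right h _
  have hfinal := Cfsg.Agent.Lib.Helper8.DOMFinal.card_conjClasses_le_sum_blockRank M hM
    (P : Subgroup G) hP hidx
  have hbeq : b = blockOf M (θ : Cz (P : Subgroup G) → ℂ) :=
    isPBlock_eq_of_mem hind.1 ⟨θ, rfl⟩ hθ (mem_blockOf_self θ)
  have hind' : IsInducedBlock M (Cz (P : Subgroup G)) (blockOf M (θ : Cz (P : Subgroup G) → ℂ)) B := by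
    rw [← hbeq]; exact hind
  obtain ⟨h1, h2, X, Y, εX, ε, hXY, hdisj, hcX, hcY, hεX, hε, hreg, hrel, hdegX, hdegY, -, -, -⟩ :=
    hfull (P : Subgroup G) hP hSyl hfinal B hB hBP θ hθP hind' T hT
  subst he hf
  refine ⟨h1, h2, X, Y, hXY, hdisj, hcX, hcY, ?_, ⟨ε, hε, hdegY⟩, hreg⟩
  intro χ hχ
  have h3 := hdegX χ hχ
  rcases hεX χ hχ with h | h
  · left
    rw [h, one_mul] at h3
    exact h3
  · right
    rw [h, neg_one_mul] at h3
    exact h3

end Cfsg.Agent.Lib.Helper27.DOS4442of
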