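/-
helper27: DEFECT-ONE Part O: read-off of S4507 in `_of` form over `hfull : FullStmt G p M` (= leaf DO-FULL, see `DOFullStmt`),
over the LANDED leaves DEFP (helper26), ROOT (helper13), INERT (helper16), SECTION (helper29), Part M FINAL (helper8),
helper23's `PConj` (Galois conjugation of characters), helper6's `FirstMain`.
Final: `s4507_of p M hM hdiv hsq B hB hd (fun P hP hSyl hfinal B hB hBP θ hθP hind T hT => struct_full_of hM P ...)`.
-/
import Mathlib
import Cfsg.Prelude.Def_BlockRank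
import Cfsg.Agent.Lib.Helper27.DODefs
import Cfsg.Agent.Lib.Helper27.BlkAlgDefs2
import Cfsg.Agent.Lib.Helper27.DOFullStmt
import Cfsg.Agent.Lib.Helper8.DOMFinal
import Cfsg.Agent.Lib.Helper6.FirstMain
import Cfsg.Agent.Lib.Helper23.PConjA
import Cfsg.Agent.Lib.Helper16.DOINERT
import Cfsg.Agent.Lib.Helper29.DOSECTION
import Cfsg.Agent.Lib.Helper26.DODEFP
import Cfsg.Agent.Lib.Helper13.DOROOT

set_option autoImplicit false
open Cfsg

namespace Cfsg.Agent.Lib.Helper27.DOS4507of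
open Cfsg.Agent.Lib.Helper8.DOM Cfsg.Agent.Lib.Helper27.DO Cfsg.Agent.Lib.Helper27.BlkAlg
open Cfsg.Agent.Lib.Helper6 Cfsg.Agent.Lib.Helper23.PConj Cfsg.Agent.Lib.Helper27.DOFullStmt
open Cfsg.Agent.Lib.Helper16.DOINERT Cfsg.Agent.Lib.Helper29.DOSECTION Cfsg.Agent.Lib.Helper26.DODEFP
open Cfsg.Agent.Lib.Helper13.DOROOT
open scoped ComplexConjugate

universe u

section aux

variable {G : Type u} [Group G] [Finite G] {p : ℕ} [Fact p.Prime]

/-- two class functions agreeing on the `p`-regular elements and on the elements `x * y` agree -/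
theorem eq_of_agree (P : Subgroup G) (hP : Nat.card P = p) (hSyl : ¬ p ∣ P.index)
    {F₁ F₂ : G → ℂ} (h1 : IsClassFunction G F₁) (h2 : IsClassFunction G F₂)
    (ha : ∀ g : G, ¬ p ∣ orderOf g → F₁ g = F₂ g)
    (hb : ∀ x ∈ P, x ≠ 1 → ∀ y ∈ Cz P, ¬ p ∣ orderOf y → F₁ (x * y) = F₂ (x * y)) : F₁ = F₂ := by
  funext g
  by_cases hg : p ∣ orderOf g
  · obtain ⟨t, x, y, hx, hx1, hy, hyreg, hxy⟩ := exists_section P hP hSyl g hg
    rw [← h1 g t, ← h2 g t, hxy]
    exact hb x hx hx1 y hy hyreg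
  · exact ha g hg

/-- a `p`-regular element is fixed by `k`-th powers, `k ≡ 1` modulo the `p'`-part of `|G|` -/
theorem pow_eq_self_of_regular {g' : ℕ} (hn : Nat.card G = p * g') {k : ℕ} (hk : k ≡ 1 [MOD g'])
    (g : G) (hg : ¬ p ∣ orderOf g) : g ^ k = g := by
  have hpp : p.Prime := Fact.out
  have h1 : orderOf g ∣ p * g' := hn ▸ orderOf_dvd_natCard g
  have hco : Nat.Coprime (orderOf g) p := ((Nat.Prime.coprime_iff_not_dvd hpp).mpr hg).symm
  have h2 : orderOf g ∣ g' := hco.dvd_of_dvd_mul_left h1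
  have h3 : k ≡ 1 [MOD orderOf g] := hk.of_dvd h2
  have := (pow_eq_pow_iff_modEq (x := g)).mpr h3
  rwa [pow_one] at this

theorem mul_pow_of_mem {g' : ℕ} (hn : Nat.card G = p * g') {k : ℕ} (hk : k ≡ 1 [MOD g'])
    (P : Subgroup G) (x : G) (hx : x ∈ P) (y : G) (hy : y ∈ Cz P) (hyreg : ¬ p ∣ orderOf y) :
    (x * y) ^ k = x ^ k * y := by
  have hc : Commute x y := by
    rw [Subgroup.mem_centralizer_iff] at hy
    exact (hy x hx)
  rw [hc.mul_pow, pow_eq_self_of_regular hn hk y hyreg]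

theorem pow_ne_one_of_mem (P : Subgroup G) (hP : Nat.card P = p) (x : G) (hx : x ∈ P) (hx1 : x ≠ 1)
    (k : ℕ) (hk : ¬ p ∣ k) : x ^ k ≠ 1 := by
  have hpp : p.Prime := Fact.out
  have ho : orderOf x ∣ p := by
    have := orderOf_dvd_natCard (⟨x, hx⟩ : P)
    rwa [hP, Subgroup.orderOf_mk] at this
  have ho' : orderOf x = p := by
    rcases (Nat.dvd_prime hpp).mp ho with h | h
    · exact absurd (orderOf_eq_one_iff.mp h) hx1
    · exact h
  intro h
  apply hk
  rw [← ho']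
  exact orderOf_dvd_of_pow_eq_one h

theorem pow_eq_pow_of_mem (P : Subgroup G) (hP : Nat.card P = p) (x : G) (hx : x ∈ P)
    {k k' : ℕ} (hk : k ≡ k' [MOD p]) : x ^ k = x ^ k' := by
  have ho : orderOf x ∣ p := by
    have := orderOf_dvd_natCard (⟨x, hx⟩ : P)
    rwa [hP, Subgroup.orderOf_mk] at this
  exact (pow_eq_pow_iff_modEq (x := x)).mpr (hk.of_dvd ho)

end aux

theorem s4507_of {G : Type u} [Group G] [Finite G] [Fintype (IrrCharacter G)] (p : ℕ) [Fact p.Prime] (M : Ideal Cfsg.AlgInt) (hM : Cfsg.IsPModular p M) (hdiv : p ∣ Nat.card G) (hsq : ¬ p ^ 2 ∣ Nat.card G) (B : Set (Cfsg.IrrCharacter G)) (hB : Cfsg.IsPBlock M B) (hd : 0 < Cfsg.blockDefect p B) (hfull : FullStmt G p M) : ∃ Y : Set (Cfsg.IrrCharacter G), Y ⊆ B ∧ Y.Nonempty ∧ (∀ θ ∈ Y, ∀ ψ : Cfsg.IrrCharacter G, (∃ σ : ℂ ≃+* ℂ, σ (Complex.exp (2 * Real.pi * Complex.I / ((Nat.card G / p ^ (Nat.card G).factorization p) : ℕ))) = Complex.exp (2 * Real.pi * Complex.I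 / ((Nat.card G / p ^ (Nat.card G).factorization p) : ℕ)) ∧ (ψ : G → ℂ) = fun g => σ ((θ : G → ℂ) g)) ↔ ψ ∈ Y) ∧ (∀ χ ∈ B, χ ∉ Y → ∀ ψ : Cfsg.IrrCharacter G, (∃ σ : ℂ ≃+* ℂ, σ (Complex.exp (2 * Real.pi * Complex.I / ((Nat.card G / p ^ (Nat.card G).factorization p) : ℕ))) = Complex.exp (2 * Real.pi * Complex.I / ((Nat.card G / p ^ (Nat.card G).factorization p) : ℕ)) ∧ (ψ : G → ℂ) = fun g => σ ((χ : G → ℂ) g)) → ψ = χ) ∧ Nat.card Y ∣ p - 1 ∧ Nat.card B = Nat.card Y + (p - 1) / Nat.card Y ∧ ∃ δ : Cfsg.IrrCharacter G → ℤ, (∀ χ ∈ B, δ χ = 1 ∨ δ χ = -1) ∧ ∀ x : G, ¬ p ∣ orderOf x → ∀ θ ∈ Y, (∑ᶠ χ ∈ B \ Y, (δ χ : ℂ) * (χ : G → ℂ) x) + (δ θ : ℂ) * (θ : G → ℂ) x = 0 := by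
  classical
  letI : Fintype G := Fintype.ofFinite G
  haveI : M.IsMaximal := hM.2.1
  have hpp : p.Prime := Fact.out
  have hn0 : Nat.card G ≠ 0 := Nat.card_pos.ne'
  -- the `p`-part of `|G|` is `p`
  have hfact : (Nat.card G).factorization p = 1 := by
    have h1 : 1 ≤ (Nat.card G).factorization p :=
      (hpp.pow_dvd_iff_le_factorization hn0).mp (by simpa using hdiv)
    have h2 : ¬ 2 ≤ (Nat.card G).factorization p := fun h =>
      hsq ((hpp.pow_dvd_iff_le_factorization hn0).mpr h)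
    omega
  set g' := Nat.card G / p ^ (Nat.card G).factorization p with hg'
  have hn : Nat.card G = p * g' := by
    rw [hg', hfact, pow_one]
    exact (Nat.mul_div_cancel' hdiv).symm
  have hg'pos : 0 < g' := by
    rcases Nat.eq_zero_or_pos g' with h | h
    · rw [h, mul_zero] at hn; exact absurd hn hn0
    · exact h
  have hg'dvd : g' ∣ Nat.card G := ⟨p, by rw [hn]; ring⟩
  have hpg' : ¬ p ∣ g' := by
    rintro ⟨q, hq⟩
    apply hsq
    rw [hn, hq]
    exact ⟨q, by ring⟩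
  -- the Sylow subgroup
  obtain ⟨P⟩ : Nonempty (Sylow p G) := inferInstance
  have hP : Nat.card (P : Subgroup G) = p := by
    rw [Sylow.card_eq_multiplicity, hfact, pow_one]
  have hSyl : ¬ p ∣ (P : Subgroup G).index := P.not_dvd_index
  have hidx : ¬ p ∣ (P : Subgroup G).relIndex (Nz (P : Subgroup G)) := by
    intro h
    apply hSyl
    rw [← Subgroup.relIndex_mul_index (Subgroup.le_normalizer (H := (P : Subgroup G)))]
    exact Dvd.dvd.mul_right h _
  have hfinal := Cfsg.Agent.Lib.Helper8.DOMFinal.card_conjClasses_le_sum_blockRank M hM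
    (P : Subgroup G) hP hidx
  have hBP := isDefectGroup_of_pos hM (P : Subgroup G) hP hSyl B hB hd
  obtain ⟨θ, hθP, hind⟩ := exists_root hM (P : Subgroup G) hP hSyl B hB hBP
  obtain ⟨T, hT⟩ := exists_inertia (P : Subgroup G) (θ : Cz (P : Subgroup G) → ℂ)
  obtain ⟨hedvd, hcardB, X, Y, εX, ε, hXY, hdisj, hcX, hcY, hεX, hε, hreg, hrel, -, -, hvalX,
    hgalY, htrans⟩ :=
    hfull (P : Subgroup G) hP hSyl hfinal B hB hBP θ hθP hind T hT
  set e := (Cz (P : Subgroup G)).relIndex T with he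
  have hp1 : 0 < p - 1 := Nat.sub_pos_of_lt hpp.one_lt
  have he0 : 0 < e := Nat.pos_of_dvd_of_pos hedvd hp1
  have hcY0 : 0 < (p - 1) / e := Nat.div_pos (Nat.le_of_dvd hp1 hedvd) he0
  -- class functions
  have hcls : ∀ χ : IrrCharacter G, IsClassFunction G (χ : G → ℂ) := fun χ =>
    Cfsg.Agent.CharLib.IsCharacter.isClassFunction
      (Cfsg.Agent.CharLib.IsIrrCharacter.isCharacter χ.2)
  -- membership in X
  have hXmem : ∀ χ ∈ B, χ ∉ Y → χ ∈ X := by
    intro χ hχ hχY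
    rw [hXY] at hχ
    rcases hχ with h | h
    · exact h
    · exact absurd h hχY
  have hYB : Y ⊆ B := by rw [hXY]; exact Set.subset_union_right
  have hXB : X ⊆ B := by rw [hXY]; exact Set.subset_union_left
  -- twists: the key facts about a unit `u ≡ 1 (mod g')`
  have hkey : ∀ u : (ZMod (Nat.card G))ˣ, u ∈ (ZMod.unitsMap hg'dvd).ker →
      ((u : ZMod (Nat.card G)).val ≡ 1 [MOD g']) ∧ ¬ p ∣ (u : ZMod (Nat.card G)).val := by
    intro u hu
    refine ⟨(mem_ker_unitsMap_iff hg'dvd u).mp hu, ?_⟩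
    intro hpk
    have hco := ZMod.val_coe_unit_coprime u
    have : p ∣ Nat.gcd (u : ZMod (Nat.card G)).val (Nat.card G) := Nat.dvd_gcd hpk hdiv
    rw [hco] at this
    exact hpp.one_lt.ne' (Nat.dvd_one.mp this)
  -- the twist of a member of X / Y
  have htwX : ∀ χ ∈ X, ∀ u : (ZMod (Nat.card G))ˣ, u ∈ (ZMod.unitsMap hg'dvd).ker →
      twist u χ = χ := by
    intro χ hχ u hu
    obtain ⟨hk1, hkp⟩ := hkey u hu
    apply Subtype.ext
    apply eq_of_agree (P : Subgroup G) hP hSyl (hcls _) (hcls _)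
    · intro g hg
      rw [twist_apply, pow_eq_self_of_regular hn hk1 g hg]
    · intro x hx hx1 y hy hyreg
      rw [twist_apply, mul_pow_of_mem hn hk1 (P : Subgroup G) x hx y hy hyreg,
        hvalX χ hχ (x ^ (u : ZMod (Nat.card G)).val) (Subgroup.pow_mem _ hx _)
          (pow_ne_one_of_mem (P : Subgroup G) hP x hx hx1 _ hkp) y hy hyreg,
        hvalX χ hχ x hx hx1 y hy hyreg]
  have htwY : ∀ ψ ∈ Y, ∀ u : (ZMod (Nat.card G))ˣ, u ∈ (ZMod.unitsMap hg'dvd).ker →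
      twist u ψ ∈ Y := by
    intro ψ hψ u hu
    obtain ⟨hk1, hkp⟩ := hkey u hu
    obtain ⟨ψ', hψ', hgal⟩ := hgalY ψ hψ _ hkp
    have : twist u ψ = ψ' := by
      apply Subtype.ext
      apply eq_of_agree (P : Subgroup G) hP hSyl (hcls _) (hcls _)
      · intro g hg
        rw [twist_apply, pow_eq_self_of_regular hn hk1 g hg]
        exact hreg ψ hψ ψ' hψ' g hg
      · intro x hx hx1 y hy hyreg
        rw [twist_apply, mul_pow_of_mem hn hk1 (P : Subgroup G) x hx y hy hyreg]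
        exact (hgal x hx hx1 y hy hyreg).symm
    rw [this]
    exact hψ'
  have hexY : ∀ ψ ∈ Y, ∀ ψ' ∈ Y, ∃ u : (ZMod (Nat.card G))ˣ, u ∈ (ZMod.unitsMap hg'dvd).ker ∧
      ψ' = twist u ψ := by
    intro ψ hψ ψ' hψ'
    obtain ⟨k0, hk0, htr⟩ := htrans ψ hψ ψ' hψ'
    -- CRT
    have hcop : Nat.Coprime p g' := (Nat.Prime.coprime_iff_not_dvd hpp).mpr hpg'
    obtain ⟨k, hkp, hkg⟩ := Nat.chineseRemainder hcop k0 1
    have hkcop : Nat.Coprime k (Nat.card G) := by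
      rw [hn]
      apply Nat.Coprime.mul_right
      · have h1 : Nat.gcd k p = Nat.gcd k0 p := hkp.gcd_eq
        rw [Nat.Coprime, h1]
        exact ((Nat.Prime.coprime_iff_not_dvd hpp).mpr hk0).symm
      · have h1 : Nat.gcd k g' = Nat.gcd 1 g' := hkg.gcd_eq
        rw [Nat.Coprime, h1, Nat.gcd_one_left]
    set u : (ZMod (Nat.card G))ˣ := ZMod.unitOfCoprime k hkcop with hu
    have hval : (u : ZMod (Nat.card G)).val = k % Nat.card G := by
      rw [hu, ZMod.coe_unitOfCoprime, ZMod.val_natCast]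
    have hvk : (u : ZMod (Nat.card G)).val ≡ k [MOD Nat.card G] := by
      rw [hval]; exact Nat.mod_modEq _ _
    have hu1 : (u : ZMod (Nat.card G)).val ≡ 1 [MOD g'] := (hvk.of_dvd hg'dvd).trans hkg
    have hup : (u : ZMod (Nat.card G)).val ≡ k0 [MOD p] := (hvk.of_dvd hdiv).trans hkp
    have huker : u ∈ (ZMod.unitsMap hg'dvd).ker := (mem_ker_unitsMap_iff hg'dvd u).mpr hu1
    refine ⟨u, huker, ?_⟩
    apply Subtype.ext
    apply eq_of_agree (P : Subgroup G) hP hSyl (hcls _) (hcls _)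
    · intro g hg
      rw [twist_apply, pow_eq_self_of_regular hn hu1 g hg]
      exact hreg ψ' hψ' ψ hψ g hg
    · intro x hx hx1 y hy hyreg
      rw [twist_apply, mul_pow_of_mem hn hu1 (P : Subgroup G) x hx y hy hyreg,
        pow_eq_pow_of_mem (P : Subgroup G) hP x hx hup]
      exact htr x hx hx1 y hy hyreg
  refine ⟨Y, hYB, ?_, ?_, ?_, ?_, ?_, ?_⟩
  · -- nonempty
    have h1 : 0 < Nat.card Y := by rw [hcY]; exact hcY0
    exact Set.nonempty_coe_sort.mp (Nat.card_pos_iff.mp h1).1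
  · -- Y is a p-conjugacy class
    intro θ₁ hθ₁ ψ
    rw [pConj_iff θ₁ ψ g' hg'pos hg'dvd]
    constructor
    · rintro ⟨u, hu, rfl⟩
      exact htwY θ₁ hθ₁ u hu
    · intro hψ
      exact hexY θ₁ hθ₁ ψ hψ
  · -- the others are p-rational
    intro χ hχ hχY ψ hσ
    rw [pConj_iff χ ψ g' hg'pos hg'dvd] at hσ
    obtain ⟨u, hu, rfl⟩ := hσ
    exact htwX χ (hXmem χ hχ hχY) u hu
  · rw [hcY]
    exact Nat.div_dvd_of_dvd hedvd
  · rw [hcardB, hcY, Nat.div_div_self hedvd hp1.ne']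
    exact Nat.add_comm _ _
  · -- the signs
    refine ⟨fun χ => if χ ∈ Y then ε else - εX χ, ?_, ?_⟩
    · intro χ hχ
      by_cases h : χ ∈ Y
      · simp only [if_pos h]; exact hε
      · simp only [if_neg h]
        rcases hεX χ (hXmem χ hχ h) with h1 | h1 <;> rw [h1] <;> simp
    · intro x hx θ₁ hθ₁
      have hBY : B \ Y = X := by
        rw [hXY]
        ext χ
        simp only [Set.mem_sdiff, Set.mem_union]
        constructor
        · rintro ⟨h1 | h1, h2⟩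
          · exact h1
          · exact absurd h1 h2
        · intro h1
          exact ⟨Or.inl h1, fun h2 => Set.disjoint_left.mp hdisj h1 h2⟩
      rw [hBY]
      beta_reduce
      rw [if_pos hθ₁]
      have h1 : ∑ᶠ χ ∈ X, (((if χ ∈ Y then ε else - εX χ : ℤ)) : ℂ) * (χ : G → ℂ) x =
          - ∑ᶠ χ ∈ X, (εX χ : ℂ) * (χ : G → ℂ) x := by
        have h2 : ∑ᶠ χ ∈ X, (((if χ ∈ Y then ε else - εX χ : ℤ)) : ℂ) * (χ : G → ℂ) x =
            ∑ᶠ χ ∈ X, - ((εX χ : ℂ) * (χ : G → ℂ) x) := by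
          apply finsum_mem_congr rfl
          intro χ hχ
          rw [if_neg (fun h2 => Set.disjoint_left.mp hdisj hχ h2)]
          push_cast
          ring
        rw [h2]
        exact finsum_mem_neg_distrib (f := fun χ : IrrCharacter G => (εX χ : ℂ) * (χ : G → ℂ) x) (Set.toFinite X)
      rw [h1, ← hrel θ₁ hθ₁ x hx]
      ring

end Cfsg.Agent.Lib.Helper27.DOS4507of
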