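/-
helper27: DEFECT-ONE Part O, leaf SMT0, EXACT form `muC_const_of_not_induced`
(= `DOSMT0.muC_const_of` + helper23's LOC1 `exists_unique_hasIdx` + helper22's LOC2 `block_of_pTriv`, clause 2 at `y = 1`).
-/
import Mathlib
import Cfsg.Prelude.Def_BlockRank
import Cfsg.Agent.Lib.Helper27.DODefs
import Cfsg.Agent.Lib.Helper27.DOSMT0
import Cfsg.Agent.Lib.Helper23.DOLOC1
import Cfsg.Agent.Lib.Helper22.DOLOC2

set_option autoImplicit false

namespace Cfsg.Agent.Lib.Helper27.DOSMT0X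

open Cfsg Cfsg.Agent.Lib.Helper8.DOM Cfsg.Agent.Lib.Helper27.DO
open scoped ComplexConjugate

universe u

variable {G : Type u} [Group G] [Finite G] {p : ℕ} [Fact p.Prime] {M : Ideal AlgInt}

/-- SMT0 : second main theorem: off the inducing blocks the multiplicities do not depend on `i`. -/
theorem muC_const_of_not_induced (hM : IsPModular p M) (P : Subgroup G) (hP : Nat.card P = p)
    (hSyl : ¬ p ∣ P.index) (x0 : G) (hx0 : P = Subgroup.zpowers x0) (θ' : IrrCharacter (Cz P))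
    (hθ'P : PTriv P (θ' : Cz P → ℂ)) (χ : IrrCharacter G)
    (hnot : ¬ IsInducedBlock M (Cz P) (blockOf M (θ' : Cz P → ℂ)) (blockOf M (χ : G → ℂ)))
    (i : ZMod p) : muC p M P θ' x0 χ i = muC p M P θ' x0 χ 0 := by
  have hpp : p.Prime := Fact.out
  refine Cfsg.Agent.Lib.Helper27.DOSMT0.muC_const_of hM P hP x0 hx0 θ' χ hnot
    (fun φ => Cfsg.Agent.Lib.Helper23.DOLOC1.exists_unique_hasIdx P hP x0 hx0 φ) ?_ i
  intro φ hφ
  have h2 := (Cfsg.Agent.Lib.Helper22.DOLOC2.block_of_pTriv hM P hP hSyl x0 hx0 θ' hθ'P).2.1 φ hφ 1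
  apply h2
  rw [orderOf_one]
  exact fun h => hpp.one_lt.ne' (Nat.dvd_one.mp h)

end Cfsg.Agent.Lib.Helper27.DOSMT0X
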