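import Mathlib
import Cfsg.Agent.Lib.Helper23.PDCOORD
import Cfsg.Agent.Lib.Helper27.PDAFF
import Cfsg.Agent.Lib.Helper5.DWBZOL

/-! Helper27 library: leaf DW-BNORM of helper10's S3616 market ("DW"): in a faithful transitive group of
odd prime degree `p` consisting of even permutations, if some subgroup `M` of order `p (p - 1) / 2`
normalizes a subgroup of order `p`, then the normalizer of every Sylow `p`-subgroup has order
`p (p - 1) / 2`.  (The normalizer is affine in the coordinates of a generator of the Sylow subgroup, so it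
has order at most `p (p - 1)`; equality would give `j ↦ g j` for a primitive root `g`, an odd permutation.) -/

set_option autoImplicit false
set_option linter.unusedVariables false

namespace Cfsg.Agent.Lib.Helper27.DWBNORM

open MulAction

/-- a Sylow `p`-subgroup of a faithful transitive group of prime degree `p` has order at most `p`. -/
theorem card_sylow_le {G Ω : Type*} [Group G] [Finite G] [MulAction G Ω] [FaithfulSMul G Ω] [Fintype Ω]
    [DecidableEq Ω] (p : ℕ) [Fact p.Prime] (hΩ : Fintype.card Ω = p)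
    (htrans : IsPretransitive G Ω) (P : Sylow p G) : Nat.card ↥(P : Subgroup G) ≤ p := by
  have hp : p.Prime := Fact.out
  obtain ⟨x, e, hxP, hPx, hx⟩ := Cfsg.Agent.Lib.Helper23.PDCOORD.PDCOORD hΩ htrans P
  have hxp : x ^ p = 1 := by
    apply FaithfulSMul.eq_of_smul_eq_smul (α := Ω)
    intro ω
    obtain ⟨j, rfl⟩ := e.surjective ω
    rw [Cfsg.Agent.Lib.Helper27.PDAFF.pow_smul_coord x e hx, one_smul]
    simp
  have hle : (P : Subgroup G) ≤ Subgroup.zpowers x := by
    intro y hy
    obtain ⟨k, rfl⟩ := hPx y hy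
    exact Subgroup.pow_mem _ (Subgroup.mem_zpowers x) k
  calc Nat.card ↥(P : Subgroup G) ≤ Nat.card ↥(Subgroup.zpowers x) := Subgroup.card_le_of_le hle
    _ = orderOf x := Nat.card_zpowers x
    _ ≤ p := orderOf_le_of_pow_eq_one hp.pos hxp

/-- the core: a Sylow `p`-subgroup normalized by `M`. -/
theorem core {G Ω : Type*} [Group G] [Finite G] [MulAction G Ω] [FaithfulSMul G Ω] [Fintype Ω]
    [DecidableEq Ω] (p : ℕ) [Fact p.Prime] (hp2 : p ≠ 2) (hΩ : Fintype.card Ω = p)
    (htrans : IsPretransitive G Ω)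
    (heven : ∀ g : G, Equiv.Perm.sign (MulAction.toPerm g : Equiv.Perm Ω) = 1)
    (M : Subgroup G) (hM : 2 * Nat.card M = p * (p - 1)) (P : Sylow p G)
    (hMP : M ≤ Subgroup.normalizer ((P : Subgroup G) : Set G)) :
    2 * Nat.card ↥(Subgroup.normalizer ((P : Subgroup G) : Set G)) = p * (p - 1) := by
  classical
  have hp : p.Prime := Fact.out
  obtain ⟨x, e, hxP, hPx, hx⟩ := Cfsg.Agent.Lib.Helper23.PDCOORD.PDCOORD hΩ htrans P
  have haff : ∀ n ∈ Subgroup.normalizer ((P : Subgroup G) : Set G),
      ∃ u b : ZMod p, ∀ j, n • e j = e (u * j + b) :=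
    fun n hn => Cfsg.Agent.Lib.Helper27.PDAFF.PDAFF x e hx (P : Subgroup G) hxP hPx n hn
  -- the coordinates of an element of the normalizer
  let ψ : ↥(Subgroup.normalizer ((P : Subgroup G) : Set G)) → ZMod p × ZMod p :=
    fun n => (e.symm ((n : G) • e 1) - e.symm ((n : G) • e 0), e.symm ((n : G) • e 0))
  have hψ : ∀ (n : ↥(Subgroup.normalizer ((P : Subgroup G) : Set G))) (u b : ZMod p),
      (∀ j, (n : G) • e j = e (u * j + b)) → ψ n = (u, b) := by
    intro n u b h
    show (e.symm ((n : G) • e 1) - e.symm ((n : G) • e 0), e.symm ((n : G) • e 0)) = (u, b)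
    rw [h 1, h 0]
    simp
  have hψinj : Function.Injective ψ := by
    intro n n' h
    obtain ⟨u, b, hub⟩ := haff n n.2
    obtain ⟨u', b', hub'⟩ := haff n' n'.2
    rw [hψ n u b hub, hψ n' u' b' hub'] at h
    have h1 : u = u' := (Prod.mk.inj h).1
    have h2 : b = b' := (Prod.mk.inj h).2
    apply Subtype.ext
    apply FaithfulSMul.eq_of_smul_eq_smul (α := Ω)
    intro ω
    obtain ⟨j, rfl⟩ := e.surjective ω
    rw [hub, hub', h1, h2]
  have hψne : ∀ n : ↥(Subgroup.normalizer ((P : Subgroup G) : Set G)), (ψ n).1 ≠ 0 := by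
    intro n
    obtain ⟨u, b, hub⟩ := haff n n.2
    rw [hψ n u b hub]
    intro hu
    have hu' : u = 0 := hu
    have h0 := hub 0
    have h1 := hub 1
    rw [hu'] at h0 h1
    have h01 : e (0 : ZMod p) = e 1 := by
      apply MulAction.injective (n : G)
      show (n : G) • e 0 = (n : G) • e 1
      rw [h0, h1, zero_mul, zero_mul]
    have : (0 : ZMod p) = 1 := e.injective h01
    have hne : (0 : ZMod p) ≠ 1 := by
      have : Nontrivial (ZMod p) := ZMod.nontrivial_iff.mpr hp.one_lt.ne'
      exact zero_ne_one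
    exact hne this
  have : Fintype ↥(Subgroup.normalizer ((P : Subgroup G) : Set G)) := Fintype.ofFinite _
  have hS : ((Finset.univ.filter (fun u : ZMod p => u ≠ 0)) ×ˢ
      (Finset.univ : Finset (ZMod p))).card =
      (p - 1) * p := by
    rw [Finset.card_product, Finset.filter_ne' , Finset.card_erase_of_mem (Finset.mem_univ _),
      Finset.card_univ, ZMod.card]
  have hsub : (Finset.univ.image ψ) ⊆
      ((Finset.univ.filter (fun u : ZMod p => u ≠ 0)) ×ˢ (Finset.univ : Finset (ZMod p))) := by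
    intro q hq
    rw [Finset.mem_image] at hq
    obtain ⟨n, _, rfl⟩ := hq
    rw [Finset.mem_product, Finset.mem_filter]
    exact ⟨⟨Finset.mem_univ _, hψne n⟩, Finset.mem_univ _⟩
  have hcardimg : (Finset.univ.image ψ).card =
      Nat.card ↥(Subgroup.normalizer ((P : Subgroup G) : Set G)) := by
    rw [Finset.card_image_of_injective _ hψinj, Finset.card_univ, Nat.card_eq_fintype_card]
  have hle : Nat.card ↥(Subgroup.normalizer ((P : Subgroup G) : Set G)) ≤ (p - 1) * p := by
    rw [← hcardimg, ← hS]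
    exact Finset.card_le_card hsub
  have hne : Nat.card ↥(Subgroup.normalizer ((P : Subgroup G) : Set G)) ≠ (p - 1) * p := by
    intro heq
    have himg : Finset.univ.image ψ =
        ((Finset.univ.filter (fun u : ZMod p => u ≠ 0)) ×ˢ (Finset.univ : Finset (ZMod p))) := by
      apply Finset.eq_of_subset_of_card_le hsub
      rw [hS, hcardimg, heq]
    obtain ⟨g, hg⟩ := IsCyclic.exists_generator (α := (ZMod p)ˣ)
    have hmem : (((g : (ZMod p)ˣ) : ZMod p), (0 : ZMod p)) ∈ Finset.univ.image ψ := by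
      rw [himg, Finset.mem_product, Finset.mem_filter]
      exact ⟨⟨Finset.mem_univ _, g.ne_zero⟩, Finset.mem_univ _⟩
    rw [Finset.mem_image] at hmem
    obtain ⟨n, _, hn⟩ := hmem
    obtain ⟨u, b, hub⟩ := haff n n.2
    rw [hψ n u b hub] at hn
    have h1 : u = (g : ZMod p) := (Prod.mk.inj hn).1
    have h2 : b = 0 := (Prod.mk.inj hn).2
    have hsign := Cfsg.Agent.Lib.Helper5.DWBZOL.DWBZOL p hp2 g hg
      ((e.trans (MulAction.toPerm (n : G) : Equiv.Perm Ω)).trans e.symm) (by
        intro j
        show e.symm ((n : G) • e j) = (g : ZMod p) * j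
        rw [hub, h1, h2, add_zero, Equiv.symm_apply_apply])
    rw [Equiv.Perm.sign_trans_trans_symm, heven] at hsign
    exact absurd hsign (by decide)
  -- arithmetic
  have hdvd : Nat.card M ∣ Nat.card ↥(Subgroup.normalizer ((P : Subgroup G) : Set G)) :=
    Subgroup.card_dvd_of_le hMP
  have hpos : 0 < Nat.card ↥(Subgroup.normalizer ((P : Subgroup G) : Set G)) := Nat.card_pos
  obtain ⟨t, ht⟩ := hdvd
  rcases t with _ | _ | t
  · rw [ht] at hpos
    simp at hpos
  · rw [ht, zero_add, mul_one, hM]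
  · exfalso
    apply hne
    apply le_antisymm hle
    rw [ht]
    have : (p - 1) * p = 2 * Nat.card M := by rw [hM, mul_comm]
    rw [this]
    nlinarith [Nat.zero_le (Nat.card M * t)]

/-- **DW-BNORM**. -/
theorem DWBNORM {G Ω : Type*} [Group G] [Finite G] [MulAction G Ω] [FaithfulSMul G Ω] [Fintype Ω]
    [DecidableEq Ω] (p : ℕ) (hp : p.Prime) (hp2 : p ≠ 2) (hΩ : Fintype.card Ω = p)
    (htrans : IsPretransitive G Ω)
    (heven : ∀ g : G, Equiv.Perm.sign (MulAction.toPerm g : Equiv.Perm Ω) = 1)
    (M Q : Subgroup G) (hM : 2 * Nat.card M = p * (p - 1)) (hQ : Nat.card Q = p)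
    (hQM : ∀ m ∈ M, ∀ q ∈ Q, m * q * m⁻¹ ∈ Q) (P : Sylow p G) :
    2 * Nat.card ↥(Subgroup.normalizer ((P : Subgroup G) : Set G)) = p * (p - 1) := by
  have : Fact p.Prime := ⟨hp⟩
  have hQp : IsPGroup p Q := IsPGroup.of_card (n := 1) (by rw [hQ, pow_one])
  obtain ⟨P', hP'⟩ := hQp.exists_le_sylow
  have hP'le : Nat.card ↥(P' : Subgroup G) ≤ p := card_sylow_le p hΩ htrans P'
  have hQP' : Q = (P' : Subgroup G) :=
    Subgroup.eq_of_le_of_card_ge hP' (by rw [hQ]; exact hP'le)
  have hMP' : M ≤ Subgroup.normalizer ((P' : Subgroup G) : Set G) := by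
    intro m hm
    rw [Subgroup.mem_normalizer_iff]
    intro h
    rw [← hQP']
    constructor
    · intro hh
      exact hQM m hm h hh
    · intro hh
      have := hQM m⁻¹ (M.inv_mem hm) _ hh
      have e : m⁻¹ * (m * h * m⁻¹) * m⁻¹⁻¹ = h := by group
      rwa [e] at this
  have hcore := core p hp2 hΩ htrans heven M hM P' hMP'
  have hidx : (Subgroup.normalizer ((P : Subgroup G) : Set G)).index =
      (Subgroup.normalizer ((P' : Subgroup G) : Set G)).index := by
    have e1 : Nat.card (Sylow p G) = (Subgroup.normalizer ((P : Subgroup G) : Set G)).index :=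
      Sylow.card_eq_index_normalizer P
    have e2 : Nat.card (Sylow p G) = (Subgroup.normalizer ((P' : Subgroup G) : Set G)).index :=
      Sylow.card_eq_index_normalizer P'
    rw [← e1, ← e2]
  have h1 := Subgroup.index_mul_card (Subgroup.normalizer ((P : Subgroup G) : Set G))
  have h2 := Subgroup.index_mul_card (Subgroup.normalizer ((P' : Subgroup G) : Set G))
  have hne : (Subgroup.normalizer ((P' : Subgroup G) : Set G)).index ≠ 0 :=
    Subgroup.index_ne_zero_of_finite
  have hcard : Nat.card ↥(Subgroup.normalizer ((P : Subgroup G) : Set G)) =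
      Nat.card ↥(Subgroup.normalizer ((P' : Subgroup G) : Set G)) := by
    rw [hidx, ← h2] at h1
    exact Nat.eq_of_mul_eq_mul_left (Nat.pos_of_ne_zero hne) h1
  rw [hcard]
  exact hcore

end Cfsg.Agent.Lib.Helper27.DWBNORM
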