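import Mathlib
import Cfsg.Agent.Lib.Helper1.PRDefs
import Cfsg.Agent.Lib.Helper10.DWDefs

/-! Helper27 library: leaf DW-FEW of helper10's S3616 market ("DW"): `FewOrbits` for the point
stabilizer `X_a` on `Ω ∖ {a}` gives the pointwise form `Few3 X a`. -/

set_option autoImplicit false
set_option linter.unusedVariables false

namespace Cfsg.Agent.Lib.Helper27.DWFEW

open MulAction Cfsg.Agent.Lib.Helper10.DWDefs
open scoped Pointwise

/-- **DW-FEW**. -/
theorem DWFEW {X Ω : Type*} [Group X] [MulAction X Ω] (a : Ω)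
    (h : Cfsg.Agent.Lib.Helper1.PR.FewOrbits ↥(stabilizer X a) ↥(SubMulAction.ofStabilizer X a)) :
    Few3 X a := by
  intro b c hba hca hbc S hinv haS hbS hcS hz y hy y' hy'
  have memΓ : ∀ ω : Ω, ω ≠ a → ω ∈ SubMulAction.ofStabilizer X a := fun ω hω =>
    (SubMulAction.mem_ofStabilizer_iff X a).mpr hω
  have hya : y ≠ a := fun e => haS (e ▸ hy)
  have hy'a : y' ≠ a := fun e => haS (e ▸ hy')
  obtain ⟨z, hzS, hza, hzb, hzc⟩ := hz
  have key := h ⟨b, memΓ b hba⟩ ⟨c, memΓ c hca⟩ (fun e => hbc (congrArg Subtype.val e))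
    {γ | (γ : Ω) ∈ S}
    (by
      intro g hgb hgc γ hγ
      have h1 : (g : X) • a = a := mem_stabilizer_iff.mp g.2
      have h2 : (g : X) • b = b := congrArg Subtype.val hgb
      have h3 : (g : X) • c = c := congrArg Subtype.val hgc
      exact hinv (g : X) h1 h2 h3 (γ : Ω) hγ)
    hbS hcS
    ⟨⟨z, memΓ z hza⟩, hzS, fun e => hzb (congrArg Subtype.val e),
      fun e => hzc (congrArg Subtype.val e)⟩
    ⟨y, memΓ y hya⟩ hy ⟨y', memΓ y' hy'a⟩ hy'
  obtain ⟨g, hgb, hgc, hgy⟩ := key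
  exact ⟨(g : X), mem_stabilizer_iff.mp g.2, congrArg Subtype.val hgb, congrArg Subtype.val hgc,
    congrArg Subtype.val hgy⟩

end Cfsg.Agent.Lib.Helper27.DWFEW
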