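import Mathlib

/-!
Klein four-subgroups of a finite group with dihedral Sylow 2-subgroups (helper27).
-/

set_option autoImplicit false

namespace Cfsg.Agent.Lib.Helper27.DihFour

open Subgroup
open scoped Pointwise

section Counting

/-- an invariant finite set all of whose orbits have size divisible by `d` has size divisible by
`d` -/
theorem dvd_card_of_orbits {G α : Type*} [Group G] [MulAction G α] [DecidableEq α]
    (d : ℕ) : ∀ (N : ℕ) (T : Finset α), T.card = N → (∀ g : G, ∀ t ∈ T, g • t ∈ T) →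
    (∀ t ∈ T, ∃ O : Finset α, (∀ x, x ∈ O ↔ x ∈ MulAction.orbit G t) ∧ d ∣ O.card) →
    d ∣ T.card := by
  intro N
  induction N using Nat.strong_induction_on with
  | _ N ih =>
    intro T hN hinv hd
    rcases T.eq_empty_or_nonempty with rfl | ⟨t, ht⟩
    · simp
    obtain ⟨O, hO, hdO⟩ := hd t ht
    have hOT : O ⊆ T := by
      intro x hx
      obtain ⟨g, rfl⟩ := (hO x).mp hx
      exact hinv g t ht
    have htO : t ∈ O := (hO t).mpr (MulAction.mem_orbit_self t)
    have hcard : (T \ O).card + O.card = T.card := Finset.card_sdiff_add_card_eq_card hOT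
    have hlt : (T \ O).card < N := by
      have : 0 < O.card := Finset.card_pos.mpr ⟨t, htO⟩
      omega
    have h1 := ih (T \ O).card hlt (T \ O) rfl (by
      intro g s hs
      rw [Finset.mem_sdiff] at hs ⊢
      refine ⟨hinv g s hs.1, fun hgs => hs.2 ?_⟩
      rw [hO] at hgs ⊢
      have : s = g⁻¹ • (g • s) := by simp
      rw [this]
      exact MulAction.mem_orbit_of_mem_orbit g⁻¹ hgs) (by
      intro s hs
      exact hd s (Finset.mem_sdiff.mp hs).1)
    rw [← hcard]
    exact dvd_add h1 hdO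

end Counting

section Basic

variable {X : Type*} [Group X]

/-- elementary form of `IsKleinFour` for subgroups -/
def kf (V : Subgroup X) : Prop := Nat.card V = 4 ∧ ∀ v ∈ V, v * v = 1

theorem isKleinFour_iff (V : Subgroup X) : IsKleinFour ↥V ↔ kf V := by
  constructor
  · intro h
    refine ⟨h.card_four, fun v hv => ?_⟩
    have := IsKleinFour.mul_self (⟨v, hv⟩ : ↥V)
    exact congrArg Subtype.val this
  · rintro ⟨h4, hsq⟩
    refine ⟨h4, ?_⟩
    have hdvd : Monoid.exponent ↥V ∣ 2 := by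
      apply Monoid.exponent_dvd_of_forall_pow_eq_one
      intro v
      rw [pow_two]
      exact Subtype.ext (hsq v.1 v.2)
    rcases (Nat.dvd_prime Nat.prime_two).mp hdvd with h1 | h2
    · exfalso
      have : Subsingleton ↥V := Monoid.exp_eq_one_iff.mp h1
      have : Nat.card ↥V = 1 := Nat.card_unique
      omega
    · exact h2

/-- conjugate of a subgroup -/
abbrev cj (g : X) (V : Subgroup X) : Subgroup X := V.map (MulAut.conj g).toMonoidHom

theorem mem_cj {g x : X} {V : Subgroup X} : x ∈ cj g V ↔ g⁻¹ * x * g ∈ V := by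
  constructor
  · rintro ⟨y, hy, rfl⟩
    simpa [mul_assoc] using hy
  · intro h
    exact ⟨g⁻¹ * x * g, h, by simp [mul_assoc]⟩

theorem cj_mul (g h : X) (V : Subgroup X) : cj (g * h) V = cj g (cj h V) := by
  ext x
  simp only [mem_cj]
  rw [mul_inv_rev]
  simp only [mul_assoc]

theorem cj_one (V : Subgroup X) : cj 1 V = V := by
  ext x
  simp [mem_cj]

theorem cj_inv_cj (g : X) (V : Subgroup X) : cj g⁻¹ (cj g V) = V := by
  rw [← cj_mul, inv_mul_cancel, cj_one]

theorem cj_cj_inv (g : X) (V : Subgroup X) : cj g (cj g⁻¹ V) = V := by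
  rw [← cj_mul, mul_inv_cancel, cj_one]

theorem card_cj (g : X) (V : Subgroup X) : Nat.card (cj g V) = Nat.card V :=
  Subgroup.card_map_of_injective (MulAut.conj g).injective

theorem cj_le_cj {g : X} {V W : Subgroup X} (h : V ≤ W) : cj g V ≤ cj g W :=
  Subgroup.map_mono h

theorem kf_cj (g : X) {V : Subgroup X} (h : kf V) : kf (cj g V) := by
  refine ⟨by rw [card_cj]; exact h.1, ?_⟩
  rintro _ ⟨y, hy, rfl⟩
  simp only [MulEquiv.coe_toMonoidHom, MulAut.conj_apply]
  have := h.2 y hy
  calc g * y * g⁻¹ * (g * y * g⁻¹) = g * (y * y) * g⁻¹ := by group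
    _ = 1 := by rw [this]; group

theorem cj_eq_self_iff {g : X} {V : Subgroup X} : cj g V = V ↔ g ∈ normalizer (V : Set X) :=
  (Subgroup.mem_normalizer_iff_map_conj_eq).symm

/-- the four-group generated by two commuting involutions -/
def four (a b : X) (haa : a * a = 1) (hbb : b * b = 1) (hab : a * b = b * a) : Subgroup X where
  carrier := {1, a, b, a * b}
  one_mem' := by simp
  mul_mem' := by
    have h1 : ∀ x, a * (a * x) = x := fun x => by rw [← mul_assoc, haa, one_mul]
    have h2 : ∀ x, b * (b * x) = x := fun x => by rw [← mul_assoc, hbb, one_mul]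
    have h3 : ∀ x, b * (a * x) = a * (b * x) := fun x => by
      rw [← mul_assoc, ← hab, mul_assoc]
    intro x y hx hy
    simp only [Set.mem_insert_iff, Set.mem_singleton_iff] at hx hy ⊢
    rcases hx with rfl | rfl | rfl | rfl <;> rcases hy with rfl | rfl | rfl | rfl <;>
      simp [haa, hbb, h1, h2, h3, mul_assoc, ← hab]
  inv_mem' := by
    intro x hx
    simp only [Set.mem_insert_iff, Set.mem_singleton_iff] at hx ⊢
    have ia : a⁻¹ = a := inv_eq_of_mul_eq_one_left haa
    have ib : b⁻¹ = b := inv_eq_of_mul_eq_one_left hbb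
    rcases hx with rfl | rfl | rfl | rfl
    · simp
    · simp [ia]
    · simp [ib]
    · right; right; right
      rw [mul_inv_rev, ia, ib, hab]

theorem mem_four {a b : X} {haa : a * a = 1} {hbb : b * b = 1} {hab : a * b = b * a} {x : X} :
    x ∈ four a b haa hbb hab ↔ x = 1 ∨ x = a ∨ x = b ∨ x = a * b := by
  show x ∈ ({1, a, b, a * b} : Set X) ↔ _
  simp

end Basic

section Dih

variable {X : Type*} [Group X] [Finite X]

/-- abstract dihedral structure on a subgroup `S` of `X` -/
structure Dih (S C : Subgroup X) (c : X) (n : ℕ) : Prop where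
  hCS : C ≤ S
  hC : C = zpowers c
  hn : orderOf c = n
  hcard : Nat.card S = 2 * n
  hinv : ∀ t ∈ S, t ∉ C → t * t = 1 ∧ ∀ x ∈ C, t * x * t⁻¹ = x⁻¹
  h4 : 4 ∣ n
  hn0 : 0 < n

variable {S C : Subgroup X} {c : X} {n : ℕ} (D : Dih S C c n)

include D

theorem Dih.card_C : Nat.card C = n := by
  rw [D.hC, Nat.card_zpowers, D.hn]

theorem Dih.c_mem : c ∈ C := by rw [D.hC]; exact mem_zpowers c

theorem Dih.mem_C_iff {x : X} : x ∈ C ↔ ∃ k : ℕ, k < n ∧ c ^ k = x := by
  classical
  rw [D.hC]
  constructor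
  · intro hx
    have hfin : IsOfFinOrder c := isOfFinOrder_of_finite c
    have := (hfin.mem_zpowers_iff_mem_range_orderOf (y := x)).mp hx
    rw [Finset.mem_image] at this
    obtain ⟨k, hk, rfl⟩ := this
    exact ⟨k, by rw [← D.hn]; exact Finset.mem_range.mp hk, rfl⟩
  · rintro ⟨k, -, rfl⟩
    exact Subgroup.pow_mem _ (mem_zpowers c) k

/-- the central involution -/
def Dih.z (_D : Dih S C c n) : X := c ^ (n / 2)

theorem Dih.z_mem : D.z ∈ C := Subgroup.pow_mem _ D.c_mem _

theorem Dih.z_sq : D.z * D.z = 1 := by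
  obtain ⟨k, hk⟩ := D.h4
  show c ^ (n / 2) * c ^ (n / 2) = 1
  rw [← pow_add, ← D.hn]
  have : n / 2 + n / 2 = n := by omega
  rw [D.hn, this, ← D.hn, pow_orderOf_eq_one]

theorem Dih.z_ne_one : D.z ≠ 1 := by
  have h := D.h4
  have hpos := D.hn0
  apply pow_ne_one_of_lt_orderOf
  · omega
  · rw [D.hn]; omega

theorem Dih.z_inv : D.z⁻¹ = D.z := inv_eq_of_mul_eq_one_left D.z_sq

/-- involutions of `C` -/
theorem Dih.sq_eq_one_in_C {x : X} (hx : x ∈ C) (hxx : x * x = 1) : x = 1 ∨ x = D.z := by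
  obtain ⟨k, hk, rfl⟩ := D.mem_C_iff.mp hx
  rw [← pow_add] at hxx
  have hdvd : n ∣ k + k := by rw [← D.hn]; exact orderOf_dvd_of_pow_eq_one hxx
  obtain ⟨j, hj⟩ := hdvd
  have hj2 : j = 0 ∨ j = 1 := by
    rcases Nat.lt_or_ge j 2 with h | h
    · omega
    · exfalso
      have : n * 2 ≤ n * j := Nat.mul_le_mul_left n h
      omega
  rcases hj2 with rfl | rfl
  · left
    have : k = 0 := by omega
    rw [this, pow_zero]
  · right
    have : k = n / 2 := by omega
    rw [this]; rfl

theorem Dih.commute_C {x y : X} (hx : x ∈ C) (hy : y ∈ C) : x * y = y * x := by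
  rw [D.hC] at hx hy
  obtain ⟨i, rfl⟩ := mem_zpowers_iff.mp hx
  obtain ⟨j, rfl⟩ := mem_zpowers_iff.mp hy
  rw [← zpow_add, ← zpow_add, add_comm]

theorem Dih.z_central {s : X} (hs : s ∈ S) : s * D.z = D.z * s := by
  by_cases hsC : s ∈ C
  · exact D.commute_C hsC D.z_mem
  · have := (D.hinv s hs hsC).2 D.z D.z_mem
    rw [D.z_inv] at this
    calc s * D.z = s * D.z * s⁻¹ * s := by group
      _ = D.z * s := by rw [this]

theorem Dih.index_two : (C.subgroupOf S).index = 2 := by
  have h1 := Subgroup.index_mul_card (C.subgroupOf S)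
  have h2 : Nat.card (C.subgroupOf S) = n := by
    rw [← D.card_C]
    exact Nat.card_congr (Subgroup.subgroupOfEquivOfLe D.hCS).toEquiv
  rw [h2, D.hcard] at h1
  have := D.hn0
  nlinarith

theorem Dih.mul_mem_C_iff {a b : X} (ha : a ∈ S) (hb : b ∈ S) :
    a * b ∈ C ↔ (a ∈ C ↔ b ∈ C) := by
  have := Subgroup.mul_mem_iff_of_index_two D.index_two (a := ⟨a, ha⟩) (b := ⟨b, hb⟩)
  simpa [Subgroup.mem_subgroupOf] using this

theorem Dih.exists_not_mem : ∃ t ∈ S, t ∉ C := by
  by_contra hcon
  have hle : S ≤ C := fun t ht => by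
    by_contra h
    exact hcon ⟨t, ht, h⟩
  have : S = C := le_antisymm hle D.hCS
  have h1 := D.hcard
  rw [this, D.card_C] at h1
  have := D.hn0
  omega

/-- reflections are involutions -/
theorem Dih.refl_sq {t : X} (ht : t ∈ S) (htC : t ∉ C) : t * t = 1 := (D.hinv t ht htC).1

theorem Dih.refl_inv {t : X} (ht : t ∈ S) (htC : t ∉ C) : t⁻¹ = t :=
  inv_eq_of_mul_eq_one_left (D.refl_sq ht htC)

theorem Dih.refl_conj {t x : X} (ht : t ∈ S) (htC : t ∉ C) (hx : x ∈ C) :
    t * x * t⁻¹ = x⁻¹ := (D.hinv t ht htC).2 x hx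

/-- `C` is normalized by `S` -/
theorem Dih.conj_mem_C {s x : X} (hs : s ∈ S) (hx : x ∈ C) : s * x * s⁻¹ ∈ C := by
  by_cases hsC : s ∈ C
  · exact C.mul_mem (C.mul_mem hsC hx) (C.inv_mem hsC)
  · rw [D.refl_conj hs hsC hx]
    exact C.inv_mem hx

theorem Dih.conj_not_mem_C {s t : X} (hs : s ∈ S) (htC : t ∉ C) : s * t * s⁻¹ ∉ C := by
  intro h
  apply htC
  have := D.conj_mem_C (S.inv_mem hs) h
  have e : s⁻¹ * (s * t * s⁻¹) * s⁻¹⁻¹ = t := by group
  rwa [e] at this

/-- the four-group through a reflection -/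
def Dih.V (D : Dih S C c n) (t : X) (ht : t ∈ S) (htC : t ∉ C) : Subgroup X :=
  four D.z t D.z_sq (D.refl_sq ht htC) (D.z_central ht).symm

theorem Dih.mem_V {t : X} {ht : t ∈ S} {htC : t ∉ C} {x : X} :
    x ∈ D.V t ht htC ↔ x = 1 ∨ x = D.z ∨ x = t ∨ x = D.z * t := mem_four

theorem Dih.V_le {t : X} (ht : t ∈ S) (htC : t ∉ C) : D.V t ht htC ≤ S := by
  intro x hx
  rcases D.mem_V.mp hx with rfl | rfl | rfl | rfl
  · exact S.one_mem
  · exact D.hCS D.z_mem
  · exact ht
  · exact S.mul_mem (D.hCS D.z_mem) ht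

theorem Dih.zt_not_mem {t : X} (ht : t ∈ S) (htC : t ∉ C) : D.z * t ∉ C := by
  rw [D.mul_mem_C_iff (D.hCS D.z_mem) ht]
  intro h
  exact htC (h.mp D.z_mem)

theorem Dih.card_V {t : X} (ht : t ∈ S) (htC : t ∉ C) : Nat.card (D.V t ht htC) = 4 := by
  classical
  have h1 : (1 : X) ≠ D.z := fun h => D.z_ne_one h.symm
  have h2 : (1 : X) ≠ t := fun h => htC (h ▸ C.one_mem)
  have h3 : (1 : X) ≠ D.z * t := fun h => D.zt_not_mem ht htC (h ▸ C.one_mem)
  have h4 : D.z ≠ t := fun h => htC (h ▸ D.z_mem)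
  have h5 : D.z ≠ D.z * t := fun h => D.zt_not_mem ht htC (h ▸ D.z_mem)
  have h6 : t ≠ D.z * t := fun h => D.z_ne_one (by
    have : D.z * t = 1 * t := by rw [one_mul]; exact h.symm
    exact mul_right_cancel this)
  have hset : ((D.V t ht htC : Subgroup X) : Set X) = (({1, D.z, t, D.z * t} : Finset X) : Set X) := by
    ext x
    simp only [SetLike.mem_coe, D.mem_V, Finset.coe_insert, Finset.coe_singleton,
      Set.mem_insert_iff, Set.mem_singleton_iff]
  have hc : Nat.card ↥(D.V t ht htC) = ((D.V t ht htC : Subgroup X) : Set X).ncard :=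
    Nat.card_coe_set_eq _
  rw [hc, hset, Set.ncard_coe_finset]
  rw [Finset.card_insert_of_notMem, Finset.card_insert_of_notMem, Finset.card_insert_of_notMem,
    Finset.card_singleton]
  · simp [h6]
  · simp [h4, h5]
  · simp [h1, h2, h3]

theorem Dih.kf_V {t : X} (ht : t ∈ S) (htC : t ∉ C) : kf (D.V t ht htC) := by
  refine ⟨D.card_V ht htC, ?_⟩
  intro x hx
  rcases D.mem_V.mp hx with rfl | rfl | rfl | rfl
  · simp
  · exact D.z_sq
  · exact D.refl_sq ht htC
  · exact D.refl_sq (S.mul_mem (D.hCS D.z_mem) ht) (D.zt_not_mem ht htC)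

/-- centralizer of a reflection in `S` -/
theorem Dih.centralizer_refl {t s : X} (ht : t ∈ S) (htC : t ∉ C) (hs : s ∈ S)
    (hst : s * t = t * s) : s ∈ D.V t ht htC := by
  rw [D.mem_V]
  by_cases hsC : s ∈ C
  · have h1 := D.refl_conj ht htC hsC
    have h2 : t * s * t⁻¹ = s := by rw [← hst]; group
    have h3 : s * s = 1 := by
      have e : s⁻¹ = s := h1.symm.trans h2
      have := mul_inv_cancel s
      rwa [e] at this
    rcases D.sq_eq_one_in_C hsC h3 with h | h
    · exact Or.inl h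
    · exact Or.inr (Or.inl h)
  · have hstC : s * t ∈ C := by
      rw [D.mul_mem_C_iff hs ht]
      exact ⟨fun h => absurd h hsC, fun h => absurd h htC⟩
    have h1 := D.refl_conj ht htC hstC
    have h2 : t * (s * t) * t⁻¹ = s * t := by
      calc t * (s * t) * t⁻¹ = t * s := by group
        _ = s * t := hst.symm
    have h3 : (s * t) * (s * t) = 1 := by
      have e : (s * t)⁻¹ = s * t := h1.symm.trans h2
      have := mul_inv_cancel (s * t)
      rwa [e] at this
    have hti := D.refl_inv ht htC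
    rcases D.sq_eq_one_in_C hstC h3 with h | h
    · right; right; left
      have : s = t⁻¹ := eq_inv_of_mul_eq_one_left h
      rw [this, hti]
    · right; right; right
      have : s = D.z * t⁻¹ := by rw [← h]; group
      rw [this, hti]

/-- every four-subgroup of `S` is some `V t` -/
theorem Dih.eq_V_of_kf {W : Subgroup X} (hW : kf W) (hWS : W ≤ S) {t : X} (htW : t ∈ W)
    (htC : t ∉ C) : W = D.V t (hWS htW) htC := by
  have hle : W ≤ D.V t (hWS htW) htC := by
    intro w hw
    rw [D.mem_V]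
    have hti := D.refl_inv (hWS htW) htC
    by_cases hwC : w ∈ C
    · rcases D.sq_eq_one_in_C hwC (hW.2 w hw) with h | h
      · exact Or.inl h
      · exact Or.inr (Or.inl h)
    · have hwtC : w * t ∈ C := by
        rw [D.mul_mem_C_iff (hWS hw) (hWS htW)]
        exact ⟨fun h => absurd h hwC, fun h => absurd h htC⟩
      rcases D.sq_eq_one_in_C hwtC (hW.2 _ (W.mul_mem hw htW)) with h | h
      · right; right; left
        have : w = t⁻¹ := eq_inv_of_mul_eq_one_left h
        rw [this, hti]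
      · right; right; right
        have : w = D.z * t⁻¹ := by rw [← h]; group
        rw [this, hti]
  exact Subgroup.eq_of_le_of_card_ge hle (by rw [D.card_V, hW.1])

theorem Dih.exists_refl_of_kf {W : Subgroup X} (hW : kf W) (hWS : W ≤ S) : ∃ t ∈ W, t ∉ C := by
  classical
  by_contra hcon
  have hsub : ∀ w ∈ W, w = 1 ∨ w = D.z := by
    intro w hw
    have hwC : w ∈ C := by
      by_contra h
      exact hcon ⟨w, hw, h⟩
    exact D.sq_eq_one_in_C hwC (hW.2 w hw)
  have hss : ((W : Subgroup X) : Set X) ⊆ (({1, D.z} : Finset X) : Set X) := by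
    intro w hw
    rcases hsub w hw with h | h <;> simp [h]
  have h1 : Nat.card W ≤ 2 := by
    have hc : Nat.card ↥W = ((W : Subgroup X) : Set X).ncard := Nat.card_coe_set_eq _
    rw [hc]
    calc ((W : Subgroup X) : Set X).ncard ≤ ((({1, D.z} : Finset X) : Set X)).ncard :=
          Set.ncard_le_ncard hss (Finset.finite_toSet _)
      _ = ({1, D.z} : Finset X).card := Set.ncard_coe_finset _
      _ ≤ 2 := Finset.card_le_two
  have := hW.1
  omega

end Dih

end Cfsg.Agent.Lib.Helper27.DihFour
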