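import Mathlib
import Cfsg.Agent.Lib.Helper27.DihFour

/-!
Klein four-subgroups with dihedral Sylow 2-subgroups, part 2: classes and counting (helper27).
-/

set_option autoImplicit false

namespace Cfsg.Agent.Lib.Helper27.DihFour

open Subgroup
open scoped Pointwise

theorem cj_self_of_mem {X : Type*} [Group X] {s : X} {S : Subgroup X} (hs : s ∈ S) :
    cj s S = S := by
  ext x
  rw [mem_cj]
  constructor
  · intro h
    have := S.mul_mem (S.mul_mem hs h) (S.inv_mem hs)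
    have e : s * (s⁻¹ * x * s) * s⁻¹ = x := by group
    rwa [e] at this
  · intro h
    exact S.mul_mem (S.mul_mem (S.inv_mem hs) h) hs

section Classes

variable {X : Type*} [Group X] [Finite X]
variable {S C : Subgroup X} {c : X} {n : ℕ} (D : Dih S C c n)

include D

/-- conjugating a reflection by an element of `C` -/
theorem Dih.conj_refl {r x : X} (hr : r ∈ S) (hrC : r ∉ C) (hx : x ∈ C) :
    x * r * x⁻¹ = x * x * r := by
  have h := D.refl_conj hr hrC (C.inv_mem hx)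
  rw [inv_inv] at h
  -- r * x⁻¹ * r⁻¹ = x
  have h2 : r * x⁻¹ = x * r := by
    calc r * x⁻¹ = r * x⁻¹ * r⁻¹ * r := by group
      _ = x * r := by rw [h]
  calc x * r * x⁻¹ = x * (r * x⁻¹) := by group
    _ = x * (x * r) := by rw [h2]
    _ = x * x * r := by group

theorem Dih.c_mul_refl_mem {t : X} (ht : t ∈ S) : c * t ∈ S := S.mul_mem (D.hCS D.c_mem) ht

theorem Dih.c_mul_refl_not_mem {t : X} (ht : t ∈ S) (htC : t ∉ C) : c * t ∉ C := by
  rw [D.mul_mem_C_iff (D.hCS D.c_mem) ht]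
  intro h
  exact htC (h.mp D.c_mem)

/-- every reflection is conjugate in `S` to `t₀` or to `c * t₀` -/
theorem Dih.refl_classes {t₀ t : X} (ht₀ : t₀ ∈ S) (ht₀C : t₀ ∉ C) (ht : t ∈ S) (htC : t ∉ C) :
    ∃ s ∈ S, s * t * s⁻¹ = t₀ ∨ s * t * s⁻¹ = c * t₀ := by
  have hy : t * t₀ ∈ C := by
    rw [D.mul_mem_C_iff ht ht₀]
    exact ⟨fun h => absurd h htC, fun h => absurd h ht₀C⟩
  obtain ⟨k, -, hk⟩ := D.mem_C_iff.mp hy
  have htt : t = c ^ k * t₀ := by
    rw [hk, mul_assoc, D.refl_sq ht₀ ht₀C, mul_one]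
  rcases Nat.even_or_odd' k with ⟨l, rfl | rfl⟩
  · -- even
    have hx : c ^ l ∈ C := C.pow_mem D.c_mem l
    refine ⟨(c ^ l)⁻¹, S.inv_mem (D.hCS hx), Or.inl ?_⟩
    have h1 := D.conj_refl ht₀ ht₀C hx
    have h2 : c ^ l * c ^ l * t₀ = t := by rw [htt, ← pow_add, two_mul]
    rw [h2] at h1
    rw [← h1, inv_inv]; group
  · -- odd
    have hx : c ^ l ∈ C := C.pow_mem D.c_mem l
    refine ⟨(c ^ l)⁻¹, S.inv_mem (D.hCS hx), Or.inr ?_⟩
    have h1 := D.conj_refl (D.c_mul_refl_mem ht₀) (D.c_mul_refl_not_mem ht₀ ht₀C) hx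
    have h2 : c ^ l * c ^ l * (c * t₀) = t := by
      rw [htt, ← mul_assoc, ← pow_add, ← pow_succ, two_mul]
    rw [h2] at h1
    rw [← h1, inv_inv]; group

/-- every four-subgroup of `S` is `S`-conjugate to `V t₀` or `V (c t₀)` -/
theorem Dih.four_classes {t₀ : X} (ht₀ : t₀ ∈ S) (ht₀C : t₀ ∉ C) {W : Subgroup X} (hW : kf W)
    (hWS : W ≤ S) :
    ∃ s ∈ S, cj s W = D.V t₀ ht₀ ht₀C ∨
      cj s W = D.V (c * t₀) (D.c_mul_refl_mem ht₀) (D.c_mul_refl_not_mem ht₀ ht₀C) := by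
  obtain ⟨t, htW, htC⟩ := D.exists_refl_of_kf hW hWS
  obtain ⟨s, hs, hst⟩ := D.refl_classes ht₀ ht₀C (hWS htW) htC
  refine ⟨s, hs, ?_⟩
  have hkf := kf_cj s hW
  have hle : cj s W ≤ S := by
    have := cj_le_cj (g := s) hWS
    rwa [cj_self_of_mem hs] at this
  have hmem : s * t * s⁻¹ ∈ cj s W := by
    rw [mem_cj]
    have e : s⁻¹ * (s * t * s⁻¹) * s = t := by group
    rw [e]; exact htW
  rcases hst with h | h
  · left
    rw [h] at hmem
    exact D.eq_V_of_kf hkf hle hmem ht₀C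
  · right
    rw [h] at hmem
    exact D.eq_V_of_kf hkf hle hmem (D.c_mul_refl_not_mem ht₀ ht₀C)

/-- an element of order 4 in `C` normalizing `V t` -/
theorem Dih.eight_dvd {t : X} (ht : t ∈ S) (htC : t ∉ C) (hS2 : IsPGroup 2 S)
    (N : Subgroup X) (hN : ∀ s ∈ S, cj s (D.V t ht htC) = D.V t ht htC → s ∈ N) (hNS : N ≤ S) :
    8 ∣ Nat.card N := by
  obtain ⟨k, hk⟩ := D.h4
  have hpos := D.hn0
  set x := c ^ (n / 4) with hxdef
  have hxC : x ∈ C := C.pow_mem D.c_mem _
  have hxx : x * x = D.z := by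
    show c ^ (n / 4) * c ^ (n / 4) = c ^ (n / 2)
    rw [← pow_add]
    congr 1
    omega
  have hti := D.refl_inv ht htC
  -- x normalizes V t
  have hnorm : cj x (D.V t ht htC) = D.V t ht htC := by
    have hle : cj x (D.V t ht htC) ≤ D.V t ht htC := by
      rintro _ ⟨y, hy, rfl⟩
      simp only [MulEquiv.coe_toMonoidHom, MulAut.conj_apply]
      have hy' : y ∈ D.V t ht htC := hy
      rcases D.mem_V.mp hy' with rfl | rfl | rfl | rfl
      · simp [Subgroup.one_mem]
      · rw [D.commute_C hxC D.z_mem, mul_assoc, mul_inv_cancel, mul_one]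
        exact D.mem_V.mpr (Or.inr (Or.inl rfl))
      · rw [D.conj_refl ht htC hxC, hxx]
        exact D.mem_V.mpr (Or.inr (Or.inr (Or.inr rfl)))
      · have hzt : D.z * t ∉ C := D.zt_not_mem ht htC
        rw [D.conj_refl (S.mul_mem (D.hCS D.z_mem) ht) hzt hxC, hxx, ← mul_assoc, D.z_sq, one_mul]
        exact D.mem_V.mpr (Or.inr (Or.inr (Or.inl rfl)))
    exact Subgroup.eq_of_le_of_card_ge hle (by rw [card_cj])
  have hxN : x ∈ N := hN x (D.hCS hxC) hnorm
  have hVN : D.V t ht htC ≤ N := by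
    intro v hv
    apply hN v (D.V_le ht htC hv)
    exact cj_self_of_mem hv
  -- x ∉ V t
  have hxV : x ∉ D.V t ht htC := by
    intro h
    have hinj := pow_injOn_Iio_orderOf (x := c)
    rw [D.hn] at hinj
    rcases D.mem_V.mp h with h1 | h1 | h1 | h1
    · have : n / 4 = 0 := hinj (by simp; omega) (by simp; omega) (by simpa using h1)
      omega
    · have : n / 4 = n / 2 := hinj (by simp; omega) (by simp; omega) h1
      omega
    · exact htC (h1 ▸ hxC)
    · exact D.zt_not_mem ht htC (h1 ▸ hxC)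
  -- counting
  have hN2 : IsPGroup 2 N := hS2.to_le hNS
  obtain ⟨j, hj⟩ := IsPGroup.iff_card.mp hN2
  have h4 : 4 ∣ Nat.card N := by
    have := Subgroup.card_dvd_of_le hVN
    rwa [D.card_V] at this
  have hne : Nat.card N ≠ 4 := by
    intro h
    have : D.V t ht htC = N := Subgroup.eq_of_le_of_card_ge hVN (by rw [D.card_V, h])
    exact hxV (this ▸ hxN)
  rw [hj] at h4 hne ⊢
  have hj3 : 3 ≤ j := by
    by_contra hlt
    have : j ≤ 2 := by omega
    interval_cases j <;> simp_all <;> omega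
  exact pow_dvd_pow 2 hj3

end Classes

end Cfsg.Agent.Lib.Helper27.DihFour
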