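import Mathlib
import Cfsg.Agent.Lib.Helper27.DihFour2

/-!
Klein four-subgroups with dihedral Sylow 2-subgroups, part 3: normalizer bounds (helper27).
-/

set_option autoImplicit false

namespace Cfsg.Agent.Lib.Helper27.DihFour

open Subgroup

theorem sylow_smul_eq_cj {X : Type*} [Group X] {p : ℕ} (g : X) (Q : Sylow p X) :
    ((g • Q : Sylow p X) : Subgroup X) = cj g (Q : Subgroup X) := by
  ext x
  rw [mem_cj, Sylow.coe_subgroup_smul, Subgroup.mem_pointwise_smul_iff_inv_smul_mem]
  simp [MulAut.smul_def, mul_assoc]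

theorem exists_cj_le_sylow {X : Type*} [Group X] [Finite X] (P : Sylow 2 X) {R : Subgroup X}
    (hR : IsPGroup 2 R) : ∃ g : X, cj g R ≤ (P : Subgroup X) := by
  obtain ⟨Q, hQ⟩ := hR.exists_le_sylow
  obtain ⟨g, hg⟩ := MulAction.exists_smul_eq X Q P
  refine ⟨g, ?_⟩
  rw [← hg, sylow_smul_eq_cj]
  exact cj_le_cj hQ

theorem card_eq_filter_card {X : Type*} [Group X] [Fintype X] [DecidableEq X] (R : Subgroup X)
    [DecidablePred (· ∈ R)] : Nat.card R = (Finset.univ.filter (· ∈ R)).card := by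
  have hc : Nat.card ↥R = ((R : Subgroup X) : Set X).ncard := Nat.card_coe_set_eq _
  rw [hc, ← Set.ncard_coe_finset]
  congr 1
  ext x
  simp

section Norm

variable {X : Type*} [Group X] [Finite X]
variable {S C : Subgroup X} {c : X} {n : ℕ} (D : Dih S C c n)

include D

/-- a subgroup of `S` normalizing a four-subgroup has order at most 8 -/
theorem Dih.card_le_eight {R W : Subgroup X} (hRS : R ≤ S) (hWR : W ≤ R) (hW : kf W)
    (hnorm : ∀ s ∈ R, cj s W = W) : Nat.card R ≤ 8 := by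
  classical
  haveI : Fintype X := Fintype.ofFinite X
  obtain ⟨t, htW, htC⟩ := D.exists_refl_of_kf hW (hWR.trans hRS)
  have htS : t ∈ S := hRS (hWR htW)
  have hWV := D.eq_V_of_kf hW (hWR.trans hRS) htW htC
  rw [card_eq_filter_card]
  set Rf := Finset.univ.filter (· ∈ R) with hRf
  let f : X → X := fun s => s * t * s⁻¹
  have himg : Rf.image f ⊆ {t, D.z * t} := by
    intro a ha
    obtain ⟨s, hs, rfl⟩ := Finset.mem_image.mp ha
    have hsR : s ∈ R := (Finset.mem_filter.mp hs).2
    have h1 : s * t * s⁻¹ ∈ W := by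
      have := hnorm s hsR
      rw [← this, mem_cj]
      have e : s⁻¹ * (s * t * s⁻¹) * s = t := by group
      rw [e]; exact htW
    have h2 : s * t * s⁻¹ ∉ C := D.conj_not_mem_C (hRS hsR) htC
    rw [hWV] at h1
    rcases D.mem_V.mp h1 with h | h | h | h
    · exact absurd (h ▸ C.one_mem) h2
    · exact absurd (h ▸ D.z_mem) h2
    · simp [f, h]
    · simp [f, h]
  have hfib : ∀ a ∈ Rf.image f, (Rf.filter fun x => f x = a).card ≤ 4 := by
    intro a ha
    obtain ⟨s₀, hs₀, rfl⟩ := Finset.mem_image.mp ha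
    have hs₀R : s₀ ∈ R := (Finset.mem_filter.mp hs₀).2
    have hsub : (Rf.filter fun x => f x = f s₀) ⊆
        ({1, D.z, t, D.z * t} : Finset X).image (fun v => s₀ * v) := by
      intro s hs
      rw [Finset.mem_filter] at hs
      have hsR : s ∈ R := (Finset.mem_filter.mp hs.1).2
      have heq : s * t * s⁻¹ = s₀ * t * s₀⁻¹ := hs.2
      have hcomm : (s₀⁻¹ * s) * t = t * (s₀⁻¹ * s) := by
        calc (s₀⁻¹ * s) * t = s₀⁻¹ * (s * t * s⁻¹) * s := by group
          _ = s₀⁻¹ * (s₀ * t * s₀⁻¹) * s := by rw [heq]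
          _ = t * (s₀⁻¹ * s) := by group
      have hmem := D.centralizer_refl htS htC
        (S.mul_mem (S.inv_mem (hRS hs₀R)) (hRS hsR)) hcomm
      rw [Finset.mem_image]
      refine ⟨s₀⁻¹ * s, ?_, by group⟩
      rcases D.mem_V.mp hmem with h | h | h | h <;> simp [h]
    calc (Rf.filter fun x => f x = f s₀).card
        ≤ (({1, D.z, t, D.z * t} : Finset X).image (fun v => s₀ * v)).card :=
          Finset.card_le_card hsub
      _ ≤ ({1, D.z, t, D.z * t} : Finset X).card := Finset.card_image_le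
      _ ≤ 4 := Finset.card_le_four
  calc Rf.card ≤ 4 * (Rf.image f).card := Finset.card_le_mul_card_image Rf 4 hfib
    _ ≤ 4 * ({t, D.z * t} : Finset X).card := Nat.mul_le_mul_left 4 (Finset.card_le_card himg)
    _ ≤ 4 * 2 := Nat.mul_le_mul_left 4 Finset.card_le_two
    _ = 8 := rfl

end Norm

section Syl

variable {X : Type*} [Group X] [Finite X]
variable (P : Sylow 2 X) {C : Subgroup X} {c : X} {n : ℕ} (D : Dih (P : Subgroup X) C c n)

include D

/-- a 2-subgroup of `X` normalizing a four-subgroup has order at most 8 -/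
theorem Dih.card_le_eight' {R W : Subgroup X} (hR : IsPGroup 2 R) (hWR : W ≤ R) (hW : kf W)
    (hnorm : ∀ s ∈ R, cj s W = W) : Nat.card R ≤ 8 := by
  obtain ⟨g, hg⟩ := exists_cj_le_sylow P hR
  have h := D.card_le_eight (R := cj g R) (W := cj g W) hg (cj_le_cj hWR) (kf_cj g hW) (by
    intro s hs
    rw [mem_cj] at hs
    have h1 := hnorm _ hs
    -- cj s (cj g W) = cj g (cj (g⁻¹ s g) W)
    have e : s * g = g * (g⁻¹ * s * g) := by group
    rw [← cj_mul, e, cj_mul, h1])
  rwa [card_cj] at h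

/-- a subgroup of `S` normalizing a four-subgroup not in `S` has order at most 4 -/
theorem Dih.card_le_four {Q W : Subgroup X} (hQ : Q ≤ (P : Subgroup X)) (hW : kf W)
    (hWP : ¬ W ≤ (P : Subgroup X)) (hnorm : ∀ s ∈ Q, cj s W = W) : Nat.card Q ≤ 4 := by
  have hQ2 : IsPGroup 2 Q := P.2.to_le hQ
  have hW2 : IsPGroup 2 W := IsPGroup.of_card (n := 2) (by rw [hW.1]; norm_num)
  have hQN : Q ≤ normalizer (W : Set X) := fun s hs => cj_eq_self_iff.mp (hnorm s hs)
  have hR2 : IsPGroup 2 (Q ⊔ W : Subgroup X) := IsPGroup.to_sup_of_normal_right' hQ2 hW2 hQN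
  have hRN : (Q ⊔ W : Subgroup X) ≤ normalizer (W : Set X) := sup_le hQN le_normalizer
  have h8 := D.card_le_eight' P hR2 le_sup_right hW (fun s hs => cj_eq_self_iff.mpr (hRN hs))
  have hne : Q ≠ Q ⊔ W := by
    intro h
    apply hWP
    have : W ≤ Q := by
      rw [h]; exact le_sup_right
    exact this.trans hQ
  have hdvd := Subgroup.card_dvd_of_le (le_sup_left : Q ≤ Q ⊔ W)
  obtain ⟨k, hk⟩ := hdvd
  have hpos : 0 < Nat.card Q := Nat.card_pos
  have hk1 : k ≠ 1 := by
    intro h1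
    rw [h1, mul_one] at hk
    exact hne (Subgroup.eq_of_le_of_card_ge le_sup_left hk.le)
  have hk0 : k ≠ 0 := by
    intro h0
    rw [h0, mul_zero] at hk
    have : 0 < Nat.card (Q ⊔ W : Subgroup X) := Nat.card_pos
    omega
  have : 2 ≤ k := by omega
  nlinarith

end Syl

end Cfsg.Agent.Lib.Helper27.DihFour
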