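import Mathlib
import Cfsg.Agent.Lib.Helper27.DihFour3

/-!
Klein four-subgroups with dihedral Sylow 2-subgroups, part 4: the counting argument (helper27).
-/

set_option autoImplicit false

namespace Cfsg.Agent.Lib.Helper27.DihFour

open Subgroup

/-- conjugation action of a group on its subgroups -/
@[reducible] def conjAct (X : Type*) [Group X] : MulAction X (Subgroup X) where
  smul g V := cj g V
  one_smul := cj_one
  mul_smul := cj_mul

section Count

variable {X : Type*} [Group X] [Finite X]
variable {S C : Subgroup X} {c : X} {n : ℕ} (D : Dih S C c n)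

include D

theorem Dih.card_refl [Fintype X] [DecidableEq X] [DecidablePred (· ∈ S)]
    [DecidablePred (· ∈ C)] :
    (Finset.univ.filter (fun t : X => t ∈ S ∧ t ∉ C)).card = n := by
  have h1 : (Finset.univ.filter (fun t : X => t ∈ S ∧ t ∉ C)) =
      (Finset.univ.filter (· ∈ S)) \ (Finset.univ.filter (· ∈ C)) := by
    ext t; simp
  have hsub : (Finset.univ.filter (· ∈ C)) ⊆ (Finset.univ.filter (· ∈ S)) := by
    intro t ht
    simp only [Finset.mem_filter, Finset.mem_univ, true_and] at ht ⊢
    exact D.hCS ht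
  rw [h1, Finset.card_sdiff_of_subset hsub, ← card_eq_filter_card, ← card_eq_filter_card,
    D.hcard, D.card_C]
  omega

theorem Dih.two_mul_card_in [Fintype X] [DecidableEq X] [Fintype (Subgroup X)]
    [DecidablePred (fun W : Subgroup X => kf W ∧ W ≤ S)] :
    2 * (Finset.univ.filter (fun W : Subgroup X => kf W ∧ W ≤ S)).card = n := by
  classical
  set Refl := Finset.univ.filter (fun t : X => t ∈ S ∧ t ∉ C) with hRefl
  set T := Finset.univ.filter (fun W : Subgroup X => kf W ∧ W ≤ S) with hT
  have key := Finset.sum_card_bipartiteAbove_eq_sum_card_bipartiteBelow (s := Refl) (t := T)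
    (fun (t : X) (W : Subgroup X) => t ∈ W)
  have hL : ∀ t ∈ Refl, (T.bipartiteAbove (fun (t : X) (W : Subgroup X) => t ∈ W) t).card = 1 := by
    intro t ht
    obtain ⟨htS, htC⟩ := (Finset.mem_filter.mp ht).2
    rw [Finset.card_eq_one]
    refine ⟨D.V t htS htC, ?_⟩
    ext W
    simp only [Finset.bipartiteAbove, Finset.mem_filter, Finset.mem_singleton, hT,
      Finset.mem_univ, true_and]
    constructor
    · rintro ⟨⟨hW, hWS⟩, htW⟩
      exact D.eq_V_of_kf hW hWS htW htC
    · rintro rfl
      exact ⟨⟨D.kf_V htS htC, D.V_le htS htC⟩, D.mem_V.mpr (Or.inr (Or.inr (Or.inl rfl)))⟩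
  have hR : ∀ W ∈ T, (Refl.bipartiteBelow (fun (t : X) (W : Subgroup X) => t ∈ W) W).card = 2 := by
    intro W hW
    obtain ⟨hkf, hWS⟩ := (Finset.mem_filter.mp hW).2
    obtain ⟨t₁, ht₁W, ht₁C⟩ := D.exists_refl_of_kf hkf hWS
    have hWV := D.eq_V_of_kf hkf hWS ht₁W ht₁C
    have ht₁S := hWS ht₁W
    rw [Finset.card_eq_two]
    refine ⟨t₁, D.z * t₁, ?_, ?_⟩
    · intro h
      apply D.z_ne_one
      have : D.z * t₁ = 1 * t₁ := by rw [one_mul]; exact h.symm
      exact mul_right_cancel this
    · ext t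
      simp only [Finset.bipartiteBelow, Finset.mem_filter, Finset.mem_insert,
        Finset.mem_singleton, hRefl, Finset.mem_univ, true_and]
      constructor
      · rintro ⟨⟨htS, htC⟩, htW⟩
        rw [hWV] at htW
        rcases D.mem_V.mp htW with h | h | h | h
        · exact absurd (h ▸ C.one_mem) htC
        · exact absurd (h ▸ D.z_mem) htC
        · exact Or.inl h
        · exact Or.inr h
      · rintro (rfl | rfl)
        · exact ⟨⟨ht₁S, ht₁C⟩, ht₁W⟩
        · refine ⟨⟨S.mul_mem (D.hCS D.z_mem) ht₁S, D.zt_not_mem ht₁S ht₁C⟩, ?_⟩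
          rw [hWV]
          exact D.mem_V.mpr (Or.inr (Or.inr (Or.inr rfl)))
  rw [Finset.sum_congr rfl hL, Finset.sum_congr rfl hR, Finset.sum_const, Finset.sum_const,
    smul_eq_mul, smul_eq_mul, mul_one, D.card_refl] at key
  omega

end Count

end Cfsg.Agent.Lib.Helper27.DihFour
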