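import Mathlib
import Cfsg.Agent.Lib.Helper27.DihFour4

/-!
Klein four-subgroups with dihedral Sylow 2-subgroups, part 5: two classes (helper27).
-/

set_option autoImplicit false

namespace Cfsg.Agent.Lib.Helper27.DihFour

open Subgroup

section Main

variable {X : Type*} [Group X] [Finite X]
variable (P : Sylow 2 X) {C : Subgroup X} {c : X} {n : ℕ} (D : Dih (P : Subgroup X) C c n)

include D

/-- every four-subgroup of `X` is conjugate to `V t₀` or `V (c t₀)` -/
theorem Dih.classes {t₀ : X} (ht₀ : t₀ ∈ (P : Subgroup X)) (ht₀C : t₀ ∉ C) {W : Subgroup X}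
    (hW : kf W) :
    ∃ g : X, cj g W = D.V t₀ ht₀ ht₀C ∨
      cj g W = D.V (c * t₀) (D.c_mul_refl_mem ht₀) (D.c_mul_refl_not_mem ht₀ ht₀C) := by
  have hW2 : IsPGroup 2 W := IsPGroup.of_card (n := 2) (by rw [hW.1]; norm_num)
  obtain ⟨g, hg⟩ := exists_cj_le_sylow P hW2
  obtain ⟨s, -, hs⟩ := D.four_classes ht₀ ht₀C (kf_cj g hW) hg
  refine ⟨s * g, ?_⟩
  rw [cj_mul]
  exact hs

theorem Dih.not_conj {t₀ : X} (ht₀ : t₀ ∈ (P : Subgroup X)) (ht₀C : t₀ ∉ C) :
    ¬ ∃ x : X, cj x (D.V t₀ ht₀ ht₀C) =
      D.V (c * t₀) (D.c_mul_refl_mem ht₀) (D.c_mul_refl_not_mem ht₀ ht₀C) := by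
  classical
  rintro ⟨x, hx⟩
  haveI : Fintype X := Fintype.ofFinite X
  haveI : Fintype (Subgroup X) := Fintype.ofFinite _
  letI act : MulAction X (Subgroup X) := conjAct X
  set U₁ := D.V t₀ ht₀ ht₀C with hU₁
  set d := n / 2 with hd
  obtain ⟨k4, hk4⟩ := D.h4
  have hn2 : n = 2 * d := by omega
  have hdpos : 0 < d := by have := D.hn0; omega
  -- single orbit
  have hone : ∀ W : Subgroup X, kf W → ∃ g : X, cj g W = U₁ := by
    intro W hW
    obtain ⟨g, hg | hg⟩ := D.classes P ht₀ ht₀C hW
    · exact ⟨g, hg⟩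
    · refine ⟨x⁻¹ * g, ?_⟩
      rw [cj_mul, hg, ← hx, cj_inv_cj]
  set T := Finset.univ.filter (fun W : Subgroup X => kf W) with hT
  have horbit : ((T : Finset (Subgroup X)) : Set (Subgroup X)) = MulAction.orbit X U₁ := by
    ext W
    simp only [hT, Finset.coe_filter, Finset.mem_univ, true_and, Set.mem_setOf_eq]
    constructor
    · intro hW
      obtain ⟨g, hg⟩ := hone W hW
      refine ⟨g⁻¹, ?_⟩
      show cj g⁻¹ U₁ = W
      rw [← hg, cj_inv_cj]
    · rintro ⟨g, rfl⟩
      exact kf_cj g (D.kf_V ht₀ ht₀C)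
  have hTcard : T.card = (MulAction.stabilizer X U₁).index := by
    rw [MulAction.index_stabilizer, ← horbit, Set.ncard_coe_finset]
  -- 8 divides the stabilizer
  have h8 : 8 ∣ Nat.card (MulAction.stabilizer X U₁) := by
    have h := D.eight_dvd ht₀ ht₀C P.2 (MulAction.stabilizer X U₁ ⊓ (P : Subgroup X))
      (fun s hs hcs => ⟨MulAction.mem_stabilizer_iff.mpr hcs, hs⟩) inf_le_right
    exact h.trans (Subgroup.card_dvd_of_le inf_le_left)
  -- d divides card T
  have hdT : d ∣ T.card := by
    have hsplit := Finset.card_filter_add_card_filter_not (s := T)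
      (fun W : Subgroup X => W ≤ (P : Subgroup X))
    have hin : (T.filter (fun W : Subgroup X => W ≤ (P : Subgroup X))).card = d := by
      have h := D.two_mul_card_in
      have e : T.filter (fun W : Subgroup X => W ≤ (P : Subgroup X)) =
          Finset.univ.filter (fun W : Subgroup X => kf W ∧ W ≤ (P : Subgroup X)) := by
        ext W; simp [hT]
      rw [e]
      omega
    letI actP : MulAction ↥(P : Subgroup X) (Subgroup X) :=
      MulAction.compHom _ (P : Subgroup X).subtype
    have hout : d ∣ (T.filter (fun W : Subgroup X => ¬ W ≤ (P : Subgroup X))).card := by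
      apply dvd_card_of_orbits (G := ↥(P : Subgroup X)) d _ _ rfl
      · intro s W hW
        simp only [hT, Finset.mem_filter, Finset.mem_univ, true_and] at hW ⊢
        refine ⟨kf_cj (s : X) hW.1, fun hle => hW.2 ?_⟩
        have h1 : cj (s : X)⁻¹ (cj (s : X) W) ≤ cj (s : X)⁻¹ (P : Subgroup X) := cj_le_cj hle
        rwa [cj_inv_cj, cj_self_of_mem ((P : Subgroup X).inv_mem s.2)] at h1
      · intro W hW
        simp only [hT, Finset.mem_filter, Finset.mem_univ, true_and] at hW
        refine ⟨(Set.toFinite (MulAction.orbit ↥(P : Subgroup X) W)).toFinset,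
          fun V => Set.Finite.mem_toFinset _, ?_⟩
        rw [← Set.ncard_eq_toFinset_card, ← MulAction.index_stabilizer]
        set Q := MulAction.stabilizer ↥(P : Subgroup X) W with hQ
        have hmul := Subgroup.index_mul_card Q
        have hPcard : Nat.card ↥(P : Subgroup X) = 4 * d := by rw [D.hcard, hn2]; ring
        rw [hPcard] at hmul
        have hQ4 : Nat.card Q ≤ 4 := by
          have h := D.card_le_four P (Q := Q.map (P : Subgroup X).subtype)
            (by
              rintro _ ⟨s, -, rfl⟩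
              exact s.2) hW.1 hW.2
            (by
              rintro _ ⟨s, hs, rfl⟩
              exact MulAction.mem_stabilizer_iff.mp hs)
          rwa [Subgroup.card_map_of_injective (Subgroup.subtype_injective _)] at h
        have hQ2 : IsPGroup 2 Q := P.2.to_subgroup Q
        obtain ⟨k, hk⟩ := IsPGroup.iff_card.mp hQ2
        rw [hk] at hmul hQ4
        have hk2 : k ≤ 2 := by
          by_contra hlt
          have : 2 ^ 3 ≤ 2 ^ k := Nat.pow_le_pow_right (by norm_num) (by omega)
          omega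
        interval_cases k
        · exact ⟨4, by omega⟩
        · exact ⟨2, by omega⟩
        · exact ⟨1, by omega⟩
    rw [← hsplit, hin]
    exact dvd_add (dvd_refl d) hout
  -- final count
  have hXcard := Subgroup.index_mul_card (MulAction.stabilizer X U₁)
  have hPX := Subgroup.index_mul_card (P : Subgroup X)
  have hodd : ¬ 2 ∣ (P : Subgroup X).index := P.not_dvd_index
  rw [← hTcard] at hXcard
  obtain ⟨a, ha⟩ := hdT
  obtain ⟨b, hb⟩ := h8
  rw [ha, hb, ← hPX, D.hcard, hn2] at hXcard
  apply hodd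
  refine ⟨a * b, ?_⟩
  have : d * ((P : Subgroup X).index * 4) = d * (2 * (a * b) * 4) := by nlinarith
  have := Nat.eq_of_mul_eq_mul_left hdpos this
  omega

end Main

end Cfsg.Agent.Lib.Helper27.DihFour
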