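import Mathlib
import Cfsg.Agent.Lib.Helper27.DihFour5

/-!
Klein four-subgroups with dihedral Sylow 2-subgroups, part 6: from `DihedralGroup m` (helper27).
-/

set_option autoImplicit false

namespace Cfsg.Agent.Lib.Helper27.DihFour

open Subgroup DihedralGroup

theorem dih_conj_r {m : ℕ} (i : ZMod m) (k : ℤ) :
    (sr i : DihedralGroup m) * (r 1) ^ k * (sr i)⁻¹ = ((r 1) ^ k)⁻¹ := by
  rw [r_one_zpow, inv_sr, sr_mul_r, sr_mul_sr, inv_r]
  congr 1
  ring

/-- the abstract dihedral structure from an isomorphism with `DihedralGroup m` -/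
theorem dih_of_equiv {X : Type*} [Group X] [Finite X] (S : Subgroup X) (hS2 : IsPGroup 2 S) (m : ℕ)
    (eS : ↥S ≃* DihedralGroup m) (h4 : 4 < Nat.card S) :
    Dih S (zpowers ((eS.symm (r 1) : ↥S) : X)) ((eS.symm (r 1) : ↥S) : X) m := by
  have hcard : Nat.card S = 2 * m := by
    rw [Nat.card_congr eS.toEquiv, DihedralGroup.nat_card]
  have hm4 : 4 ∣ m := by
    obtain ⟨k, hk⟩ := IsPGroup.iff_card.mp hS2
    rw [hcard] at hk h4
    have hk3 : 3 ≤ k := by
      by_contra hlt
      have : k ≤ 2 := by omega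
      have : 2 ^ k ≤ 2 ^ 2 := Nat.pow_le_pow_right (by norm_num) this
      omega
    obtain ⟨j, rfl⟩ : ∃ j, k = j + 3 := ⟨k - 3, by omega⟩
    refine ⟨2 ^ j, ?_⟩
    have : 2 ^ (j + 3) = 8 * 2 ^ j := by ring
    omega
  have hm0 : 0 < m := by
    rw [hcard] at h4; omega
  set c' : ↥S := eS.symm (r 1) with hc'
  have hc'S : (c' : X) ∈ S := c'.2
  refine ⟨?_, rfl, ?_, hcard, ?_, hm4, hm0⟩
  · rw [zpowers_le]; exact hc'S
  · rw [Subgroup.orderOf_coe, hc', MulEquiv.orderOf_eq, orderOf_r_one]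
  · intro t ht htC
    set g := eS ⟨t, ht⟩ with hg
    have ht' : (⟨t, ht⟩ : ↥S) = eS.symm g := by rw [hg, MulEquiv.symm_apply_apply]
    rcases hgi : g with i | i
    · exfalso
      apply htC
      rw [mem_zpowers_iff]
      refine ⟨(i.cast : ℤ), ?_⟩
      have h1 : (r i : DihedralGroup m) = (r 1) ^ (i.cast : ℤ) := by
        rw [r_one_zpow]; simp
      have h2 : (⟨t, ht⟩ : ↥S) = c' ^ (i.cast : ℤ) := by
        rw [ht', hgi, h1, map_zpow]
      have := congrArg Subtype.val h2
      simpa using this.symm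
    · constructor
      · have h2 : (⟨t, ht⟩ : ↥S) * ⟨t, ht⟩ = 1 := by
          apply eS.injective
          rw [map_mul, ← hg, hgi, sr_mul_self, map_one]
        exact congrArg Subtype.val h2
      · intro x hx
        obtain ⟨k, rfl⟩ := mem_zpowers_iff.mp hx
        have h2 : (⟨t, ht⟩ : ↥S) * c' ^ k * (⟨t, ht⟩ : ↥S)⁻¹ = (c' ^ k)⁻¹ := by
          apply eS.injective
          rw [map_mul, map_mul, map_inv, map_inv, map_zpow, ← hg, hgi, hc',
            MulEquiv.apply_symm_apply, dih_conj_r]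
        have := congrArg Subtype.val h2
        simpa using this

end Cfsg.Agent.Lib.Helper27.DihFour
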