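import Mathlib

set_option autoImplicit false

namespace Cfsg.Agent.Lib.Helper27

variable {G : Type*} [Group G]

theorem inv_eq_self_of_mul_self {a : G} (ha : a * a = 1) : a⁻¹ = a := inv_eq_of_mul_eq_one_left ha

/-- Conjugation by an involution `a` inverts `a * b` when `b` is an involution. -/
theorem conj_left_mul_involutions {a b : G} (ha : a * a = 1) (hb : b * b = 1) :
    a * (a * b) * a⁻¹ = (a * b)⁻¹ := by
  rw [mul_inv_rev, inv_eq_self_of_mul_self ha, inv_eq_self_of_mul_self hb]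
  calc a * (a * b) * a = (a * a) * (b * a) := by group
    _ = b * a := by rw [ha, one_mul]

theorem conj_right_mul_involutions {a b : G} (ha : a * a = 1) (hb : b * b = 1) :
    b * (a * b) * b⁻¹ = (a * b)⁻¹ := by
  rw [mul_inv_rev, inv_eq_self_of_mul_self ha, inv_eq_self_of_mul_self hb]
  calc b * (a * b) * b = b * a * (b * b) := by group
    _ = b * a := by rw [hb, mul_one]

theorem conj_left_pow_mul_involutions {a b : G} (ha : a * a = 1) (hb : b * b = 1) (j : ℕ) :
    a * (a * b) ^ j * a⁻¹ = ((a * b) ^ j)⁻¹ := by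
  rw [← conj_pow, conj_left_mul_involutions ha hb, inv_pow]

theorem conj_right_pow_mul_involutions {a b : G} (ha : a * a = 1) (hb : b * b = 1) (j : ℕ) :
    b * (a * b) ^ j * b⁻¹ = ((a * b) ^ j)⁻¹ := by
  rw [← conj_pow, conj_right_mul_involutions ha hb, inv_pow]

/-- `r^(2j) a = r^j a r^(-j)` where `r = a b`. -/
theorem pow_two_mul_mul_left {a b : G} (ha : a * a = 1) (hb : b * b = 1) (j : ℕ) :
    (a * b) ^ (2 * j) * a = (a * b) ^ j * a * ((a * b) ^ j)⁻¹ := by
  rw [← conj_left_pow_mul_involutions ha hb j, two_mul, pow_add, inv_eq_self_of_mul_self ha]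
  have key : ∀ X : G, X * X * a = X * a * (a * X * a) := by
    intro X
    calc X * X * a = X * 1 * X * a := by group
      _ = X * (a * a) * X * a := by rw [ha]
      _ = X * a * (a * X * a) := by group
  exact key _

/-- `r^(2j+1) a = r^j (a b a⁻¹) r^(-j)` where `r = a b`. -/
theorem pow_two_mul_add_one_mul_left {a b : G} (ha : a * a = 1) (hb : b * b = 1) (j : ℕ) :
    (a * b) ^ (2 * j + 1) * a = (a * b) ^ j * (a * b * a⁻¹) * ((a * b) ^ j)⁻¹ := by
  have key : ∀ X R : G, X * R = R * X → X * X * R * a = X * (R * a) * (a * X * a) := by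
    intro X R hXR
    calc X * X * R * a = X * (X * R) * a := by group
      _ = X * (R * X) * a := by rw [hXR]
      _ = X * R * 1 * X * a := by group
      _ = X * R * (a * a) * X * a := by rw [ha]
      _ = X * (R * a) * (a * X * a) := by group
  have hc : Commute ((a * b) ^ j) (a * b) := (Commute.refl (a * b)).pow_left j
  rw [← conj_left_pow_mul_involutions ha hb j, pow_succ, two_mul, pow_add, inv_eq_self_of_mul_self ha]
  exact key _ _ hc

/-- If the product of two involutions has even order `2k`, then `w = (ab)^k` is an involution commuting with `a` and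
`b`, and `w a` is conjugate to `a` or to `b`. -/
theorem even_order_mul_involutions {a b : G} (ha : a * a = 1) (hb : b * b = 1) {k : ℕ} (hk0 : 0 < k)
    (hk : orderOf (a * b) = k + k) :
    (a * b) ^ k * (a * b) ^ k = 1 ∧ (a * b) ^ k ≠ 1 ∧ a * (a * b) ^ k = (a * b) ^ k * a ∧
      b * (a * b) ^ k = (a * b) ^ k * b ∧
      ∃ t : G, ((a * b) ^ k * a = t * a * t⁻¹ ∨ (a * b) ^ k * a = t * b * t⁻¹) := by
  have hw2 : (a * b) ^ k * (a * b) ^ k = 1 := by rw [← pow_add, ← hk, pow_orderOf_eq_one]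
  have hw1 : (a * b) ^ k ≠ 1 := by
    intro hw
    have := Nat.le_of_dvd hk0 (orderOf_dvd_of_pow_eq_one hw)
    omega
  have hwinv : ((a * b) ^ k)⁻¹ = (a * b) ^ k := inv_eq_of_mul_eq_one_left hw2
  have hwa : a * (a * b) ^ k * a⁻¹ = (a * b) ^ k := by rw [conj_left_pow_mul_involutions ha hb, hwinv]
  have hwb : b * (a * b) ^ k * b⁻¹ = (a * b) ^ k := by rw [conj_right_pow_mul_involutions ha hb, hwinv]
  refine ⟨hw2, hw1, ?_, ?_, ?_⟩
  · calc a * (a * b) ^ k = (a * (a * b) ^ k * a⁻¹) * a := by group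
      _ = (a * b) ^ k * a := by rw [hwa]
  · calc b * (a * b) ^ k = (b * (a * b) ^ k * b⁻¹) * b := by group
      _ = (a * b) ^ k * b := by rw [hwb]
  · rcases Nat.even_or_odd' k with ⟨j, hj | hj⟩
    · refine ⟨(a * b) ^ j, Or.inl ?_⟩
      rw [hj]
      exact pow_two_mul_mul_left ha hb j
    · refine ⟨(a * b) ^ j * a, Or.inr ?_⟩
      rw [hj, pow_two_mul_add_one_mul_left ha hb j]
      group

/-- If the product of two involutions has odd order then they are conjugate. -/
theorem conj_of_odd_order_mul_involutions {a b : G} (ha : a * a = 1) (hb : b * b = 1)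
    (hodd : Odd (orderOf (a * b))) : ∃ t : G, a = t * b * t⁻¹ := by
  obtain ⟨m, hm⟩ := hodd
  -- r^(m+1) b r^-(m+1) = r^(2m+2) b = r b = a
  refine ⟨(a * b) ^ (m + 1), ?_⟩
  have h1 : b * ((a * b) ^ (m + 1))⁻¹ * b⁻¹ = (a * b) ^ (m + 1) := by
    have := conj_right_pow_mul_involutions ha hb (m + 1)
    have h2 : b * ((a * b) ^ (m + 1))⁻¹ * b⁻¹ = (b * (a * b) ^ (m + 1) * b⁻¹)⁻¹ := by group
    rw [h2, this, inv_inv]
  have h3 : (a * b) ^ (m + 1) * (a * b) ^ (m + 1) = a * b := by
    rw [← pow_add]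
    have : m + 1 + (m + 1) = orderOf (a * b) + 1 := by omega
    rw [this, pow_succ, pow_orderOf_eq_one, one_mul]
  have key : ∀ X : G, b * X⁻¹ * b⁻¹ = X → X * b * X⁻¹ = X * X * b := by
    intro X hX
    calc X * b * X⁻¹ = X * (b * X⁻¹ * b⁻¹) * b := by group
      _ = X * X * b := by rw [hX]
  rw [key _ h1, h3, mul_assoc, hb, mul_one]

end Cfsg.Agent.Lib.Helper27
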