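import Mathlib
import Cfsg.Agent.Lib.Helper26.F2Defs
import Cfsg.Agent.Lib.Helper27.F2NORM
import Cfsg.Agent.Lib.Helper27.F2DICH

set_option autoImplicit false

/-!
Helper27 library: leaf F2-CENT of helper26's S3390 market ("F2").  If `T = P_α` has order 2 (and
`T < P`), the involution of `T` has centralizer of order 4 in `P`.
-/

namespace Cfsg.Agent.Lib.Helper27.F2CENT

open Cfsg.Agent.Lib.Helper26.F2 MulAction Subgroup Cfsg.Agent.Lib.Helper27.F2NORM
  Cfsg.Agent.Lib.Helper27.F2DICH

variable {G : Type*} [Group G] [Finite G] {Ω : Type*} [Finite Ω] [MulAction G Ω]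

/-- **F2-CENT** (Step 2) if `|T| = 2` then the involution of `T` has centralizer of order 4 in `P`. -/
theorem exists_centralizer_four (hfix3 : Fix3 G Ω) (P : Subgroup G) (hP : IsPGroup 2 P) (α : Ω)
    (hnot : ¬ P ≤ stabilizer G α) (h2 : Nat.card ↥(P ⊓ stabilizer G α) = 2) :
    ∃ t : ↥P, orderOf t = 2 ∧ Nat.card ↥(Subgroup.centralizer ({t} : Set ↥P)) = 4 := by
  have hT : P ⊓ stabilizer G α ≠ ⊥ := by
    intro h
    rw [h, Subgroup.card_bot] at h2
    omega
  obtain ⟨β, hβα, hβ, y, hyP, hyα, hyβ⟩ := exists_swap hfix3 P hP α hT hnot
  have memT : ∀ g : G, g ∈ P ⊓ stabilizer G α ↔ g ∈ P ∧ g • α = α := by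
    intro g
    rw [Subgroup.mem_inf, mem_stabilizer_iff]
  have memTβ : ∀ g : G, g ∈ P ⊓ stabilizer G α ↔ g ∈ P ∧ g • β = β := by
    intro g
    rw [← hβ, Subgroup.mem_inf, mem_stabilizer_iff]
  -- the unique nontrivial element of `T`
  obtain ⟨t0, ht0, huniq⟩ := (Nat.card_eq_two_iff' (1 : ↥(P ⊓ stabilizer G α))).mp h2
  have htT : (t0 : G) ∈ P ⊓ stabilizer G α := t0.2
  have htP : (t0 : G) ∈ P := ((memT _).mp htT).1
  have ht1 : (t0 : G) ≠ 1 := fun h => ht0 (Subtype.ext h)
  have hTelts : ∀ g : G, g ∈ P ⊓ stabilizer G α → g = 1 ∨ g = (t0 : G) := by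
    intro g hg
    by_cases h : g = 1
    · left; exact h
    · right
      have := huniq ⟨g, hg⟩ (fun h' => h (congrArg Subtype.val h'))
      exact congrArg Subtype.val this
  have htα : (t0 : G) • α = α := ((memT _).mp htT).2
  have htsq : (t0 : G) * (t0 : G) = 1 := by
    have hmem : (t0 : G) * (t0 : G) ∈ P ⊓ stabilizer G α := Subgroup.mul_mem _ htT htT
    rcases hTelts _ hmem with h | h
    · exact h
    · exfalso
      apply ht1
      have : (t0 : G) * (t0 : G) = (t0 : G) * 1 := by rw [mul_one]; exact h
      exact mul_left_cancel this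
  -- `y` commutes with `t`
  have hyt : y * (t0 : G) * y⁻¹ = (t0 : G) := by
    have hmem : y * (t0 : G) * y⁻¹ ∈ P ⊓ stabilizer G α := by
      rw [memTβ]
      refine ⟨P.mul_mem (P.mul_mem hyP htP) (P.inv_mem hyP), ?_⟩
      have hyinv : y⁻¹ • β = α := by rw [← hyα, inv_smul_smul]
      rw [mul_smul, mul_smul, hyinv, htα, hyα]
    rcases hTelts _ hmem with h | h
    · exfalso
      apply ht1
      have : (t0 : G) = y⁻¹ * (y * (t0 : G) * y⁻¹) * y := by group
      rw [this, h]; group
    · exact h
  have hcomm : y * (t0 : G) = (t0 : G) * y := by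
    have := congrArg (fun z => z * y) hyt
    simpa [mul_assoc] using this
  let tP : ↥P := ⟨(t0 : G), htP⟩
  let yP : ↥P := ⟨y, hyP⟩
  refine ⟨tP, ?_, ?_⟩
  · -- order 2
    have h1 : tP ≠ 1 := fun h => ht1 (congrArg Subtype.val h)
    have h2' : tP ^ 2 = 1 := by
      apply Subtype.ext
      simp only [Subgroup.coe_one, tP, pow_two]
      exact htsq
    exact orderOf_eq_prime h2' h1
  · -- the centralizer is `{1, t, y, y t}`
    have hset : ((Subgroup.centralizer ({tP} : Set ↥P) : Subgroup ↥P) : Set ↥P) =
        {1, tP, yP, yP * tP} := by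
      ext m
      simp only [SetLike.mem_coe, Subgroup.mem_centralizer_iff, Set.mem_singleton_iff, forall_eq,
        Set.mem_insert_iff]
      constructor
      · intro hm
        have hmG : (t0 : G) * (m : G) = (m : G) * (t0 : G) := congrArg Subtype.val hm
        -- `m` normalizes `T`
        have hnorm : ∀ g ∈ P, (g ∈ P ⊓ stabilizer G α ↔ (m : G) * g * (m : G)⁻¹ ∈ P ⊓ stabilizer G α) := by
          intro g hg
          constructor
          · intro hgT
            rcases hTelts g hgT with h | h
            · rw [h]; simp only [mul_one, mul_inv_cancel]; exact Subgroup.one_mem _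
            · rw [h]
              have : (m : G) * (t0 : G) * (m : G)⁻¹ = (t0 : G) := by
                rw [← hmG]; group
              rw [this]; exact htT
          · intro hgT
            rcases hTelts _ hgT with h | h
            · have : g = 1 := by
                have e : g = (m : G)⁻¹ * ((m : G) * g * (m : G)⁻¹) * (m : G) := by group
                rw [e, h]; group
              rw [this]; exact Subgroup.one_mem _
            · have : g = (t0 : G) := by
                have e : g = (m : G)⁻¹ * ((m : G) * g * (m : G)⁻¹) * (m : G) := by group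
                rw [e, h]
                have e2 : (m : G)⁻¹ * (t0 : G) * (m : G) = (m : G)⁻¹ * ((t0 : G) * (m : G)) := by group
                rw [e2, hmG]; group
              rw [this]; exact htT
        rcases smul_mem_pair hfix3 P α β hβα hT hβ (m : G) hnorm m.2 with ⟨ha, _⟩ | ⟨ha, hb⟩
        · have hmT : (m : G) ∈ P ⊓ stabilizer G α := (memT _).mpr ⟨m.2, ha⟩
          rcases hTelts _ hmT with h | h
          · left; exact Subtype.ext h
          · right; left; exact Subtype.ext h
        · have hmT : y⁻¹ * (m : G) ∈ P ⊓ stabilizer G α := by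
            rw [memT]
            refine ⟨P.mul_mem (P.inv_mem hyP) m.2, ?_⟩
            rw [mul_smul, ha, ← hyα, inv_smul_smul]
          rcases hTelts _ hmT with h | h
          · right; right; left
            apply Subtype.ext
            show (m : G) = y
            have : (m : G) = y * (y⁻¹ * (m : G)) := by group
            rw [this, h, mul_one]
          · right; right; right
            apply Subtype.ext
            show (m : G) = y * (t0 : G)
            have : (m : G) = y * (y⁻¹ * (m : G)) := by group
            rw [this, h]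
      · rintro (h | h | h | h)
        · rw [h]; simp
        · rw [h]
        · rw [h]
          apply Subtype.ext
          show (t0 : G) * y = y * (t0 : G)
          exact hcomm.symm
        · rw [h]
          apply Subtype.ext
          show (t0 : G) * (y * (t0 : G)) = y * (t0 : G) * (t0 : G)
          rw [← mul_assoc, ← hcomm]
    have hcardset : Nat.card ↥(Subgroup.centralizer ({tP} : Set ↥P)) =
        ({1, tP, yP, yP * tP} : Set ↥P).ncard := by
      rw [← hset]
      exact Nat.card_coe_set_eq _
    rw [hcardset]
    -- four distinct elements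
    have hyT : y ∉ P ⊓ stabilizer G α := by
      intro h
      have := ((memT y).mp h).2
      rw [hyα] at this
      exact hβα this
    have hy1 : yP ≠ 1 := by
      intro h
      apply hyT
      have : y = 1 := congrArg Subtype.val h
      rw [this]; exact Subgroup.one_mem _
    have hyt' : yP ≠ tP := by
      intro h
      apply hyT
      have : y = (t0 : G) := congrArg Subtype.val h
      rw [this]; exact htT
    have h1t : (1 : ↥P) ≠ tP := fun h => ht1 (congrArg Subtype.val h).symm
    have hytT : y * (t0 : G) ∉ P ⊓ stabilizer G α := by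
      intro h
      have := ((memT _).mp h).2
      rw [mul_smul, htα, hyα] at this
      exact hβα this
    have hyt1 : yP * tP ≠ 1 := by
      intro h
      apply hytT
      have : y * (t0 : G) = 1 := congrArg Subtype.val h
      rw [this]; exact Subgroup.one_mem _
    have hytt : yP * tP ≠ tP := by
      intro h
      apply hytT
      have : y * (t0 : G) = (t0 : G) := congrArg Subtype.val h
      rw [this]; exact htT
    have hyty : yP * tP ≠ yP := by
      intro h
      apply ht1
      have : y * (t0 : G) = y := congrArg Subtype.val h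
      have : y * (t0 : G) = y * 1 := by rw [mul_one]; exact this
      exact mul_left_cancel this
    rw [Set.ncard_insert_of_notMem, Set.ncard_insert_of_notMem, Set.ncard_insert_of_notMem,
      Set.ncard_singleton]
    · simp only [Set.mem_singleton_iff]; exact fun h => hyty h.symm
    · simp only [Set.mem_insert_iff, Set.mem_singleton_iff, not_or]
      exact ⟨fun h => hyt' h.symm, fun h => hytt h.symm⟩
    · simp only [Set.mem_insert_iff, Set.mem_singleton_iff, not_or]
      exact ⟨h1t, fun h => hy1 h.symm, fun h => hyt1 h.symm⟩

end Cfsg.Agent.Lib.Helper27.F2CENT
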