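import Cfsg.Agent.Lib.Helper27.FMNorm
import Cfsg.Agent.Lib.Helper26.ModelH

/-!
Iterated normalizer systems `N_{N_F(Q)}(U)` for `Q ≤ U`, and the embedding of their models into models of
`N_F(U*)` for a fully normalized conjugate `U*` of `U`.
-/

set_option autoImplicit false
set_option linter.unusedSectionVars false
set_option linter.unusedVariables false

namespace Cfsg.Agent.Lib.Helper27.FM

open Cfsg Cfsg.FusionSystem Cfsg.Agent.Lib.Helper26 Cfsg.Agent.Lib.Helper26.ModelThm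

universe u

variable {Ω : Type u} [Group Ω] {S : Subgroup Ω}

theorem isCentric_of_conj (F : FusionSystem S) {U U' : Subgroup Ω} (hU : F.IsCentric U) (h : F.IsConj U U') :
    F.IsCentric U' :=
  ⟨isConj_le_right F h, fun Q hQ => hU.2 Q (isConj_trans F h hQ)⟩

theorem isCentric_of_subsystem {T : Subgroup Ω} (hTS : T ≤ S) (F : FusionSystem S) (E : FusionSystem T)
    (hEF : ∀ P, E.Hom P ⊆ F.Hom P) {U : Subgroup Ω} (hU : F.IsCentric U) (hUT : U ≤ T) : E.IsCentric U := by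
  refine ⟨hUT, ?_⟩
  rintro Q' ⟨φ, hφ, hr⟩ c hc
  apply hU.2 Q' ⟨φ, hEF _ hφ, hr⟩
  obtain ⟨hcT, hcc⟩ := mem_centralizerIn_iff.mp hc
  exact mem_centralizerIn_iff.mpr ⟨hTS hcT, hcc⟩

theorem normalizer_hom_subset {F : FusionSystem S} {Q : Subgroup Ω} {E : FusionSystem (normalizerIn S Q)}
    (hE : F.IsNormalizerSystem Q E) (P : Subgroup Ω) : E.Hom P ⊆ F.Hom P := by
  intro φ hφ
  rw [hE P] at hφ
  exact hφ.1

/-- The maps of `N_{N_F(Q)}(U)` for `Q ≤ U`. -/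
theorem isFM_double_normalizer_iff [Finite S] (F : FusionSystem S) {Q U : Subgroup Ω} (hQU : Q ≤ U)
    (hUT : U ≤ normalizerIn S Q) (N : FusionSystem (normalizerIn S Q)) (hN : F.IsNormalizerSystem Q N)
    (N' : FusionSystem (normalizerIn (normalizerIn S Q) U)) (hN' : N.IsNormalizerSystem U N')
    {P : Subgroup Ω} {θ : Ω → Ω} :
    IsFM N' P θ ↔ P ≤ normalizerIn (normalizerIn S Q) U ∧
      (∀ x ∈ P, θ x ∈ normalizerIn (normalizerIn S Q) U) ∧
      ∃ θ', IsFM F (P ⊔ U) θ' ∧ (∀ x ∈ P, θ' x = θ x) ∧ (∀ x ∈ U, θ' x ∈ U) ∧ ∀ x ∈ Q, θ' x ∈ Q := by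
  have hTS : normalizerIn S Q ≤ S := normalizerIn_le S Q
  haveI : Finite ↥(normalizerIn S Q) := finite_of_le hTS
  have hQS : Q ≤ S := hQU.trans (hUT.trans hTS)
  have hAT : normalizerIn (normalizerIn S Q) U ≤ normalizerIn S Q := normalizerIn_le _ U
  rw [isFM_normalizer_iff N hUT N' hN']
  constructor
  · rintro ⟨hPA, hθA, θ₁, hθ₁, hext₁, hU₁⟩
    obtain ⟨-, -, θ₂, hθ₂, hext₂, hQ₂⟩ := (isFM_normalizer_iff F hQS N hN).mp hθ₁
    refine ⟨hPA, hθA, θ₂, hθ₂.mono le_sup_left, fun x hx => ?_, fun x hx => ?_, hQ₂⟩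
    · rw [hext₂ x ((le_sup_left : P ≤ P ⊔ U) hx), hext₁ x hx]
    · rw [hext₂ x ((le_sup_right : U ≤ P ⊔ U) hx)]
      exact hU₁ x hx
  · rintro ⟨hPA, hθA, θ', hθ', hext, hU', hQ'⟩
    refine ⟨hPA, hθA, θ', ?_, hext, hU'⟩
    rw [isFM_normalizer_iff F hQS N hN]
    refine ⟨sup_le (hPA.trans hAT) hUT, ?_, θ', ?_, fun x _ => rfl, hQ'⟩
    · apply hθ'.map_sup_mem le_sup_left le_sup_right
      · intro x hx
        rw [hext x hx]
        exact hAT (hθA x hx)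
      · intro x hx
        exact hUT (hU' x hx)
    · apply hθ'.of_eq
      exact sup_eq_left.mpr (hQU.trans le_sup_right)

/-- Turning a description of the maps by conjugations into `IsRealizedBy`. -/
theorem isRealizedBy_of_forall {A : Subgroup Ω} {G : Type*} [Group G] (E : FusionSystem A) (ι : A →* G)
    (hinj : Function.Injective ι)
    (h : ∀ (P : Subgroup Ω) (θ : Ω → Ω), P ≤ A → (∀ x ∈ P, θ x ∈ A) →
      (IsFM E P θ ↔ ∃ g : G, ∀ x ∈ P, ext1 ι (θ x) = g * ext1 ι x * g⁻¹)) : E.IsRealizedBy ι := by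
  refine ⟨hinj, fun P hP φ hφ => ?_⟩
  have hval : ∀ x ∈ P, ofHom φ x ∈ A := fun x hx => by rw [ofHom_apply' φ hx]; exact hφ _
  rw [← isFM_ofHom_iff, h P (ofHom φ) hP hval]
  constructor
  · rintro ⟨g, hg⟩
    refine ⟨g, fun x => ?_⟩
    have := hg x x.2
    rw [ext1_apply ι (hP x.2), ext1_apply ι (hval x x.2)] at this
    rw [← this]
    congr 1
    exact Subtype.ext (ofHom_apply φ x).symm
  · rintro ⟨g, hg⟩
    refine ⟨g, fun x hx => ?_⟩
    rw [ext1_apply ι (hP hx), ext1_apply ι (hval x hx), ← hg ⟨x, hx⟩]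
    congr 1
    exact Subtype.ext (ofHom_apply' φ hx)

end Cfsg.Agent.Lib.Helper27.FM
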