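import Cfsg.Agent.Lib.Helper27.FMDouble

/-!
The normalizer, in a group realizing `N_F(U*)`, of the image of `Q*` realizes `N_{N_F(Q)}(U)` (transported along
an isomorphism `α` of `F` with `α(U) = U*`, `α(Q) = Q*`).
-/

set_option autoImplicit false
set_option linter.unusedSectionVars false
set_option linter.unusedVariables false

namespace Cfsg.Agent.Lib.Helper27.FM

open Cfsg Cfsg.FusionSystem Cfsg.Agent.Lib.Helper26 Cfsg.Agent.Lib.Helper26.ModelThm

universe u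

variable {Ω : Type u} [Group Ω] {S : Subgroup Ω}

theorem ext1_mem_normalizer_map {G : Type*} [Group G] [Finite G] (ι : S →* G) (Q : Subgroup Ω) {s : Ω}
    (hs : s ∈ S) (h : ∀ y ∈ Q, y ∈ S → s * y * s⁻¹ ∈ Q) :
    ext1 ι s ∈ Subgroup.normalizer (((Q.subgroupOf S).map ι : Subgroup G) : Set G) := by
  apply mem_normalizer_of_conj_mem_finite
  intro z hz
  obtain ⟨y, hyQ, hyS, rfl⟩ := (mem_map_subgroupOf_iff ι Q z).mp hz
  rw [← ext1_conj ι hs hyS]
  exact ext1_mem_map ι (h y hyQ hyS) (S.mul_mem (S.mul_mem hs hyS) (S.inv_mem hs))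

theorem normalizerIn_normalizerIn_le (S Q U : Subgroup Ω) :
    normalizerIn (normalizerIn S Q) U ≤ normalizerIn S U :=
  fun x hx => ⟨normalizerIn_le S Q hx.1, hx.2⟩


/-- The core realization statement. -/
theorem exists_realization_in_normalizer [Finite S] (F : FusionSystem S) {Q U : Subgroup Ω} (hQU : Q ≤ U)
    (hUT : U ≤ normalizerIn S Q) (N : FusionSystem (normalizerIn S Q)) (hN : F.IsNormalizerSystem Q N)
    (N' : FusionSystem (normalizerIn (normalizerIn S Q) U)) (hN' : N.IsNormalizerSystem U N')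
    {Us : Subgroup Ω} (hUsS : Us ≤ S) (Ns : FusionSystem (normalizerIn S Us)) (hNs : F.IsNormalizerSystem Us Ns)
    (φ : ↥(normalizerIn S U) →* Ω) (hφ : φ ∈ F.Hom (normalizerIn S U)) (hval : ∀ x, φ x ∈ normalizerIn S Us)
    (hmap : (U.subgroupOf (normalizerIn S U)).map φ = Us)
    {Ls : Type*} [Group Ls] [Finite Ls] (ιs : ↥(normalizerIn S Us) →* Ls) (hreal : Ns.IsRealizedBy ιs)
    (hnorm : ((Us.subgroupOf (normalizerIn S Us)).map ιs).Normal)
    (Qs : Subgroup Ω) (hQs : IsImage Q (ofHom φ) Qs) :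
    ∃ ιH : ↥(normalizerIn (normalizerIn S Q) U) →*
        ↥(Subgroup.normalizer (((Qs.subgroupOf (normalizerIn S Us)).map ιs : Subgroup Ls) : Set Ls)),
      (∀ x, ((ιH x : _) : Ls) = ext1 ιs (ofHom φ x)) ∧ N'.IsRealizedBy ιH := by
  classical
  have hTS : normalizerIn S Q ≤ S := normalizerIn_le S Q
  have hUS : U ≤ S := hUT.trans hTS
  have hQS : Q ≤ S := hQU.trans hUS
  have hAA' : normalizerIn (normalizerIn S Q) U ≤ normalizerIn S U := normalizerIn_normalizerIn_le S Q U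
  have hAT : normalizerIn (normalizerIn S Q) U ≤ normalizerIn S Q := normalizerIn_le _ U
  have hTsS : normalizerIn S Us ≤ S := normalizerIn_le S Us
  have hUA' : U ≤ normalizerIn S U := le_normalizerIn hUS
  have hUA : U ≤ normalizerIn (normalizerIn S Q) U := le_normalizerIn hUT
  have hUsTs : Us ≤ normalizerIn S Us := le_normalizerIn hUsS
  haveI : Finite ↥(normalizerIn S Us) := finite_of_le hTsS
  set α : Ω → Ω := ofHom φ with hαdef
  have hα : IsFM F (normalizerIn S U) α := isFM_ofHom hφ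
  have hαT : ∀ x ∈ normalizerIn S U, α x ∈ normalizerIn S Us := fun x hx => by
    rw [hαdef, ofHom_apply' φ hx]; exact hval _
  have hαU : IsImage U α Us := by
    obtain ⟨h1, h2⟩ := (map_subgroupOf_eq_iff' φ).mp hmap
    intro y
    constructor
    · intro hy
      obtain ⟨x, hx, rfl⟩ := h2 y hy
      exact ⟨x, hx, ofHom_apply φ x⟩
    · rintro ⟨x, hx, rfl⟩
      rw [hαdef, ofHom_apply' φ (hUA' hx)]
      exact h1 _ hx
  have hQsUs : Qs ≤ Us := hQs.le_of_forall (fun x hx => hαU.mem (hQU hx))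
  have hQsS : Qs ≤ S := hQsUs.trans hUsS
  -- inverse of α
  obtain ⟨R', hR'⟩ := hα.exists_image
  obtain ⟨β, hβ, hβimg, hβα, hαβ⟩ := hα.exists_inverse hR'
  have hUsR' : Us ≤ R' := hαU.le_of_forall (fun x hx => hR'.mem (hUA' hx))
  -- conjugation by `α x` preserves `Qs` for `x ∈ A`
  have hconjQs : ∀ x ∈ normalizerIn (normalizerIn S Q) U, ∀ y ∈ Qs, α x * y * (α x)⁻¹ ∈ Qs := by
    intro x hx y hy
    obtain ⟨q, hq, rfl⟩ := (hQs y).mp hy
    have hxA' := hAA' hx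
    have hqA' := hUA' (hQU hq)
    have hxN : x ∈ Subgroup.normalizer (Q : Set Ω) := (hAT hx).2
    have hc : x * q * x⁻¹ ∈ Q := (Subgroup.mem_normalizer_iff.mp hxN q).mp hq
    rw [← hα.map_inv hxA', ← hα.map_mul hxA' hqA',
      ← hα.map_mul ((normalizerIn S U).mul_mem hxA' hqA') ((normalizerIn S U).inv_mem hxA')]
    exact hQs.mem hc
  set H : Subgroup Ls :=
    Subgroup.normalizer (((Qs.subgroupOf (normalizerIn S Us)).map ιs : Subgroup Ls) : Set Ls) with hHdef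
  have hmemH : ∀ x : ↥(normalizerIn (normalizerIn S Q) U),
      ((ιs.comp (φ.codRestrict (normalizerIn S Us) hval)).comp (Subgroup.inclusion hAA')) x ∈ H := by
    intro x
    have h1 : ((ιs.comp (φ.codRestrict (normalizerIn S Us) hval)).comp (Subgroup.inclusion hAA')) x =
        ext1 ιs (α x) := by
      rw [ext1_apply ιs (hαT x (hAA' x.2))]
      show ιs ⟨φ ⟨x, hAA' x.2⟩, _⟩ = ιs ⟨α x, _⟩
      congr 1
      exact Subtype.ext (ofHom_apply' φ (hAA' x.2)).symm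
    rw [h1]
    exact ext1_mem_normalizer_map ιs Qs (hαT x (hAA' x.2)) (fun y hy _ => hconjQs x x.2 y hy)
  let ιH : ↥(normalizerIn (normalizerIn S Q) U) →* ↥H :=
    ((ιs.comp (φ.codRestrict (normalizerIn S Us) hval)).comp (Subgroup.inclusion hAA')).codRestrict H hmemH
  have hcoe : ∀ x : ↥(normalizerIn (normalizerIn S Q) U), ((ιH x : ↥H) : Ls) = ext1 ιs (α x) := by
    intro x
    rw [ext1_apply ιs (hαT x (hAA' x.2))]
    show ιs ⟨φ ⟨x, hAA' x.2⟩, _⟩ = ιs ⟨α x, _⟩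
    congr 1
    exact Subtype.ext (ofHom_apply' φ (hAA' x.2)).symm
  have hinjH : Function.Injective ιH := by
    intro a b hab
    have h1 : ((ιH a : ↥H) : Ls) = ιH b := congrArg Subtype.val hab
    rw [hcoe, hcoe] at h1
    have h2 := ext1_injOn ιs hreal.1 (hαT a (hAA' a.2)) (hαT b (hAA' b.2)) h1
    exact Subtype.ext (hα.injOn (hAA' a.2) (hAA' b.2) h2)
  refine ⟨ιH, hcoe, ?_⟩
  apply isRealizedBy_of_forall N' ιH hinjH
  intro P θ hPA hθA
  have hcoe' : ∀ x ∈ normalizerIn (normalizerIn S Q) U, ((ext1 ιH x : ↥H) : Ls) = ext1 ιs (α x) := by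
    intro x hx
    rw [ext1_apply ιH hx]
    exact hcoe ⟨x, hx⟩
  have hPA' : P ≤ normalizerIn S U := hPA.trans hAA'
  obtain ⟨Ps, hPs⟩ := hα.exists_image_of_le hPA'
  have hsup : IsImage (P ⊔ U) α (Ps ⊔ Us) := hα.isImage_sup hPA' hUA' hPs hαU
  have hPUA' : P ⊔ U ≤ normalizerIn S U := sup_le hPA' hUA'
  have hPsUsR' : Ps ⊔ Us ≤ R' := hsup.le_of_forall (fun x hx => hR'.mem (hPUA' hx))
  have hPsTs : Ps ≤ normalizerIn S Us := hPs.le_of_forall (fun x hx => hαT x (hPA' hx))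
  have hle : Ps ⊔ Us ≤ normalizerIn S Us := sup_le hPsTs hUsTs
  have hβmaps : ∀ y ∈ Ps ⊔ Us, β y ∈ P ⊔ U := by
    intro y hy
    obtain ⟨x, hx, rfl⟩ := (hsup y).mp hy
    rw [hβα x (hPUA' hx)]
    exact hx
  rw [isFM_double_normalizer_iff F hQU hUT N hN N' hN']
  constructor
  · rintro ⟨-, -, θ', hθ', hext, hU', hQ'⟩
    have hθ'A' : ∀ x ∈ P ⊔ U, θ' x ∈ normalizerIn S U :=
      hθ'.map_sup_mem le_sup_left le_sup_right
        (fun x hx => by rw [hext x hx]; exact hAA' (hθA x hx)) (fun x hx => hUA' (hU' x hx))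
    have hθs : IsFM F (Ps ⊔ Us) (fun y => α (θ' (β y))) :=
      ((hβ.mono hPsUsR').comp hθ' hβmaps).comp hα (fun y hy => hθ'A' _ (hβmaps y hy))
    have hθsα : ∀ x ∈ P ⊔ U, α (θ' (β (α x))) = α (θ' x) := fun x hx => by rw [hβα x (hPUA' hx)]
    have hpresUs : ∀ y ∈ Us, α (θ' (β y)) ∈ Us := by
      intro y hy
      obtain ⟨u, hu, rfl⟩ := (hαU y).mp hy
      rw [hθsα u ((le_sup_right : U ≤ P ⊔ U) hu)]
      exact hαU.mem (hU' u hu)
    have hpresQs : ∀ y ∈ Qs, α (θ' (β y)) ∈ Qs := by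
      intro y hy
      obtain ⟨q, hq, rfl⟩ := (hQs y).mp hy
      rw [hθsα q ((le_sup_right : U ≤ P ⊔ U) (hQU hq))]
      exact hQs.mem (hQ' q hq)
    have hvals : ∀ y ∈ Ps ⊔ Us, α (θ' (β y)) ∈ normalizerIn S Us :=
      fun y hy => hαT _ (hθ'A' _ (hβmaps y hy))
    have hNsmap : IsFM Ns (Ps ⊔ Us) (fun y => α (θ' (β y))) := by
      rw [isFM_normalizer_iff F hUsS Ns hNs]
      exact ⟨hle, hvals, _, hθs.of_eq (sup_eq_left.mpr le_sup_right), fun _ _ => rfl, hpresUs⟩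
    obtain ⟨-, -, g, hg⟩ := (isFM_iff_of_realized hreal).mp hNsmap
    have hgH : g ∈ H := by
      apply mem_normalizer_of_conj_mem_finite
      intro z hz
      obtain ⟨y, hyQs, hyTs, rfl⟩ := (mem_map_subgroupOf_iff ιs Qs z).mp hz
      have hy' : y ∈ Ps ⊔ Us := le_sup_right (a := Ps) (hQsUs hyQs)
      rw [← hg y hy']
      exact ext1_mem_map ιs (hpresQs y hyQs) (hvals y hy')
    refine ⟨⟨g, hgH⟩, fun x hx => ?_⟩
    apply Subtype.ext
    rw [Subgroup.coe_mul, Subgroup.coe_mul, Subgroup.coe_inv, hcoe' (θ x) (hθA x hx), hcoe' x (hPA hx)]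
    have h1 := hg (α x) (le_sup_left (a := Ps) (hPs.mem hx))
    rw [hθsα x ((le_sup_left : P ≤ P ⊔ U) hx), hext x hx] at h1
    exact h1
  · rintro ⟨⟨g, hgH⟩, hg⟩
    have hg' : ∀ x ∈ P, ext1 ιs (α (θ x)) = g * ext1 ιs (α x) * g⁻¹ := by
      intro x hx
      have h1 := congrArg Subtype.val (hg x hx)
      rw [Subgroup.coe_mul, Subgroup.coe_mul, Subgroup.coe_inv, hcoe' (θ x) (hθA x hx), hcoe' x (hPA hx)] at h1
      exact h1
    let Y : Subgroup Ω :=
      { carrier := {y | y ∈ normalizerIn S Us ∧ g * ext1 ιs y * g⁻¹ ∈ ιs.range}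
        one_mem' := ⟨Subgroup.one_mem _, by rw [ext1_one]; simp⟩
        mul_mem' := by
          rintro a b ⟨ha, ha'⟩ ⟨hb, hb'⟩
          refine ⟨Subgroup.mul_mem _ ha hb, ?_⟩
          rw [ext1_mul ιs ha hb]
          have : g * (ext1 ιs a * ext1 ιs b) * g⁻¹ = (g * ext1 ιs a * g⁻¹) * (g * ext1 ιs b * g⁻¹) := by group
          rw [this]
          exact Subgroup.mul_mem _ ha' hb'
        inv_mem' := by
          rintro a ⟨ha, ha'⟩
          refine ⟨Subgroup.inv_mem _ ha, ?_⟩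
          rw [ext1_inv ιs ha]
          have : g * (ext1 ιs a)⁻¹ * g⁻¹ = (g * ext1 ιs a * g⁻¹)⁻¹ := by group
          rw [this]
          exact Subgroup.inv_mem _ ha' }
    have hPsY : Ps ≤ Y := by
      intro y hy
      obtain ⟨x, hx, rfl⟩ := (hPs y).mp hy
      refine ⟨hαT x (hPA' hx), ?_⟩
      rw [← hg' x hx]
      exact ext1_mem_range ιs (hαT _ (hAA' (hθA x hx)))
    have hUsconj : ∀ y ∈ Us, g * ext1 ιs y * g⁻¹ ∈ (Us.subgroupOf (normalizerIn S Us)).map ιs := by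
      intro y hy
      exact hnorm.conj_mem _ (ext1_mem_map ιs hy (hUsTs hy)) g
    have hUsY : Us ≤ Y := by
      intro y hy
      refine ⟨hUsTs hy, ?_⟩
      exact Subgroup.map_le_range _ _ (hUsconj y hy)
    have hYle : Ps ⊔ Us ≤ Y := sup_le hPsY hUsY
    have hex : ∀ y ∈ Ps ⊔ Us, ∃ z ∈ normalizerIn S Us, ext1 ιs z = g * ext1 ιs y * g⁻¹ :=
      fun y hy => exists_ext1_eq_of_mem_range ιs (hYle hy).2
    let θs : Ω → Ω := fun y =>
      if h : ∃ z ∈ normalizerIn S Us, ext1 ιs z = g * ext1 ιs y * g⁻¹ then Classical.choose h else 1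
    have hspec : ∀ y ∈ Ps ⊔ Us, θs y ∈ normalizerIn S Us ∧ ext1 ιs (θs y) = g * ext1 ιs y * g⁻¹ := by
      intro y hy
      simp only [θs, dif_pos (hex y hy)]
      exact Classical.choose_spec (hex y hy)
    have hNsmap : IsFM Ns (Ps ⊔ Us) θs :=
      (isFM_iff_of_realized hreal).mpr ⟨hle, fun y hy => (hspec y hy).1, g, fun y hy => (hspec y hy).2⟩
    have hθsF : IsFM F (Ps ⊔ Us) θs := hNsmap.of_normalizer hNs
    have hθsα : ∀ x ∈ P, θs (α x) = α (θ x) := by
      intro x hx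
      have hy : α x ∈ Ps ⊔ Us := le_sup_left (a := Ps) (hPs.mem hx)
      apply ext1_injOn ιs hreal.1 (hspec _ hy).1 (hαT _ (hAA' (hθA x hx)))
      rw [(hspec _ hy).2, hg' x hx]
    have hpresUs : ∀ y ∈ Us, θs y ∈ Us := by
      intro y hy
      have hy' : y ∈ Ps ⊔ Us := le_sup_right (a := Ps) hy
      apply mem_of_ext1_mem_map ιs hreal.1 (hspec y hy').1
      rw [(hspec y hy').2]
      exact hUsconj y hy
    have hpresQs : ∀ y ∈ Qs, θs y ∈ Qs := by
      intro y hy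
      have hy' : y ∈ Ps ⊔ Us := le_sup_right (a := Ps) (hQsUs hy)
      apply mem_of_ext1_mem_map ιs hreal.1 (hspec y hy').1
      rw [(hspec y hy').2]
      exact (Subgroup.mem_normalizer_iff.mp hgH _).mp (ext1_mem_map ιs hy (hUsTs (hQsUs hy)))
    have hθsR' : ∀ y ∈ Ps ⊔ Us, θs y ∈ R' := by
      apply hθsF.map_sup_mem le_sup_left le_sup_right
      · intro y hy
        obtain ⟨x, hx, rfl⟩ := (hPs y).mp hy
        rw [hθsα x hx]
        exact hR'.mem (hAA' (hθA x hx))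
      · intro y hy
        exact hUsR' (hpresUs y hy)
    have hθ' : IsFM F (P ⊔ U) (fun x => β (θs (α x))) :=
      ((hα.mono hPUA').comp hθsF (fun x hx => hsup.mem hx)).comp hβ (fun x hx => hθsR' _ (hsup.mem hx))
    refine ⟨hPA, hθA, _, hθ', fun x hx => ?_, fun x hx => ?_, fun x hx => ?_⟩
    · show β (θs (α x)) = θ x
      rw [hθsα x hx, hβα _ (hAA' (hθA x hx))]
    · show β (θs (α x)) ∈ U
      obtain ⟨u, hu, hu'⟩ := (hαU _).mp (hpresUs _ (hαU.mem hx))
      rw [← hu', hβα u (hUA' hu)]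
      exact hu
    · show β (θs (α x)) ∈ Q
      obtain ⟨q, hq, hq'⟩ := (hQs _).mp (hpresQs _ (hQs.mem hx))
      rw [← hq', hβα q (hUA' (hQU hq))]
      exact hq

end Cfsg.Agent.Lib.Helper27.FM
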