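import Cfsg.Agent.Lib.Helper27.FMEmbed

/-!
Models of `N_{N_F(Q)}(U)` (`Q ≤ U`, `U` centric) embed in models of `N_F(U*)` for a fully normalized conjugate
`U*` of `U`.
-/

set_option autoImplicit false
set_option linter.unusedSectionVars false
set_option linter.unusedVariables false

namespace Cfsg.Agent.Lib.Helper27.FM

open Cfsg Cfsg.FusionSystem Cfsg.Agent.Lib.Helper26 Cfsg.Agent.Lib.Helper26.ModelThm

universe u

variable {Ω : Type u} [Group Ω] {S : Subgroup Ω}

theorem isImage_of_map_eq {A' U Us : Subgroup Ω} (φ : ↥A' →* Ω) (hUA' : U ≤ A')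
    (hmap : (U.subgroupOf A').map φ = Us) : IsImage U (ofHom φ) Us := by
  obtain ⟨h1, h2⟩ := (map_subgroupOf_eq_iff' φ).mp hmap
  intro y
  constructor
  · intro hy
    obtain ⟨x, hx, rfl⟩ := h2 y hy
    exact ⟨x, hx, ofHom_apply φ x⟩
  · rintro ⟨x, hx, rfl⟩
    rw [ofHom_apply' φ (hUA' hx)]
    exact h1 _ hx

theorem exists_model_embedding [Finite S] {p : ℕ} [Fact p.Prime] (hS : IsPGroup p S) (F : FusionSystem S)
    (hF : F.IsSaturated p) {Q U : Subgroup Ω} (hQU : Q ≤ U) (hUT : U ≤ normalizerIn S Q) (hUc : F.IsCentric U)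
    (N : FusionSystem (normalizerIn S Q)) (hN : F.IsNormalizerSystem Q N)
    (N' : FusionSystem (normalizerIn (normalizerIn S Q) U)) (hN' : N.IsNormalizerSystem U N')
    (hsat : N'.IsSaturated p) {L : Type*} [Group L] (ι : ↥(normalizerIn (normalizerIn S Q) U) →* L)
    (hM : N'.IsModel p L ι) :
    ∃ Us : Subgroup Ω, F.IsFullyNormalized Us ∧ F.IsCentric Us ∧ F.IsConj U Us ∧
      ∃ (Ns : FusionSystem (normalizerIn S Us)) (_ : F.IsNormalizerSystem Us Ns) (Ls : Type u) (_ : Group Ls)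
        (ιs : ↥(normalizerIn S Us) →* Ls), Ns.IsModel p Ls ιs ∧ ∃ f : L →* Ls, Function.Injective f := by
  have hTS : normalizerIn S Q ≤ S := normalizerIn_le S Q
  have hUS : U ≤ S := hUT.trans hTS
  have hAT : normalizerIn (normalizerIn S Q) U ≤ normalizerIn S Q := normalizerIn_le _ U
  have hAS : normalizerIn (normalizerIn S Q) U ≤ S := hAT.trans hTS
  have hUA' : U ≤ normalizerIn S U := le_normalizerIn hUS
  have hUA : U ≤ normalizerIn (normalizerIn S Q) U := le_normalizerIn hUT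
  obtain ⟨Us, hconj, hfn⟩ := exists_fullyNormalized_conj F hUS
  have hFA := (saturated_fn hS F hF hfn).2
  have hRec := saturated_fn_receptive hS F hF hfn
  obtain ⟨φ, hφ, hval, hmap⟩ := exists_normalizer_hom hS F hFA hRec hconj
  have hUsS : Us ≤ S := hfn.1
  have hUsc : F.IsCentric Us := isCentric_of_conj F hUc hconj
  have hNs := normalizerSystem_isNormalizerSystem F Us hUsS
  have hTsS : normalizerIn S Us ≤ S := normalizerIn_le S Us
  have hUsTs : Us ≤ normalizerIn S Us := le_normalizerIn hUsS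
  haveI : Finite ↥(normalizerIn S Us) := finite_of_le hTsS
  have hpTs : IsPGroup p ↥(normalizerIn S Us) := hS.to_le hTsS
  have hsatNs := normalizerSystem_saturated hS F hF hfn _ hNs
  have hs : Setup p (normalizerSystem F Us hUsS) Us :=
    ⟨hpTs, hsatNs, isNormal_of_isNormalizerSystem F hUsS _ hNs, isCentric_of_isNormalizerSystem F hUsc _ hNs⟩
  haveI : Finite ↥Us := finite_of_le hUsS
  haveI : Finite (Mdl hs) := finite_Mdl hs
  have hαU : IsImage U (ofHom φ) Us := isImage_of_map_eq φ hUA' hmap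
  obtain ⟨Qs, hQs⟩ := (isFM_ofHom hφ).exists_image_of_le (hQU.trans hUA')
  obtain ⟨ιH, hcoe, hrealH⟩ := exists_realization_in_normalizer F hQU hUT N hN N' hN' hUsS _ hNs φ hφ hval hmap
    (mIota hs) (realized hs) (QG_normal hs) Qs hQs
  haveI : Finite ↥(normalizerIn (normalizerIn S Q) U) := finite_of_le hAS
  have hpA : IsPGroup p ↥(normalizerIn (normalizerIn S Q) U) := hS.to_le hAS
  haveI : Finite ↥(normalizerIn S Q) := finite_of_le hTS
  have hNF : ∀ P, N.Hom P ⊆ F.Hom P := normalizer_hom_subset hN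
  have hN'N : ∀ P, N'.Hom P ⊆ N.Hom P := normalizer_hom_subset hN'
  have h' : Setup p N' U :=
    ⟨hpA, hsat, isNormal_of_isNormalizerSystem N hUT N' hN',
      isCentric_of_subsystem hAS F N' (fun P => (hN'N P).trans (hNF P)) hUc hUA⟩
  haveI : Finite ↥U := finite_of_le hUS
  -- the image of `U` in `H` is the preimage of `QG`
  have hmemU : ∀ w : ↥(Subgroup.normalizer
      (((Qs.subgroupOf (normalizerIn S Us)).map (mIota hs) : Subgroup (Mdl hs)) : Set (Mdl hs))),
      (w : Mdl hs) ∈ QG hs →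
      w ∈ (U.subgroupOf (normalizerIn (normalizerIn S Q) U)).map ιH := by
    intro w hw
    obtain ⟨y, hyUs, hyTs, hy⟩ := (mem_map_subgroupOf_iff (mIota hs) Us _).mp hw
    obtain ⟨u, hu, rfl⟩ := (hαU y).mp hyUs
    refine ⟨⟨u, hUA hu⟩, hu, ?_⟩
    apply Subtype.ext
    rw [hcoe]
    exact hy
  have hUmem : ∀ w ∈ (U.subgroupOf (normalizerIn (normalizerIn S Q) U)).map ιH, (w : Mdl hs) ∈ QG hs := by
    rintro _ ⟨x, hx, rfl⟩
    rw [hcoe]
    exact ext1_mem_map (mIota hs) (hαU.mem hx) (hUsTs (hαU.mem hx))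
  have hNH : ((U.subgroupOf (normalizerIn (normalizerIn S Q) U)).map ιH).Normal := by
    constructor
    intro w hw h
    apply hmemU
    rw [Subgroup.coe_mul, Subgroup.coe_mul, Subgroup.coe_inv]
    exact (QG_normal hs).conj_mem _ (hUmem w hw) _
  have hCH : Subgroup.centralizer
      (((U.subgroupOf (normalizerIn (normalizerIn S Q) U)).map ιH : Subgroup _) : Set _) ≤
      (U.subgroupOf (normalizerIn (normalizerIn S Q) U)).map ιH := by
    intro w hw
    apply hmemU
    apply centralizer_QG_le hs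
    rw [Subgroup.mem_centralizer_iff]
    intro z hz
    obtain ⟨y, hyUs, hyTs, hy⟩ := (mem_map_subgroupOf_iff (mIota hs) Us _).mp hz
    obtain ⟨u, hu, rfl⟩ := (hαU y).mp hyUs
    have hmem : ιH ⟨u, hUA hu⟩ ∈ (U.subgroupOf (normalizerIn (normalizerIn S Q) U)).map ιH := ⟨_, hu, rfl⟩
    have h1 := Subgroup.mem_centralizer_iff.mp hw _ hmem
    have h2 := congrArg Subtype.val h1
    rw [Subgroup.coe_mul, Subgroup.coe_mul, hcoe] at h2
    rw [← hy]
    exact h2
  obtain ⟨Φ, hΦ⟩ := exists_iso_of_realized h' hrealH hNH hCH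
  obtain ⟨Ψ, hΨ⟩ := model_unique hpA ι (mIota h') hM (isModel h')
  refine ⟨Us, hfn, hUsc, hconj, _, hNs, Mdl hs, inferInstance, mIota hs, isModel hs,
    (Subgroup.subtype _).comp (Φ.toMonoidHom.comp Ψ.toMonoidHom), ?_⟩
  intro a b hab
  have h1 : Φ (Ψ a) = Φ (Ψ b) := Subtype.ext hab
  exact Ψ.injective (Φ.injective h1)

end Cfsg.Agent.Lib.Helper27.FM
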