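import Cfsg.Agent.Lib.Helper27.FMNorm
import Cfsg.Agent.Lib.Helper26.FSSurjImage

/-!
helper27: surjective morphisms of fusion systems in terms of partial maps.
-/

set_option autoImplicit false
set_option linter.unusedSectionVars false
set_option linter.unusedVariables false

namespace Cfsg.Agent.Lib.Helper27.FM

open Cfsg Cfsg.FusionSystem Cfsg.Agent.Lib.Helper26

variable {Ω : Type*} [Group Ω] {S : Subgroup Ω} {Ω' : Type*} [Group Ω'] {S' : Subgroup Ω'}

theorem mem_pre_iff (θ : S →* Ω') (P' : Subgroup Ω') (x : Ω) :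
    x ∈ preimageAlong θ P' ↔ x ∈ S ∧ ext1 θ x ∈ P' := by
  rw [mem_preimageAlong_iff]
  constructor
  · rintro ⟨hx, h⟩
    exact ⟨hx, by rw [ext1_apply θ hx]; exact h⟩
  · rintro ⟨hx, h⟩
    exact ⟨hx, by rw [ext1_apply θ hx] at h; exact h⟩

theorem pre_mono (θ : S →* Ω') {P' R' : Subgroup Ω'} (h : P' ≤ R') : preimageAlong θ P' ≤ preimageAlong θ R' := by
  intro x hx
  rw [mem_pre_iff] at hx ⊢
  exact ⟨hx.1, h hx.2⟩

theorem exists_pre_of_mem (θ : S →* Ω') (hrange : θ.range = S') {P' : Subgroup Ω'} (hP' : P' ≤ S') {z : Ω'}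
    (hz : z ∈ P') : ∃ x ∈ preimageAlong θ P', ext1 θ x = z := by
  obtain ⟨y, hy⟩ := exists_preimage_elt θ hrange hP' z hz
  refine ⟨y, y.2, ?_⟩
  rw [ext1_apply θ (preimageAlong_le θ P' y.2)]
  exact hy

/-- the full preimage of a join -/
theorem pre_sup (θ : S →* Ω') (hrange : θ.range = S') {P' V : Subgroup Ω'} (hP' : P' ≤ S') (hV : V ≤ S') :
    preimageAlong θ (P' ⊔ V) = preimageAlong θ P' ⊔ preimageAlong θ V := by
  apply le_antisymm
  · have hker : ∀ s : S, θ s = 1 ↔ (s : Ω) ∈ kerAlong θ := mem_kerAlong θ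
    have hle : preimageAlong θ P' ⊔ preimageAlong θ V ≤ S :=
      sup_le (preimageAlong_le θ P') (preimageAlong_le θ V)
    have h1 := preimageAlong_imageAlong θ (kerAlong_le θ) hker hle
    have h2 : imageAlong θ (preimageAlong θ P' ⊔ preimageAlong θ V) = P' ⊔ V := by
      unfold imageAlong
      rw [Subgroup.subgroupOf_sup (preimageAlong_le θ P') (preimageAlong_le θ V), Subgroup.map_sup]
      have e1 := imageAlong_preimageAlong θ hrange hP'
      have e2 := imageAlong_preimageAlong θ hrange hV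
      unfold imageAlong at e1 e2
      rw [e1, e2]
    rw [h2] at h1
    rw [h1]
    exact sup_le le_rfl ((kerAlong_le_preimageAlong θ P').trans le_sup_left)
  · exact sup_le (pre_mono θ le_sup_left) (pre_mono θ le_sup_right)

variable (F : FusionSystem S) (F' : FusionSystem S') (θ : S →* Ω')

/-- A map of `F` on a full preimage induces a map of `F'`. -/
theorem isFM_of_induced (hθ : F.IsSurjectiveMorphism F' θ) {P' : Subgroup Ω'} (hP' : P' ≤ S') {ψ : Ω → Ω}
    (hψ : IsFM F (preimageAlong θ P') ψ) {φ' : Ω' → Ω'}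
    (hind : ∀ x ∈ preimageAlong θ P', φ' (ext1 θ x) = ext1 θ (ψ x)) : IsFM F' P' φ' := by
  obtain ⟨φ, hφ, h1⟩ := hψ
  obtain ⟨φ'', hφ'', h2⟩ := exists_induced_hom F F' θ hθ hP' hφ
  refine ⟨φ'', hφ'', fun z => ?_⟩
  obtain ⟨y, hy⟩ := projHom_surjective θ hθ.2.1 hP' z
  rw [← hy, h2 y]
  have h3 := hind y y.2
  rw [ext1_apply θ (preimageAlong_le θ P' y.2)] at h3
  rw [projHom_coe, h3, ← h1 y, ext1_apply θ (hom_apply_mem F hφ y)]

/-- A map of `F'` lifts to the full preimage. -/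
theorem exists_lift_of_isFM (hθ : F.IsSurjectiveMorphism F' θ) {P' : Subgroup Ω'} {φ' : Ω' → Ω'}
    (hφ' : IsFM F' P' φ') :
    ∃ ψ, IsFM F (preimageAlong θ P') ψ ∧ ∀ x ∈ preimageAlong θ P', φ' (ext1 θ x) = ext1 θ (ψ x) := by
  have hP' : P' ≤ S' := hφ'.le
  obtain ⟨φ'', hφ'', h1⟩ := hφ'
  obtain ⟨φ, hφ, h2⟩ := exists_lift_hom F F' θ hθ hP' hφ''
  refine ⟨ofHom φ, isFM_ofHom hφ, fun x hx => ?_⟩
  have h3 := h2 ⟨x, hx⟩
  rw [ofHom_apply' φ hx, ext1_apply θ (hom_apply_mem F hφ _), ← h3, h1, projHom_coe,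
    ext1_apply θ (preimageAlong_le θ P' hx)]

end Cfsg.Agent.Lib.Helper27.FM
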