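import Cfsg.Agent.Lib.Helper27.FMFactor
import Cfsg.Agent.Lib.Helper27.FMEmbed2

/-!
helper27: full preimages under a surjective morphism: normalizers, cardinalities, centric and fully normalized
subgroups.
-/

set_option autoImplicit false
set_option linter.unusedSectionVars false
set_option linter.unusedVariables false

namespace Cfsg.Agent.Lib.Helper27.FM

open Cfsg Cfsg.FusionSystem Cfsg.Agent.Lib.Helper26

variable {Ω : Type*} [Group Ω] {S : Subgroup Ω} {Ω' : Type*} [Group Ω'] {S' : Subgroup Ω'}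

theorem ext1_mem_of_range (θ : S →* Ω') (hrange : θ.range = S') {x : Ω} (hx : x ∈ S) : ext1 θ x ∈ S' := by
  rw [← hrange]
  exact ext1_mem_range θ hx

/-- the full preimage of a normalizer -/
theorem pre_normalizerIn [Finite S] (θ : S →* Ω') (hrange : θ.range = S') {V : Subgroup Ω'} (hV : V ≤ S') :
    preimageAlong θ (normalizerIn S' V) = normalizerIn S (preimageAlong θ V) := by
  have hfinS' : Finite ↥S' := by
    rw [← hrange]
    exact Finite.of_surjective θ.rangeRestrict θ.rangeRestrict_surjective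
  haveI : Finite ↥V := Finite.of_injective (Subgroup.inclusion hV) (Subgroup.inclusion_injective hV)
  haveI : Finite ↥(preimageAlong θ V) := finite_of_le (preimageAlong_le θ V)
  ext x
  rw [mem_pre_iff, mem_normalizerIn_iff, mem_normalizerIn_iff]
  constructor
  · rintro ⟨hxS, hxS', hxN⟩
    refine ⟨hxS, ?_⟩
    apply mem_normalizer_of_conj_mem_finite
    intro u hu
    rw [mem_pre_iff] at hu ⊢
    refine ⟨S.mul_mem (S.mul_mem hxS hu.1) (S.inv_mem hxS), ?_⟩
    rw [ext1_conj θ hxS hu.1]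
    exact (Subgroup.mem_normalizer_iff.mp hxN _).mp hu.2
  · rintro ⟨hxS, hxN⟩
    refine ⟨hxS, ext1_mem_of_range θ hrange hxS, ?_⟩
    apply mem_normalizer_of_conj_mem_finite
    intro v hv
    obtain ⟨u, hu, rfl⟩ := exists_pre_of_mem θ hrange hV hv
    have huS : u ∈ S := preimageAlong_le θ V hu
    rw [← ext1_conj θ hxS huS]
    have h1 : x * u * x⁻¹ ∈ preimageAlong θ V := (Subgroup.mem_normalizer_iff.mp hxN u).mp hu
    exact ((mem_pre_iff θ V _).mp h1).2

/-- the order of a full preimage -/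
theorem card_pre [Finite S] (θ : S →* Ω') (hrange : θ.range = S') {X : Subgroup Ω'} (hX : X ≤ S') :
    Nat.card ↥(preimageAlong θ X) = Nat.card ↥(kerAlong θ) * Nat.card ↥X := by
  haveI : Finite ↥(preimageAlong θ X) := finite_of_le (preimageAlong_le θ X)
  have h1 := Subgroup.card_mul_index (projHom θ X).ker
  rw [Subgroup.index_ker, MonoidHom.range_eq_top.mpr (projHom_surjective θ hrange hX), Subgroup.card_top] at h1
  rw [← h1]
  congr 1
  apply Nat.card_congr
  refine Equiv.ofBijective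
    (fun y : ↥(projHom θ X).ker => (⟨((y : ↥(preimageAlong θ X)) : Ω), ?_⟩ : ↥(kerAlong θ))) ⟨?_, ?_⟩
  · have h2 : projHom θ X (y : ↥(preimageAlong θ X)) = 1 := y.2
    have h3 := congrArg Subtype.val h2
    rw [projHom_coe] at h3
    exact (mem_kerAlong θ _).mp h3
  · intro a b hab
    have : ((a : ↥(preimageAlong θ X)) : Ω) = ((b : ↥(preimageAlong θ X)) : Ω) :=
      congrArg (fun z : ↥(kerAlong θ) => (z : Ω)) hab
    exact Subtype.ext (Subtype.ext this)
  · rintro ⟨k, hk⟩
    have hkX : k ∈ preimageAlong θ X := kerAlong_le_preimageAlong θ X hk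
    refine ⟨⟨⟨k, hkX⟩, ?_⟩, rfl⟩
    rw [MonoidHom.mem_ker]
    apply Subtype.ext
    rw [projHom_coe]
    exact (mem_kerAlong θ ⟨k, _⟩).mpr hk


variable (F : FusionSystem S) (F' : FusionSystem S') (θ : S →* Ω')

/-- conjugates of a full preimage are the full preimages of the conjugates -/
theorem exists_conj_of_isConj_pre [Finite S] (hθ : F.IsSurjectiveMorphism F' θ) {V : Subgroup Ω'} (hV : V ≤ S')
    {U' : Subgroup Ω} (hconj : F.IsConj (preimageAlong θ V) U') :
    ∃ V', F'.IsConj V V' ∧ U' = preimageAlong θ V' := by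
  obtain ⟨φ, hφ, hr⟩ := hconj
  obtain ⟨φ', hφ', hind⟩ := exists_induced_hom F F' θ hθ hV hφ
  have h := range_eq_preimage_range F F' θ hθ hV hφ hind
  exact ⟨φ'.range, ⟨φ', hφ', rfl⟩, by rw [← hr, h]⟩

theorem isCentric_pre [Finite S] (hθ : F.IsSurjectiveMorphism F' θ) {V : Subgroup Ω'} (hVc : F'.IsCentric V) :
    F.IsCentric (preimageAlong θ V) := by
  have hrange := hθ.2.1
  refine ⟨preimageAlong_le θ V, fun U' hconj => ?_⟩
  obtain ⟨V', hV', rfl⟩ := exists_conj_of_isConj_pre F F' θ hθ hVc.1 hconj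
  have hV'S' : V' ≤ S' := isConj_le_right F' hV'
  intro c hc
  obtain ⟨hcS, hcc⟩ := mem_centralizerIn_iff.mp hc
  rw [mem_pre_iff]
  refine ⟨hcS, hVc.2 V' hV' ?_⟩
  rw [mem_centralizerIn_iff]
  refine ⟨ext1_mem_of_range θ hrange hcS, fun v hv => ?_⟩
  obtain ⟨u, hu, rfl⟩ := exists_pre_of_mem θ hrange hV'S' hv
  have huS : u ∈ S := preimageAlong_le θ V' hu
  rw [← ext1_mul θ huS hcS, ← ext1_mul θ hcS huS, hcc u hu]

theorem isFullyNormalized_pre [Finite S] (hθ : F.IsSurjectiveMorphism F' θ) {V : Subgroup Ω'}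
    (hVn : F'.IsFullyNormalized V) : F.IsFullyNormalized (preimageAlong θ V) := by
  have hrange := hθ.2.1
  refine ⟨preimageAlong_le θ V, fun U' hconj => ?_⟩
  obtain ⟨V', hV', rfl⟩ := exists_conj_of_isConj_pre F F' θ hθ hVn.1 hconj
  have hV'S' : V' ≤ S' := isConj_le_right F' hV'
  rw [← pre_normalizerIn θ hrange hV'S', ← pre_normalizerIn θ hrange hVn.1,
    card_pre θ hrange (normalizerIn_le S' V'), card_pre θ hrange (normalizerIn_le S' V)]
  exact Nat.mul_le_mul_left _ (hVn.2 V' hV')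

end Cfsg.Agent.Lib.Helper27.FM
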