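import Cfsg.Agent.Lib.Helper27.FMFactor2
import Cfsg.Agent.Lib.Helper27.FMConj
import Cfsg.Agent.Lib.Helper27.QuotCent
import Cfsg.Agent.Lib.Helper27.RealQuot
import Cfsg.Agent.Lib.Helper27.SectionLift
import Cfsg.Agent.Lib.Helper26.FSFactor

/-!
helper27: models of normalizer systems of a factor system `F/Q` are quotients of models of normalizer systems
of `F`.
-/

set_option autoImplicit false
set_option linter.unusedSectionVars false
set_option linter.unusedVariables false

namespace Cfsg.Agent.Lib.Helper27.FM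

open Cfsg Cfsg.FusionSystem Cfsg.Agent.Lib.Helper26 Cfsg.Agent.Lib.Helper26.ModelThm

universe u u'

variable {Ω : Type u} [Group Ω] {S : Subgroup Ω} {Ω' : Type u'} [Group Ω'] {S' : Subgroup Ω'}

/-- A subgroup normal in `F` and contained in `U` is normal in `N_F(U)`. -/
theorem isNormal_normalizer_of_isNormal [Finite S] (F : FusionSystem S) {Q U : Subgroup Ω} (hQ : F.IsNormal Q)
    (hQU : Q ≤ U) (hUS : U ≤ S) (N : FusionSystem (normalizerIn S U)) (hN : F.IsNormalizerSystem U N) :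
    N.IsNormal Q := by
  have hTS : normalizerIn S U ≤ S := normalizerIn_le S U
  haveI : Finite ↥(normalizerIn S U) := finite_of_le hTS
  have hUT : U ≤ normalizerIn S U := le_normalizerIn hUS
  have hQT : Q ≤ normalizerIn S U := hQU.trans hUT
  have hsc := stronglyClosed_of_isNormal F hQ
  apply isNormal_of_forall_isFM N hQT
  intro P φ hφ
  obtain ⟨hPT, hφT, θ₁, hθ₁, hext, hU⟩ := (isFM_normalizer_iff F hUS N hN).mp hφ
  have hQ₁ : ∀ x ∈ Q, θ₁ x ∈ Q := fun x hx =>
    hθ₁.mem_of_stronglyClosed hsc ((le_sup_right : U ≤ P ⊔ U) (hQU hx)) hx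
  refine ⟨θ₁, ?_, hext, hQ₁⟩
  rw [isFM_normalizer_iff F hUS N hN]
  refine ⟨sup_le hPT hQT, ?_, θ₁, ?_, fun _ _ => rfl, hU⟩
  · apply hθ₁.map_sup_mem le_sup_left ((hQU.trans le_sup_right : Q ≤ P ⊔ U))
    · intro x hx
      rw [hext x hx]
      exact hφT x hx
    · intro x hx
      exact hQT (hQ₁ x hx)
  · apply hθ₁.of_eq
    rw [sup_assoc, sup_eq_right.mpr hQU]

end Cfsg.Agent.Lib.Helper27.FM
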