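import Cfsg.Agent.Lib.Helper27.FMBasic

/-!
Normalizer systems, normal subgroups and realizations in terms of partial maps.
-/

set_option autoImplicit false
set_option linter.unusedSectionVars false
set_option linter.unusedVariables false

namespace Cfsg.Agent.Lib.Helper27.FM

open Cfsg Cfsg.FusionSystem Cfsg.Agent.Lib.Helper26

variable {Ω : Type*} [Group Ω] {S : Subgroup Ω}

/-- The maps of a normalizer system. -/
theorem isFM_normalizer_iff [Finite S] (F : FusionSystem S) {Q : Subgroup Ω} (hQS : Q ≤ S)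
    (E : FusionSystem (normalizerIn S Q)) (hE : F.IsNormalizerSystem Q E) {P : Subgroup Ω} {θ : Ω → Ω} :
    IsFM E P θ ↔ P ≤ normalizerIn S Q ∧ (∀ x ∈ P, θ x ∈ normalizerIn S Q) ∧
      ∃ θ', IsFM F (P ⊔ Q) θ' ∧ (∀ x ∈ P, θ' x = θ x) ∧ ∀ x ∈ Q, θ' x ∈ Q := by
  constructor
  · rintro ⟨φ, hφ, h1⟩
    rw [hE P] at hφ
    obtain ⟨hφF, hPN, hφN, ψ, hψ, hψφ, hψQ⟩ := hφ
    refine ⟨hPN, fun x hx => ?_, ofHom ψ, isFM_ofHom hψ, fun x hx => ?_, fun x hx => ?_⟩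
    · rw [← h1 ⟨x, hx⟩]
      exact hφN _
    · rw [ofHom_apply' ψ ((le_sup_left : P ≤ P ⊔ Q) hx), ← h1 ⟨x, hx⟩, ← hψφ ⟨x, hx⟩]
      rfl
    · rw [ofHom_apply' ψ ((le_sup_right : Q ≤ P ⊔ Q) hx)]
      exact ((map_subgroupOf_eq_iff ψ).mp hψQ).1 _ hx
  · rintro ⟨hPN, hθN, θ', hθ', hext, hQ⟩
    have hfinQ : Finite Q := finite_of_le hQS
    have himg := hθ'.isImage_self_of_forall_mem (le_sup_right : Q ≤ P ⊔ Q) hQ
    obtain ⟨ψ, hψ, h1⟩ := hθ'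
    refine ⟨ψ.comp (Subgroup.inclusion le_sup_left), ?_, fun x => ?_⟩
    · rw [hE P]
      refine ⟨inclusion_comp_mem F _ hψ, hPN, fun x => ?_, ψ, hψ, fun x => rfl, ?_⟩
      · rw [MonoidHom.comp_apply, h1]
        show θ' (x : Ω) ∈ _
        rw [hext x x.2]
        exact hθN x x.2
      · rw [map_subgroupOf_eq_iff]
        refine ⟨fun y hy => ?_, fun z hz => ?_⟩
        · rw [h1]
          exact hQ _ hy
        · obtain ⟨x, hx, rfl⟩ := (himg z).mp hz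
          exact ⟨⟨x, (le_sup_right : Q ≤ P ⊔ Q) hx⟩, hx, h1 _⟩
    · rw [MonoidHom.comp_apply, h1]
      exact hext x x.2

/-- Every map of a normalizer system is a map of the system. -/
theorem IsFM.of_normalizer [Finite S] {F : FusionSystem S} {Q : Subgroup Ω}
    {E : FusionSystem (normalizerIn S Q)} (hE : F.IsNormalizerSystem Q E) {P : Subgroup Ω} {θ : Ω → Ω}
    (h : IsFM E P θ) : IsFM F P θ := by
  obtain ⟨φ, hφ, h1⟩ := h
  rw [hE P] at hφ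
  exact ⟨φ, hφ.1, h1⟩

/-- Normality in terms of partial maps. -/
theorem IsFM.exists_ext_of_isNormal {F : FusionSystem S} {Q : Subgroup Ω} (hQ : F.IsNormal Q) {P : Subgroup Ω}
    {θ : Ω → Ω} (h : IsFM F P θ) :
    ∃ θ', IsFM F (P ⊔ Q) θ' ∧ (∀ x ∈ P, θ' x = θ x) ∧ ∀ x ∈ Q, θ' x ∈ Q := by
  obtain ⟨φ, hφ, h1⟩ := h
  obtain ⟨ψ, hψ, hψφ, hψQ⟩ := hQ.2 P φ hφ
  refine ⟨ofHom ψ, isFM_ofHom hψ, fun x hx => ?_, fun x hx => ?_⟩
  · rw [ofHom_apply' ψ ((le_sup_left : P ≤ P ⊔ Q) hx), ← h1 ⟨x, hx⟩, ← hψφ ⟨x, hx⟩]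
    rfl
  · rw [ofHom_apply' ψ ((le_sup_right : Q ≤ P ⊔ Q) hx)]
    exact ((map_subgroupOf_eq_iff ψ).mp hψQ).1 _ hx

/-! ### Realizations -/

section Realized

variable {G : Type*} [Group G]

/-- `ι` extended by `1` outside `S`. -/
noncomputable def ext1 (ι : S →* G) : Ω → G := by
  classical
  exact fun x => if hx : x ∈ S then ι ⟨x, hx⟩ else 1

theorem ext1_apply (ι : S →* G) {x : Ω} (hx : x ∈ S) : ext1 ι x = ι ⟨x, hx⟩ := by
  classical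
  unfold ext1
  simp only [dif_pos hx]

theorem ext1_coe (ι : S →* G) (x : S) : ext1 ι (x : Ω) = ι x := ext1_apply ι x.2

theorem ext1_mul (ι : S →* G) {x y : Ω} (hx : x ∈ S) (hy : y ∈ S) : ext1 ι (x * y) = ext1 ι x * ext1 ι y := by
  rw [ext1_apply ι hx, ext1_apply ι hy, ext1_apply ι (S.mul_mem hx hy), ← map_mul]
  rfl

theorem ext1_one (ι : S →* G) : ext1 ι (1 : Ω) = 1 := by
  rw [ext1_apply ι S.one_mem]
  exact map_one ι

theorem ext1_inv (ι : S →* G) {x : Ω} (hx : x ∈ S) : ext1 ι x⁻¹ = (ext1 ι x)⁻¹ := by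
  rw [ext1_apply ι hx, ext1_apply ι (S.inv_mem hx), ← map_inv]
  rfl

theorem ext1_conj (ι : S →* G) {x y : Ω} (hx : x ∈ S) (hy : y ∈ S) :
    ext1 ι (x * y * x⁻¹) = ext1 ι x * ext1 ι y * (ext1 ι x)⁻¹ := by
  rw [ext1_mul ι (S.mul_mem hx hy) (S.inv_mem hx), ext1_mul ι hx hy, ext1_inv ι hx]

theorem ext1_mem_range (ι : S →* G) {x : Ω} (hx : x ∈ S) : ext1 ι x ∈ ι.range := by
  rw [ext1_apply ι hx]
  exact ⟨_, rfl⟩

theorem ext1_injOn (ι : S →* G) (hinj : Function.Injective ι) {x y : Ω} (hx : x ∈ S) (hy : y ∈ S)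
    (h : ext1 ι x = ext1 ι y) : x = y := by
  rw [ext1_apply ι hx, ext1_apply ι hy] at h
  exact congrArg Subtype.val (hinj h)

theorem exists_ext1_eq_of_mem_range (ι : S →* G) {g : G} (hg : g ∈ ι.range) : ∃ x ∈ S, ext1 ι x = g := by
  obtain ⟨s, rfl⟩ := hg
  exact ⟨s, s.2, ext1_coe ι s⟩

theorem mem_map_subgroupOf_iff (ι : S →* G) (Q : Subgroup Ω) (g : G) :
    g ∈ (Q.subgroupOf S).map ι ↔ ∃ x ∈ Q, x ∈ S ∧ ext1 ι x = g := by
  constructor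
  · rintro ⟨s, hs, rfl⟩
    exact ⟨s, hs, s.2, ext1_coe ι s⟩
  · rintro ⟨x, hxQ, hxS, rfl⟩
    exact ⟨⟨x, hxS⟩, hxQ, (ext1_apply ι hxS).symm⟩

theorem ext1_mem_map (ι : S →* G) {Q : Subgroup Ω} {x : Ω} (hxQ : x ∈ Q) (hxS : x ∈ S) :
    ext1 ι x ∈ (Q.subgroupOf S).map ι :=
  (mem_map_subgroupOf_iff ι Q _).mpr ⟨x, hxQ, hxS, rfl⟩

theorem mem_of_ext1_mem_map (ι : S →* G) (hinj : Function.Injective ι) {Q : Subgroup Ω} {x : Ω} (hxS : x ∈ S)
    (h : ext1 ι x ∈ (Q.subgroupOf S).map ι) : x ∈ Q := by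
  obtain ⟨y, hyQ, hyS, he⟩ := (mem_map_subgroupOf_iff ι Q _).mp h
  have := ext1_injOn ι hinj hyS hxS he
  rw [← this]
  exact hyQ

/-- The maps of a realized system. -/
theorem isFM_iff_of_realized {F : FusionSystem S} {ι : S →* G} (hreal : F.IsRealizedBy ι) {P : Subgroup Ω}
    {θ : Ω → Ω} :
    IsFM F P θ ↔ P ≤ S ∧ (∀ x ∈ P, θ x ∈ S) ∧ ∃ g : G, ∀ x ∈ P, ext1 ι (θ x) = g * ext1 ι x * g⁻¹ := by
  obtain ⟨hinj, hreal'⟩ := hreal
  constructor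
  · rintro ⟨φ, hφ, h1⟩
    have hPS : P ≤ S := hom_le F hφ
    have hφS : ∀ x : P, φ x ∈ S := fun x => hom_apply_mem F hφ x
    obtain ⟨g, hg⟩ := (hreal' P hPS φ hφS).mp hφ
    refine ⟨hPS, fun x hx => ?_, g, fun x hx => ?_⟩
    · rw [← h1 ⟨x, hx⟩]
      exact hφS _
    · have := hg ⟨x, hx⟩
      rw [ext1_apply ι (hPS hx), ← this, ← h1 ⟨x, hx⟩, ext1_apply ι (hφS _)]
  · rintro ⟨hPS, hθS, g, hg⟩
    have hmul : ∀ x ∈ P, ∀ y ∈ P, θ (x * y) = θ x * θ y := by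
      intro x hx y hy
      apply ext1_injOn ι hinj (hθS _ (P.mul_mem hx hy)) (S.mul_mem (hθS x hx) (hθS y hy))
      rw [ext1_mul ι (hθS x hx) (hθS y hy), hg _ (P.mul_mem hx hy), hg x hx, hg y hy,
        ext1_mul ι (hPS hx) (hPS hy)]
      group
    have hone : θ 1 = 1 := by
      have := hmul 1 P.one_mem 1 P.one_mem
      rw [mul_one] at this
      exact (mul_eq_left (a := θ 1) (b := θ 1)).mp this.symm
    let φ : P →* Ω :=
      { toFun := fun x => θ x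
        map_one' := hone
        map_mul' := fun x y => hmul x x.2 y y.2 }
    have hφS : ∀ x : P, φ x ∈ S := fun x => hθS x x.2
    refine ⟨φ, (hreal' P hPS φ hφS).mpr ⟨g, fun x => ?_⟩, fun x => rfl⟩
    have := hg x x.2
    rw [ext1_apply ι (hPS x.2), ext1_apply ι (hθS x x.2)] at this
    exact this

end Realized

end Cfsg.Agent.Lib.Helper27.FM
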