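import Cfsg.Agent.Lib.Helper27.FSTwistT
import Cfsg.Agent.Lib.Helper26.FSInvariantFrattini
import Cfsg.Agent.Lib.Helper26.FSHyperfocal
import Cfsg.Agent.Lib.Helper26.FSHypAction

set_option autoImplicit false

/-! A saturated subsystem of `p`-power index over a normal subgroup of `S` is a normal subsystem. -/

namespace Cfsg.Agent.Lib.Helper27

open Cfsg Cfsg.FusionSystem Cfsg.Agent.Lib.Helper26

variable {Ω : Type*} [Group Ω] {S T : Subgroup Ω}

/-- A normal subgroup of `S` containing the hyperfocal subgroup is strongly closed. -/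
theorem stronglyClosed_of_hyperfocal_le [Finite S] {p : ℕ} [Fact p.Prime] (hS : IsPGroup p S)
    (F : FusionSystem S) (hF : F.IsSaturated p) (hTS : T ≤ S) (hTn : (T.subgroupOf S).Normal)
    (hT : F.hyperfocalSubgroup p ≤ T) : F.StronglyClosed T := by
  have hconj : ∀ s ∈ S, ∀ y : Ω, y ∈ T → s * y * s⁻¹ ∈ T := by
    intro s hs y hy
    have h1 : (⟨y, hTS hy⟩ : S) ∈ T.subgroupOf S := Subgroup.mem_subgroupOf.mpr hy
    have h2 := hTn.conj_mem _ h1 ⟨s, hs⟩
    exact Subgroup.mem_subgroupOf.mp h2
  have hnorm : ∀ s ∈ S, ∀ y : Ω, y ∈ T ↔ s * y * s⁻¹ ∈ T := by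
    intro s hs y
    refine ⟨hconj s hs y, fun h => ?_⟩
    have := hconj s⁻¹ (S.inv_mem hs) _ h
    simpa [mul_assoc] using this
  have haut : ∀ P : Subgroup Ω, F.IsFullyNormalized P → ∀ α ∈ F.autGroup P, ∀ x : P,
      (x : Ω) ∈ T → ((α x : P) : Ω) ∈ T := by
    intro P hPn α hα x hx
    obtain ⟨β, hβ, s, hsS, hsN, hαβ⟩ := exists_mul_pResidual_autS hS F hF hPn ⟨α, hα⟩
    have hα' : α = (β : MulAut P) * P.normalizerMonoidHom ⟨s, hsN⟩ := hαβ
    have hyv : ((P.normalizerMonoidHom ⟨s, hsN⟩ x : P) : Ω) = s * x * s⁻¹ := rfl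
    have h1 : ((P.normalizerMonoidHom ⟨s, hsN⟩ x : P) : Ω) ∈ T := by rw [hyv]; exact (hnorm s hsS _).mp hx
    have h2 : ((P.normalizerMonoidHom ⟨s, hsN⟩ x : P) : Ω)⁻¹ *
        (((β : MulAut P) (P.normalizerMonoidHom ⟨s, hsN⟩ x) : P) : Ω) ∈ T :=
      hT (mem_hyperfocal_of F p hPn.1 β hβ _)
    have : ((α x : P) : Ω) = ((P.normalizerMonoidHom ⟨s, hsN⟩ x : P) : Ω) *
        (((P.normalizerMonoidHom ⟨s, hsN⟩ x : P) : Ω)⁻¹ *
          (((β : MulAut P) (P.normalizerMonoidHom ⟨s, hsN⟩ x) : P) : Ω)) := by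
      rw [hα', MulAut.mul_apply, mul_inv_cancel_left]
    rw [this]
    exact T.mul_mem h1 h2
  have key := (closedPred F T hnorm).forall_of_aut hS hF ?_
  · refine ⟨hTS, fun R hR φ hφ x => ?_⟩
    exact (key R φ hφ x).mp (hR x.2)
  · intro P hP α hα x
    have hPn : F.IsFullyNormalized P := by
      rcases hP with rfl | hP
      · exact top_fullyNormalized F
      · exact hP.2.1
    show (x : Ω) ∈ T ↔ ((α x : P) : Ω) ∈ T
    refine ⟨haut P hPn α hα x, fun h => ?_⟩
    have := haut P hPn α⁻¹ ((F.autGroup P).inv_mem hα) (α x) h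
    simpa using this

/-- The Frattini condition follows from invariance and the decomposability of the automorphisms of the fully
normalized subgroups of `T`. -/
theorem dec_of_aut_decI [Finite S] {p : ℕ} [Fact p.Prime] (hS : IsPGroup p S) (F : FusionSystem S)
    (hF : F.IsSaturated p) (E : FusionSystem T) (hT : F.StronglyClosed T) (hinv : AutInv E F)
    (hAut : ∀ Q : Subgroup Ω, Q ≤ T → F.IsFullyNormalized Q → ∀ γ ∈ F.autGroup Q, DecI E F (γ : Q ≃* Q)) :
    ∀ P : Subgroup Ω, P ≤ T → ∀ φ ∈ F.Hom P, Dec E F P φ := by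
  have hfinT : Finite T := finite_of_le hT.1
  have hTp : IsPGroup p T := hS.to_le hT.1
  have main : ∀ d : ℕ, ∀ P : Subgroup Ω, P ≤ T → Nat.card T - Nat.card P = d →
      ∀ φ ∈ F.Hom P, Dec E F P φ := by
    intro d
    induction d using Nat.strong_induction_on with
    | _ d ih =>
      intro P hP hd φ hφ
      have IH : ∀ R : Subgroup Ω, R ≤ T → Nat.card P < Nat.card R → ∀ φ ∈ F.Hom R, Dec E F R φ := by
        intro R hR hlt
        have hRT : Nat.card R ≤ Nat.card T := Subgroup.card_le_of_le hR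
        exact ih (Nat.card T - Nat.card R) (by omega) R hR rfl
      have hPS : P ≤ S := hP.trans hT.1
      have hfinP : Finite P := finite_of_le hPS
      by_cases hPT : P = T
      · subst hPT
        have hr : φ.range = P := by
          apply Subgroup.eq_of_le_of_card_ge
          · rintro _ ⟨x, rfl⟩
            exact hT.2 P le_rfl φ hφ x
          · rw [Nat.card_congr (MonoidHom.ofInjective (F.injective_of_mem hφ)).toEquiv]
        have hα : (homEquiv F hφ hr : MulAut P) ∈ F.autGroup P := by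
          rw [mem_autGroup_iff_isFIso F hT.1]
          exact homEquiv_isFIso F hφ hr
        exact dec_of_aut le_rfl hα (fun x => rfl)
      · obtain ⟨Pst, hPPst, hFN⟩ := exists_fullyNormalized_conj F hPS
        have hPstT : Pst ≤ T := by
          obtain ⟨θ, hθ, rfl⟩ := hPPst
          rintro _ ⟨x, rfl⟩
          exact hT.2 P hP θ hθ x
        have hFA := (saturated_fn hS F hF hFN).2
        have hRec := saturated_fn_receptive hS F hF hFN
        have hPQ : F.IsConj P φ.range := ⟨φ, hφ, rfl⟩
        have hQT : φ.range ≤ T := by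
          rintro _ ⟨x, rfl⟩
          exact hT.2 P hP φ hφ x
        have hQS : φ.range ≤ S := hQT.trans hT.1
        have hQPst : F.IsConj φ.range Pst := isConj_trans F (isConj_symm F hPQ) hPPst
        obtain ⟨χ₁, hχ₁, hv₁, hm₁⟩ := exists_normalizer_hom hS F hFA hRec hPPst
        obtain ⟨χ₂, hχ₂, hv₂, hm₂⟩ := exists_normalizer_hom hS F hFA hRec hQPst
        let D₁ : NormHom F P Pst := ⟨χ₁, hχ₁, hv₁, hm₁, hPS⟩
        let D₂ : NormHom F φ.range Pst := ⟨χ₂, hχ₂, hv₂, hm₂, hQS⟩
        let eφ : P ≃* φ.range := homEquiv F hφ rfl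
        have hcardQ : Nat.card φ.range = Nat.card P := (Nat.card_congr eφ.toEquiv).symm
        have hcardPst : Nat.card Pst = Nat.card P := (Nat.card_congr D₁.e.toEquiv).symm
        have hQne : φ.range ≠ T := by
          intro h
          apply hPT
          apply Subgroup.eq_of_le_of_card_ge hP
          rw [← hcardQ, h]
        have he₁ : DecI E F D₁.e := by
          have hlt := card_lt_card_normalizerIn hTp hP hPT
          have hle : normalizerIn T P ≤ normalizerIn S P := inf_le_inf_right _ hT.1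
          have h1 := IH (normalizerIn T P) (normalizerIn_le T P) hlt _ (inclusion_comp_mem F hle hχ₁)
          have h2 := h1.restrict (le_normalizerIn hP)
          exact h2.congr (fun x => rfl)
        have he₂ : DecI E F D₂.e := by
          have hlt := card_lt_card_normalizerIn hTp hQT hQne
          rw [hcardQ] at hlt
          have hle : normalizerIn T φ.range ≤ normalizerIn S φ.range := inf_le_inf_right _ hT.1
          have h1 := IH (normalizerIn T φ.range) (normalizerIn_le T _) hlt _ (inclusion_comp_mem F hle hχ₂)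
          have h2 := h1.restrict (le_normalizerIn hQT)
          exact h2.congr (fun x => rfl)
        let α : MulAut Pst := D₁.e.symm.trans (eφ.trans D₂.e)
        have hαF : α ∈ F.autGroup Pst := by
          rw [mem_autGroup_iff_isFIso F hFN.1]
          exact D₁.e_isFIso.symm.trans ((homEquiv_isFIso F hφ rfl).trans D₂.e_isFIso)
        have hαD := hAut Pst hPstT hFN α hαF
        have heq : eφ = D₁.e.trans ((α : Pst ≃* Pst).trans D₂.e.symm) := by
          ext x
          simp [α]
        have h3 : DecI E F eφ := by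
          rw [heq]
          exact he₁.trans hinv (hαD.trans hinv (he₂.symm hinv))
        exact h3.congr (fun x => rfl)
  intro P hP φ hφ
  exact main _ P hP rfl φ hφ

/-- For a subsystem whose automorphism groups contain the `O^p(Aut_F(Q))`, the automorphisms of a fully normalized
subgroup of `T` are decomposable. -/
theorem decI_aut_of_ppower_index [Finite S] {p : ℕ} [Fact p.Prime] (hS : IsPGroup p S) (F : FusionSystem S)
    (hF : F.IsSaturated p) (E : FusionSystem T) (hT : F.StronglyClosed T) (hinv : AutInv E F)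
    (h : ∀ P : Subgroup Ω, P ≤ T →
      (pResidual p (F.autGroup P)).map (F.autGroup P).subtype ≤ E.autGroup P)
    (Q : Subgroup Ω) (hQT : Q ≤ T) (hQn : F.IsFullyNormalized Q) (γ : MulAut Q) (hγ : γ ∈ F.autGroup Q) :
    DecI E F (γ : Q ≃* Q) := by
  obtain ⟨β, hβ, s, hsS, hsN, hγβ⟩ := exists_mul_pResidual_autS hS F hF hQn ⟨γ, hγ⟩
  have hγ' : γ = (β : MulAut Q) * Q.normalizerMonoidHom ⟨s, hsN⟩ := hγβ
  have hβE : (β : MulAut Q) ∈ E.autGroup Q := h Q hQT ⟨β, hβ, rfl⟩
  have h1 : DecI E F ((β : MulAut Q) : Q ≃* Q) :=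
    decI_of_isFIso ((mem_autGroup_iff_isFIso E hQT _).mp hβE)
  have h2 : DecI E F ((Q.normalizerMonoidHom ⟨s, hsN⟩ : MulAut Q) : Q ≃* Q) := by
    have := dec_conjHom (E := E) hT hQT hsS
    exact this.congr (fun x => rfl)
  rw [hγ']
  exact DecI.trans hinv h2 h1

/-- A saturated subsystem of `p`-power index over a strongly closed subgroup is invariant. -/
theorem isInvariantIn_of_ppower_index [Finite S] {p : ℕ} [Fact p.Prime] (hS : IsPGroup p S) (F : FusionSystem S)
    (hF : F.IsSaturated p) (E : FusionSystem T) (hT : F.StronglyClosed T) (hE : E.IsSaturated p)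
    (hEF : E.IsSubsystemOf F)
    (h : ∀ P : Subgroup Ω, P ≤ T →
      (pResidual p (F.autGroup P)).map (F.autGroup P).subtype ≤ E.autGroup P) : E.IsInvariantIn F := by
  have hinv : AutInv E F := autInv_of_ppower_index hS F E hE hEF h
  exact ⟨hEF, hT, hinv, dec_of_aut_decI hS F hF E hT hinv
    (decI_aut_of_ppower_index hS F hF E hT hinv h)⟩

end Cfsg.Agent.Lib.Helper27
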