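import Cfsg.Agent.Lib.Helper26.FSInvariant
import Cfsg.Agent.Lib.Helper27.FSAlperinStrong

set_option autoImplicit false

/-! Twisting the maps of a fusion system over `S` by elements of `Aut_F(S)`; the largest `Aut_F(S)`-invariant
subsystem of a subsystem `E` of `F`. -/

namespace Cfsg.Agent.Lib.Helper27

open Cfsg Cfsg.FusionSystem Cfsg.Agent.Lib.Helper26

variable {Ω : Type*} [Group Ω] {S : Subgroup Ω}

theorem imgAut_one {P : Subgroup Ω} (hP : P ≤ S) : imgAut (1 : MulAut S) P = P := by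
  ext y
  rw [mem_imgAut]
  constructor
  · rintro ⟨x, hx, rfl⟩
    exact hx
  · intro hy
    exact ⟨⟨y, hP hy⟩, hy, rfl⟩

theorem imgAut_mul (α β : MulAut S) (P : Subgroup Ω) : imgAut (β * α) P = imgAut β (imgAut α P) := by
  ext y
  rw [mem_imgAut, mem_imgAut]
  constructor
  · rintro ⟨x, hx, rfl⟩
    exact ⟨α x, apply_mem_imgAut α x hx, rfl⟩
  · rintro ⟨w, hw, rfl⟩
    obtain ⟨x, hx, hxw⟩ := mem_imgAut.mp hw
    have : α x = w := Subtype.ext hxw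
    exact ⟨x, hx, by rw [← this]; rfl⟩

theorem aut_restrict_mem (F : FusionSystem S) {β : MulAut S} (hβ : β ∈ F.autGroup S) {P : Subgroup Ω}
    (hP : P ≤ S) : (S.subtype.comp β.toMonoidHom).comp (Subgroup.inclusion hP) ∈ F.Hom P :=
  inclusion_comp_mem F hP ((mem_autGroup_iff F le_rfl β).mp hβ)

theorem aut_restrict_range (β : MulAut S) {P : Subgroup Ω} (hP : P ≤ S) :
    ((S.subtype.comp β.toMonoidHom).comp (Subgroup.inclusion hP)).range = imgAut β P := by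
  ext y
  rw [mem_imgAut]
  constructor
  · rintro ⟨x, rfl⟩
    exact ⟨⟨x, hP x.2⟩, x.2, rfl⟩
  · rintro ⟨x, hx, rfl⟩
    exact ⟨⟨x, hx⟩, rfl⟩

/-- The restriction of `β ∈ Aut_F(S)` to `P`, as an isomorphism onto the image. -/
noncomputable def resIso (F : FusionSystem S) {β : MulAut S} (hβ : β ∈ F.autGroup S) {P : Subgroup Ω}
    (hP : P ≤ S) : P ≃* imgAut β P :=
  homEquiv F (aut_restrict_mem F hβ hP) (aut_restrict_range β hP)

theorem resIso_isFIso (F : FusionSystem S) {β : MulAut S} (hβ : β ∈ F.autGroup S) {P : Subgroup Ω}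
    (hP : P ≤ S) : IsFIso F (resIso F hβ hP) := homEquiv_isFIso F _ _

theorem resIso_apply (F : FusionSystem S) {β : MulAut S} (hβ : β ∈ F.autGroup S) {P : Subgroup Ω}
    (hP : P ≤ S) (x : P) : ((resIso F hβ hP x : imgAut β P) : Ω) = ((β ⟨x, hP x.2⟩ : S) : Ω) := rfl

theorem resIso_symm_apply (F : FusionSystem S) {β : MulAut S} (hβ : β ∈ F.autGroup S) {P : Subgroup Ω}
    (hP : P ≤ S) (y : S) (hy : (y : Ω) ∈ P) (h' : ((β y : S) : Ω) ∈ imgAut β P) :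
    (resIso F hβ hP).symm ⟨β y, h'⟩ = ⟨y, hy⟩ := by
  rw [MulEquiv.symm_apply_eq]
  apply Subtype.ext
  rfl

/-- The twist of a map `φ` with source `P` by `β ∈ Aut(S)` lies in `E`: some map of `E` with source `β(P)` sends
`β(y)` to `β(φ(y))`. -/
def TwistIn (E : FusionSystem S) (β : MulAut S) {P : Subgroup Ω} (φ : P →* Ω) : Prop :=
  ∀ Q : Subgroup Ω, Q = imgAut β P → ∃ χ ∈ E.Hom Q, ∀ (y : S) (hy : (y : Ω) ∈ P) (h' : ((β y : S) : Ω) ∈ Q)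
    (z : S), (z : Ω) = φ ⟨y, hy⟩ → χ ⟨β y, h'⟩ = ((β z : S) : Ω)

/-- The twist of a map of `F` by an element of `Aut_F(S)` is a map of `F`. -/
theorem twistIn_self (F : FusionSystem S) {β : MulAut S} (hβ : β ∈ F.autGroup S) {P : Subgroup Ω}
    {φ : P →* Ω} (hφ : φ ∈ F.Hom P) : TwistIn F β φ := by
  rintro Q rfl
  have hP : P ≤ S := hom_le F hφ
  have he : IsFIso F (resIso F hβ hP) := resIso_isFIso F hβ hP
  have h1 : φ.comp (resIso F hβ hP).symm.toMonoidHom ∈ F.Hom (imgAut β P) := comp_equiv_mem F he.symm hφ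
  have hβ' : S.subtype.comp β.toMonoidHom ∈ F.Hom S := (mem_autGroup_iff F le_rfl β).mp hβ
  have h2 := F.comp_mem h1 hβ' (fun w => hom_apply_mem F h1 w)
  refine ⟨_, h2, ?_⟩
  intro y hy h' z hz
  have e1 := resIso_symm_apply F hβ hP y hy h'
  have e2 : (⟨(φ.comp (resIso F hβ hP).symm.toMonoidHom) ⟨β y, h'⟩, hom_apply_mem F h1 _⟩ : S) = z := by
    apply Subtype.ext
    show φ ((resIso F hβ hP).symm ⟨β y, h'⟩) = z
    rw [e1]
    exact hz.symm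
  show ((β ⟨(φ.comp (resIso F hβ hP).symm.toMonoidHom) ⟨β y, h'⟩, hom_apply_mem F h1 _⟩ : S) : Ω) = _
  rw [e2]

/-- The largest subsystem of `E` (inside `F`) invariant under `Aut_F(S)`. -/
def twistSystem (F E : FusionSystem S) : FusionSystem S where
  Hom P := {φ | φ ∈ F.Hom P ∧ ∀ β ∈ F.autGroup S, TwistIn E β φ}
  le_of_mem h := F.le_of_mem h.1
  injective_of_mem h := F.injective_of_mem h.1
  conj_mem := by
    intro P g hP hg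
    refine ⟨F.conj_mem hP hg, ?_⟩
    rintro β hβ Q rfl
    refine ⟨conjHom (imgAut β P) ((β ⟨g, hg⟩ : S) : Ω), E.conj_mem (imgAut_le β P) (β ⟨g, hg⟩).2, ?_⟩
    intro y hy h' z hz
    have e : z = ⟨g, hg⟩ * y * ⟨g, hg⟩⁻¹ := Subtype.ext hz
    rw [e, map_mul, map_mul, map_inv]
    rfl
  comp_mem := by
    rintro P Q' φ ψ ⟨hφ, hφ'⟩ ⟨hψ, hψ'⟩ h
    refine ⟨F.comp_mem hφ hψ h, ?_⟩
    rintro β hβ Q rfl
    obtain ⟨χφ, hχφ, hχφ'⟩ := hφ' β hβ _ rfl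
    obtain ⟨χψ, hχψ, hχψ'⟩ := hψ' β hβ _ rfl
    have hmem : ∀ w : imgAut β P, χφ w ∈ imgAut β Q' := by
      rintro ⟨w, hw⟩
      obtain ⟨y, hy, rfl⟩ := mem_imgAut.mp hw
      rw [hχφ' y hy hw ⟨φ ⟨y, hy⟩, hom_apply_mem F hφ _⟩ rfl]
      exact apply_mem_imgAut β _ (h ⟨y, hy⟩)
    refine ⟨χψ.comp (χφ.codRestrict _ hmem), E.comp_mem hχφ hχψ hmem, ?_⟩
    intro y hy h' z hz
    have e1 := hχφ' y hy h' ⟨φ ⟨y, hy⟩, hom_apply_mem F hφ _⟩ rfl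
    have h'' : ((β ⟨φ ⟨y, hy⟩, hom_apply_mem F hφ _⟩ : S) : Ω) ∈ imgAut β Q' :=
      apply_mem_imgAut β _ (h ⟨y, hy⟩)
    have e2 := hχψ' ⟨φ ⟨y, hy⟩, hom_apply_mem F hφ _⟩ (h ⟨y, hy⟩) h'' z hz
    rw [← e2]
    show χψ ⟨χφ ⟨β y, h'⟩, hmem _⟩ = _
    congr 1
    exact Subtype.ext e1
  inv_mem := by
    rintro P φ ⟨hφ, hφ'⟩
    obtain ⟨ψ, hψ, hψx⟩ := F.inv_mem hφ
    refine ⟨ψ, ⟨hψ, ?_⟩, hψx⟩
    rintro β hβ Q rfl
    obtain ⟨χφ, hχφ, hχφ'⟩ := hφ' β hβ _ rfl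
    obtain ⟨χ', hχ', hχ'x⟩ := E.inv_mem hχφ
    have hP : P ≤ S := hom_le F hφ
    have hsub : imgAut β φ.range ≤ χφ.range := by
      intro w hw
      obtain ⟨y, ⟨x, hx⟩, rfl⟩ := mem_imgAut.mp hw
      have hxβ : ((β ⟨x, hP x.2⟩ : S) : Ω) ∈ imgAut β P := apply_mem_imgAut β _ x.2
      refine ⟨⟨β ⟨x, hP x.2⟩, hxβ⟩, ?_⟩
      rw [hχφ' ⟨x, hP x.2⟩ x.2 hxβ y hx.symm]
    refine ⟨χ'.comp (Subgroup.inclusion hsub), inclusion_comp_mem E hsub hχ', ?_⟩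
    rintro y ⟨x, hx⟩ h' z hz
    have hxβ : ((β ⟨x, hP x.2⟩ : S) : Ω) ∈ imgAut β P := apply_mem_imgAut β _ x.2
    have e1 := hχφ' ⟨x, hP x.2⟩ x.2 hxβ y hx.symm
    have e2 : z = ⟨x, hP x.2⟩ := by
      apply Subtype.ext
      rw [hz]
      have := hψx x
      rw [← this]
      congr 1
      exact Subtype.ext hx.symm
    rw [e2]
    have e3 := hχ'x ⟨β ⟨x, hP x.2⟩, hxβ⟩
    rw [← e3]
    show χ' ⟨β y, _⟩ = χ' ⟨χφ ⟨β ⟨x, hP x.2⟩, hxβ⟩, _⟩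
    congr 1
    exact Subtype.ext e1.symm

theorem twistSystem_le (F E : FusionSystem S) : ∀ P : Subgroup Ω, (twistSystem F E).Hom P ⊆ E.Hom P := by
  rintro P φ ⟨hφ, hφ'⟩
  have hP : P ≤ S := hom_le F hφ
  obtain ⟨χ, hχ, hχ'⟩ := hφ' 1 (one_mem _) P (imgAut_one hP).symm
  have : χ = φ := by
    ext x
    exact hχ' ⟨x, hP x.2⟩ x.2 x.2 ⟨φ x, hom_apply_mem F hφ x⟩ rfl
  rw [← this]
  exact hχ

theorem twistSystem_le' (F E : FusionSystem S) : ∀ P : Subgroup Ω, (twistSystem F E).Hom P ⊆ F.Hom P :=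
  fun _ _ h => h.1

/-- The twist system is invariant under `Aut_F(S)`. -/
theorem twistSystem_autInv (F E : FusionSystem S) : AutInv (twistSystem F E) F := by
  intro P hPS φ hφ α hα
  obtain ⟨χ, hχ, hχ'⟩ := twistIn_self F hα hφ.1 _ rfl
  refine ⟨χ, ⟨hχ, ?_⟩, fun x hφx hαx => hχ' ⟨x, hPS x.2⟩ x.2 hαx ⟨φ x, hφx⟩ rfl⟩
  rintro β hβ Q rfl
  obtain ⟨χ₂, hχ₂, hχ₂'⟩ := hφ.2 (β * α) (mul_mem hβ hα) _ (imgAut_mul α β P).symm
  refine ⟨χ₂, hχ₂, ?_⟩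
  intro w hw h' z hz
  obtain ⟨y, hy, hyw⟩ := mem_imgAut.mp hw
  have ew : w = α y := (Subtype.ext hyw).symm
  subst ew
  have ez : z = α ⟨φ ⟨y, hy⟩, hom_apply_mem F hφ.1 _⟩ := by
    apply Subtype.ext
    rw [hz]
    exact hχ' y hy hw _ rfl
  rw [ez]
  exact hχ₂' y hy h' _ rfl

end Cfsg.Agent.Lib.Helper27
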