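import Mathlib
import Cfsg.Prelude.Def_FischerSpaces

/-!
# Fischer spaces: the maps `t(x)` (generic part)
-/

set_option autoImplicit false

namespace Cfsg.Agent.Lib.Helper27.Fischer

open Cfsg Cfsg.LineSystem

section basic

variable {X : Type*} (L : Set (Set X))

/-- `z` is the third point of a line through `x ≠ y`. -/
def Third (x y z : X) : Prop := z ≠ x ∧ z ≠ y ∧ x ≠ y ∧ ({x, y, z} : Set X) ∈ L

/-- Lines are three-point sets, two points on at most one line. -/
structure Lin : Prop where
  pl : IsPartialLinear L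
  three : ∀ l ∈ L, l.ncard = 3

variable {L}

theorem Third.symm_xy {x y z : X} (h : Third L x y z) : Third L y x z := by
  obtain ⟨h1, h2, h3, h4⟩ := h
  refine ⟨h2, h1, h3.symm, ?_⟩
  have : ({y, x, z} : Set X) = {x, y, z} := by
    ext w; simp only [Set.mem_insert_iff, Set.mem_singleton_iff]; tauto
  rw [this]; exact h4

theorem Third.symm_yz {x y z : X} (h : Third L x y z) : Third L x z y := by
  obtain ⟨h1, h2, h3, h4⟩ := h
  refine ⟨h3.symm, h2.symm, h1.symm, ?_⟩
  have : ({x, z, y} : Set X) = {x, y, z} := by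
    ext w; simp only [Set.mem_insert_iff, Set.mem_singleton_iff]; tauto
  rw [this]; exact h4

theorem Third.unique (hL : Lin L) {x y z z' : X} (h : Third L x y z) (h' : Third L x y z') :
    z = z' := by
  have heq := hL.pl _ h.2.2.2 _ h'.2.2.2 x y h.2.2.1 (by simp) (by simp) (by simp) (by simp)
  have : z ∈ ({x, y, z'} : Set X) := by rw [← heq]; simp
  simp only [Set.mem_insert_iff, Set.mem_singleton_iff] at this
  rcases this with h1 | h1 | h1
  · exact absurd h1 h.1
  · exact absurd h1 h.2.1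
  · exact h1

/-- A line through two different points is a triple. -/
theorem exists_third_of_mem (hL : Lin L) {l : Set X} (hl : l ∈ L) {x y : X} (hx : x ∈ l)
    (hy : y ∈ l) (hxy : x ≠ y) : ∃ z, Third L x y z ∧ l = {x, y, z} := by
  have h3 := hL.three l hl
  have hfin : l.Finite := Set.finite_of_ncard_ne_zero (by rw [h3]; norm_num)
  have hsub : ({x, y} : Set X) ⊆ l := by
    intro w hw
    simp only [Set.mem_insert_iff, Set.mem_singleton_iff] at hw
    rcases hw with rfl | rfl <;> assumption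
  have h2 : ({x, y} : Set X).ncard = 2 := Set.ncard_pair hxy
  have h1 : (l \ {x, y}).ncard = 1 := by
    have := Set.ncard_diff_add_ncard_of_subset hsub hfin
    omega
  obtain ⟨z, hz⟩ := Set.ncard_eq_one.mp h1
  have hzmem : z ∈ l \ {x, y} := by rw [hz]; simp
  have hzx : z ≠ x := fun h => hzmem.2 (by simp [h])
  have hzy : z ≠ y := fun h => hzmem.2 (by simp [h])
  have hleq : l = {x, y, z} := by
    ext w
    simp only [Set.mem_insert_iff, Set.mem_singleton_iff]
    constructor
    · intro hw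
      by_cases hwx : w = x
      · exact Or.inl hwx
      by_cases hwy : w = y
      · exact Or.inr (Or.inl hwy)
      right; right
      have : w ∈ l \ {x, y} := ⟨hw, by simp [hwx, hwy]⟩
      rw [hz] at this
      exact this
    · rintro (rfl | rfl | rfl)
      · exact hx
      · exact hy
      · exact hzmem.1
  exact ⟨z, ⟨hzx, hzy, hxy, hleq ▸ hl⟩, hleq⟩

theorem lineMap_eq_of_third (hL : Lin L) {x y z : X} (h : Third L x y z) : lineMap L x y = z := by
  unfold lineMap
  have hex : ∃ z : X, z ≠ x ∧ z ≠ y ∧ x ≠ y ∧ ({x, y, z} : Set X) ∈ L := ⟨z, h⟩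
  rw [dif_pos hex]
  exact Third.unique hL hex.choose_spec h

theorem lineMap_eq_self {x y : X} (h : ¬ ∃ z, Third L x y z) : lineMap L x y = y := by
  unfold lineMap
  have h' : ¬ ∃ z : X, z ≠ x ∧ z ≠ y ∧ x ≠ y ∧ ({x, y, z} : Set X) ∈ L := h
  rw [dif_neg h']

/-- The graph of `lineMap`. -/
def RelT (L : Set (Set X)) (x y w : X) : Prop := Third L x y w ∨ (w = y ∧ ¬ ∃ z, Third L x y z)

theorem relT_iff (hL : Lin L) {x y w : X} : RelT L x y w ↔ w = lineMap L x y := by
  constructor
  · rintro (h | ⟨rfl, h⟩)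
    · exact (lineMap_eq_of_third hL h).symm
    · exact (lineMap_eq_self h).symm
  · rintro rfl
    by_cases h : ∃ z, Third L x y z
    · obtain ⟨z, hz⟩ := h
      rw [lineMap_eq_of_third hL hz]
      exact Or.inl hz
    · rw [lineMap_eq_self h]
      exact Or.inr ⟨rfl, h⟩

theorem lineMap_lineMap (hL : Lin L) (x y : X) : lineMap L x (lineMap L x y) = y := by
  by_cases h : ∃ z, Third L x y z
  · obtain ⟨z, hz⟩ := h
    rw [lineMap_eq_of_third hL hz, lineMap_eq_of_third hL hz.symm_yz]
  · rw [lineMap_eq_self h, lineMap_eq_self h]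

theorem lineMap_self (x : X) : lineMap L x x = x := by
  apply lineMap_eq_self
  rintro ⟨z, hz⟩
  exact hz.2.2.1 rfl

/-- `t(x)` as a permutation. -/
noncomputable def tau (hL : Lin L) (x : X) : Equiv.Perm X :=
  ⟨lineMap L x, lineMap L x, lineMap_lineMap hL x, lineMap_lineMap hL x⟩

@[simp] theorem tau_apply (hL : Lin L) (x y : X) : tau hL x y = lineMap L x y := rfl

theorem tau_mul_self (hL : Lin L) (x : X) : tau hL x * tau hL x = 1 := by
  ext y
  simp [lineMap_lineMap hL]

theorem tau_inv (hL : Lin L) (x : X) : (tau hL x)⁻¹ = tau hL x :=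
  inv_eq_of_mul_eq_one_right (tau_mul_self hL x)

theorem image_triple {Y : Type*} (f : X → Y) (x y z : X) :
    f '' ({x, y, z} : Set X) = {f x, f y, f z} := by
  ext w
  simp only [Set.mem_image, Set.mem_insert_iff, Set.mem_singleton_iff]
  constructor
  · rintro ⟨v, (rfl | rfl | rfl), rfl⟩ <;> simp
  · rintro (rfl | rfl | rfl)
    · exact ⟨x, Or.inl rfl, rfl⟩
    · exact ⟨y, Or.inr (Or.inl rfl), rfl⟩
    · exact ⟨z, Or.inr (Or.inr rfl), rfl⟩

/-- Isomorphisms preserve `Third`. -/
theorem third_iso {Y : Type*} {M : Set (Set Y)} (e : X ≃ Y) (he : IsIso L M e) (x y z : X) :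
    Third L x y z ↔ Third M (e x) (e y) (e z) := by
  unfold Third
  rw [he {x, y, z}, image_triple]
  simp only [ne_eq, EmbeddingLike.apply_eq_iff_eq]

theorem relT_iso {Y : Type*} {M : Set (Set Y)} (e : X ≃ Y) (he : IsIso L M e) (x y w : X) :
    RelT L x y w ↔ RelT M (e x) (e y) (e w) := by
  unfold RelT
  rw [third_iso e he]
  have : (∃ z, Third L x y z) ↔ ∃ z, Third M (e x) (e y) z := by
    constructor
    · rintro ⟨z, hz⟩
      exact ⟨e z, (third_iso e he x y z).mp hz⟩
    · rintro ⟨z, hz⟩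
      refine ⟨e.symm z, (third_iso e he x y _).mpr ?_⟩
      rwa [Equiv.apply_symm_apply]
  rw [this]
  simp only [EmbeddingLike.apply_eq_iff_eq]

/-- Conjugating `t(y)` by an automorphism `σ` gives `t(σ y)`. -/
theorem lineMap_iso (hL : Lin L) (σ : Equiv.Perm X) (hσ : IsIso L L σ) (y w : X) :
    lineMap L (σ y) (σ w) = σ (lineMap L y w) := by
  have h := (relT_iso σ hσ y w (lineMap L y w)).mp ((relT_iff hL).mpr rfl)
  exact ((relT_iff hL).mp h).symm

theorem tau_conj (hL : Lin L) (σ : Equiv.Perm X) (hσ : IsIso L L σ) (y : X) :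
    σ * tau hL y * σ⁻¹ = tau hL (σ y) := by
  ext w
  simp only [Equiv.Perm.coe_mul, Function.comp_apply, tau_apply]
  have := lineMap_iso hL σ hσ y (σ⁻¹ w)
  have h2 : σ (σ⁻¹ w) = w := by simp
  rw [h2] at this
  exact this.symm

end basic

end Cfsg.Agent.Lib.Helper27.Fischer
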