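import Mathlib
import Cfsg.Agent.Lib.Helper27.Fischer1

/-!
# Fischer spaces: `t(x)` is an automorphism, reduction to the two planes
-/

set_option autoImplicit false

namespace Cfsg.Agent.Lib.Helper27.Fischer

open Cfsg Cfsg.LineSystem

section plane

variable {X : Type*} {L : Set (Set X)}

theorem isSubspace_span (T : Set X) : IsSubspace L (span L T) := by
  intro l hl x hx y hy hxy hxl hyl w hw
  unfold span at hx hy ⊢
  rw [Set.mem_sInter] at hx hy ⊢
  intro T' hT'
  exact hT'.2 l hl x (hx T' hT') y (hy T' hT') hxy hxl hyl hw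

theorem subset_span (T : Set X) : T ⊆ span L T :=
  fun _ hx => Set.mem_sInter.mpr (fun _ hT' => hT'.1 hx)

/-- In the line system `M`, the image of a line `l` under `t(x)`, `x ∉ l`, is a line. -/
def PlaneProp {Y : Type*} (M : Set (Set Y)) : Prop :=
  ∀ x : Y, ∀ l ∈ M, x ∉ l → ∃ l' ∈ M, ∀ w, w ∈ l' ↔ ∃ y ∈ l, RelT M x y w

theorem planeProp_of_iso {Y Y' : Type*} {M : Set (Set Y)} {M' : Set (Set Y')} (e : Y ≃ Y')
    (he : IsIso M M' e) (h : PlaneProp M') : PlaneProp M := by
  intro x l hl hx
  have hl' : e '' l ∈ M' := (he l).mp hl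
  have hx' : e x ∉ e '' l := by
    rintro ⟨y, hy, hyx⟩
    exact hx (e.injective hyx ▸ hy)
  obtain ⟨k', hk', hk'w⟩ := h (e x) (e '' l) hl' hx'
  refine ⟨e.symm '' k', ?_, ?_⟩
  · rw [he, Equiv.image_symm_image]
    exact hk'
  · intro w
    constructor
    · rintro ⟨w', hw', rfl⟩
      obtain ⟨y', ⟨y, hy, rfl⟩, hrel⟩ := (hk'w w').mp hw'
      refine ⟨y, hy, (relT_iso e he x y _).mpr ?_⟩
      rwa [Equiv.apply_symm_apply]
    · rintro ⟨y, hy, hrel⟩
      exact ⟨e w, (hk'w (e w)).mpr ⟨e y, ⟨y, hy, rfl⟩, (relT_iso e he x y w).mp hrel⟩, by simp⟩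

variable {S : Set X}

theorem third_restrict (x y w : S) :
    Third (restrict L S) x y w ↔ Third L (x : X) (y : X) (w : X) := by
  unfold Third
  constructor
  · rintro ⟨h1, h2, h3, k, hk, hkS, heq⟩
    refine ⟨fun h => h1 (Subtype.ext h), fun h => h2 (Subtype.ext h),
      fun h => h3 (Subtype.ext h), ?_⟩
    have hkeq : k = {(x : X), (y : X), (w : X)} := by
      ext v
      simp only [Set.mem_insert_iff, Set.mem_singleton_iff]
      constructor
      · intro hv
        have hmem : (⟨v, hkS hv⟩ : S) ∈ ({x, y, w} : Set S) := by rw [heq]; exact hv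
        simp only [Set.mem_insert_iff, Set.mem_singleton_iff] at hmem
        rcases hmem with h | h | h
        · exact Or.inl (congrArg Subtype.val h)
        · exact Or.inr (Or.inl (congrArg Subtype.val h))
        · exact Or.inr (Or.inr (congrArg Subtype.val h))
      · have hx : x ∈ ({x, y, w} : Set S) := by simp
        have hy : y ∈ ({x, y, w} : Set S) := by simp
        have hw : w ∈ ({x, y, w} : Set S) := by simp
        rw [heq] at hx hy hw
        rintro (rfl | rfl | rfl)
        · exact hx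
        · exact hy
        · exact hw
    rw [← hkeq]
    exact hk
  · rintro ⟨h1, h2, h3, hk⟩
    refine ⟨fun h => h1 (congrArg Subtype.val h), fun h => h2 (congrArg Subtype.val h),
      fun h => h3 (congrArg Subtype.val h), {(x : X), (y : X), (w : X)}, hk, ?_, ?_⟩
    · intro v hv
      simp only [Set.mem_insert_iff, Set.mem_singleton_iff] at hv
      rcases hv with rfl | rfl | rfl
      · exact x.2
      · exact y.2
      · exact w.2
    · ext s
      simp only [Set.mem_insert_iff, Set.mem_singleton_iff, Set.mem_setOf_eq, Subtype.ext_iff]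

theorem exists_third_restrict (hS : IsSubspace L S) (x y : S) :
    (∃ z : S, Third (restrict L S) x y z) ↔ ∃ z : X, Third L (x : X) (y : X) z := by
  constructor
  · rintro ⟨z, hz⟩
    exact ⟨z, (third_restrict x y z).mp hz⟩
  · rintro ⟨z, hz⟩
    have hzS : z ∈ S :=
      hS _ hz.2.2.2 x x.2 y y.2 hz.2.2.1 (by simp) (by simp) (by simp)
    exact ⟨⟨z, hzS⟩, (third_restrict x y ⟨z, hzS⟩).mpr hz⟩

theorem relT_restrict (hS : IsSubspace L S) (x y w : S) :
    RelT (restrict L S) x y w ↔ RelT L (x : X) (y : X) (w : X) := by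
  unfold RelT
  rw [third_restrict, exists_third_restrict hS, Subtype.ext_iff]

/-- Inside a subspace with the plane property, `t(x)` maps lines to lines. -/
theorem image_lineMap_mem (hL : Lin L) (hS : IsSubspace L S) (hP : PlaneProp (restrict L S))
    {x : X} (hx : x ∈ S) {l : Set X} (hl : l ∈ L) (hlS : l ⊆ S) (hxl : x ∉ l) :
    lineMap L x '' l ∈ L := by
  have hlS' : {s : S | (s : X) ∈ l} ∈ restrict L S := ⟨l, hl, hlS, rfl⟩
  obtain ⟨k', ⟨k, hk, hkS, rfl⟩, hk'w⟩ := hP ⟨x, hx⟩ _ hlS' hxl
  have : lineMap L x '' l = k := by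
    ext w
    constructor
    · rintro ⟨y, hy, rfl⟩
      have hyS := hlS hy
      have hwS : lineMap L x y ∈ S := by
        by_cases h : ∃ z, Third L x y z
        · obtain ⟨z, hz⟩ := h
          rw [lineMap_eq_of_third hL hz]
          exact hS _ hz.2.2.2 x hx y hyS hz.2.2.1 (by simp) (by simp) (by simp)
        · rw [lineMap_eq_self h]; exact hyS
      exact (hk'w ⟨_, hwS⟩).mpr ⟨⟨y, hyS⟩, hy,
        (relT_restrict hS ⟨x, hx⟩ ⟨y, hyS⟩ ⟨_, hwS⟩).mpr ((relT_iff hL).mpr rfl)⟩
    · intro hw
      obtain ⟨y, hy, hrel⟩ := (hk'w ⟨w, hkS hw⟩).mp hw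
      exact ⟨y.1, hy, ((relT_iff hL).mp ((relT_restrict hS ⟨x, hx⟩ y ⟨w, hkS hw⟩).mp hrel)).symm⟩
  rw [this]
  exact hk

theorem lin_of_fischer (hF : IsFischerSpace L) : Lin L := ⟨hF.1, hF.2.1⟩

/-- `t(x)` maps lines to lines in a Fischer space (given the plane property of the two models). -/
theorem image_lineMap_mem_of_fischer (hF : IsFischerSpace L)
    (hP2 : PlaneProp dualAffinePlaneTwo) (hP3 : PlaneProp affinePlaneThree)
    (x : X) {l : Set X} (hl : l ∈ L) : lineMap L x '' l ∈ L := by
  have hL := lin_of_fischer hF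
  by_cases hxl : x ∈ l
  · -- `x ∈ l`: the line is mapped onto itself
    have h3 := hL.three l hl
    obtain ⟨y, hy, hyx⟩ : ∃ y ∈ l, y ≠ x := by
      by_contra hcon
      push Not at hcon
      have : l ⊆ {x} := fun w hw => hcon w hw
      have := Set.ncard_le_ncard this (Set.finite_singleton x)
      rw [h3, Set.ncard_singleton] at this
      omega
    obtain ⟨z, hz, hleq⟩ := exists_third_of_mem hL hl hxl hy hyx.symm
    have : lineMap L x '' l = l := by
      rw [hleq, image_triple, lineMap_self, lineMap_eq_of_third hL hz,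
        lineMap_eq_of_third hL hz.symm_yz]
      ext w; simp only [Set.mem_insert_iff, Set.mem_singleton_iff]; tauto
    rw [this]; exact hl
  by_cases hcol : ∃ y ∈ l, ∃ z, Third L x y z
  · obtain ⟨y, hy, z, hz⟩ := hcol
    have hm : ({x, y, z} : Set X) ∈ L := hz.2.2.2
    have hne : l ≠ {x, y, z} := by
      intro h; apply hxl; rw [h]; simp
    have hint : (l ∩ {x, y, z}).Nonempty := ⟨y, hy, by simp⟩
    have hS : IsSubspace L (span L (l ∪ {x, y, z})) := isSubspace_span _
    have hxS : x ∈ span L (l ∪ {x, y, z}) := subset_span _ (Or.inr (by simp))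
    have hlS : l ⊆ span L (l ∪ {x, y, z}) := fun w hw => subset_span _ (Or.inl hw)
    rcases hF.2.2 l hl _ hm hne hint with ⟨e, he⟩ | ⟨e, he⟩
    · exact image_lineMap_mem hL hS (planeProp_of_iso e he hP2) hxS hl hlS hxl
    · exact image_lineMap_mem hL hS (planeProp_of_iso e he hP3) hxS hl hlS hxl
  · -- no point of `l` is collinear with `x`
    have : lineMap L x '' l = l := by
      ext w
      constructor
      · rintro ⟨y, hy, rfl⟩
        rw [lineMap_eq_self (fun h => hcol ⟨y, hy, h⟩)]
        exact hy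
      · intro hw
        exact ⟨w, hw, lineMap_eq_self (fun h => hcol ⟨w, hw, h⟩)⟩
    rw [this]; exact hl

theorem tau_isIso (hF : IsFischerSpace L)
    (hP2 : PlaneProp dualAffinePlaneTwo) (hP3 : PlaneProp affinePlaneThree) (x : X) :
    IsIso L L (tau (lin_of_fischer hF) x) := by
  intro l
  constructor
  · intro hl
    exact image_lineMap_mem_of_fischer hF hP2 hP3 x hl
  · intro hl
    have h2 := image_lineMap_mem_of_fischer hF hP2 hP3 x hl
    have : lineMap L x '' (tau (lin_of_fischer hF) x '' l) = l := by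
      rw [Set.image_image]
      simp only [tau_apply, lineMap_lineMap (lin_of_fischer hF)]
      exact Set.image_id' l
    rwa [this] at h2

end plane

end Cfsg.Agent.Lib.Helper27.Fischer
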