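import Mathlib
import Cfsg.Agent.Lib.Helper27.Fischer2

/-!
# The plane property for the dual affine plane of order 2 and the affine plane of order 3
-/

set_option autoImplicit false

namespace Cfsg.Agent.Lib.Helper27.Fischer

open Cfsg Cfsg.LineSystem

section dual

/-- decidable version of `Third` in the dual affine plane -/
def T3 (x y w : DualAffinePoint) : Prop :=
  w ≠ x ∧ w ≠ y ∧ x ≠ y ∧ ∃ k : Fin 4, k ∉ x.val ∧ k ∉ y.val ∧ k ∉ w.val

instance (x y w : DualAffinePoint) : Decidable (T3 x y w) := by unfold T3; infer_instance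

def R3 (x y w : DualAffinePoint) : Prop := T3 x y w ∨ (w = y ∧ ¬ ∃ z, T3 x y z)

instance (x y w : DualAffinePoint) : Decidable (R3 x y w) := by unfold R3; infer_instance

set_option synthInstance.maxSize 2000 in
set_option synthInstance.maxHeartbeats 200000 in
set_option maxRecDepth 100000 in
theorem da_L1 : ∀ (i : Fin 4) (x y z s : DualAffinePoint), z ≠ x → z ≠ y → x ≠ y →
    i ∉ x.val → i ∉ y.val → i ∉ z.val → i ∉ s.val → s = x ∨ s = y ∨ s = z := by
  decide

set_option synthInstance.maxSize 2000 in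
set_option synthInstance.maxHeartbeats 200000 in
set_option maxRecDepth 100000 in
theorem da_L3 : ∀ (x : DualAffinePoint) (i : Fin 4), i ∈ x.val →
    ∃ j : Fin 4, ∀ w : DualAffinePoint,
      (j ∉ w.val ↔ ∃ y : DualAffinePoint, i ∉ y.val ∧ R3 x y w) := by
  decide

theorem third_dual (x y z : DualAffinePoint) : Third dualAffinePlaneTwo x y z ↔ T3 x y z := by
  unfold Third T3 dualAffinePlaneTwo
  constructor
  · rintro ⟨h1, h2, h3, i, hi⟩
    refine ⟨h1, h2, h3, i, ?_, ?_, ?_⟩
    · have : x ∈ ({x, y, z} : Set DualAffinePoint) := by simp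
      rw [hi] at this; exact this
    · have : y ∈ ({x, y, z} : Set DualAffinePoint) := by simp
      rw [hi] at this; exact this
    · have : z ∈ ({x, y, z} : Set DualAffinePoint) := by simp
      rw [hi] at this; exact this
  · rintro ⟨h1, h2, h3, i, hx, hy, hz⟩
    refine ⟨h1, h2, h3, i, ?_⟩
    ext s
    simp only [Set.mem_insert_iff, Set.mem_singleton_iff, Set.mem_setOf_eq]
    constructor
    · rintro (rfl | rfl | rfl) <;> assumption
    · intro hs
      exact da_L1 i x y z s h1 h2 h3 hx hy hz hs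

theorem relT_dual (x y w : DualAffinePoint) : RelT dualAffinePlaneTwo x y w ↔ R3 x y w := by
  unfold RelT R3
  rw [third_dual]
  have : (∃ z, Third dualAffinePlaneTwo x y z) ↔ ∃ z, T3 x y z :=
    exists_congr (fun z => third_dual x y z)
  rw [this]

theorem planeProp_dual : PlaneProp dualAffinePlaneTwo := by
  rintro x l ⟨i, rfl⟩ hx
  have hi : i ∈ x.val := by
    by_contra h
    exact hx h
  obtain ⟨j, hj⟩ := da_L3 x i hi
  refine ⟨{s | j ∉ s.val}, ⟨j, rfl⟩, ?_⟩
  intro w
  rw [Set.mem_setOf_eq, hj w]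
  constructor
  · rintro ⟨y, hy, hr⟩
    exact ⟨y, hy, (relT_dual x y w).mpr hr⟩
  · rintro ⟨y, hy, hr⟩
    exact ⟨y, hy, (relT_dual x y w).mp hr⟩

end dual

section affine

theorem zmod3_sum : ∀ a b c : ZMod 3, a ≠ b → a ≠ c → b ≠ c → a + b + c = 0 := by decide

theorem zmod3_a1 : ∀ v w a b c : ZMod 3, a + b + c = 0 →
    v + c * w = -(v + a * w) - (v + b * w) := by decide

theorem zmod3_a2 : ∀ a b : ZMod 3, -a - b = a → a = b := by decide

theorem zmod3_a3 : ∀ a b : ZMod 3, -a - b = a + 2 * (b - a) := by decide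

theorem zmod3_cases : ∀ c : ZMod 3, c = 0 ∨ c = 1 ∨ c = 2 := by decide

theorem third_affine (x y z : Fin 2 → ZMod 3) :
    Third affinePlaneThree x y z ↔ x ≠ y ∧ z = -x - y := by
  unfold Third affinePlaneThree
  constructor
  · rintro ⟨h1, h2, h3, v, w, hw, heq⟩
    refine ⟨h3, ?_⟩
    have hx : x ∈ ({x, y, z} : Set (Fin 2 → ZMod 3)) := by simp
    have hy : y ∈ ({x, y, z} : Set (Fin 2 → ZMod 3)) := by simp
    have hz : z ∈ ({x, y, z} : Set (Fin 2 → ZMod 3)) := by simp
    rw [heq] at hx hy hz
    obtain ⟨a, rfl⟩ := hx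
    obtain ⟨b, rfl⟩ := hy
    obtain ⟨c, rfl⟩ := hz
    have hab : a ≠ b := fun h => h3 (by rw [h])
    have hac : a ≠ c := fun h => h1 (by rw [h])
    have hbc : b ≠ c := fun h => h2 (by rw [h])
    have hsum := zmod3_sum a b c hab hac hbc
    funext i
    simp only [Pi.add_apply, Pi.smul_apply, smul_eq_mul, Pi.sub_apply, Pi.neg_apply]
    exact zmod3_a1 (v i) (w i) a b c hsum
  · rintro ⟨hxy, rfl⟩
    refine ⟨?_, ?_, hxy, x, y - x, sub_ne_zero.mpr hxy.symm, ?_⟩
    · intro h
      apply hxy
      funext i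
      have := congrFun h i
      simp only [Pi.sub_apply, Pi.neg_apply] at this
      exact zmod3_a2 _ _ this
    · intro h
      apply hxy
      funext i
      have := congrFun h i
      simp only [Pi.sub_apply, Pi.neg_apply] at this
      have h3 : -(y i) - x i = -(x i) - y i := by ring
      have h2 : -(y i) - x i = y i := by rw [h3]; exact this
      exact (zmod3_a2 _ _ h2).symm
    · ext u
      simp only [Set.mem_insert_iff, Set.mem_singleton_iff, Set.mem_setOf_eq]
      constructor
      · rintro (rfl | rfl | rfl)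
        · exact ⟨0, by simp⟩
        · exact ⟨1, by simp⟩
        · refine ⟨2, ?_⟩
          funext i
          simp only [Pi.add_apply, Pi.smul_apply, smul_eq_mul, Pi.sub_apply, Pi.neg_apply]
          exact zmod3_a3 _ _
      · rintro ⟨c, rfl⟩
        rcases zmod3_cases c with rfl | rfl | rfl
        · left; simp
        · right; left; simp
        · right; right
          funext i
          simp only [Pi.add_apply, Pi.smul_apply, smul_eq_mul, Pi.sub_apply, Pi.neg_apply]
          exact (zmod3_a3 _ _).symm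

theorem zmod3_a4 : ∀ a : ZMod 3, a = -a - a := by decide

theorem relT_affine (x y w : Fin 2 → ZMod 3) :
    RelT affinePlaneThree x y w ↔ w = -x - y := by
  unfold RelT
  constructor
  · rintro (h | ⟨hwy, h⟩)
    · exact ((third_affine x y w).mp h).2
    · have hxy : x = y := by
        by_contra hne
        exact h ⟨-x - y, (third_affine x y _).mpr ⟨hne, rfl⟩⟩
      rw [hwy, hxy]
      funext i
      simp only [Pi.sub_apply, Pi.neg_apply]
      exact zmod3_a4 _
  · rintro rfl
    by_cases hxy : x = y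
    · right
      refine ⟨?_, ?_⟩
      · rw [hxy]
        funext i
        simp only [Pi.sub_apply, Pi.neg_apply]
        exact (zmod3_a4 _).symm
      · rintro ⟨z, hz⟩
        exact ((third_affine x y z).mp hz).1 hxy
    · left
      exact (third_affine x y _).mpr ⟨hxy, rfl⟩

theorem planeProp_affine : PlaneProp affinePlaneThree := by
  rintro x l ⟨v, w, hw, rfl⟩ -
  refine ⟨{u | ∃ c : ZMod 3, u = (-x - v) + c • (-w)}, ⟨-x - v, -w, neg_ne_zero.mpr hw, rfl⟩, ?_⟩
  intro u
  simp only [Set.mem_setOf_eq]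
  constructor
  · rintro ⟨c, rfl⟩
    refine ⟨v + c • w, ⟨c, rfl⟩, (relT_affine x _ _).mpr ?_⟩
    rw [smul_neg]; abel
  · rintro ⟨y, ⟨c, rfl⟩, hr⟩
    refine ⟨c, ?_⟩
    rw [(relT_affine x _ _).mp hr, smul_neg]; abel

end affine

end Cfsg.Agent.Lib.Helper27.Fischer
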