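import Mathlib
import Cfsg.Agent.Lib.Helper27.Fischer3

/-!
# Recognising the two planes from a labelling
-/

set_option autoImplicit false

namespace Cfsg.Agent.Lib.Helper27.Fischer

open Cfsg Cfsg.LineSystem

section labeling

variable {X : Type*} {L : Set (Set X)}

theorem third_lineMap_of_ne (x y : X) (h : lineMap L x y ≠ y) : Third L x y (lineMap L x y) := by
  by_cases hex : ∃ z, Third L x y z
  · unfold lineMap
    have hex' : ∃ z : X, z ≠ x ∧ z ≠ y ∧ x ≠ y ∧ ({x, y, z} : Set X) ∈ L := hex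
    rw [dif_pos hex']
    exact hex'.choose_spec
  · exact absurd (lineMap_eq_self hex) h

theorem Third.mem (x y z : X) (h : Third L x y z) : ({x, y, z} : Set X) ∈ L := h.2.2.2

theorem Third.rot {x y z : X} (h : Third L x y z) : Third L y z x := h.symm_xy.symm_yz

/-- A labelling `f` of a model `M` by points of `L`, compatible with collinearity, identifies the
model with the subspace `range f`. -/
theorem iso_of_labeling {Y : Type*} {M : Set (Set Y)} (hL : Lin L) (f : Y → X)
    (hf : Function.Injective f)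
    (ha : ∀ y₁ y₂ y₃, Third M y₁ y₂ y₃ → Third L (f y₁) (f y₂) (f y₃))
    (hb : ∀ y₁ y₂ z, Third L (f y₁) (f y₂) z → ∃ y₃, Third M y₁ y₂ y₃)
    (hc : ∀ l ∈ M, ∃ y₁ y₂ y₃, Third M y₁ y₂ y₃ ∧ l = {y₁, y₂, y₃}) :
    IsSubspace L (Set.range f) ∧ Isomorphic (restrict L (Set.range f)) M := by
  -- every line through two points of the range is the image of a model line
  have key : ∀ k ∈ L, ∀ y₁ y₂, f y₁ ∈ k → f y₂ ∈ k → f y₁ ≠ f y₂ →
      ∃ y₃, Third M y₁ y₂ y₃ ∧ k = {f y₁, f y₂, f y₃} := by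
    intro k hk y₁ y₂ h1 h2 hne
    obtain ⟨z, hz, hkeq⟩ := exists_third_of_mem hL hk h1 h2 hne
    obtain ⟨y₃, hy₃⟩ := hb y₁ y₂ z hz
    have := Third.unique hL hz (ha _ _ _ hy₃)
    exact ⟨y₃, hy₃, this ▸ hkeq⟩
  have hsub : IsSubspace L (Set.range f) := by
    rintro l hl _ ⟨y₁, rfl⟩ _ ⟨y₂, rfl⟩ hne h1 h2
    obtain ⟨y₃, -, hkeq⟩ := key l hl y₁ y₂ h1 h2 hne
    rw [hkeq]
    intro w hw
    simp only [Set.mem_insert_iff, Set.mem_singleton_iff] at hw
    rcases hw with rfl | rfl | rfl <;> exact Set.mem_range_self _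
  refine ⟨hsub, (Equiv.ofInjective f hf).symm, ?_⟩
  have he : ∀ s : Set.range f, f ((Equiv.ofInjective f hf).symm s) = s :=
    fun s => Equiv.apply_ofInjective_symm hf s
  have himg : ∀ (k : Set X) (y₁ y₂ y₃ : Y), k = {f y₁, f y₂, f y₃} →
      (Equiv.ofInjective f hf).symm '' {s : Set.range f | (s : X) ∈ k} = {y₁, y₂, y₃} := by
    intro k y₁ y₂ y₃ hk
    ext w
    simp only [Set.mem_image, Set.mem_setOf_eq, Set.mem_insert_iff, Set.mem_singleton_iff]
    constructor
    · rintro ⟨s, hs, rfl⟩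
      rw [hk] at hs
      simp only [Set.mem_insert_iff, Set.mem_singleton_iff] at hs
      rw [← he s] at hs
      rcases hs with h | h | h
      · exact Or.inl (hf h)
      · exact Or.inr (Or.inl (hf h))
      · exact Or.inr (Or.inr (hf h))
    · intro hw
      refine ⟨⟨f w, Set.mem_range_self w⟩, ?_, ?_⟩
      · rw [hk]
        simp only [Set.mem_insert_iff, Set.mem_singleton_iff]
        rcases hw with rfl | rfl | rfl <;> simp
      · apply hf
        rw [he]
  intro l'
  constructor
  · rintro ⟨k, hk, hkS, rfl⟩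
    -- two distinct points of `k`
    have h3 := hL.three k hk
    obtain ⟨x, hx⟩ : k.Nonempty := by
      rw [← Set.ncard_pos (Set.finite_of_ncard_ne_zero (by rw [h3]; norm_num)), h3]; norm_num
    obtain ⟨y, hy, hyx⟩ : ∃ y ∈ k, y ≠ x := by
      by_contra hcon
      push Not at hcon
      have : k ⊆ {x} := fun w hw => hcon w hw
      have := Set.ncard_le_ncard this (Set.finite_singleton x)
      rw [h3, Set.ncard_singleton] at this
      omega
    obtain ⟨y₁, rfl⟩ := hkS hx
    obtain ⟨y₂, rfl⟩ := hkS hy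
    obtain ⟨y₃, hy₃, hkeq⟩ := key k hk y₁ y₂ hx hy hyx.symm
    rw [himg k y₁ y₂ y₃ hkeq]
    exact hy₃.mem
  · intro hl'
    obtain ⟨y₁, y₂, y₃, hy, hleq⟩ := hc _ hl'
    refine ⟨{f y₁, f y₂, f y₃}, (ha _ _ _ hy).mem, ?_, ?_⟩
    · intro w hw
      simp only [Set.mem_insert_iff, Set.mem_singleton_iff] at hw
      rcases hw with rfl | rfl | rfl <;> exact Set.mem_range_self _
    · have h2 := himg {f y₁, f y₂, f y₃} y₁ y₂ y₃ rfl
      rw [← hleq] at h2
      exact (Equiv.ofInjective f hf).symm.injective.image_injective h2.symm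

/-- The span is the range of the labelling when the range is generated by `T`. -/
theorem span_eq_range {Y : Type*} (f : Y → X) (T : Set X) (hsub : IsSubspace L (Set.range f))
    (hT : T ⊆ Set.range f) (hgen : ∀ y, f y ∈ span L T) : span L T = Set.range f := by
  apply Set.Subset.antisymm
  · intro x hx
    exact Set.mem_sInter.mp hx _ ⟨hT, hsub⟩
  · rintro _ ⟨y, rfl⟩
    exact hgen y

theorem third_mem_span {T : Set X} {x y z : X} (h : Third L x y z) (hx : x ∈ span L T)
    (hy : y ∈ span L T) : z ∈ span L T :=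
  isSubspace_span T _ h.mem x hx y hy h.2.2.1 (by simp) (by simp) (by simp)

end labeling

end Cfsg.Agent.Lib.Helper27.Fischer
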