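import Mathlib
import Cfsg.Agent.Lib.Helper27.Fischer4

/-!
# Labelled copies of the dual affine plane of order 2 and the affine plane of order 3
-/

set_option autoImplicit false

namespace Cfsg.Agent.Lib.Helper27.Fischer

open Cfsg Cfsg.LineSystem

section perm

/-- `p` is a permutation of the triple `q`. -/
def permOf {n : ℕ} (p q : Fin n × Fin n × Fin n) : Prop :=
  p = q ∨ p = (q.1, q.2.2, q.2.1) ∨ p = (q.2.1, q.1, q.2.2) ∨ p = (q.2.1, q.2.2, q.1) ∨
    p = (q.2.2, q.1, q.2.1) ∨ p = (q.2.2, q.2.1, q.1)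

instance {n : ℕ} (p q : Fin n × Fin n × Fin n) : Decidable (permOf p q) := by
  unfold permOf; infer_instance

variable {X : Type*} {L : Set (Set X)} {n : ℕ}

/-- the triple of labelled points is a line -/
def Good (L : Set (Set X)) (pt : Fin n → X) (p : Fin n × Fin n × Fin n) : Prop :=
  Third L (pt p.1) (pt p.2.1) (pt p.2.2)

theorem good_of_perm (pt : Fin n → X) {p q : Fin n × Fin n × Fin n} (hq : Good L pt q)
    (h : permOf p q) : Good L pt p := by
  obtain ⟨q1, q2, q3⟩ := q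
  rcases h with rfl | rfl | rfl | rfl | rfl | rfl
  · exact hq
  · exact Third.symm_yz hq
  · exact Third.symm_xy hq
  · exact Third.rot hq
  · exact Third.rot (Third.rot hq)
  · exact Third.symm_yz (Third.rot (Third.rot hq))

end perm

section dual

variable {X : Type*} {L : Set (Set X)}

/-- the code of a point of the dual affine plane -/
def codeA (s : DualAffinePoint) : Fin 6 :=
  if 0 ∈ s.val then (if 1 ∈ s.val then 0 else if 2 ∈ s.val then 2 else 3)
  else if 1 ∈ s.val then (if 2 ∈ s.val then 1 else 4) else 5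

def baseA : List (Fin 6 × Fin 6 × Fin 6) := [(0, 1, 2), (0, 3, 4), (1, 4, 5), (3, 5, 2)]

def noncolA : List (Fin 6 × Fin 6) := [(1, 3), (3, 1), (2, 4), (4, 2), (0, 5), (5, 0)]

set_option synthInstance.maxSize 2000 in
set_option synthInstance.maxHeartbeats 200000 in
set_option maxRecDepth 100000 in
theorem codeA_D1 : ∀ s t w : DualAffinePoint, T3 s t w →
    ∃ tr ∈ baseA, permOf (codeA s, codeA t, codeA w) tr := by
  decide

set_option synthInstance.maxSize 2000 in
set_option synthInstance.maxHeartbeats 200000 in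
set_option maxRecDepth 100000 in
theorem codeA_D2 : ∀ s t : DualAffinePoint, s ≠ t → (¬ ∃ w, T3 s t w) →
    (codeA s, codeA t) ∈ noncolA := by
  decide

set_option synthInstance.maxSize 2000 in
set_option synthInstance.maxHeartbeats 200000 in
set_option maxRecDepth 100000 in
theorem codeA_D4 : ∀ i : Fin 4, ∃ s t w : DualAffinePoint, T3 s t w ∧
    ∀ u : DualAffinePoint, (i ∉ u.val ↔ u = s ∨ u = t ∨ u = w) := by
  decide

/-- The data of a labelled dual affine plane. -/
structure DualData (L : Set (Set X)) (pt : Fin 6 → X) : Prop where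
  l1 : Third L (pt 0) (pt 1) (pt 2)
  l2 : Third L (pt 0) (pt 3) (pt 4)
  l3 : Third L (pt 1) (pt 4) (pt 5)
  l4 : Third L (pt 3) (pt 5) (pt 2)
  n1 : ¬ ∃ z, Third L (pt 1) (pt 3) z
  n2 : ¬ ∃ z, Third L (pt 2) (pt 4) z
  n3 : ¬ ∃ z, Third L (pt 0) (pt 5) z
  d1 : pt 1 ≠ pt 3
  d2 : pt 2 ≠ pt 4
  d3 : pt 0 ≠ pt 5

theorem DualData.good {pt : Fin 6 → X} (h : DualData L pt) :
    ∀ tr ∈ baseA, Good L pt tr := by
  intro tr htr
  simp only [baseA, List.mem_cons, List.not_mem_nil, or_false] at htr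
  rcases htr with rfl | rfl | rfl | rfl
  · exact h.l1
  · exact h.l2
  · exact h.l3
  · exact h.l4

theorem DualData.noncol {pt : Fin 6 → X} (h : DualData L pt) :
    ∀ pr ∈ noncolA, pt pr.1 ≠ pt pr.2 ∧ ¬ ∃ z, Third L (pt pr.1) (pt pr.2) z := by
  intro pr hpr
  simp only [noncolA, List.mem_cons, List.not_mem_nil, or_false] at hpr
  rcases hpr with rfl | rfl | rfl | rfl | rfl | rfl
  · exact ⟨h.d1, h.n1⟩
  · exact ⟨h.d1.symm, fun ⟨z, hz⟩ => h.n1 ⟨z, hz.symm_xy⟩⟩
  · exact ⟨h.d2, h.n2⟩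
  · exact ⟨h.d2.symm, fun ⟨z, hz⟩ => h.n2 ⟨z, hz.symm_xy⟩⟩
  · exact ⟨h.d3, h.n3⟩
  · exact ⟨h.d3.symm, fun ⟨z, hz⟩ => h.n3 ⟨z, hz.symm_xy⟩⟩

theorem dual_iso (hL : Lin L) {pt : Fin 6 → X} (h : DualData L pt) :
    IsSubspace L (Set.range (fun s => pt (codeA s))) ∧
      Isomorphic (restrict L (Set.range (fun s => pt (codeA s)))) dualAffinePlaneTwo := by
  have ha : ∀ s t w, Third dualAffinePlaneTwo s t w →
      Third L (pt (codeA s)) (pt (codeA t)) (pt (codeA w)) := by
    intro s t w hstw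
    obtain ⟨tr, htr, hperm⟩ := codeA_D1 s t w ((third_dual s t w).mp hstw)
    exact good_of_perm pt (h.good tr htr) hperm
  have hb : ∀ s t z, Third L (pt (codeA s)) (pt (codeA t)) z →
      ∃ w, Third dualAffinePlaneTwo s t w := by
    intro s t z hz
    by_contra hcon
    have hst : s ≠ t := by
      rintro rfl
      exact hz.2.2.1 rfl
    have h2 : ¬ ∃ w, T3 s t w := fun ⟨w, hw⟩ => hcon ⟨w, (third_dual s t w).mpr hw⟩
    exact (h.noncol _ (codeA_D2 s t hst h2)).2 ⟨z, hz⟩
  have hf : Function.Injective (fun s => pt (codeA s)) := by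
    intro s t hst
    by_contra hne
    by_cases h2 : ∃ w, T3 s t w
    · obtain ⟨w, hw⟩ := h2
      exact (ha s t w ((third_dual s t w).mpr hw)).2.2.1 hst
    · exact (h.noncol _ (codeA_D2 s t hne h2)).1 hst
  have hc : ∀ l ∈ dualAffinePlaneTwo, ∃ s t w, Third dualAffinePlaneTwo s t w ∧ l = {s, t, w} := by
    rintro l ⟨i, rfl⟩
    obtain ⟨s, t, w, hstw, hu⟩ := codeA_D4 i
    refine ⟨s, t, w, (third_dual s t w).mpr hstw, ?_⟩
    ext u
    simp only [Set.mem_setOf_eq, Set.mem_insert_iff, Set.mem_singleton_iff]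
    exact hu u
  exact iso_of_labeling hL _ hf ha hb hc

end dual

end Cfsg.Agent.Lib.Helper27.Fischer
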