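import Mathlib
import Cfsg.Agent.Lib.Helper27.Fischer5

/-!
# Labelled copies of the affine plane of order 3
-/

set_option autoImplicit false

namespace Cfsg.Agent.Lib.Helper27.Fischer

open Cfsg Cfsg.LineSystem

section affine

variable {X : Type*} {L : Set (Set X)}

/-- the code of a point of the affine plane of order three -/
def codeB (u : Fin 2 → ZMod 3) : Fin 9 :=
  ⟨3 * (u 0).val + (u 1).val, by
    have h0 := ZMod.val_lt (u 0)
    have h1 := ZMod.val_lt (u 1)
    omega⟩

def baseB : List (Fin 9 × Fin 9 × Fin 9) :=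
  [(0, 1, 2), (3, 4, 5), (6, 7, 8), (0, 3, 6), (1, 4, 7), (2, 5, 8),
   (0, 4, 8), (1, 5, 6), (2, 3, 7), (0, 5, 7), (1, 3, 8), (2, 4, 6)]

set_option synthInstance.maxSize 2000 in
set_option synthInstance.maxHeartbeats 200000 in
set_option maxRecDepth 100000 in
theorem codeB_D1 : ∀ u v : Fin 2 → ZMod 3, u ≠ v →
    ∃ tr ∈ baseB, permOf (codeB u, codeB v, codeB (-u - v)) tr := by
  decide

/-- The data of a labelled affine plane of order three. -/
structure AffData (L : Set (Set X)) (pt : Fin 9 → X) : Prop where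
  l1 : Third L (pt 0) (pt 1) (pt 2)
  l2 : Third L (pt 3) (pt 4) (pt 5)
  l3 : Third L (pt 6) (pt 7) (pt 8)
  l4 : Third L (pt 0) (pt 3) (pt 6)
  l5 : Third L (pt 1) (pt 4) (pt 7)
  l6 : Third L (pt 2) (pt 5) (pt 8)
  l7 : Third L (pt 0) (pt 4) (pt 8)
  l8 : Third L (pt 1) (pt 5) (pt 6)
  l9 : Third L (pt 2) (pt 3) (pt 7)
  l10 : Third L (pt 0) (pt 5) (pt 7)
  l11 : Third L (pt 1) (pt 3) (pt 8)
  l12 : Third L (pt 2) (pt 4) (pt 6)

theorem AffData.good {pt : Fin 9 → X} (h : AffData L pt) :
    ∀ tr ∈ baseB, Good L pt tr := by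
  intro tr htr
  simp only [baseB, List.mem_cons, List.not_mem_nil, or_false] at htr
  rcases htr with rfl | rfl | rfl | rfl | rfl | rfl | rfl | rfl | rfl | rfl | rfl | rfl
  · exact h.l1
  · exact h.l2
  · exact h.l3
  · exact h.l4
  · exact h.l5
  · exact h.l6
  · exact h.l7
  · exact h.l8
  · exact h.l9
  · exact h.l10
  · exact h.l11
  · exact h.l12

theorem zmod3_a5 : ∀ a b : ZMod 3, -a - (a + b) = a + 2 * b := by decide

theorem aff_iso (hL : Lin L) {pt : Fin 9 → X} (h : AffData L pt) :
    IsSubspace L (Set.range (fun u => pt (codeB u))) ∧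
      Isomorphic (restrict L (Set.range (fun u => pt (codeB u)))) affinePlaneThree := by
  have ha' : ∀ u v : Fin 2 → ZMod 3, u ≠ v →
      Third L (pt (codeB u)) (pt (codeB v)) (pt (codeB (-u - v))) := by
    intro u v huv
    obtain ⟨tr, htr, hperm⟩ := codeB_D1 u v huv
    exact good_of_perm pt (h.good tr htr) hperm
  have ha : ∀ u v w, Third affinePlaneThree u v w →
      Third L (pt (codeB u)) (pt (codeB v)) (pt (codeB w)) := by
    intro u v w huvw
    obtain ⟨huv, rfl⟩ := (third_affine u v w).mp huvw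
    exact ha' u v huv
  have hb : ∀ u v z, Third L (pt (codeB u)) (pt (codeB v)) z →
      ∃ w, Third affinePlaneThree u v w := by
    intro u v z hz
    have huv : u ≠ v := by
      rintro rfl
      exact hz.2.2.1 rfl
    exact ⟨-u - v, (third_affine u v _).mpr ⟨huv, rfl⟩⟩
  have hf : Function.Injective (fun u => pt (codeB u)) := by
    intro u v huv
    by_contra hne
    exact (ha' u v hne).2.2.1 huv
  have hc : ∀ l ∈ affinePlaneThree, ∃ u v w, Third affinePlaneThree u v w ∧ l = {u, v, w} := by
    rintro l ⟨v, w, hw, rfl⟩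
    have hne : v ≠ v + w := by
      intro h
      apply hw
      have : v + w = v + 0 := by rw [add_zero]; exact h.symm
      exact add_left_cancel this
    refine ⟨v, v + w, -v - (v + w), (third_affine _ _ _).mpr ⟨hne, rfl⟩, ?_⟩
    have h2 : -v - (v + w) = v + (2 : ZMod 3) • w := by
      funext i
      simp only [Pi.add_apply, Pi.smul_apply, smul_eq_mul, Pi.sub_apply, Pi.neg_apply]
      exact zmod3_a5 _ _
    ext x
    simp only [Set.mem_setOf_eq, Set.mem_insert_iff, Set.mem_singleton_iff]
    constructor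
    · rintro ⟨c, rfl⟩
      rcases zmod3_cases c with rfl | rfl | rfl
      · left; simp
      · right; left; simp
      · right; right; exact h2.symm
    · rintro (rfl | rfl | rfl)
      · exact ⟨0, by simp⟩
      · exact ⟨1, by simp⟩
      · exact ⟨2, h2⟩
  exact iso_of_labeling hL _ hf ha hb hc

end affine

end Cfsg.Agent.Lib.Helper27.Fischer
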