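import Mathlib
import Cfsg.Agent.Lib.Helper27.Fischer6

/-!
# If all `t(x)` are automorphisms then the space is a Fischer space
-/

set_option autoImplicit false

namespace Cfsg.Agent.Lib.Helper27.Fischer

open Cfsg Cfsg.LineSystem

section auto

variable {X : Type*} {L : Set (Set X)}

theorem Third.map_tau (hL : Lin L) (hT : ∀ x, IsIso L L (tau hL x)) (x : X) {y w z : X}
    (h : Third L y w z) : Third L (lineMap L x y) (lineMap L x w) (lineMap L x z) :=
  (third_iso (tau hL x) (hT x) y w z).mp h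

/-- Case A: a cross pair `b, c` is not collinear: the dual affine plane. -/
theorem caseA (hL : Lin L) (hT : ∀ x, IsIso L L (tau hL x)) {a b b' c c' : X}
    (h1 : Third L a b b') (h2 : Third L a c c') (hc'b' : c' ≠ b')
    (hbc : ¬ ∃ z, Third L b c z) (hbcne : b ≠ c) :
    Isomorphic (restrict L (span L ({a, b, b'} ∪ {a, c, c'}))) dualAffinePlaneTwo := by
  have Tab : lineMap L a b = b' := lineMap_eq_of_third hL h1
  have Tab' : lineMap L a b' = b := lineMap_eq_of_third hL h1.symm_yz
  have Tac : lineMap L a c = c' := lineMap_eq_of_third hL h2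
  have Tac' : lineMap L a c' = c := lineMap_eq_of_third hL h2.symm_yz
  -- `b', c'` are not collinear
  have s1 : ¬ ∃ z, Third L b' c' z := by
    rintro ⟨z, hz⟩
    have := hz.map_tau hL hT a
    rw [Tab', Tac'] at this
    exact hbc ⟨_, this⟩
  -- `b, c'` are collinear
  have s2 : ∃ z, Third L b c' z := by
    by_contra h
    have Tbc : lineMap L b c = c := lineMap_eq_self hbc
    have Tbc' : lineMap L b c' = c' := lineMap_eq_self h
    have Tba : lineMap L b a = b' := lineMap_eq_of_third hL h1.symm_xy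
    have := h2.map_tau hL hT b
    rw [Tba, Tbc, Tbc'] at this
    have h3 := Third.unique hL h2.rot this.rot
    exact h1.1 h3.symm
  obtain ⟨d, hd⟩ := s2
  have Tcb : lineMap L c b = b := lineMap_eq_self (fun ⟨z, hz⟩ => hbc ⟨z, hz.symm_xy⟩)
  have Tcc' : lineMap L c c' = a := lineMap_eq_of_third hL h2.rot
  have Tcd : lineMap L c d = b' := by
    have := hd.map_tau hL hT c
    rw [Tcb, Tcc'] at this
    exact (Third.unique hL h1.symm_xy this).symm
  have hdb' : d ≠ b' := by
    rintro rfl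
    have := Third.unique hL hd.symm_yz h1.symm_xy.symm_yz
    exact h2.1 this
  have hcd : Third L c d b' := by
    have := third_lineMap_of_ne c d (by rw [Tcd]; exact hdb'.symm)
    rwa [Tcd] at this
  have s4 : ¬ ∃ e, Third L a d e := by
    rintro ⟨e, he⟩
    have := hd.map_tau hL hT a
    rw [Tab, Tac', lineMap_eq_of_third hL he] at this
    have h3 := Third.unique hL this hcd.rot.rot
    exact he.2.1 h3
  have s5 : a ≠ d := by
    rintro rfl
    have := Third.unique hL hd.symm_yz h1.symm_xy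
    exact hc'b' this
  -- the labelling
  have hdata : DualData L ![a, b, b', c, c', d] :=
    { l1 := h1
      l2 := h2
      l3 := hd
      l4 := hcd
      n1 := hbc
      n2 := s1
      n3 := s4
      d1 := hbcne
      d2 := hc'b'.symm
      d3 := s5 }
  obtain ⟨hsub, hiso⟩ := dual_iso hL hdata
  have hspan : span L ({a, b, b'} ∪ {a, c, c'}) =
      Set.range (fun s => (![a, b, b', c, c', d] : Fin 6 → X) (codeA s)) := by
    apply span_eq_range _ _ hsub
    · intro x hx
      simp only [Set.mem_union, Set.mem_insert_iff, Set.mem_singleton_iff] at hx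
      rcases hx with (rfl | rfl | rfl) | (rfl | rfl | rfl)
      · exact ⟨⟨{0, 1}, rfl⟩, rfl⟩
      · exact ⟨⟨{1, 2}, rfl⟩, rfl⟩
      · exact ⟨⟨{0, 2}, rfl⟩, rfl⟩
      · exact ⟨⟨{0, 1}, rfl⟩, rfl⟩
      · exact ⟨⟨{0, 3}, rfl⟩, rfl⟩
      · exact ⟨⟨{1, 3}, rfl⟩, rfl⟩
    · have hpts : ∀ i : Fin 6, (![a, b, b', c, c', d] : Fin 6 → X) i ∈
          span L ({a, b, b'} ∪ {a, c, c'}) := by
        have ha : a ∈ span L ({a, b, b'} ∪ {a, c, c'}) := subset_span _ (Or.inl (by simp))
        have hb : b ∈ span L ({a, b, b'} ∪ {a, c, c'}) := subset_span _ (Or.inl (by simp))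
        have hb' : b' ∈ span L ({a, b, b'} ∪ {a, c, c'}) := subset_span _ (Or.inl (by simp))
        have hc : c ∈ span L ({a, b, b'} ∪ {a, c, c'}) := subset_span _ (Or.inr (by simp))
        have hc' : c' ∈ span L ({a, b, b'} ∪ {a, c, c'}) := subset_span _ (Or.inr (by simp))
        have hd' : d ∈ span L ({a, b, b'} ∪ {a, c, c'}) := third_mem_span hd hb hc'
        intro i
        fin_cases i
        · exact ha
        · exact hb
        · exact hb'
        · exact hc
        · exact hc'
        · exact hd'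
      intro s
      exact hpts _
  rw [hspan]
  exact hiso

/-- Case B: all cross pairs are collinear: the affine plane of order three. -/
theorem caseB (hL : Lin L) (hT : ∀ x, IsIso L L (tau hL x)) {a b b' c c' d₁ d₂ d₃ d₄ : X}
    (h1 : Third L a b b') (h2 : Third L a c c')
    (hd₁ : Third L b c d₁) (hd₂ : Third L b c' d₂) (hd₃ : Third L b' c d₃)
    (hd₄ : Third L b' c' d₄) :
    Isomorphic (restrict L (span L ({a, b, b'} ∪ {a, c, c'}))) affinePlaneThree := by
  have Tba : lineMap L b a = b' := lineMap_eq_of_third hL h1.symm_xy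
  have Tbc : lineMap L b c = d₁ := lineMap_eq_of_third hL hd₁
  have Tbc' : lineMap L b c' = d₂ := lineMap_eq_of_third hL hd₂
  have Tb'a : lineMap L b' a = b := lineMap_eq_of_third hL h1.rot.rot
  have Tb'c : lineMap L b' c = d₃ := lineMap_eq_of_third hL hd₃
  have Tb'c' : lineMap L b' c' = d₄ := lineMap_eq_of_third hL hd₄
  have Tca : lineMap L c a = c' := lineMap_eq_of_third hL h2.symm_xy
  have Tcb : lineMap L c b = d₁ := lineMap_eq_of_third hL hd₁.symm_xy
  have Tcb' : lineMap L c b' = d₃ := lineMap_eq_of_third hL hd₃.symm_xy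
  have Tc'a : lineMap L c' a = c := lineMap_eq_of_third hL h2.rot.rot
  have Tc'b : lineMap L c' b = d₂ := lineMap_eq_of_third hL hd₂.symm_xy
  have Tc'b' : lineMap L c' b' = d₄ := lineMap_eq_of_third hL hd₄.symm_xy
  have Tbb' : lineMap L b b' = a := lineMap_eq_of_third hL h1.rot
  -- line 7: `b' d₁ d₂`
  have L7 : Third L b' d₁ d₂ := by
    have := h2.map_tau hL hT b
    rwa [Tba, Tbc, Tbc'] at this
  -- line 8: `b d₃ d₄`
  have L8 : Third L b d₃ d₄ := by
    have := h2.map_tau hL hT b'
    rwa [Tb'a, Tb'c, Tb'c'] at this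
  -- line 9: `c' d₁ d₃`
  have L9 : Third L c' d₁ d₃ := by
    have := h1.map_tau hL hT c
    rwa [Tca, Tcb, Tcb'] at this
  -- line 10: `c d₂ d₄`
  have L10 : Third L c d₂ d₄ := by
    have := h1.map_tau hL hT c'
    rwa [Tc'a, Tc'b, Tc'b'] at this
  have Tbd₃ : lineMap L b d₃ = d₄ := lineMap_eq_of_third hL L8
  have Tbd₄ : lineMap L b d₄ = d₃ := lineMap_eq_of_third hL L8.symm_yz
  -- line 11: `a d₁ d₄`
  have L11 : Third L a d₁ d₄ := by
    have := hd₃.map_tau hL hT b
    rwa [Tbb', Tbc, Tbd₃] at this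
  -- line 12: `a d₂ d₃`
  have L12 : Third L a d₂ d₃ := by
    have := hd₄.map_tau hL hT b
    rwa [Tbb', Tbc', Tbd₄] at this
  have hdata : AffData L ![a, c, c', b, d₄, d₃, b', d₂, d₁] :=
    { l1 := h2
      l2 := L8.symm_yz
      l3 := L7.symm_yz
      l4 := h1
      l5 := L10.symm_yz
      l6 := L9.symm_yz
      l7 := L11.symm_yz
      l8 := hd₃.rot
      l9 := hd₂.symm_xy
      l10 := L12.symm_yz
      l11 := hd₁.symm_xy
      l12 := hd₄.rot }
  obtain ⟨hsub, hiso⟩ := aff_iso hL hdata
  have hcode : ∀ i j : ZMod 3, codeB ![i, j] = ⟨3 * i.val + j.val, by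
      have h0 := ZMod.val_lt i
      have h1 := ZMod.val_lt j
      omega⟩ := fun i j => rfl
  have hspan : span L ({a, b, b'} ∪ {a, c, c'}) =
      Set.range (fun u => (![a, c, c', b, d₄, d₃, b', d₂, d₁] : Fin 9 → X) (codeB u)) := by
    apply span_eq_range _ _ hsub
    · intro x hx
      simp only [Set.mem_union, Set.mem_insert_iff, Set.mem_singleton_iff] at hx
      rcases hx with (rfl | rfl | rfl) | (rfl | rfl | rfl)
      · exact ⟨![0, 0], rfl⟩
      · exact ⟨![1, 0], rfl⟩
      · exact ⟨![2, 0], rfl⟩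
      · exact ⟨![0, 0], rfl⟩
      · exact ⟨![0, 1], rfl⟩
      · exact ⟨![0, 2], rfl⟩
    · have hpts : ∀ i : Fin 9, (![a, c, c', b, d₄, d₃, b', d₂, d₁] : Fin 9 → X) i ∈
          span L ({a, b, b'} ∪ {a, c, c'}) := by
        have ha : a ∈ span L ({a, b, b'} ∪ {a, c, c'}) := subset_span _ (Or.inl (by simp))
        have hb : b ∈ span L ({a, b, b'} ∪ {a, c, c'}) := subset_span _ (Or.inl (by simp))
        have hb' : b' ∈ span L ({a, b, b'} ∪ {a, c, c'}) := subset_span _ (Or.inl (by simp))
        have hc : c ∈ span L ({a, b, b'} ∪ {a, c, c'}) := subset_span _ (Or.inr (by simp))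
        have hc' : c' ∈ span L ({a, b, b'} ∪ {a, c, c'}) := subset_span _ (Or.inr (by simp))
        intro i
        fin_cases i
        · exact ha
        · exact hc
        · exact hc'
        · exact hb
        · exact third_mem_span hd₄ hb' hc'
        · exact third_mem_span hd₃ hb' hc
        · exact hb'
        · exact third_mem_span hd₂ hb hc'
        · exact third_mem_span hd₁ hb hc
      intro u
      exact hpts _
  rw [hspan]
  exact hiso

theorem exists_ne_of_mem_line (hL : Lin L) {l : Set X} (hl : l ∈ L) (a : X) :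
    ∃ b ∈ l, b ≠ a := by
  have h3 := hL.three l hl
  by_contra hcon
  push Not at hcon
  have : l ⊆ {a} := fun w hw => hcon w hw
  have := Set.ncard_le_ncard this (Set.finite_singleton a)
  rw [h3, Set.ncard_singleton] at this
  omega

/-- A partial linear space with three-point lines in which every `t(x)` is an automorphism is a
Fischer space. -/
theorem fischer_of_auto (hL : Lin L) (hT : ∀ x, IsIso L L (tau hL x)) : IsFischerSpace L := by
  refine ⟨hL.pl, hL.three, ?_⟩
  rintro l hl m hm hne ⟨a, hal, ham⟩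
  obtain ⟨b, hb, hba⟩ := exists_ne_of_mem_line hL hl a
  obtain ⟨b', h1, hleq⟩ := exists_third_of_mem hL hl hal hb hba.symm
  obtain ⟨c, hc, hca⟩ := exists_ne_of_mem_line hL hm a
  obtain ⟨c', h2, hmeq⟩ := exists_third_of_mem hL hm ham hc hca.symm
  have hcl : ∀ x ∈ m, x ≠ a → x ∉ l := by
    intro x hxm hxa hxl
    exact hne (hL.pl l hl m hm a x hxa.symm hal hxl ham hxm)
  have hc'm : c' ∈ m := by rw [hmeq]; simp
  have hcnl := hcl c hc hca
  have hc'nl := hcl c' hc'm h2.1
  rw [hleq] at hcnl hc'nl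
  simp only [Set.mem_insert_iff, Set.mem_singleton_iff, not_or] at hcnl hc'nl
  obtain ⟨-, hcb, hcb'⟩ := hcnl
  obtain ⟨-, hc'b, hc'b'⟩ := hc'nl
  rw [hleq, hmeq]
  have hsetc : ({a, c, c'} : Set X) = {a, c', c} := by
    ext w; simp only [Set.mem_insert_iff, Set.mem_singleton_iff]; tauto
  have hsetb : ({a, b, b'} : Set X) = {a, b', b} := by
    ext w; simp only [Set.mem_insert_iff, Set.mem_singleton_iff]; tauto
  by_cases hbc : ∃ z, Third L b c z
  swap
  · left
    exact caseA hL hT h1 h2 hc'b' hbc (Ne.symm hcb)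
  by_cases hbc' : ∃ z, Third L b c' z
  swap
  · left
    rw [hsetc]
    exact caseA hL hT h1 h2.symm_yz hcb' hbc' (Ne.symm hc'b)
  by_cases hb'c : ∃ z, Third L b' c z
  swap
  · left
    rw [hsetb]
    exact caseA hL hT h1.symm_yz h2 hc'b hb'c (Ne.symm hcb')
  by_cases hb'c' : ∃ z, Third L b' c' z
  swap
  · left
    rw [hsetb, hsetc]
    exact caseA hL hT h1.symm_yz h2.symm_yz hcb hb'c' (Ne.symm hc'b')
  right
  obtain ⟨d₁, hd₁⟩ := hbc
  obtain ⟨d₂, hd₂⟩ := hbc'
  obtain ⟨d₃, hd₃⟩ := hb'c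
  obtain ⟨d₄, hd₄⟩ := hb'c'
  exact caseB hL hT h1 h2 hd₁ hd₂ hd₃ hd₄

end auto

end Cfsg.Agent.Lib.Helper27.Fischer
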