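import Mathlib
import Cfsg.Agent.Lib.Helper27.Fischer7

/-!
# The Fischer space of a class of 3-transpositions
-/

set_option autoImplicit false

namespace Cfsg.Agent.Lib.Helper27.Fischer

open Cfsg Cfsg.LineSystem

section words

variable {G : Type*} [Group G] {p q : G}

theorem w_inv (hp : p * p = 1) : p⁻¹ = p := inv_eq_of_mul_eq_one_right hp

theorem w1 (hp : p * p = 1) (hq : q * q = 1) (hb : p * q * p = q * p * q) :
    p * q * p⁻¹ = q * p * q⁻¹ := by
  rw [w_inv hp, w_inv hq, hb]

theorem w2 (hp : p * p = 1) (hq : q * q = 1) (hb : p * q * p = q * p * q) :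
    (q * p * q⁻¹) * p * (q * p * q⁻¹)⁻¹ = q := by
  rw [w_inv hq]
  have hinv : (q * p * q)⁻¹ = q * p * q := by
    rw [mul_inv_rev, mul_inv_rev, w_inv hp, w_inv hq, mul_assoc]
  rw [hinv]
  calc q * p * q * p * (q * p * q) = q * (p * q * p) * (q * p * q) := by group
    _ = q * (q * p * q) * (q * p * q) := by rw [hb]
    _ = (q * q) * p * (q * q) * p * q := by group
    _ = q := by rw [hq, one_mul, mul_one, hp, one_mul]

theorem w3 (hp : p * p = 1) (hq : q * q = 1) (hb : p * q * p = q * p * q) :
    p * (q * p * q⁻¹) * p⁻¹ = q := by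
  rw [w_inv hq, w_inv hp]
  calc p * (q * p * q) * p = (p * q * p) * q * p := by group
    _ = (q * p * q) * q * p := by rw [hb]
    _ = q * p * (q * q) * p := by group
    _ = q := by rw [hq, mul_one, mul_assoc, hp, mul_one]

theorem w4 (hq : q * q = 1) : q * (q * p * q⁻¹) * q⁻¹ = p := by
  rw [w_inv hq]
  calc q * (q * p * q) * q = (q * q) * p * (q * q) := by group
    _ = p := by rw [hq, one_mul, mul_one]

theorem w5 (hp : p * p = 1) (hq : q * q = 1) (hb : p * q * p = q * p * q) :
    (q * p * q⁻¹) * q * (q * p * q⁻¹)⁻¹ = p := by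
  rw [w_inv hq]
  have hinv : (q * p * q)⁻¹ = q * p * q := by
    rw [mul_inv_rev, mul_inv_rev, w_inv hp, w_inv hq, mul_assoc]
  rw [hinv]
  calc q * p * q * q * (q * p * q) = q * p * (q * q) * q * p * q := by group
    _ = q * (p * q * p) * q := by rw [hq, mul_one]; group
    _ = q * (q * p * q) * q := by rw [hb]
    _ = (q * q) * p * (q * q) := by group
    _ = p := by rw [hq, one_mul, mul_one]

end words

section group

variable {G : Type*} [Group G] {D : Set G}

/-- the standing hypotheses -/
structure TT (D : Set G) : Prop where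
  set : IsThreeTranspositionSet D
  conj : ∀ g : G, ∀ d ∈ D, g * d * g⁻¹ ∈ D

theorem TT.sq (h : TT D) (x : D) : (x : G) * x = 1 := by
  have := h.set.1 x x.2
  rw [← pow_two, ← this]
  exact pow_orderOf_eq_one _

theorem TT.braid (h : TT D) (x y : D) (hxy : ¬ Commute (x : G) y) :
    (x : G) * y * x = y * x * y := by
  have hx := h.sq x
  have hy := h.sq y
  rcases h.set.2 x x.2 y y.2 with h2 | h3
  · exfalso
    apply hxy
    have h4 : (x : G) * (y : G) * ((x : G) * (y : G)) = 1 := by rw [← pow_two]; exact h2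
    have h5 : (x : G) * (y : G) = ((x : G) * (y : G))⁻¹ := eq_inv_of_mul_eq_one_left h4
    rw [mul_inv_rev, w_inv hx, w_inv hy] at h5
    exact h5
  · have h4 : ((x : G) * (y : G) * (x : G)) * ((y : G) * (x : G) * (y : G)) = 1 := by
      have : ((x : G) * (y : G)) ^ 3 =
          ((x : G) * (y : G) * (x : G)) * ((y : G) * (x : G) * (y : G)) := by
        simp only [pow_succ, pow_zero, one_mul, mul_assoc]
      rw [← this]; exact h3
    have h5 : (x : G) * (y : G) * (x : G) = ((y : G) * (x : G) * (y : G))⁻¹ :=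
      eq_inv_of_mul_eq_one_left h4
    rw [mul_inv_rev, mul_inv_rev, w_inv hx, w_inv hy, ← mul_assoc] at h5
    exact h5

/-- conjugate of `y` by `x`, as a member of `D` -/
def cj (h : TT D) (x y : D) : D := ⟨(x : G) * y * (x : G)⁻¹, h.conj x y y.2⟩

@[simp] theorem cj_coe (h : TT D) (x y : D) : ((cj h x y : D) : G) = (x : G) * y * (x : G)⁻¹ := rfl

theorem cj_of_commute (h : TT D) (x y : D) (hxy : Commute (x : G) y) : cj h x y = y := by
  apply Subtype.ext
  rw [cj_coe, hxy.eq, mul_inv_cancel_right]

theorem cj_symm (h : TT D) (x y : D) (hxy : ¬ Commute (x : G) y) : cj h x y = cj h y x := by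
  apply Subtype.ext
  rw [cj_coe, cj_coe]
  exact w1 (h.sq x) (h.sq y) (h.braid x y hxy)

theorem cj_ne_left (h : TT D) (x y : D) (hxy : ¬ Commute (x : G) y) : cj h y x ≠ x := by
  intro heq
  apply hxy
  have := congrArg Subtype.val heq
  rw [cj_coe] at this
  have h2 : (y : G) * (x : G) = (x : G) * (y : G) :=
    calc (y : G) * (x : G) = ((y : G) * (x : G) * (y : G)⁻¹) * (y : G) := by group
      _ = (x : G) * (y : G) := by rw [this]
  exact h2.symm

theorem ne_of_not_commute (x y : D) (hxy : ¬ Commute (x : G) y) : x ≠ y := by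
  rintro rfl
  exact hxy (Commute.refl _)

theorem cj_ne_right (h : TT D) (x y : D) (hxy : ¬ Commute (x : G) y) : cj h y x ≠ y := by
  intro heq
  apply ne_of_not_commute x y hxy
  have := congrArg Subtype.val heq
  rw [cj_coe] at this
  apply Subtype.ext
  have h2 : (x : G) = (y : G)⁻¹ * ((y : G) * x * (y : G)⁻¹) * y := by group
  rw [h2, this]; group

/-- the line through two non-commuting members -/
def lineOf (h : TT D) (x y : D) : Set D := {x, y, cj h y x}

theorem mem_lines_iff (h : TT D) (l : Set D) :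
    l ∈ threeTranspositionLines D ↔ ∃ x y : D, ¬ Commute (x : G) y ∧ l = lineOf h x y := by
  unfold threeTranspositionLines lineOf
  simp only [Set.mem_setOf_eq]
  constructor
  · rintro ⟨x, y, hxy, rfl⟩
    refine ⟨x, y, hxy, ?_⟩
    ext z
    simp only [Set.mem_setOf_eq, Set.mem_insert_iff, Set.mem_singleton_iff, Subtype.ext_iff, cj_coe]
  · rintro ⟨x, y, hxy, rfl⟩
    refine ⟨x, y, hxy, ?_⟩
    ext z
    simp only [Set.mem_setOf_eq, Set.mem_insert_iff, Set.mem_singleton_iff, Subtype.ext_iff, cj_coe]

/-- In a line, any two different points do not commute and determine the line. -/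
theorem line_of_two (h : TT D) (p q : D) (hpq : ¬ Commute (p : G) q) {u v : D}
    (hu : u ∈ lineOf h p q) (hv : v ∈ lineOf h p q) (huv : u ≠ v) :
    ¬ Commute (u : G) v ∧ lineOf h p q = lineOf h u v := by
  have hp := h.sq p
  have hq := h.sq q
  have hb := h.braid p q hpq
  -- conjugation facts
  have c1 : cj h p q = cj h q p := cj_symm h p q hpq
  have c2 : cj h (cj h q p) p = q := Subtype.ext (by
    simp only [cj_coe]; exact w2 hp hq hb)
  have c3 : cj h p (cj h q p) = q := Subtype.ext (by
    simp only [cj_coe]; exact w3 hp hq hb)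
  have c4 : cj h q (cj h q p) = p := Subtype.ext (by
    simp only [cj_coe]; exact w4 hq)
  have c5 : cj h (cj h q p) q = p := Subtype.ext (by
    simp only [cj_coe]; exact w5 hp hq hb)
  have hrp : cj h q p ≠ p := cj_ne_left h p q hpq
  have hrq : cj h q p ≠ q := cj_ne_right h p q hpq
  have hpq' : p ≠ q := ne_of_not_commute p q hpq
  -- non-commuting from the conjugate being different
  have nc : ∀ a b : D, cj h b a ≠ a → ¬ Commute (a : G) b := by
    intro a b hne hc
    exact hne (cj_of_commute h b a hc.symm)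
  unfold lineOf at hu hv ⊢
  simp only [Set.mem_insert_iff, Set.mem_singleton_iff] at hu hv
  rcases hu with rfl | rfl | rfl <;> rcases hv with rfl | rfl | rfl
  · exact absurd rfl huv
  · exact ⟨hpq, rfl⟩
  · refine ⟨nc _ _ (by rw [c2]; exact hpq'.symm), ?_⟩
    rw [c2]
    ext w; simp only [Set.mem_insert_iff, Set.mem_singleton_iff]; tauto
  · refine ⟨nc _ _ (by rw [c1]; exact hrq), ?_⟩
    rw [c1]
    ext w; simp only [Set.mem_insert_iff, Set.mem_singleton_iff]; tauto
  · exact absurd rfl huv
  · refine ⟨nc _ _ (by rw [c5]; exact hpq'), ?_⟩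
    rw [c5]
    ext w; simp only [Set.mem_insert_iff, Set.mem_singleton_iff]; tauto
  · refine ⟨nc _ _ (by rw [c3]; exact hrq.symm), ?_⟩
    rw [c3]
    ext w; simp only [Set.mem_insert_iff, Set.mem_singleton_iff]; tauto
  · refine ⟨nc _ _ (by rw [c4]; exact hrp.symm), ?_⟩
    rw [c4]
    ext w; simp only [Set.mem_insert_iff, Set.mem_singleton_iff]; tauto
  · exact absurd rfl huv

theorem lin_lines (h : TT D) : Lin (threeTranspositionLines D) := by
  constructor
  · intro l hl m hm x y hxy hxl hyl hxm hym
    obtain ⟨p, q, hpq, rfl⟩ := (mem_lines_iff h l).mp hl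
    obtain ⟨p', q', hpq', rfl⟩ := (mem_lines_iff h m).mp hm
    rw [(line_of_two h p q hpq hxl hyl hxy).2, (line_of_two h p' q' hpq' hxm hym hxy).2]
  · intro l hl
    obtain ⟨p, q, hpq, rfl⟩ := (mem_lines_iff h l).mp hl
    exact Set.ncard_eq_three.mpr ⟨p, q, cj h q p, ne_of_not_commute p q hpq,
      (cj_ne_left h p q hpq).symm, (cj_ne_right h p q hpq).symm, rfl⟩

theorem third_lines_iff (h : TT D) (x y z : D) :
    Third (threeTranspositionLines D) x y z ↔ ¬ Commute (x : G) y ∧ z = cj h y x := by
  constructor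
  · rintro ⟨hzx, hzy, hxy, hmem⟩
    obtain ⟨p, q, hpq, heq⟩ := (mem_lines_iff h _).mp hmem
    have hx : x ∈ lineOf h p q := by rw [← heq]; simp
    have hy : y ∈ lineOf h p q := by rw [← heq]; simp
    obtain ⟨hnc, heq2⟩ := line_of_two h p q hpq hx hy hxy
    refine ⟨hnc, ?_⟩
    have hz : z ∈ lineOf h x y := by rw [← heq2, ← heq]; simp
    unfold lineOf at hz
    simp only [Set.mem_insert_iff, Set.mem_singleton_iff] at hz
    rcases hz with h1 | h1 | h1
    · exact absurd h1 hzx
    · exact absurd h1 hzy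
    · exact h1
  · rintro ⟨hnc, rfl⟩
    exact ⟨cj_ne_left h x y hnc, cj_ne_right h x y hnc, ne_of_not_commute x y hnc,
      (mem_lines_iff h _).mpr ⟨x, y, hnc, rfl⟩⟩

theorem lineMap_lines (h : TT D) (x y : D) :
    lineMap (threeTranspositionLines D) x y = cj h x y := by
  by_cases hc : Commute (x : G) y
  · rw [cj_of_commute h x y hc]
    apply lineMap_eq_self
    rintro ⟨z, hz⟩
    exact ((third_lines_iff h x y z).mp hz).1 hc
  · rw [cj_symm h x y hc]
    exact lineMap_eq_of_third (lin_lines h) ((third_lines_iff h x y _).mpr ⟨hc, rfl⟩)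

theorem image_lineOf (h : TT D) (x p q : D) (hpq : ¬ Commute (p : G) q) :
    lineMap (threeTranspositionLines D) x '' lineOf h p q ∈ threeTranspositionLines D := by
  unfold lineOf
  rw [image_triple, lineMap_lines h, lineMap_lines h, lineMap_lines h]
  have hnc : ¬ Commute ((cj h x p : D) : G) (cj h x q) := by
    simp only [cj_coe]
    rw [Commute.conj_iff]
    exact hpq
  refine (mem_lines_iff h _).mpr ⟨cj h x p, cj h x q, hnc, ?_⟩
  unfold lineOf
  have : cj h x (cj h q p) = cj h (cj h x q) (cj h x p) := by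
    apply Subtype.ext
    simp only [cj_coe]
    group
  rw [this]

theorem tau_isIso_lines (h : TT D) (x : D) :
    IsIso (threeTranspositionLines D) (threeTranspositionLines D) (tau (lin_lines h) x) := by
  intro l
  constructor
  · intro hl
    obtain ⟨p, q, hpq, rfl⟩ := (mem_lines_iff h l).mp hl
    exact image_lineOf h x p q hpq
  · intro hl
    obtain ⟨p, q, hpq, heq⟩ := (mem_lines_iff h _).mp hl
    have h2 := image_lineOf h x p q hpq
    rw [← heq] at h2
    have : lineMap (threeTranspositionLines D) x '' (tau (lin_lines h) x '' l) = l := by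
      rw [Set.image_image]
      simp only [tau_apply, lineMap_lineMap (lin_lines h)]
      exact Set.image_id' l
    rwa [this] at h2

/-- S5367. -/
theorem isFischerSpace_lines (h : TT D) : IsFischerSpace (threeTranspositionLines D) :=
  fischer_of_auto (lin_lines h) (tau_isIso_lines h)

end group

end Cfsg.Agent.Lib.Helper27.Fischer
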