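import Cfsg.Agent.Lib.Helper17.FrCDefs
import Cfsg.Agent.Lib.Helper15.FrCS
import Cfsg.Agent.Lib.Helper27.FrCL1Tools

/-!
CORE13 (S5679 + S5696), leaf L1d `vt_not_small_five` (helper27): core against the statement of D2 `order_pair`.
-/

set_option autoImplicit false
set_option linter.unusedSectionVars false
set_option linter.unusedVariables false
set_option linter.unusedSimpArgs false

namespace Cfsg.Agent.Lib.Helper27.FrCLeaf

open Module QuadraticMap Matrix Cfsg.Agent.Lib.Helper25.CD Cfsg.Agent.Lib.Helper25.Spin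
  Cfsg.Agent.Lib.Helper5.NSMax Cfsg.Agent.Lib.Helper5.PairMax Cfsg.Agent.Lib.Helper17.OC2
  Cfsg.Agent.Lib.Helper29.FrStd Cfsg.Agent.Lib.Helper11.Mono Cfsg.Agent.Lib.Helper17.FrC

variable {κ : Type} [Fintype κ] [DecidableEq κ] {F : Type*} [Field F] [Fintype F]
  {c : F} {M : Subgroup ↥(Cfsg.isometryGroup F ⇑(stdQ κ F c))}

/-- squares in a field with 5 elements -/
lemma sq_five (h5 : Fintype.card F = 5) (t : F) : t ^ 2 = 0 ∨ t ^ 2 = 1 ∨ t ^ 2 = 4 := by
  have h5F : (5 : F) = 0 := by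
    have := Nat.cast_card_eq_zero F
    rw [h5] at this
    exact_mod_cast this
  have hpow : t ^ 5 = t := by
    have := FiniteField.pow_card t
    rwa [h5] at this
  have hprod : t * ((t ^ 2 - 1) * (t ^ 2 - 4)) = 0 := by
    linear_combination hpow + (t - t ^ 3) * h5F
  rcases mul_eq_zero.1 hprod with h0 | h0
  · left; rw [h0]; ring
  · rcases mul_eq_zero.1 h0 with h1 | h1
    · right; left; linear_combination h1
    · right; right; linear_combination h1

/-- a unit vector of a coordinate 3-space over `F_5` has a coordinate of square `1` -/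
lemma exists_sq_one_five (h5 : Fintype.card F = 5) (h2 : (2 : F) ≠ 0) {u v w : F}
    (hunit : u * u + v * v + w * w = 1) : u ^ 2 = 1 ∨ v ^ 2 = 1 ∨ w ^ 2 = 1 := by
  have h5F : (5 : F) = 0 := by
    have := Nat.cast_card_eq_zero F
    rw [h5] at this
    exact_mod_cast this
  by_contra hnone
  rw [not_or, not_or] at hnone
  have hu : u ^ 2 = 0 ∨ u ^ 2 = 4 := by
    rcases sq_five h5 u with h | h | h
    · exact Or.inl h
    · exact absurd h hnone.1
    · exact Or.inr h
  have hv : v ^ 2 = 0 ∨ v ^ 2 = 4 := by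
    rcases sq_five h5 v with h | h | h
    · exact Or.inl h
    · exact absurd h hnone.2.1
    · exact Or.inr h
  have hw : w ^ 2 = 0 ∨ w ^ 2 = 4 := by
    rcases sq_five h5 w with h | h | h
    · exact Or.inl h
    · exact absurd h hnone.2.2
    · exact Or.inr h
  have hsum : u ^ 2 + v ^ 2 + w ^ 2 = 1 := by linear_combination hunit
  have h1 : (1 : F) ≠ 0 := one_ne_zero
  rcases hu with hu | hu <;> rcases hv with hv | hv <;> rcases hw with hw | hw <;>
    rw [hu, hv, hw] at hsum <;>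
    first
    | (apply h1; linear_combination -hsum)
    | (apply h2; linear_combination h5F - hsum)
    | (apply h2; linear_combination hsum - h5F)
    | (apply h1; linear_combination hsum - 2 * h5F)

/-- (L1d) core. -/
theorem vt_not_small_five_core (h : Ctx c M) (h5 : Fintype.card F = 5)
    (hD2 : ∀ {a b : κ → F}, a ⬝ᵥ a = 1 → b ⬝ᵥ b = 1 → ∀ {k : ℕ}, 1 ≤ k → k ≤ 5 →
      k ≠ Fintype.card F →
      toOG (stdQ κ F c) ((negRefl (stdQ κ F c) a * negRefl (stdQ κ F c) b) ^ k) a = a →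
      toOG (stdQ κ F c) ((negRefl (stdQ κ F c) a * negRefl (stdQ κ F c) b) ^ k) b = b →
      Sp ((a ⬝ᵥ b) ^ 2) ∧ ((a ⬝ᵥ b) ^ 2 = 1 → b = a ∨ b = -a))
    {T : Finset κ} (hT : T.card = 3)
    {x : κ → F} (hx : Rt c M x) (hxT : x ∈ VT T) (hB : ¬ IsB x) :
    ¬ Small c {y : κ → F | Rt c M y ∧ y ∈ VT T} (VT T) := by
  intro hsm
  obtain ⟨i, j, k, hij, hik, hjk, rfl⟩ := Finset.card_eq_three.1 hT
  have hxe := eq_v3_of_mem_VT hij hik hjk hxT
  have hunit : x i * x i + x j * x j + x k * x k = 1 := by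
    have := hx.1
    rw [hxe, v3_dot hij hik hjk] at this
    simpa [v3_i, v3_j hij, v3_k hik hjk] using this
  -- a coordinate `m ∈ T` with `(x m)² = 1`
  have hm : ∃ m : κ, m ∈ ({i, j, k} : Finset κ) ∧ x m ^ 2 = 1 := by
    rcases exists_sq_one_five h5 h.h2 hunit with h1 | h1 | h1
    · exact ⟨i, by simp, h1⟩
    · exact ⟨j, by simp, h1⟩
    · exact ⟨k, by simp, h1⟩
  obtain ⟨m, hmT, hm1⟩ := hm
  have hem : (e m : κ → F) ∈ (VT ({i, j, k} : Finset κ) : Submodule F (κ → F)) := by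
    intro l hl
    unfold e
    rw [Pi.single_eq_of_ne (fun hlm => hl (by rw [hlm]; exact hmT))]
  have hrm : Rt c M (e m) := Cfsg.Agent.Lib.Helper15.FrCLeaf.rt_e h m
  have hg : negRefl (stdQ κ F c) (e m) * negRefl (stdQ κ F c) x ∈
      Subgroup.closure ((negRefl (stdQ κ F c)) ''
        {y : κ → F | Rt c M y ∧ y ∈ (VT ({i, j, k} : Finset κ) : Submodule F (κ → F))}) :=
    Subgroup.mul_mem _ (Subgroup.subset_closure ⟨e m, ⟨hrm, hem⟩, rfl⟩)
      (Subgroup.subset_closure ⟨x, ⟨hx, hxT⟩, rfl⟩)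
  obtain ⟨n, hn1, hn5, hnp, hfix⟩ := hsm _ hg
  have hdot : (e m : κ → F) ⬝ᵥ x = x m := by
    unfold e
    rw [single_one_dotProduct]
  have hres := (hD2 hrm.1 hx.1 hn1 hn5 hnp (hfix _ hem) (hfix _ hxT)).2 (by rw [hdot, hm1])
  exact hB (Or.inl ⟨m, hres⟩)

end Cfsg.Agent.Lib.Helper27.FrCLeaf
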