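import Cfsg.Agent.Lib.Helper17.FrCDefs
import Cfsg.Agent.Lib.Helper6.FrCD2
import Cfsg.Agent.Lib.Helper27.FrCL1dcore

/-!
CORE13 (S5679 + S5696), leaf L1d `vt_not_small_five` (helper27), exact signature (on helper6's D2 `order_pair`).
-/

set_option autoImplicit false
set_option linter.unusedSectionVars false
set_option linter.unusedVariables false

namespace Cfsg.Agent.Lib.Helper27.FrCLeaf

open Module QuadraticMap Matrix Cfsg.Agent.Lib.Helper25.CD Cfsg.Agent.Lib.Helper25.Spin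
  Cfsg.Agent.Lib.Helper5.NSMax Cfsg.Agent.Lib.Helper5.PairMax Cfsg.Agent.Lib.Helper17.OC2
  Cfsg.Agent.Lib.Helper29.FrStd Cfsg.Agent.Lib.Helper11.Mono Cfsg.Agent.Lib.Helper17.FrC

variable {κ : Type} [Fintype κ] [DecidableEq κ] {F : Type*} [Field F] [Fintype F]
  {c : F} {M : Subgroup ↥(Cfsg.isometryGroup F ⇑(stdQ κ F c))}

/-- (L1d) -/
theorem vt_not_small_five (h : Ctx c M) (h5 : Fintype.card F = 5) {T : Finset κ} (hT : T.card = 3)
    {x : κ → F} (hx : Rt c M x) (hxT : x ∈ VT T) (hB : ¬ IsB x) :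
    ¬ Small c {y : κ → F | Rt c M y ∧ y ∈ VT T} (VT T) :=
  vt_not_small_five_core h h5
    (fun {a b} ha hb {k} hk1 hk5 hkp hfa hfb =>
      Cfsg.Agent.Lib.Helper6.FrCLeaf.order_pair h.hc h.prime (by rw [h5]) ha hb hk1 hk5 hkp hfa hfb)
    hT hx hxT hB

end Cfsg.Agent.Lib.Helper27.FrCLeaf
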