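import Mathlib
import Cfsg.Agent.Lib.Helper18.Glaub2Defs
import Cfsg.Prelude.Def_Solvable
import Cfsg.Prelude.Def_CaseTheorems

/-! Helper27 library: leaf GLAUB2-B2 of helper18's S4385 market ("GLAUB2"): the weak core condition.
The family of subgroups of `P` normalized by `H` and by `y H y⁻¹` is closed under conjugation by `y`
(`y² = c u`, `c ∈ C(P)`, `u ∈ P`) and under joins; its join is `y`-invariant and normal in `H`. -/

set_option autoImplicit false
set_option linter.unusedVariables false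

namespace Cfsg.Agent.Lib.Helper27.GLAUB2B2

open Cfsg Cfsg.Agent.Lib.Helper18.Sims3 Cfsg.Agent.Lib.Helper18.Glaub

variable {G : Type*} [Group G]

/-- elementwise normalization. -/
def NrmBy (A M : Subgroup G) : Prop := ∀ a ∈ A, ∀ m ∈ M, a * m * a⁻¹ ∈ M

theorem nrmBy_iff (A M : Subgroup G) : NrmBy A M ↔ A ≤ Subgroup.normalizer (M : Set G) := by
  constructor
  · intro h a ha
    rw [Subgroup.mem_normalizer_iff]
    intro m
    constructor
    · exact h a ha m
    · intro hm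
      have := h a⁻¹ (A.inv_mem ha) _ hm
      have e : a⁻¹ * (a * m * a⁻¹) * a⁻¹⁻¹ = m := by group
      rwa [e] at this
  · intro h a ha m hm
    exact (Subgroup.mem_normalizer_iff.mp (h ha) m).mp hm

theorem mem_cj {g : G} {S : Subgroup G} {w : G} : w ∈ cj g S ↔ ∃ s ∈ S, g * s * g⁻¹ = w := by
  unfold cj
  rw [Subgroup.mem_map]
  rfl

theorem nrmBy_cj {A M : Subgroup G} (h : NrmBy A M) (g : G) : NrmBy (cj g A) (cj g M) := by
  intro a' ha' m' hm'
  obtain ⟨a, ha, rfl⟩ := mem_cj.mp ha'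
  obtain ⟨m, hm, rfl⟩ := mem_cj.mp hm'
  refine mem_cj.mpr ⟨a * m * a⁻¹, h a ha m hm, ?_⟩
  group

theorem nrmBy_sSup (A : Subgroup G) (F : Set (Subgroup G)) (h : ∀ M ∈ F, NrmBy A M) :
    NrmBy A (sSup F) := by
  intro a ha m hm
  have hle : sSup F ≤ (sSup F).comap (MulAut.conj a).toMonoidHom := by
    apply sSup_le
    intro M hM m hm
    rw [Subgroup.mem_comap]
    show a * m * a⁻¹ ∈ sSup F
    exact (le_sSup hM) (h M hM a ha m hm)
  exact hle hm

theorem normalizes_centralizer (P : Subgroup G) :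
    P ≤ Subgroup.normalizer ((Subgroup.centralizer (P : Set G) : Subgroup G) : Set G) := by
  rw [← nrmBy_iff]
  intro u hu c hc
  rw [Subgroup.mem_centralizer_iff] at hc ⊢
  intro p hp
  have h1 := hc (u⁻¹ * p * u) (P.mul_mem (P.mul_mem (P.inv_mem hu) hp) hu)
  calc p * (u * c * u⁻¹) = u * ((u⁻¹ * p * u) * c) * u⁻¹ := by group
    _ = u * (c * (u⁻¹ * p * u)) * u⁻¹ := by rw [h1]
    _ = u * c * u⁻¹ * p := by group

/-- LEAF B2 (the weak core condition). -/
theorem coreP_of_gen [Finite G] (H P : Subgroup G) (hPH : P ≤ H) (x y : G) (hx : x ∈ H)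
    (hyN : cj y P = P) (hy2 : y ^ 2 ∈ P ⊔ Subgroup.centralizer (P : Set G))
    (hyQ : ∀ Q : Subgroup G, Q ≤ P → (Q.subgroupOf H).Normal → cj y Q = Q → Q = ⊥)
    (N : Subgroup G) (hNP : N ≤ P) (hNH : H ≤ Subgroup.normalizer (N : Set G))
    (hNH' : cj (x * y) H ≤ Subgroup.normalizer (N : Set G)) : N = ⊥ := by
  -- `y H y⁻¹` normalizes `N`
  have hHyN : NrmBy (cj y H) N := by
    rw [nrmBy_iff]
    intro h hh
    obtain ⟨h0, hh0, rfl⟩ := mem_cj.mp hh
    have h1 : x * (y * h0 * y⁻¹) * x⁻¹ ∈ cj (x * y) H := by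
      refine mem_cj.mpr ⟨h0, hh0, ?_⟩
      group
    have h2 := hNH' h1
    have hxn : x ∈ Subgroup.normalizer (N : Set G) := hNH hx
    have e : y * h0 * y⁻¹ = x⁻¹ * (x * (y * h0 * y⁻¹) * x⁻¹) * x := by group
    rw [e]
    exact Subgroup.mul_mem _ (Subgroup.mul_mem _ (Subgroup.inv_mem _ hxn) h2) hxn
  -- decomposition of `y ^ 2`
  obtain ⟨c, hc, u, hu, hcu⟩ : ∃ c ∈ Subgroup.centralizer (P : Set G), ∃ u ∈ P, c * u = y ^ 2 := by
    have hset := Subgroup.coe_mul_of_right_le_normalizer_left (Subgroup.centralizer (P : Set G)) P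
      (normalizes_centralizer P)
    have hmem : y ^ 2 ∈ ((Subgroup.centralizer (P : Set G) ⊔ P : Subgroup G) : Set G) := by
      rw [sup_comm]
      exact hy2
    rw [hset] at hmem
    obtain ⟨c, hc, u, hu, hcu⟩ := Set.mem_mul.mp hmem
    exact ⟨c, hc, u, hu, hcu⟩
  have hccomm : ∀ p ∈ P, p * c = c * p := fun p hp => Subgroup.mem_centralizer_iff.mp hc p hp
  -- the family
  let F : Set (Subgroup G) := {M | M ≤ P ∧ NrmBy H M ∧ NrmBy (cj y H) M}
  have hFcj : ∀ M ∈ F, cj y M ∈ F := by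
    intro M hM
    obtain ⟨hMP, hMH, hMHy⟩ := hM
    have h1 : cj y M ≤ P := by
      rw [← hyN]
      exact Subgroup.map_mono hMP
    refine ⟨h1, ?_, nrmBy_cj hMH y⟩
    have h3 : NrmBy (cj y (cj y H)) (cj y M) := nrmBy_cj hMHy y
    intro h hh m hm
    -- `c h c⁻¹ ∈ cj y (cj y H)`
    have hmem : c * h * c⁻¹ ∈ cj y (cj y H) := by
      refine mem_cj.mpr ⟨y * (u⁻¹ * h * u) * y⁻¹, mem_cj.mpr ⟨u⁻¹ * h * u, ?_, rfl⟩, ?_⟩
      · exact H.mul_mem (H.mul_mem (H.inv_mem (hPH hu)) hh) (hPH hu)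
      · have hy2' : y * y = c * u := by rw [hcu, pow_two]
        calc y * (y * (u⁻¹ * h * u) * y⁻¹) * y⁻¹
            = (y * y) * (u⁻¹ * h * u) * (y * y)⁻¹ := by group
          _ = c * h * c⁻¹ := by rw [hy2']; group
    have hm' := h3 _ hmem m hm
    -- `c` commutes with `m` and with the result
    have hcm : m * c = c * m := hccomm m (h1 hm)
    have e1 : c * h * c⁻¹ * m * (c * h * c⁻¹)⁻¹ = c * (h * m * h⁻¹) * c⁻¹ := by
      have : c⁻¹ * m * c = m := by
        rw [mul_assoc, hcm, inv_mul_cancel_left]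
      calc c * h * c⁻¹ * m * (c * h * c⁻¹)⁻¹ = c * h * (c⁻¹ * m * c) * h⁻¹ * c⁻¹ := by group
        _ = c * (h * m * h⁻¹) * c⁻¹ := by rw [this]; group
    rw [e1] at hm'
    have hcm2 := hccomm _ (h1 hm')
    have e2 : h * m * h⁻¹ = c * (h * m * h⁻¹) * c⁻¹ := by
      have : c * (h * m * h⁻¹) * c⁻¹ * c = c * (c * (h * m * h⁻¹) * c⁻¹) := hcm2
      have h5 : c * (h * m * h⁻¹) = c * (c * (h * m * h⁻¹) * c⁻¹) := by
        rw [← this]
        group
      exact mul_left_cancel h5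
    rw [e2]
    exact hm'
  have hsP : sSup F ≤ P := sSup_le (fun M hM => hM.1)
  have hsH : NrmBy H (sSup F) := nrmBy_sSup H F (fun M hM => hM.2.1)
  have hsHy : NrmBy (cj y H) (sSup F) := nrmBy_sSup _ F (fun M hM => hM.2.2)
  have hsF : sSup F ∈ F := ⟨hsP, hsH, hsHy⟩
  have hle : cj y (sSup F) ≤ sSup F := le_sSup (hFcj _ hsF)
  have hcard : Nat.card ↥(cj y (sSup F)) = Nat.card ↥(sSup F) :=
    Subgroup.card_map_of_injective (MulAut.conj y).injective
  have heq : cj y (sSup F) = sSup F := Subgroup.eq_of_le_of_card_ge hle (le_of_eq hcard.symm)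
  have hnorm : ((sSup F).subgroupOf H).Normal :=
    (Subgroup.normal_subgroupOf_iff_le_normalizer (hsP.trans hPH)).mpr ((nrmBy_iff _ _).mp hsH)
  have hbot : sSup F = ⊥ := hyQ _ hsP hnorm heq
  have hNF : N ∈ F := ⟨hNP, (nrmBy_iff _ _).mpr hNH, hHyN⟩
  have : N ≤ sSup F := le_sSup hNF
  rw [hbot] at this
  exact le_bot_iff.mp this

end Cfsg.Agent.Lib.Helper27.GLAUB2B2
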