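import Cfsg.Agent.Lib.Helper27.KL20

/-!
helper27: generation theorems for fusion systems, reduction framework. For a class `𝒞` of partial maps closed under
restriction, composition and inverses we reduce the statement "every map of `F` lies in `𝒞`", assuming that the maps
of `F` fixing `X` pointwise and those normalizing `W(S)` lie in `𝒞`, to the constrained case. This file: the climbing
step.
-/

set_option autoImplicit false
set_option linter.unusedSectionVars false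
set_option linter.unusedVariables false

namespace Cfsg.Agent.Lib.Helper27.GN

open Cfsg Cfsg.FusionSystem Cfsg.Agent.Lib.Helper26 Cfsg.Agent.Lib.Helper27.FM
  Cfsg.Agent.Lib.Helper27.ModelRad Cfsg.Agent.Lib.Helper27.KL

universe u

/-- A class of partial maps closed under restriction, pointwise equality, composition and inverses. -/
structure MapClass (Ω : Type u) [Group Ω] where
  C : Subgroup Ω → (Ω → Ω) → Prop
  mono : ∀ {R R' : Subgroup Ω} {θ : Ω → Ω}, C R θ → R' ≤ R → C R' θ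
  congr : ∀ {R : Subgroup Ω} {θ θ₂ : Ω → Ω}, C R θ → (∀ x ∈ R, θ x = θ₂ x) → C R θ₂
  comp : ∀ {R R' : Subgroup Ω} {θ θ' : Ω → Ω}, C R θ → C R' θ' → (∀ x ∈ R, θ x ∈ R') →
    C R (fun x => θ' (θ x))
  inverse : ∀ {R R' : Subgroup Ω} {θ θinv : Ω → Ω}, C R θ → IsImage R θ R' → (∀ x ∈ R, θinv (θ x) = x) →
    C R' θinv

variable {Ω : Type u} [Group Ω] {p : ℕ} [Fact p.Prime] {W : ∀ (Q : Type u) [Group Q], Subgroup Q}

/-- The maps of `E` fixing `X` pointwise lie in the class. -/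
def FixIn (𝒞 : MapClass Ω) {T : Subgroup Ω} (E : FusionSystem T) (X : Subgroup Ω) : Prop :=
  ∀ (R : Subgroup Ω) (θ : Ω → Ω), IsFM E R θ → X ≤ R → (∀ q ∈ X, θ q = q) → 𝒞.C R θ

/-- The maps of `E` normalizing `W(T)` lie in the class. -/
def NormIn (𝒞 : MapClass Ω) (W : ∀ (Q : Type u) [Group Q], Subgroup Q) {T : Subgroup Ω}
    (E : FusionSystem T) : Prop :=
  ∀ (R : Subgroup Ω) (θ : Ω → Ω), IsFM E R θ → WS W T ≤ R → (∀ u ∈ WS W T, θ u ∈ WS W T) → 𝒞.C R θ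

/-- All maps of `E` lie in the class. -/
def AllIn (𝒞 : MapClass Ω) {T : Subgroup Ω} (E : FusionSystem T) : Prop :=
  ∀ (R : Subgroup Ω) (θ : Ω → Ω), IsFM E R θ → 𝒞.C R θ

variable {S : Subgroup Ω} {X : Subgroup Ω}

/-- Central elements of `S` normalize every subgroup of `S`. -/
theorem central_mem_normalizerIn [Finite S] {U : Subgroup Ω} (hU : U ≤ S) {z : Ω} (hzS : z ∈ S)
    (hzc : ∀ t ∈ S, t * z * t⁻¹ = z) : z ∈ normalizerIn S U := by
  refine ⟨hzS, ?_⟩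
  haveI : Finite ↥U := finite_of_le hU
  apply mem_normalizer_of_conj_mem_finite
  intro u hu
  have h1 := hzc u (hU hu)
  have e : z * u * z⁻¹ = u := by
    calc z * u * z⁻¹ = (u * z * u⁻¹) * u * z⁻¹ := by rw [h1]
      _ = u := by group
  rw [e]
  exact hu

section Climb

variable [Finite S]

/-- The climbing step for generation. -/
theorem gen_climb (hW : PosChar p W)
    (hWZ : ∀ (Q : Type u) [Group Q] [Finite Q], IsPGroup p Q → Subgroup.center Q ≤ W Q)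
    (hS : IsPGroup p S) (F : FusionSystem S) (hF : F.IsSaturated p) (𝒞 : MapClass Ω) (hXS : X ≤ S)
    (hXc : ∀ s ∈ S, ∀ q ∈ X, s * q * s⁻¹ = q) (hnormW : NormIn 𝒞 W F)
    (hsub : ∀ (U : Subgroup Ω) (hU : U ≤ S), F.IsFullyNormalized U → ¬ F.IsNormal U →
      NormIn 𝒞 W (normalizerSystem F U hU) → AllIn 𝒞 (normalizerSystem F U hU))
    (hnorm : ∀ U : Subgroup Ω, F.IsNormal U → X ≤ U → AllIn 𝒞 F)
    (n : ℕ) (IH : ∀ (R : Subgroup Ω) (θ : Ω → Ω), IsFM F R θ → n < Nat.card R → 𝒞.C R θ) :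
    ∀ (d : ℕ) (U : Subgroup Ω), F.IsFullyNormalized U → (∃ U₀ : Subgroup Ω, X ≤ U₀ ∧ F.IsConj U₀ U) →
      Nat.card S - Nat.card (normalizerIn S U) = d → n < Nat.card (normalizerIn S U) →
      ∀ (R : Subgroup Ω) (θ : Ω → Ω), U ≤ R → R ≤ normalizerIn S U → IsFM F R θ → (∀ u ∈ U, θ u ∈ U) →
        𝒞.C R θ := by
  intro d
  induction d using Nat.strong_induction_on with
  | _ d ih =>
  intro U hUfn hU₀ hd hn R θ hUR hRT hθ hθU
  have hUS : U ≤ S := hUfn.1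
  by_cases hUn : F.IsNormal U
  · obtain ⟨U₀, hXU₀, hconj⟩ := hU₀
    have hUU₀ : U₀ = U :=
      eq_of_isConj_of_stronglyClosed F (stronglyClosed_of_isNormal F hUn) (isConj_symm F hconj)
    exact hnorm U hUn (hUU₀ ▸ hXU₀) R θ hθ
  set T : Subgroup Ω := normalizerIn S U with hT
  have hTS : T ≤ S := normalizerIn_le S U
  haveI : Finite ↥T := finite_of_le hTS
  haveI : Finite ↥U := finite_of_le hUS
  have hpT : IsPGroup p T := hS.to_le hTS
  have hUT : U ≤ T := le_normalizerIn hUS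
  have hNsys := normalizerSystem_isNormalizerSystem F U hUS
  have hXT : X ≤ T := fun y hy => central_mem_normalizerIn hUS (hXS hy) (fun t ht => hXc t ht y hy)
  -- `θ` is a map of the normalizer system
  have hiU : IsImage U θ U := hθ.isImage_self_of_forall_mem hUR hθU
  have hθT : ∀ x ∈ R, θ x ∈ T := by
    intro x hx
    refine ⟨hθ.mem hx, ?_⟩
    apply mem_normalizer_of_conj_mem_finite
    intro u hu
    obtain ⟨u', hu', rfl⟩ := (hiU u).mp hu
    rw [← hθ.map_inv hx, ← hθ.map_mul hx (hUR hu'), ← hθ.map_mul (R.mul_mem hx (hUR hu')) (R.inv_mem hx)]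
    apply hθU
    exact (Subgroup.mem_normalizer_iff.mp (hRT hx).2 u').mp hu'
  have hθN : IsFM (normalizerSystem F U hUS) R θ := by
    rw [isFM_normalizer_iff F hUS _ hNsys]
    exact ⟨hRT, hθT, θ, hθ.of_eq (sup_eq_left.mpr hUR), fun _ _ => rfl, hθU⟩
  refine hsub U hUS hUfn hUn ?_ R θ hθN
  -- the maps of `N_F(U)` normalizing `W(N_S(U))` lie in the class
  intro R₂ θ₂ hθ₂E hWR₂ hθ₂W
  have hθ₂ : IsFM F R₂ θ₂ := hθ₂E.of_normalizer hNsys
  have hR₂T : R₂ ≤ T := ((isFM_normalizer_iff F hUS _ hNsys).mp hθ₂E).1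
  have hθ₂T : ∀ x ∈ R₂, θ₂ x ∈ T := ((isFM_normalizer_iff F hUS _ hNsys).mp hθ₂E).2.1
  by_cases hTeq : T = S
  · have hWeq : WS W T = WS W S := WS_congr W hTeq
    rw [hWeq] at hWR₂ hθ₂W
    exact hnormW R₂ θ₂ hθ₂ hWR₂ hθ₂W
  · set U₁ : Subgroup Ω := WS W T with hU₁
    have hU₁T : U₁ ≤ T := WS_le W T
    have hU₁S : U₁ ≤ S := hU₁T.trans hTS
    have hXU₁ : X ≤ U₁ := fun y hy =>
      mem_WS_of_central hWZ hpT (hXT hy) (fun t ht => hXc t (hTS ht) y hy)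
    set T₁ : Subgroup Ω := normalizerIn S U₁ with hT₁
    have hT₁S : T₁ ≤ S := normalizerIn_le S U₁
    haveI : Finite ↥T₁ := finite_of_le hT₁S
    have hNT : normalizerIn S T ≤ T₁ := hW.normalizerIn_le hpT hTS
    have hTT₁ : T ≤ T₁ := (le_normalizerIn hTS).trans hNT
    have hcardT : Nat.card T < Nat.card T₁ :=
      lt_of_lt_of_le (card_lt_card_normalizerIn hS hTS hTeq) (Subgroup.card_le_of_le hNT)
    obtain ⟨U₂, hconj, hfn₂⟩ := exists_fullyNormalized_conj F hU₁S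
    have hFA := (saturated_fn hS F hF hfn₂).2
    have hRec := saturated_fn_receptive hS F hF hfn₂
    obtain ⟨χ, hχ, hval, hmap⟩ := exists_normalizer_hom hS F hFA hRec hconj
    have hψ : IsFM F T₁ (ofHom χ) := isFM_ofHom hχ
    have hU₁T₁ : U₁ ≤ T₁ := le_normalizerIn hU₁S
    have hψU : IsImage U₁ (ofHom χ) U₂ := isImage_of_map_eq χ hU₁T₁ hmap
    have hψval : ∀ x ∈ T₁, ofHom χ x ∈ normalizerIn S U₂ := fun x hx => by
      rw [ofHom_apply' χ hx]; exact hval _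
    have hψC : 𝒞.C T₁ (ofHom χ) := IH T₁ _ hψ (lt_trans hn hcardT)
    obtain ⟨T₁', hT₁'⟩ := hψ.exists_image
    obtain ⟨ψinv, hψinv, hψinvi, hl, hr⟩ := hψ.exists_inverse hT₁'
    have hR₂T₁ : R₂ ≤ T₁ := hR₂T.trans hTT₁
    obtain ⟨R₃, hR₃⟩ := hψ.exists_image_of_le hR₂T₁
    have hR₃T₁' : R₃ ≤ T₁' := hR₃.le_of_forall (fun x hx => hT₁'.mem (hR₂T₁ hx))
    have hθ₃ : IsFM F R₃ (fun y => ofHom χ (θ₂ (ψinv y))) := by
      have h1 : IsFM F R₃ ψinv := hψinv.mono hR₃T₁'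
      have h2 : IsFM F R₃ (fun y => θ₂ (ψinv y)) := h1.comp hθ₂ (fun y hy => by
        obtain ⟨x, hx, rfl⟩ := (hR₃ y).mp hy
        rw [hl x (hR₂T₁ hx)]
        exact hx)
      exact h2.comp hψ (fun y hy => by
        obtain ⟨x, hx, rfl⟩ := (hR₃ y).mp hy
        show θ₂ (ψinv (ofHom χ x)) ∈ T₁
        rw [hl x (hR₂T₁ hx)]
        exact hTT₁ (hθ₂T x hx))
    have hU₂R₃ : U₂ ≤ R₃ := hψU.le_of_forall (fun x hx => hR₃.mem (hWR₂ hx))
    have hθ₃U : ∀ u ∈ U₂, ofHom χ (θ₂ (ψinv u)) ∈ U₂ := by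
      intro u hu
      obtain ⟨u₁, hu₁, rfl⟩ := (hψU u).mp hu
      rw [hl u₁ (hU₁T₁ hu₁)]
      exact hψU.mem (hθ₂W u₁ hu₁)
    have hR₃N : R₃ ≤ normalizerIn S U₂ := hR₃.le_of_forall (fun x hx => hψval x (hR₂T₁ hx))
    have hT₁'N : T₁' ≤ normalizerIn S U₂ := hT₁'.le_of_forall hψval
    have hcardT₁ : Nat.card T₁ ≤ Nat.card (normalizerIn S U₂) := by
      rw [← hψ.card_image hT₁']
      haveI : Finite ↥(normalizerIn S U₂) := finite_of_le (normalizerIn_le S U₂)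
      exact Subgroup.card_le_of_le hT₁'N
    have hleS : Nat.card (normalizerIn S U₂) ≤ Nat.card S := Subgroup.card_le_of_le (normalizerIn_le S U₂)
    have h3 : 𝒞.C R₃ (fun y => ofHom χ (θ₂ (ψinv y))) :=
      ih (Nat.card S - Nat.card (normalizerIn S U₂)) (by omega) U₂ hfn₂ ⟨U₁, hXU₁, hconj⟩ rfl (by omega)
        R₃ _ hU₂R₃ hR₃N hθ₃ hθ₃U
    -- back to `θ₂`
    have hψinvC : 𝒞.C T₁' ψinv := 𝒞.inverse hψC hT₁' hl
    have h4 : 𝒞.C R₂ (fun x => ofHom χ (θ₂ (ψinv (ofHom χ x)))) :=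
      𝒞.comp (R' := R₃) (θ := ofHom χ) (θ' := fun y => ofHom χ (θ₂ (ψinv y))) (𝒞.mono hψC hR₂T₁) h3
        (fun x hx => hR₃.mem hx)
    have h5 : 𝒞.C R₂ (fun x => ψinv (ofHom χ (θ₂ (ψinv (ofHom χ x))))) :=
      𝒞.comp h4 hψinvC (fun x hx => by
        show ofHom χ (θ₂ (ψinv (ofHom χ x))) ∈ T₁'
        rw [hl x (hR₂T₁ hx)]
        exact hT₁'.mem (hTT₁ (hθ₂T x hx)))
    refine 𝒞.congr h5 (fun x hx => ?_)
    show ψinv (ofHom χ (θ₂ (ψinv (ofHom χ x)))) = θ₂ x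
    rw [hl x (hR₂T₁ hx), hl _ (hTT₁ (hθ₂T x hx))]

end Climb

end Cfsg.Agent.Lib.Helper27.GN
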