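import Cfsg.Agent.Lib.Helper27.GN1

/-!
helper27: generation theorems for fusion systems, the reduction theorem: if a class of partial maps closed under
restriction, composition and inverses contains the maps of `F` fixing `X ≤ Z(S)` pointwise and the maps normalizing
`W(S)`, then it contains all the maps of `F`, provided this holds for the constrained systems.
-/

set_option autoImplicit false
set_option linter.unusedSectionVars false
set_option linter.unusedVariables false

namespace Cfsg.Agent.Lib.Helper27.GN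

open Cfsg Cfsg.FusionSystem Cfsg.Agent.Lib.Helper26 Cfsg.Agent.Lib.Helper27.FM
  Cfsg.Agent.Lib.Helper27.ModelRad Cfsg.Agent.Lib.Helper27.KL

universe u

variable {Ω : Type u} [Group Ω] {p : ℕ} [Fact p.Prime] {W : ∀ (Q : Type u) [Group Q], Subgroup Q}

/-- The data of the reduction: admissible base groups and the constrained case. -/
structure GData (p : ℕ) (W : ∀ (Q : Type u) [Group Q], Subgroup Q) (𝒞 : MapClass Ω) (X : Subgroup Ω) where
  Adm : Subgroup Ω → Prop
  le : ∀ {T : Subgroup Ω}, Adm T → X ≤ T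
  central : ∀ {T : Subgroup Ω}, Adm T → ∀ t ∈ T, ∀ q ∈ X, t * q * t⁻¹ = q
  sub : ∀ {T T' : Subgroup Ω}, Adm T → T' ≤ T → (∀ z ∈ T, (∀ t ∈ T, t * z * t⁻¹ = z) → z ∈ T') → Adm T'
  model : ∀ (T : Subgroup Ω) [Finite T], IsPGroup p T → ∀ E : FusionSystem T, E.IsSaturated p →
    E.IsCentric E.core → Adm T → FixIn 𝒞 E X → NormIn 𝒞 W E → AllIn 𝒞 E

/-- The induction hypothesis. -/
def IHg (p : ℕ) (W : ∀ (Q : Type u) [Group Q], Subgroup Q) {𝒞 : MapClass Ω} {X : Subgroup Ω}
    (D : GData p W 𝒞 X) (n m : ℕ) : Prop :=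
  ∀ (T : Subgroup Ω) [Finite T], IsPGroup p T → ∀ E : FusionSystem T, E.IsSaturated p → D.Adm T →
    FixIn 𝒞 E X → NormIn 𝒞 W E → (Nat.card T < n ∨ (Nat.card T = n ∧ GT.mu E < m)) → AllIn 𝒞 E

variable {S : Subgroup Ω} {X : Subgroup Ω} {𝒞 : MapClass Ω}

theorem ih_sub_g {D : GData p W 𝒞 X} {n m : ℕ} (IH : IHg p W D n m) [Finite S] (hS : IsPGroup p S)
    (F : FusionSystem S) (hF : F.IsSaturated p) (hn : Nat.card S = n) (hm : GT.mu F = m) {T : Subgroup Ω}
    (hTS : T ≤ S) (E : FusionSystem T) (hE : E.IsSaturated p) (hAdm : D.Adm T) (hfix : FixIn 𝒞 E X)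
    (hnrm : NormIn 𝒞 W E)
    (hle : ∀ P, E.Hom P ⊆ F.Hom P) (hne : ¬ ∀ P, F.Hom P ⊆ E.Hom P) : AllIn 𝒞 E := by
  haveI : Finite ↥T := finite_of_le hTS
  have hpT : IsPGroup p T := hS.to_le hTS
  rcases (Subgroup.card_le_of_le hTS).lt_or_eq with h | h
  · exact IH T hpT E hE hAdm hfix hnrm (Or.inl (hn ▸ h))
  · have hTS' : T = S := Subgroup.eq_of_le_of_card_ge hTS h.ge
    subst hTS'
    exact IH T hpT E hE hAdm hfix hnrm (Or.inr ⟨hn, hm ▸ GT.mu_lt hS E F hF hle hne⟩)

/-- The maps of `F` lying in the class, as a closed predicate. -/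
def genPM (hW : PosChar p W) [Finite S] (hS : IsPGroup p S) (F : FusionSystem S) (𝒞 : MapClass Ω)
    (hnormW : NormIn 𝒞 W F) : PMPred F where
  C R θ := IsFM F R θ ∧ 𝒞.C R θ
  isFM := fun h => h.1
  mono := fun h hle => ⟨h.1.mono hle, 𝒞.mono h.2 hle⟩
  congr := fun h he => ⟨h.1.congr he, 𝒞.congr h.2 he⟩
  conj := by
    intro R s hR hs
    refine ⟨isFM_conj F hR hs, 𝒞.mono (hnormW S _ (isFM_conj F le_rfl hs) (WS_le W S) (fun u hu => ?_)) hR⟩
    exact hW.conj_mem hS (Subgroup.le_normalizer hs) hu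
  comp := fun h h' hRR' => ⟨h.1.comp h'.1 hRR', 𝒞.comp h.2 h'.2 hRR'⟩
  inverse := by
    intro R R' θ θinv h hi hinv
    refine ⟨?_, 𝒞.inverse h.2 hi hinv⟩
    obtain ⟨θ₂, hθ₂, -, hl, hr⟩ := h.1.exists_inverse hi
    refine hθ₂.congr (fun y hy => ?_)
    obtain ⟨x, hx, rfl⟩ := (hi y).mp hy
    rw [hl x hx, hinv x hx]

/-- The inductive step of the reduction theorem. -/
theorem gen_step (hW : PosChar p W)
    (hWZ : ∀ (Q : Type u) [Group Q] [Finite Q], IsPGroup p Q → Subgroup.center Q ≤ W Q)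
    (D : GData p W 𝒞 X) {n m : ℕ} (IH : IHg p W D n m) [Finite S] (hS : IsPGroup p S) (F : FusionSystem S)
    (hF : F.IsSaturated p) (hAdm : D.Adm S) (hfix : FixIn 𝒞 F X) (hnormW : NormIn 𝒞 W F)
    (hn : Nat.card S = n) (hm : GT.mu F = m) : AllIn 𝒞 F := by
  have hXS : X ≤ S := D.le hAdm
  have hXc : ∀ s ∈ S, ∀ q ∈ X, s * q * s⁻¹ = q := D.central hAdm
  haveI : Finite ↥X := finite_of_le hXS
  have hQ : F.IsNormal F.core := core_isNormal F
  have hQS : F.core ≤ S := hQ.1
  have hsc := stronglyClosed_of_isNormal F hQ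
  by_cases hQc : F.IsCentric F.core
  · exact D.model S hS F hF hQc hAdm hfix hnormW
  haveI : Finite ↥F.core := finite_of_le hQS
  have hSN : S ≤ Subgroup.normalizer (F.core : Set Ω) := le_normalizer_of_stronglyClosed F hsc
  have hQn : ∀ s ∈ S, ∀ q ∈ F.core, s * q * s⁻¹ ∈ F.core := fun s hs q hq =>
    (Subgroup.mem_normalizer_iff.mp (hSN hs) q).mp hq
  have hScent : S ≤ Subgroup.centralizer (X : Set Ω) := by
    intro s hs
    rw [Subgroup.mem_centralizer_iff]
    intro y hy
    have := hXc s hs y hy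
    calc y * s = s * y * s⁻¹ * s := by rw [this]
      _ = s * y := by group
  -- systems of normalizers of non-normal subgroups
  have hsub : ∀ (U : Subgroup Ω) (hU : U ≤ S), F.IsFullyNormalized U → ¬ F.IsNormal U →
      NormIn 𝒞 W (normalizerSystem F U hU) → AllIn 𝒞 (normalizerSystem F U hU) := by
    intro U hU hUfn hUn hnrmU
    have hE := normalizerSystem_isNormalizerSystem F U hU
    refine ih_sub_g IH hS F hF hn hm (normalizerIn_le S U) _ (normalizerSystem_saturated hS F hF hUfn _ hE)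
      (D.sub hAdm (normalizerIn_le S U) ?_) ?_ hnrmU (fun P φ hφ => hφ.1)
      (fun hall => hUn (isNormal_of_forall_normalizerHom F hU hall))
    · intro z hzS hzc
      exact central_mem_normalizerIn hU hzS hzc
    · intro R θ hθ hXR hθX
      exact hfix R θ (hθ.of_normalizer hE) hXR hθX
  -- the closed predicate
  set PM : PMPred F := genPM hW hS F 𝒞 hnormW with hPM
  -- normal subgroups containing `X`
  have hnorm : ∀ U : Subgroup Ω, F.IsNormal U → X ≤ U → AllIn 𝒞 F := by
    intro U hUn hXU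
    have hXQ : X ≤ F.core := hXU.trans (le_sSup hUn)
    have hRS : F.core ⊔ centralizerIn S F.core ≤ S := sup_le hQS (centralizerIn_le S F.core)
    have hRn : ∀ s ∈ S, ∀ r ∈ F.core ⊔ centralizerIn S F.core,
        s * r * s⁻¹ ∈ F.core ⊔ centralizerIn S F.core := fun s hs =>
      conj_mem_sup_of_forall (hQn s hs) (fun c hc => conj_mem_centralizerIn hQn hs hc)
    haveI : Finite ↥(F.core ⊔ centralizerIn S F.core) := finite_of_le hRS
    have hNR : normalizerIn S (F.core ⊔ centralizerIn S F.core) = S :=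
      le_antisymm (normalizerIn_le S _) (fun s hs => ⟨hs, mem_normalizer_of_conj_mem_finite (hRn s hs)⟩)
    have hRfn : F.IsFullyNormalized (F.core ⊔ centralizerIn S F.core) :=
      GT.isFullyNormalized_of_normalizerIn_eq F hRS hNR
    have hE₀ := normalizerSystem_isNormalizerSystem F _ hRS
    have hne₀ : ¬ ∀ P, F.Hom P ⊆ (normalizerSystem F _ hRS).Hom P := by
      intro hall
      have hRnorm : F.IsNormal (F.core ⊔ centralizerIn S F.core) :=
        isNormal_of_forall_normalizerHom F hRS hall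
      have h1 : F.core ⊔ centralizerIn S F.core ≤ F.core := le_sSup hRnorm
      exact hQc (KL.isCentric_of_isNormal_of_centralizerIn_le F hQ (le_sup_right.trans h1))
    have hfix₀ : FixIn 𝒞 (normalizerSystem F _ hRS) X := by
      intro R θ hθ hXR hθX
      exact hfix R θ (hθ.of_normalizer hE₀) hXR hθX
    have hnrm₀ : NormIn 𝒞 W (normalizerSystem F _ hRS) := by
      intro R θ hθ hWR hθW
      rw [WS_congr W hNR] at hWR hθW
      exact hnormW R θ (hθ.of_normalizer hE₀) hWR hθW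
    have hAdm₀ : D.Adm (normalizerIn S (F.core ⊔ centralizerIn S F.core)) :=
      D.sub hAdm (normalizerIn_le S _) (fun z hzS _ => hNR.symm ▸ hzS)
    have hAll₀ : AllIn 𝒞 (normalizerSystem F _ hRS) :=
      ih_sub_g IH hS F hF hn hm (normalizerIn_le S _) _ (normalizerSystem_saturated hS F hF hRfn _ hE₀)
        hAdm₀ hfix₀ hnrm₀ (fun P φ hφ => hφ.1) hne₀
    have key : ∀ (R : Subgroup Ω) (θ : Ω → Ω), IsFM F R θ → PM.C R θ := by
      apply PM.forall_of_gen hS hF hQ hQn
      · rintro R θ ⟨θ', h1, h2, s, hs, h3⟩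
        have hθ : IsFM F R θ := (h1.mono le_sup_left).congr h2
        refine ⟨hθ, ?_⟩
        -- `θ'` followed by conjugation with `s⁻¹` fixes `Q` pointwise
        have hcs : IsFM F S (fun x => s⁻¹ * x * s⁻¹⁻¹) := isFM_conj F le_rfl (S.inv_mem hs)
        have h4 : IsFM F (R ⊔ F.core) (fun x => s⁻¹ * θ' x * s⁻¹⁻¹) :=
          h1.comp hcs (fun x hx => h1.mem hx)
        have h5 : 𝒞.C (R ⊔ F.core) (fun x => s⁻¹ * θ' x * s⁻¹⁻¹) := by
          apply hfix _ _ h4 (hXQ.trans le_sup_right)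
          intro q hq
          show s⁻¹ * θ' q * s⁻¹⁻¹ = q
          rw [h3 q (hXQ hq)]
          group
        have h6 : 𝒞.C S (fun x => s * x * s⁻¹) := (PM.conj (R := S) le_rfl hs).2
        have h7 : 𝒞.C (R ⊔ F.core) (fun x => s * (s⁻¹ * θ' x * s⁻¹⁻¹) * s⁻¹) :=
          𝒞.comp (R' := S) (θ := fun x => s⁻¹ * θ' x * s⁻¹⁻¹) (θ' := fun x => s * x * s⁻¹) h5 h6
            (fun x hx => h4.mem hx)
        refine 𝒞.congr (𝒞.mono h7 le_sup_left) (fun x hx => ?_)
        show s * (s⁻¹ * θ' x * s⁻¹⁻¹) * s⁻¹ = θ x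
        rw [← h2 x hx]
        group
      · intro R θ hθ
        exact ⟨hθ.of_normalizer hE₀, hAll₀ R θ hθ⟩
    intro R θ hθ
    exact (key R θ hθ).2
  -- Alperin with induction
  have key : ∀ (R : Subgroup Ω) (θ : Ω → Ω), IsFM F R θ → PM.C R θ := by
    apply PM.forall_of_step hS hF
    intro P hPS hPfn hPess IH' a ha hi
    refine ⟨ha, ?_⟩
    have hXP : X ≤ P := by
      rcases hPess with rfl | ⟨hess, -⟩
      · exact hXS
      · exact le_of_essential_of_le_centralizer F hess hXS hScent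
    rcases hPess with rfl | ⟨hess, hne⟩
    · have himg := hW.isImage_of_isFM hS ha hi
      exact hnormW P a ha (WS_le W P) (fun u hu => himg.mem hu)
    · have hleS : Nat.card (normalizerIn S P) ≤ Nat.card S := Subgroup.card_le_of_le (normalizerIn_le S P)
      exact gen_climb hW hWZ hS F hF 𝒞 hXS hXc hnormW hsub hnorm (Nat.card P)
        (fun R θ hθ hlt => (IH' R θ hθ hlt).2)
        (Nat.card S - Nat.card (normalizerIn S P)) P hPfn ⟨P, hXP, isConj_refl F hPS⟩ rfl
        (card_lt_card_normalizerIn hS hPS hne)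
        P a le_rfl (le_normalizerIn hPS) ha (fun u hu => hi.mem hu)
  intro R θ hθ
  exact (key R θ hθ).2

/-- **The reduction theorem for generation.** -/
theorem gen_main (hW : PosChar p W)
    (hWZ : ∀ (Q : Type u) [Group Q] [Finite Q], IsPGroup p Q → Subgroup.center Q ≤ W Q)
    (D : GData p W 𝒞 X) :
    ∀ (n m : ℕ) (T : Subgroup Ω) [Finite T], IsPGroup p T → ∀ E : FusionSystem T, E.IsSaturated p →
      D.Adm T → FixIn 𝒞 E X → NormIn 𝒞 W E → Nat.card T = n → GT.mu E = m → AllIn 𝒞 E := by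
  intro n
  induction n using Nat.strong_induction_on with
  | _ n ihn =>
    intro m
    induction m using Nat.strong_induction_on with
    | _ m ihm =>
      intro T _ hT E hE hAdm hfix hnrm hn hm
      apply gen_step hW hWZ D (n := n) (m := m) ?_ hT E hE hAdm hfix hnrm hn hm
      intro T' _ hT' E' hE' hAdm' hfix' hnrm' hlt
      rcases hlt with h | ⟨h1, h2⟩
      · exact ihn _ h _ T' hT' E' hE' hAdm' hfix' hnrm' rfl rfl
      · exact ihm _ h2 T' hT' E' hE' hAdm' hfix' hnrm' h1 rfl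

end Cfsg.Agent.Lib.Helper27.GN
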