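import Cfsg.Agent.Lib.Helper27.GN2
import Cfsg.Agent.Lib.Helper27.ZJFun
import Cfsg.Agent.Lib.Helper27.GlaubRepl2

/-!
helper27: the Thompson subgroup `J` (generated by the abelian subgroups of largest order) is a positive
characteristic `p`-functor containing the center and has the quadratic property: if `J(P)` is not normal in `G`, some
element of `P` outside `O_p(G)` acts quadratically on `Z(O_p(G))` (by Thompson's replacement theorem).
-/

set_option autoImplicit false
set_option linter.unusedSectionVars false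
set_option linter.unusedVariables false

namespace Cfsg.Agent.Lib.Helper27.GN

open Cfsg Cfsg.Agent.Lib.Helper27.KL Cfsg.Agent.Lib.Helper27.GlaubRepl
open scoped commutatorElement

universe u

section Repl

variable {S : Type*} [Group S] [Finite S] {p : ℕ} [Fact p.Prime]

/-- Thompson's replacement theorem (all primes): for abelian `A` and an abelian normal `B` not normalizing `A`. -/
theorem replacement_abelian (hS : IsPGroup p S) (A B : Subgroup S) [hBn : B.Normal]
    (hA : ∀ x ∈ A, ∀ y ∈ A, x * y = y * x) (hB : ∀ x ∈ B, ∀ y ∈ B, x * y = y * x)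
    (hnot : ¬ B ≤ Subgroup.normalizer (A : Set S)) :
    ∃ A' : Subgroup S, Nat.card A' = Nat.card A ∧ (∀ x ∈ A', ∀ y ∈ A', x * y = y * x) ∧
      A ⊓ B < A' ⊓ B ∧ A' ≤ Subgroup.normalizer (A : Set S) := by
  obtain ⟨b, hb, hbN, hbA⟩ := exists_normalizing hS A B hnot
  have hBA : ⁅B, B⁆ ≤ A := by
    rw [Subgroup.commutator_le]
    intro x hx y hy
    have : ⁅x, y⁆ = 1 := commutatorElement_eq_one_iff_mul_comm.mpr (hB x hx y hy)
    rw [this]
    exact A.one_mem
  have h : Hyp A B b := ⟨hA, hBn, hb, hBA, hbN, Or.inl hB⟩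
  have hbinv : b⁻¹ ∉ Subgroup.normalizer (A : Set S) := fun hc => hbA (by simpa using inv_mem hc)
  have hex : ∃ a ∈ A, b⁻¹ * a * b ∉ A := by
    by_contra hcon
    push Not at hcon
    apply hbinv
    apply Subgroup.mem_normalizer_fintype
    intro n hn
    have := hcon n hn
    simpa using this
  obtain ⟨a₀, ha₀, ha₀'⟩ := hex
  refine ⟨h.aStar, h.card_aStar, fun x hx y hy => h.aStar_comm hx hy, ?_, h.aStar_le_N⟩
  refine lt_of_le_not_ge h.inf_le_aStar_inf ?_
  intro hle
  have := (hle (h.phi_mem_aStar_inf ha₀)).1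
  rw [h.phi_eq] at this
  apply ha₀'
  have h2 := A.mul_mem (A.inv_mem this) ha₀
  have e : (a₀ * (b⁻¹ * a₀ * b)⁻¹)⁻¹ * a₀ = b⁻¹ * a₀ * b := by group
  rwa [e] at h2

end Repl

/-- The functor `J`. -/
abbrev JF : ∀ (Q : Type u) [Group Q], Subgroup Q := fun Q _ => Cfsg.thompsonSubgroupA Q

theorem center_le_JF (Q : Type u) [Group Q] [Finite Q] : Subgroup.center Q ≤ JF Q :=
  (ZJFun.center_le_zjA Q).trans inf_le_left

theorem posChar_JF (p : ℕ) [Fact p.Prime] : PosChar p JF.{u} := by
  refine ⟨?_, ?_⟩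
  · intro Q _ _ hQ hnt hbot
    have := hQ.center_nontrivial
    have hc : Subgroup.center Q ≠ ⊥ := by
      rw [← Subgroup.nontrivial_iff_ne_bot]; exact this
    apply hc
    rw [eq_bot_iff, ← hbot]
    exact center_le_JF Q
  · intro Q R _ _ _ _ φ
    exact ZJFun.thompsonSubgroupA_map_equiv φ

section Quad

variable (p : ℕ) [Fact p.Prime]

/-- Membership in `J(P)` seen in the ambient group. -/
theorem map_le_JF_of_mem {G : Type u} [Group G] {P : Subgroup G} {A : Subgroup ↥P}
    (hA : A ∈ Cfsg.maxAbelianSubgroups ↥P) : A.map P.subtype ≤ (JF ↥P).map P.subtype :=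
  Subgroup.map_mono (le_sSup hA)

/-- If all the abelian subgroups of largest order of `P` lie in the normal subgroup `T ≤ P` of `G`, then `J(P)` is
normal in `G`. -/
theorem JF_normal_of_forall_le {G : Type u} [Group G] [Finite G] (P T : Subgroup G) [hTn : T.Normal] (hTP : T ≤ P)
    (hall : ∀ A ∈ Cfsg.maxAbelianSubgroups ↥P, A.map P.subtype ≤ T) :
    ((JF ↥P).map P.subtype : Subgroup G).Normal := by
  have key : ∀ g : G, ((JF ↥P).map P.subtype).map (MulAut.conj g).toMonoidHom ≤ (JF ↥P).map P.subtype := by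
    intro g
    rw [Subgroup.map_map, Subgroup.map_le_iff_le_comap]
    apply sSup_le
    intro A hA
    rw [← Subgroup.map_le_iff_le_comap]
    have hAT : A.map ((MulAut.conj g).toMonoidHom.comp P.subtype) ≤ T := by
      rw [← Subgroup.map_map]
      rintro _ ⟨x, hx, rfl⟩
      exact hTn.conj_mem x (hall A hA hx) g
    have hinj : Function.Injective ((MulAut.conj g).toMonoidHom.comp P.subtype) :=
      (MulAut.conj g).injective.comp P.subtype_injective
    set A₁ : Subgroup G := A.map ((MulAut.conj g).toMonoidHom.comp P.subtype) with hA₁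
    have hA₁P : A₁ ≤ P := hAT.trans hTP
    have hmap : (A₁.subgroupOf P).map P.subtype = A₁ := Subgroup.map_subgroupOf_eq_of_le hA₁P
    have hcard : Nat.card ↥(A₁.subgroupOf P) = Nat.card ↥A := by
      rw [← Subgroup.card_map_of_injective P.subtype_injective, hmap, hA₁,
        Subgroup.card_map_of_injective hinj]
    have hab : AbSub A := (abSub_iff A).mpr hA.1
    have hmem : A₁.subgroupOf P ∈ Cfsg.maxAbelianSubgroups ↥P := by
      refine ⟨?_, fun B hB => by rw [hcard]; exact hA.2 B hB⟩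
      rw [← abSub_iff]
      intro x hx y hy
      rw [Subgroup.mem_subgroupOf] at hx hy
      obtain ⟨x', hx', hxe⟩ := hx
      obtain ⟨y', hy', hye⟩ := hy
      apply Subtype.ext
      rw [Subgroup.coe_mul, Subgroup.coe_mul, ← hxe, ← hye, ← map_mul, ← map_mul, hab x' hx' y' hy']
    rw [← hmap]
    exact map_le_JF_of_mem hmem
  constructor
  intro x hx g
  exact key g ⟨x, hx, rfl⟩

/-- **The quadratic property of `J`.** -/
theorem quadProp_JF : QuadProp p JF.{u} := by
  intro G _ _ P hnn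
  classical
  set T : Subgroup G := Cfsg.pCore p G with hT
  haveI hTn : T.Normal := Cfsg.Agent.Lib.Helper17.pCore_normal p G
  have hTP : T ≤ (P : Subgroup G) := Cfsg.Agent.Lib.Helper16.pCore_le_sylow P
  set V : Subgroup G := (Subgroup.center ↥T).map T.subtype with hVdef
  have hmemV : ∀ v, v ∈ V ↔ v ∈ T ∧ ∀ q ∈ T, q * v = v * q := mem_center_pCore_map p
  have hVT : V ≤ T := fun v hv => ((hmemV v).mp hv).1
  have hVn : ∀ h v, v ∈ V → h * v * h⁻¹ ∈ V := by
    intro h v hv
    rw [hmemV] at hv ⊢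
    refine ⟨hTn.conj_mem v hv.1 h, fun q hq => ?_⟩
    have hq' : h⁻¹ * q * h⁻¹⁻¹ ∈ T := hTn.conj_mem q hq h⁻¹
    have h1 := hv.2 _ hq'
    calc q * (h * v * h⁻¹) = h * ((h⁻¹ * q * h⁻¹⁻¹) * v) * h⁻¹ := by group
      _ = h * (v * (h⁻¹ * q * h⁻¹⁻¹)) * h⁻¹ := by rw [h1]
      _ = h * v * h⁻¹ * q := by group
  haveI hVnorm : V.Normal := ⟨fun v hv h => hVn h v hv⟩
  set V' : Subgroup ↥(P : Subgroup G) := V.subgroupOf (P : Subgroup G) with hV'
  haveI hV'n : V'.Normal := hVnorm.subgroupOf _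
  have hV'ab : ∀ x ∈ V', ∀ y ∈ V', x * y = y * x := by
    intro x hx y hy
    rw [hV', Subgroup.mem_subgroupOf] at hx hy
    apply Subtype.ext
    rw [Subgroup.coe_mul, Subgroup.coe_mul]
    exact ((hmemV _).mp hy).2 _ ((hmemV _).mp hx).1
  haveI : Finite ↥(P : Subgroup G) := inferInstance
  -- some abelian subgroup of largest order is not contained in `T`
  have hex : ∃ A ∈ Cfsg.maxAbelianSubgroups ↥(P : Subgroup G), ¬ A.map (P : Subgroup G).subtype ≤ T := by
    by_contra hcon
    push Not at hcon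
    exact hnn (JF_normal_of_forall_le (P : Subgroup G) T hTP hcon)
  have hfin : {A : Subgroup ↥(P : Subgroup G) | A ∈ Cfsg.maxAbelianSubgroups ↥(P : Subgroup G) ∧
      ¬ A.map (P : Subgroup G).subtype ≤ T}.Finite := Set.toFinite _
  obtain ⟨A, hA, hmax⟩ := Set.exists_max_image _
    (fun A : Subgroup ↥(P : Subgroup G) => Nat.card ↥(A ⊓ V')) hfin hex
  have hAab : ∀ x ∈ A, ∀ y ∈ A, x * y = y * x := (abSub_iff A).mpr hA.1.1
  -- `V'` normalizes `A`
  have hVN : V' ≤ Subgroup.normalizer (A : Set ↥(P : Subgroup G)) := by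
    by_contra hnot
    obtain ⟨A', hcard, hab', hlt, hA'N⟩ := replacement_abelian P.isPGroup' A V' hAab hV'ab hnot
    have hA'mem : A' ∈ Cfsg.maxAbelianSubgroups ↥(P : Subgroup G) :=
      ⟨(abSub_iff A').mp hab', fun B hB => by rw [hcard]; exact hA.1.2 B hB⟩
    have hA'T : A'.map (P : Subgroup G).subtype ≤ T := by
      by_contra hA'T
      have := hmax A' ⟨hA'mem, hA'T⟩
      have heq := Subgroup.eq_of_le_of_card_ge hlt.le this
      exact hlt.ne heq
    have hVA' : V' ≤ A' := by
      intro v hv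
      have hcomm : ∀ a ∈ A', a * v = v * a := by
        intro a ha
        have haT : (a : G) ∈ T := hA'T ⟨a, ha, rfl⟩
        rw [hV', Subgroup.mem_subgroupOf] at hv
        apply Subtype.ext
        rw [Subgroup.coe_mul, Subgroup.coe_mul]
        exact ((hmemV _).mp hv).2 _ haT
      have h1 : AbSub (A' ⊔ Subgroup.zpowers v) :=
        goodClass_abSub.join A' v hab' (abSub_zpowers v) hcomm
      have h3 := hA'mem.2 _ ((abSub_iff _).mp h1)
      have h4 : A' = A' ⊔ Subgroup.zpowers v := Subgroup.eq_of_le_of_card_ge le_sup_left h3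
      rw [h4]
      exact Subgroup.mem_sup_right (Subgroup.mem_zpowers v)
    exact hnot (hVA'.trans hA'N)
  -- an element of `A` outside `T`
  obtain ⟨x, hxA, hxT⟩ := SetLike.not_le_iff_exists.mp hA.2
  obtain ⟨a, ha, rfl⟩ := hxA
  refine ⟨(a : G), a.2, hxT, ?_⟩
  set AG : Subgroup G := A.map (P : Subgroup G).subtype with hAG
  have hZA : Subgroup.zpowers (a : G) ≤ AG := by
    rw [Subgroup.zpowers_le]
    exact ⟨a, ha, rfl⟩
  have hVZ : ⁅V, Subgroup.zpowers (a : G)⁆ ≤ AG := by
    rw [Subgroup.commutator_le]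
    intro v hv n hn
    obtain ⟨n', hn', rfl⟩ := hZA hn
    have hvP : v ∈ (P : Subgroup G) := hTP (hVT hv)
    have hv' : (⟨v, hvP⟩ : ↥(P : Subgroup G)) ∈ V' := by
      rw [hV', Subgroup.mem_subgroupOf]; exact hv
    have h1 := (Subgroup.mem_normalizer_iff.mp (hVN hv') n').mp hn'
    refine ⟨⟨v, hvP⟩ * n' * ⟨v, hvP⟩⁻¹ * n'⁻¹, A.mul_mem h1 (A.inv_mem hn'), ?_⟩
    rfl
  rw [eq_bot_iff]
  refine (Subgroup.commutator_mono hVZ hZA).trans ?_
  rw [Subgroup.commutator_le]
  rintro _ ⟨x, hx, rfl⟩ _ ⟨y, hy, rfl⟩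
  rw [Subgroup.mem_bot, commutatorElement_eq_one_iff_mul_comm, ← map_mul, ← map_mul, hAab x hx y hy]

end Quad

end Cfsg.Agent.Lib.Helper27.GN
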