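import Cfsg.Agent.Lib.Helper27.GN3
import Cfsg.Agent.Lib.Helper27.AG3
import Cfsg.Agent.Lib.Helper16.StronglyEmbedded

/-!
helper27: a group-theoretic generation theorem of Glauberman in fusion form: in a group `L` with
`C_L(O_p(L)) ≤ O_p(L)` and Sylow `p`-subgroup `P`, every conjugation map between subgroups of `P` is a composite of
conjugation maps (between subgroups of `P`) by elements centralizing the `p`-th powers of the elements of `Z(P)` and
by elements normalizing `W(P)`, for a positive characteristic functor `W` with the quadratic property.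
-/

set_option autoImplicit false
set_option linter.unusedSectionVars false
set_option linter.unusedVariables false

namespace Cfsg.Agent.Lib.Helper27.GN

open Cfsg Cfsg.Agent.Lib.Helper27.KL
open scoped commutatorElement

universe u

/-- A class of conjugation maps between subgroups of `P`, closed under restriction and composition. -/
structure ConjClass (L : Type u) [Group L] (P : Subgroup L) where
  D : Subgroup L → L → Prop
  mono : ∀ {R R' : Subgroup L} {g : L}, D R g → R' ≤ R → D R' g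
  comp : ∀ {R R' : Subgroup L} {g h : L}, D R g → D R' h → R' ≤ P → (∀ x ∈ R, g * x * g⁻¹ ∈ R') → D R (h * g)

/-- The restriction of a class to a subgroup. -/
def ConjClass.restrict {L : Type u} [Group L] {P : Subgroup L} (𝒟 : ConjClass L P) (H : Subgroup L) :
    ConjClass ↥H (P.subgroupOf H) where
  D R h := 𝒟.D (R.map H.subtype) (h : L)
  mono := fun hD hle => 𝒟.mono hD (Subgroup.map_mono hle)
  comp := by
    intro R R' g h hD hD' hR' hmap
    have h1 : R'.map H.subtype ≤ P := by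
      rintro _ ⟨x, hx, rfl⟩
      exact Subgroup.mem_subgroupOf.mp (hR' hx)
    have h2 : ∀ x ∈ R.map H.subtype, (g : L) * x * (g : L)⁻¹ ∈ R'.map H.subtype := by
      rintro _ ⟨x, hx, rfl⟩
      exact ⟨g * x * g⁻¹, hmap x hx, rfl⟩
    exact 𝒟.comp hD hD' h1 h2

variable {p : ℕ} [Fact p.Prime] {W : ∀ (Q : Type u) [Group Q], Subgroup Q}

/-- **Glauberman's generation theorem**, fusion form. -/
theorem gen_group (hW : PosChar p W) (hq : QuadProp p W) :
    ∀ (n : ℕ) (L : Type u) [Group L] [Finite L], Nat.card L = n → ∀ (P : Sylow p L),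
      Subgroup.centralizer ((Cfsg.pCore p L : Subgroup L) : Set L) ≤ Cfsg.pCore p L →
      ∀ 𝒟 : ConjClass L (P : Subgroup L),
      (∀ (R : Subgroup L) (g : L), R ≤ (P : Subgroup L) → (∀ x ∈ R, g * x * g⁻¹ ∈ (P : Subgroup L)) →
        (∀ z ∈ (P : Subgroup L), (∀ y ∈ (P : Subgroup L), y * z = z * y) → g * z ^ p = z ^ p * g) → 𝒟.D R g) →
      (∀ (R : Subgroup L) (g : L), R ≤ (P : Subgroup L) → (∀ x ∈ R, g * x * g⁻¹ ∈ (P : Subgroup L)) →
        g ∈ Subgroup.normalizer (((W ↥(P : Subgroup L)).map (P : Subgroup L).subtype : Subgroup L) : Set L) →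
        𝒟.D R g) →
      ∀ (R : Subgroup L) (g : L), R ≤ (P : Subgroup L) → (∀ x ∈ R, g * x * g⁻¹ ∈ (P : Subgroup L)) →
        𝒟.D R g := by
  intro n
  induction n using Nat.strong_induction_on with
  | _ n ih =>
  intro L _ _ hn P hcon 𝒟 hcen hnrm
  set Q : Subgroup L := Cfsg.pCore p L with hQdef
  haveI hQn : Q.Normal := Cfsg.Agent.Lib.Helper17.pCore_normal p L
  have hQP : Q ≤ (P : Subgroup L) := Cfsg.Agent.Lib.Helper16.pCore_le_sylow P
  -- the induction hypothesis for subgroups containing `P`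
  have hsubgroup : ∀ H : Subgroup L, (P : Subgroup L) ≤ H → H ≠ ⊤ →
      ∀ (R : Subgroup L) (h : L), h ∈ H → R ≤ (P : Subgroup L) → (∀ x ∈ R, h * x * h⁻¹ ∈ (P : Subgroup L)) →
        𝒟.D R h := by
    intro H hPH hHne R h hh hRP hmap
    have hcard : Nat.card ↥H < n := by
      rw [← hn]
      have hle := Subgroup.card_le_card_group H
      rcases hle.lt_or_eq with hlt | heq
      · exact hlt
      · exact absurd ((Subgroup.card_eq_iff_eq_top H).mp heq) hHne
    have hconH : Subgroup.centralizer ((Cfsg.pCore p ↥H : Subgroup ↥H) : Set ↥H) ≤ Cfsg.pCore p ↥H := by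
      have hQH : Q.subgroupOf H ≤ Cfsg.pCore p ↥H :=
        Cfsg.Agent.Lib.Helper16.le_pCore (hQn.subgroupOf H)
          ((Cfsg.Agent.Lib.Helper16.pCore_isPGroup (G := L) (p := p)).comap_subtype)
      intro c hc
      apply hQH
      rw [Subgroup.mem_subgroupOf]
      apply hcon
      rw [Subgroup.mem_centralizer_iff]
      intro q hq
      have hqH : q ∈ H := hPH (hQP hq)
      have h1 := Subgroup.mem_centralizer_iff.mp hc ⟨q, hqH⟩ (hQH (Subgroup.mem_subgroupOf.mpr hq))
      exact congrArg Subtype.val h1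
    have hPHe : ((P.subtype hPH : Sylow p ↥H) : Subgroup ↥H) = (P : Subgroup L).subgroupOf H :=
      P.coe_subtype hPH
    have hWmap : ((W ↥((P.subtype hPH : Sylow p ↥H) : Subgroup ↥H)).map
        ((P.subtype hPH : Sylow p ↥H) : Subgroup ↥H).subtype).map H.subtype =
        (W ↥(P : Subgroup L)).map (P : Subgroup L).subtype := by
      have h1 := map_WS_subgroupOf hW (A := (P : Subgroup L)) (H := H) P.isPGroup' hPH
      rw [hPHe]
      exact h1
    -- the restricted class
    let 𝒟H : ConjClass ↥H ((P.subtype hPH : Sylow p ↥H) : Subgroup ↥H) :=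
      { D := (𝒟.restrict H).D
        mono := (𝒟.restrict H).mono
        comp := by
          intro R R' g h hD hD' hR' hm
          exact (𝒟.restrict H).comp hD hD' (hPHe ▸ hR') hm }
    have hcenH : ∀ (R : Subgroup ↥H) (g : ↥H), R ≤ ((P.subtype hPH : Sylow p ↥H) : Subgroup ↥H) →
        (∀ x ∈ R, g * x * g⁻¹ ∈ ((P.subtype hPH : Sylow p ↥H) : Subgroup ↥H)) →
        (∀ z ∈ ((P.subtype hPH : Sylow p ↥H) : Subgroup ↥H),
          (∀ y ∈ ((P.subtype hPH : Sylow p ↥H) : Subgroup ↥H), y * z = z * y) → g * z ^ p = z ^ p * g) →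
        𝒟H.D R g := by
      intro R g hR hm hz
      rw [hPHe] at hR hm hz
      apply hcen
      · rintro _ ⟨x, hx, rfl⟩
        exact Subgroup.mem_subgroupOf.mp (hR hx)
      · rintro _ ⟨x, hx, rfl⟩
        exact Subgroup.mem_subgroupOf.mp (hm x hx)
      · intro z hzP hzc
        have h1 := hz ⟨z, hPH hzP⟩ (Subgroup.mem_subgroupOf.mpr hzP) (fun y hy => by
          apply Subtype.ext
          exact hzc y (Subgroup.mem_subgroupOf.mp hy))
        have h2 := congrArg Subtype.val h1
        rw [Subgroup.coe_mul, Subgroup.coe_mul, Subgroup.coe_pow] at h2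
        exact h2
    have hnrmH : ∀ (R : Subgroup ↥H) (g : ↥H), R ≤ ((P.subtype hPH : Sylow p ↥H) : Subgroup ↥H) →
        (∀ x ∈ R, g * x * g⁻¹ ∈ ((P.subtype hPH : Sylow p ↥H) : Subgroup ↥H)) →
        g ∈ Subgroup.normalizer (((W ↥((P.subtype hPH : Sylow p ↥H) : Subgroup ↥H)).map
          ((P.subtype hPH : Sylow p ↥H) : Subgroup ↥H).subtype : Subgroup ↥H) : Set ↥H) → 𝒟H.D R g := by
      intro R g hR hm hg
      rw [hPHe] at hR hm
      apply hnrm
      · rintro _ ⟨x, hx, rfl⟩
        exact Subgroup.mem_subgroupOf.mp (hR hx)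
      · rintro _ ⟨x, hx, rfl⟩
        exact Subgroup.mem_subgroupOf.mp (hm x hx)
      · rw [← hWmap]
        rw [Subgroup.mem_normalizer_iff] at hg ⊢
        intro y
        constructor
        · rintro ⟨y', hy', rfl⟩
          exact ⟨g * y' * g⁻¹, (hg y').mp hy', rfl⟩
        · rintro ⟨w, hw, hwe⟩
          have hyH : y ∈ H := by
            have h1 : (g : L)⁻¹ * ((g : L) * y * (g : L)⁻¹) * (g : L) = y := by group
            rw [← h1, ← hwe]
            exact H.mul_mem (H.mul_mem (H.inv_mem g.2) w.2) g.2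
          refine ⟨⟨y, hyH⟩, (hg ⟨y, hyH⟩).mpr ?_, rfl⟩
          have : g * ⟨y, hyH⟩ * g⁻¹ = w := Subtype.ext hwe.symm
          rw [this]
          exact hw
    have hRH : R ≤ H := hRP.trans hPH
    have key := ih (Nat.card ↥H) hcard ↥H rfl (P.subtype hPH) hconH 𝒟H hcenH hnrmH (R.subgroupOf H) ⟨h, hh⟩
      (by
        rw [hPHe]
        intro x hx
        rw [Subgroup.mem_subgroupOf] at hx ⊢
        exact hRP hx)
      (by
        rw [hPHe]
        intro x hx
        rw [Subgroup.mem_subgroupOf] at hx ⊢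
        exact hmap _ hx)
    have h2 : 𝒟.D ((R.subgroupOf H).map H.subtype) h := key
    rw [Subgroup.map_subgroupOf_eq_of_le hRH] at h2
    exact h2
  by_cases hWn : (((W ↥(P : Subgroup L)).map (P : Subgroup L).subtype : Subgroup L)).Normal
  · intro R g hRP hmap
    apply hnrm R g hRP hmap
    rw [Subgroup.normalizer_eq_top_iff.mpr hWn]
    trivial
  · obtain ⟨g₀, hgP, hgQ, hquad⟩ := hq L P hWn
    set V : Subgroup L := (Subgroup.center ↥Q).map Q.subtype with hVdef
    have hmemV : ∀ v, v ∈ V ↔ v ∈ Q ∧ ∀ q ∈ Q, q * v = v * q := mem_center_pCore_map p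
    have hzV : ∀ z ∈ (P : Subgroup L), (∀ y ∈ (P : Subgroup L), y * z = z * y) → z ∈ V := by
      intro z hzP hzc
      rw [hmemV]
      have hzQ : z ∈ Q := by
        apply hcon
        rw [Subgroup.mem_centralizer_iff]
        intro q hq
        exact hzc q (hQP hq)
      exact ⟨hzQ, fun q hq => hzc q (hQP hq)⟩
    have hVn : ∀ h v, v ∈ V → h * v * h⁻¹ ∈ V := by
      intro h v hv
      rw [hmemV] at hv ⊢
      refine ⟨hQn.conj_mem v hv.1 h, fun q hq => ?_⟩
      have hq' : h⁻¹ * q * h⁻¹⁻¹ ∈ Q := hQn.conj_mem q hq h⁻¹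
      have h1 := hv.2 _ hq'
      calc q * (h * v * h⁻¹) = h * ((h⁻¹ * q * h⁻¹⁻¹) * v) * h⁻¹ := by group
        _ = h * (v * (h⁻¹ * q * h⁻¹⁻¹)) * h⁻¹ := by rw [h1]
        _ = h * v * h⁻¹ * q := by group
    have hVab : ∀ a ∈ V, ∀ b ∈ V, a * b = b * a := by
      intro a ha b hb
      exact ((hmemV b).mp hb).2 a ((hmemV a).mp ha).1
    -- the right power of `g₀`
    have hex : ∃ k : ℕ, g₀ ^ p ^ k ∈ Q := by
      obtain ⟨m, hm⟩ := P.isPGroup' ⟨g₀, hgP⟩
      refine ⟨m, ?_⟩
      have : g₀ ^ p ^ m = 1 := by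
        have := congrArg Subtype.val hm
        simpa using this
      rw [this]
      exact Q.one_mem
    classical
    set k₀ := Nat.find hex with hk₀
    have hk₀Q : g₀ ^ p ^ k₀ ∈ Q := Nat.find_spec hex
    have hk₀ne : k₀ ≠ 0 := by
      intro h0
      rw [h0, pow_zero, pow_one] at hk₀Q
      exact hgQ hk₀Q
    set g' : L := g₀ ^ p ^ (k₀ - 1) with hg'
    have hg'Q : g' ∉ Q := Nat.find_min hex (by omega : k₀ - 1 < k₀)
    have hg'p : g' ^ p ∈ Q := by
      have : g' ^ p = g₀ ^ p ^ k₀ := by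
        rw [hg', ← pow_mul, ← pow_succ]
        congr 2
        omega
      rw [this]
      exact hk₀Q
    have hg'P : g' ∈ (P : Subgroup L) := Subgroup.pow_mem _ hgP _
    have hquad' : ⁅⁅V, Subgroup.zpowers g'⁆, Subgroup.zpowers g'⁆ = ⊥ := by
      have hle : Subgroup.zpowers g' ≤ Subgroup.zpowers g₀ := by
        rw [Subgroup.zpowers_le]
        exact Subgroup.pow_mem _ (Subgroup.mem_zpowers g₀) _
      rw [eq_bot_iff, ← hquad]
      exact Subgroup.commutator_mono (Subgroup.commutator_mono le_rfl hle) hle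
    have hcomm : ∀ v ∈ V, g' * v ^ p = v ^ p * g' :=
      quad_pow_comm V hVn hVab g' hquad' p (fun v hv => ((hmemV v).mp hv).2 _ hg'p)
    -- the centralizer of the conjugates of the `p`-th powers of the elements of `Z(P)`
    let K : Subgroup L :=
      { carrier := {k | ∀ z ∈ (P : Subgroup L), (∀ y ∈ (P : Subgroup L), y * z = z * y) →
          ∀ h : L, k * (h * z ^ p * h⁻¹) = (h * z ^ p * h⁻¹) * k}
        one_mem' := fun z _ _ h => by simp
        mul_mem' := by
          intro a b ha hb z hz hzc h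
          rw [mul_assoc, hb z hz hzc h, ← mul_assoc, ha z hz hzc h, mul_assoc]
        inv_mem' := by
          intro a ha z hz hzc h
          have := ha z hz hzc h
          calc a⁻¹ * (h * z ^ p * h⁻¹) = a⁻¹ * ((h * z ^ p * h⁻¹) * a) * a⁻¹ := by group
            _ = a⁻¹ * (a * (h * z ^ p * h⁻¹)) * a⁻¹ := by rw [this]
            _ = (h * z ^ p * h⁻¹) * a⁻¹ := by group }
    have hKmem : ∀ k, k ∈ K ↔ ∀ z ∈ (P : Subgroup L), (∀ y ∈ (P : Subgroup L), y * z = z * y) →
        ∀ h : L, k * (h * z ^ p * h⁻¹) = (h * z ^ p * h⁻¹) * k := fun k => Iff.rfl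
    haveI hKn : K.Normal := by
      constructor
      intro k hk a
      rw [hKmem] at hk ⊢
      intro z hz hzc h
      have := hk z hz hzc (a⁻¹ * h)
      calc a * k * a⁻¹ * (h * z ^ p * h⁻¹) = a * (k * (a⁻¹ * h * z ^ p * (a⁻¹ * h)⁻¹)) * a⁻¹ := by group
        _ = a * ((a⁻¹ * h * z ^ p * (a⁻¹ * h)⁻¹) * k) * a⁻¹ := by rw [this]
        _ = (h * z ^ p * h⁻¹) * (a * k * a⁻¹) := by group
    have hg'K : g' ∈ K := by
      rw [hKmem]
      intro z hz hzc h
      rw [← conj_pow]
      exact hcomm _ (hVn h z (hzV z hz hzc))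
    have hKz : ∀ k ∈ K, ∀ z ∈ (P : Subgroup L), (∀ y ∈ (P : Subgroup L), y * z = z * y) →
        k * z ^ p = z ^ p * k := by
      intro k hk z hz hzc
      have := (hKmem k).mp hk z hz hzc 1
      simpa using this
    set H : Subgroup L := Subgroup.normalizer ((((P : Subgroup L) ⊓ K : Subgroup L)) : Set L) with hH
    have hPH : (P : Subgroup L) ≤ H := by
      intro y hy
      rw [hH, Subgroup.mem_normalizer_iff]
      intro w
      constructor
      · rintro ⟨hwP, hwK⟩
        exact ⟨Subgroup.mul_mem _ (Subgroup.mul_mem _ hy hwP) (Subgroup.inv_mem _ hy), hKn.conj_mem w hwK y⟩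
      · rintro ⟨hwP, hwK⟩
        have e : w = y⁻¹ * (y * w * y⁻¹) * y := by group
        rw [e]
        refine ⟨Subgroup.mul_mem _ (Subgroup.mul_mem _ (Subgroup.inv_mem _ hy) hwP) hy, ?_⟩
        have := hKn.conj_mem _ hwK y⁻¹
        simpa using this
    have hHne : H ≠ ⊤ := by
      intro htop
      have hnorm : ((P : Subgroup L) ⊓ K).Normal := Subgroup.normalizer_eq_top_iff.mp htop
      have hle : (P : Subgroup L) ⊓ K ≤ Q :=
        Cfsg.Agent.Lib.Helper16.le_pCore hnorm (P.isPGroup'.to_le inf_le_left)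
      exact hg'Q (hle ⟨hg'P, hg'K⟩)
    have hHD := hsubgroup H hPH hHne
    -- the main decomposition
    intro R g hRP hmap
    obtain ⟨h₀, hh₀, k₀', hk₀', hge⟩ := AG.frattini_decomp P K g⁻¹
    have hge' : g = k₀'⁻¹ * h₀⁻¹ := by
      have : g = (g⁻¹)⁻¹ := by group
      rw [this, hge]; group
    set k : L := k₀'⁻¹ with hk
    set h : L := h₀⁻¹ with hh
    have hkK : k ∈ K := K.inv_mem hk₀'
    have hhH : h ∈ H := H.inv_mem hh₀
    set M : Subgroup L := (H ⊓ K) ⊔ (P : Subgroup L) with hM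
    have hPM : (P : Subgroup L) ≤ M := le_sup_right
    have hMH : M ≤ H := sup_le inf_le_left hPH
    set R₁ : Subgroup L := R.map (MulAut.conj h).toMonoidHom with hR₁
    have hR₁M : R₁ ≤ M := by
      rintro _ ⟨x, hx, rfl⟩
      show h * x * h⁻¹ ∈ M
      have hyP : g * x * g⁻¹ ∈ (P : Subgroup L) := hmap x hx
      have e1 : h * x * h⁻¹ = (h * x * h⁻¹ * (g * x * g⁻¹)⁻¹) * (g * x * g⁻¹) := by group
      rw [e1]
      refine Subgroup.mul_mem_sup ⟨?_, ?_⟩ hyP
      · exact H.mul_mem (H.mul_mem (H.mul_mem hhH (hPH (hRP hx))) (H.inv_mem hhH)) (H.inv_mem (hPH hyP))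
      · have e2 : h * x * h⁻¹ * (g * x * g⁻¹)⁻¹ = k⁻¹ * ((g * x * g⁻¹) * k * (g * x * g⁻¹)⁻¹) := by
          rw [hge']; group
        rw [e2]
        exact K.mul_mem (K.inv_mem hkK) (hKn.conj_mem k hkK _)
    have hR₁p : IsPGroup p R₁ := by
      have : IsPGroup p R := P.isPGroup'.to_le hRP
      exact this.map _
    obtain ⟨m, hmM, hmR₁⟩ := Cfsg.Agent.Lib.Helper16.exists_conj_le_sylow P hPM hR₁M hR₁p
    set h' : L := m * h with hh'
    set x₀ : L := k * m⁻¹ with hx₀
    have hgx : g = x₀ * h' := by rw [hge', hx₀, hh']; group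
    have hh'H : h' ∈ H := H.mul_mem (hMH hmM) hhH
    have hh'map : ∀ x ∈ R, h' * x * h'⁻¹ ∈ (P : Subgroup L) := by
      intro x hx
      apply hmR₁
      refine ⟨h * x * h⁻¹, ⟨x, hx, rfl⟩, ?_⟩
      show m * (h * x * h⁻¹) * m⁻¹ = h' * x * h'⁻¹
      rw [hh']; group
    have hD1 : 𝒟.D R h' := hHD R h' hh'H hRP hh'map
    set R₂ : Subgroup L := R.map (MulAut.conj h').toMonoidHom with hR₂
    have hR₂P : R₂ ≤ (P : Subgroup L) := by
      rintro _ ⟨x, hx, rfl⟩
      exact hh'map x hx
    have hMz : ∀ m' ∈ M, ∀ z ∈ (P : Subgroup L), (∀ y ∈ (P : Subgroup L), y * z = z * y) →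
        m' * z ^ p = z ^ p * m' := by
      intro m' hm' z hz hzc
      have hle : M ≤ Subgroup.centralizer ({z ^ p} : Set L) := by
        apply sup_le
        · intro c hc
          rw [Subgroup.mem_centralizer_singleton_iff]
          exact hKz c hc.2 z hz hzc
        · intro y hy
          rw [Subgroup.mem_centralizer_singleton_iff]
          have hc : Commute y z := hzc y hy
          exact (hc.pow_right p).eq
      exact Subgroup.mem_centralizer_singleton_iff.mp (hle hm')
    have hD2 : 𝒟.D R₂ x₀ := by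
      apply hcen R₂ x₀ hR₂P
      · rintro _ ⟨x, hx, rfl⟩
        show x₀ * (h' * x * h'⁻¹) * x₀⁻¹ ∈ (P : Subgroup L)
        have e : x₀ * (h' * x * h'⁻¹) * x₀⁻¹ = g * x * g⁻¹ := by rw [hgx]; group
        rw [e]
        exact hmap x hx
      · intro z hz hzc
        have h1 := hKz k hkK z hz hzc
        have h2 := hMz m⁻¹ (M.inv_mem hmM) z hz hzc
        rw [hx₀, mul_assoc, h2, ← mul_assoc, h1, mul_assoc]
    rw [hgx]
    exact 𝒟.comp hD1 hD2 hR₂P (fun x hx => ⟨x, hx, rfl⟩)

end Cfsg.Agent.Lib.Helper27.GN
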