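import Cfsg.Agent.Lib.Helper27.GN4

/-!
helper27: generation of a saturated fusion system by the maps fixing the `p`-th powers of the elements of `Z(S)`
and the maps normalizing `W(S)`: the constrained case via the model, and the general theorem.
-/

set_option autoImplicit false
set_option linter.unusedSectionVars false
set_option linter.unusedVariables false

namespace Cfsg.Agent.Lib.Helper27.GN

open Cfsg Cfsg.FusionSystem Cfsg.Agent.Lib.Helper26 Cfsg.Agent.Lib.Helper27.FM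
  Cfsg.Agent.Lib.Helper26.ModelThm Cfsg.Agent.Lib.Helper27.ModelRad Cfsg.Agent.Lib.Helper27.KL

universe u

variable {Ω : Type u} [Group Ω] {p : ℕ} [Fact p.Prime] {W : ∀ (Q : Type u) [Group Q], Subgroup Q}

/-- The constrained case, in a group realizing the system. -/
theorem allIn_of_realized (hW : PosChar p W)
    (hWZ : ∀ (Q : Type u) [Group Q] [Finite Q], IsPGroup p Q → Subgroup.center Q ≤ W Q)
    (hquad : QuadProp p W) {T : Subgroup Ω} [Finite T] (hT : IsPGroup p T) {E : FusionSystem T}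
    {L : Type u} [Group L] [Finite L] {ι : T →* L} (hreal : E.IsRealizedBy ι) (TL : Sylow p L)
    (hTL : (TL : Subgroup L) = ι.range)
    (hCL : Subgroup.centralizer ((Cfsg.pCore p L : Subgroup L) : Set L) ≤ Cfsg.pCore p L)
    (𝒞 : MapClass Ω) {X : Subgroup Ω} (hAdm : X ≤ agemoCenter p T) (hfix : FixIn 𝒞 E X)
    (hnrm : NormIn 𝒞 W E) : AllIn 𝒞 E := by
  have hinj := hreal.1
  have hXT : X ≤ T := by
    intro q hq
    obtain ⟨z, hzT, -, rfl⟩ := exists_of_mem_agemoCenter (hAdm hq)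
    exact T.pow_mem hzT p
  have hWS : WS W T ≤ T := WS_le W T
  have hpull := pullSub_WS hW hT ι hinj (TL : Subgroup L) hTL
  have hmemW : ∀ y (hy : y ∈ T), ext1 ι y ∈ (W ↥(TL : Subgroup L)).map (TL : Subgroup L).subtype ↔
      y ∈ WS W T := by
    intro y hy
    rw [← hpull, ext1_apply ι hy]
    exact (mem_pullSub ι _ ⟨y, hy⟩).symm
  have hWL_le : ((W ↥(TL : Subgroup L)).map (TL : Subgroup L).subtype : Subgroup L) ≤ ι.range := by
    rw [← hTL]; exact Subgroup.map_subtype_le _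
  -- the class of conjugation maps
  let 𝒟 : ConjClass L (TL : Subgroup L) :=
    { D := fun R' g => ∀ (R : Subgroup Ω) (θ : Ω → Ω), R ≤ T → (∀ y ∈ R, ext1 ι y ∈ R') →
        (∀ y ∈ R, θ y ∈ T) → (∀ y ∈ R, ext1 ι (θ y) = g * ext1 ι y * g⁻¹) → 𝒞.C R θ
      mono := by
        intro R' R'' g hD hle R θ hRT hRR hθT hθg
        exact hD R θ hRT (fun y hy => hle (hRR y hy)) hθT hθg
      comp := by
        intro R' R'' g h hD hD' hR'' hmap R θ hRT hRR hθT hθg
        have hex : ∀ y ∈ R, ∃ y' ∈ T, ext1 ι y' = g * ext1 ι y * g⁻¹ := by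
          intro y hy
          have h1 : g * ext1 ι y * g⁻¹ ∈ ι.range := by
            rw [← hTL]; exact hR'' (hmap _ (hRR y hy))
          obtain ⟨s, hs⟩ := h1
          exact ⟨s, s.2, by rw [ext1_coe]; exact hs⟩
        obtain ⟨θ₁, hθ₁, hθ₁g⟩ := exists_isFM_of_conj hreal g hRT hex
        have hC1 : 𝒞.C R θ₁ := hD R θ₁ hRT hRR (fun y hy => hθ₁.mem hy) hθ₁g
        obtain ⟨R₁, hR₁⟩ := hθ₁.exists_image
        have hR₁T : R₁ ≤ T := hR₁.le_of_forall (fun y hy => hθ₁.mem hy)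
        have hex2 : ∀ y ∈ R₁, ∃ y' ∈ T, ext1 ι y' = h * ext1 ι y * h⁻¹ := by
          intro y₁ hy₁
          obtain ⟨y, hy, rfl⟩ := (hR₁ y₁).mp hy₁
          refine ⟨θ y, hθT y hy, ?_⟩
          rw [hθg y hy, hθ₁g y hy]
          group
        obtain ⟨θ₂, hθ₂, hθ₂g⟩ := exists_isFM_of_conj hreal h hR₁T hex2
        have hC2 : 𝒞.C R₁ θ₂ := by
          apply hD' R₁ θ₂ hR₁T ?_ (fun y hy => hθ₂.mem hy) hθ₂g
          intro y₁ hy₁
          obtain ⟨y, hy, rfl⟩ := (hR₁ y₁).mp hy₁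
          rw [hθ₁g y hy]
          exact hmap _ (hRR y hy)
        have hC3 : 𝒞.C R (fun x => θ₂ (θ₁ x)) := 𝒞.comp hC1 hC2 (fun x hx => hR₁.mem hx)
        refine 𝒞.congr hC3 (fun y hy => ?_)
        apply ext1_injOn ι hinj (hθ₂.mem (hR₁.mem hy)) (hθT y hy)
        rw [hθ₂g _ (hR₁.mem hy), hθ₁g y hy, hθg y hy]
        group }
  have hDdef : ∀ R' g, 𝒟.D R' g ↔ ∀ (R : Subgroup Ω) (θ : Ω → Ω), R ≤ T → (∀ y ∈ R, ext1 ι y ∈ R') →
        (∀ y ∈ R, θ y ∈ T) → (∀ y ∈ R, ext1 ι (θ y) = g * ext1 ι y * g⁻¹) → 𝒞.C R θ := fun _ _ => Iff.rfl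
  -- centralizing elements
  have hcen : ∀ (R' : Subgroup L) (g : L), R' ≤ (TL : Subgroup L) → (∀ x ∈ R', g * x * g⁻¹ ∈ (TL : Subgroup L)) →
      (∀ z ∈ (TL : Subgroup L), (∀ y ∈ (TL : Subgroup L), y * z = z * y) → g * z ^ p = z ^ p * g) →
      𝒟.D R' g := by
    intro R' g hR' hmap hz
    rw [hDdef]
    intro R θ hRT hRR hθT hθg
    have hXg : ∀ q ∈ X, ext1 ι q = g * ext1 ι q * g⁻¹ := by
      intro q hq
      obtain ⟨z, hzT, hzc, rfl⟩ := exists_of_mem_agemoCenter (hAdm hq)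
      have hzTL : ext1 ι z ∈ (TL : Subgroup L) := by
        rw [hTL]; exact ext1_mem_range ι hzT
      have hzcL : ∀ y ∈ (TL : Subgroup L), y * ext1 ι z = ext1 ι z * y := by
        intro y hy
        rw [hTL] at hy
        obtain ⟨s, rfl⟩ := hy
        rw [← ext1_coe ι s, ← ext1_mul ι s.2 hzT, ← ext1_mul ι hzT s.2, hzc s s.2]
      have hpow : ext1 ι (z ^ p) = (ext1 ι z) ^ p := by
        rw [ext1_apply ι hzT, ext1_apply ι (T.pow_mem hzT p), ← map_pow]
        rfl
      rw [hpow, hz _ hzTL hzcL]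
      group
    have hsup := conj_mem_range_sup ι g hRT hXT (fun y hy => ⟨θ y, hθT y hy, hθg y hy⟩)
      (fun y hy => ⟨y, hXT hy, hXg y hy⟩)
    obtain ⟨θ', hθ', hθ'g⟩ := exists_isFM_of_conj hreal g (sup_le hRT hXT) hsup
    have h1 : 𝒞.C (R ⊔ X) θ' := by
      apply hfix _ _ hθ' le_sup_right
      intro q hq
      apply ext1_injOn ι hinj (hθ'.mem (le_sup_right (a := R) (b := X) hq)) (hXT hq)
      rw [hθ'g q (le_sup_right (a := R) (b := X) hq), ← hXg q hq]
    refine 𝒞.congr (𝒞.mono h1 le_sup_left) (fun y hy => ?_)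
    apply ext1_injOn ι hinj (hθ'.mem (le_sup_left (a := R) (b := X) hy)) (hθT y hy)
    rw [hθ'g y (le_sup_left (a := R) (b := X) hy), hθg y hy]
  -- normalizing elements
  have hnr : ∀ (R' : Subgroup L) (g : L), R' ≤ (TL : Subgroup L) → (∀ x ∈ R', g * x * g⁻¹ ∈ (TL : Subgroup L)) →
      g ∈ Subgroup.normalizer (((W ↥(TL : Subgroup L)).map (TL : Subgroup L).subtype : Subgroup L) : Set L) →
      𝒟.D R' g := by
    intro R' g hR' hmap hg
    rw [hDdef]
    intro R θ hRT hRR hθT hθg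
    have hconj : ∀ y ∈ WS W T, ∃ y' ∈ T, ext1 ι y' = g * ext1 ι y * g⁻¹ := by
      intro y hy
      have h1 : g * ext1 ι y * g⁻¹ ∈ (W ↥(TL : Subgroup L)).map (TL : Subgroup L).subtype :=
        (Subgroup.mem_normalizer_iff.mp hg _).mp ((hmemW y (hWS hy)).mpr hy)
      obtain ⟨s, hs⟩ := hWL_le h1
      exact ⟨s, s.2, by rw [ext1_coe]; exact hs⟩
    have hsup := conj_mem_range_sup ι g hRT hWS (fun y hy => ⟨θ y, hθT y hy, hθg y hy⟩) hconj
    obtain ⟨θ', hθ', hθ'g⟩ := exists_isFM_of_conj hreal g (sup_le hRT hWS) hsup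
    have h1 : 𝒞.C (R ⊔ WS W T) θ' := by
      apply hnrm _ _ hθ' le_sup_right
      intro u hu
      have huR : u ∈ R ⊔ WS W T := le_sup_right (a := R) (b := WS W T) hu
      rw [← hmemW _ (hθ'.mem huR), hθ'g u huR]
      exact (Subgroup.mem_normalizer_iff.mp hg _).mp ((hmemW u (hWS hu)).mpr hu)
    refine 𝒞.congr (𝒞.mono h1 le_sup_left) (fun y hy => ?_)
    apply ext1_injOn ι hinj (hθ'.mem (le_sup_left (a := R) (b := WS W T) hy)) (hθT y hy)
    rw [hθ'g y (le_sup_left (a := R) (b := WS W T) hy), hθg y hy]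
  have key := gen_group hW hquad _ L rfl TL hCL 𝒟 hcen hnr
  intro R θ hθ
  obtain ⟨hRT, hθT, g, hg⟩ := (isFM_iff_of_realized hreal).mp hθ
  have h1 := key ((R.subgroupOf T).map ι) g
    (by
      rw [hTL]
      rintro _ ⟨x, -, rfl⟩
      exact ⟨x, rfl⟩)
    (by
      rintro _ ⟨x, hx, rfl⟩
      have hx : (x : Ω) ∈ R := Subgroup.mem_subgroupOf.mp hx
      rw [hTL, ← ext1_coe ι x, ← hg _ hx]
      exact ext1_mem_range ι (hθT _ hx))
  exact (hDdef _ _).mp h1 R θ hRT (fun y hy => ext1_mem_map ι hy (hRT hy)) hθT hg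

/-- The reduction data for the generation theorem. -/
def agemoGData (hW : PosChar p W)
    (hWZ : ∀ (Q : Type u) [Group Q] [Finite Q], IsPGroup p Q → Subgroup.center Q ≤ W Q)
    (hquad : QuadProp p W) (𝒞 : MapClass Ω) (X : Subgroup Ω) : GData p W 𝒞 X where
  Adm T := X ≤ agemoCenter p T
  le := by
    intro T h q hq
    obtain ⟨z, hzT, -, rfl⟩ := exists_of_mem_agemoCenter (h hq)
    exact T.pow_mem hzT p
  central := by
    intro T h t ht q hq
    obtain ⟨z, hzT, hzc, rfl⟩ := exists_of_mem_agemoCenter (h hq)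
    rw [← conj_pow]
    have : t * z * t⁻¹ = z := by rw [hzc t ht]; group
    rw [this]
  sub := by
    intro T T' h hle hz
    refine h.trans ?_
    unfold agemoCenter
    apply Subgroup.closure_mono
    rintro _ ⟨z, hzm, rfl⟩
    refine ⟨z, ⟨?_, ?_⟩, rfl⟩
    · apply hz z hzm.1
      intro t ht
      have := Subgroup.mem_centralizer_iff.mp hzm.2 t ht
      rw [this]; group
    · show z ∈ Subgroup.centralizer (T' : Set Ω)
      rw [Subgroup.mem_centralizer_iff]
      intro t ht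
      exact Subgroup.mem_centralizer_iff.mp hzm.2 t (hle ht)
  model := by
    intro T _ hT E hE hQc hAdm hfix hnrm
    have hQ : E.IsNormal E.core := core_isNormal E
    have hs : Setup p E E.core := ⟨hT, hE, hQ, hQc⟩
    haveI : Finite ↥E.core := finite_of_le hQ.1
    haveI : Finite (Mdl hs) := finite_Mdl hs
    obtain ⟨-, hreal, ⟨TL, hTL⟩, hCL⟩ := isModel hs
    exact allIn_of_realized hW hWZ hquad hT hreal TL hTL hCL 𝒞 hAdm hfix hnrm

/-- **Generation**: a class of partial maps closed under restriction, composition and inverses that contains the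
maps of `F` fixing `℧¹(Z(S))` pointwise and the maps normalizing `W(S)` contains all the maps of `F`. -/
theorem allIn_of_agemo_of_norm (hW : PosChar p W)
    (hWZ : ∀ (Q : Type u) [Group Q] [Finite Q], IsPGroup p Q → Subgroup.center Q ≤ W Q)
    (hq : QuadProp p W) {S : Subgroup Ω} [Finite S] (hS : IsPGroup p S) (F : FusionSystem S)
    (hF : F.IsSaturated p) (𝒞 : MapClass Ω) (hfix : FixIn 𝒞 F (agemoCenter p S)) (hnrm : NormIn 𝒞 W F) :
    AllIn 𝒞 F :=
  gen_main hW hWZ (agemoGData hW hWZ hq 𝒞 (agemoCenter p S)) _ _ S hS F hF le_rfl hfix hnrm rfl rfl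

end Cfsg.Agent.Lib.Helper27.GN
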