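import Mathlib
import Cfsg.Agent.Lib.Helper8.HP1a

/-!
# Associated graded Lie ring of the lower central series, part A (helper27, leaf HP1 of S3779)

The graded pieces `Q d = γ_d / γ_{d+1}` (additively written), the class map `q d : G → Q d`
(total, junk `0` outside `γ_d`) and the bilinear commutator maps `gmul`.
-/

set_option autoImplicit false

namespace Cfsg.Agent.Lib.Helper27.HKKLeaf

open Cfsg.Agent.Lib.Helper8.HKKLeaf

universe u

section
variable (G : Type u) [Group G]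

/-- `γ_d`, Mathlib indexing (`γ_0 = G`). -/
abbrev gam (d : ℕ) : Subgroup G := (⊤ : Subgroup G).lowerCentralSeries d

/-- The graded piece `γ_d / γ_{d+1}`, written additively. -/
def Q (d : ℕ) : Type u := Additive (↥(gam G d) ⧸ (gam G (d + 1)).subgroupOf (gam G d))

instance (d : ℕ) : AddGroup (Q G d) :=
  inferInstanceAs (AddGroup (Additive (↥(gam G d) ⧸ (gam G (d + 1)).subgroupOf (gam G d))))

theorem quot_comm (d : ℕ) (a b : ↥(gam G d) ⧸ (gam G (d + 1)).subgroupOf (gam G d)) :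
    a * b = b * a := by
  induction a using QuotientGroup.induction_on with
  | H x =>
  induction b using QuotientGroup.induction_on with
  | H y =>
  rw [← QuotientGroup.mk_mul, ← QuotientGroup.mk_mul, QuotientGroup.eq, Subgroup.mem_subgroupOf]
  have h : (((x * y)⁻¹ * (y * x) : ↥(gam G d)) : G) =
      (y : G)⁻¹ * (x : G)⁻¹ * ((y : G)⁻¹)⁻¹ * ((x : G)⁻¹)⁻¹ := by
    simp [mul_assoc]
  rw [h]
  exact lcs_comm_mem d 0 _ (inv_mem y.2) _ (Subgroup.mem_top _)

instance (d : ℕ) : AddCommGroup (Q G d) :=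
  { (inferInstance : AddGroup (Q G d)) with
    add_comm := fun a b => quot_comm G d (Additive.toMul a) (Additive.toMul b) }

/-- class of an element of `γ_d` -/
def qmk (d : ℕ) (x : ↥(gam G d)) : Q G d := Additive.ofMul (QuotientGroup.mk x)

theorem qmk_mul (d : ℕ) (x y : ↥(gam G d)) : qmk G d (x * y) = qmk G d x + qmk G d y := rfl

theorem qmk_eq_zero_iff (d : ℕ) (x : ↥(gam G d)) : qmk G d x = 0 ↔ (x : G) ∈ gam G (d + 1) := by
  show (QuotientGroup.mk x : ↥(gam G d) ⧸ (gam G (d + 1)).subgroupOf (gam G d)) = 1 ↔ _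
  rw [QuotientGroup.eq_one_iff, Subgroup.mem_subgroupOf]

theorem qmk_surj (d : ℕ) (a : Q G d) : ∃ x, qmk G d x = a := by
  obtain ⟨x, hx⟩ := QuotientGroup.mk_surjective (Additive.toMul a)
  exact ⟨x, by rw [qmk, hx]; rfl⟩

open Classical in
/-- class of `x` in `γ_d / γ_{d+1}`, `0` if `x ∉ γ_d` -/
noncomputable def q (d : ℕ) (x : G) : Q G d := if h : x ∈ gam G d then qmk G d ⟨x, h⟩ else 0

variable {G}

theorem q_of_mem {d : ℕ} {x : G} (h : x ∈ gam G d) : q G d x = qmk G d ⟨x, h⟩ := by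
  rw [q, dif_pos h]

theorem q_mul {d : ℕ} {x y : G} (hx : x ∈ gam G d) (hy : y ∈ gam G d) :
    q G d (x * y) = q G d x + q G d y := by
  rw [q_of_mem hx, q_of_mem hy, q_of_mem (mul_mem hx hy), ← qmk_mul]
  rfl

theorem q_eq_zero_iff {d : ℕ} {x : G} (hx : x ∈ gam G d) : q G d x = 0 ↔ x ∈ gam G (d + 1) := by
  rw [q_of_mem hx, qmk_eq_zero_iff]

theorem gam_succ_le (d : ℕ) : gam G (d + 1) ≤ gam G d :=
  Subgroup.lowerCentralSeries_antitone (S := (⊤ : Subgroup G)) (Nat.le_succ d)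

theorem q_eq_zero_of_mem {d : ℕ} {x : G} (hx : x ∈ gam G (d + 1)) : q G d x = 0 :=
  (q_eq_zero_iff (gam_succ_le d hx)).mpr hx

theorem q_one (d : ℕ) : q G d (1 : G) = 0 := q_eq_zero_of_mem (one_mem _)

theorem q_inv {d : ℕ} {x : G} (hx : x ∈ gam G d) : q G d x⁻¹ = - q G d x := by
  have h := q_mul hx (inv_mem hx)
  rw [mul_inv_cancel, q_one] at h
  exact (neg_eq_of_add_eq_zero_right h.symm).symm

theorem exists_q {d : ℕ} (a : Q G d) : ∃ x ∈ gam G d, q G d x = a := by
  obtain ⟨x, hx⟩ := qmk_surj G d a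
  exact ⟨x, x.2, by rw [q_of_mem x.2]; exact hx⟩

theorem q_eq_of_mem {d : ℕ} {x y : G} (hx : x ∈ gam G d) (hy : y ∈ gam G d)
    (h : x⁻¹ * y ∈ gam G (d + 1)) : q G d x = q G d y := by
  have h1 : q G d (x⁻¹ * y) = 0 := q_eq_zero_of_mem h
  rw [q_mul (inv_mem hx) hy, q_inv hx] at h1
  exact (neg_add_eq_zero.mp h1)

theorem mem_of_q_eq {d : ℕ} {x y : G} (hx : x ∈ gam G d) (hy : y ∈ gam G d)
    (h : q G d x = q G d y) : x⁻¹ * y ∈ gam G (d + 1) := by
  rw [← q_eq_zero_iff (mul_mem (inv_mem hx) hy), q_mul (inv_mem hx) hy, q_inv hx, h]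
  exact neg_add_cancel _

/-- a representative -/
noncomputable def rep {d : ℕ} (a : Q G d) : G := Classical.choose (exists_q a)

theorem rep_mem {d : ℕ} (a : Q G d) : rep a ∈ gam G d := (Classical.choose_spec (exists_q a)).1

theorem q_rep {d : ℕ} (a : Q G d) : q G d (rep a) = a := (Classical.choose_spec (exists_q a)).2

/-- the group commutator, in the convention of the leaf statement -/
def cm (x y : G) : G := x * y * x⁻¹ * y⁻¹

theorem cm_mem {i j : ℕ} {x y : G} (hx : x ∈ gam G i) (hy : y ∈ gam G j) :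
    cm x y ∈ gam G (i + j + 1) := lcs_comm_mem i j x hx y hy

/-- the bilinear map induced by the commutator -/
noncomputable def gmul (i j : ℕ) (a : Q G i) (b : Q G j) : Q G (i + j + 1) :=
  q G (i + j + 1) (cm (rep a) (rep b))

theorem gmul_q {i j : ℕ} {x y : G} (hx : x ∈ gam G i) (hy : y ∈ gam G j) :
    gmul i j (q G i x) (q G j y) = q G (i + j + 1) (cm x y) := by
  unfold gmul
  set x' := rep (q G i x) with hx'
  set y' := rep (q G j y) with hy'
  have hx'm : x' ∈ gam G i := rep_mem _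
  have hy'm : y' ∈ gam G j := rep_mem _
  have h1 : x⁻¹ * x' ∈ gam G (i + 1) := mem_of_q_eq hx hx'm (q_rep _).symm
  have h2 : y⁻¹ * y' ∈ gam G (j + 1) := mem_of_q_eq hy hy'm (q_rep _).symm
  -- step 1: cm x' y' ~ cm x y'
  have e1 : q G (i + j + 1) (cm x' y') = q G (i + j + 1) (cm x y') := by
    apply q_eq_of_mem (cm_mem hx'm hy'm) (cm_mem hx hy'm)
    have := comm_congr_left_mem i j x hx (x⁻¹ * x') h1 y' hy'm
    rw [mul_inv_cancel_left] at this
    exact this
  have e2 : q G (i + j + 1) (cm x y') = q G (i + j + 1) (cm x y) := by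
    apply q_eq_of_mem (cm_mem hx hy'm) (cm_mem hx hy)
    have := comm_congr_right_mem i j x hx y hy (y⁻¹ * y') h2
    rw [mul_inv_cancel_left] at this
    exact this
  rw [e1, e2]

theorem gmul_add {i j : ℕ} (a : Q G i) (b c : Q G j) :
    gmul i j a (b + c) = gmul i j a b + gmul i j a c := by
  obtain ⟨x, hx, rfl⟩ := exists_q a
  obtain ⟨y, hy, rfl⟩ := exists_q b
  obtain ⟨z, hz, rfl⟩ := exists_q c
  rw [← q_mul hy hz, gmul_q hx (mul_mem hy hz), gmul_q hx hy, gmul_q hx hz,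
    ← q_mul (cm_mem hx hy) (cm_mem hx hz)]
  exact q_eq_of_mem (cm_mem hx (mul_mem hy hz)) (mul_mem (cm_mem hx hy) (cm_mem hx hz))
    (comm_mul_right_mem i j x hx y hy z hz)

theorem add_gmul {i j : ℕ} (a b : Q G i) (c : Q G j) :
    gmul i j (a + b) c = gmul i j a c + gmul i j b c := by
  obtain ⟨x, hx, rfl⟩ := exists_q a
  obtain ⟨y, hy, rfl⟩ := exists_q b
  obtain ⟨z, hz, rfl⟩ := exists_q c
  rw [← q_mul hx hy, gmul_q (mul_mem hx hy) hz, gmul_q hx hz, gmul_q hy hz,
    ← q_mul (cm_mem hx hz) (cm_mem hy hz)]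
  exact q_eq_of_mem (cm_mem (mul_mem hx hy) hz) (mul_mem (cm_mem hx hz) (cm_mem hy hz))
    (comm_mul_left_mem i j x hx y hy z hz)

theorem gmul_zero {i j : ℕ} (a : Q G i) : gmul i j a (0 : Q G j) = 0 := by
  have h := gmul_add a (0 : Q G j) 0
  rw [add_zero] at h
  exact (add_eq_left.mp h.symm)

theorem zero_gmul {i j : ℕ} (b : Q G j) : gmul i j (0 : Q G i) b = 0 := by
  have h := add_gmul (0 : Q G i) 0 b
  rw [add_zero] at h
  exact (add_eq_left.mp h.symm)

end

end Cfsg.Agent.Lib.Helper27.HKKLeaf
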