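import Mathlib
import Cfsg.Agent.Lib.Helper27.HP1A

/-!
# Associated graded Lie ring of the lower central series, part B (helper27, leaf HP1 of S3779)

The direct sum `⨁ d, γ_d / γ_{d+1}` with the commutator product, skew symmetry, Jacobi.
-/

set_option autoImplicit false

namespace Cfsg.Agent.Lib.Helper27.HKKLeaf

open Cfsg.Agent.Lib.Helper8.HKKLeaf
open DirectSum

universe u

/-- degrees, with the shifted addition `a + b = a.n + b.n + 1` -/
structure Deg where
  /-- the underlying natural number -/
  n : ℕ
deriving DecidableEq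

instance : Add Deg := ⟨fun a b => ⟨a.n + b.n + 1⟩⟩

theorem Deg.add_n (a b : Deg) : (a + b).n = a.n + b.n + 1 := rfl

section
variable (G : Type u) [Group G]

/-- graded pieces indexed by `Deg` -/
abbrev A (d : Deg) : Type u := Q G d.n

noncomputable instance instGMulA : DirectSum.GNonUnitalNonAssocSemiring (A G) where
  mul {i j} a b := gmul i.n j.n a b
  mul_zero a := gmul_zero a
  zero_mul b := zero_gmul b
  mul_add a b c := gmul_add a b c
  add_mul a b c := add_gmul a b c

/-- the underlying additive group of the Lie ring -/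
abbrev LL : Type u := ⨁ d : Deg, A G d

/-- the degree-`d` class map into the direct sum -/
noncomputable def ιn (d : ℕ) (x : G) : LL G := DirectSum.of (A G) ⟨d⟩ (q G d x)

variable {G}

theorem of_eq_ιn (i : Deg) (a : A G i) : ∃ x ∈ gam G i.n, DirectSum.of (A G) i a = ιn G i.n x := by
  obtain ⟨x, hx, rfl⟩ := exists_q (G := G) (d := i.n) a
  exact ⟨x, hx, rfl⟩

theorem ιn_congr {d d' : ℕ} (h : d = d') (x : G) : ιn G d x = ιn G d' x := by
  subst h; rfl

theorem ιn_mul {d : ℕ} {x y : G} (hx : x ∈ gam G d) (hy : y ∈ gam G d) :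
    ιn G d (x * y) = ιn G d x + ιn G d y := by
  unfold ιn
  rw [q_mul hx hy, map_add]

theorem ιn_eq_zero_of_mem {d : ℕ} {x : G} (hx : x ∈ gam G (d + 1)) : ιn G d x = 0 := by
  unfold ιn
  rw [q_eq_zero_of_mem hx, map_zero]

theorem mem_of_ιn_eq_zero {d : ℕ} {x : G} (hx : x ∈ gam G d) (h : ιn G d x = 0) :
    x ∈ gam G (d + 1) := by
  unfold ιn at h
  have h2 : q G d x = 0 := by
    have hinj := DirectSum.of_injective (β := A G) (⟨d⟩ : Deg)
    apply hinj
    rw [h, map_zero]
  exact (q_eq_zero_iff hx).mp h2

theorem ιn_inv {d : ℕ} {x : G} (hx : x ∈ gam G d) : ιn G d x⁻¹ = - ιn G d x := by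
  unfold ιn
  rw [q_inv hx, map_neg]

theorem ιn_mul_ιn {i j : ℕ} {x y : G} (hx : x ∈ gam G i) (hy : y ∈ gam G j) :
    ιn G i x * ιn G j y = ιn G (i + j + 1) (cm x y) := by
  unfold ιn
  rw [DirectSum.of_mul_of]
  show DirectSum.of (A G) ⟨i + j + 1⟩ (gmul i j (q G i x) (q G j y)) = _
  rw [gmul_q hx hy]

theorem cm_swap (x y : G) : cm y x = (cm x y)⁻¹ := by
  unfold cm
  simp [mul_assoc]

theorem cm_self (x : G) : cm x x = 1 := by
  unfold cm
  simp

/-- skew symmetry on generators -/
theorem ιn_skew {i j : ℕ} {x y : G} (hx : x ∈ gam G i) (hy : y ∈ gam G j) :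
    ιn G i x * ιn G j y = - (ιn G j y * ιn G i x) := by
  rw [ιn_mul_ιn hx hy, ιn_mul_ιn hy hx, cm_swap x y,
    ιn_congr (show j + i + 1 = i + j + 1 by omega), ιn_inv (cm_mem hx hy), neg_neg]

theorem LL_skew (a b : LL G) : a * b = - (b * a) := by
  induction a using DirectSum.induction_on with
  | zero => simp
  | of i a =>
    induction b using DirectSum.induction_on with
    | zero => simp
    | of j b =>
      obtain ⟨x, hx, hxe⟩ := of_eq_ιn i a
      obtain ⟨y, hy, hye⟩ := of_eq_ιn j b
      rw [hxe, hye]
      exact ιn_skew hx hy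
    | add b c hb hc => rw [mul_add, add_mul, hb, hc, neg_add]
  | add a c ha hc => rw [mul_add, add_mul, ha, hc, neg_add]

theorem LL_self (a : LL G) : a * a = 0 := by
  induction a using DirectSum.induction_on with
  | zero => simp
  | of i a =>
    obtain ⟨x, hx, hxe⟩ := of_eq_ιn i a
    rw [hxe, ιn_mul_ιn hx hx, cm_self]
    exact ιn_eq_zero_of_mem (one_mem _)
  | add a b ha hb =>
    rw [mul_add, add_mul, add_mul, ha, hb, LL_skew b a]
    abel

/-- Jacobi on generators -/
theorem ιn_jacobi {i j k : ℕ} {x y z : G} (hx : x ∈ gam G i) (hy : y ∈ gam G j)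
    (hz : z ∈ gam G k) :
    (ιn G i x * ιn G j y) * ιn G k z + (ιn G j y * ιn G k z) * ιn G i x +
      (ιn G k z * ιn G i x) * ιn G j y = 0 := by
  rw [ιn_mul_ιn hx hy, ιn_mul_ιn hy hz, ιn_mul_ιn hz hx,
    ιn_mul_ιn (cm_mem hx hy) hz, ιn_mul_ιn (cm_mem hy hz) hx, ιn_mul_ιn (cm_mem hz hx) hy,
    ιn_congr (show i + j + 1 + k + 1 = i + j + k + 2 by omega),
    ιn_congr (show j + k + 1 + i + 1 = i + j + k + 2 by omega),
    ιn_congr (show k + i + 1 + j + 1 = i + j + k + 2 by omega)]
  have h1 : cm (cm x y) z ∈ gam G (i + j + k + 2) := by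
    have := cm_mem (cm_mem hx hy) hz
    rwa [show i + j + 1 + k + 1 = i + j + k + 2 by omega] at this
  have h2 : cm (cm y z) x ∈ gam G (i + j + k + 2) := by
    have := cm_mem (cm_mem hy hz) hx
    rwa [show j + k + 1 + i + 1 = i + j + k + 2 by omega] at this
  have h3 : cm (cm z x) y ∈ gam G (i + j + k + 2) := by
    have := cm_mem (cm_mem hz hx) hy
    rwa [show k + i + 1 + j + 1 = i + j + k + 2 by omega] at this
  rw [← ιn_mul h1 h2, ← ιn_mul (mul_mem h1 h2) h3]
  exact ιn_eq_zero_of_mem (hall_witt_mem i j k x hx y hy z hz)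

theorem LL_jacobi (a b c : LL G) : (a * b) * c + (b * c) * a + (c * a) * b = 0 := by
  induction a using DirectSum.induction_on with
  | zero => simp
  | of i a =>
    induction b using DirectSum.induction_on with
    | zero => simp
    | of j b =>
      induction c using DirectSum.induction_on with
      | zero => simp
      | of k c =>
        obtain ⟨x, hx, hxe⟩ := of_eq_ιn i a
        obtain ⟨y, hy, hye⟩ := of_eq_ιn j b
        obtain ⟨z, hz, hze⟩ := of_eq_ιn k c
        rw [hxe, hye, hze]
        exact ιn_jacobi hx hy hz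
      | add c d hc hd =>
        have : (DirectSum.of (A G) i a * DirectSum.of (A G) j b) * (c + d) +
            (DirectSum.of (A G) j b * (c + d)) * DirectSum.of (A G) i a +
            ((c + d) * DirectSum.of (A G) i a) * DirectSum.of (A G) j b =
            ((DirectSum.of (A G) i a * DirectSum.of (A G) j b) * c +
              (DirectSum.of (A G) j b * c) * DirectSum.of (A G) i a +
              (c * DirectSum.of (A G) i a) * DirectSum.of (A G) j b) +
            ((DirectSum.of (A G) i a * DirectSum.of (A G) j b) * d +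
              (DirectSum.of (A G) j b * d) * DirectSum.of (A G) i a +
              (d * DirectSum.of (A G) i a) * DirectSum.of (A G) j b) := by
          simp only [mul_add, add_mul]; abel
        rw [this, hc, hd, add_zero]
    | add b d hb hd =>
      have : (DirectSum.of (A G) i a * (b + d)) * c + ((b + d) * c) * DirectSum.of (A G) i a +
          (c * DirectSum.of (A G) i a) * (b + d) =
          ((DirectSum.of (A G) i a * b) * c + (b * c) * DirectSum.of (A G) i a +
            (c * DirectSum.of (A G) i a) * b) +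
          ((DirectSum.of (A G) i a * d) * c + (d * c) * DirectSum.of (A G) i a +
            (c * DirectSum.of (A G) i a) * d) := by
        simp only [mul_add, add_mul]; abel
      rw [this, hb, hd, add_zero]
  | add a d ha hd =>
    have : ((a + d) * b) * c + (b * c) * (a + d) + (c * (a + d)) * b =
        ((a * b) * c + (b * c) * a + (c * a) * b) + ((d * b) * c + (b * c) * d + (c * d) * b) := by
      simp only [mul_add, add_mul]; abel
    rw [this, ha, hd, add_zero]

/-- the Lie ring structure -/
noncomputable instance instLieRingLL : LieRing (LL G) where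
  bracket a b := a * b
  add_lie a b c := add_mul a b c
  lie_add a b c := mul_add a b c
  lie_self a := LL_self a
  leibniz_lie a b c := by
    show a * (b * c) = (a * b) * c + b * (a * c)
    have h := LL_jacobi a b c
    have e1 : a * (b * c) = - ((b * c) * a) := LL_skew _ _
    have e2 : b * (a * c) = (c * a) * b := by
      rw [LL_skew b (a * c), LL_skew a c, neg_mul, neg_neg]
    rw [e1, e2]
    have h' : (b * c) * a = - ((a * b) * c + (c * a) * b) := by
      apply eq_neg_of_add_eq_zero_left
      rw [← h]; abel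
    rw [h', neg_neg]

theorem lie_def (a b : LL G) : ⁅a, b⁆ = a * b := rfl

end

end Cfsg.Agent.Lib.Helper27.HKKLeaf
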