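import Mathlib
import Cfsg.Agent.Lib.Helper27.HP1B

/-!
# Associated graded Lie ring of the lower central series, part C (helper27, leaf HP1 of S3779)

Spanning, functoriality under automorphisms, and the packaged statement `exists_lie_model`.
-/

set_option autoImplicit false

namespace Cfsg.Agent.Lib.Helper27.HKKLeaf

open Cfsg.Agent.Lib.Helper8.HKKLeaf
open DirectSum

universe u

section
variable {G : Type u} [Group G]

theorem LL_span (v : LL G) : v ∈ AddSubgroup.closure
    {v : LL G | ∃ d, ∃ x ∈ gam G d, v = ιn G d x} := by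
  induction v using DirectSum.induction_on with
  | zero => exact zero_mem _
  | of i a =>
    obtain ⟨x, hx, hxe⟩ := of_eq_ιn i a
    exact AddSubgroup.subset_closure ⟨i.n, x, hx, hxe⟩
  | add a b ha hb => exact add_mem ha hb

theorem aut_mem_gam (α : MulAut G) (d : ℕ) {x : G} (hx : x ∈ gam G d) : α x ∈ gam G d := by
  have hc : (gam G d).Characteristic := Subgroup.lowerCentralSeries_characteristic (S := (⊤ : Subgroup G)) d
  have h := hc.fixed α
  have : x ∈ (gam G d).comap α.toMonoidHom := by rw [h]; exact hx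
  exact this

theorem cm_map (α : MulAut G) (x y : G) : α (cm x y) = cm (α x) (α y) := by
  unfold cm
  simp

/-- the map induced by an automorphism on a graded piece -/
noncomputable def fα (α : MulAut G) (d : ℕ) (a : Q G d) : Q G d := q G d (α (rep a))

theorem fα_q (α : MulAut G) {d : ℕ} {x : G} (hx : x ∈ gam G d) :
    fα α d (q G d x) = q G d (α x) := by
  unfold fα
  set x' := rep (q G d x) with hx'
  have hx'm : x' ∈ gam G d := rep_mem _
  have h1 : x⁻¹ * x' ∈ gam G (d + 1) := mem_of_q_eq hx hx'm (q_rep _).symm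
  apply q_eq_of_mem (aut_mem_gam α d hx'm) (aut_mem_gam α d hx)
  have h2 := aut_mem_gam α (d + 1) h1
  have h3 : (α x')⁻¹ * α x = (α (x⁻¹ * x'))⁻¹ := by simp
  rw [h3]
  exact inv_mem h2

/-- `fα` as an additive map -/
noncomputable def fαHom (α : MulAut G) (d : ℕ) : Q G d →+ Q G d where
  toFun := fα α d
  map_zero' := by
    have h := fα_q α (one_mem (gam G d))
    rw [q_one, map_one, q_one] at h
    exact h
  map_add' a b := by
    obtain ⟨x, hx, rfl⟩ := exists_q a
    obtain ⟨y, hy, rfl⟩ := exists_q b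
    rw [← q_mul hx hy, fα_q α (mul_mem hx hy), fα_q α hx, fα_q α hy, map_mul,
      q_mul (aut_mem_gam α d hx) (aut_mem_gam α d hy)]

/-- the induced additive endomorphism of the direct sum -/
noncomputable def φα (α : MulAut G) : LL G →+ LL G :=
  DirectSum.toAddMonoid (fun d : Deg => (DirectSum.of (A G) d).comp (fαHom α d.n))

theorem φα_ιn (α : MulAut G) {d : ℕ} {x : G} (hx : x ∈ gam G d) :
    φα α (ιn G d x) = ιn G d (α x) := by
  unfold φα ιn
  rw [DirectSum.toAddMonoid_of]
  show DirectSum.of (A G) ⟨d⟩ (fα α d (q G d x)) = _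
  rw [fα_q α hx]

theorem φα_mul (α : MulAut G) (a b : LL G) : φα α (a * b) = φα α a * φα α b := by
  induction a using DirectSum.induction_on with
  | zero => simp
  | of i a =>
    induction b using DirectSum.induction_on with
    | zero => simp
    | of j b =>
      obtain ⟨x, hx, hxe⟩ := of_eq_ιn i a
      obtain ⟨y, hy, hye⟩ := of_eq_ιn j b
      rw [hxe, hye, ιn_mul_ιn hx hy, φα_ιn α (cm_mem hx hy), φα_ιn α hx, φα_ιn α hy,
        ιn_mul_ιn (aut_mem_gam α _ hx) (aut_mem_gam α _ hy), cm_map]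
    | add b c hb hc => rw [mul_add, map_add, map_add, mul_add, hb, hc]
  | add a c ha hc => rw [add_mul, map_add, map_add, add_mul, ha, hc]

end

/-- **Leaf HP1 of S3779**: the associated graded Lie ring of the lower central series. -/
theorem exists_lie_model (G : Type u) [Group G] :
    ∃ (L : Type u) (_ : LieRing L) (ι : ℕ → G → L),
      (∀ d, ∀ x ∈ (⊤ : Subgroup G).lowerCentralSeries d, ∀ y ∈ (⊤ : Subgroup G).lowerCentralSeries d,
        ι d (x * y) = ι d x + ι d y) ∧
      (∀ d, ∀ x ∈ (⊤ : Subgroup G).lowerCentralSeries d, ι d x = 0 →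
        x ∈ (⊤ : Subgroup G).lowerCentralSeries (d + 1)) ∧
      (∀ i j, ∀ x ∈ (⊤ : Subgroup G).lowerCentralSeries i,
        ∀ y ∈ (⊤ : Subgroup G).lowerCentralSeries j, ⁅ι i x, ι j y⁆ = ι (i + j + 1) (x * y * x⁻¹ * y⁻¹)) ∧
      (∀ v : L, v ∈ AddSubgroup.closure
        {v : L | ∃ d, ∃ x ∈ (⊤ : Subgroup G).lowerCentralSeries d, v = ι d x}) ∧
      (∀ α : MulAut G, ∃ φ : L →+ L, (∀ v w, φ ⁅v, w⁆ = ⁅φ v, φ w⁆) ∧
        ∀ d, ∀ x ∈ (⊤ : Subgroup G).lowerCentralSeries d, φ (ι d x) = ι d (α x)) := by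
  refine ⟨LL G, instLieRingLL, ιn G, ?_, ?_, ?_, ?_, ?_⟩
  · intro d x hx y hy
    exact ιn_mul hx hy
  · intro d x hx h
    exact mem_of_ιn_eq_zero hx h
  · intro i j x hx y hy
    exact ιn_mul_ιn hx hy
  · intro v
    exact LL_span v
  · intro α
    exact ⟨φα α, fun v w => φα_mul α v w, fun d x hx => φα_ιn α hx⟩

end Cfsg.Agent.Lib.Helper27.HKKLeaf
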