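import Mathlib
import Cfsg.Prelude.Def_Transfer
import Cfsg.Agent.Lib.Helper16.Extraspecial

set_option autoImplicit false

/-! Extraspecial `2`-groups as Heisenberg-type groups `ZMod 2 × V` over a biadditive form with values in `ZMod 2`. -/

namespace Cfsg.Agent.Lib.Helper27

open Cfsg
open scoped commutatorElement

/-- A biadditive form with values in `ZMod 2` on an additive group of exponent two. -/
structure BiForm (V : Type) [AddCommGroup V] where
  toFun : V → V → ZMod 2
  add_left : ∀ u v w, toFun (u + v) w = toFun u w + toFun v w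
  add_right : ∀ u v w, toFun u (v + w) = toFun u v + toFun u w
  char2 : ∀ v : V, v + v = 0

namespace BiForm

variable {V : Type} [AddCommGroup V] (B : BiForm V)

theorem zero_left (w : V) : B.toFun 0 w = 0 := by
  have h := B.add_left 0 0 w
  rw [add_zero] at h
  have : B.toFun 0 w + 0 = B.toFun 0 w + B.toFun 0 w := by rw [add_zero]; exact h
  exact (add_left_cancel this).symm

theorem zero_right (u : V) : B.toFun u 0 = 0 := by
  have h := B.add_right u 0 0
  rw [add_zero] at h
  have : B.toFun u 0 + 0 = B.toFun u 0 + B.toFun u 0 := by rw [add_zero]; exact h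
  exact (add_left_cancel this).symm

end BiForm

theorem zmod2_add_self (a : ZMod 2) : a + a = 0 := by
  revert a; decide

/-- The group `ZMod 2 × V` with the multiplication twisted by the form. -/
@[ext]
structure Heis {V : Type} [AddCommGroup V] (B : BiForm V) where
  a : ZMod 2
  v : V

namespace Heis

variable {V : Type} [AddCommGroup V] {B : BiForm V}

instance : Mul (Heis B) := ⟨fun x y => ⟨x.a + y.a + B.toFun x.v y.v, x.v + y.v⟩⟩
instance : One (Heis B) := ⟨⟨0, 0⟩⟩
instance : Inv (Heis B) := ⟨fun x => ⟨x.a + B.toFun x.v x.v, x.v⟩⟩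

@[simp] theorem mul_a (x y : Heis B) : (x * y).a = x.a + y.a + B.toFun x.v y.v := rfl
@[simp] theorem mul_v (x y : Heis B) : (x * y).v = x.v + y.v := rfl
@[simp] theorem one_a : (1 : Heis B).a = 0 := rfl
@[simp] theorem one_v : (1 : Heis B).v = 0 := rfl
@[simp] theorem inv_a (x : Heis B) : (x⁻¹).a = x.a + B.toFun x.v x.v := rfl
@[simp] theorem inv_v (x : Heis B) : (x⁻¹).v = x.v := rfl

instance : Group (Heis B) where
  mul_assoc x y z := by
    apply Heis.ext
    · simp only [mul_a, mul_v, B.add_left, B.add_right]
      ring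
    · simp only [mul_v, add_assoc]
  one_mul x := by
    apply Heis.ext
    · simp only [mul_a, one_a, one_v, B.zero_left, zero_add, add_zero]
    · simp only [mul_v, one_v, zero_add]
  mul_one x := by
    apply Heis.ext
    · simp only [mul_a, one_a, one_v, B.zero_right, add_zero]
    · simp only [mul_v, one_v, add_zero]
  inv_mul_cancel x := by
    apply Heis.ext
    · simp only [mul_a, inv_a, inv_v, one_a]
      have h1 := zmod2_add_self x.a
      have h2 := zmod2_add_self (B.toFun x.v x.v)
      calc x.a + B.toFun x.v x.v + x.a + B.toFun x.v x.v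
          = (x.a + x.a) + (B.toFun x.v x.v + B.toFun x.v x.v) := by ring
        _ = 0 := by rw [h1, h2, add_zero]
    · simp only [mul_v, inv_v, one_v]
      exact B.char2 x.v

/-- The central element `(1, 0)`. -/
def z (B : BiForm V) : Heis B := ⟨1, 0⟩

theorem z_ne_one : z B ≠ 1 := by
  intro h
  have := congrArg Heis.a h
  simp [z] at this

theorem sq_eq (x : Heis B) : x * x = ⟨B.toFun x.v x.v, 0⟩ := by
  apply Heis.ext
  · simp only [mul_a]
    rw [zmod2_add_self, zero_add]
  · simp only [mul_v]
    exact B.char2 x.v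

theorem mk_zero_mul_self (c : ZMod 2) : (⟨c, 0⟩ : Heis B) * ⟨c, 0⟩ = 1 := by
  apply Heis.ext
  · simp only [mul_a, one_a, B.zero_left, add_zero]
    exact zmod2_add_self c
  · simp only [mul_v, one_v, add_zero]

theorem pow_four (x : Heis B) : x ^ 4 = 1 := by
  have h : x ^ 4 = (x * x) * (x * x) := by
    rw [show (4 : ℕ) = 2 + 2 from rfl, pow_add, pow_two]
  rw [h, sq_eq x, mk_zero_mul_self]

theorem isPGroup : IsPGroup 2 (Heis B) := by
  intro x
  exact ⟨2, by norm_num; exact pow_four x⟩

theorem mul_comm_iff (x y : Heis B) : x * y = y * x ↔ B.toFun x.v y.v = B.toFun y.v x.v := by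
  constructor
  · intro h
    have := congrArg Heis.a h
    simp only [mul_a] at this
    have h2 : x.a + y.a = y.a + x.a := add_comm _ _
    rw [h2] at this
    exact add_left_cancel this
  · intro h
    apply Heis.ext
    · simp only [mul_a]
      rw [h, add_comm x.a y.a]
    · simp only [mul_v]
      exact add_comm _ _

/-- The commutator of two elements. -/
theorem commutator_eq (x y : Heis B) : ⁅x, y⁆ = ⟨B.toFun x.v y.v + B.toFun y.v x.v, 0⟩ := by
  rw [commutatorElement_def]
  rw [mul_inv_eq_iff_eq_mul, mul_inv_eq_iff_eq_mul]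
  apply Heis.ext
  · simp only [mul_a, mul_v, B.zero_left, add_zero, B.add_left, zero_add]
    have h := zmod2_add_self (B.toFun y.v x.v)
    calc x.a + y.a + B.toFun x.v y.v
        = x.a + y.a + B.toFun x.v y.v + 0 := by rw [add_zero]
      _ = x.a + y.a + B.toFun x.v y.v + (B.toFun y.v x.v + B.toFun y.v x.v) := by rw [h]
      _ = _ := by ring
  · simp only [mul_v, zero_add]
    exact add_comm _ _

section Nondeg

variable (hnd : ∀ v : V, v ≠ 0 → ∃ w : V, B.toFun v w + B.toFun w v = 1)

include hnd in
theorem mem_center_iff (x : Heis B) : x ∈ Subgroup.center (Heis B) ↔ x.v = 0 := by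
  rw [Subgroup.mem_center_iff]
  constructor
  · intro h
    by_contra hv
    obtain ⟨w, hw⟩ := hnd x.v hv
    have h1 := (mul_comm_iff (⟨0, w⟩ : Heis B) x).mp (h ⟨0, w⟩)
    simp only at h1
    rw [h1, zmod2_add_self] at hw
    exact zero_ne_one hw
  · intro hv y
    rw [mul_comm_iff, hv, B.zero_left, B.zero_right]

include hnd in
theorem center_eq (x : Heis B) (hx : x ∈ Subgroup.center (Heis B)) : x = 1 ∨ x = z B := by
  have hv := (mem_center_iff hnd x).mp hx
  have ha : x.a = 0 ∨ x.a = 1 := by
    generalize x.a = a
    revert a; decide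
  rcases ha with ha | ha
  · left; exact Heis.ext ha hv
  · right; exact Heis.ext ha hv

include hnd in
theorem z_mem_center : z B ∈ Subgroup.center (Heis B) := (mem_center_iff hnd _).mpr rfl

include hnd in
theorem card_center : Nat.card (Subgroup.center (Heis B)) = 2 := by
  rw [Nat.card_eq_two_iff]
  refine ⟨⟨1, one_mem _⟩, ⟨z B, z_mem_center hnd⟩, ?_, ?_⟩
  · intro h
    exact z_ne_one (congrArg Subtype.val h).symm
  · ext ⟨x, hx⟩
    simp only [Set.mem_insert_iff, Set.mem_singleton_iff, Set.mem_univ, iff_true]
    rcases center_eq hnd x hx with h | h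
    · left; exact Subtype.ext h
    · right; exact Subtype.ext h

include hnd in
theorem commutator_eq_center (hV : ∃ v : V, v ≠ 0) : commutator (Heis B) = Subgroup.center (Heis B) := by
  apply le_antisymm
  · rw [commutator_def, Subgroup.commutator_le]
    intro x _ y _
    rw [commutator_eq]
    exact (mem_center_iff hnd _).mpr rfl
  · intro x hx
    rcases center_eq hnd x hx with h | h
    · rw [h]; exact one_mem _
    · rw [h]
      obtain ⟨v, hv⟩ := hV
      obtain ⟨w, hw⟩ := hnd v hv
      have : z B = ⁅(⟨0, v⟩ : Heis B), ⟨0, w⟩⁆ := by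
        rw [commutator_eq]
        simp only
        rw [hw]
        rfl
      rw [this, commutator_def]
      exact Subgroup.commutator_mem_commutator (Subgroup.mem_top _) (Subgroup.mem_top _)

end Nondeg

/-- The homomorphism `y ↦ b(y.v, w)` to the group of order two. -/
def pairHom (B : BiForm V) (w : V) : Heis B →* Multiplicative (ZMod 2) where
  toFun y := Multiplicative.ofAdd (B.toFun y.v w + B.toFun w y.v)
  map_one' := by
    simp only [one_v, B.zero_left, B.zero_right, add_zero]
    rfl
  map_mul' x y := by
    simp only [mul_v, B.add_left, B.add_right]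
    rw [← ofAdd_add]
    congr 1
    ring

theorem pairHom_apply (w : V) (y : Heis B) :
    pairHom B w y = Multiplicative.ofAdd (B.toFun y.v w + B.toFun w y.v) := rfl

theorem zmod2_eq_of_ne_zero {a b : ZMod 2} (ha : a ≠ 0) (hb : b ≠ 0) : a = b := by
  revert a b; decide

/-- The kernel of a non-trivial `pairHom` is a maximal subgroup. -/
theorem isCoatom_ker_pairHom (w : V) (x : Heis B) (hx : pairHom B w x ≠ 1) : IsCoatom (pairHom B w).ker := by
  constructor
  · intro h
    apply hx
    have : x ∈ (pairHom B w).ker := by rw [h]; trivial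
    exact MonoidHom.mem_ker.mp this
  · intro N hN
    obtain ⟨y, hyN, hyK⟩ := SetLike.exists_of_lt hN
    rw [eq_top_iff]
    intro g _
    by_cases hg : g ∈ (pairHom B w).ker
    · exact hN.le hg
    · have h1 : pairHom B w g = pairHom B w y := by
        have hg' : Multiplicative.toAdd (pairHom B w g) ≠ 0 := fun h => hg (MonoidHom.mem_ker.mpr (by
          rw [← ofAdd_toAdd (pairHom B w g), h]; rfl))
        have hy' : Multiplicative.toAdd (pairHom B w y) ≠ 0 := fun h => hyK (MonoidHom.mem_ker.mpr (by
          rw [← ofAdd_toAdd (pairHom B w y), h]; rfl))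
        have := zmod2_eq_of_ne_zero hg' hy'
        rw [← ofAdd_toAdd (pairHom B w g), this, ofAdd_toAdd]
      have h2 : g * y⁻¹ ∈ (pairHom B w).ker := by
        rw [MonoidHom.mem_ker, map_mul, map_inv, h1, mul_inv_cancel]
      have h3 := N.mul_mem (hN.le h2) hyN
      rwa [inv_mul_cancel_right] at h3

section Nondeg2

variable (hnd : ∀ v : V, v ≠ 0 → ∃ w : V, B.toFun v w + B.toFun w v = 1)

include hnd in
theorem frattini_eq_center [Finite V] (hq : ∃ v : V, B.toFun v v = 1) :
    frattini (Heis B) = Subgroup.center (Heis B) := by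
  have hfin : Finite (Heis B) := by
    have : Function.Injective (fun x : Heis B => (x.a, x.v)) := by
      intro x y h
      simp only [Prod.mk.injEq] at h
      exact Heis.ext h.1 h.2
    exact Finite.of_injective _ this
  have : Fact (Nat.Prime 2) := ⟨Nat.prime_two⟩
  apply le_antisymm
  · intro x hx
    by_contra hxc
    have hv : x.v ≠ 0 := fun h => hxc ((mem_center_iff hnd x).mpr h)
    obtain ⟨w, hw⟩ := hnd x.v hv
    have hx1 : pairHom B w x ≠ 1 := by
      rw [pairHom_apply, hw]
      intro h
      have : (1 : ZMod 2) = 0 := h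
      exact one_ne_zero this
    have hco := isCoatom_ker_pairHom w x hx1
    have := frattini_le_coatom hco hx
    exact hx1 (MonoidHom.mem_ker.mp this)
  · intro x hx
    rcases center_eq hnd x hx with h | h
    · rw [h]; exact one_mem _
    · obtain ⟨v, hv⟩ := hq
      have h1 := Cfsg.Agent.Lib.Helper16.pow_mem_frattini (isPGroup (B := B)) (⟨0, v⟩ : Heis B)
      rw [pow_two, sq_eq] at h1
      simp only at h1
      rw [hv] at h1
      rw [h]
      exact h1

include hnd in
/-- The Heisenberg-type group of a form with nondegenerate commutator pairing is extraspecial. -/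
theorem isExtraspecial [Finite V] (hV : ∃ v : V, v ≠ 0) (hq : ∃ v : V, B.toFun v v = 1) :
    IsExtraspecial 2 (Heis B) :=
  ⟨⟨isPGroup, frattini_eq_center hnd hq, commutator_eq_center hnd hV⟩, card_center hnd⟩

end Nondeg2

/-- The underlying equivalence with the product. -/
def equivProd (B : BiForm V) : Heis B ≃ ZMod 2 × V where
  toFun x := (x.a, x.v)
  invFun p := ⟨p.1, p.2⟩
  left_inv _ := rfl
  right_inv _ := rfl

theorem card_eq [Finite V] : Nat.card (Heis B) = 2 * Nat.card V := by
  rw [Nat.card_congr (equivProd B), Nat.card_prod, Nat.card_zmod]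

end Heis

end Cfsg.Agent.Lib.Helper27
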