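import Cfsg.Agent.Lib.Helper27.HeisRank

set_option autoImplicit false

/-! The number of elements of order four in the Heisenberg-type group of minus type. -/

namespace Cfsg.Agent.Lib.Helper27

open Cfsg Cfsg.Agent.Lib.Helper16

/-- The sign character of `ZMod 2`. -/
def chi (a : ZMod 2) : ℤ := if a = 0 then 1 else -1

theorem chi_add (a b : ZMod 2) : chi (a + b) = chi a * chi b := by
  revert a b; decide

theorem chi_zero : chi 0 = 1 := rfl

theorem chi_sum {ι : Type*} (s : Finset ι) (f : ι → ZMod 2) : chi (∑ i ∈ s, f i) = ∏ i ∈ s, chi (f i) := by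
  classical
  induction s using Finset.induction_on with
  | empty => simp [chi_zero]
  | insert a s ha ih => rw [Finset.sum_insert ha, Finset.prod_insert ha, chi_add, ih]

theorem chi_eq (a : ZMod 2) : chi a = 1 - 2 * (if a = 1 then 1 else 0) := by
  revert a; decide

/-- The local quadratic forms of minus type. -/
def hloc {m : ℕ} (i : Fin (m + 1)) (p : ZMod 2 × ZMod 2) : ZMod 2 :=
  p.1 * p.2 + (if i = 0 then p.1 * p.1 + p.2 * p.2 else 0)

theorem minus_quad_eq {m : ℕ} (v : Vn (m + 1)) : (minusForm m).toFun v v = ∑ i, hloc i (v i) := by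
  rw [minusForm_apply]
  unfold hloc
  rw [Finset.sum_add_distrib, Finset.sum_ite_eq' Finset.univ (0 : Fin (m + 1))
    (fun i => (v i).1 * (v i).1 + (v i).2 * (v i).2)]
  simp only [Finset.mem_univ, if_true]
  ring

theorem sum_chi_hloc_zero {m : ℕ} : ∑ p : ZMod 2 × ZMod 2, chi (hloc (0 : Fin (m + 1)) p) = -2 := by
  unfold hloc
  simp only [if_true]
  decide

theorem sum_chi_hloc_succ {m : ℕ} (i : Fin m) : ∑ p : ZMod 2 × ZMod 2, chi (hloc i.succ p) = 2 := by
  unfold hloc
  simp only [Fin.succ_ne_zero, if_false, add_zero]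
  decide

theorem sum_chi_minus (m : ℕ) : ∑ v : Vn (m + 1), chi ((minusForm m).toFun v v) = -(2 : ℤ) ^ (m + 1) := by
  have h1 : ∀ v : Vn (m + 1), chi ((minusForm m).toFun v v) = ∏ i, chi (hloc i (v i)) := by
    intro v
    rw [minus_quad_eq, chi_sum]
  rw [Finset.sum_congr rfl (fun v _ => h1 v)]
  rw [← Fintype.prod_sum (fun (i : Fin (m + 1)) (p : ZMod 2 × ZMod 2) => chi (hloc i p))]
  rw [Fin.prod_univ_succ, sum_chi_hloc_zero]
  rw [Finset.prod_congr rfl (fun i _ => sum_chi_hloc_succ i)]
  rw [Finset.prod_const, Finset.card_univ, Fintype.card_fin, pow_succ]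
  ring

/-- Twice the number of non-singular vectors of the form of minus type. -/
theorem two_mul_card_nonsingular (m : ℕ) :
    (2 * (Finset.univ.filter (fun v : Vn (m + 1) => (minusForm m).toFun v v = 1)).card : ℤ) =
      (4 : ℤ) ^ (m + 1) + (2 : ℤ) ^ (m + 1) := by
  have h := sum_chi_minus m
  rw [Finset.sum_congr rfl (fun v _ => chi_eq ((minusForm m).toFun v v))] at h
  rw [Finset.sum_sub_distrib, ← Finset.mul_sum, Finset.sum_boole] at h
  simp only [Finset.sum_const, Finset.card_univ, nsmul_eq_mul, mul_one] at h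
  have hc : (Fintype.card (Vn (m + 1)) : ℤ) = (4 : ℤ) ^ (m + 1) := by
    have := card_vn (m + 1)
    rw [Nat.card_eq_fintype_card] at this
    rw [this]
    push_cast
    rfl
  rw [hc] at h
  linarith

theorem zmod2_eq_zero_of_ne_one {a : ZMod 2} (h : a ≠ 1) : a = 0 := by
  revert a; decide

theorem Heis.orderOf_eq_four_iff {V : Type} [AddCommGroup V] {B : BiForm V} (x : Heis B) :
    orderOf x = 4 ↔ B.toFun x.v x.v = 1 := by
  have : Fact (Nat.Prime 2) := ⟨Nat.prime_two⟩
  constructor
  · intro h
    by_contra hne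
    have h0 : B.toFun x.v x.v = 0 := zmod2_eq_zero_of_ne_one hne
    have h2 : x ^ 2 = 1 := by
      rw [pow_two, Heis.sq_eq, h0]
      rfl
    have := orderOf_dvd_of_pow_eq_one h2
    rw [h] at this
    norm_num at this
  · intro h
    have h2 : ¬ x ^ 2 ^ 1 = 1 := by
      rw [pow_one, pow_two, Heis.sq_eq, h]
      exact Heis.z_ne_one
    have h4 : x ^ 2 ^ (1 + 1) = 1 := by
      have := Heis.pow_four x
      norm_num
      exact this
    have := orderOf_eq_prime_pow h2 h4
    rw [this]
    norm_num

/-- The elements of order four correspond to the non-singular vectors, two for each. -/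
def orderFourEquiv {V : Type} [AddCommGroup V] (B : BiForm V) :
    {x : Heis B // orderOf x = 4} ≃ ZMod 2 × {v : V // B.toFun v v = 1} where
  toFun x := (x.1.a, ⟨x.1.v, (Heis.orderOf_eq_four_iff x.1).mp x.2⟩)
  invFun p := ⟨⟨p.1, p.2.1⟩, (Heis.orderOf_eq_four_iff _).mpr p.2.2⟩
  left_inv _ := rfl
  right_inv _ := rfl

theorem card_order_four_minus (m : ℕ) :
    Nat.card {x : Heis (minusForm m) // orderOf x = 4} = 4 ^ (m + 1) + 2 ^ (m + 1) := by
  classical
  rw [Nat.card_congr (orderFourEquiv (minusForm m)), Nat.card_prod, Nat.card_zmod, Nat.card_eq_fintype_card,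
    Fintype.card_subtype]
  have h := two_mul_card_nonsingular m
  exact_mod_cast h

/-- The group of minus type has no elementary abelian subgroup of order `2^(m+2)`. -/
theorem minus_no_large (m : ℕ) (A : Subgroup (Heis (minusForm m))) (hA : IsElementaryAbelian 2 A)
    (hAc : Nat.card A = 2 ^ (m + 2)) : False := by
  have hfin : Finite (Heis (minusForm m)) := Nat.finite_of_card_ne_zero (by
    rw [card_heis_vn]; positivity)
  have h1 := extraspecial_plus_count (m + 1) (minus_isExtraspecial m) (card_heis_vn _) A hA hAc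
  have h2 := card_order_four_minus m
  rw [h2] at h1
  have h3 : (4 : ℕ) ^ (m + 1) = 2 ^ (2 * (m + 1)) := by
    rw [pow_mul]; norm_num
  rw [h3] at h1
  have h4 : 0 < 2 ^ (m + 1) := by positivity
  generalize 2 ^ (2 * (m + 1)) = a at h1
  generalize 2 ^ (m + 1) = b at h1 h4
  omega

end Cfsg.Agent.Lib.Helper27
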