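import Cfsg.Agent.Lib.Helper27.HeisForms

set_option autoImplicit false

/-! Elementary abelian subgroups of the two Heisenberg-type extraspecial groups; the number of elements of order four
in the one of minus type. -/

namespace Cfsg.Agent.Lib.Helper27

open Cfsg Cfsg.Agent.Lib.Helper16
open scoped commutatorElement

/-- A subgroup of `Heis B` on which the form vanishes is elementary abelian. -/
theorem Heis.isElementaryAbelian_of_form_zero {V : Type} [AddCommGroup V] {B : BiForm V} (A : Subgroup (Heis B))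
    (h : ∀ x ∈ A, ∀ y ∈ A, B.toFun x.v y.v = 0) : IsElementaryAbelian 2 A := by
  refine ⟨⟨⟨fun a b => ?_⟩⟩, fun a ha => ?_⟩
  · apply Subtype.ext
    show (a : Heis B) * b = b * a
    rw [Heis.mul_comm_iff, h a a.2 b b.2, h b b.2 a a.2]
  · rw [pow_two, Heis.sq_eq, h a ha a ha]
    rfl

/-- The elementary abelian subgroup of order `2^(n+1)` of the group of plus type. -/
def plusSub (n : ℕ) : Subgroup (Heis (plusForm n)) where
  carrier := {x | ∀ i, (x.v i).2 = 0}
  one_mem' := fun i => rfl
  mul_mem' := by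
    intro x y hx hy i
    show ((x.v + y.v) i).2 = 0
    rw [Pi.add_apply, Prod.snd_add, hx i, hy i, add_zero]
  inv_mem' := by
    intro x hx i
    exact hx i

theorem plusSub_elementary (n : ℕ) : IsElementaryAbelian 2 (plusSub n) := by
  apply Heis.isElementaryAbelian_of_form_zero
  intro x _ y hy
  rw [plusForm_apply]
  apply Finset.sum_eq_zero
  intro i _
  rw [hy i, mul_zero]

/-- Coordinates on `plusSub`. -/
def plusSubEquiv (n : ℕ) : plusSub n ≃ ZMod 2 × (Fin n → ZMod 2) where
  toFun x := ((x : Heis (plusForm n)).a, fun i => ((x : Heis (plusForm n)).v i).1)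
  invFun p := ⟨⟨p.1, fun i => (p.2 i, 0)⟩, fun _ => rfl⟩
  left_inv := by
    rintro ⟨x, hx⟩
    apply Subtype.ext
    apply Heis.ext
    · rfl
    · funext i
      exact Prod.ext rfl (hx i).symm
  right_inv := by
    rintro ⟨a, t⟩
    rfl

theorem card_plusSub (n : ℕ) : Nat.card (plusSub n) = 2 ^ (n + 1) := by
  rw [Nat.card_congr (plusSubEquiv n), Nat.card_prod, Nat.card_zmod, Nat.card_eq_fintype_card, Fintype.card_fun,
    ZMod.card, Fintype.card_fin, pow_succ]
  ring

/-- The elementary abelian subgroup of order `2^(m+1)` of the group of minus type on `m + 1` planes. -/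
def minusSub (m : ℕ) : Subgroup (Heis (minusForm m)) where
  carrier := {x | (∀ i, (x.v i).2 = 0) ∧ (x.v 0).1 = 0}
  one_mem' := ⟨fun i => rfl, rfl⟩
  mul_mem' := by
    intro x y hx hy
    refine ⟨fun i => ?_, ?_⟩
    · show ((x.v + y.v) i).2 = 0
      rw [Pi.add_apply, Prod.snd_add, hx.1 i, hy.1 i, add_zero]
    · show ((x.v + y.v) 0).1 = 0
      rw [Pi.add_apply, Prod.fst_add, hx.2, hy.2, add_zero]
  inv_mem' := by
    intro x hx
    exact hx

theorem minusSub_elementary (m : ℕ) : IsElementaryAbelian 2 (minusSub m) := by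
  apply Heis.isElementaryAbelian_of_form_zero
  intro x hx y hy
  rw [minusForm_apply]
  have h1 : ∑ i, (x.v i).1 * (y.v i).2 = 0 := by
    apply Finset.sum_eq_zero
    intro i _
    rw [hy.1 i, mul_zero]
  rw [h1, hx.2, hy.1 0, zero_mul, mul_zero, add_zero, add_zero]

/-- Coordinates on `minusSub`. -/
def minusSubEquiv (m : ℕ) : minusSub m ≃ ZMod 2 × (Fin m → ZMod 2) where
  toFun x := ((x : Heis (minusForm m)).a, fun i => ((x : Heis (minusForm m)).v i.succ).1)
  invFun p := ⟨⟨p.1, Fin.cons (0, 0) (fun i => (p.2 i, 0))⟩, by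
    refine ⟨fun i => ?_, ?_⟩
    · refine Fin.cases ?_ (fun j => ?_) i
      · rfl
      · show ((Fin.cons ((0 : ZMod 2), (0 : ZMod 2)) (fun i => (p.2 i, (0 : ZMod 2))) : Vn (m + 1)) j.succ).2 = 0
        rw [Fin.cons_succ]
    · rfl⟩
  left_inv := by
    rintro ⟨x, hx⟩
    apply Subtype.ext
    apply Heis.ext
    · rfl
    · funext i
      refine Fin.cases ?_ (fun j => ?_) i
      · show ((0 : ZMod 2), (0 : ZMod 2)) = x.v 0
        exact Prod.ext hx.2.symm (hx.1 0).symm
      · show (Fin.cons ((0 : ZMod 2), (0 : ZMod 2)) (fun i => ((x.v i.succ).1, (0 : ZMod 2))) : Vn (m + 1)) j.succ =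
          x.v j.succ
        rw [Fin.cons_succ]
        exact Prod.ext rfl (hx.1 j.succ).symm
  right_inv := by
    rintro ⟨a, t⟩
    apply Prod.ext
    · rfl
    · funext i
      show ((Fin.cons ((0 : ZMod 2), (0 : ZMod 2)) (fun i => (t i, (0 : ZMod 2))) : Vn (m + 1)) i.succ).1 = t i
      rw [Fin.cons_succ]

theorem card_minusSub (m : ℕ) : Nat.card (minusSub m) = 2 ^ (m + 1) := by
  rw [Nat.card_congr (minusSubEquiv m), Nat.card_prod, Nat.card_zmod, Nat.card_eq_fintype_card, Fintype.card_fun,
    ZMod.card, Fintype.card_fin, pow_succ]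
  ring

end Cfsg.Agent.Lib.Helper27
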