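import Cfsg.Agent.Lib.Helper27.KQ3

/-!
helper27: the functor `J̃(Q) = C_Q(Z(J(Q)))` (with `J` the Thompson subgroup generated by the abelian subgroups of
largest order) is a positive characteristic functor with the quadratic property; the group form of Glauberman's
generation theorem: a group `L` with `C_L(O_p(L)) ≤ O_p(L)` is generated by `C_L(℧¹(Z(P)))` and `N_L(W(P))`.
-/

set_option autoImplicit false
set_option linter.unusedSectionVars false
set_option linter.unusedVariables false
open scoped commutatorElement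

namespace Cfsg.Agent.Lib.Helper27.KQ

open Cfsg Cfsg.Agent.Lib.Helper27.KL Cfsg.Agent.Lib.Helper27.GN

universe u

/-- The functor `J̃`. -/
def JT (Q : Type u) [Group Q] : Subgroup Q := Subgroup.centralizer (ZJFun.zjA Q : Set Q)

theorem thompsonSubgroupA_le_JT (Q : Type u) [Group Q] : Cfsg.thompsonSubgroupA Q ≤ JT Q := by
  intro x hx
  unfold JT
  rw [Subgroup.mem_centralizer_iff]
  intro z hz
  have hz' : z ∈ Cfsg.thompsonSubgroupA Q ⊓ Subgroup.centralizer (Cfsg.thompsonSubgroupA Q : Set Q) := hz
  exact (Subgroup.mem_centralizer_iff.mp hz'.2 x hx).symm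

theorem center_le_JT (Q : Type u) [Group Q] [Finite Q] : Subgroup.center Q ≤ JT Q :=
  (center_le_JF Q).trans (thompsonSubgroupA_le_JT Q)

theorem JT_map_equiv {Q R : Type u} [Group Q] [Group R] (φ : Q ≃* R) :
    (JT Q).map φ.toMonoidHom = JT R := by
  unfold JT
  rw [← ZJFun.zjA_map_equiv φ]
  ext y
  constructor
  · rintro ⟨x, hx, rfl⟩
    rw [Subgroup.mem_centralizer_iff]
    rintro _ ⟨z, hz, rfl⟩
    have := Subgroup.mem_centralizer_iff.mp hx z hz
    show φ z * φ x = φ x * φ z
    rw [← map_mul, ← map_mul, this]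
  · intro hy
    obtain ⟨x, rfl⟩ := φ.surjective y
    refine ⟨x, ?_, rfl⟩
    rw [SetLike.mem_coe, Subgroup.mem_centralizer_iff]
    intro z hz
    have := Subgroup.mem_centralizer_iff.mp hy (φ z) ⟨z, hz, rfl⟩
    apply φ.injective
    rw [map_mul, map_mul]
    exact this

theorem posChar_JT (p : ℕ) [Fact p.Prime] : PosChar p JT.{u} := by
  refine ⟨?_, ?_⟩
  · intro Q _ _ hQ hnt hbot
    have := hQ.center_nontrivial
    have hc : Subgroup.center Q ≠ ⊥ := by
      rw [← Subgroup.nontrivial_iff_ne_bot]; exact this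
    apply hc
    rw [eq_bot_iff, ← hbot]
    exact center_le_JT Q
  · intro Q R _ _ _ _ φ
    exact JT_map_equiv φ

/-- The value of `J̃` on a subgroup, inside the ambient group. -/
theorem map_JT_eq {G : Type u} [Group G] (P : Subgroup G) :
    (JT ↥P).map P.subtype = P ⊓ Subgroup.centralizer (Cfsg.centerThompsonAOf P : Set G) := by
  have h1 := ZJFun.inducedFunctor_zjA P
  unfold Cfsg.inducedFunctor at h1
  rw [← h1]
  ext y
  constructor
  · rintro ⟨x, hx, rfl⟩
    refine ⟨x.2, ?_⟩
    show P.subtype x ∈ Subgroup.centralizer _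
    rw [Subgroup.mem_centralizer_iff]
    rintro _ ⟨z, hz, rfl⟩
    have := Subgroup.mem_centralizer_iff.mp hx z hz
    exact congrArg Subtype.val this
  · rintro ⟨hyP, hyC⟩
    refine ⟨⟨y, hyP⟩, ?_, rfl⟩
    show (⟨y, hyP⟩ : ↥P) ∈ Subgroup.centralizer _
    rw [Subgroup.mem_centralizer_iff]
    intro z hz
    apply Subtype.ext
    exact Subgroup.mem_centralizer_iff.mp hyC z ⟨z, hz, rfl⟩

section Quad

variable (p : ℕ) [Fact p.Prime]

/-- **The quadratic property of `J̃`.** -/
theorem quadProp_JT : QuadProp p JT.{u} := by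
  intro G _ _ P hnn
  classical
  by_cases hJn : ((JF ↥(P : Subgroup G)).map (P : Subgroup G).subtype : Subgroup G).Normal
  · -- `J(P)` is normal in `G`
    set T : Subgroup G := Cfsg.pCore p G with hT
    haveI hTn : T.Normal := Cfsg.Agent.Lib.Helper17.pCore_normal p G
    have hTP : T ≤ (P : Subgroup G) := Cfsg.Agent.Lib.Helper16.pCore_le_sylow P
    set J : Subgroup G := (JF ↥(P : Subgroup G)).map (P : Subgroup G).subtype with hJ
    have hJP : J ≤ (P : Subgroup G) := Subgroup.map_subtype_le _
    have hJT : J ≤ T := Cfsg.Agent.Lib.Helper16.le_pCore hJn (P.isPGroup'.to_le hJP)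
    have hmemV : ∀ v, v ∈ (Subgroup.center ↥T).map T.subtype ↔ v ∈ T ∧ ∀ q ∈ T, q * v = v * q :=
      mem_center_pCore_map p
    have hZJeq : Cfsg.centerThompsonAOf (P : Subgroup G) = J ⊓ Subgroup.centralizer (J : Set G) := rfl
    haveI hZJn : (J ⊓ Subgroup.centralizer (J : Set G)).Normal := inferInstance
    haveI hCn : (Subgroup.centralizer ((J ⊓ Subgroup.centralizer (J : Set G) : Subgroup G) : Set G)).Normal :=
      inferInstance
    rw [map_JT_eq, hZJeq] at hnn
    -- `Z(T) ≤ Z(J)`
    have hVZJ : (Subgroup.center ↥T).map T.subtype ≤ J ⊓ Subgroup.centralizer (J : Set G) := by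
      intro z hz
      rw [hmemV] at hz
      have hzP : z ∈ (P : Subgroup G) := hTP hz.1
      refine ⟨?_, ?_⟩
      · -- `z` lies in every abelian subgroup of largest order
        obtain ⟨A, hA⟩ := maxIn_nonempty (goodClass_abSub (G := ↥(P : Subgroup G))) ⊤
        have hA' : A ∈ Cfsg.maxAbelianSubgroups ↥(P : Subgroup G) :=
          ⟨(abSub_iff A).mp hA.2.1, fun B hB => hA.2.2 B le_top ((abSub_iff B).mpr hB)⟩
        have hAJ : A.map (P : Subgroup G).subtype ≤ J := Subgroup.map_mono (le_sSup hA')
        have hcomm : ∀ a ∈ A, a * (⟨z, hzP⟩ : ↥(P : Subgroup G)) = ⟨z, hzP⟩ * a := by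
          intro a ha
          apply Subtype.ext
          rw [Subgroup.coe_mul, Subgroup.coe_mul]
          exact hz.2 _ (hJT (hAJ ⟨a, ha, rfl⟩))
        have h1 : AbSub (A ⊔ Subgroup.zpowers (⟨z, hzP⟩ : ↥(P : Subgroup G))) :=
          goodClass_abSub.join A _ hA.2.1 (abSub_zpowers _) hcomm
        have h3 := hA.2.2 _ le_top h1
        have h4 : A = A ⊔ Subgroup.zpowers (⟨z, hzP⟩ : ↥(P : Subgroup G)) :=
          Subgroup.eq_of_le_of_card_ge le_sup_left h3
        have hzA : (⟨z, hzP⟩ : ↥(P : Subgroup G)) ∈ A := by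
          rw [h4]; exact Subgroup.mem_sup_right (Subgroup.mem_zpowers _)
        exact hAJ ⟨⟨z, hzP⟩, hzA, rfl⟩
      · show z ∈ Subgroup.centralizer _
        rw [Subgroup.mem_centralizer_iff]
        intro j hj
        exact hz.2 j (hJT hj)
    -- an element of `C_P(Z(J))` outside `T`
    have hex : ¬ ((P : Subgroup G) ⊓
        Subgroup.centralizer ((J ⊓ Subgroup.centralizer (J : Set G) : Subgroup G) : Set G) ≤ T) := by
      intro hle
      apply hnn
      have heq : (P : Subgroup G) ⊓
          Subgroup.centralizer ((J ⊓ Subgroup.centralizer (J : Set G) : Subgroup G) : Set G) =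
          T ⊓ Subgroup.centralizer ((J ⊓ Subgroup.centralizer (J : Set G) : Subgroup G) : Set G) := by
        apply le_antisymm
        · exact le_inf hle inf_le_right
        · exact inf_le_inf_right _ hTP
      rw [heq]
      infer_instance
    obtain ⟨g, hg, hgT⟩ := SetLike.not_le_iff_exists.mp hex
    refine ⟨g, hg.1, hgT, ?_⟩
    have h1 : ⁅(Subgroup.center ↥T).map T.subtype, Subgroup.zpowers g⁆ = ⊥ := by
      rw [Subgroup.commutator_eq_bot_iff_le_centralizer]
      intro v hv
      rw [Subgroup.mem_centralizer_iff]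
      intro n hn
      obtain ⟨k, rfl⟩ := Subgroup.mem_zpowers_iff.mp hn
      have hc : Commute g v := (Subgroup.mem_centralizer_iff.mp hg.2 v (hVZJ hv)).symm
      exact (hc.zpow_left k).eq
    rw [h1]
    exact Subgroup.commutator_bot_left _
  · exact quadProp_JF p G P hJn

end Quad

section Gen

variable {p : ℕ} [Fact p.Prime] {W : ∀ (Q : Type u) [Group Q], Subgroup Q}

/-- **Glauberman's generation theorem**, group form. -/
theorem group_eq_sup (hW : PosChar p W) (hq : QuadProp p W) {L : Type u} [Group L] [Finite L] (P : Sylow p L)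
    (hcon : Subgroup.centralizer ((Cfsg.pCore p L : Subgroup L) : Set L) ≤ Cfsg.pCore p L) :
    Subgroup.centralizer ((agemoCenter p (P : Subgroup L) : Subgroup L) : Set L) ⊔
      Subgroup.normalizer (((W ↥(P : Subgroup L)).map (P : Subgroup L).subtype : Subgroup L) : Set L) = ⊤ := by
  set Y : Subgroup L := Subgroup.centralizer ((agemoCenter p (P : Subgroup L) : Subgroup L) : Set L) ⊔
      Subgroup.normalizer (((W ↥(P : Subgroup L)).map (P : Subgroup L).subtype : Subgroup L) : Set L) with hY
  let 𝒟 : ConjClass L (P : Subgroup L) :=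
    { D := fun _ g => g ∈ Y
      mono := fun h _ => h
      comp := fun h h' _ _ => Y.mul_mem h' h }
  have key := gen_group hW hq _ L rfl P hcon 𝒟
    (by
      intro R g _ _ hz
      apply Subgroup.mem_sup_left
      rw [Subgroup.mem_centralizer_iff]
      intro q hq
      obtain ⟨z, hzP, hzc, rfl⟩ := exists_of_mem_agemoCenter hq
      exact (hz z hzP hzc).symm)
    (by
      intro R g _ _ hg
      exact Subgroup.mem_sup_right hg)
  rw [eq_top_iff]
  intro g _
  exact key ⊥ g bot_le (by
    intro x hx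
    rw [Subgroup.mem_bot] at hx
    rw [hx]
    simp)

end Gen

end Cfsg.Agent.Lib.Helper27.KQ
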