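/-
helper27: S4648-NIL (helper1's plan, leaf held by helper2), the three LOCAL lemmas in the vocabulary
(defect group `P`, block `c` of `C_G(P)` inducing `B`, stabiliser of `c` in `N_G(P)`):

* `mem_centralizer_of_cyclic_two_group` : an element of odd order normalising a cyclic 2-group centralises it;
* `stab_le_centralizer_of_klein`        : Klein four defect group and `blockRank 2 B = 1` (from S4637);
* `stab_le_centralizer_of_card_three`   : `|P| = 3`, `k(B) = 3`, `blockRank 3 B = 1` (Brauer's subsection count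
  `Helper24.KleinSC.card_block_eq_sum_orbits` + S4669: an inverting stabiliser would give `k(B) = 2`).
-/
import Mathlib
import Cfsg.Agent.S4637
import Cfsg.Agent.S4669
import Cfsg.Agent.Lib.Helper24.KleinSC
import Cfsg.Agent.Lib.Helper5.KleinPISTAB

set_option autoImplicit false

namespace Cfsg.Agent.Lib.Helper27.K4NILa

open Cfsg

universe u

/-- an element of odd order normalising a cyclic `2`-group centralises it -/
theorem mem_centralizer_of_cyclic_two_group {G : Type*} [Group G] [Finite G] (Q : Subgroup G)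
    (hcyc : IsCyclic Q) (hQ : IsPGroup 2 Q) (x : G)
    (hx : x ∈ Subgroup.normalizer (Q : Set G)) (hodd : IsPRegular 2 x) :
    x ∈ Subgroup.centralizer (Q : Set G) := by
  have h1 : orderOf (Q.normalizerMonoidHom ⟨x, hx⟩) ∣ orderOf (⟨x, hx⟩ :
      Subgroup.normalizer (Q : Set G)) := orderOf_map_dvd _ _
  rw [Subgroup.orderOf_mk] at h1
  have h2 : orderOf (Q.normalizerMonoidHom ⟨x, hx⟩) ∣ Nat.card (MulAut Q) :=
    orderOf_dvd_natCard _
  rw [IsCyclic.card_mulAut] at h2
  obtain ⟨n, hn⟩ := IsPGroup.iff_card.mp hQ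
  have h3 : Nat.totient (2 ^ n) ∣ 2 ^ n := by
    rcases Nat.eq_zero_or_pos n with h0 | hpos
    · rw [h0, pow_zero, Nat.totient_one]
    · rw [Nat.totient_prime_pow Nat.prime_two hpos]
      simp only [Nat.add_one_sub_one, mul_one]
      exact pow_dvd_pow 2 (Nat.sub_le n 1)
  rw [hn] at h2
  have h4 : Nat.Coprime (orderOf x) (2 ^ n) := by
    apply Nat.Coprime.pow_right
    rw [Nat.coprime_comm]
    exact (Nat.Prime.coprime_iff_not_dvd Nat.prime_two).mpr hodd
  have h5 : orderOf (Q.normalizerMonoidHom ⟨x, hx⟩) = 1 :=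
    Nat.eq_one_of_dvd_coprimes h4 h1 (dvd_trans h2 h3)
  rw [orderOf_eq_one_iff] at h5
  have h6 : (⟨x, hx⟩ : Subgroup.normalizer (Q : Set G)) ∈ Q.normalizerMonoidHom.ker := h5
  rw [Subgroup.normalizerMonoidHom_ker] at h6
  exact h6

/-- Klein four defect group and `2`-regular rank one: the stabiliser of `c` centralises `P` -/
theorem stab_le_centralizer_of_klein {G : Type*} [Group G] [Finite G] (M : Ideal AlgInt)
    (hM : IsPModular 2 M) (B : Set (IrrCharacter G)) (hB : IsPBlock M B) (P : Subgroup G)
    (hPD : IsDefectGroup 2 M B P) (hV : IsKleinFour P) (hl : blockRank 2 B = 1)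
    (c : Set (IrrCharacter (Subgroup.centralizer (P : Set G))))
    (hc : IsInducedBlock M (Subgroup.centralizer (P : Set G)) c B) :
    ∀ x ∈ Subgroup.normalizer (P : Set G),
      StabilizesBlock (Subgroup.centralizer (P : Set G)) c x →
        x ∈ Subgroup.centralizer (P : Set G) := by
  obtain ⟨T, hT⟩ := Cfsg.Agent.Lib.Helper5.KleinPISTAB.exists_stabilizer P c
  have h := Cfsg.Agent.S4637.result M hM B hB P hPD hV c hc T hT _ rfl
  have h1 : (Subgroup.centralizer (P : Set G)).relIndex T = 1 := by rw [← h.2.2, hl]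
  have h2 : T ≤ Subgroup.centralizer (P : Set G) := Subgroup.relIndex_eq_one.mp h1
  intro x hx hs
  exact h2 ((hT x).mpr ⟨hx, hs⟩)

/-- defect group of order three, three characters, `3`-regular rank one: the stabiliser of `c`
centralises `P` -/
theorem stab_le_centralizer_of_card_three {G : Type u} [Group G] [Finite G] (M : Ideal AlgInt)
    (hM : IsPModular 3 M) (B : Set (IrrCharacter G)) (hB : IsPBlock M B) (P : Subgroup G)
    (hPD : IsDefectGroup 3 M B P) (hP3 : Nat.card P = 3) (hk : Nat.card B = 3)
    (hl : blockRank 3 B = 1)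
    (c : Set (IrrCharacter (Subgroup.centralizer (P : Set G))))
    (hc : IsInducedBlock M (Subgroup.centralizer (P : Set G)) c B) :
    ∀ x ∈ Subgroup.normalizer (P : Set G),
      StabilizesBlock (Subgroup.centralizer (P : Set G)) c x →
        x ∈ Subgroup.centralizer (P : Set G) := by
  classical
  let _ : Fintype G := Fintype.ofFinite G
  have hp3 : Fact (3 : ℕ).Prime := ⟨Nat.prime_three⟩
  obtain ⟨T, hT⟩ := Cfsg.Agent.Lib.Helper5.KleinPISTAB.exists_stabilizer P c
  intro x hx hs
  by_contra hxc
  have hex : ∃ v ∈ P, v * x ≠ x * v := by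
    by_contra h
    apply hxc
    rw [Subgroup.mem_centralizer_iff]
    intro v hv
    by_contra h'
    exact h ⟨v, hv, h'⟩
  obtain ⟨u, huP, hux⟩ := hex
  have hu1 : u ≠ 1 := by
    rintro rfl
    apply hux
    rw [one_mul, mul_one]
  -- the elements of `P`
  have hu3 : u ^ 3 = 1 := by
    have h1 : (⟨u, huP⟩ : P) ^ Nat.card P = 1 := pow_card_eq_one'
    rw [hP3] at h1
    exact congrArg Subtype.val h1
  have hel : ∀ w ∈ P, w = 1 ∨ w = u ∨ w = u⁻¹ := by
    intro w hw
    have hne : (⟨u, huP⟩ : P) ≠ 1 := fun h => hu1 (congrArg Subtype.val h)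
    have h1 : (⟨w, hw⟩ : P) ∈ Subgroup.zpowers (⟨u, huP⟩ : P) := by
      rw [zpowers_eq_top_of_prime_card hP3 hne]
      exact Subgroup.mem_top _
    obtain ⟨k, hk'⟩ := Subgroup.mem_zpowers_iff.mp h1
    have h2 : u ^ k = w := by
      have := congrArg Subtype.val hk'
      simpa using this
    have h3 : u ^ (k % 3) = u ^ k := by
      have h4 : k = k % 3 + 3 * (k / 3) := (Int.emod_add_mul_ediv k 3).symm
      conv_rhs => rw [h4]
      rw [zpow_add, zpow_mul]
      have : u ^ (3 : ℤ) = 1 := by
        rw [← hu3]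
        exact zpow_natCast u 3
      rw [this, one_zpow, mul_one]
    have h5 : 0 ≤ k % 3 := Int.emod_nonneg k (by norm_num)
    have h6 : k % 3 < 3 := Int.emod_lt_of_pos k (by norm_num)
    rw [← h2, ← h3]
    obtain ⟨j, hj⟩ : ∃ j : ℤ, j = k % 3 := ⟨_, rfl⟩
    rw [← hj] at h5 h6 ⊢
    interval_cases j
    · left
      exact zpow_zero u
    · right; left
      exact zpow_one u
    · right; right
      have h7 : u ^ (2 : ℤ) * u = 1 := by
        rw [← hu3]
        have : u ^ (2 : ℤ) = u ^ 2 := zpow_natCast u 2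
        rw [this, ← pow_succ]
      exact eq_inv_of_mul_eq_one_left h7
  have huinv : u⁻¹ ≠ u := by
    intro h
    have h1 : u * u = 1 := by
      nth_rewrite 1 [← h]
      exact inv_mul_cancel u
    have h2 : u ^ 3 = u := by
      rw [pow_succ, pow_two, h1, one_mul]
    rw [hu3] at h2
    exact hu1 h2.symm
  have hab : ∀ a ∈ P, ∀ b ∈ P, a * b = b * a := by
    intro a ha b hb
    rcases hel a ha with rfl | rfl | rfl <;> rcases hel b hb with rfl | rfl | rfl <;> simp
  -- `x` inverts `u`
  have hxu : x * u * x⁻¹ = u⁻¹ := by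
    have h1 : x * u * x⁻¹ ∈ P := (Subgroup.mem_normalizer_iff.mp hx u).mp huP
    rcases hel _ h1 with h | h | h
    · exfalso
      apply hu1
      have : u = x⁻¹ * (x * u * x⁻¹) * x := by group
      rw [this, h]
      group
    · exfalso
      apply hux
      have : x * u = (x * u * x⁻¹) * x := by group
      rw [this, h]
    · exact h
  have hxT : x ∈ T := (hT x).mpr ⟨hx, hs⟩
  -- the representatives
  set R : Finset G := {1, u} with hRdef
  have hRP : ∀ r ∈ R, r ∈ P := by
    intro r hr
    rcases Finset.mem_insert.mp hr with rfl | hr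
    · exact P.one_mem
    · rw [Finset.mem_singleton.mp hr]
      exact huP
  have hconj1 : ∀ t r : G, t * r * t⁻¹ = 1 → r = 1 := by
    intro t r h
    have : r = t⁻¹ * (t * r * t⁻¹) * t := by group
    rw [this, h]
    group
  have hR : ∀ v ∈ P, ∃! r, r ∈ R ∧ ∃ t ∈ T, t * r * t⁻¹ = v := by
    intro v hv
    rcases hel v hv with rfl | rfl | rfl
    · refine ⟨1, ⟨Finset.mem_insert_self _ _, 1, T.one_mem, by group⟩, ?_⟩
      rintro w ⟨-, t, -, htw⟩
      exact hconj1 t w htw
    · refine ⟨v, ⟨Finset.mem_insert_of_mem (Finset.mem_singleton_self _), 1, T.one_mem,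
        by group⟩, ?_⟩
      rintro w ⟨hwR, t, -, htw⟩
      rcases Finset.mem_insert.mp hwR with rfl | hw
      · exfalso
        apply hu1
        rw [← htw]
        group
      · exact Finset.mem_singleton.mp hw
    · refine ⟨u, ⟨Finset.mem_insert_of_mem (Finset.mem_singleton_self _), x, hxT, hxu⟩, ?_⟩
      rintro w ⟨hwR, t, -, htw⟩
      rcases Finset.mem_insert.mp hwR with rfl | hw
      · exfalso
        apply hu1
        have h1 : u⁻¹ = 1 := by
          rw [← htw]
          group
        exact inv_eq_one.mp h1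
      · exact Finset.mem_singleton.mp hw
  obtain ⟨f, hf, hcount⟩ := Cfsg.Agent.Lib.Helper24.KleinSC.card_block_eq_sum_orbits hM B hB P
    hPD hab c hc T hT R hRP hR
  have huR : u ∈ R := Finset.mem_insert_of_mem (Finset.mem_singleton_self _)
  have herase : R.erase 1 = {u} := by
    rw [hRdef, Finset.erase_insert]
    rw [Finset.mem_singleton]
    exact fun h => hu1 h.symm
  -- the subsection at `u` has rank one (central defect group)
  have hfu : blockRank 3 (f u) = 1 := by
    let _ : Fintype (Subgroup.centralizer ({u} : Set G)) := Fintype.ofFinite _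
    refine Cfsg.Agent.S4669.result 3 M hM (f u) (hf u huR).1.1
      (P.subgroupOf (Subgroup.centralizer ({u} : Set G))) (hf u huR).2 ?_
    intro y hy
    rw [Subgroup.mem_center_iff]
    intro z
    have hz : u * (z : G) = (z : G) * u := by
      have := z.2
      rw [Subgroup.mem_centralizer_iff] at this
      exact this u (Set.mem_singleton u)
    have hyP : (y : G) ∈ P := hy
    apply Subtype.ext
    show (z : G) * (y : G) = (y : G) * (z : G)
    rcases hel _ hyP with h | h | h
    · rw [h, mul_one, one_mul]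
    · rw [h, hz]
    · rw [h]
      have : (z : G) = u⁻¹ * (u * (z : G)) := by group
      nth_rewrite 1 [this]
      rw [hz]
      group
  rw [herase, Finset.sum_singleton, hfu, hl, hk] at hcount
  omega

end Cfsg.Agent.Lib.Helper27.K4NILa
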