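import Cfsg.Agent.Lib.Helper27.FMConj
import Cfsg.Agent.Lib.Helper26.FSSubsystem

/-!
helper27 (towards the ZJ-theorem for fusion systems, after Kessar–Linckelmann): maps normalizing a subgroup,
as a closed predicate, and Alperin's theorem with an induction hypothesis on larger subgroups.
-/

set_option autoImplicit false
set_option linter.unusedSectionVars false
set_option linter.unusedVariables false

namespace Cfsg.Agent.Lib.Helper27.KL

open Cfsg Cfsg.FusionSystem Cfsg.Agent.Lib.Helper26 Cfsg.Agent.Lib.Helper27.FM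

variable {Ω : Type*} [Group Ω] {S : Subgroup Ω}

/-- `θ` on `R` is a map of `F` that extends to `R ⊔ U` mapping `U` into itself. -/
def NM (F : FusionSystem S) (U R : Subgroup Ω) (θ : Ω → Ω) : Prop :=
  ∃ θ' : Ω → Ω, IsFM F (R ⊔ U) θ' ∧ (∀ x ∈ R, θ' x = θ x) ∧ ∀ u ∈ U, θ' u ∈ U

theorem NM.isFM {F : FusionSystem S} {U R : Subgroup Ω} {θ : Ω → Ω} (h : NM F U R θ) : IsFM F R θ := by
  obtain ⟨θ', h1, h2, -⟩ := h
  exact (h1.mono le_sup_left).congr h2

theorem NM.mono {F : FusionSystem S} {U R R' : Subgroup Ω} {θ : Ω → Ω} (h : NM F U R θ) (hle : R' ≤ R) :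
    NM F U R' θ := by
  obtain ⟨θ', h1, h2, h3⟩ := h
  exact ⟨θ', h1.mono (sup_le_sup_right hle U), fun x hx => h2 x (hle hx), h3⟩

theorem NM.congr {F : FusionSystem S} {U R : Subgroup Ω} {θ θ₂ : Ω → Ω} (h : NM F U R θ)
    (he : ∀ x ∈ R, θ x = θ₂ x) : NM F U R θ₂ := by
  obtain ⟨θ', h1, h2, h3⟩ := h
  exact ⟨θ', h1, fun x hx => (h2 x hx).trans (he x hx), h3⟩

theorem NM.of_le {F : FusionSystem S} {U R : Subgroup Ω} {θ : Ω → Ω} (hUR : U ≤ R) (h : IsFM F R θ)
    (hU : ∀ u ∈ U, θ u ∈ U) : NM F U R θ :=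
  ⟨θ, h.of_eq (sup_eq_left.mpr hUR), fun _ _ => rfl, hU⟩

theorem nm_conj (F : FusionSystem S) {U R : Subgroup Ω} (hU : U ≤ S)
    (hUn : ∀ s ∈ S, ∀ u ∈ U, s * u * s⁻¹ ∈ U) (hR : R ≤ S) {s : Ω} (hs : s ∈ S) :
    NM F U R (fun x => s * x * s⁻¹) :=
  ⟨fun x => s * x * s⁻¹, isFM_conj F (sup_le hR hU) hs, fun _ _ => rfl, hUn s hs⟩

theorem NM.comp {F : FusionSystem S} {U R R' : Subgroup Ω} {θ θ' : Ω → Ω} (h : NM F U R θ)
    (h' : NM F U R' θ') (hRR' : ∀ x ∈ R, θ x ∈ R') : NM F U R (fun x => θ' (θ x)) := by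
  obtain ⟨θ₁, h1, h2, h3⟩ := h
  obtain ⟨θ₁', h1', h2', h3'⟩ := h'
  have hmap : ∀ x ∈ R ⊔ U, θ₁ x ∈ R' ⊔ U :=
    h1.map_sup_mem le_sup_left le_sup_right
      (fun x hx => (le_sup_left : R' ≤ R' ⊔ U) (by rw [h2 x hx]; exact hRR' x hx))
      (fun u hu => (le_sup_right : U ≤ R' ⊔ U) (h3 u hu))
  refine ⟨fun x => θ₁' (θ₁ x), h1.comp h1' hmap, fun x hx => ?_, fun u hu => h3' _ (h3 u hu)⟩
  show θ₁' (θ₁ x) = θ' (θ x)
  rw [h2 x hx, h2' _ (hRR' x hx)]

theorem NM.inverse {F : FusionSystem S} {U R R' : Subgroup Ω} [Finite U] {θ θinv : Ω → Ω} (h : NM F U R θ)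
    (hi : IsImage R θ R') (hinv : ∀ x ∈ R, θinv (θ x) = x) : NM F U R' θinv := by
  obtain ⟨θ₁, h1, h2, h3⟩ := h
  have hiR : IsImage R θ₁ R' := hi.congr (fun x hx => (h2 x hx).symm)
  have hiU : IsImage U θ₁ U := h1.isImage_self_of_forall_mem le_sup_right h3
  have hisup : IsImage (R ⊔ U) θ₁ (R' ⊔ U) := h1.isImage_sup le_sup_left le_sup_right hiR hiU
  obtain ⟨θ₂, hθ₂, -, hl, hr⟩ := h1.exists_inverse hisup
  refine ⟨θ₂, hθ₂, fun y hy => ?_, fun u hu => ?_⟩
  · obtain ⟨x, hx, rfl⟩ := (hi y).mp hy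
    rw [hinv x hx, ← h2 x hx, hl x (le_sup_left (a := R) (b := U) hx)]
  · obtain ⟨u', hu', rfl⟩ := (hiU u).mp hu
    rw [hl u' (le_sup_right (a := R) (b := U) hu')]
    exact hu'

/-- The maps normalizing `U`, as a closed predicate. -/
def nmPred (F : FusionSystem S) (U : Subgroup Ω) (hU : U ≤ S) (hUn : ∀ s ∈ S, ∀ u ∈ U, s * u * s⁻¹ ∈ U)
    [Finite U] : HomPred F where
  C P φ := NM F U P (ofHom φ)
  conj := by
    intro P g hP hg
    refine (nm_conj F hU hUn hP hg).congr (fun x hx => ?_)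
    rw [ofHom_apply' _ hx]
    rfl
  comp := by
    intro P Q φ ψ hφ hψ hCφ hCψ h
    have hval : ∀ x ∈ P, ofHom φ x ∈ Q := fun x hx => by
      rw [ofHom_apply' _ hx]; exact h ⟨x, hx⟩
    refine (hCφ.comp hCψ hval).congr (fun x hx => ?_)
    rw [ofHom_apply' _ hx, ofHom_apply' _ hx, ofHom_apply' ψ (h ⟨x, hx⟩)]
    rfl
  inv := by
    intro P φ hφ hCφ ψ hψ hψx
    have hi : IsImage P (ofHom φ) φ.range := by
      intro y
      constructor
      · rintro ⟨x, rfl⟩
        exact ⟨x, x.2, ofHom_apply φ x⟩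
      · rintro ⟨x, hx, rfl⟩
        exact ⟨⟨x, hx⟩, (ofHom_apply' φ hx).symm⟩
    apply hCφ.inverse hi
    intro x hx
    have hm : ofHom φ x ∈ φ.range := hi.mem hx
    rw [ofHom_apply' ψ hm]
    have e : (⟨ofHom φ x, hm⟩ : ↥φ.range) = ⟨φ ⟨x, hx⟩, ⟨⟨x, hx⟩, rfl⟩⟩ :=
      Subtype.ext (ofHom_apply' φ hx)
    rw [e, hψx]

theorem nmPred_C (F : FusionSystem S) (U : Subgroup Ω) (hU : U ≤ S)
    (hUn : ∀ s ∈ S, ∀ u ∈ U, s * u * s⁻¹ ∈ U) [Finite U] (P : Subgroup Ω) (φ : P →* Ω) :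
    (nmPred F U hU hUn).C P φ ↔ NM F U P (ofHom φ) := Iff.rfl

/-- A closed predicate restricted to subgroups of order larger than `n`. -/
def boundPred [Finite S] {F : FusionSystem S} (C : HomPred F) (n : ℕ) : HomPred F where
  C P φ := n < Nat.card P → C.C P φ
  conj := fun hP hg _ => C.conj hP hg
  comp := by
    intro P Q φ ψ hφ hψ hCφ hCψ h hn
    haveI : Finite ↥Q := finite_of_le (hom_le F hψ)
    have hinj : Function.Injective (φ.codRestrict Q h) := by
      intro a b hab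
      apply F.injective_of_mem hφ
      exact congrArg Subtype.val hab
    have hcard : Nat.card P ≤ Nat.card Q := Nat.card_le_card_of_injective _ hinj
    exact C.comp hφ hψ (hCφ hn) (hCψ (lt_of_lt_of_le hn hcard)) h
  inv := by
    intro P φ hφ hCφ ψ hψ hψx hn
    have hcard : Nat.card φ.range = Nat.card P :=
      (Nat.card_congr (MonoidHom.ofInjective (F.injective_of_mem hφ)).toEquiv).symm
    exact C.inv hφ (hCφ (hcard ▸ hn)) ψ hψ hψx

/-- **Alperin's theorem with an induction hypothesis**: to prove a closed predicate for all maps it suffices to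
prove it for the automorphisms of `S` and for the automorphisms of every essential subgroup `P`, assuming it for
all maps defined on subgroups of larger order. -/
theorem forall_of_step [Finite S] {p : ℕ} [Fact p.Prime] (hS : IsPGroup p S) {F : FusionSystem S}
    (hF : F.IsSaturated p) (C : HomPred F)
    (hSaut : ∀ α ∈ F.autGroup S, C.C S (S.subtype.comp (α : S ≃* S).toMonoidHom))
    (hstep : ∀ P : Subgroup Ω, F.IsEssential p P → P ≠ S →
      (∀ (R : Subgroup Ω) (φ : R →* Ω), φ ∈ F.Hom R → Nat.card P < Nat.card R → C.C R φ) →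
      ∀ α ∈ F.autGroup P, C.C P (P.subtype.comp (α : P ≃* P).toMonoidHom)) :
    ∀ (P : Subgroup Ω) (φ : P →* Ω), φ ∈ F.Hom P → C.C P φ := by
  have main : ∀ d n : ℕ, n + d = Nat.card S →
      ∀ (P : Subgroup Ω) (φ : P →* Ω), φ ∈ F.Hom P → n < Nat.card P → C.C P φ := by
    intro d
    induction d with
    | zero =>
      intro n hn P φ hφ hlt
      exfalso
      have := Subgroup.card_le_of_le (hom_le F hφ)
      omega
    | succ d ih =>
      intro n hn P φ hφ hlt
      have IH := ih (n + 1) (by omega)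
      have key := HomPred.forall_of_aut hS hF (boundPred C n) (by
        intro R hR α hα hnR
        by_cases hRS : R = S
        · subst hRS
          exact hSaut α hα
        · rcases hR with hR | hR
          · exact absurd hR hRS
          · exact hstep R hR hRS (fun R' φ' hφ' hlt' => IH R' φ' hφ' (by omega)) α hα) P φ hφ
      exact key hlt
  intro P φ hφ
  haveI : Finite ↥P := finite_of_le (hom_le F hφ)
  have hpos : 0 < Nat.card P := Nat.card_pos
  have hle : Nat.card P ≤ Nat.card S := Subgroup.card_le_of_le (hom_le F hφ)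
  exact main (Nat.card S) 0 (by omega) P φ hφ hpos

end Cfsg.Agent.Lib.Helper27.KL
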