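import Cfsg.Agent.Lib.Helper27.KL9

/-!
helper27: the generation step of the ZJ-theorem: for `Q` normal in `F`, a subgroup normal in both `S C_F(Q)` and
`N_F(Q C_S(Q))` is normal in `F`.
-/

set_option autoImplicit false
set_option linter.unusedSectionVars false
set_option linter.unusedVariables false

namespace Cfsg.Agent.Lib.Helper27.KL

open Cfsg Cfsg.FusionSystem Cfsg.Agent.Lib.Helper26 Cfsg.Agent.Lib.Helper27.FM
  Cfsg.Agent.Lib.Helper27.ModelRad

universe u

variable {Ω : Type u} [Group Ω] {S : Subgroup Ω}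

theorem NM.of_isNormal {F : FusionSystem S} {V P : Subgroup Ω} {θ : Ω → Ω} (hV : F.IsNormal V)
    (h : IsFM F P θ) : NM F V P θ := h.exists_ext_of_isNormal hV

theorem card_lt_of_not_le [Finite S] {P X : Subgroup Ω} (hPX : P ≤ X) (hXS : X ≤ S) (hne : ¬ X ≤ P) :
    Nat.card P < Nat.card X := by
  haveI : Finite ↥X := finite_of_le hXS
  by_contra hcon
  push Not at hcon
  have := Subgroup.eq_of_le_of_card_ge hPX hcon
  exact hne this.ge

theorem conj_mem_centralizerIn {Q : Subgroup Ω} (hQn : ∀ s ∈ S, ∀ q ∈ Q, s * q * s⁻¹ ∈ Q) {s c : Ω}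
    (hs : s ∈ S) (hc : c ∈ centralizerIn S Q) : s * c * s⁻¹ ∈ centralizerIn S Q := by
  obtain ⟨hcS, hcc⟩ := mem_centralizerIn_iff.mp hc
  rw [mem_centralizerIn_iff]
  refine ⟨S.mul_mem (S.mul_mem hs hcS) (S.inv_mem hs), fun x hx => ?_⟩
  have hx' : s⁻¹ * x * s⁻¹⁻¹ ∈ Q := hQn s⁻¹ (S.inv_mem hs) x hx
  have h1 := hcc _ hx'
  have e1 : x * (s * c * s⁻¹) = s * ((s⁻¹ * x * s⁻¹⁻¹) * c) * s⁻¹ := by group
  have e2 : s * c * s⁻¹ * x = s * (c * (s⁻¹ * x * s⁻¹⁻¹)) * s⁻¹ := by group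
  rw [e1, e2, h1]

theorem conj_mem_sup_of_forall {A B : Subgroup Ω} {s : Ω} (hA : ∀ a ∈ A, s * a * s⁻¹ ∈ A)
    (hB : ∀ b ∈ B, s * b * s⁻¹ ∈ B) : ∀ r ∈ A ⊔ B, s * r * s⁻¹ ∈ A ⊔ B := by
  intro r hr
  have h1 : A ⊔ B ≤ (A ⊔ B).comap (MulAut.conj s).toMonoidHom := by
    apply sup_le
    · intro a ha
      exact (le_sup_left : A ≤ A ⊔ B) (hA a ha)
    · intro b hb
      exact (le_sup_right : B ≤ A ⊔ B) (hB b hb)
  exact h1 hr

/-- The generation step. -/
theorem isNormal_of_gen [Finite S] {p : ℕ} [Fact p.Prime] (hS : IsPGroup p S) (F : FusionSystem S)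
    (hF : F.IsSaturated p) {Q : Subgroup Ω} (hQ : F.IsNormal Q) [Finite Q]
    (hQn : ∀ s ∈ S, ∀ q ∈ Q, s * q * s⁻¹ ∈ Q) {V : Subgroup Ω} (hVS : V ≤ S)
    (hVn : ∀ s ∈ S, ∀ u ∈ V, s * u * s⁻¹ ∈ V)
    (hD : (scSystem F Q hQ.1 hQn).IsNormal V)
    (hRS : Q ⊔ centralizerIn S Q ≤ S)
    (hR : (normalizerSystem F (Q ⊔ centralizerIn S Q) hRS).IsNormal V) : F.IsNormal V := by
  have hQS : Q ≤ S := hQ.1
  have hCS : centralizerIn S Q ≤ S := centralizerIn_le S Q
  have hsc := stronglyClosed_of_isNormal F hQ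
  haveI : Finite ↥V := finite_of_le hVS
  have hE₀ := normalizerSystem_isNormalizerSystem F (Q ⊔ centralizerIn S Q) hRS
  have hRn : ∀ s ∈ S, ∀ r ∈ Q ⊔ centralizerIn S Q, s * r * s⁻¹ ∈ Q ⊔ centralizerIn S Q := fun s hs =>
    conj_mem_sup_of_forall (hQn s hs) (fun c hc => conj_mem_centralizerIn hQn hs hc)
  haveI : Finite ↥(Q ⊔ centralizerIn S Q) := finite_of_le hRS
  have hSN : S ≤ normalizerIn S (Q ⊔ centralizerIn S Q) := fun s hs =>
    ⟨hs, mem_normalizer_of_conj_mem_finite (hRn s hs)⟩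
  have hQfn : F.IsFullyNormalized Q := isFullyNormalized_of_isNormal F hQ
  have hRec := saturated_fn_receptive hS F hF hQfn
  -- the key step
  have step : ∀ (P : Subgroup Ω), P ≤ S → Q ≤ P → ∀ a : Ω → Ω, IsFM F P a → IsImage P a P →
      (∀ (R : Subgroup Ω) (θ : Ω → Ω), IsFM F R θ → Nat.card P < Nat.card R → NM F V R θ) → NM F V P a := by
    intro P hPS hQP a ha hi IH
    have haQ : ∀ q ∈ Q, a q ∈ Q := fun q hq => ha.mem_of_stronglyClosed hsc (hQP hq) hq
    have hiQ : IsImage Q a Q := ha.isImage_self_of_forall_mem hQP haQ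
    by_cases hC : centralizerIn S Q ≤ P
    · -- `a` is a map of `N_F(Q C_S(Q))`
      have hRP : Q ⊔ centralizerIn S Q ≤ P := sup_le hQP hC
      have haC : ∀ c ∈ centralizerIn S Q, a c ∈ centralizerIn S Q := by
        intro c hc
        obtain ⟨hcS, hcc⟩ := mem_centralizerIn_iff.mp hc
        rw [mem_centralizerIn_iff]
        refine ⟨ha.mem (hC hc), fun x hx => ?_⟩
        obtain ⟨x', hx', rfl⟩ := (hiQ x).mp hx
        rw [← ha.map_mul (hQP hx') (hC hc), ← ha.map_mul (hC hc) (hQP hx'), hcc x' hx']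
      have haR : ∀ r ∈ Q ⊔ centralizerIn S Q, a r ∈ Q ⊔ centralizerIn S Q :=
        ha.map_sup_mem hQP hC (fun x hx => (le_sup_left : Q ≤ _) (haQ x hx))
          (fun x hx => (le_sup_right : centralizerIn S Q ≤ _) (haC x hx))
      have haE : IsFM (normalizerSystem F (Q ⊔ centralizerIn S Q) hRS) P a := by
        rw [isFM_normalizer_iff F hRS _ hE₀]
        exact ⟨hPS.trans hSN, fun x hx => hSN (ha.mem hx), a, ha.of_eq (sup_eq_left.mpr hRP),
          fun _ _ => rfl, haR⟩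
      obtain ⟨θ', hθ', hext, hV'⟩ := NM.of_isNormal hR haE
      exact ⟨θ', hθ'.of_normalizer hE₀, hext, hV'⟩
    · -- extend `a|_Q` to `P C_S(Q)`
      obtain ⟨φ, hφ, hφa⟩ := ha.mono hQP
      have hφr : φ.range = Q := by
        ext y
        rw [hiQ y]
        constructor
        · rintro ⟨x, rfl⟩
          exact ⟨x, x.2, (hφa x).symm⟩
        · rintro ⟨x, hx, rfl⟩
          exact ⟨⟨x, hx⟩, hφa ⟨x, hx⟩⟩
      have hPext : P ≤ extender S Q φ := by
        intro g hg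
        rw [mem_extender_iff]
        refine ⟨hPS hg, mem_normalizer_of_conj_mem_finite (hQn g (hPS hg)), a g, ha.mem hg, fun x hx => ?_⟩
        rw [hφa, hφa]
        show a (g * (x : Ω) * g⁻¹) = a g * a x * (a g)⁻¹
        rw [ha.map_mul (P.mul_mem hg (hQP x.2)) (P.inv_mem hg), ha.map_mul hg (hQP x.2), ha.map_inv hg]
      have hCext : centralizerIn S Q ≤ extender S Q φ := centralizerIn_le_extender Q φ
      obtain ⟨γ', hγ', hγ'φ⟩ := exists_ext_of_receptive hRec φ hφ hφr (sup_le hPext hCext)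
      have hXS : P ⊔ centralizerIn S Q ≤ S := sup_le hPS hCS
      have hPX : P ≤ P ⊔ centralizerIn S Q := le_sup_left
      have hXeq : (P ⊔ centralizerIn S Q) ⊔ Q = P ⊔ centralizerIn S Q :=
        sup_eq_left.mpr (hQP.trans hPX)
      have hγX : IsFM F (P ⊔ centralizerIn S Q) γ' := hγ'.of_eq hXeq.symm
      have hlt : Nat.card P < Nat.card ↥(P ⊔ centralizerIn S Q) :=
        card_lt_of_not_le hPX hXS (fun h => hC (le_sup_right.trans h))
      have hγNM : NM F V P γ' := (IH _ γ' hγX hlt).mono hPX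
      have hγQ : ∀ q ∈ Q, γ' q = a q := fun q hq => by rw [hγ'φ ⟨q, hq⟩, hφa ⟨q, hq⟩]
      have hγP : IsFM F P γ' := hγX.mono hPX
      obtain ⟨P₁, hP₁⟩ := hγP.exists_image
      obtain ⟨θinv, hθinv, hθinvi, hl, hr⟩ := hγP.exists_inverse hP₁
      have hQP₁ : Q ≤ P₁ := by
        intro q hq
        obtain ⟨q', hq', rfl⟩ := (hiQ q).mp hq
        rw [← hγQ q' hq']
        exact hP₁.mem (hQP hq')
      have hχ : IsFM F P₁ (fun y => a (θinv y)) := hθinv.comp ha (fun y hy => hθinvi.mem hy)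
      have hχfix : ∀ q ∈ Q, a (θinv q) = q := by
        intro q hq
        obtain ⟨q', hq', rfl⟩ := (hiQ q).mp hq
        rw [← hγQ q' hq', hl q' (hQP hq'), hγQ q' hq']
      have hχD : IsFM (scSystem F Q hQS hQn) P₁ (fun y => a (θinv y)) :=
        (isFM_scSystem_iff F Q hQS hQn).mpr (SC.of_fix hQP₁ hχ hχfix)
      obtain ⟨θ', hθ', hext, hV'⟩ := NM.of_isNormal hD hχD
      have hχNM : NM F V P₁ (fun y => a (θinv y)) :=
        ⟨θ', ((isFM_scSystem_iff F Q hQS hQn).mp hθ').isFM, hext, hV'⟩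
      exact (hγNM.comp hχNM (fun x hx => hP₁.mem hx)).congr (fun x hx => by
        show a (θinv (γ' x)) = a x
        rw [hl x hx])
  apply NM.of_forall F hVS hVn
  apply forall_of_step hS hF
  · intro α hα
    have hFM : IsFM F S (ofHom (S.subtype.comp (α : S ≃* S).toMonoidHom)) :=
      isFM_ofHom ((mem_autGroup_iff F le_rfl α).mp hα)
    exact step S le_rfl hQS _ hFM (isImage_aut α) (fun R θ hθ hlt => by
      exfalso
      have := Subgroup.card_le_of_le (hθ.le)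
      omega)
  · intro P hess hne IH α hα
    have hPS : P ≤ S := hess.1.1
    have hQP : Q ≤ P := le_of_isNormal_of_centric_radical hS F hQ hess.1 (radical_of_essential hS F P hess)
    have hFM : IsFM F P (ofHom (P.subtype.comp (α : P ≃* P).toMonoidHom)) :=
      isFM_ofHom ((mem_autGroup_iff F hPS α).mp hα)
    refine step P hPS hQP _ hFM (isImage_aut α) (fun R θ hθ hlt => ?_)
    obtain ⟨φ, hφ, h1⟩ := hθ
    exact (IH R φ hφ hlt).congr (fun x hx => by rw [ofHom_apply' φ hx]; exact h1 ⟨x, hx⟩)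

end Cfsg.Agent.Lib.Helper27.KL
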