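import Cfsg.Agent.Lib.Helper27.KL10

/-!
helper27: automorphisms of a `p`-group acting trivially modulo a subgroup on which they act as elements of a
`p`-group do: they have `p`-power order.
-/

set_option autoImplicit false
set_option linter.unusedSectionVars false
set_option linter.unusedVariables false

namespace Cfsg.Agent.Lib.Helper27.KL

universe u

variable {Ω : Type u} [Group Ω]

/-- An automorphism of order prime to `p` of a `p`-group `P`, fixing `Q ≤ P` pointwise and acting trivially on the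
cosets of `Q`, is trivial. -/
theorem aut_eq_one_of_stab {p : ℕ} [Fact p.Prime] {P Q : Subgroup Ω} (hP : IsPGroup p P) (ε : MulAut P) {m : ℕ}
    (hm : ε ^ m = 1) (hcop : Nat.Coprime m p) (hfix : ∀ x : P, (x : Ω) ∈ Q → ε x = x)
    (hmod : ∀ x : P, ((x : Ω))⁻¹ * (ε x : Ω) ∈ Q) : ε = 1 := by
  ext x
  show ((ε x : P) : Ω) = x
  set z : P := x⁻¹ * ε x with hz
  have hzQ : (z : Ω) ∈ Q := hmod x
  have hεz : ε z = z := hfix z hzQ
  have hpow : ∀ j : ℕ, (ε ^ j) x = x * z ^ j := by
    intro j
    induction j with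
    | zero => simp
    | succ j ih =>
      rw [pow_succ', MulAut.mul_apply, ih, map_mul, map_pow, hεz, pow_succ']
      have : ε x = x * z := by rw [hz]; group
      rw [this, mul_assoc]
  have h1 := hpow m
  rw [hm, MulAut.one_apply] at h1
  have hzm : z ^ m = 1 := by
    have : x * 1 = x * z ^ m := by rw [mul_one]; exact h1
    exact (mul_left_cancel this).symm
  obtain ⟨k, hk⟩ := hP z
  have hd1 : orderOf z ∣ m := orderOf_dvd_of_pow_eq_one hzm
  have hd2 : orderOf z ∣ p ^ k := orderOf_dvd_of_pow_eq_one hk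
  have hd3 : orderOf z ∣ Nat.gcd m (p ^ k) := Nat.dvd_gcd hd1 hd2
  have hg : Nat.gcd m (p ^ k) = 1 := Nat.Coprime.pow_right k hcop
  rw [hg, Nat.dvd_one, orderOf_eq_one_iff] at hd3
  have : ε x = x * z := by rw [hz]; group
  rw [this, hd3, mul_one]

/-- An automorphism of order prime to `p` acting on `Q` as conjugation by an element of `p`-power order fixes `Q`
pointwise. -/
theorem aut_fix_of_conj {p : ℕ} [Fact p.Prime] {P Q : Subgroup Ω} (hQP : Q ≤ P) (ε : MulAut P) {m : ℕ}
    (hm : ε ^ m = 1) (hcop : Nat.Coprime m p) {s : Ω} {e : ℕ} (hs : s ^ p ^ e = 1)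
    (hsQ : ∀ q ∈ Q, s * q * s⁻¹ ∈ Q)
    (hact : ∀ x : P, (x : Ω) ∈ Q → ((ε x : P) : Ω) = s * x * s⁻¹) :
    ∀ x : P, (x : Ω) ∈ Q → ε x = x := by
  have hpowQ : ∀ j : ℕ, ∀ q ∈ Q, s ^ j * q * (s ^ j)⁻¹ ∈ Q := by
    intro j
    induction j with
    | zero => intro q hq; simpa using hq
    | succ j ih =>
      intro q hq
      have := hsQ _ (ih q hq)
      have e1 : s ^ (j + 1) * q * (s ^ (j + 1))⁻¹ = s * (s ^ j * q * (s ^ j)⁻¹) * s⁻¹ := by
        rw [pow_succ']; group
      rw [e1]
      exact this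
  have hpow : ∀ j : ℕ, ∀ x : P, (x : Ω) ∈ Q → (((ε ^ j) x : P) : Ω) = s ^ j * x * (s ^ j)⁻¹ := by
    intro j
    induction j with
    | zero => intro x hx; simp
    | succ j ih =>
      intro x hx
      rw [pow_succ', MulAut.mul_apply]
      have h1 := ih x hx
      have h2 : (((ε ^ j) x : P) : Ω) ∈ Q := by rw [h1]; exact hpowQ j x hx
      rw [hact _ h2, h1, pow_succ']
      group
  -- `ε ^ (p ^ e)` fixes `Q` pointwise
  have hn : ∀ x : P, (x : Ω) ∈ Q → (ε ^ (p ^ e)) x = x := by
    intro x hx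
    apply Subtype.ext
    rw [hpow (p ^ e) x hx, hs]
    simp
  have hnk : ∀ k : ℕ, ∀ x : P, (x : Ω) ∈ Q → ((ε ^ (p ^ e)) ^ k) x = x := by
    intro k
    induction k with
    | zero => intro x hx; simp
    | succ k ih =>
      intro x hx
      rw [pow_succ', MulAut.mul_apply, ih x hx, hn x hx]
  intro x hx
  by_cases hm1 : m = 1
  · rw [hm1, pow_one] at hm
    rw [hm, MulAut.one_apply]
  · by_cases hm0 : m = 0
    · exfalso
      rw [hm0] at hcop
      have := (Nat.coprime_zero_left p).mp hcop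
      exact (Fact.out : p.Prime).one_lt.ne' this
    · have hm2 : 1 < m := by omega
      have hcop' : Nat.Coprime (p ^ e) m := (Nat.Coprime.pow_right e hcop).symm
      obtain ⟨k, -, hk⟩ := Nat.exists_mul_mod_eq_one_of_coprime hcop' hm2
      have h1 : ε ^ (p ^ e * k) = ε := by
        have := pow_mod_orderOf ε (p ^ e * k)
        have hdiv : orderOf ε ∣ m := orderOf_dvd_of_pow_eq_one hm
        have h2 : ε ^ (p ^ e * k) = ε ^ (p ^ e * k % m) := by
          conv_lhs => rw [← Nat.div_add_mod (p ^ e * k) m, pow_add, pow_mul, hm, one_pow, one_mul]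
        rw [h2, hk, pow_one]
      have h3 := hnk k x hx
      rw [← pow_mul, h1] at h3
      exact h3

end Cfsg.Agent.Lib.Helper27.KL
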