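import Cfsg.Agent.Lib.Helper27.KL11
import Cfsg.Agent.Lib.Helper26.FSSurjImage
import Cfsg.Agent.Lib.Helper16.PCore

/-!
helper27: surjective morphisms of fusion systems in terms of partial maps, and the automorphisms acting trivially
modulo a normal subgroup `Q` in a system all of whose maps act on `Q` as elements of `S` do.
-/

set_option autoImplicit false
set_option linter.unusedSectionVars false
set_option linter.unusedVariables false

namespace Cfsg.Agent.Lib.Helper27.KL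

open Cfsg Cfsg.FusionSystem Cfsg.Agent.Lib.Helper26 Cfsg.Agent.Lib.Helper27.FM

universe u v

variable {Ω : Type u} [Group Ω] {S : Subgroup Ω} {Ω' : Type v} [Group Ω'] {S' : Subgroup Ω'}

theorem mem_preimageAlong_iff_ext1 (θ : S →* Ω') (P' : Subgroup Ω') (y : Ω) :
    y ∈ preimageAlong θ P' ↔ y ∈ S ∧ ext1 θ y ∈ P' := by
  rw [mem_preimageAlong_iff]
  constructor
  · rintro ⟨hy, h⟩
    exact ⟨hy, by rw [ext1_apply θ hy]; exact h⟩
  · rintro ⟨hy, h⟩
    exact ⟨hy, by rw [ext1_apply θ hy] at h; exact h⟩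

/-- Maps of `F` on a full preimage induce maps of the image system. -/
theorem IsFM.exists_induced {F : FusionSystem S} {F' : FusionSystem S'} {θ : S →* Ω'}
    (hθ : F.IsSurjectiveMorphism F' θ) {P' : Subgroup Ω'} (hP' : P' ≤ S') {a : Ω → Ω}
    (ha : IsFM F (preimageAlong θ P') a) :
    ∃ a' : Ω' → Ω', IsFM F' P' a' ∧ ∀ x ∈ preimageAlong θ P', a' (ext1 θ x) = ext1 θ (a x) := by
  obtain ⟨φ, hφ, h1⟩ := ha
  obtain ⟨φ', hφ', hind⟩ := exists_induced_hom F F' θ hθ hP' hφ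
  refine ⟨ofHom φ', isFM_ofHom hφ', fun x hx => ?_⟩
  have hxS : x ∈ S := preimageAlong_le θ P' hx
  have h2 := hind ⟨x, hx⟩
  have h3 : ext1 θ x = ((projHom θ P' ⟨x, hx⟩ : P') : Ω') := by
    rw [ext1_apply θ hxS, projHom_coe]
  rw [h3, ofHom_apply, h2, ← h1 ⟨x, hx⟩, ext1_apply θ (hom_apply_mem F hφ ⟨x, hx⟩)]

/-- Maps of the image system lift to maps of `F` on the full preimage. -/
theorem IsFM.exists_lift {F : FusionSystem S} {F' : FusionSystem S'} {θ : S →* Ω'}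
    (hθ : F.IsSurjectiveMorphism F' θ) {P' : Subgroup Ω'} (hP' : P' ≤ S') {a' : Ω' → Ω'}
    (ha' : IsFM F' P' a') :
    ∃ a : Ω → Ω, IsFM F (preimageAlong θ P') a ∧ ∀ x ∈ preimageAlong θ P', a' (ext1 θ x) = ext1 θ (a x) := by
  obtain ⟨φ', hφ', h1⟩ := ha'
  obtain ⟨φ, hφ, hind⟩ := exists_lift_hom F F' θ hθ hP' hφ'
  refine ⟨ofHom φ, isFM_ofHom hφ, fun x hx => ?_⟩
  have hxS : x ∈ S := preimageAlong_le θ P' hx
  have h2 := hind ⟨x, hx⟩
  have h3 : ext1 θ x = ((projHom θ P' ⟨x, hx⟩ : P') : Ω') := by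
    rw [ext1_apply θ hxS, projHom_coe]
  rw [h3, ← h1, h2, ofHom_apply' φ hx, ext1_apply θ (hom_apply_mem F hφ ⟨x, hx⟩)]

/-- The automorphisms in the system of `P` acting trivially on the cosets of `Q`. -/
def trivMod (F : FusionSystem S) (P Q : Subgroup Ω) : Subgroup (F.autGroup P) where
  carrier := {δ | ∀ x : P, ((x : Ω))⁻¹ * (((δ : MulAut P) x : P) : Ω) ∈ Q}
  one_mem' := fun x => by simp
  mul_mem' := by
    intro a b ha hb x
    have h1 := hb x
    have h2 := ha ((b : MulAut P) x)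
    have e : ((x : Ω))⁻¹ * ((((a * b : F.autGroup P) : MulAut P) x : P) : Ω) =
        ((x : Ω))⁻¹ * (((b : MulAut P) x : P) : Ω) *
          ((((b : MulAut P) x : P) : Ω)⁻¹ * (((a : MulAut P) ((b : MulAut P) x) : P) : Ω)) := by
      rw [Subgroup.coe_mul, MulAut.mul_apply]
      group
    rw [e]
    exact Q.mul_mem h1 h2
  inv_mem' := by
    intro a ha x
    have h1 := ha ((a : MulAut P)⁻¹ x)
    rw [MulAut.apply_inv_self] at h1
    have e : ((x : Ω))⁻¹ * ((((a⁻¹ : F.autGroup P) : MulAut P) x : P) : Ω) =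
        (((((a : MulAut P)⁻¹ x : P) : Ω))⁻¹ * (x : Ω))⁻¹ := by
      rw [Subgroup.coe_inv]
      group
    rw [e]
    exact Q.inv_mem h1

theorem mem_trivMod (F : FusionSystem S) (P Q : Subgroup Ω) (δ : F.autGroup P) :
    δ ∈ trivMod F P Q ↔ ∀ x : P, ((x : Ω))⁻¹ * (((δ : MulAut P) x : P) : Ω) ∈ Q := Iff.rfl

theorem aut_isFM (F : FusionSystem S) {P : Subgroup Ω} (hPS : P ≤ S) {α : MulAut P} (hα : α ∈ F.autGroup P) :
    IsFM F P (ofHom (P.subtype.comp (α : P ≃* P).toMonoidHom)) :=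
  isFM_ofHom ((mem_autGroup_iff F hPS α).mp hα)

theorem aut_ofHom_apply {P : Subgroup Ω} (α : MulAut P) (x : P) :
    ofHom (P.subtype.comp (α : P ≃* P).toMonoidHom) (x : Ω) = ((α x : P) : Ω) := by
  rw [ofHom_apply]
  rfl

theorem trivMod_normal (F : FusionSystem S) {P Q : Subgroup Ω} (hPS : P ≤ S) (hQP : Q ≤ P)
    (hsc : F.StronglyClosed Q) : (trivMod F P Q).Normal := by
  constructor
  intro δ hδ γ x
  set y : P := (γ : MulAut P)⁻¹ x with hy
  have h1 := hδ y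
  set w : P := y⁻¹ * (δ : MulAut P) y with hw
  have hwQ : (w : Ω) ∈ Q := h1
  have hγw : (((γ : MulAut P) w : P) : Ω) ∈ Q := by
    have := (aut_isFM F hPS γ.2).mem_of_stronglyClosed hsc w.2 hwQ
    rw [aut_ofHom_apply] at this
    exact this
  have e : ((x : Ω))⁻¹ * ((((γ * δ * γ⁻¹ : F.autGroup P) : MulAut P) x : P) : Ω) =
      (((γ : MulAut P) w : P) : Ω) := by
    rw [hw, map_mul, map_inv, hy, MulAut.apply_inv_self]
    rfl
  rw [e]
  exact hγw

theorem trivMod_isPGroup [Finite S] {p : ℕ} [Fact p.Prime] (hS : IsPGroup p S) (F : FusionSystem S)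
    {P Q : Subgroup Ω} (hPS : P ≤ S) (hQP : Q ≤ P) (hsc : F.StronglyClosed Q)
    (hall : ∀ (R : Subgroup Ω) (θ : Ω → Ω), IsFM F R θ → SC F Q R θ) : IsPGroup p (trivMod F P Q) := by
  haveI : Finite ↥P := finite_of_le hPS
  intro δ
  set δ₀ : MulAut P := ((δ : F.autGroup P) : MulAut P) with hδ₀
  have ho : orderOf δ₀ ≠ 0 := (orderOf_pos δ₀).ne'
  obtain ⟨k, m, hpm, hom⟩ := Nat.exists_eq_pow_mul_and_not_dvd ho p (Fact.out : p.Prime).ne_one
  refine ⟨k, ?_⟩
  have hcop : Nat.Coprime m p := ((Nat.Prime.coprime_iff_not_dvd (Fact.out : p.Prime)).mpr hpm).symm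
  set ε : MulAut P := δ₀ ^ p ^ k with hε
  have hεm : ε ^ m = 1 := by
    rw [hε, ← pow_mul, ← hom, pow_orderOf_eq_one]
  have hεA : ε ∈ F.autGroup P := Subgroup.pow_mem _ (δ : F.autGroup P).2 _
  have hεK : ∀ x : P, ((x : Ω))⁻¹ * ((ε x : P) : Ω) ∈ Q := by
    have h1 : (δ ^ p ^ k : trivMod F P Q).1 ∈ trivMod F P Q := (δ ^ p ^ k).2
    have h2 : (((δ ^ p ^ k : trivMod F P Q) : F.autGroup P) : MulAut P) = ε := by
      rw [hε, hδ₀]
      simp
    intro x
    have := h1 x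
    rw [h2] at this
    exact this
  -- `ε` acts on `Q` as an element of `S`
  obtain ⟨θ', hθ', hext, s, hs, hact⟩ := hall P _ (aut_isFM F hPS hεA)
  have hact' : ∀ x : P, (x : Ω) ∈ Q → ((ε x : P) : Ω) = s * x * s⁻¹ := by
    intro x hx
    rw [← hact x hx, hext x x.2, aut_ofHom_apply]
  have hsQ : ∀ q ∈ Q, s * q * s⁻¹ ∈ Q := by
    intro q hq
    have h1 := hact' ⟨q, hQP hq⟩ hq
    have h2 := (aut_isFM F hPS hεA).mem_of_stronglyClosed hsc (hQP hq) hq
    rw [aut_ofHom_apply ε ⟨q, hQP hq⟩, h1] at h2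
    exact h2
  obtain ⟨e, he⟩ := hS ⟨s, hs⟩
  have hse : s ^ p ^ e = 1 := by
    have := congrArg Subtype.val he
    simpa using this
  have hfix := aut_fix_of_conj hQP ε hεm hcop hse hsQ hact'
  have hε1 := aut_eq_one_of_stab (hS.to_le hPS) ε hεm hcop hfix hεK
  apply Subtype.ext
  apply Subtype.ext
  show ((((δ ^ p ^ k : trivMod F P Q) : F.autGroup P) : MulAut P)) = 1
  have h2 : (((δ ^ p ^ k : trivMod F P Q) : F.autGroup P) : MulAut P) = ε := by
    rw [hε, hδ₀]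
    simp
  rw [h2, hε1]

/-- For fully normalized `P`, the automorphisms acting trivially modulo `Q` are induced by elements of `S`. -/
theorem trivMod_le_autInducedBy [Finite S] {p : ℕ} [Fact p.Prime] (hS : IsPGroup p S) (F : FusionSystem S)
    (hF : F.IsSaturated p) {P Q : Subgroup Ω} (hPfn : F.IsFullyNormalized P) (hQP : Q ≤ P)
    (hsc : F.StronglyClosed Q)
    (hall : ∀ (R : Subgroup Ω) (θ : Ω → Ω), IsFM F R θ → SC F Q R θ) (δ : F.autGroup P)
    (hδ : δ ∈ trivMod F P Q) : (δ : MulAut P) ∈ autInducedBy S P := by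
  have hPS : P ≤ S := hPfn.1
  obtain ⟨-, T, hT⟩ := (saturated_fn hS F hF hPfn).2
  have h1 : trivMod F P Q ≤ pCore p (F.autGroup P) :=
    Cfsg.Agent.Lib.Helper16.le_pCore (trivMod_normal F hPS hQP hsc) (trivMod_isPGroup hS F hPS hQP hsc hall)
  have h2 := Cfsg.Agent.Lib.Helper16.pCore_le_sylow T (h1 hδ)
  have h3 : δ ∈ (T : Subgroup (F.autGroup P)) := h2
  rw [hT] at h3
  exact h3

end Cfsg.Agent.Lib.Helper27.KL
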