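import Cfsg.Agent.Lib.Helper27.KL15

/-!
helper27: the reduction theorem for control of weak closure of central elements by a positive characteristic
`p`-functor `W` with `Z(Q) ≤ W(Q)` (after Díaz–Glesser–Mazza–Park): if the maps normalizing `W(S)` fix `X ≤ Z(S)`
pointwise, then all maps do, provided this holds for the constrained systems.
-/

set_option autoImplicit false
set_option linter.unusedSectionVars false
set_option linter.unusedVariables false

namespace Cfsg.Agent.Lib.Helper27.KL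

open Cfsg Cfsg.FusionSystem Cfsg.Agent.Lib.Helper26 Cfsg.Agent.Lib.Helper27.FM
  Cfsg.Agent.Lib.Helper27.ModelRad

universe u

variable {Ω : Type u} [Group Ω] {p : ℕ} [Fact p.Prime] {W : ∀ (Q : Type u) [Group Q], Subgroup Q}

/-- Every map of `E` normalizing `W(T)` fixes `X` pointwise. -/
def FixW (W : ∀ (Q : Type u) [Group Q], Subgroup Q) {T : Subgroup Ω} (E : FusionSystem T)
    (X : Subgroup Ω) : Prop :=
  ∀ (R : Subgroup Ω) (θ : Ω → Ω), IsFM E R θ → WS W T ≤ R → (∀ u ∈ WS W T, θ u ∈ WS W T) →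
    ∀ q ∈ X, θ q = q

/-- Every map of `E` extends to fix `X` pointwise. -/
def CenAll {T : Subgroup Ω} (E : FusionSystem T) (X : Subgroup Ω) : Prop :=
  ∀ (R : Subgroup Ω) (θ : Ω → Ω), IsFM E R θ → CM E X R θ

theorem mem_WS_of_central (hWZ : ∀ (Q : Type u) [Group Q] [Finite Q], IsPGroup p Q → Subgroup.center Q ≤ W Q)
    {T : Subgroup Ω} [Finite T] (hT : IsPGroup p T) {x : Ω} (hxT : x ∈ T) (hxc : ∀ t ∈ T, t * x * t⁻¹ = x) :
    x ∈ WS W T := by
  rw [mem_WS]
  refine ⟨⟨x, hxT⟩, hWZ ↥T hT ?_, rfl⟩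
  rw [Subgroup.mem_center_iff]
  intro g
  apply Subtype.ext
  show (g : Ω) * x = x * g
  have := hxc g g.2
  calc (g : Ω) * x = (g : Ω) * x * (g : Ω)⁻¹ * g := by group
    _ = x * g := by rw [this]

/-- The data of the reduction: admissible base groups and the constrained case. -/
structure RTData (p : ℕ) (W : ∀ (Q : Type u) [Group Q], Subgroup Q) (X : Subgroup Ω) where
  Adm : Subgroup Ω → Prop
  le : ∀ {T : Subgroup Ω}, Adm T → X ≤ T
  central : ∀ {T : Subgroup Ω}, Adm T → ∀ t ∈ T, ∀ q ∈ X, t * q * t⁻¹ = q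
  sub : ∀ {T T' : Subgroup Ω}, Adm T → T' ≤ T → (∀ z ∈ T, (∀ t ∈ T, t * z * t⁻¹ = z) → z ∈ T') → Adm T'
  model : ∀ (T : Subgroup Ω) [Finite T], IsPGroup p T → ∀ E : FusionSystem T, E.IsSaturated p →
    E.IsCentric E.core → Adm T → FixW W E X → CenAll E X

/-- The induction hypothesis. -/
def IHrt (p : ℕ) (W : ∀ (Q : Type u) [Group Q], Subgroup Q) {X : Subgroup Ω} (D : RTData p W X)
    (n m : ℕ) : Prop :=
  ∀ (T : Subgroup Ω) [Finite T], IsPGroup p T → ∀ E : FusionSystem T, E.IsSaturated p → D.Adm T →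
    FixW W E X → (Nat.card T < n ∨ (Nat.card T = n ∧ GT.mu E < m)) → CenAll E X

variable {S : Subgroup Ω} {X : Subgroup Ω}

theorem ih_sub_rt {D : RTData p W X} {n m : ℕ} (IH : IHrt p W D n m) [Finite S] (hS : IsPGroup p S)
    (F : FusionSystem S) (hF : F.IsSaturated p) (hn : Nat.card S = n) (hm : GT.mu F = m) {T : Subgroup Ω}
    (hTS : T ≤ S) (E : FusionSystem T) (hE : E.IsSaturated p) (hAdm : D.Adm T) (hfix : FixW W E X)
    (hle : ∀ P, E.Hom P ⊆ F.Hom P) (hne : ¬ ∀ P, F.Hom P ⊆ E.Hom P) : CenAll E X := by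
  haveI : Finite ↥T := finite_of_le hTS
  have hpT : IsPGroup p T := hS.to_le hTS
  rcases (Subgroup.card_le_of_le hTS).lt_or_eq with h | h
  · exact IH T hpT E hE hAdm hfix (Or.inl (hn ▸ h))
  · have hTS' : T = S := Subgroup.eq_of_le_of_card_ge hTS h.ge
    subst hTS'
    exact IH T hpT E hE hAdm hfix (Or.inr ⟨hn, hm ▸ GT.mu_lt hS E F hF hle hne⟩)

section Climb

variable [Finite S]

/-- The climbing step for weak closure. -/
theorem cen_climb (hW : PosChar p W)
    (hWZ : ∀ (Q : Type u) [Group Q] [Finite Q], IsPGroup p Q → Subgroup.center Q ≤ W Q)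
    (hS : IsPGroup p S) (F : FusionSystem S) (hF : F.IsSaturated p) (hXS : X ≤ S)
    (hXc : ∀ s ∈ S, ∀ q ∈ X, s * q * s⁻¹ = q) (hfix : FixW W F X)
    (hsub : ∀ (U : Subgroup Ω) (hU : U ≤ S), F.IsFullyNormalized U → X ≤ U → ¬ F.IsNormal U →
      FixW W (normalizerSystem F U hU) X → CenAll (normalizerSystem F U hU) X)
    (hnorm : ∀ U : Subgroup Ω, F.IsNormal U → X ≤ U → CenAll F X)
    (n : ℕ) (IH : ∀ (R : Subgroup Ω) (θ : Ω → Ω), IsFM F R θ → n < Nat.card R → CM F X R θ) :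
    ∀ (d : ℕ) (U : Subgroup Ω), F.IsFullyNormalized U → X ≤ U →
      Nat.card S - Nat.card (normalizerIn S U) = d → n < Nat.card (normalizerIn S U) →
      ∀ (R : Subgroup Ω) (θ : Ω → Ω), U ≤ R → R ≤ normalizerIn S U → IsFM F R θ → (∀ u ∈ U, θ u ∈ U) →
        ∀ q ∈ X, θ q = q := by
  intro d
  induction d using Nat.strong_induction_on with
  | _ d ih =>
  intro U hUfn hXU hd hn R θ hUR hRT hθ hθU q hq
  have hUS : U ≤ S := hUfn.1
  by_cases hUn : F.IsNormal U
  · exact (hnorm U hUn hXU R θ hθ).apply_eq hq (hUR (hXU hq))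
  set T : Subgroup Ω := normalizerIn S U with hT
  have hTS : T ≤ S := normalizerIn_le S U
  haveI : Finite ↥T := finite_of_le hTS
  haveI : Finite ↥U := finite_of_le hUS
  have hpT : IsPGroup p T := hS.to_le hTS
  have hUT : U ≤ T := le_normalizerIn hUS
  have hNsys := normalizerSystem_isNormalizerSystem F U hUS
  -- `θ` is a map of the normalizer system
  have hiU : IsImage U θ U := hθ.isImage_self_of_forall_mem hUR hθU
  have hθT : ∀ x ∈ R, θ x ∈ T := by
    intro x hx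
    refine ⟨hθ.mem hx, ?_⟩
    apply mem_normalizer_of_conj_mem_finite
    intro u hu
    obtain ⟨u', hu', rfl⟩ := (hiU u).mp hu
    rw [← hθ.map_inv hx, ← hθ.map_mul hx (hUR hu'), ← hθ.map_mul (R.mul_mem hx (hUR hu')) (R.inv_mem hx)]
    apply hθU
    exact (Subgroup.mem_normalizer_iff.mp (hRT hx).2 u').mp hu'
  have hθN : IsFM (normalizerSystem F U hUS) R θ := by
    rw [isFM_normalizer_iff F hUS _ hNsys]
    exact ⟨hRT, hθT, θ, hθ.of_eq (sup_eq_left.mpr hUR), fun _ _ => rfl, hθU⟩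
  refine (hsub U hUS hUfn hXU hUn ?_ R θ hθN).apply_eq hq (hUR (hXU hq))
  -- the maps of `N_F(U)` normalizing `W(N_S(U))` fix `X`
  intro R₂ θ₂ hθ₂E hWR₂ hθ₂W q hq
  have hθ₂ : IsFM F R₂ θ₂ := hθ₂E.of_normalizer hNsys
  have hR₂T : R₂ ≤ T := ((isFM_normalizer_iff F hUS _ hNsys).mp hθ₂E).1
  have hθ₂T : ∀ x ∈ R₂, θ₂ x ∈ T := ((isFM_normalizer_iff F hUS _ hNsys).mp hθ₂E).2.1
  by_cases hTeq : T = S
  · have hWeq : WS W T = WS W S := WS_congr W hTeq
    rw [hWeq] at hWR₂ hθ₂W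
    exact hfix R₂ θ₂ hθ₂ hWR₂ hθ₂W q hq
  · set U₁ : Subgroup Ω := WS W T with hU₁
    have hU₁T : U₁ ≤ T := WS_le W T
    have hU₁S : U₁ ≤ S := hU₁T.trans hTS
    have hXU₁ : X ≤ U₁ := fun y hy =>
      mem_WS_of_central hWZ hpT (hUT (hXU hy)) (fun t ht => hXc t (hTS ht) y hy)
    set T₁ : Subgroup Ω := normalizerIn S U₁ with hT₁
    have hT₁S : T₁ ≤ S := normalizerIn_le S U₁
    haveI : Finite ↥T₁ := finite_of_le hT₁S
    have hNT : normalizerIn S T ≤ T₁ := hW.normalizerIn_le hpT hTS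
    have hTT₁ : T ≤ T₁ := (le_normalizerIn hTS).trans hNT
    have hcardT : Nat.card T < Nat.card T₁ :=
      lt_of_lt_of_le (card_lt_card_normalizerIn hS hTS hTeq) (Subgroup.card_le_of_le hNT)
    obtain ⟨U₂, hconj, hfn₂⟩ := exists_fullyNormalized_conj F hU₁S
    have hFA := (saturated_fn hS F hF hfn₂).2
    have hRec := saturated_fn_receptive hS F hF hfn₂
    obtain ⟨χ, hχ, hval, hmap⟩ := exists_normalizer_hom hS F hFA hRec hconj
    have hψ : IsFM F T₁ (ofHom χ) := isFM_ofHom hχ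
    have hU₁T₁ : U₁ ≤ T₁ := le_normalizerIn hU₁S
    have hψU : IsImage U₁ (ofHom χ) U₂ := isImage_of_map_eq χ hU₁T₁ hmap
    have hψval : ∀ x ∈ T₁, ofHom χ x ∈ normalizerIn S U₂ := fun x hx => by
      rw [ofHom_apply' χ hx]; exact hval _
    have hψCM : CM F X T₁ (ofHom χ) := IH T₁ _ hψ (lt_trans hn hcardT)
    have hXT₁ : X ≤ T₁ := hXU₁.trans hU₁T₁
    have hψfix : ∀ y ∈ X, ofHom χ y = y := fun y hy => hψCM.apply_eq hy (hXT₁ hy)
    have hXU₂ : X ≤ U₂ := fun y hy => by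
      rw [← hψfix y hy]; exact hψU.mem (hXU₁ hy)
    obtain ⟨T₁', hT₁'⟩ := hψ.exists_image
    obtain ⟨ψinv, hψinv, hψinvi, hl, hr⟩ := hψ.exists_inverse hT₁'
    have hR₂T₁ : R₂ ≤ T₁ := hR₂T.trans hTT₁
    obtain ⟨R₃, hR₃⟩ := hψ.exists_image_of_le hR₂T₁
    have hR₃T₁' : R₃ ≤ T₁' := hR₃.le_of_forall (fun x hx => hT₁'.mem (hR₂T₁ hx))
    have hθ₃ : IsFM F R₃ (fun y => ofHom χ (θ₂ (ψinv y))) := by
      have h1 : IsFM F R₃ ψinv := hψinv.mono hR₃T₁'
      have h2 : IsFM F R₃ (fun y => θ₂ (ψinv y)) := h1.comp hθ₂ (fun y hy => by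
        obtain ⟨x, hx, rfl⟩ := (hR₃ y).mp hy
        rw [hl x (hR₂T₁ hx)]
        exact hx)
      exact h2.comp hψ (fun y hy => by
        obtain ⟨x, hx, rfl⟩ := (hR₃ y).mp hy
        show θ₂ (ψinv (ofHom χ x)) ∈ T₁
        rw [hl x (hR₂T₁ hx)]
        exact hTT₁ (hθ₂T x hx))
    have hU₂R₃ : U₂ ≤ R₃ := hψU.le_of_forall (fun x hx => hR₃.mem (hWR₂ hx))
    have hθ₃U : ∀ u ∈ U₂, ofHom χ (θ₂ (ψinv u)) ∈ U₂ := by
      intro u hu
      obtain ⟨u₁, hu₁, rfl⟩ := (hψU u).mp hu
      rw [hl u₁ (hU₁T₁ hu₁)]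
      exact hψU.mem (hθ₂W u₁ hu₁)
    have hR₃N : R₃ ≤ normalizerIn S U₂ := hR₃.le_of_forall (fun x hx => hψval x (hR₂T₁ hx))
    have hT₁'N : T₁' ≤ normalizerIn S U₂ := hT₁'.le_of_forall hψval
    have hcardT₁ : Nat.card T₁ ≤ Nat.card (normalizerIn S U₂) := by
      rw [← hψ.card_image hT₁']
      haveI : Finite ↥(normalizerIn S U₂) := finite_of_le (normalizerIn_le S U₂)
      exact Subgroup.card_le_of_le hT₁'N
    have hleS : Nat.card (normalizerIn S U₂) ≤ Nat.card S := Subgroup.card_le_of_le (normalizerIn_le S U₂)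
    have h3 := ih (Nat.card S - Nat.card (normalizerIn S U₂)) (by omega) U₂ hfn₂ hXU₂ rfl (by omega)
      R₃ _ hU₂R₃ hR₃N hθ₃ hθ₃U q hq
    -- back to `θ₂`
    have hqT₁ : q ∈ T₁ := hXT₁ hq
    have h4 : ψinv q = q := by
      have := hl q hqT₁
      rw [hψfix q hq] at this
      exact this
    have h5 : ofHom χ (θ₂ q) = ofHom χ q := by
      have h6 : ofHom χ (θ₂ (ψinv q)) = q := h3
      rw [h4] at h6
      rw [h6, hψfix q hq]
    have hqR₂ : q ∈ R₂ := hWR₂ (hXU₁ hq)
    exact hψ.injOn (hTT₁ (hθ₂T q hqR₂)) hqT₁ h5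

end Climb

/-- The inductive step of the reduction theorem. -/
theorem rt_step (hW : PosChar p W)
    (hWZ : ∀ (Q : Type u) [Group Q] [Finite Q], IsPGroup p Q → Subgroup.center Q ≤ W Q)
    (D : RTData p W X) {n m : ℕ} (IH : IHrt p W D n m) [Finite S] (hS : IsPGroup p S) (F : FusionSystem S)
    (hF : F.IsSaturated p) (hAdm : D.Adm S) (hfix : FixW W F X) (hn : Nat.card S = n) (hm : GT.mu F = m) :
    CenAll F X := by
  have hXS : X ≤ S := D.le hAdm
  have hXc : ∀ s ∈ S, ∀ q ∈ X, s * q * s⁻¹ = q := D.central hAdm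
  haveI : Finite ↥X := finite_of_le hXS
  have hQ : F.IsNormal F.core := core_isNormal F
  have hQS : F.core ≤ S := hQ.1
  have hsc := stronglyClosed_of_isNormal F hQ
  by_cases hQc : F.IsCentric F.core
  · exact D.model S hS F hF hQc hAdm hfix
  haveI : Finite ↥F.core := finite_of_le hQS
  have hSN : S ≤ Subgroup.normalizer (F.core : Set Ω) := le_normalizer_of_stronglyClosed F hsc
  have hQn : ∀ s ∈ S, ∀ q ∈ F.core, s * q * s⁻¹ ∈ F.core := fun s hs q hq =>
    (Subgroup.mem_normalizer_iff.mp (hSN hs) q).mp hq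
  have hScent : S ≤ Subgroup.centralizer (X : Set Ω) := by
    intro s hs
    rw [Subgroup.mem_centralizer_iff]
    intro y hy
    have := hXc s hs y hy
    calc y * s = s * y * s⁻¹ * s := by rw [this]
      _ = s * y := by group
  -- systems of normalizers of non-normal subgroups
  have hsub : ∀ (U : Subgroup Ω) (hU : U ≤ S), F.IsFullyNormalized U → X ≤ U → ¬ F.IsNormal U →
      FixW W (normalizerSystem F U hU) X → CenAll (normalizerSystem F U hU) X := by
    intro U hU hUfn hXU hUn hfixU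
    have hE := normalizerSystem_isNormalizerSystem F U hU
    refine ih_sub_rt IH hS F hF hn hm (normalizerIn_le S U) _ (normalizerSystem_saturated hS F hF hUfn _ hE)
      (D.sub hAdm (normalizerIn_le S U) ?_) hfixU (fun P φ hφ => hφ.1)
      (fun hall => hUn (isNormal_of_forall_normalizerHom F hU hall))
    intro z hzS hzc
    refine ⟨hzS, ?_⟩
    haveI : Finite ↥U := finite_of_le hU
    apply mem_normalizer_of_conj_mem_finite
    intro u hu
    have h1 := hzc u (hU hu)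
    have e : z * u * z⁻¹ = u := by
      calc z * u * z⁻¹ = (u * z * u⁻¹) * u * z⁻¹ := by rw [h1]
        _ = u := by group
    rw [e]
    exact hu
  -- normal subgroups containing `X`
  have hnorm : ∀ U : Subgroup Ω, F.IsNormal U → X ≤ U → CenAll F X := by
    intro U hUn hXU
    have hXQ : X ≤ F.core := hXU.trans (le_sSup hUn)
    have hRS : F.core ⊔ centralizerIn S F.core ≤ S := sup_le hQS (centralizerIn_le S F.core)
    have hRn : ∀ s ∈ S, ∀ r ∈ F.core ⊔ centralizerIn S F.core,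
        s * r * s⁻¹ ∈ F.core ⊔ centralizerIn S F.core := fun s hs =>
      conj_mem_sup_of_forall (hQn s hs) (fun c hc => conj_mem_centralizerIn hQn hs hc)
    haveI : Finite ↥(F.core ⊔ centralizerIn S F.core) := finite_of_le hRS
    have hNR : normalizerIn S (F.core ⊔ centralizerIn S F.core) = S :=
      le_antisymm (normalizerIn_le S _) (fun s hs => ⟨hs, mem_normalizer_of_conj_mem_finite (hRn s hs)⟩)
    have hRfn : F.IsFullyNormalized (F.core ⊔ centralizerIn S F.core) :=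
      GT.isFullyNormalized_of_normalizerIn_eq F hRS hNR
    have hE₀ := normalizerSystem_isNormalizerSystem F _ hRS
    have hne₀ : ¬ ∀ P, F.Hom P ⊆ (normalizerSystem F _ hRS).Hom P := by
      intro hall
      have hRnorm : F.IsNormal (F.core ⊔ centralizerIn S F.core) :=
        isNormal_of_forall_normalizerHom F hRS hall
      have h1 : F.core ⊔ centralizerIn S F.core ≤ F.core := le_sSup hRnorm
      exact hQc (isCentric_of_isNormal_of_centralizerIn_le F hQ (le_sup_right.trans h1))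
    have hfix₀ : FixW W (normalizerSystem F _ hRS) X := by
      intro R θ hθ hWR hθW q hq
      rw [WS_congr W hNR] at hWR hθW
      exact hfix R θ (hθ.of_normalizer hE₀) hWR hθW q hq
    have hAdm₀ : D.Adm (normalizerIn S (F.core ⊔ centralizerIn S F.core)) :=
      D.sub hAdm (normalizerIn_le S _) (fun z hzS _ => hNR.symm ▸ hzS)
    have hCen₀ : CenAll (normalizerSystem F _ hRS) X :=
      ih_sub_rt IH hS F hF hn hm (normalizerIn_le S _) _ (normalizerSystem_saturated hS F hF hRfn _ hE₀)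
        hAdm₀ hfix₀ (fun P φ hφ => hφ.1) hne₀
    apply (cmPM F X hXS hXc).forall_of_gen hS hF hQ hQn
    · rintro R θ ⟨θ', h1, h2, s, hs, h3⟩
      exact ⟨θ', h1.mono (sup_le_sup_left hXQ R), h2, fun q hq => by rw [h3 q (hXQ hq), hXc s hs q hq]⟩
    · intro R θ hθ
      obtain ⟨θ', hθ', hext, hfix'⟩ := hCen₀ R θ hθ
      exact ⟨θ', hθ'.of_normalizer hE₀, hext, hfix'⟩
  -- Alperin with induction
  apply (cmPM F X hXS hXc).forall_of_step hS hF
  intro P hPS hPfn hPess IH' a ha hi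
  have hXP : X ≤ P := by
    rcases hPess with rfl | ⟨hess, -⟩
    · exact hXS
    · exact le_of_essential_of_le_centralizer F hess hXS hScent
  apply CM.of_fix hXP ha
  intro q hq
  rcases hPess with rfl | ⟨hess, hne⟩
  · have himg := hW.isImage_of_isFM hS ha hi
    exact hfix P a ha (WS_le W P) (fun u hu => himg.mem hu) q hq
  · have hleS : Nat.card (normalizerIn S P) ≤ Nat.card S := Subgroup.card_le_of_le (normalizerIn_le S P)
    exact cen_climb hW hWZ hS F hF hXS hXc hfix hsub hnorm (Nat.card P) IH'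
      (Nat.card S - Nat.card (normalizerIn S P)) P hPfn hXP rfl (card_lt_card_normalizerIn hS hPS hne)
      P a le_rfl (le_normalizerIn hPS) ha (fun u hu => hi.mem hu) q hq

/-- **The reduction theorem.** -/
theorem rt_main (hW : PosChar p W)
    (hWZ : ∀ (Q : Type u) [Group Q] [Finite Q], IsPGroup p Q → Subgroup.center Q ≤ W Q)
    (D : RTData p W X) :
    ∀ (n m : ℕ) (T : Subgroup Ω) [Finite T], IsPGroup p T → ∀ E : FusionSystem T, E.IsSaturated p →
      D.Adm T → FixW W E X → Nat.card T = n → GT.mu E = m → CenAll E X := by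
  intro n
  induction n using Nat.strong_induction_on with
  | _ n ihn =>
    intro m
    induction m using Nat.strong_induction_on with
    | _ m ihm =>
      intro T _ hT E hE hAdm hfix hn hm
      apply rt_step hW hWZ D (n := n) (m := m) ?_ hT E hE hAdm hfix hn hm
      intro T' _ hT' E' hE' hAdm' hfix' hlt
      rcases hlt with h | ⟨h1, h2⟩
      · exact ihn _ h _ T' hT' E' hE' hAdm' hfix' rfl rfl
      · exact ihm _ h2 T' hT' E' hE' hAdm' hfix' h1 rfl

end Cfsg.Agent.Lib.Helper27.KL
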