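import Cfsg.Agent.Lib.Helper27.KL16

/-!
helper27: the constrained case of the reduction theorem for weak closure: in the model `L` of a constrained system,
the elements fixed by the maps normalizing `W(S)` are centralized by `N_L(W(S))`, and the elements that are central in
`L` are fixed by all the maps of the system.
-/

set_option autoImplicit false
set_option linter.unusedSectionVars false
set_option linter.unusedVariables false

namespace Cfsg.Agent.Lib.Helper27.KL

open Cfsg Cfsg.FusionSystem Cfsg.Agent.Lib.Helper26 Cfsg.Agent.Lib.Helper27.FM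
  Cfsg.Agent.Lib.Helper26.ModelThm Cfsg.Agent.Lib.Helper27.ModelRad

universe u

variable {Ω : Type u} [Group Ω] {S : Subgroup Ω} {p : ℕ} [Fact p.Prime]
  {W : ∀ (Q : Type u) [Group Q], Subgroup Q}

/-- The value of the functor on the image of an injective homomorphism. -/
theorem pullSub_WS (hW : PosChar p W) [Finite S] (hS : IsPGroup p S) {L : Type u} [Group L] (ι : S →* L)
    (hinj : Function.Injective ι) (T : Subgroup L) (hT : T = ι.range) :
    pullSub ι ((W ↥T).map T.subtype) = WS W S := by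
  let e : ↥S ≃* ↥T := (MonoidHom.ofInjective hinj).trans (MulEquiv.subgroupCongr hT.symm)
  have he : ∀ s : ↥S, ((e s : ↥T) : L) = ι s := fun s => rfl
  have h2 := hW.map_eq ↥S ↥T hS e
  ext x
  constructor
  · rintro ⟨s, hs', rfl⟩
    rw [mem_WS]
    refine ⟨s, ?_, rfl⟩
    have hs'' : ι s ∈ (W ↥T).map T.subtype := hs'
    obtain ⟨t, ht, hts⟩ := hs''
    rw [← h2] at ht
    obtain ⟨s', hs'W, hs't⟩ := ht
    have : s' = s := by
      apply hinj
      rw [← he s', ← hts]
      exact congrArg Subtype.val hs't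
    rw [← this]
    exact hs'W
  · intro hx
    rw [mem_WS] at hx
    obtain ⟨s, hsW, rfl⟩ := hx
    refine ⟨s, ?_, rfl⟩
    show ι s ∈ (W ↥T).map T.subtype
    refine ⟨e s, ?_, he s⟩
    rw [← h2]
    exact ⟨s, hsW, rfl⟩

/-- Conjugation by an element of a realizing group, where it has values in the image, is a map of the system. -/
theorem exists_isFM_of_conj {F : FusionSystem S} {L : Type*} [Group L] {ι : S →* L} (hreal : F.IsRealizedBy ι)
    (g : L) {R : Subgroup Ω} (hRS : R ≤ S) (h : ∀ y ∈ R, ∃ y' ∈ S, ext1 ι y' = g * ext1 ι y * g⁻¹) :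
    ∃ θ' : Ω → Ω, IsFM F R θ' ∧ ∀ y ∈ R, ext1 ι (θ' y) = g * ext1 ι y * g⁻¹ := by
  classical
  set θ' : Ω → Ω := fun y => if hy : ∃ y' ∈ S, ext1 ι y' = g * ext1 ι y * g⁻¹ then Classical.choose hy else 1
    with hθ'
  have hspec : ∀ y ∈ R, θ' y ∈ S ∧ ext1 ι (θ' y) = g * ext1 ι y * g⁻¹ := by
    intro y hy
    have h1 := Classical.choose_spec (h y hy)
    have h2 : θ' y = Classical.choose (h y hy) := by
      rw [hθ']
      simp only [dif_pos (h y hy)]
    rw [h2]
    exact h1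
  refine ⟨θ', ?_, fun y hy => (hspec y hy).2⟩
  rw [isFM_iff_of_realized hreal]
  exact ⟨hRS, fun y hy => (hspec y hy).1, g, fun y hy => (hspec y hy).2⟩

/-- The elements carried into the image by conjugation with `g` form a subgroup. -/
theorem conj_mem_range_sup {L : Type*} [Group L] (ι : S →* L) (g : L) {R X : Subgroup Ω} (hRS : R ≤ S)
    (hXS : X ≤ S) (hR : ∀ y ∈ R, ∃ y' ∈ S, ext1 ι y' = g * ext1 ι y * g⁻¹)
    (hX : ∀ y ∈ X, ∃ y' ∈ S, ext1 ι y' = g * ext1 ι y * g⁻¹) :
    ∀ y ∈ R ⊔ X, ∃ y' ∈ S, ext1 ι y' = g * ext1 ι y * g⁻¹ := by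
  set Y : Subgroup Ω := (Subgroup.comap ((MulAut.conj g).toMonoidHom.comp ι) ι.range).map S.subtype with hY
  have hmemY : ∀ y (hy : y ∈ S), (∃ y' ∈ S, ext1 ι y' = g * ext1 ι y * g⁻¹) → y ∈ Y := by
    rintro y hy ⟨y', hy', he⟩
    refine ⟨⟨y, hy⟩, ?_, rfl⟩
    refine ⟨⟨y', hy'⟩, ?_⟩
    rw [ext1_apply ι hy', ext1_apply ι hy] at he
    exact he
  have hle : R ⊔ X ≤ Y := sup_le (fun y hy => hmemY y (hRS hy) (hR y hy)) (fun y hy => hmemY y (hXS hy) (hX y hy))
  intro y hy
  obtain ⟨y₀, ⟨y', hy'⟩, rfl⟩ := hle hy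
  refine ⟨y', y'.2, ?_⟩
  rw [ext1_coe, hy']
  show g * ι y₀ * g⁻¹ = g * ext1 ι (y₀ : Ω) * g⁻¹
  rw [ext1_coe]

/-- If the image of `X` is central in a group realizing `F`, every map of `F` extends to fix `X` pointwise. -/
theorem cenAll_of_central_image {F : FusionSystem S} {L : Type*} [Group L] {ι : S →* L}
    (hreal : F.IsRealizedBy ι) {X : Subgroup Ω} (hXS : X ≤ S)
    (hcen : ∀ q ∈ X, ext1 ι q ∈ Subgroup.center L) : CenAll F X := by
  intro R θ hθ
  obtain ⟨hRS, hθS, g, hg⟩ := (isFM_iff_of_realized hreal).mp hθ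
  have hXg : ∀ y ∈ X, ext1 ι y = g * ext1 ι y * g⁻¹ := by
    intro y hy
    have := Subgroup.mem_center_iff.mp (hcen y hy) g
    rw [this]
    group
  have hsup := conj_mem_range_sup ι g hRS hXS (fun y hy => ⟨θ y, hθS y hy, hg y hy⟩)
    (fun y hy => ⟨y, hXS hy, hXg y hy⟩)
  obtain ⟨θ', hθ', hθ'g⟩ := exists_isFM_of_conj hreal g (sup_le hRS hXS) hsup
  refine ⟨θ', hθ', fun y hy => ?_, fun q hq => ?_⟩
  · apply ext1_injOn ι hreal.1 (hθ'.mem (le_sup_left (a := R) (b := X) hy)) (hθS y hy)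
    rw [hθ'g y (le_sup_left (a := R) (b := X) hy), hg y hy]
  · apply ext1_injOn ι hreal.1 (hθ'.mem (le_sup_right (a := R) (b := X) hq)) (hXS hq)
    rw [hθ'g q (le_sup_right (a := R) (b := X) hq), ← hXg q hq]

/-- The image of an element fixed by the maps normalizing `W(S)` is centralized by the normalizer of the image of
`W(S)`. -/
theorem image_mem_center_normalizer (hW : PosChar p W) [Finite S] (hS : IsPGroup p S) {F : FusionSystem S}
    {L : Type u} [Group L] [Finite L] {ι : S →* L} (hreal : F.IsRealizedBy ι) (T : Subgroup L) (hT : T = ι.range)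
    {X : Subgroup Ω} (hXW : X ≤ WS W S) (hfix : FixW W F X) :
    ∀ q ∈ X, ext1 ι q ∈ (Subgroup.center ↥(Subgroup.normalizer
      (((W ↥T).map T.subtype : Subgroup L) : Set L))).map (Subgroup.normalizer
      (((W ↥T).map T.subtype : Subgroup L) : Set L)).subtype := by
  have hinj := hreal.1
  have hWS : WS W S ≤ S := WS_le W S
  have hpull := pullSub_WS hW hS ι hinj T hT
  have hmemW : ∀ y (hy : y ∈ S), ext1 ι y ∈ (W ↥T).map T.subtype ↔ y ∈ WS W S := by
    intro y hy
    rw [← hpull, ext1_apply ι hy]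
    exact (mem_pullSub ι _ ⟨y, hy⟩).symm
  have hWL_le : ((W ↥T).map T.subtype : Subgroup L) ≤ ι.range := by
    rw [← hT]; exact Subgroup.map_subtype_le _
  intro q hq
  have hqS : q ∈ S := hWS (hXW hq)
  -- commutation with the normalizer
  have hcomm : ∀ g ∈ Subgroup.normalizer (((W ↥T).map T.subtype : Subgroup L) : Set L),
      g * ext1 ι q * g⁻¹ = ext1 ι q := by
    intro g hg
    have hconj : ∀ y ∈ WS W S, ∃ y' ∈ S, ext1 ι y' = g * ext1 ι y * g⁻¹ := by
      intro y hy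
      have h1 : g * ext1 ι y * g⁻¹ ∈ (W ↥T).map T.subtype :=
        (Subgroup.mem_normalizer_iff.mp hg _).mp ((hmemW y (hWS hy)).mpr hy)
      obtain ⟨s, hs⟩ := hWL_le h1
      exact ⟨s, s.2, by rw [ext1_coe]; exact hs⟩
    obtain ⟨θ', hθ', hθ'g⟩ := exists_isFM_of_conj hreal g hWS hconj
    have hθ'W : ∀ u ∈ WS W S, θ' u ∈ WS W S := by
      intro u hu
      rw [← hmemW _ (hθ'.mem hu), hθ'g u hu]
      exact (Subgroup.mem_normalizer_iff.mp hg _).mp ((hmemW u (hWS hu)).mpr hu)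
    have h2 := hfix (WS W S) θ' hθ' le_rfl hθ'W q hq
    rw [← hθ'g q (hXW hq), h2]
  -- `ι q` normalizes the image of `W(S)`
  have hqN : ext1 ι q ∈ Subgroup.normalizer (((W ↥T).map T.subtype : Subgroup L) : Set L) := by
    haveI : Finite ↥((W ↥T).map T.subtype : Subgroup L) := inferInstance
    apply mem_normalizer_of_conj_mem_finite
    intro w hw
    obtain ⟨s, hs⟩ := hWL_le hw
    have hsW : (s : Ω) ∈ WS W S := by
      rw [← hmemW _ s.2, ext1_coe, hs]; exact hw
    have h1 : q * (s : Ω) * q⁻¹ ∈ WS W S := hW.conj_mem hS (Subgroup.le_normalizer hqS) hsW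
    have h2 := (hmemW _ (hWS h1)).mpr h1
    rw [ext1_conj ι hqS s.2, ext1_coe, hs] at h2
    exact h2
  refine ⟨⟨ext1 ι q, hqN⟩, ?_, rfl⟩
  rw [SetLike.mem_coe, Subgroup.mem_center_iff]
  intro g
  apply Subtype.ext
  show (g : L) * ext1 ι q = ext1 ι q * g
  have := hcomm g g.2
  calc (g : L) * ext1 ι q = (g : L) * ext1 ι q * (g : L)⁻¹ * g := by group
    _ = ext1 ι q * g := by rw [this]

end Cfsg.Agent.Lib.Helper27.KL
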