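import Cfsg.Agent.Lib.Helper27.KL1
import Cfsg.Agent.Lib.Helper27.FMEmbed2
import Cfsg.Agent.Lib.Helper26.FSKNormSat

/-!
helper27: positive characteristic `p`-functors and the local-to-global theorem for fusion systems
(Kessar–Linckelmann, Theorem 5.x): if `W(N_S(U))` is normal in `N_F(U)` for every nontrivial fully normalized `U`,
then `W(S)` is normal in `F`.
-/

set_option autoImplicit false
set_option linter.unusedSectionVars false
set_option linter.unusedVariables false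

namespace Cfsg.Agent.Lib.Helper27.KL

open Cfsg Cfsg.FusionSystem Cfsg.Agent.Lib.Helper26 Cfsg.Agent.Lib.Helper27.FM

universe u

/-- A positive characteristic `p`-functor. -/
structure PosChar (p : ℕ) (W : ∀ (Q : Type u) [Group Q], Subgroup Q) : Prop where
  ne_bot : ∀ (Q : Type u) [Group Q] [Finite Q], IsPGroup p Q → Nontrivial Q → W Q ≠ ⊥
  map_eq : ∀ (Q R : Type u) [Group Q] [Group R] [Finite Q], IsPGroup p Q → ∀ φ : Q ≃* R,
    (W Q).map φ.toMonoidHom = W R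

variable {Ω : Type u} [Group Ω] {S : Subgroup Ω}

/-- The value of the functor on a subgroup, as a subgroup of the ambient group. -/
def WS (W : ∀ (Q : Type u) [Group Q], Subgroup Q) (T : Subgroup Ω) : Subgroup Ω := (W ↥T).map T.subtype

theorem WS_le (W : ∀ (Q : Type u) [Group Q], Subgroup Q) (T : Subgroup Ω) : WS W T ≤ T :=
  Subgroup.map_subtype_le _

theorem mem_WS (W : ∀ (Q : Type u) [Group Q], Subgroup Q) (T : Subgroup Ω) (y : Ω) :
    y ∈ WS W T ↔ ∃ x : ↥T, x ∈ W ↥T ∧ (x : Ω) = y := by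
  unfold WS
  rw [Subgroup.mem_map]
  rfl

theorem WS_congr (W : ∀ (Q : Type u) [Group Q], Subgroup Q) {T T' : Subgroup Ω} (h : T = T') :
    WS W T = WS W T' := by subst h; rfl

variable {p : ℕ} [Fact p.Prime] {W : ∀ (Q : Type u) [Group Q], Subgroup Q}

theorem PosChar.WS_ne_bot (hW : PosChar p W) {T : Subgroup Ω} [Finite T] (hT : IsPGroup p T) (hne : T ≠ ⊥) :
    WS W T ≠ ⊥ := by
  haveI : Nontrivial ↥T := (Subgroup.nontrivial_iff_ne_bot T).mpr hne
  have h1 := hW.ne_bot ↥T hT inferInstance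
  intro h
  apply h1
  unfold WS at h
  exact (Subgroup.map_eq_bot_iff_of_injective _ T.subtype_injective).mp h

theorem PosChar.isImage (hW : PosChar p W) {T T' : Subgroup Ω} [Finite T] (hT : IsPGroup p T) {θ : Ω → Ω}
    (hmul : ∀ x ∈ T, ∀ y ∈ T, θ (x * y) = θ x * θ y) (hinj : ∀ x ∈ T, ∀ y ∈ T, θ x = θ y → x = y)
    (hi : IsImage T θ T') : IsImage (WS W T) θ (WS W T') := by
  let f : ↥T →* ↥T' := MonoidHom.mk' (fun x => ⟨θ x, hi.mem x.2⟩) (by
    intro a b
    apply Subtype.ext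
    exact hmul a a.2 b b.2)
  have hf : Function.Bijective f := by
    constructor
    · intro a b hab
      have : θ a = θ b := congrArg Subtype.val hab
      exact Subtype.ext (hinj a a.2 b b.2 this)
    · rintro ⟨y, hy⟩
      obtain ⟨x, hx, rfl⟩ := (hi y).mp hy
      exact ⟨⟨x, hx⟩, rfl⟩
  let e : ↥T ≃* ↥T' := MulEquiv.ofBijective f hf
  have hmap := hW.map_eq ↥T ↥T' hT e
  intro y
  rw [mem_WS]
  constructor
  · rintro ⟨z, hz, rfl⟩
    rw [← hmap] at hz
    obtain ⟨x, hx, rfl⟩ := hz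
    exact ⟨(x : Ω), (mem_WS W T _).mpr ⟨x, hx, rfl⟩, rfl⟩
  · rintro ⟨x', hx', rfl⟩
    obtain ⟨x, hx, rfl⟩ := (mem_WS W T _).mp hx'
    refine ⟨e x, ?_, rfl⟩
    rw [← hmap]
    exact Subgroup.mem_map_of_mem _ hx

theorem PosChar.isImage_of_isFM (hW : PosChar p W) {F : FusionSystem S} {T T' : Subgroup Ω} [Finite T]
    (hT : IsPGroup p T) {θ : Ω → Ω} (h : IsFM F T θ) (hi : IsImage T θ T') :
    IsImage (WS W T) θ (WS W T') :=
  hW.isImage hT (fun x hx y hy => h.map_mul hx hy) (fun x hx y hy hxy => h.injOn hx hy hxy) hi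

theorem PosChar.conj_mem (hW : PosChar p W) {T : Subgroup Ω} [Finite T] (hT : IsPGroup p T) {g : Ω}
    (hg : g ∈ Subgroup.normalizer (T : Set Ω)) {u : Ω} (hu : u ∈ WS W T) : g * u * g⁻¹ ∈ WS W T := by
  have hi : IsImage T (fun x => g * x * g⁻¹) T := by
    intro y
    constructor
    · intro hy
      refine ⟨g⁻¹ * y * g, ?_, by group⟩
      have := (Subgroup.mem_normalizer_iff.mp (Subgroup.inv_mem _ hg) y).mp hy
      simpa using this
    · rintro ⟨x, hx, rfl⟩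
      exact (Subgroup.mem_normalizer_iff.mp hg x).mp hx
  have := hW.isImage hT (θ := fun x => g * x * g⁻¹) (fun x _ y _ => by group)
    (fun x _ y _ hxy => mul_left_cancel (mul_right_cancel hxy)) hi
  exact this.mem hu

theorem PosChar.normalizerIn_le (hW : PosChar p W) {T : Subgroup Ω} [Finite T] (hT : IsPGroup p T)
    (hTS : T ≤ S) [Finite S] : normalizerIn S T ≤ normalizerIn S (WS W T) := by
  intro g hg
  refine ⟨hg.1, ?_⟩
  haveI : Finite ↥(WS W T) := finite_of_le ((WS_le W T).trans hTS)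
  apply mem_normalizer_of_conj_mem_finite
  intro u hu
  exact hW.conj_mem hT hg.2 hu

section Climb

variable [Finite S]

/-- The climbing step of the local-to-global theorem. -/
theorem climb (hW : PosChar p W) (hS : IsPGroup p S) (F : FusionSystem S) (hF : F.IsSaturated p)
    (hloc : ∀ (U : Subgroup Ω) (hU : U ≤ S), U ≠ ⊥ → F.IsFullyNormalized U →
      (normalizerSystem F U hU).IsNormal (WS W (normalizerIn S U)))
    (n : ℕ) (IH : ∀ (R : Subgroup Ω) (θ : Ω → Ω), IsFM F R θ → n < Nat.card R → NM F (WS W S) R θ) :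
    ∀ (d : ℕ) (U : Subgroup Ω), U ≠ ⊥ → F.IsFullyNormalized U →
      Nat.card S - Nat.card (normalizerIn S U) = d → n < Nat.card (normalizerIn S U) →
      ∀ (R : Subgroup Ω) (θ : Ω → Ω), U ≤ R → R ≤ normalizerIn S U → IsFM F R θ → (∀ u ∈ U, θ u ∈ U) →
        NM F (WS W S) R θ := by
  intro d
  induction d using Nat.strong_induction_on with
  | _ d ih =>
  intro U hUne hUfn hd hn R θ hUR hRT hθ hθU
  have hUS : U ≤ S := hUfn.1
  set T : Subgroup Ω := normalizerIn S U with hT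
  have hTS : T ≤ S := normalizerIn_le S U
  haveI : Finite ↥T := finite_of_le hTS
  haveI : Finite ↥U := finite_of_le hUS
  have hpT : IsPGroup p T := hS.to_le hTS
  have hUT : U ≤ T := le_normalizerIn hUS
  have hNsys := normalizerSystem_isNormalizerSystem F U hUS
  have hlocU := hloc U hUS hUne hUfn
  -- `θ` is a map of the normalizer system
  have hiU : IsImage U θ U := hθ.isImage_self_of_forall_mem hUR hθU
  have hθT : ∀ x ∈ R, θ x ∈ T := by
    intro x hx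
    refine ⟨hθ.mem hx, ?_⟩
    apply mem_normalizer_of_conj_mem_finite
    intro u hu
    obtain ⟨u', hu', rfl⟩ := (hiU u).mp hu
    rw [← hθ.map_inv hx, ← hθ.map_mul hx (hUR hu'), ← hθ.map_mul (R.mul_mem hx (hUR hu')) (R.inv_mem hx)]
    apply hθU
    exact (Subgroup.mem_normalizer_iff.mp (hRT hx).2 u').mp hu'
  have hθN : IsFM (normalizerSystem F U hUS) R θ := by
    rw [isFM_normalizer_iff F hUS _ hNsys]
    exact ⟨hRT, hθT, θ, hθ.of_eq (sup_eq_left.mpr hUR), fun _ _ => rfl, hθU⟩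
  obtain ⟨θ₂, hθ₂N, hθ₂ext, hθ₂W⟩ := hθN.exists_ext_of_isNormal hlocU
  have hθ₂ : IsFM F (R ⊔ WS W T) θ₂ := hθ₂N.of_normalizer hNsys
  by_cases hTeq : T = S
  · have hWeq : WS W T = WS W S := WS_congr W hTeq
    rw [hWeq] at hθ₂ hθ₂W
    exact ⟨θ₂, hθ₂, hθ₂ext, hθ₂W⟩
  · -- climb
    set U₁ : Subgroup Ω := WS W T with hU₁
    have hU₁T : U₁ ≤ T := WS_le W T
    have hU₁S : U₁ ≤ S := hU₁T.trans hTS
    have hTne : T ≠ ⊥ := fun h => hUne (le_bot_iff.mp (h ▸ hUT))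
    have hU₁ne : U₁ ≠ ⊥ := hW.WS_ne_bot hpT hTne
    set T₁ : Subgroup Ω := normalizerIn S U₁ with hT₁
    have hT₁S : T₁ ≤ S := normalizerIn_le S U₁
    haveI : Finite ↥T₁ := finite_of_le hT₁S
    have hNT : normalizerIn S T ≤ T₁ := hW.normalizerIn_le hpT hTS
    have hTT₁ : T ≤ T₁ := (le_normalizerIn hTS).trans hNT
    have hcardT : Nat.card T < Nat.card T₁ :=
      lt_of_lt_of_le (card_lt_card_normalizerIn hS hTS hTeq) (Subgroup.card_le_of_le hNT)
    obtain ⟨U₂, hconj, hfn₂⟩ := exists_fullyNormalized_conj F hU₁S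
    have hFA := (saturated_fn hS F hF hfn₂).2
    have hRec := saturated_fn_receptive hS F hF hfn₂
    obtain ⟨χ, hχ, hval, hmap⟩ := exists_normalizer_hom hS F hFA hRec hconj
    have hψ : IsFM F T₁ (ofHom χ) := isFM_ofHom hχ
    have hU₁T₁ : U₁ ≤ T₁ := le_normalizerIn hU₁S
    have hψU : IsImage U₁ (ofHom χ) U₂ := isImage_of_map_eq χ hU₁T₁ hmap
    have hψval : ∀ x ∈ T₁, ofHom χ x ∈ normalizerIn S U₂ := fun x hx => by
      rw [ofHom_apply' χ hx]; exact hval _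
    have hψNM : NM F (WS W S) T₁ (ofHom χ) := IH T₁ _ hψ (lt_trans hn hcardT)
    obtain ⟨T₁', hT₁'⟩ := hψ.exists_image
    obtain ⟨ψinv, hψinv, hψinvi, hl, hr⟩ := hψ.exists_inverse hT₁'
    haveI : Finite ↥(WS W S) := finite_of_le (WS_le W S)
    have hψinvNM : NM F (WS W S) T₁' ψinv := hψNM.inverse hT₁' hl
    -- the source `R₁ = R ⊔ U₁`
    have hR₁T : R ⊔ U₁ ≤ T := sup_le hRT hU₁T
    have hR₁T₁ : R ⊔ U₁ ≤ T₁ := hR₁T.trans hTT₁
    have hθ₂T : ∀ x ∈ R ⊔ U₁, θ₂ x ∈ T := fun x hx => hθ₂N.mem hx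
    obtain ⟨R₂, hR₂⟩ := hψ.exists_image_of_le hR₁T₁
    have hR₂T₁' : R₂ ≤ T₁' := hR₂.le_of_forall (fun x hx => hT₁'.mem (hR₁T₁ hx))
    -- the transported map
    have hθ₃ : IsFM F R₂ (fun y => ofHom χ (θ₂ (ψinv y))) := by
      have h1 : IsFM F R₂ ψinv := hψinv.mono hR₂T₁'
      have h2 : IsFM F R₂ (fun y => θ₂ (ψinv y)) := h1.comp hθ₂ (fun y hy => by
        obtain ⟨x, hx, rfl⟩ := (hR₂ y).mp hy
        rw [hl x (hR₁T₁ hx)]
        exact hx)
      exact h2.comp hψ (fun y hy => by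
        obtain ⟨x, hx, rfl⟩ := (hR₂ y).mp hy
        show θ₂ (ψinv (ofHom χ x)) ∈ T₁
        rw [hl x (hR₁T₁ hx)]
        exact hTT₁ (hθ₂T x hx))
    have hU₂R₂ : U₂ ≤ R₂ := hψU.le_of_forall (fun x hx => hR₂.mem (le_sup_right (a := R) (b := U₁) hx))
    have hθ₃U : ∀ u ∈ U₂, ofHom χ (θ₂ (ψinv u)) ∈ U₂ := by
      intro u hu
      obtain ⟨u₁, hu₁, rfl⟩ := (hψU u).mp hu
      rw [hl u₁ (hU₁T₁ hu₁)]
      exact hψU.mem (hθ₂W u₁ hu₁)
    have hR₂N : R₂ ≤ normalizerIn S U₂ := hR₂.le_of_forall (fun x hx => hψval x (hR₁T₁ hx))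
    have hT₁'N : T₁' ≤ normalizerIn S U₂ := hT₁'.le_of_forall hψval
    have hcardT₁ : Nat.card T₁ ≤ Nat.card (normalizerIn S U₂) := by
      rw [← hψ.card_image hT₁']
      haveI : Finite ↥(normalizerIn S U₂) := finite_of_le (normalizerIn_le S U₂)
      exact Subgroup.card_le_of_le hT₁'N
    have hU₂ne : U₂ ≠ ⊥ := by
      intro h
      have h1 := (hψ.mono hU₁T₁).card_image hψU
      rw [h, Subgroup.card_bot] at h1
      exact hU₁ne (Subgroup.card_eq_one.mp h1.symm)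
    have hleS : Nat.card (normalizerIn S U₂) ≤ Nat.card S := Subgroup.card_le_of_le (normalizerIn_le S U₂)
    have hNM₃ := ih (Nat.card S - Nat.card (normalizerIn S U₂)) (by omega) U₂ hU₂ne hfn₂ rfl (by omega)
      R₂ _ hU₂R₂ hR₂N hθ₃ hθ₃U
    -- back to `θ₂`
    have h1 : NM F (WS W S) (R ⊔ U₁) (ofHom χ) := hψNM.mono hR₁T₁
    have h2 := h1.comp hNM₃ (fun x hx => hR₂.mem hx)
    have h3 := h2.comp hψinvNM (fun x hx => by
      show ofHom χ (θ₂ (ψinv (ofHom χ x))) ∈ T₁'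
      exact hT₁'.mem (by rw [hl x (hR₁T₁ hx)]; exact hTT₁ (hθ₂T x hx)))
    have h4 : NM F (WS W S) (R ⊔ U₁) θ₂ := h3.congr (fun x hx => by
      show ψinv (ofHom χ (θ₂ (ψinv (ofHom χ x)))) = θ₂ x
      rw [hl x (hR₁T₁ hx), hl _ (hTT₁ (hθ₂T x hx))])
    exact (h4.mono le_sup_left).congr hθ₂ext

end Climb

end Cfsg.Agent.Lib.Helper27.KL
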