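import Cfsg.Agent.Lib.Helper27.KL2

/-!
helper27: the local-to-global theorem for positive characteristic `p`-functors in saturated fusion systems.
-/

set_option autoImplicit false
set_option linter.unusedSectionVars false
set_option linter.unusedVariables false

namespace Cfsg.Agent.Lib.Helper27.KL

open Cfsg Cfsg.FusionSystem Cfsg.Agent.Lib.Helper26 Cfsg.Agent.Lib.Helper27.FM

universe u

variable {Ω : Type u} [Group Ω] {S : Subgroup Ω} {p : ℕ} [Fact p.Prime]
  {W : ∀ (Q : Type u) [Group Q], Subgroup Q} [Finite S]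

theorem isImage_aut {P : Subgroup Ω} (α : MulAut P) :
    IsImage P (ofHom (P.subtype.comp (α : P ≃* P).toMonoidHom)) P := by
  intro y
  constructor
  · intro hy
    refine ⟨(α⁻¹ ⟨y, hy⟩ : P), (α⁻¹ ⟨y, hy⟩ : P).2, ?_⟩
    rw [ofHom_apply]
    show ((α (α⁻¹ ⟨y, hy⟩) : P) : Ω) = y
    rw [MulAut.apply_inv_self]
  · rintro ⟨x, hx, rfl⟩
    rw [ofHom_apply' _ hx]
    exact (α ⟨x, hx⟩).2

theorem NM.of_forall (F : FusionSystem S) {U : Subgroup Ω} (hU : U ≤ S)
    (hUn : ∀ s ∈ S, ∀ u ∈ U, s * u * s⁻¹ ∈ U) [Finite U]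
    (h : ∀ (P : Subgroup Ω) (φ : P →* Ω), φ ∈ F.Hom P → (nmPred F U hU hUn).C P φ) :
    F.IsNormal U := by
  apply isNormal_of_forall_isFM F hU
  intro P θ hθ
  obtain ⟨φ, hφ, h1⟩ := hθ
  have := (h P φ hφ).congr (fun x hx => by rw [ofHom_apply' φ hx]; exact h1 ⟨x, hx⟩)
  exact this

/-- **Local-to-global**: if `W(N_S(U))` is normal in `N_F(U)` for every nontrivial fully normalized `U`, then
`W(S)` is normal in `F`. -/
theorem isNormal_of_local (hW : PosChar p W) (hS : IsPGroup p S) (F : FusionSystem S) (hF : F.IsSaturated p)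
    (hloc : ∀ (U : Subgroup Ω) (hU : U ≤ S), U ≠ ⊥ → F.IsFullyNormalized U →
      (normalizerSystem F U hU).IsNormal (WS W (normalizerIn S U))) :
    F.IsNormal (WS W S) := by
  have hU₀S : WS W S ≤ S := WS_le W S
  have hU₀n : ∀ s ∈ S, ∀ u ∈ WS W S, s * u * s⁻¹ ∈ WS W S := fun s hs u hu =>
    hW.conj_mem hS (Subgroup.le_normalizer hs) hu
  haveI : Finite ↥(WS W S) := finite_of_le hU₀S
  apply NM.of_forall F hU₀S hU₀n
  apply forall_of_step hS hF
  · intro α hα
    have hFM : IsFM F S (ofHom (S.subtype.comp (α : S ≃* S).toMonoidHom)) :=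
      isFM_ofHom ((mem_autGroup_iff F le_rfl α).mp hα)
    exact NM.of_le hU₀S hFM (fun u hu => (hW.isImage_of_isFM hS hFM (isImage_aut α)).mem hu)
  · intro P hess hne IH α hα
    have hPfn := hess.2.1
    have hPc := hess.1
    have hPS : P ≤ S := hPfn.1
    have hPne : P ≠ ⊥ := by
      intro h
      apply hne
      have h1 := hPc.2 P (isConj_refl F hPS)
      rw [h] at h1
      have h2 : S ≤ centralizerIn S ⊥ := by
        intro s hs
        rw [mem_centralizerIn_iff]
        refine ⟨hs, fun x hx => ?_⟩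
        rw [Subgroup.mem_bot.mp hx]
        simp
      rw [h]
      exact le_antisymm bot_le (h2.trans h1)
    have IH' : ∀ (R : Subgroup Ω) (θ : Ω → Ω), IsFM F R θ → Nat.card P < Nat.card R → NM F (WS W S) R θ := by
      intro R θ hθ hlt
      obtain ⟨φ, hφ, h1⟩ := hθ
      exact (IH R φ hφ hlt).congr (fun x hx => by rw [ofHom_apply' φ hx]; exact h1 ⟨x, hx⟩)
    have hFM : IsFM F P (ofHom (P.subtype.comp (α : P ≃* P).toMonoidHom)) :=
      isFM_ofHom ((mem_autGroup_iff F hPS α).mp hα)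
    exact climb hW hS F hF hloc (Nat.card P) IH' _ P hPne hPfn rfl
      (card_lt_card_normalizerIn hS hPS hne) P _ le_rfl (le_normalizerIn hPS) hFM
      (fun u hu => (isImage_aut α).mem hu)

end Cfsg.Agent.Lib.Helper27.KL
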