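import Cfsg.Agent.Lib.Helper27.KL3

/-!
helper27: the subsystem `S C_F(Q)` of a fusion system `F` over `S`, for `Q` normal in `S`: its maps are the maps
of `F` that extend to the join with `Q` acting on `Q` as conjugation by an element of `S`. It is saturated when `F` is.
-/

set_option autoImplicit false
set_option linter.unusedSectionVars false
set_option linter.unusedVariables false

namespace Cfsg.Agent.Lib.Helper27.KL

open Cfsg Cfsg.FusionSystem Cfsg.Agent.Lib.Helper26 Cfsg.Agent.Lib.Helper27.FM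

variable {Ω : Type*} [Group Ω] {S : Subgroup Ω}

/-- `θ` on `R` is a map of `F` that extends to `R ⊔ Q` acting on `Q` as conjugation by an element of `S`. -/
def SC (F : FusionSystem S) (Q R : Subgroup Ω) (θ : Ω → Ω) : Prop :=
  ∃ θ' : Ω → Ω, IsFM F (R ⊔ Q) θ' ∧ (∀ x ∈ R, θ' x = θ x) ∧ ∃ s ∈ S, ∀ q ∈ Q, θ' q = s * q * s⁻¹

theorem SC.isFM {F : FusionSystem S} {Q R : Subgroup Ω} {θ : Ω → Ω} (h : SC F Q R θ) : IsFM F R θ := by
  obtain ⟨θ', h1, h2, -⟩ := h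
  exact (h1.mono le_sup_left).congr h2

theorem SC.mono {F : FusionSystem S} {Q R R' : Subgroup Ω} {θ : Ω → Ω} (h : SC F Q R θ) (hle : R' ≤ R) :
    SC F Q R' θ := by
  obtain ⟨θ', h1, h2, h3⟩ := h
  exact ⟨θ', h1.mono (sup_le_sup_right hle Q), fun x hx => h2 x (hle hx), h3⟩

theorem SC.congr {F : FusionSystem S} {Q R : Subgroup Ω} {θ θ₂ : Ω → Ω} (h : SC F Q R θ)
    (he : ∀ x ∈ R, θ x = θ₂ x) : SC F Q R θ₂ := by
  obtain ⟨θ', h1, h2, h3⟩ := h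
  exact ⟨θ', h1, fun x hx => (h2 x hx).trans (he x hx), h3⟩

theorem SC.nm {F : FusionSystem S} {Q R : Subgroup Ω} {θ : Ω → Ω} (h : SC F Q R θ)
    (hQn : ∀ s ∈ S, ∀ q ∈ Q, s * q * s⁻¹ ∈ Q) : NM F Q R θ := by
  obtain ⟨θ', h1, h2, s, hs, h3⟩ := h
  exact ⟨θ', h1, h2, fun q hq => by rw [h3 q hq]; exact hQn s hs q hq⟩

/-- A map fixing `Q` pointwise. -/
theorem SC.of_fix {F : FusionSystem S} {Q R : Subgroup Ω} {θ : Ω → Ω} (hQR : Q ≤ R) (h : IsFM F R θ)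
    (hfix : ∀ q ∈ Q, θ q = q) : SC F Q R θ :=
  ⟨θ, h.of_eq (sup_eq_left.mpr hQR), fun _ _ => rfl, 1, S.one_mem, fun q hq => by rw [hfix q hq]; simp⟩

theorem sc_conj (F : FusionSystem S) {Q R : Subgroup Ω} (hQ : Q ≤ S) (hR : R ≤ S) {s : Ω} (hs : s ∈ S) :
    SC F Q R (fun x => s * x * s⁻¹) :=
  ⟨fun x => s * x * s⁻¹, isFM_conj F (sup_le hR hQ) hs, fun _ _ => rfl, s, hs, fun _ _ => rfl⟩

theorem SC.comp {F : FusionSystem S} {Q R R' : Subgroup Ω} {θ θ' : Ω → Ω}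
    (hQn : ∀ s ∈ S, ∀ q ∈ Q, s * q * s⁻¹ ∈ Q) (h : SC F Q R θ)
    (h' : SC F Q R' θ') (hRR' : ∀ x ∈ R, θ x ∈ R') : SC F Q R (fun x => θ' (θ x)) := by
  obtain ⟨θ₁, h1, h2, s, hs, h3⟩ := h
  obtain ⟨θ₁', h1', h2', t, ht, h3'⟩ := h'
  have hmap : ∀ x ∈ R ⊔ Q, θ₁ x ∈ R' ⊔ Q :=
    h1.map_sup_mem le_sup_left le_sup_right
      (fun x hx => (le_sup_left : R' ≤ R' ⊔ Q) (by rw [h2 x hx]; exact hRR' x hx))
      (fun u hu => (le_sup_right : Q ≤ R' ⊔ Q) (by rw [h3 u hu]; exact hQn s hs u hu))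
  refine ⟨fun x => θ₁' (θ₁ x), h1.comp h1' hmap, fun x hx => ?_, t * s, S.mul_mem ht hs, fun q hq => ?_⟩
  · show θ₁' (θ₁ x) = θ' (θ x)
    rw [h2 x hx, h2' _ (hRR' x hx)]
  · show θ₁' (θ₁ q) = _
    rw [h3 q hq, h3' _ (hQn s hs q hq)]
    group

theorem SC.inverse {F : FusionSystem S} {Q R R' : Subgroup Ω} [Finite Q] {θ θinv : Ω → Ω}
    (hQn : ∀ s ∈ S, ∀ q ∈ Q, s * q * s⁻¹ ∈ Q) (h : SC F Q R θ)
    (hi : IsImage R θ R') (hinv : ∀ x ∈ R, θinv (θ x) = x) : SC F Q R' θinv := by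
  obtain ⟨θ₁, h1, h2, s, hs, h3⟩ := h
  have hiR : IsImage R θ₁ R' := hi.congr (fun x hx => (h2 x hx).symm)
  have hiQ : IsImage Q θ₁ Q := h1.isImage_self_of_forall_mem le_sup_right
    (fun q hq => by rw [h3 q hq]; exact hQn s hs q hq)
  have hisup : IsImage (R ⊔ Q) θ₁ (R' ⊔ Q) := h1.isImage_sup le_sup_left le_sup_right hiR hiQ
  obtain ⟨θ₂, hθ₂, -, hl, hr⟩ := h1.exists_inverse hisup
  refine ⟨θ₂, hθ₂, fun y hy => ?_, s⁻¹, S.inv_mem hs, fun q hq => ?_⟩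
  · obtain ⟨x, hx, rfl⟩ := (hi y).mp hy
    rw [hinv x hx, ← h2 x hx, hl x (le_sup_left (a := R) (b := Q) hx)]
  · have hq' : s⁻¹ * q * s ∈ Q := by
      have := hQn s⁻¹ (S.inv_mem hs) q hq
      simpa using this
    have e : q = θ₁ (s⁻¹ * q * s) := by
      rw [h3 _ hq']; group
    conv_lhs => rw [e]
    rw [hl _ (le_sup_right (a := R) (b := Q) hq'), inv_inv]

/-- The maps of `S C_F(Q)`, as a closed predicate. -/
def scPred (F : FusionSystem S) (Q : Subgroup Ω) (hQ : Q ≤ S) (hQn : ∀ s ∈ S, ∀ q ∈ Q, s * q * s⁻¹ ∈ Q)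
    [Finite Q] : HomPred F where
  C P φ := SC F Q P (ofHom φ)
  conj := by
    intro P g hP hg
    refine (sc_conj F hQ hP hg).congr (fun x hx => ?_)
    rw [ofHom_apply' _ hx]
    rfl
  comp := by
    intro P R φ ψ hφ hψ hCφ hCψ h
    have hval : ∀ x ∈ P, ofHom φ x ∈ R := fun x hx => by
      rw [ofHom_apply' _ hx]; exact h ⟨x, hx⟩
    refine (hCφ.comp hQn hCψ hval).congr (fun x hx => ?_)
    rw [ofHom_apply' _ hx, ofHom_apply' _ hx, ofHom_apply' ψ (h ⟨x, hx⟩)]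
    rfl
  inv := by
    intro P φ hφ hCφ ψ hψ hψx
    have hi : IsImage P (ofHom φ) φ.range := by
      intro y
      constructor
      · rintro ⟨x, rfl⟩
        exact ⟨x, x.2, ofHom_apply φ x⟩
      · rintro ⟨x, hx, rfl⟩
        exact ⟨⟨x, hx⟩, (ofHom_apply' φ hx).symm⟩
    apply hCφ.inverse hQn hi
    intro x hx
    have hm : ofHom φ x ∈ φ.range := hi.mem hx
    rw [ofHom_apply' ψ hm]
    have e : (⟨ofHom φ x, hm⟩ : ↥φ.range) = ⟨φ ⟨x, hx⟩, ⟨⟨x, hx⟩, rfl⟩⟩ :=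
      Subtype.ext (ofHom_apply' φ hx)
    rw [e, hψx]

/-- The system `S C_F(Q)`. -/
def scSystem (F : FusionSystem S) (Q : Subgroup Ω) (hQ : Q ≤ S) (hQn : ∀ s ∈ S, ∀ q ∈ Q, s * q * s⁻¹ ∈ Q)
    [Finite Q] : FusionSystem S := (scPred F Q hQ hQn).system

theorem isFM_scSystem_iff (F : FusionSystem S) (Q : Subgroup Ω) (hQ : Q ≤ S)
    (hQn : ∀ s ∈ S, ∀ q ∈ Q, s * q * s⁻¹ ∈ Q) [Finite Q] {R : Subgroup Ω} {θ : Ω → Ω} :
    IsFM (scSystem F Q hQ hQn) R θ ↔ SC F Q R θ := by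
  constructor
  · rintro ⟨φ, ⟨hφ, hC⟩, h1⟩
    exact SC.congr hC (fun x hx => by rw [ofHom_apply' φ hx]; exact h1 ⟨x, hx⟩)
  · intro h
    obtain ⟨φ, hφ, h1⟩ := h.isFM
    refine ⟨φ, ⟨hφ, ?_⟩, h1⟩
    exact SC.congr h (fun x hx => by rw [ofHom_apply' φ hx]; exact (h1 ⟨x, hx⟩).symm)

theorem scSystem_le (F : FusionSystem S) (Q : Subgroup Ω) (hQ : Q ≤ S)
    (hQn : ∀ s ∈ S, ∀ q ∈ Q, s * q * s⁻¹ ∈ Q) [Finite Q] : scSystem F Q hQ hQn ≤ F :=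
  fun P φ hφ => hφ.1

theorem NK_autInducedBy_eq (Q : Subgroup Ω) (hQn : ∀ s ∈ S, ∀ q ∈ Q, s * q * s⁻¹ ∈ Q) [Finite Q] :
    NK S Q (autInducedBy S Q) = S := by
  apply le_antisymm (NK_le S Q _)
  intro s hs
  have hsN : s ∈ Subgroup.normalizer (Q : Set Ω) := mem_normalizer_of_conj_mem_finite (hQn s hs)
  refine ⟨hs, Q.normalizerMonoidHom ⟨s, hsN⟩, ?_, fun t => rfl⟩
  rw [mem_autInducedBy_iff]
  exact ⟨s, hs, fun x => rfl⟩

theorem scSystem_saturated [Finite S] {p : ℕ} [Fact p.Prime] (hS : IsPGroup p S) (F : FusionSystem S)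
    (hF : F.IsSaturated p) (Q : Subgroup Ω) (hQ : Q ≤ S) (hQn : ∀ s ∈ S, ∀ q ∈ Q, s * q * s⁻¹ ∈ Q)
    [Finite Q] : (scSystem F Q hQ hQn).IsSaturated p := by
  have hNK := NK_autInducedBy_eq (S := S) Q hQn
  apply kNormalizer_saturated' hS F hF (Q := Q) (K := autInducedBy S Q) ?_ hNK.symm
  · intro P φ
    constructor
    · rintro ⟨hφ, θ', hθ', hext, s, hs, hact⟩
      have hsN : s ∈ Subgroup.normalizer (Q : Set Ω) := mem_normalizer_of_conj_mem_finite (hQn s hs)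
      obtain ⟨ψ, hψ, hψ1⟩ := hθ'
      refine ⟨hφ, ?_, ?_, ψ, hψ, fun x => ?_, Q.normalizerMonoidHom ⟨s, hsN⟩, ?_, fun q => ?_⟩
      · rw [hNK]; exact hom_le F hφ
      · intro x
        rw [hNK]; exact hom_apply_mem F hφ x
      · rw [hψ1]
        show θ' (x : Ω) = φ x
        rw [hext x x.2, ofHom_apply]
      · rw [mem_autInducedBy_iff]
        exact ⟨s, hs, fun x => rfl⟩
      · rw [hψ1]
        show θ' (q : Ω) = s * q * s⁻¹
        exact hact q q.2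
    · rintro ⟨hφ, -, -, ψ, hψ, hext, k, hk, hact⟩
      obtain ⟨s, hs, hks⟩ := (mem_autInducedBy_iff S Q k).mp hk
      refine ⟨hφ, ofHom ψ, isFM_ofHom hψ, fun x hx => ?_, s, hs, fun q hq => ?_⟩
      · rw [ofHom_apply' ψ ((le_sup_left : P ≤ P ⊔ Q) hx), ofHom_apply' φ hx]
        exact hext ⟨x, hx⟩
      · rw [ofHom_apply' ψ ((le_sup_right : Q ≤ P ⊔ Q) hq)]
        have := hact ⟨q, hq⟩
        rw [← hks ⟨q, hq⟩]
        exact this
  · refine ⟨hQ, fun Q' e he => ?_⟩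
    rw [hNK]
    exact Subgroup.card_le_of_le (NK_le S Q' _)

end Cfsg.Agent.Lib.Helper27.KL
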