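import Cfsg.Agent.Lib.Helper27.KL4
import Cfsg.Agent.Lib.Helper27.ModelNormal

/-!
helper27: for `Q` normal in a saturated fusion system `F`, a subgroup `U ≥ Q` that is centric in `S C_F(Q)` is
centric in `F`.
-/

set_option autoImplicit false
set_option linter.unusedSectionVars false
set_option linter.unusedVariables false

namespace Cfsg.Agent.Lib.Helper27.KL

open Cfsg Cfsg.FusionSystem Cfsg.Agent.Lib.Helper26 Cfsg.Agent.Lib.Helper27.FM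
  Cfsg.Agent.Lib.Helper27.ModelRad

variable {Ω : Type*} [Group Ω] {S : Subgroup Ω}

/-- Receptivity in terms of partial maps. -/
theorem exists_ext_of_receptive {F : FusionSystem S} {P Q X : Subgroup Ω} (hRec : F.IsReceptive Q)
    (φ : P →* Ω) (hφ : φ ∈ F.Hom P) (hr : φ.range = Q) (hX : X ≤ extender S P φ) :
    ∃ γ' : Ω → Ω, IsFM F (X ⊔ P) γ' ∧ ∀ x : P, γ' x = φ x := by
  obtain ⟨ψ, hψ, hψφ⟩ := hRec.2 P φ hφ hr
  have hPS : P ≤ S := hom_le F hφ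
  have hPe : P ≤ extender S P φ := le_extender hPS φ (hom_apply_mem F hφ)
  have hle : X ⊔ P ≤ extender S P φ := sup_le hX hPe
  refine ⟨ofHom ψ, (isFM_ofHom hψ).mono hle, fun x => ?_⟩
  rw [ofHom_apply' ψ (hPe x.2)]
  exact hψφ x x.2 (hPe x.2)

theorem isCentric_of_isCentric_sc [Finite S] {p : ℕ} [Fact p.Prime] (hS : IsPGroup p S) (F : FusionSystem S)
    (hF : F.IsSaturated p) {Q U : Subgroup Ω} (hQ : F.IsNormal Q) [Finite Q]
    (hQn : ∀ s ∈ S, ∀ q ∈ Q, s * q * s⁻¹ ∈ Q) (hQU : Q ≤ U)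
    (hU : (scSystem F Q hQ.1 hQn).IsCentric U) : F.IsCentric U := by
  have hQS : Q ≤ S := hQ.1
  have hUS : U ≤ S := hU.1
  have hsc := stronglyClosed_of_isNormal F hQ
  have hQfn : F.IsFullyNormalized Q := isFullyNormalized_of_isNormal F hQ
  have hRec := saturated_fn_receptive hS F hF hQfn
  refine ⟨hUS, fun U' hconj => ?_⟩
  obtain ⟨ψ, hψ, hψU⟩ := (isConj_iff_isFM F).mp hconj
  have hU'S : U' ≤ S := hψ.isImage_le hψU
  have hψQ : ∀ q ∈ Q, ψ q ∈ Q := fun q hq => hψ.mem_of_stronglyClosed hsc (hQU hq) hq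
  have hiQ : IsImage Q ψ Q := hψ.isImage_self_of_forall_mem hQU hψQ
  have hQU' : Q ≤ U' := fun q hq => by
    obtain ⟨q', hq', rfl⟩ := (hiQ q).mp hq
    exact hψU.mem (hQU hq')
  obtain ⟨γ, hγ, hγi, hγl, hγr⟩ := (hψ.mono hQU).exists_inverse hiQ
  obtain ⟨φ, hφ, hφγ⟩ := hγ
  have hφr : φ.range = Q := by
    ext y
    rw [hγi y]
    constructor
    · rintro ⟨x, rfl⟩
      exact ⟨x, x.2, (hφγ x).symm⟩
    · rintro ⟨x, hx, rfl⟩
      exact ⟨⟨x, hx⟩, hφγ ⟨x, hx⟩⟩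
  -- `U'` and `C_S(Q)` lie in the extender
  have hU'ext : U' ≤ extender S Q φ := by
    intro g hg
    obtain ⟨u, hu, rfl⟩ := (hψU g).mp hg
    have huN : ∀ q ∈ Q, u * q * u⁻¹ ∈ Q := hQn u (hUS hu)
    rw [mem_extender_iff]
    refine ⟨hψ.mem hu, ?_, u, hUS hu, fun x hx => ?_⟩
    · apply mem_normalizer_of_conj_mem_finite
      intro q hq
      obtain ⟨q', hq', rfl⟩ := (hiQ q).mp hq
      rw [← hψ.map_inv hu, ← hψ.map_mul hu (hQU hq'), ← hψ.map_mul (U.mul_mem hu (hQU hq')) (U.inv_mem hu)]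
      exact hψQ _ (huN q' hq')
    · rw [hφγ, hφγ]
      obtain ⟨x', hx', hxe⟩ := (hiQ x).mp x.2
      show γ (ψ u * (x : Ω) * (ψ u)⁻¹) = u * γ x * u⁻¹
      rw [← hxe, ← hψ.map_inv hu, ← hψ.map_mul hu (hQU hx'),
        ← hψ.map_mul (U.mul_mem hu (hQU hx')) (U.inv_mem hu), hγl _ (huN x' hx'), hγl x' hx']
  have hCext : centralizerIn S Q ≤ extender S Q φ := centralizerIn_le_extender Q φ
  obtain ⟨γ', hγ', hγ'φ⟩ := exists_ext_of_receptive hRec φ hφ hφr (sup_le hU'ext hCext)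
  have hγ'Q : ∀ q ∈ Q, γ' q = γ q := fun q hq => by
    rw [hγ'φ ⟨q, hq⟩, hφγ ⟨q, hq⟩]
  have hU'dom : U' ≤ (U' ⊔ centralizerIn S Q) ⊔ Q := le_sup_left.trans le_sup_left
  have hCdom : centralizerIn S Q ≤ (U' ⊔ centralizerIn S Q) ⊔ Q := le_sup_right.trans le_sup_left
  -- the composite fixes `Q` pointwise
  have hξ : IsFM F U (fun x => γ' (ψ x)) := hψ.comp hγ' (fun x hx => hU'dom (hψU.mem hx))
  have hξfix : ∀ q ∈ Q, γ' (ψ q) = q := fun q hq => by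
    rw [hγ'Q _ (hψQ q hq), hγl q hq]
  have hξsc : SC F Q U (fun x => γ' (ψ x)) := SC.of_fix hQU hξ hξfix
  obtain ⟨U₄, hU₄⟩ := hξ.exists_image
  have hDconj : (scSystem F Q hQ.1 hQn).IsConj U U₄ :=
    (isConj_iff_isFM _).mpr ⟨_, (isFM_scSystem_iff F Q hQ.1 hQn).mpr hξsc, hU₄⟩
  have hcen := hU.2 U₄ hDconj
  intro c hc
  obtain ⟨hcS, hcc⟩ := mem_centralizerIn_iff.mp hc
  have hcQ : c ∈ centralizerIn S Q := mem_centralizerIn_iff.mpr ⟨hcS, fun x hx => hcc x (hQU' hx)⟩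
  have hγ'c : γ' c ∈ centralizerIn S U₄ := by
    rw [mem_centralizerIn_iff]
    refine ⟨hγ'.mem (hCdom hcQ), fun y hy => ?_⟩
    obtain ⟨u, hu, rfl⟩ := (hU₄ y).mp hy
    show γ' (ψ u) * γ' c = γ' c * γ' (ψ u)
    rw [← hγ'.map_mul (hU'dom (hψU.mem hu)) (hCdom hcQ), ← hγ'.map_mul (hCdom hcQ) (hU'dom (hψU.mem hu)),
      hcc _ (hψU.mem hu)]
  obtain ⟨u, hu, he⟩ := (hU₄ _).mp (hcen hγ'c)
  have := hγ'.injOn (hU'dom (hψU.mem hu)) (hCdom hcQ) he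
  rw [← this]
  exact hψU.mem hu

end Cfsg.Agent.Lib.Helper27.KL
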