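import Cfsg.Agent.Lib.Helper27.KL5
import Cfsg.Agent.Lib.Helper27.FMCentric

/-!
helper27: transported realizations of normalizer systems, and the realization of the normalizer systems of
`S C_F(Q)` inside models of normalizer systems of `F`.
-/

set_option autoImplicit false
set_option linter.unusedSectionVars false
set_option linter.unusedVariables false

namespace Cfsg.Agent.Lib.Helper27.KL

open Cfsg Cfsg.FusionSystem Cfsg.Agent.Lib.Helper26 Cfsg.Agent.Lib.Helper27.FM

universe u

variable {Ω : Type u} [Group Ω] {S : Subgroup Ω}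

/-- Transported realization: the maps of `F` on subgroups between `U` and `N_S(U)` that normalize `U`, read through a
map `φ : N_S(U) → N_S(Us)` of `F` carrying `U` onto `Us` and a realization `ιs` of `N_F(Us)` in which the image of
`Us` is normal, are the conjugations by elements of the realizing group. -/
theorem transported_realization [Finite S] (F : FusionSystem S) {U Us : Subgroup Ω} (hUS : U ≤ S) (hUsS : Us ≤ S)
    (Ns : FusionSystem (normalizerIn S Us)) (hNs : F.IsNormalizerSystem Us Ns)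
    (φ : ↥(normalizerIn S U) →* Ω) (hφ : φ ∈ F.Hom (normalizerIn S U)) (hval : ∀ x, φ x ∈ normalizerIn S Us)
    (hmap : (U.subgroupOf (normalizerIn S U)).map φ = Us)
    {Ls : Type*} [Group Ls] [Finite Ls] (ιs : ↥(normalizerIn S Us) →* Ls) (hreal : Ns.IsRealizedBy ιs)
    (hnorm : ((Us.subgroupOf (normalizerIn S Us)).map ιs).Normal)
    {R : Subgroup Ω} {θ : Ω → Ω} (hUR : U ≤ R) (hRA : R ≤ normalizerIn S U)
    (hθA : ∀ x ∈ R, θ x ∈ normalizerIn S U) :
    (IsFM F R θ ∧ ∀ u ∈ U, θ u ∈ U) ↔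
      ∃ g : Ls, ∀ x ∈ R, ext1 ιs (ofHom φ (θ x)) = g * ext1 ιs (ofHom φ x) * g⁻¹ := by
  have hUA : U ≤ normalizerIn S U := le_normalizerIn hUS
  have hAS : normalizerIn S U ≤ S := normalizerIn_le S U
  haveI : Finite ↥(normalizerIn S U) := finite_of_le hAS
  have hN := normalizerSystem_isNormalizerSystem F U hUS
  have hN' := normalizerSystem_isNormalizerSystem (normalizerSystem F U hUS) U hUA
  have hAA' : normalizerIn S U ≤ normalizerIn (normalizerIn S U) U := fun x hx => ⟨hx, hx.2⟩
  have hQs : IsImage U (ofHom φ) Us := isImage_of_map_eq φ hUA hmap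
  obtain ⟨ιH, hcoe, hrealH⟩ := exists_realization_in_normalizer F (le_refl U) hUA _ hN _ hN' hUsS Ns hNs φ hφ hval
    hmap ιs hreal hnorm Us hQs
  have hRA' : R ≤ normalizerIn (normalizerIn S U) U := hRA.trans hAA'
  have hθA' : ∀ x ∈ R, θ x ∈ normalizerIn (normalizerIn S U) U := fun x hx => hAA' (hθA x hx)
  have h1 := isFM_double_normalizer_iff F (le_refl U) hUA _ hN _ hN' (P := R) (θ := θ)
  have h2 := isFM_iff_of_realized hrealH (P := R) (θ := θ)
  have hcoe' : ∀ x ∈ normalizerIn (normalizerIn S U) U, ((ext1 ιH x : _) : Ls) = ext1 ιs (ofHom φ x) := by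
    intro x hx
    rw [ext1_apply ιH hx]
    exact hcoe ⟨x, hx⟩
  have hsup : R ⊔ U = R := sup_eq_left.mpr hUR
  constructor
  · rintro ⟨hθ, hθU⟩
    have h3 : IsFM (normalizerSystem (normalizerSystem F U hUS) U hUA) R θ :=
      h1.mpr ⟨hRA', hθA', θ, hθ.of_eq hsup, fun _ _ => rfl, hθU, hθU⟩
    obtain ⟨-, -, g, hg⟩ := h2.mp h3
    refine ⟨(g : Ls), fun x hx => ?_⟩
    have := congrArg Subtype.val (hg x hx)
    rw [Subgroup.coe_mul, Subgroup.coe_mul, Subgroup.coe_inv, hcoe' _ (hθA' x hx), hcoe' _ (hRA' hx)] at this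
    exact this
  · rintro ⟨g, hg⟩
    have hgH : g ∈ Subgroup.normalizer
        (((Us.subgroupOf (normalizerIn S Us)).map ιs : Subgroup Ls) : Set Ls) := by
      rw [Subgroup.normalizer_eq_top_iff.mpr hnorm]
      trivial
    have h3 : IsFM (normalizerSystem (normalizerSystem F U hUS) U hUA) R θ := by
      apply h2.mpr
      refine ⟨hRA', hθA', ⟨g, hgH⟩, fun x hx => ?_⟩
      apply Subtype.ext
      rw [Subgroup.coe_mul, Subgroup.coe_mul, Subgroup.coe_inv, hcoe' _ (hθA' x hx), hcoe' _ (hRA' hx)]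
      exact hg x hx
    obtain ⟨-, -, θ', hθ', hext, hU', -⟩ := h1.mp h3
    have hθ : IsFM F R θ := (hθ'.mono le_sup_left).congr hext
    refine ⟨hθ, fun u hu => ?_⟩
    rw [← hext u (hUR hu)]
    exact hU' u hu

end Cfsg.Agent.Lib.Helper27.KL
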