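import Cfsg.Agent.Lib.Helper27.KL6

/-!
helper27: the normalizer systems of `S C_F(Q)` are realized inside the groups realizing normalizer systems of `F`.
-/

set_option autoImplicit false
set_option linter.unusedSectionVars false
set_option linter.unusedVariables false

namespace Cfsg.Agent.Lib.Helper27.KL

open Cfsg Cfsg.FusionSystem Cfsg.Agent.Lib.Helper26 Cfsg.Agent.Lib.Helper27.FM

universe u

variable {Ω : Type u} [Group Ω] {S : Subgroup Ω}

/-- The elements `g` acting, through `k`, on `Q` as an element of `S` does by conjugation. -/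
def conjTransporter {G : Type*} [Group G] (k : Ω → G) (S Q : Subgroup Ω)
    (hQn : ∀ s ∈ S, ∀ q ∈ Q, s * q * s⁻¹ ∈ Q) : Subgroup G where
  carrier := {g | ∃ s ∈ S, ∀ q ∈ Q, g * k q * g⁻¹ = k (s * q * s⁻¹)}
  one_mem' := ⟨1, S.one_mem, fun q hq => by simp⟩
  mul_mem' := by
    rintro a b ⟨s, hs, ha⟩ ⟨t, ht, hb⟩
    refine ⟨s * t, S.mul_mem hs ht, fun q hq => ?_⟩
    have h1 := hb q hq
    have h2 := ha _ (hQn t ht q hq)
    have e : s * t * q * (s * t)⁻¹ = s * (t * q * t⁻¹) * s⁻¹ := by group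
    rw [e, ← h2, ← h1]
    group
  inv_mem' := by
    rintro a ⟨s, hs, ha⟩
    refine ⟨s⁻¹, S.inv_mem hs, fun q hq => ?_⟩
    have hq' : s⁻¹ * q * s⁻¹⁻¹ ∈ Q := hQn s⁻¹ (S.inv_mem hs) q hq
    have h1 := ha _ hq'
    have e : s * (s⁻¹ * q * s⁻¹⁻¹) * s⁻¹ = q := by group
    rw [e] at h1
    rw [← h1]
    group

theorem mem_conjTransporter {G : Type*} [Group G] (k : Ω → G) (S Q : Subgroup Ω)
    (hQn : ∀ s ∈ S, ∀ q ∈ Q, s * q * s⁻¹ ∈ Q) (g : G) :
    g ∈ conjTransporter k S Q hQn ↔ ∃ s ∈ S, ∀ q ∈ Q, g * k q * g⁻¹ = k (s * q * s⁻¹) := Iff.rfl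

/-- The realization of `N_{S C_F(Q)}(U)` inside a group realizing `N_F(Us)`. -/
theorem sc_realization [Finite S] (F : FusionSystem S) {Q U : Subgroup Ω} [Finite Q] (hQU : Q ≤ U) (hUS : U ≤ S)
    (hQn : ∀ s ∈ S, ∀ q ∈ Q, s * q * s⁻¹ ∈ Q)
    (N' : FusionSystem (normalizerIn S U))
    (hN' : (scSystem F Q (hQU.trans hUS) hQn).IsNormalizerSystem U N')
    {Us : Subgroup Ω} (hUsS : Us ≤ S) (Ns : FusionSystem (normalizerIn S Us)) (hNs : F.IsNormalizerSystem Us Ns)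
    (φ : ↥(normalizerIn S U) →* Ω) (hφ : φ ∈ F.Hom (normalizerIn S U)) (hval : ∀ x, φ x ∈ normalizerIn S Us)
    (hmap : (U.subgroupOf (normalizerIn S U)).map φ = Us)
    {Ls : Type*} [Group Ls] [Finite Ls] (ιs : ↥(normalizerIn S Us) →* Ls) (hreal : Ns.IsRealizedBy ιs)
    (hnorm : ((Us.subgroupOf (normalizerIn S Us)).map ιs).Normal) :
    ∃ (H : Subgroup Ls) (ιH : ↥(normalizerIn S U) →* ↥H),
      (∀ x, ((ιH x : _) : Ls) = ext1 ιs (ofHom φ x)) ∧ N'.IsRealizedBy ιH := by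
  classical
  have hQS : Q ≤ S := hQU.trans hUS
  have hUA : U ≤ normalizerIn S U := le_normalizerIn hUS
  have hAS : normalizerIn S U ≤ S := normalizerIn_le S U
  have hQA : Q ≤ normalizerIn S U := hQU.trans hUA
  have hTsS : normalizerIn S Us ≤ S := normalizerIn_le S Us
  have hUsTs : Us ≤ normalizerIn S Us := le_normalizerIn hUsS
  haveI : Finite ↥(normalizerIn S Us) := finite_of_le hTsS
  haveI : Finite ↥(normalizerIn S U) := finite_of_le hAS
  set α : Ω → Ω := ofHom φ with hαdef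
  have hα : IsFM F (normalizerIn S U) α := isFM_ofHom hφ
  have hαT : ∀ x ∈ normalizerIn S U, α x ∈ normalizerIn S Us := fun x hx => by
    rw [hαdef, ofHom_apply' φ hx]; exact hval _
  have hαU : IsImage U α Us := isImage_of_map_eq φ hUA hmap
  set κ : ↥(normalizerIn S U) →* Ls := ιs.comp (φ.codRestrict (normalizerIn S Us) hval) with hκdef
  have hκ : ∀ x (hx : x ∈ normalizerIn S U), κ ⟨x, hx⟩ = ext1 ιs (α x) := by
    intro x hx
    rw [ext1_apply ιs (hαT x hx)]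
    show ιs ⟨φ ⟨x, hx⟩, _⟩ = ιs ⟨α x, _⟩
    congr 1
    exact Subtype.ext (ofHom_apply' φ hx).symm
  have hκ' : ∀ x ∈ normalizerIn S U, ext1 κ x = ext1 ιs (α x) := fun x hx => by
    rw [ext1_apply κ hx]; exact hκ x hx
  have hκinj : Function.Injective κ := by
    intro a b hab
    have h1 : ext1 ιs (α a) = ext1 ιs (α b) := by
      rw [← hκ a a.2, ← hκ b b.2]; exact hab
    have h2 := ext1_injOn ιs hreal.1 (hαT a a.2) (hαT b b.2) h1
    exact Subtype.ext (hα.injOn a.2 b.2 h2)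
  set H : Subgroup Ls := conjTransporter (ext1 κ) S Q hQn with hHdef
  have hmemH : ∀ x : ↥(normalizerIn S U), κ x ∈ H := by
    intro x
    refine ⟨x, hAS x.2, fun q hq => ?_⟩
    rw [ext1_conj κ x.2 (hQA hq), ext1_coe]
  let ιH : ↥(normalizerIn S U) →* ↥H := κ.codRestrict H hmemH
  have hcoe : ∀ x : ↥(normalizerIn S U), ((ιH x : ↥H) : Ls) = ext1 ιs (α x) := fun x => hκ x x.2
  have hinjH : Function.Injective ιH := by
    intro a b hab
    exact hκinj (congrArg Subtype.val hab)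
  refine ⟨H, ιH, hcoe, ?_⟩
  apply isRealizedBy_of_forall N' ιH hinjH
  intro P θ hPA hθA
  have hcoe' : ∀ x ∈ normalizerIn S U, ((ext1 ιH x : ↥H) : Ls) = ext1 ιs (α x) := by
    intro x hx
    rw [ext1_apply ιH hx]
    exact hcoe ⟨x, hx⟩
  have hPUA : P ⊔ U ≤ normalizerIn S U := sup_le hPA hUA
  have hQPU : Q ≤ P ⊔ U := hQU.trans le_sup_right
  have hUPU : U ≤ P ⊔ U := le_sup_right
  rw [isFM_normalizer_iff (scSystem F Q hQS hQn) hUS N' hN']
  constructor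
  · rintro ⟨-, -, θ₁, hθ₁, hext, hU'⟩
    rw [isFM_scSystem_iff] at hθ₁
    have hθ₁F : IsFM F (P ⊔ U) θ₁ := hθ₁.isFM
    obtain ⟨θ₂, hθ₂, hagree, s, hs, hact⟩ := hθ₁
    have hθ₁A : ∀ x ∈ P ⊔ U, θ₁ x ∈ normalizerIn S U :=
      hθ₁F.map_sup_mem le_sup_left le_sup_right
        (fun x hx => by rw [hext x hx]; exact hθA x hx) (fun x hx => hUA (hU' x hx))
    obtain ⟨g, hg⟩ := (transported_realization F hUS hUsS Ns hNs φ hφ hval hmap ιs hreal hnorm hUPU hPUA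
      hθ₁A).mp ⟨hθ₁F, hU'⟩
    have hgH : g ∈ H := by
      refine ⟨s, hs, fun q hq => ?_⟩
      rw [hκ' q (hQA hq), hκ' _ (hQA (hQn s hs q hq)), ← hg q (hQPU hq), ← hagree q (hQPU hq), hact q hq]
    refine ⟨⟨g, hgH⟩, fun x hx => ?_⟩
    apply Subtype.ext
    rw [Subgroup.coe_mul, Subgroup.coe_mul, Subgroup.coe_inv, hcoe' _ (hθA x hx), hcoe' _ (hPA hx),
      ← hext x hx]
    exact hg x (le_sup_left (a := P) (b := U) hx)
  · rintro ⟨⟨g, s, hs, hgs⟩, hg⟩
    have hg' : ∀ x ∈ P, ext1 ιs (α (θ x)) = g * ext1 ιs (α x) * g⁻¹ := by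
      intro x hx
      have := congrArg Subtype.val (hg x hx)
      rw [Subgroup.coe_mul, Subgroup.coe_mul, Subgroup.coe_inv, hcoe' _ (hθA x hx), hcoe' _ (hPA hx)] at this
      exact this
    -- every element of `P ⊔ U` is carried by `g` into the image of `κ`
    have hY : ∀ x ∈ P ⊔ U, ∃ y : ↥(normalizerIn S U), κ y = g * ext1 κ x * g⁻¹ := by
      set Y : Subgroup Ω :=
        (Subgroup.comap ((MulAut.conj g).toMonoidHom.comp κ) κ.range).map (normalizerIn S U).subtype with hYdef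
      have hmemY : ∀ x (hx : x ∈ normalizerIn S U), (∃ y, κ y = g * κ ⟨x, hx⟩ * g⁻¹) → x ∈ Y := by
        intro x hx hy
        exact ⟨⟨x, hx⟩, hy, rfl⟩
      have hPY : P ≤ Y := by
        intro x hx
        refine hmemY x (hPA hx) ⟨⟨θ x, hθA x hx⟩, ?_⟩
        rw [hκ _ (hθA x hx), hκ _ (hPA hx)]
        exact hg' x hx
      have hUY : U ≤ Y := by
        intro u hu
        have h1 : κ ⟨u, hUA hu⟩ ∈ (Us.subgroupOf (normalizerIn S Us)).map ιs := by
          rw [hκ u (hUA hu)]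
          exact ext1_mem_map ιs (hαU.mem hu) (hUsTs (hαU.mem hu))
        have h2 := hnorm.conj_mem _ h1 g
        obtain ⟨y, hyUs, hyTs, hy⟩ := (mem_map_subgroupOf_iff ιs Us _).mp h2
        obtain ⟨u', hu', rfl⟩ := (hαU y).mp hyUs
        refine hmemY u (hUA hu) ⟨⟨u', hUA hu'⟩, ?_⟩
        rw [hκ u' (hUA hu')]
        exact hy
      intro x hx
      obtain ⟨x', hx', rfl⟩ := (sup_le hPY hUY) hx
      obtain ⟨y, hy⟩ := hx'
      refine ⟨y, ?_⟩
      rw [hy]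
      show g * κ x' * g⁻¹ = g * ext1 κ (x' : Ω) * g⁻¹
      rw [ext1_coe]
    set θ₁ : Ω → Ω := fun x => if h : ∃ y : ↥(normalizerIn S U), κ y = g * ext1 κ x * g⁻¹ then
      ((Classical.choose h : ↥(normalizerIn S U)) : Ω) else 1 with hθ₁def
    have hθ₁A : ∀ x ∈ P ⊔ U, θ₁ x ∈ normalizerIn S U := by
      intro x hx
      rw [hθ₁def]
      simp only [dif_pos (hY x hx)]
      exact (Classical.choose (hY x hx)).2
    have hθ₁g : ∀ x ∈ P ⊔ U, ext1 ιs (α (θ₁ x)) = g * ext1 ιs (α x) * g⁻¹ := by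
      intro x hx
      have h1 := Classical.choose_spec (hY x hx)
      have h2 : θ₁ x = ((Classical.choose (hY x hx) : ↥(normalizerIn S U)) : Ω) := by
        rw [hθ₁def]
        simp only [dif_pos (hY x hx)]
      rw [h2, ← hκ _ (Classical.choose (hY x hx)).2, ← hκ' x (hPUA hx)]
      exact h1
    obtain ⟨hθ₁F, hθ₁U⟩ := (transported_realization F hUS hUsS Ns hNs φ hφ hval hmap ιs hreal hnorm hUPU hPUA
      hθ₁A).mpr ⟨g, hθ₁g⟩
    have hinjA : ∀ a ∈ normalizerIn S U, ∀ b ∈ normalizerIn S U, ext1 ιs (α a) = ext1 ιs (α b) → a = b := by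
      intro a ha b hb hab
      have h2 := ext1_injOn ιs hreal.1 (hαT a ha) (hαT b hb) hab
      exact hα.injOn ha hb h2
    have hext : ∀ x ∈ P, θ₁ x = θ x := by
      intro x hx
      apply hinjA _ (hθ₁A x (le_sup_left (a := P) (b := U) hx)) _ (hθA x hx)
      rw [hθ₁g x (le_sup_left (a := P) (b := U) hx), hg' x hx]
    have hactQ : ∀ q ∈ Q, θ₁ q = s * q * s⁻¹ := by
      intro q hq
      apply hinjA _ (hθ₁A q (hQPU hq)) _ (hQA (hQn s hs q hq))
      rw [hθ₁g q (hQPU hq), ← hκ' q (hQA hq), ← hκ' _ (hQA (hQn s hs q hq))]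
      exact hgs q hq
    refine ⟨hPA, hθA, θ₁, ?_, hext, hθ₁U⟩
    rw [isFM_scSystem_iff]
    exact ⟨θ₁, hθ₁F.of_eq (sup_eq_left.mpr hQPU), fun _ _ => rfl, s, hs, hactQ⟩

end Cfsg.Agent.Lib.Helper27.KL
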