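import Cfsg.Agent.Lib.Helper27.KL7
import Cfsg.Agent.S5250

/-!
helper27: for `Q` normal in a saturated `Qd(p)`-free fusion system `F`, the system `S C_F(Q)` is `Qd(p)`-free.
-/

set_option autoImplicit false
set_option linter.unusedSectionVars false
set_option linter.unusedVariables false

namespace Cfsg.Agent.Lib.Helper27.KL

open Cfsg Cfsg.FusionSystem Cfsg.Agent.Lib.Helper26 Cfsg.Agent.Lib.Helper27.FM
  Cfsg.Agent.Lib.Helper26.ModelThm Cfsg.Agent.Lib.Helper27.ModelRad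

universe u

variable {Ω : Type u} [Group Ω] {S : Subgroup Ω}

theorem exists_sc_model_embedding [Finite S] {p : ℕ} [Fact p.Prime] (hS : IsPGroup p S) (F : FusionSystem S)
    (hF : F.IsSaturated p) {Q U : Subgroup Ω} [Finite Q] (hQU : Q ≤ U) (hUS : U ≤ S)
    (hQn : ∀ s ∈ S, ∀ q ∈ Q, s * q * s⁻¹ ∈ Q) (hUc : F.IsCentric U)
    (N' : FusionSystem (normalizerIn S U))
    (hN' : (scSystem F Q (hQU.trans hUS) hQn).IsNormalizerSystem U N')
    (hsat : N'.IsSaturated p) {L : Type*} [Group L] (ι : ↥(normalizerIn S U) →* L)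
    (hM : N'.IsModel p L ι) :
    ∃ Us : Subgroup Ω, F.IsFullyNormalized Us ∧ F.IsCentric Us ∧
      ∃ (Ns : FusionSystem (normalizerIn S Us)) (_ : F.IsNormalizerSystem Us Ns) (Ls : Type u) (_ : Group Ls)
        (ιs : ↥(normalizerIn S Us) →* Ls), Ns.IsModel p Ls ιs ∧ ∃ f : L →* Ls, Function.Injective f := by
  have hQS : Q ≤ S := hQU.trans hUS
  have hAS : normalizerIn S U ≤ S := normalizerIn_le S U
  have hUA : U ≤ normalizerIn S U := le_normalizerIn hUS
  obtain ⟨Us, hconj, hfn⟩ := exists_fullyNormalized_conj F hUS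
  have hFA := (saturated_fn hS F hF hfn).2
  have hRec := saturated_fn_receptive hS F hF hfn
  obtain ⟨φ, hφ, hval, hmap⟩ := exists_normalizer_hom hS F hFA hRec hconj
  have hUsS : Us ≤ S := hfn.1
  have hUsc : F.IsCentric Us := isCentric_of_conj F hUc hconj
  have hNs := normalizerSystem_isNormalizerSystem F Us hUsS
  have hTsS : normalizerIn S Us ≤ S := normalizerIn_le S Us
  have hUsTs : Us ≤ normalizerIn S Us := le_normalizerIn hUsS
  haveI : Finite ↥(normalizerIn S Us) := finite_of_le hTsS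
  have hpTs : IsPGroup p ↥(normalizerIn S Us) := hS.to_le hTsS
  have hsatNs := normalizerSystem_saturated hS F hF hfn _ hNs
  have hs : Setup p (normalizerSystem F Us hUsS) Us :=
    ⟨hpTs, hsatNs, isNormal_of_isNormalizerSystem F hUsS _ hNs, isCentric_of_isNormalizerSystem F hUsc _ hNs⟩
  haveI : Finite ↥Us := finite_of_le hUsS
  haveI : Finite (Mdl hs) := finite_Mdl hs
  have hαU : IsImage U (ofHom φ) Us := isImage_of_map_eq φ hUA hmap
  obtain ⟨H, ιH, hcoe, hrealH⟩ := sc_realization F hQU hUS hQn N' hN' hUsS _ hNs φ hφ hval hmap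
    (mIota hs) (realized hs) (QG_normal hs)
  haveI : Finite ↥(normalizerIn S U) := finite_of_le hAS
  have hpA : IsPGroup p ↥(normalizerIn S U) := hS.to_le hAS
  have hN'D : ∀ P, N'.Hom P ⊆ (scSystem F Q hQS hQn).Hom P := normalizer_hom_subset hN'
  have hDF : ∀ P, (scSystem F Q hQS hQn).Hom P ⊆ F.Hom P := fun P φ hφ => scSystem_le F Q hQS hQn P hφ
  have h' : Setup p N' U :=
    ⟨hpA, hsat, isNormal_of_isNormalizerSystem _ hUS N' hN',
      isCentric_of_subsystem hAS F N' (fun P => (hN'D P).trans (hDF P)) hUc hUA⟩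
  haveI : Finite ↥U := finite_of_le hUS
  have hmemU : ∀ w : ↥H, (w : Mdl hs) ∈ QG hs → w ∈ (U.subgroupOf (normalizerIn S U)).map ιH := by
    intro w hw
    obtain ⟨y, hyUs, hyTs, hy⟩ := (mem_map_subgroupOf_iff (mIota hs) Us _).mp hw
    obtain ⟨u, hu, rfl⟩ := (hαU y).mp hyUs
    refine ⟨⟨u, hUA hu⟩, hu, ?_⟩
    apply Subtype.ext
    rw [hcoe]
    exact hy
  have hUmem : ∀ w ∈ (U.subgroupOf (normalizerIn S U)).map ιH, (w : Mdl hs) ∈ QG hs := by
    rintro _ ⟨x, hx, rfl⟩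
    rw [hcoe]
    exact ext1_mem_map (mIota hs) (hαU.mem hx) (hUsTs (hαU.mem hx))
  have hNH : ((U.subgroupOf (normalizerIn S U)).map ιH).Normal := by
    constructor
    intro w hw h
    apply hmemU
    rw [Subgroup.coe_mul, Subgroup.coe_mul, Subgroup.coe_inv]
    exact (QG_normal hs).conj_mem _ (hUmem w hw) _
  have hCH : Subgroup.centralizer
      (((U.subgroupOf (normalizerIn S U)).map ιH : Subgroup _) : Set _) ≤
      (U.subgroupOf (normalizerIn S U)).map ιH := by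
    intro w hw
    apply hmemU
    apply centralizer_QG_le hs
    rw [Subgroup.mem_centralizer_iff]
    intro z hz
    obtain ⟨y, hyUs, hyTs, hy⟩ := (mem_map_subgroupOf_iff (mIota hs) Us _).mp hz
    obtain ⟨u, hu, rfl⟩ := (hαU y).mp hyUs
    have hmem : ιH ⟨u, hUA hu⟩ ∈ (U.subgroupOf (normalizerIn S U)).map ιH := ⟨_, hu, rfl⟩
    have h1 := Subgroup.mem_centralizer_iff.mp hw _ hmem
    have h2 := congrArg Subtype.val h1
    rw [Subgroup.coe_mul, Subgroup.coe_mul, hcoe] at h2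
    rw [← hy]
    exact h2
  obtain ⟨Φ, hΦ⟩ := exists_iso_of_realized h' hrealH hNH hCH
  obtain ⟨Ψ, hΨ⟩ := model_unique hpA ι (mIota h') hM (isModel h')
  refine ⟨Us, hfn, hUsc, _, hNs, Mdl hs, inferInstance, mIota hs, isModel hs,
    (Subgroup.subtype _).comp (Φ.toMonoidHom.comp Ψ.toMonoidHom), ?_⟩
  intro a b hab
  have h1 : Φ (Ψ a) = Φ (Ψ b) := Subtype.ext hab
  exact Ψ.injective (Φ.injective h1)

/-- `Q` is normal in `S C_F(Q)`. -/
theorem scSystem_isNormal [Finite S] (F : FusionSystem S) (Q : Subgroup Ω) (hQ : Q ≤ S)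
    (hQn : ∀ s ∈ S, ∀ q ∈ Q, s * q * s⁻¹ ∈ Q) [Finite Q] : (scSystem F Q hQ hQn).IsNormal Q := by
  apply isNormal_of_forall_isFM _ hQ
  intro P θ hθ
  rw [isFM_scSystem_iff] at hθ
  obtain ⟨θ', h1, h2, s, hs, h3⟩ := hθ
  refine ⟨θ', ?_, h2, fun q hq => by rw [h3 q hq]; exact hQn s hs q hq⟩
  rw [isFM_scSystem_iff]
  exact ⟨θ', h1.of_eq (by rw [sup_assoc, sup_idem]), fun _ _ => rfl, s, hs, h3⟩

/-- **`S C_F(Q)` is `Qd(p)`-free** when `F` is, for `Q` normal in `F`. -/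
theorem scSystem_sectionFree [Finite S] {p : ℕ} [Fact p.Prime] (hS : IsPGroup p S) (F : FusionSystem S)
    (hF : F.IsSaturated p) (hfree : F.IsSectionFree p ↥(Cfsg.qd p)) {Q : Subgroup Ω} (hQ : F.IsNormal Q)
    [Finite Q] (hQn : ∀ s ∈ S, ∀ q ∈ Q, s * q * s⁻¹ ∈ Q) :
    (scSystem F Q hQ.1 hQn).IsSectionFree p ↥(Cfsg.qd p) := by
  have hQS : Q ≤ S := hQ.1
  have hsatD := scSystem_saturated hS F hF Q hQS hQn
  have hQD := scSystem_isNormal F Q hQS hQn
  apply Cfsg.Agent.S5250.result p hS _ hsatD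
  intro U hUfn hUc hUr N' hN' L _ ι hM hinv
  have hQU : Q ≤ U := le_of_isNormal_of_centric_radical hS _ hQD hUc hUr
  have hUS : U ≤ S := hUc.1
  have hUcF : F.IsCentric U := isCentric_of_isCentric_sc hS F hF hQ hQn hQU hUc
  have hsatN' : N'.IsSaturated p := normalizerSystem_saturated hS _ hsatD hUfn N' hN'
  obtain ⟨Us, hUsfn, hUsc, Ns, hNs, Ls, instLs, ιs, hMs, f, hf⟩ :=
    exists_sc_model_embedding hS F hF hQU hUS hQn hUcF N' hN' hsatN' ι hM
  exact hfree Us hUsfn hUsc Ns hNs Ls ιs hMs (Cfsg.Agent.Lib.Helper27.involves_of_injective f hf hinv)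

end Cfsg.Agent.Lib.Helper27.KL
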