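import Cfsg.Agent.Lib.Helper27.KL8

/-!
helper27: the constrained case of the ZJ-theorem for fusion systems: if `F` has a normal centric subgroup, then
`W(S)` is normal in `F` for a Glauberman functor `W`.
-/

set_option autoImplicit false
set_option linter.unusedSectionVars false
set_option linter.unusedVariables false

namespace Cfsg.Agent.Lib.Helper27.KL

open Cfsg Cfsg.FusionSystem Cfsg.Agent.Lib.Helper26 Cfsg.Agent.Lib.Helper27.FM
  Cfsg.Agent.Lib.Helper26.ModelThm Cfsg.Agent.Lib.Helper27.ModelRad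

universe u

variable {Ω : Type u} [Group Ω] {S : Subgroup Ω}

/-- The Glauberman property of a functor. -/
def GlaubProp (p : ℕ) (W : ∀ (Q : Type u) [Group Q], Subgroup Q) : Prop :=
  ∀ (L : Type u) [Group L] [Finite L] (P : Sylow p L),
    Subgroup.centralizer ((Cfsg.pCore p L : Subgroup L) : Set L) =
      Cfsg.pCore p L ⊓ Subgroup.centralizer ((Cfsg.pCore p L : Subgroup L) : Set L) →
    ¬ Cfsg.Involves ↥(Cfsg.qd p) L →
    (((W ↥(P : Subgroup L)).map (P : Subgroup L).subtype : Subgroup L)).Normal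

theorem isNormal_WS_of_constrained [Finite S] {p : ℕ} [Fact p.Prime]
    {W : ∀ (Q : Type u) [Group Q], Subgroup Q} (hW : PosChar p W) (hW3 : GlaubProp p W)
    (hS : IsPGroup p S) (F : FusionSystem S) (hF : F.IsSaturated p)
    (hfree : F.IsSectionFree p ↥(Cfsg.qd p)) {Q : Subgroup Ω} (hQ : F.IsNormal Q) (hQc : F.IsCentric Q) :
    F.IsNormal (WS W S) := by
  have hQS : Q ≤ S := hQ.1
  have hs : Setup p F Q := ⟨hS, hF, hQ, hQc⟩
  haveI : Finite ↥Q := finite_of_le hQS
  haveI : Finite (Mdl hs) := finite_Mdl hs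
  have hM := isModel hs
  obtain ⟨-, hreal, ⟨T, hT⟩, hC⟩ := hM
  have hinv : ¬ Cfsg.Involves ↥(Cfsg.qd p) (Mdl hs) :=
    hfree Q (isFullyNormalized_of_isNormal F hQ) hQc (normalizerSystem F Q hQS)
      (normalizerSystem_isNormalizerSystem F Q hQS) (Mdl hs) _
      (isModel_normalizer_of_isNormal F hQ _ (normalizerSystem_isNormalizerSystem F Q hQS) p (mIota hs)
        (isModel hs))
  have hnorm := hW3 (Mdl hs) T (le_antisymm (le_inf hC le_rfl) inf_le_right) hinv
  have hle : ((W ↥(T : Subgroup (Mdl hs))).map (T : Subgroup (Mdl hs)).subtype : Subgroup (Mdl hs)) ≤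
      (mIota hs).range := by
    rw [← hT]
    exact Subgroup.map_subtype_le _
  have h1 := isNormal_pullSub_of_realized F (mIota hs) hreal _ hle
  have hinj : Function.Injective (mIota hs) := hreal.1
  -- the isomorphism of `S` with `T`
  let e : ↥S ≃* ↥(T : Subgroup (Mdl hs)) :=
    (MonoidHom.ofInjective hinj).trans (MulEquiv.subgroupCongr hT.symm)
  have he : ∀ s : ↥S, ((e s : ↥(T : Subgroup (Mdl hs))) : Mdl hs) = mIota hs s := fun s => rfl
  have h2 := hW.map_eq ↥S ↥(T : Subgroup (Mdl hs)) hS e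
  have heq : pullSub (mIota hs)
      ((W ↥(T : Subgroup (Mdl hs))).map (T : Subgroup (Mdl hs)).subtype) = WS W S := by
    ext x
    constructor
    · rintro ⟨s, hs', rfl⟩
      rw [mem_WS]
      refine ⟨s, ?_, rfl⟩
      have hs'' : mIota hs s ∈ (W ↥(T : Subgroup (Mdl hs))).map (T : Subgroup (Mdl hs)).subtype := hs'
      obtain ⟨t, ht, hts⟩ := hs''
      rw [← h2] at ht
      obtain ⟨s', hs'W, hs't⟩ := ht
      have : s' = s := by
        apply hinj
        rw [← he s', ← hts]
        exact congrArg Subtype.val hs't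
      rw [← this]
      exact hs'W
    · intro hx
      rw [mem_WS] at hx
      obtain ⟨s, hsW, rfl⟩ := hx
      refine ⟨s, ?_, rfl⟩
      show mIota hs s ∈ (W ↥(T : Subgroup (Mdl hs))).map (T : Subgroup (Mdl hs)).subtype
      refine ⟨e s, ?_, he s⟩
      rw [← h2]
      exact ⟨s, hsW, rfl⟩
  rw [← heq]
  exact h1

end Cfsg.Agent.Lib.Helper27.KL
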