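import Mathlib
import Cfsg.Agent.Lib.Helper29.KInfD

/-!
helper27: the lower K-infinity subgroup and quadratic action: if no element of the Sylow `p`-subgroup `S` outside
`O_p(G)` acts quadratically on the centre of a suitable normal subgroup `A ≤ O_p(G)` of class at most two, then all the
terms of the K-sequence of `S` lie in `O_p(G)` and the lower and upper K-infinity subgroups of `S` are normal in `G`
(after Glauberman; the chain of helper29's `KInfA`/`KInfC` with the quadratic hypothesis in place of `p`-stability).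
-/

set_option autoImplicit false
set_option linter.style.haveILetI false
set_option linter.unusedSectionVars false
set_option linter.unusedVariables false
open scoped commutatorElement

namespace Cfsg.Agent.Lib.Helper27.KQ

open Cfsg.Agent.Lib.Helper29.KInfN
open Cfsg.Agent.Lib.Helper29.CFun (le_normalizer_of_conj_mem commutator_le_right_of_le_normalizer
  commutator_le_left_of_le_normalizer)

universe u

variable {G : Type u} [Group G]

/-- The standing configuration: `A` is a normal subgroup of class at most two inside `O_p(G)` with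
`[A, O_p(G)] ≤ Z(A)`. -/
structure Cfg0 (p : ℕ) (A : Subgroup G) : Prop where
  normal : A.Normal
  le : A ≤ Cfsg.pCore p G
  cls : ⁅A, A⁆ ≤ Subgroup.centralizer (A : Set G)
  comm : ⁅A, Cfsg.pCore p G⁆ ≤ A ⊓ Subgroup.centralizer (A : Set G)

/-- Every element of `S` acting quadratically on `Z(A)` lies in `O_p(G)`. -/
def NoQuad (p : ℕ) (A S : Subgroup G) : Prop :=
  ∀ g ∈ S, ⁅⁅A ⊓ Subgroup.centralizer (A : Set G), Subgroup.zpowers g⁆, Subgroup.zpowers g⁆ = ⊥ →
    g ∈ Cfsg.pCore p G

variable {p : ℕ} [Fact p.Prime] {A S : Subgroup G} [Finite G]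

theorem upperStar_le_pCore' (hA : Cfg0 p A) (hN : NoQuad p A S) {B Q : Subgroup G} (hBS : B ≤ S) (hAQ : A ≤ Q)
    (hB : ⁅B, Q⁆ ≤ B ⊓ Subgroup.centralizer (B : Set G)) : B ≤ Cfsg.pCore p G := by
  intro b hb
  have hzb : Subgroup.zpowers b ≤ B := by rw [Subgroup.zpowers_le]; exact hb
  have h0 : ⁅⁅A, Subgroup.zpowers b⁆, Subgroup.zpowers b⁆ = ⊥ := by
    rw [eq_bot_iff]
    calc ⁅⁅A, Subgroup.zpowers b⁆, Subgroup.zpowers b⁆ ≤ ⁅⁅Q, B⁆, B⁆ :=
          Subgroup.commutator_mono (Subgroup.commutator_mono hAQ hzb) hzb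
      _ ≤ ⁅B ⊓ Subgroup.centralizer (B : Set G), B⁆ := by
          rw [Subgroup.commutator_comm Q B]
          exact Subgroup.commutator_mono hB le_rfl
      _ ≤ ⊥ := by
          rw [le_bot_iff, Subgroup.commutator_eq_bot_iff_le_centralizer]
          exact inf_le_right
  apply hN b (hBS hb)
  rw [eq_bot_iff, ← h0]
  exact Subgroup.commutator_mono (Subgroup.commutator_mono inf_le_left le_rfl) le_rfl

theorem mem_lowerStar' (hA : Cfg0 p A) (hN : NoQuad p A S) (Q : Subgroup G) (hQS : Q ≤ S) :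
    A ∈ Cfsg.kLowerStarFamily Q := by
  haveI := hA.normal
  refine ⟨hA.cls, by rw [Subgroup.normalizer_eq_top]; exact le_top, ?_⟩
  intro X _ hXQ hAX h1 h2
  have hXH : X ≤ Cfsg.pCore p G := by
    intro x hx
    have hzx : Subgroup.zpowers x ≤ X := by rw [Subgroup.zpowers_le]; exact hx
    apply hN x (hQS (hXQ hx))
    rw [eq_bot_iff, ← h2]
    exact Subgroup.commutator_mono (Subgroup.commutator_mono le_rfl hzx) hzx
  calc ⁅A, X⁆ ≤ ⁅A, Cfsg.pCore p G⁆ := Subgroup.commutator_mono le_rfl hXH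
    _ ≤ _ := hA.comm

theorem lowerStar_le_pCore' (hA : Cfg0 p A) (hN : NoQuad p A S) {B Q : Subgroup G} (hBS : B ≤ S)
    (hAQ : A ≤ Q) (hB : B ∈ Cfsg.kLowerStarFamily Q) : B ≤ Cfsg.pCore p G := by
  obtain ⟨hB2, hQB, hBt⟩ := hB
  haveI hAn := hA.normal
  have hANB : A ≤ Subgroup.normalizer (B : Set G) := hAQ.trans hQB
  -- `Z(B) ≤ O_p(G)`
  have hANZB : A ≤ Subgroup.normalizer ((B ⊓ Subgroup.centralizer (B : Set G) : Subgroup G) : Set G) := by
    apply le_normalizer_of_conj_mem
    intro a ha x hx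
    exact ⟨(Subgroup.mem_normalizer_iff.mp (hANB ha) x).mp hx.1,
      conj_centralizer_mem (hANB ha) hx.2⟩
  have hZBB : ⁅B ⊓ Subgroup.centralizer (B : Set G), B⁆ = ⊥ := by
    rw [Subgroup.commutator_eq_bot_iff_le_centralizer]; exact inf_le_right
  have hZBH : B ⊓ Subgroup.centralizer (B : Set G) ≤ Cfsg.pCore p G := by
    intro x hx
    have hzx : Subgroup.zpowers x ≤ B ⊓ Subgroup.centralizer (B : Set G) := by
      rw [Subgroup.zpowers_le]; exact hx
    have h0 : ⁅⁅A, Subgroup.zpowers x⁆, Subgroup.zpowers x⁆ = ⊥ := by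
      rw [eq_bot_iff]
      calc ⁅⁅A, Subgroup.zpowers x⁆, Subgroup.zpowers x⁆
          ≤ ⁅⁅A, B ⊓ Subgroup.centralizer (B : Set G)⁆, B⁆ :=
            Subgroup.commutator_mono (Subgroup.commutator_mono le_rfl hzx)
              (hzx.trans inf_le_left)
        _ ≤ ⁅B ⊓ Subgroup.centralizer (B : Set G), B⁆ :=
            Subgroup.commutator_mono (commutator_le_right_of_le_normalizer hANZB) le_rfl
        _ = ⊥ := hZBB
    apply hN x (hBS hx.1)
    rw [eq_bot_iff, ← h0]
    exact Subgroup.commutator_mono (Subgroup.commutator_mono inf_le_left le_rfl) le_rfl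
  -- the test on `Z(A)`
  have hZAA : ⁅A ⊓ Subgroup.centralizer (A : Set G), A⁆ = ⊥ := by
    rw [Subgroup.commutator_eq_bot_iff_le_centralizer]; exact inf_le_right
  have hBZA : ⁅B, A ⊓ Subgroup.centralizer (A : Set G)⁆ ≤ B ⊓ Subgroup.centralizer (B : Set G) := by
    haveI : (A ⊓ Subgroup.centralizer (A : Set G)).Normal := inferInstance
    apply hBt (A ⊓ Subgroup.centralizer (A : Set G)) ?_ (inf_le_left.trans hAQ)
      (by rw [Subgroup.normalizer_eq_top]; exact le_top) ?_ ?_
    · show ⁅A ⊓ Subgroup.centralizer (A : Set G), A ⊓ Subgroup.centralizer (A : Set G)⁆ ≤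
        Subgroup.centralizer ((A ⊓ Subgroup.centralizer (A : Set G) : Subgroup G) : Set G)
      have : ⁅A ⊓ Subgroup.centralizer (A : Set G), A ⊓ Subgroup.centralizer (A : Set G)⁆ = ⊥ := by
        rw [Subgroup.commutator_eq_bot_iff_le_centralizer]
        exact inf_le_right.trans (Subgroup.centralizer_le inf_le_left)
      rw [this]; exact bot_le
    · have : ⁅A ⊓ Subgroup.centralizer (A : Set G), A ⊓ Subgroup.centralizer (A : Set G)⁆ = ⊥ := by
        rw [Subgroup.commutator_eq_bot_iff_le_centralizer]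
        exact inf_le_right.trans (Subgroup.centralizer_le inf_le_left)
      rw [this]
      exact Subgroup.commutator_bot_right B
    · rw [eq_bot_iff]
      calc ⁅⁅B ⊓ Subgroup.centralizer (B : Set G), A ⊓ Subgroup.centralizer (A : Set G)⁆,
            A ⊓ Subgroup.centralizer (A : Set G)⁆
          ≤ ⁅⁅Cfsg.pCore p G, A⁆, A⁆ :=
            Subgroup.commutator_mono (Subgroup.commutator_mono hZBH inf_le_left) inf_le_left
        _ ≤ ⁅A ⊓ Subgroup.centralizer (A : Set G), A⁆ :=
            Subgroup.commutator_mono (by rw [Subgroup.commutator_comm]; exact hA.comm) le_rfl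
        _ = ⊥ := hZAA
  intro b hb
  have hzb : Subgroup.zpowers b ≤ B := by rw [Subgroup.zpowers_le]; exact hb
  apply hN b (hBS hb)
  rw [eq_bot_iff]
  calc _ ≤ ⁅⁅A ⊓ Subgroup.centralizer (A : Set G), B⁆, B⁆ :=
        Subgroup.commutator_mono (Subgroup.commutator_mono le_rfl hzb) hzb
    _ ≤ ⁅B ⊓ Subgroup.centralizer (B : Set G), B⁆ :=
        Subgroup.commutator_mono (by rw [Subgroup.commutator_comm]; exact hBZA) le_rfl
    _ = ⊥ := hZBB

section main

theorem kSeq_le_pCore' (hA : Cfg0 p A) (S : Sylow p G) (hN : NoQuad p A (S : Subgroup G)) :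
    ∀ n : ℕ, (A ≤ (Cfsg.kSeqOdd ↥(S : Subgroup G) n).map (S : Subgroup G).subtype ∧
      (Cfsg.kSeqEven ↥(S : Subgroup G) n).map (S : Subgroup G).subtype ≤ Cfsg.pCore p G) ∧
      (Cfsg.kSeqOdd ↥(S : Subgroup G) (n + 1)).map (S : Subgroup G).subtype ≤ Cfsg.pCore p G := by
  have hinj := (S : Subgroup G).subtype_injective
  have hHS : Cfsg.pCore p G ≤ S := Cfsg.Agent.Lib.Helper16.pCore_le_sylow S
  have hAS : A ≤ S := hA.le.trans hHS
  have hAmap : (A.subgroupOf S).map (S : Subgroup G).subtype = A :=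
    Subgroup.map_subgroupOf_eq_of_le hAS
  have hmapS : ∀ X : Subgroup ↥(S : Subgroup G), X.map (S : Subgroup G).subtype ≤ S :=
    fun X => Subgroup.map_subtype_le X
  have step1 : ∀ n, A ≤ (Cfsg.kSeqOdd ↥(S : Subgroup G) n).map (S : Subgroup G).subtype →
      (Cfsg.kSeqEven ↥(S : Subgroup G) n).map (S : Subgroup G).subtype ≤ Cfsg.pCore p G := by
    intro n hAn
    unfold Cfsg.kSeqEven
    rw [Subgroup.map_le_iff_le_comap]
    apply sSup_le
    intro B hB
    rw [← Subgroup.map_le_iff_le_comap]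
    exact lowerStar_le_pCore' hA hN (hmapS B) hAn
      ((Cfsg.Agent.Lib.Helper12.lowerStar_map_iff _ hinj B _).mpr hB)
  have step2 : ∀ n, (Cfsg.kSeqEven ↥(S : Subgroup G) n).map (S : Subgroup G).subtype ≤
      Cfsg.pCore p G →
      A ≤ (Cfsg.kSeqOdd ↥(S : Subgroup G) (n + 1)).map (S : Subgroup G).subtype := by
    intro n hn
    have hmem : A.subgroupOf S ∈ Cfsg.kUpperStarFamily (Cfsg.kSeqEven ↥(S : Subgroup G) n) := by
      rw [← Cfsg.Agent.Lib.Helper12.upperStar_map_iff _ hinj, hAmap]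
      exact ⟨hA.cls, (Subgroup.commutator_mono le_rfl hn).trans hA.comm⟩
    have h1 : A.subgroupOf S ≤ Cfsg.kSeqOdd ↥(S : Subgroup G) (n + 1) := le_sSup hmem
    rw [← hAmap]
    exact Subgroup.map_mono h1
  have step3 : ∀ n, (Cfsg.kSeqOdd ↥(S : Subgroup G) (n + 1)).map (S : Subgroup G).subtype ≤
      Cfsg.pCore p G := by
    intro n
    have hmem : A.subgroupOf S ∈ Cfsg.kLowerStarFamily (Cfsg.kSeqOdd ↥(S : Subgroup G) n) := by
      rw [← Cfsg.Agent.Lib.Helper12.lowerStar_map_iff _ hinj, hAmap]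
      exact mem_lowerStar' hA hN _ (hmapS _)
    have hAE : A ≤ (Cfsg.kSeqEven ↥(S : Subgroup G) n).map (S : Subgroup G).subtype := by
      rw [← hAmap]
      exact Subgroup.map_mono (le_sSup hmem)
    show (sSup (Cfsg.kUpperStarFamily (Cfsg.kSeqEven ↥(S : Subgroup G) n))).map
      (S : Subgroup G).subtype ≤ _
    rw [Subgroup.map_le_iff_le_comap]
    apply sSup_le
    intro B hB
    rw [← Subgroup.map_le_iff_le_comap]
    have hB' := (Cfsg.Agent.Lib.Helper12.upperStar_map_iff _ hinj B _).mpr hB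
    exact upperStar_le_pCore' hA hN (hmapS B) hAE hB'.2
  intro n
  induction n with
  | zero =>
    have h0 : A ≤ (Cfsg.kSeqOdd ↥(S : Subgroup G) 0).map (S : Subgroup G).subtype := by
      show A ≤ (⊤ : Subgroup ↥(S : Subgroup G)).map (S : Subgroup G).subtype
      rw [← MonoidHom.range_eq_map, Subgroup.range_subtype]
      exact hAS
    exact ⟨⟨h0, step1 0 h0⟩, step3 0⟩
  | succ n ih =>
    have h1 := step2 n ih.1.2
    exact ⟨⟨h1, step1 (n + 1) h1⟩, step3 (n + 1)⟩

/-- Both K-infinity subgroups of `S` coincide with those of `O_p(G)`. -/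
theorem kInf_eq_of_noQuad (hA : Cfg0 p A) (S : Sylow p G) (hN : NoQuad p A (S : Subgroup G)) :
    Cfsg.inducedFunctor Cfsg.kInfLower (S : Subgroup G) =
      Cfsg.inducedFunctor Cfsg.kInfLower (Cfsg.pCore p G) ∧
    Cfsg.inducedFunctor Cfsg.kInfUpper (S : Subgroup G) =
      Cfsg.inducedFunctor Cfsg.kInfUpper (Cfsg.pCore p G) := by
  have hHS : Cfsg.pCore p G ≤ S := Cfsg.Agent.Lib.Helper16.pCore_le_sylow S
  have hHp : IsPGroup p (Cfsg.pCore p G) := Cfsg.Agent.Lib.Helper16.pCore_isPGroup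
  have hP : IsPGroup p ↥(S : Subgroup G) := S.isPGroup'
  have hseq := kSeq_le_pCore' hA S hN
  have hQ' : ∀ n, Cfsg.kSeqEven ↥(S : Subgroup G) n ≤ (Cfsg.pCore p G).subgroupOf S ∧
      Cfsg.kSeqOdd ↥(S : Subgroup G) (n + 1) ≤ (Cfsg.pCore p G).subgroupOf S := by
    intro n
    exact ⟨Subgroup.map_le_iff_le_comap.mp (hseq n).1.2,
      Subgroup.map_le_iff_le_comap.mp (hseq n).2⟩
  have h79 := Cfsg.Agent.S1979.result hP _ hQ'
  -- transport along `O_p(G) ∩ S ≃ O_p(G)`
  let e : ↥((Cfsg.pCore p G).subgroupOf (S : Subgroup G)) ≃* ↥(Cfsg.pCore p G) :=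
    Subgroup.subgroupOfEquivOfLe hHS
  have hcomp : (Cfsg.pCore p G).subtype.comp e.toMonoidHom =
      (S : Subgroup G).subtype.comp ((Cfsg.pCore p G).subgroupOf (S : Subgroup G)).subtype := by
    ext x
    rfl
  constructor
  · have he := kInfLower_map e.toMonoidHom e.injective e.surjective
    unfold Cfsg.inducedFunctor
    rw [← h79.1, ← he, Subgroup.map_map, Subgroup.map_map, hcomp]
  · have he : (Cfsg.kInfUpper ↥((Cfsg.pCore p G).subgroupOf (S : Subgroup G))).map e.toMonoidHom =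
        Cfsg.kInfUpper ↥(Cfsg.pCore p G) := by
      unfold Cfsg.kInfUpper
      apply le_antisymm
      · apply le_iInf
        intro n
        rw [← kSeqOdd_map e.toMonoidHom e.injective e.surjective n]
        exact Subgroup.map_mono (iInf_le _ n)
      · intro y hy
        obtain ⟨x, rfl⟩ := e.surjective y
        refine ⟨x, ?_, rfl⟩
        rw [Subgroup.mem_iInf] at hy
        rw [SetLike.mem_coe, Subgroup.mem_iInf]
        intro n
        have := hy n
        rw [← kSeqOdd_map e.toMonoidHom e.injective e.surjective n] at this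
        obtain ⟨x', hx', hxe⟩ := this
        have : x' = x := e.injective hxe
        rw [← this]
        exact hx'
    unfold Cfsg.inducedFunctor
    rw [← h79.2, ← he, Subgroup.map_map, Subgroup.map_map, hcomp]

end main

end Cfsg.Agent.Lib.Helper27.KQ
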