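import Cfsg.Agent.Lib.Helper27.KQ1
import Cfsg.Agent.Lib.Helper27.GN5

/-!
helper27: the lower K-infinity functor is a positive characteristic `p`-functor containing the centre and has the
quadratic property (all primes): if `K_∞(S)` is not normal in `G`, some element of `S` outside `O_p(G)` acts
quadratically on `Z(O_p(G))`.
-/

set_option autoImplicit false
set_option linter.style.haveILetI false
set_option linter.unusedSectionVars false
set_option linter.unusedVariables false
open scoped commutatorElement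

namespace Cfsg.Agent.Lib.Helper27.KQ

open Cfsg.Agent.Lib.Helper29.KInfN Cfsg.Agent.Lib.Helper27.KL

universe u

variable {G : Type u} [Group G] [Finite G] {p : ℕ} [Fact p.Prime]

/-- A critical subgroup of `O_p(G)` gives the standing configuration, and its centre contains `Z(O_p(G))`. -/
theorem exists_cfg0 (p : ℕ) [Fact p.Prime] (G : Type u) [Group G] [Finite G] :
    ∃ A : Subgroup G, Cfg0 p A ∧
      (Subgroup.center ↥(Cfsg.pCore p G)).map (Cfsg.pCore p G).subtype ≤
        A ⊓ Subgroup.centralizer (A : Set G) := by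
  have hHp : IsPGroup p (Cfsg.pCore p G) := Cfsg.Agent.Lib.Helper16.pCore_isPGroup
  haveI hHn : (Cfsg.pCore p G).Normal := inferInstance
  obtain ⟨C, hCc, h1, h2, h3⟩ := Cfsg.Agent.S0093.result hHp
  have hinj := (Cfsg.pCore p G).subtype_injective
  haveI := hCc
  have hAn : (C.map (Cfsg.pCore p G).subtype).Normal := inferInstance
  have hcls' : ⁅C, C⁆ ≤ Subgroup.centralizer (C : Set ↥(Cfsg.pCore p G)) :=
    (Subgroup.commutator_mono le_rfl le_top).trans (h2.trans inf_le_right)
  have hcls : ⁅C.map (Cfsg.pCore p G).subtype, C.map (Cfsg.pCore p G).subtype⁆ ≤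
      Subgroup.centralizer ((C.map (Cfsg.pCore p G).subtype : Subgroup G) : Set G) := by
    rw [← Subgroup.map_commutator,
      Cfsg.Agent.Lib.Helper12.map_le_centralizer_map_iff _ hinj]
    exact hcls'
  have htop : (⊤ : Subgroup ↥(Cfsg.pCore p G)).map (Cfsg.pCore p G).subtype = Cfsg.pCore p G := by
    rw [← MonoidHom.range_eq_map, Subgroup.range_subtype]
  refine ⟨C.map (Cfsg.pCore p G).subtype, ⟨hAn, Subgroup.map_subtype_le _, hcls, ?_⟩, ?_⟩
  · rw [Cfsg.Agent.Lib.Helper12.map_center_eq _ hinj]
    have e : ⁅C.map (Cfsg.pCore p G).subtype, Cfsg.pCore p G⁆ =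
        (⁅C, (⊤ : Subgroup ↥(Cfsg.pCore p G))⁆).map (Cfsg.pCore p G).subtype := by
      rw [Subgroup.map_commutator, htop]
    rw [e]
    exact Subgroup.map_mono h2
  · rintro _ ⟨z, hz, rfl⟩
    rw [SetLike.mem_coe, Subgroup.mem_center_iff] at hz
    have hzC : z ∈ C := by
      apply h3
      rw [Subgroup.mem_centralizer_iff]
      intro c _
      exact hz c
    refine ⟨⟨z, hzC, rfl⟩, ?_⟩
    show (Cfsg.pCore p G).subtype z ∈ Subgroup.centralizer _
    rw [Subgroup.mem_centralizer_iff]
    rintro _ ⟨c, _, rfl⟩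
    have := hz c
    exact congrArg Subtype.val this

theorem center_le_kInfLower (Q : Type u) [Group Q] [Finite Q] (hQ : IsPGroup p Q) :
    Subgroup.center Q ≤ Cfsg.kInfLower Q := by
  have h := Cfsg.Agent.S1978.result hQ
  exact h.2.1.trans h.1

theorem posChar_kInfLower (p : ℕ) [Fact p.Prime] : PosChar p Cfsg.kInfLower.{u} := by
  have h := isCharPFunctor_kInfLower.{u} p
  exact ⟨h.1, h.2⟩

/-- **The quadratic property of the lower K-infinity functor.** -/
theorem quadProp_kInfLower (p : ℕ) [Fact p.Prime] : QuadProp p Cfsg.kInfLower.{u} := by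
  intro G _ _ P hnn
  by_contra hcon
  push Not at hcon
  obtain ⟨A, hA, hZA⟩ := exists_cfg0 p G
  have hN : NoQuad p A (P : Subgroup G) := by
    intro g hgP hquad
    by_contra hgT
    apply hcon g hgP hgT
    rw [eq_bot_iff, ← hquad]
    exact Subgroup.commutator_mono (Subgroup.commutator_mono hZA le_rfl) le_rfl
  apply hnn
  have heq := (kInf_eq_of_noQuad hA P hN).1
  have hHp : IsPGroup p (Cfsg.pCore p G) := Cfsg.Agent.Lib.Helper16.pCore_isPGroup
  have hW := isCharPFunctor_kInfLower.{u} p
  have h1 := Cfsg.Agent.Lib.Helper12.normalizer_le_normalizer_inducedFunctor Cfsg.kInfLower hW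
    (Cfsg.pCore p G) hHp
  show (Cfsg.inducedFunctor Cfsg.kInfLower (P : Subgroup G)).Normal
  rw [heq, ← Subgroup.normalizer_eq_top_iff, eq_top_iff]
  refine le_trans ?_ h1
  rw [Subgroup.normalizer_eq_top]

end Cfsg.Agent.Lib.Helper27.KQ
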