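import Cfsg.Agent.Lib.Helper27.KQ2
import Cfsg.Agent.Lib.Helper27.GroupModel

/-!
helper27: generation of the fusion in a Sylow `p`-subgroup `S` of a finite group `G`: a class of partial maps closed
under restriction, composition and inverses containing the conjugations by elements fixing `℧¹(Z(S))` pointwise and
the conjugations by elements of `N_G(W(S))` contains all the conjugations between subgroups of `S`; consequences for
weak closure.
-/

set_option autoImplicit false
set_option linter.unusedSectionVars false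
set_option linter.unusedVariables false

namespace Cfsg.Agent.Lib.Helper27.KQ

open Cfsg Cfsg.FusionSystem Cfsg.Agent.Lib.Helper26 Cfsg.Agent.Lib.Helper27.FM Cfsg.Agent.Lib.Helper27.KL
  Cfsg.Agent.Lib.Helper27.GN

universe u

variable {G : Type u} [Group G] [Finite G] {p : ℕ} [Fact p.Prime] {W : ∀ (Q : Type u) [Group Q], Subgroup Q}

/-- Generation of the fusion of a finite group. -/
theorem group_generation (hW : PosChar p W)
    (hWZ : ∀ (Q : Type u) [Group Q] [Finite Q], IsPGroup p Q → Subgroup.center Q ≤ W Q)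
    (hq : QuadProp p W) (S : Sylow p G) (𝒞 : MapClass G)
    (h1 : ∀ (R : Subgroup G) (g : G), R ≤ (S : Subgroup G) → (∀ y ∈ R, g * y * g⁻¹ ∈ (S : Subgroup G)) →
      agemoCenter p (S : Subgroup G) ≤ R → (∀ q ∈ agemoCenter p (S : Subgroup G), g * q * g⁻¹ = q) →
      𝒞.C R (fun y => g * y * g⁻¹))
    (h2 : ∀ (R : Subgroup G) (g : G), R ≤ (S : Subgroup G) → (∀ y ∈ R, g * y * g⁻¹ ∈ (S : Subgroup G)) →
      g ∈ Subgroup.normalizer ((WS W (S : Subgroup G) : Subgroup G) : Set G) →
      𝒞.C R (fun y => g * y * g⁻¹)) :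
    ∀ (R : Subgroup G) (g : G), R ≤ (S : Subgroup G) → (∀ y ∈ R, g * y * g⁻¹ ∈ (S : Subgroup G)) →
      𝒞.C R (fun y => g * y * g⁻¹) := by
  have hS : IsPGroup p ↥(S : Subgroup G) := S.isPGroup'
  have hF := groupFS_saturated S
  have hfix : FixIn 𝒞 (groupFusionSystem (S : Subgroup G)) (agemoCenter p (S : Subgroup G)) := by
    intro R θ hθ hXR hθX
    obtain ⟨hRS, hθS, g, hg⟩ := (isFM_groupFS_iff _).mp hθ
    refine 𝒞.congr (h1 R g hRS (fun y hy => by rw [← hg y hy]; exact hθS y hy) hXR
      (fun q hq => by rw [← hg q (hXR hq)]; exact hθX q hq)) (fun y hy => (hg y hy).symm)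
  have hnrm : NormIn 𝒞 W (groupFusionSystem (S : Subgroup G)) := by
    intro R θ hθ hWR hθW
    obtain ⟨hRS, hθS, g, hg⟩ := (isFM_groupFS_iff _).mp hθ
    have hgN : g ∈ Subgroup.normalizer ((WS W (S : Subgroup G) : Subgroup G) : Set G) := by
      apply mem_normalizer_of_conj_mem_finite
      intro u hu
      rw [← hg u (hWR hu)]
      exact hθW u hu
    exact 𝒞.congr (h2 R g hRS (fun y hy => by rw [← hg y hy]; exact hθS y hy) hgN)
      (fun y hy => (hg y hy).symm)
  have hall := allIn_of_agemo_of_norm hW hWZ hq hS _ hF 𝒞 hfix hnrm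
  intro R g hRS hmap
  apply hall
  rw [isFM_groupFS_iff]
  exact ⟨hRS, hmap, g, fun _ _ => rfl⟩

/-- The class of maps preserving membership in a subset. -/
def memClass (A : Set G) : MapClass G where
  C R θ := ∀ y ∈ R, (y ∈ A ↔ θ y ∈ A)
  mono := fun h hle y hy => h y (hle hy)
  congr := fun h he y hy => by rw [← he y hy]; exact h y hy
  comp := fun h h' hRR' y hy => (h y hy).trans (h' _ (hRR' y hy))
  inverse := by
    intro R R' θ θinv h hi hinv y hy
    obtain ⟨x, hx, rfl⟩ := (hi y).mp hy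
    rw [hinv x hx]
    exact (h x hx).symm

/-- Subsets of `℧¹(Z(S))` normalized by `N_G(W(S))` are preserved by all conjugations between subgroups of `S`. -/
theorem conj_mem_iff_of_normalizer_le (hW : PosChar p W)
    (hWZ : ∀ (Q : Type u) [Group Q] [Finite Q], IsPGroup p Q → Subgroup.center Q ≤ W Q)
    (hq : QuadProp p W) (S : Sylow p G) (A : Set G) (hA : A ⊆ agemoCenter p (S : Subgroup G))
    (hN : ∀ g ∈ Subgroup.normalizer ((WS W (S : Subgroup G) : Subgroup G) : Set G), ∀ y, y ∈ A ↔ g * y * g⁻¹ ∈ A)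
    (R : Subgroup G) (g : G) (hRS : R ≤ (S : Subgroup G)) (hmap : ∀ y ∈ R, g * y * g⁻¹ ∈ (S : Subgroup G)) :
    ∀ y ∈ R, (y ∈ A ↔ g * y * g⁻¹ ∈ A) := by
  apply group_generation hW hWZ hq S (memClass A) ?_ ?_ R g hRS hmap
  · intro R g hRS hmap hXR hfix y hy
    constructor
    · intro hyA
      show g * y * g⁻¹ ∈ A
      rw [hfix y (hA hyA)]
      exact hyA
    · intro hyA
      have hyA' : g * y * g⁻¹ ∈ A := hyA
      have h3 := hfix _ (hA hyA')
      have h4 : g * y * g⁻¹ = y := by
        have : g * (g * y * g⁻¹) * g⁻¹ = g * y * g⁻¹ := h3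
        have h5 := mul_left_cancel (mul_right_cancel this)
        exact h5
      rw [← h4]
      exact hyA'
  · intro R g hRS hmap hg y hy
    exact hN g hg y

end Cfsg.Agent.Lib.Helper27.KQ
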