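import Mathlib
import Cfsg.Agent.S0948
import Cfsg.Agent.S0992
import Cfsg.Agent.Lib.Lead.KleinOrder3
import Cfsg.Agent.Lib.Helper6.Knoerr
import Cfsg.Agent.Lib.Helper24.IrrFacts
import Cfsg.Agent.Lib.Helper12.BSFDeg
import Cfsg.Agent.Lib.Helper7.SimpleTools
import Cfsg.Agent.Lib.Helper2.KleinSylow

set_option autoImplicit false

/-!
# Simple groups of order `4 * odd`: numerical data from the principal 2-block

For a simple group `G` of order `4 g₀`, `g₀ > 1` odd, the Sylow 2-subgroup `P` is a four-group with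
one class of involutions, the principal 2-block is `{1, ζ₂, ζ₃, ζ₄}` (Brauer, S0948) and Brauer's
order formula (S4479) holds.  We package the resulting purely numerical data (`klein_data`), to be
used for excluding particular orders.
-/

namespace Cfsg.Agent.Lib.Helper27.KleinOrd

open Cfsg

universe u

variable {G : Type u} [Group G] [Finite G]

/-- The numerical data. -/
structure KData (n : ℕ) (ε : ℤ) (f₂ f₃ f₄ cP cJ : ℕ) : Prop where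
  eps : ε = 1 ∨ ε = -1
  lt2 : 1 < f₂
  lt3 : 1 < f₃
  dvd2 : f₂ ∣ n
  dvd3 : f₃ ∣ n
  dvd4 : f₄ ∣ n
  mod2 : (4 : ℤ) ∣ (f₂ : ℤ) - 1
  mod3 : (4 : ℤ) ∣ (f₃ : ℤ) - ε
  mod4 : (4 : ℤ) ∣ (f₄ : ℤ) + 1
  deg : (1 : ℤ) + f₂ + ε * f₃ = f₄
  four : 4 ∣ cP
  dvdPJ : cP ∣ cJ
  dvdJ : cJ ∣ n
  dvdN : 3 * cP ∣ n
  formula : (n : ℤ) * ((f₂ : ℤ) + 1) * ((f₃ : ℤ) + ε) * ((f₄ : ℤ) - 1) * (cP : ℤ) ^ 2 =
    8 * f₂ * f₃ * f₄ * (cJ : ℤ) ^ 3

theorem klein_data [IsSimpleGroup G] (g₀ : ℕ) (hg₀ : Odd g₀) (hg1 : 1 < g₀)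
    (hG : Nat.card G = 4 * g₀) :
    ∃ (ε : ℤ) (f₂ f₃ f₄ cP cJ : ℕ), KData (4 * g₀) ε f₂ f₃ f₄ cP cJ ∧
      ∃ H : Subgroup G, Nat.card H = 3 * cP := by
  classical
  have : Fact (Nat.Prime 2) := ⟨Nat.prime_two⟩
  -- non-commutative, perfect
  have hnp : ¬ (Nat.card G).Prime := by
    rw [hG]
    intro hp
    have := (Nat.prime_mul_iff.mp hp)
    rcases this with ⟨-, h⟩ | ⟨-, h⟩
    · omega
    · norm_num at h
  have hncomm : ¬ IsMulCommutative G := Cfsg.Agent.Lib.Helper7.not_comm_of_card_not_prime hnp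
  have hperf : commutator G = ⊤ := Cfsg.Agent.Lib.Helper12.BSF.commutator_eq_top_of_simple hncomm
  -- no normal 2-complement
  have hnc : ¬ ∃ N : Subgroup G, N.Normal ∧ Nat.card N = g₀ := by
    rintro ⟨N, hN, hcard⟩
    rcases hN.eq_bot_or_eq_top with h | h
    · rw [h, Subgroup.card_bot] at hcard
      omega
    · rw [h, Subgroup.card_top, hG] at hcard
      omega
  obtain ⟨M, hM⟩ := Cfsg.Agent.Lib.Helper6.exists_isPModular 2
  let P : Sylow 2 G := default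
  have hP : IsKleinFour (P : Subgroup G) := Cfsg.Agent.CharLib.ko_isKleinFour g₀ hg₀ hG hnc P
  have hone : ∀ s t : G, orderOf s = 2 → orderOf t = 2 → IsConj s t :=
    fun s t hs ht => Cfsg.Agent.CharLib.ko_invol_conj g₀ hg₀ hG hnc P s t hs ht
  obtain ⟨J, -, hJP, -, hJ1, -, -, -⟩ := Cfsg.Agent.Lib.Helper2.klein_exists_gens P hP
  have hJ2 : orderOf J = 2 := Cfsg.Agent.Lib.Helper2.klein_orderOf P hP hJP hJ1
  obtain ⟨ζ₂, ζ₃, ζ₄, ε, hε, h21, h31, h23, h24, h34, hB, hval, hm2, hm3, hm4, hy⟩ :=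
    Cfsg.Agent.S0948.result M hM P hP hone
  obtain ⟨hv2, hv3, hv4⟩ := hval J hJ2
  have h41 : (ζ₄ : G → ℂ) ≠ (fun _ => 1) := by
    intro h
    rw [h] at hv4
    norm_num at hv4
  have hform := Cfsg.Agent.CharLib.klein_order_formula M hM g₀ hg₀ hG hnc P J hJP hJ2 ζ₂ ζ₃ ζ₄ 1 ε (-1)
    hB ⟨h21, h31, h41, h23, h24, h34⟩ ⟨Or.inl rfl, hε, Or.inr rfl⟩
    ⟨by rw [hv2]; norm_num, hv3, by rw [hv4]; norm_num⟩
  -- the degrees
  set f₂ := charDegree (ζ₂ : G → ℂ) with hf₂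
  set f₃ := charDegree (ζ₃ : G → ℂ) with hf₃
  set f₄ := charDegree (ζ₄ : G → ℂ) with hf₄
  have hpos2 : 0 < f₂ := Cfsg.Agent.Lib.Helper24.irr_charDegree_pos ζ₂
  have hpos3 : 0 < f₃ := Cfsg.Agent.Lib.Helper24.irr_charDegree_pos ζ₃
  have hpos4 : 0 < f₄ := Cfsg.Agent.Lib.Helper24.irr_charDegree_pos ζ₄
  have hne2 : f₂ ≠ 1 := fun h =>
    h21 (Cfsg.Agent.Lib.Helper12.BSF.eq_one_of_charDegree_one hperf ζ₂ h)
  have hne3 : f₃ ≠ 1 := fun h =>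
    h31 (Cfsg.Agent.Lib.Helper12.BSF.eq_one_of_charDegree_one hperf ζ₃ h)
  have hd2 : f₂ ∣ 4 * g₀ := hG ▸ Cfsg.Agent.Lib.Helper24.irr_charDegree_dvd_card ζ₂
  have hd3 : f₃ ∣ 4 * g₀ := hG ▸ Cfsg.Agent.Lib.Helper24.irr_charDegree_dvd_card ζ₃
  have hd4 : f₄ ∣ 4 * g₀ := hG ▸ Cfsg.Agent.Lib.Helper24.irr_charDegree_dvd_card ζ₄
  -- the degree relation
  have hdeg : (1 : ℤ) + f₂ + ε * f₃ = f₄ := by
    have h := hy 1 (by rw [orderOf_one]; exact odd_one)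
    rw [Cfsg.Agent.Lib.Helper24.irr_apply_one, Cfsg.Agent.Lib.Helper24.irr_apply_one,
      Cfsg.Agent.Lib.Helper24.irr_apply_one] at h
    have h' : ((1 : ℤ) + f₂ + ε * f₃ - f₄ : ℂ) = 0 := by
      push_cast
      exact h
    have h'' : ((1 : ℤ) + f₂ + ε * f₃ - f₄ : ℤ) = 0 := by exact_mod_cast h'
    linarith
  -- centralizers
  set CP : Subgroup G := Subgroup.centralizer ((P : Subgroup G) : Set G) with hCP
  set CJ : Subgroup G := Subgroup.centralizer ({J} : Set G) with hCJ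
  set NP : Subgroup G := Subgroup.normalizer ((P : Subgroup G) : Set G) with hNP
  have hPab := Cfsg.Agent.Lib.Helper2.klein_comm P hP
  have hPCP : (P : Subgroup G) ≤ CP := by
    intro x hx
    rw [hCP, Subgroup.mem_centralizer_iff]
    intro y hy
    exact hPab y hy x hx
  have hCPCJ : CP ≤ CJ := by
    rw [hCP, hCJ]
    apply Subgroup.centralizer_le
    rw [Set.singleton_subset_iff]
    exact hJP
  have hCPNP : CP ≤ NP := Subgroup.centralizer_le_normalizer _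
  have hP4 : Nat.card (P : Subgroup G) = 4 := hP.1
  have h4cP : 4 ∣ Nat.card CP := by
    rw [← hP4]
    exact Subgroup.card_dvd_of_le hPCP
  have hcPJ : Nat.card CP ∣ Nat.card CJ := Subgroup.card_dvd_of_le hCPCJ
  have hcJn : Nat.card CJ ∣ 4 * g₀ := hG ▸ Subgroup.card_subgroup_dvd_card CJ
  have h3 := (Cfsg.Agent.S0992.result hncomm (by rw [hG]; exact ⟨2 * g₀, by ring⟩)
    (by
      rw [hG]
      intro h8
      obtain ⟨k, hk⟩ := hg₀
      omega) P).2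
  have hNPcard : Nat.card NP = 3 * Nat.card CP := by
    have := Subgroup.relIndex_mul_relIndex ⊥ CP NP bot_le hCPNP
    rw [Subgroup.relIndex_bot_left, Subgroup.relIndex_bot_left, h3] at this
    omega
  have h3cP : 3 * Nat.card CP ∣ 4 * g₀ := by
    rw [← hNPcard, ← hG]
    exact Subgroup.card_subgroup_dvd_card NP
  refine ⟨ε, f₂, f₃, f₄, Nat.card CP, Nat.card CJ, ?_, NP, hNPcard⟩
  have hcP0 : (Nat.card CP : ℚ) ≠ 0 := by
    have : 0 < Nat.card CP := Nat.card_pos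
    exact_mod_cast this.ne'
  have hmod4' : (4 : ℤ) ∣ (f₄ : ℤ) + 1 := hm4
  have hf4ge : 3 ≤ f₄ := by
    obtain ⟨k, hk⟩ := hmod4'
    omega
  have hf2ge : 2 ≤ f₂ := by omega
  have hf3ge : 2 ≤ f₃ := by omega
  have hden2 : ((f₂ : ℚ) + ((1 : ℤ) : ℚ)) ≠ 0 := by
    have : (0 : ℚ) < (f₂ : ℚ) + ((1 : ℤ) : ℚ) := by push_cast; positivity
    exact this.ne'
  have hden3 : ((f₃ : ℚ) + (ε : ℚ)) ≠ 0 := by
    have h2 : (2 : ℚ) ≤ (f₃ : ℚ) := by exact_mod_cast hf3ge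
    rcases hε with h | h
    · rw [h]; push_cast; linarith
    · rw [h]; push_cast; linarith
  have hden4 : ((f₄ : ℚ) + ((-1 : ℤ) : ℚ)) ≠ 0 := by
    have h2 : (3 : ℚ) ≤ (f₄ : ℚ) := by exact_mod_cast hf4ge
    push_cast; linarith
  have hformula : ((4 * g₀ : ℕ) : ℤ) * ((f₂ : ℤ) + 1) * ((f₃ : ℤ) + ε) * ((f₄ : ℤ) - 1) *
      (Nat.card CP : ℤ) ^ 2 = 8 * f₂ * f₃ * f₄ * (Nat.card CJ : ℤ) ^ 3 := by
    rw [hG] at hform
    have hq : (((4 * g₀ : ℕ) : ℤ) * ((f₂ : ℤ) + 1) * ((f₃ : ℤ) + ε) * ((f₄ : ℤ) - 1) *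
      (Nat.card CP : ℤ) ^ 2 : ℚ) = (8 * f₂ * f₃ * f₄ * (Nat.card CJ : ℤ) ^ 3 : ℚ) := by
      push_cast
      push_cast at hform hden2 hden3 hden4
      rw [hform]
      field_simp
      ring
    exact_mod_cast hq
  exact ⟨hε, by omega, by omega, hd2, hd3, hd4, hm2, hm3, hm4, hdeg, h4cP, hcPJ, hcJn, h3cP,
    hformula⟩

end Cfsg.Agent.Lib.Helper27.KleinOrd
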