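import Mathlib
import Cfsg.Agent.Lib.Helper27.KleinOrd

set_option autoImplicit false

/-!
# Arithmetic of Brauer's order formula for the orders 3780, 4212, 5148
-/

namespace Cfsg.Agent.Lib.Helper27.KleinOrd

/-- The list of divisors of `n`. -/
def divs (n : ℕ) : List ℕ :=
  (List.range (n + 1)).filter (fun d => decide (0 < d) && decide (n % d = 0))

theorem mem_divs {n d : ℕ} (hn : 0 < n) (h : d ∣ n) : d ∈ divs n := by
  unfold divs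
  rw [List.mem_filter, List.mem_range]
  refine ⟨Nat.lt_succ_of_le (Nat.le_of_dvd hn h), ?_⟩
  have h1 : 0 < d := Nat.pos_of_dvd_of_pos h hn
  have h2 : n % d = 0 := Nat.mod_eq_zero_of_dvd h
  simp [h1, h2]

/-- The arithmetic statement: every solution of the system has `cP = c₀`. -/
def Arith (n c₀ : ℕ) : Prop :=
  ∀ ε ∈ [(1 : ℤ), -1], ∀ f₂ ∈ divs n, 1 < f₂ → (4 : ℤ) ∣ (f₂ : ℤ) - 1 →
    ∀ f₃ ∈ divs n, 1 < f₃ → (4 : ℤ) ∣ (f₃ : ℤ) - ε →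
    ∀ f₄ ∈ divs n, (1 : ℤ) + f₂ + ε * f₃ = f₄ → (4 : ℤ) ∣ (f₄ : ℤ) + 1 →
    ∀ cP ∈ divs n, 4 ∣ cP → ∀ cJ ∈ divs n, cP ∣ cJ →
      (n : ℤ) * ((f₂ : ℤ) + 1) * ((f₃ : ℤ) + ε) * ((f₄ : ℤ) - 1) * (cP : ℤ) ^ 2 =
        8 * f₂ * f₃ * f₄ * (cJ : ℤ) ^ 3 → cP = c₀

instance (n c₀ : ℕ) : Decidable (Arith n c₀) := by
  unfold Arith
  infer_instance

theorem arith_3780 : Arith 3780 252 := by decide +kernel

theorem arith_4212 : Arith 4212 0 := by decide +kernel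

theorem arith_5148 : Arith 5148 0 := by decide +kernel

theorem KData.cP_eq {n c₀ : ℕ} (hn : 0 < n) (h : Arith n c₀) {ε : ℤ} {f₂ f₃ f₄ cP cJ : ℕ}
    (d : KData n ε f₂ f₃ f₄ cP cJ) : cP = c₀ := by
  have hε : ε ∈ [(1 : ℤ), -1] := by
    rcases d.eps with h | h <;> simp [h]
  have hcPn : cP ∣ n := dvd_trans d.dvdPJ d.dvdJ
  exact h ε hε f₂ (mem_divs hn d.dvd2) d.lt2 d.mod2 f₃ (mem_divs hn d.dvd3) d.lt3 d.mod3
    f₄ (mem_divs hn d.dvd4) d.deg d.mod4 cP (mem_divs hn hcPn) d.four cJ (mem_divs hn d.dvdJ)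
    d.dvdPJ d.formula

end Cfsg.Agent.Lib.Helper27.KleinOrd
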