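import Mathlib
import Cfsg.Agent.Lib.Helper27.KleinOrdChk
import Cfsg.Agent.S0212

set_option autoImplicit false

/-!
# No simple groups of order 3780, 4212, 5148

(Brauer's order formula for groups with a four-group as Sylow 2-subgroup.)
-/

namespace Cfsg.Agent.Lib.Helper27.KleinOrd

theorem not_simple_4212 {G : Type*} [Group G] [Finite G] [IsSimpleGroup G] :
    Nat.card G ≠ 4212 := by
  intro hG
  obtain ⟨ε, f₂, f₃, f₄, cP, cJ, d, -⟩ :=
    klein_data (G := G) 1053 (by decide) (by norm_num) (by rw [hG])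
  have h0 : cP = 0 := d.cP_eq (by norm_num) arith_4212
  have h1 := d.dvdN
  rw [h0] at h1
  norm_num at h1

theorem not_simple_5148 {G : Type*} [Group G] [Finite G] [IsSimpleGroup G] :
    Nat.card G ≠ 5148 := by
  intro hG
  obtain ⟨ε, f₂, f₃, f₄, cP, cJ, d, -⟩ :=
    klein_data (G := G) 1287 (by decide) (by norm_num) (by rw [hG])
  have h0 : cP = 0 := d.cP_eq (by norm_num) arith_5148
  have h1 := d.dvdN
  rw [h0] at h1
  norm_num at h1

theorem not_simple_3780 {G : Type*} [Group G] [Finite G] [IsSimpleGroup G] :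
    Nat.card G ≠ 3780 := by
  intro hG
  obtain ⟨ε, f₂, f₃, f₄, cP, cJ, d, H, hH⟩ :=
    klein_data (G := G) 945 (by decide) (by norm_num) (by rw [hG])
  have h0 : cP = 252 := d.cP_eq (by norm_num) arith_3780
  rw [h0] at hH
  have hne : H ≠ ⊤ := by
    intro h
    rw [h, Subgroup.card_top, hG] at hH
    norm_num at hH
  have hidx : H.index = 5 := by
    have := H.card_mul_index
    rw [hH, hG] at this
    omega
  have := Cfsg.Agent.S0212.card_le_factorial_index H hne
  rw [hidx, hG] at this
  norm_num [Nat.factorial] at this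

end Cfsg.Agent.Lib.Helper27.KleinOrd
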