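/-
helper27: S4638 leaf (FUS) `exists_subsection_family` (twin): the subsections `(u, f u)`, `u ∈ P`, below
a maximal pair `(P, c)` with `P` abelian, and control of their fusion by `T = N_G(P, c)`
(helper24 `KleinSC`: `exists_block_below`, `exists_centralizer_mul_mem₂`).
-/
import Mathlib
import Cfsg.Agent.Lib.Helper24.KleinSC

set_option autoImplicit false

namespace Cfsg.Agent.Lib.Helper27.KleinPIFUS

open Cfsg Cfsg.Agent.CharLib Cfsg.Agent.Lib.Helper24 Cfsg.Agent.Lib.Helper6
open Cfsg.Agent.Lib.Helper24.KleinSC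

universe u

section aux

variable {G : Type u} [Group G] [Finite G] {M : Ideal AlgInt}

omit [Finite G] in
/-- two pairs whose blocks share a conjugate character are conjugate -/
theorem cjPair_eq_of_rel [hprime : M.IsPrime] (Q Q' : Subgroup G) (g : G)
    (hQ : Q.map (MulAut.conj g).toMonoidHom = Q') (H H' : Subgroup G)
    (hH : Subgroup.centralizer (Q : Set G) = H) (hH' : Subgroup.centralizer (Q' : Set G) = H')
    (f : Set (IrrCharacter (Subgroup.centralizer (Q : Set G))))
    (f' : Set (IrrCharacter (Subgroup.centralizer (Q' : Set G))))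
    (hf : IsPBlock M f) (hf' : IsPBlock M f')
    (ζ : IrrCharacter H) (hζ : ζ ∈ castBlock hH f) (ζ' : IrrCharacter H')
    (hζ' : ζ' ∈ castBlock hH' f')
    (hrel : ∀ (k : H) (k' : H'), (k' : G) = g * (k : G) * g⁻¹ → (ζ' : H' → ℂ) k' = (ζ : H → ℂ) k) :
    cjPair g (⟨Q, f⟩ : BrauerPairIdx G) = ⟨Q', f'⟩ := by
  subst hQ
  subst hH
  subst hH'
  have h1 : ζ' ∈ conjBlock Q g f := ⟨ζ, hζ, fun c c' hc => hrel c c' hc⟩
  have h2 : conjBlock Q g f = f' :=
    isPBlock_eq_of_mem (isPBlock_conjBlock Q g hf) hf' h1 hζ'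
  unfold cjPair
  rw [h2]

end aux

section main

variable {G : Type u} [Group G] [Fintype G] {M : Ideal AlgInt}

/-- (FUS) -/
theorem exists_subsection_family {p : ℕ} [hpp : Fact p.Prime] (hM : IsPModular p M)
    (B : Set (IrrCharacter G)) (hB : IsPBlock M B)
    (P : Subgroup G) (hPD : IsDefectGroup p M B P) (hab : ∀ x ∈ P, ∀ y ∈ P, x * y = y * x)
    (c : Set (IrrCharacter (Subgroup.centralizer (P : Set G))))
    (hc : IsInducedBlock M (Subgroup.centralizer (P : Set G)) c B) (T : Subgroup G)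
    (hT : ∀ g : G, g ∈ T ↔ (g ∈ Subgroup.normalizer (P : Set G) ∧
      StabilizesBlock (Subgroup.centralizer (P : Set G)) c g)) :
    ∃ f : ∀ u : G, Set (IrrCharacter (Subgroup.centralizer ({u} : Set G))),
      (∀ u ∈ P, IsInducedBlock M (Subgroup.centralizer ({u} : Set G)) (f u) B ∧
        IsDefectGroup p M (f u) (P.subgroupOf (Subgroup.centralizer ({u} : Set G)))) ∧
      ∀ u ∈ P, ∀ u' ∈ P, ∀ g : G, g * u * g⁻¹ = u' →
        (∃ ζ ∈ f u, ∃ ζ' ∈ f u',
          ∀ (k : Subgroup.centralizer ({u} : Set G)) (k' : Subgroup.centralizer ({u'} : Set G)),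
            (k' : G) = g * (k : G) * g⁻¹ →
              (ζ' : Subgroup.centralizer ({u'} : Set G) → ℂ) k' =
                (ζ : Subgroup.centralizer ({u} : Set G) → ℂ) k) →
        ∃ t ∈ T, t * u * t⁻¹ = u' := by
  classical
  have hprime : M.IsPrime := isPrime_of_isPModular hM
  have hmax := isMaximalBrauerPair_of_defect hM B hB P hPD c hc
  have hex : ∀ u : G, ∃ f : Set (IrrCharacter
      (Subgroup.centralizer ((Subgroup.zpowers u : Subgroup G) : Set G))), u ∈ P →
      (SubpairLE p M (Subgroup.zpowers u) f P c ∧ IsBrauerPairOf p M B (Subgroup.zpowers u) f ∧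
      IsInducedBlock M (Subgroup.centralizer ((Subgroup.zpowers u : Subgroup G) : Set G)) f B ∧
      IsDefectGroup p M f (P.subgroupOf
        (Subgroup.centralizer ((Subgroup.zpowers u : Subgroup G) : Set G)))) := by
    intro u
    by_cases hu : u ∈ P
    · obtain ⟨f, hf⟩ := exists_block_below hM B P c hmax hab u hu
      exact ⟨f, fun _ => hf⟩
    · exact ⟨∅, fun h => absurd h hu⟩
  choose f' hf' using hex
  refine ⟨fun u => castBlock (centralizer_zpowers_eq u) (f' u), ?_, ?_⟩
  · intro u hu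
    obtain ⟨-, -, hind, hdef⟩ := hf' u hu
    exact ⟨(isInducedBlock_castBlock _ _ _).mpr hind, (isDefectGroup_castBlock p _ _ P).mpr hdef⟩
  · rintro u hu u' hu' g hg ⟨ζ, hζ, ζ', hζ', hrel⟩
    obtain ⟨hle, hpair, -, -⟩ := hf' u hu
    obtain ⟨hle', hpair', -, -⟩ := hf' u' hu'
    have hQ : (Subgroup.zpowers u).map (MulAut.conj g).toMonoidHom = Subgroup.zpowers u' := by
      rw [map_conj_zpowers, hg]
    have hcj := cjPair_eq_of_rel (M := M) (Subgroup.zpowers u) (Subgroup.zpowers u') g hQ _ _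
      (centralizer_zpowers_eq u) (centralizer_zpowers_eq u') (f' u) (f' u') hpair.1.2 hpair'.1.2
      ζ hζ ζ' hζ' hrel
    obtain ⟨c0, hc0, hN, hS⟩ := exists_centralizer_mul_mem₂ hM B P c hmax hab _ _ (f' u) (f' u')
      hle hle' g hcj
    refine ⟨c0 * g, (hT _).mpr ⟨hN, hS⟩, ?_⟩
    have h1 : (c0 * g) * u * (c0 * g)⁻¹ = c0 * (g * u * g⁻¹) * c0⁻¹ := by group
    rw [h1, hg]
    have h2 := Subgroup.mem_centralizer_iff.mp hc0 u' (Subgroup.mem_zpowers u')
    rw [← h2]
    group

end main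

end Cfsg.Agent.Lib.Helper27.KleinPIFUS
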