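/-
helper27: S4638, the algebra of a block `e` of rank one (`l(e) = 1`) in the S4539 machinery: if the
integer matrix `N = p^d ⟨ζ°, ζ'°⟩` is `Dv ζ * Dv ζ'` for an integer column `Dv` with `∑ Dv² = p^d`, then
the members of `e` are proportional on the `p`-regular elements, `Φ = ∑ Dv ζ • ζ` vanishes on the
`p`-singular elements and `Φ / p^d` is integral.
-/
import Cfsg.Agent.Lib.Helper27.KleinL4
import Cfsg.Agent.Lib.Helper27.KleinPIDefs
import Cfsg.Agent.Lib.Helper6.SubsectionCount
import Cfsg.Agent.Lib.Helper6.SepClassesB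

set_option autoImplicit false

namespace Cfsg.Agent.Lib.Helper27.KleinPIRank

open Cfsg Cfsg.Agent.CharLib Cfsg.Agent.Lib.Helper24 Cfsg.Agent.Lib.Helper6 Cfsg.Agent.Lib.Helper23
open Cfsg.Agent.Lib.Helper23.Subsec Cfsg.Agent.Lib.Helper27.MajSub Cfsg.Agent.Lib.Helper27.KleinPI
open scoped ComplexConjugate

universe u

theorem memLocalRing_finset_sum {M : Ideal AlgInt} [hp : M.IsPrime] {ι : Type*} (s : Finset ι)
    (f : ι → ℂ) (hf : ∀ i ∈ s, MemLocalRing M (f i)) : MemLocalRing M (∑ i ∈ s, f i) := by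
  classical
  induction s using Finset.induction_on with
  | empty => simpa using (memLocalRing_zero (M := M))
  | insert a s ha ih =>
    rw [Finset.sum_insert ha]
    exact memLocalRing_add (hf a (Finset.mem_insert_self a s))
      (ih (fun i hi => hf i (Finset.mem_insert_of_mem hi)))

section RK

variable {C : Type u} [Group C] [Fintype C] {M : Ideal AlgInt} {p : ℕ} [hpp : Fact p.Prime]

omit hpp in
theorem isClassFunction_pRegularPart {f : C → ℂ} (hf : IsClassFunction C f) :
    IsClassFunction C (pRegularPart p f) := by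
  intro g h
  have ho : orderOf (h * g * h⁻¹) = orderOf g := by
    have : h * g * h⁻¹ = MulAut.conj h g := rfl
    rw [this, MulEquiv.orderOf_eq]
  by_cases hg : IsPRegular p g
  · have hg' : IsPRegular p (h * g * h⁻¹) := by unfold IsPRegular at hg ⊢; rwa [ho]
    rw [pRegularPart_of_regular' p _ hg, pRegularPart_of_regular' p _ hg', hf]
  · have hg' : ¬ IsPRegular p (h * g * h⁻¹) := by unfold IsPRegular at hg ⊢; rwa [ho]
    rw [pRegularPart_of_singular' p _ hg, pRegularPart_of_singular' p _ hg']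

/-- the regular inner product in `classInner` form -/
theorem classInner_pRegularPart (hM : IsPModular p M) (e : Set (IrrCharacter C))
    (he : IsPBlock M e) {ζ : IrrCharacter C} (hζ : ζ ∈ e) (ζ₁ : IrrCharacter C) :
    classInner (pRegularPart p (ζ : C → ℂ)) (ζ₁ : C → ℂ) =
      (nMat p e ζ ζ₁ : ℂ) / (p : ℂ) ^ blockDefect p e := by
  classical
  rw [← Cfsg.Agent.Lib.Helper27.MajSubGR.regInner_eq_nMat hM e he hζ ζ₁]
  unfold classInner
  congr 1
  apply Finset.sum_congr rfl
  intro s _
  by_cases hs : p ∣ orderOf s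
  · rw [if_pos hs, pRegularPart_of_singular' p _ (by unfold IsPRegular; exact not_not.mpr hs),
      zero_mul]
  · rw [if_neg hs, pRegularPart_of_regular' p _ hs]

variable (hM : IsPModular p M) (e : Set (IrrCharacter C)) (he : IsPBlock M e)
  (Dv : IrrCharacter C → ℤ) (hN : ∀ ζ ζ', nMat p e ζ ζ' = Dv ζ * Dv ζ')

include hM he hN in
/-- the members of `e` are proportional on the `p`-regular elements -/
theorem prop_of_rank_one {ζ ζ' : IrrCharacter C} (hζ : ζ ∈ e) (hζ' : ζ' ∈ e) (s : C)
    (hs : IsPRegular p s) :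
    (Dv ζ' : ℂ) * (ζ : C → ℂ) s = (Dv ζ : ℂ) * (ζ' : C → ℂ) s := by
  classical
  let _ := fintypeIrr C
  have hp0 : (p : ℂ) ≠ 0 := Nat.cast_ne_zero.mpr hpp.out.ne_zero
  set F : C → ℂ := (Dv ζ' : ℂ) • pRegularPart p (ζ : C → ℂ) -
    (Dv ζ : ℂ) • pRegularPart p (ζ' : C → ℂ) with hF
  have hcls : IsClassFunction C F := by
    apply IsClassFunction.sub
    · exact IsClassFunction.smul _ (isClassFunction_pRegularPart
        (IsCharacter.isClassFunction (IsIrrCharacter.isCharacter ζ.2)))
    · exact IsClassFunction.smul _ (isClassFunction_pRegularPart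
        (IsCharacter.isClassFunction (IsIrrCharacter.isCharacter ζ'.2)))
  have h0 : F = 0 := by
    apply eq_zero_of_classInner_irr_eq_zero hcls
    intro ζ''
    rw [hF, classInner_sub_left, classInner_smul_left, classInner_smul_left,
      classInner_pRegularPart hM e he hζ, classInner_pRegularPart hM e he hζ', hN, hN]
    push_cast
    ring
  have h1 := congrFun h0 s
  rw [hF] at h1
  simp only [Pi.sub_apply, Pi.smul_apply, smul_eq_mul, Pi.zero_apply] at h1
  rw [pRegularPart_of_regular' p _ hs, pRegularPart_of_regular' p _ hs] at h1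
  exact sub_eq_zero.mp h1

include hN in
theorem dv_eq_zero_of_not_mem {ζ : IrrCharacter C} (hζ : ζ ∉ e) : Dv ζ = 0 := by
  have h1 := hN ζ ζ
  rw [Cfsg.Agent.Lib.Helper8.MajSubNB.nMat_of_not_mem e (fun h => hζ h.1)] at h1
  exact mul_self_eq_zero.mp h1.symm

omit [Fintype C] hpp in
theorem intComb_eq_sum [Fintype (IrrCharacter C)] (D : IrrCharacter C → ℤ) (s : C) :
    intComb D s = ∑ ζ : IrrCharacter C, (D ζ : ℂ) * (ζ : C → ℂ) s := by
  unfold intComb
  rw [finsum_eq_sum_of_fintype]

omit [Fintype C] hpp in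
theorem isClassFunction_intComb [Finite C] (D : IrrCharacter C → ℤ) : IsClassFunction C (intComb D) := by
  classical
  let _ := fintypeIrr C
  intro g h
  rw [intComb_eq_sum, intComb_eq_sum]
  apply Finset.sum_congr rfl
  intro ζ _
  rw [IsCharacter.isClassFunction (IsIrrCharacter.isCharacter ζ.2) g h]

theorem classInner_intComb (D : IrrCharacter C → ℤ) (ζ' : IrrCharacter C) :
    classInner (intComb D) (ζ' : C → ℂ) = (D ζ' : ℂ) := by
  classical
  let _ := fintypeIrr C
  have h1 : intComb D = ∑ ζ : IrrCharacter C, (D ζ : ℂ) • (ζ : C → ℂ) := by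
    funext s
    rw [intComb_eq_sum, Finset.sum_apply]
    rfl
  rw [h1, classInner_sum_left]
  simp only [classInner_smul_left, classInner_irr']
  rw [Finset.sum_eq_single ζ']
  · rw [if_pos rfl, mul_one]
  · intro ζ _ hne
    rw [if_neg hne, mul_zero]
  · intro h
    exact absurd (Finset.mem_univ ζ') h

include hM he hN in
/-- `Φ = ∑ Dv ζ • ζ` vanishes on the `p`-singular elements -/
theorem intComb_eq_zero_of_singular [Fintype (IrrCharacter C)]
    (hsum : ∑ ζ : IrrCharacter C, Dv ζ * Dv ζ = (p : ℤ) ^ blockDefect p e) (s : C)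
    (hs : ¬ IsPRegular p s) : intComb Dv s = 0 := by
  classical
  have hp0 : (p : ℂ) ≠ 0 := Nat.cast_ne_zero.mpr hpp.out.ne_zero
  have hpd0 : (p : ℂ) ^ blockDefect p e ≠ 0 := pow_ne_zero _ hp0
  set F : C → ℂ := pRegularPart p (intComb Dv) - intComb Dv with hF
  have hcls : IsClassFunction C F :=
    IsClassFunction.sub (isClassFunction_pRegularPart (isClassFunction_intComb Dv))
      (isClassFunction_intComb Dv)
  have hreg : pRegularPart p (intComb Dv) =
      ∑ ζ : IrrCharacter C, (Dv ζ : ℂ) • pRegularPart p (ζ : C → ℂ) := by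
    funext t
    rw [Finset.sum_apply]
    by_cases ht : IsPRegular p t
    · rw [pRegularPart_of_regular' p _ ht, intComb_eq_sum]
      apply Finset.sum_congr rfl
      intro ζ _
      rw [Pi.smul_apply, pRegularPart_of_regular' p _ ht, smul_eq_mul]
    · rw [pRegularPart_of_singular' p _ ht]
      symm
      apply Finset.sum_eq_zero
      intro ζ _
      rw [Pi.smul_apply, pRegularPart_of_singular' p _ ht, smul_zero]
  have h0 : F = 0 := by
    apply eq_zero_of_classInner_irr_eq_zero hcls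
    intro ζ'
    rw [hF, classInner_sub_left, classInner_intComb, hreg, classInner_sum_left]
    have h2 : ∀ ζ : IrrCharacter C,
        classInner ((Dv ζ : ℂ) • pRegularPart p (ζ : C → ℂ)) (ζ' : C → ℂ) =
          ((Dv ζ * Dv ζ : ℤ) : ℂ) * ((Dv ζ' : ℂ) / (p : ℂ) ^ blockDefect p e) := by
      intro ζ
      rw [classInner_smul_left]
      by_cases hζ : ζ ∈ e
      · rw [classInner_pRegularPart hM e he hζ, hN]
        push_cast
        ring
      · rw [dv_eq_zero_of_not_mem e Dv hN hζ]
        simp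
    rw [Finset.sum_congr rfl (fun ζ _ => h2 ζ), ← Finset.sum_mul, ← Int.cast_sum, hsum]
    push_cast
    field_simp
    ring
  have h1 := congrFun h0 s
  rw [hF] at h1
  simp only [Pi.sub_apply, Pi.zero_apply] at h1
  rw [pRegularPart_of_singular' p _ hs, zero_sub, neg_eq_zero] at h1
  exact h1

include hM he hN in
/-- `Φ / p^d` is a local integer -/
theorem memLocalRing_intComb_div [Fintype (IrrCharacter C)] [hprime : M.IsPrime]
    (hsum : ∑ ζ : IrrCharacter C, Dv ζ * Dv ζ = (p : ℤ) ^ blockDefect p e)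
    (E : IrrCharacter C → ℤ) (hE : ∑ ζ : IrrCharacter C, E ζ * Dv ζ = 1) (s : C) :
    MemLocalRing M (intComb Dv s / (p : ℂ) ^ blockDefect p e) := by
  classical
  have hp0 : (p : ℂ) ≠ 0 := Nat.cast_ne_zero.mpr hpp.out.ne_zero
  have hpd0 : (p : ℂ) ^ blockDefect p e ≠ 0 := pow_ne_zero _ hp0
  by_cases hs : IsPRegular p s
  · -- `φ s = ∑_{ζ' ∈ e} E ζ' ζ' s`
    set φ : ℂ := ∑ ζ' : IrrCharacter C, (if ζ' ∈ e then (E ζ' : ℂ) * (ζ' : C → ℂ) s else 0) with hφ
    have hφR : MemLocalRing M φ := by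
      rw [hφ]
      apply memLocalRing_finset_sum
      intro ζ' _
      by_cases h : ζ' ∈ e
      · rw [if_pos h]
        exact memLocalRing_mul (memLocalRing_intCast _) (Cfsg.Agent.Lib.Helper6.SepClasses.memLocalRing_irr_apply ζ' s)
      · rw [if_neg h]
        exact memLocalRing_zero
    have hE' : ∑ ζ' : IrrCharacter C, (if ζ' ∈ e then (E ζ' : ℂ) * (Dv ζ' : ℂ) else 0) = 1 := by
      have : ∀ ζ' : IrrCharacter C, (if ζ' ∈ e then (E ζ' : ℂ) * (Dv ζ' : ℂ) else 0) =
          ((E ζ' * Dv ζ' : ℤ) : ℂ) := by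
        intro ζ'
        by_cases h : ζ' ∈ e
        · rw [if_pos h]; push_cast; ring
        · rw [if_neg h, dv_eq_zero_of_not_mem e Dv hN h]; simp
      rw [Finset.sum_congr rfl (fun ζ' _ => this ζ'), ← Int.cast_sum, hE]
      simp
    -- `ζ s = Dv ζ * φ` for `ζ ∈ e`
    have hζs : ∀ ζ ∈ e, (ζ : C → ℂ) s = (Dv ζ : ℂ) * φ := by
      intro ζ hζ
      rw [hφ, Finset.mul_sum]
      have : ∀ ζ' : IrrCharacter C,
          (Dv ζ : ℂ) * (if ζ' ∈ e then (E ζ' : ℂ) * (ζ' : C → ℂ) s else 0) =
          (if ζ' ∈ e then (E ζ' : ℂ) * (Dv ζ' : ℂ) else 0) * (ζ : C → ℂ) s := by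
        intro ζ'
        by_cases h : ζ' ∈ e
        · rw [if_pos h, if_pos h]
          have := prop_of_rank_one hM e he Dv hN hζ h s hs
          linear_combination (-(E ζ' : ℂ)) * this
        · rw [if_neg h, if_neg h, mul_zero, zero_mul]
      rw [Finset.sum_congr rfl (fun ζ' _ => this ζ'), ← Finset.sum_mul, hE', one_mul]
    have h3 : intComb Dv s = (p : ℂ) ^ blockDefect p e * φ := by
      rw [intComb_eq_sum]
      have : ∀ ζ : IrrCharacter C, (Dv ζ : ℂ) * (ζ : C → ℂ) s = ((Dv ζ * Dv ζ : ℤ) : ℂ) * φ := by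
        intro ζ
        by_cases h : ζ ∈ e
        · rw [hζs ζ h]; push_cast; ring
        · rw [dv_eq_zero_of_not_mem e Dv hN h]; simp
      rw [Finset.sum_congr rfl (fun ζ _ => this ζ), ← Finset.sum_mul, ← Int.cast_sum, hsum]
      push_cast
      ring
    rw [h3, mul_div_cancel_left₀ _ hpd0]
    exact hφR
  · rw [intComb_eq_zero_of_singular hM e he Dv hN hsum s hs, zero_div]
    exact memLocalRing_zero

end RK

end Cfsg.Agent.Lib.Helper27.KleinPIRank
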