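/-
helper27: S4638 leaves (TRIV) `exists_regular_data` and (SUBSEC) `exists_subsection_data`: the rank-one
data of a `2`-block of defect `2` with four characters, and of a major subsection `(u, f)`, `u` an
involution, `l(f) = 1` (S4539 / S4637-L4 machinery).
-/
import Cfsg.Agent.Lib.Helper27.KleinPIRank

set_option autoImplicit false

namespace Cfsg.Agent.Lib.Helper27.KleinPISub

open Cfsg Cfsg.Agent.CharLib Cfsg.Agent.Lib.Helper24 Cfsg.Agent.Lib.Helper6 Cfsg.Agent.Lib.Helper23
open Cfsg.Agent.Lib.Helper23.Subsec Cfsg.Agent.Lib.Helper27.MajSub Cfsg.Agent.Lib.Helper27.KleinPI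
open Cfsg.Agent.Lib.Helper27.KleinPIRank
open scoped ComplexConjugate

universe u

section ALG

variable {M : Ideal AlgInt}

/-- the arithmetic core of (L4), with all its conclusions -/
theorem sign_alg (hM : IsPModular 2 M) {ι : Type*} [Fintype ι] (h : ι → ℕ) (i₀ : ι)
    (hi₀ : h i₀ = 0) (n : ι → ℤ) (c c' : ℤ) (hcc' : c * c' = 4) (hgram : ∑ i, n i * n i = c)
    (h5H : ∀ j, LocUnit M (((n i₀ : ℂ) * (c' : ℂ) * (n j : ℂ)) / (2 : ℂ) ^ h j)) :
    c' = 1 ∧ c = 4 ∧ ∀ j, n j * n j = 1 := by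
  classical
  have hprime : M.IsPrime := isPrime_of_isPModular hM
  have hne : ∀ j, n j ≠ 0 := by
    intro j h0
    apply (h5H j).2
    rw [h0]
    simp only [Int.cast_zero, mul_zero, zero_div]
    exact memLocalIdeal_zero hprime.one_notMem
  have hodd : ¬ (2 : ℤ) ∣ n i₀ * c' * n i₀ := by
    intro hdvd
    apply (h5H i₀).2
    rw [hi₀, pow_zero, div_one]
    have := (Cfsg.Agent.Lib.Helper9.TwoMajZ.memLocalIdeal_intCast_iff hM (n i₀ * c' * n i₀)).mpr hdvd
    push_cast at this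
    exact this
  have hc'odd : ¬ (2 : ℤ) ∣ c' := fun hd => hodd (Dvd.dvd.mul_right (Dvd.dvd.mul_left hd _) _)
  have hn0odd : ¬ (2 : ℤ) ∣ n i₀ := fun hd => hodd (Dvd.dvd.mul_left hd _)
  have hsq : ∀ i, 1 ≤ n i * n i := by
    intro i
    have h1 : 0 < n i * n i := mul_self_pos.mpr (hne i)
    omega
  have hcpos : 0 < c := by
    rw [← hgram]
    calc (0 : ℤ) < n i₀ * n i₀ := mul_self_pos.mpr (hne i₀)
      _ ≤ ∑ i, n i * n i :=
        Finset.single_le_sum (f := fun i => n i * n i) (fun i _ => mul_self_nonneg (n i))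
          (Finset.mem_univ i₀)
  have hc'pos : 0 < c' := by
    by_contra hneg
    have hneg' : c' ≤ 0 := not_lt.mp hneg
    have : c * c' ≤ 0 := mul_nonpos_of_nonneg_of_nonpos hcpos.le hneg'
    omega
  have hc'le : c' ≤ 4 := by
    have h1 : c' ∣ 4 := ⟨c, by rw [← hcc']; ring⟩
    exact Int.le_of_dvd (by norm_num) h1
  have hc'1 : c' = 1 := by
    have h1 : c' ∣ 4 := ⟨c, by rw [← hcc']; ring⟩
    interval_cases c'
    · rfl
    · exact absurd (dvd_refl (2 : ℤ)) hc'odd
    · omega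
    · exact absurd (⟨2, by norm_num⟩ : (2 : ℤ) ∣ 4) hc'odd
  have hc4 : c = 4 := by rw [hc'1, mul_one] at hcc'; exact hcc'
  rw [hc4] at hgram
  have hle : ∀ j, n j * n j ≤ 4 := by
    intro j
    rw [← hgram]
    exact Finset.single_le_sum (f := fun i => n i * n i) (fun i _ => mul_self_nonneg (n i))
      (Finset.mem_univ j)
  have hone : ∀ j, n j * n j = 1 := by
    intro j
    by_contra hj
    have h1 := hsq j
    have h2 := hle j
    have h4 : n j * n j = 4 := by
      have hb1 : -2 ≤ n j := by nlinarith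
      have hb2 : n j ≤ 2 := by nlinarith
      have hnz := hne j
      interval_cases (n j) <;> simp_all
    have hrest : ∑ i ∈ Finset.univ.erase j, n i * n i = 0 := by
      have h6 : n j * n j + ∑ i ∈ Finset.univ.erase j, n i * n i = ∑ i, n i * n i :=
        Finset.add_sum_erase Finset.univ (fun i => n i * n i) (Finset.mem_univ j)
      omega
    have hall : ∀ i, i = j := by
      intro i
      by_contra hij
      have h5 : n i * n i ≤ ∑ i ∈ Finset.univ.erase j, n i * n i :=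
        Finset.single_le_sum (f := fun i => n i * n i) (fun i _ => mul_self_nonneg (n i))
          (Finset.mem_erase.mpr ⟨hij, Finset.mem_univ i⟩)
      have := hsq i
      omega
    have hi₀j : i₀ = j := hall i₀
    rw [← hi₀j] at h4
    apply hn0odd
    have hb1 : -2 ≤ n i₀ := by nlinarith
    have hb2 : n i₀ ≤ 2 := by nlinarith
    interval_cases (n i₀) <;> simp_all
  exact ⟨hc'1, hc4, hone⟩

theorem conj_intCast_aux (n : ℤ) : conj (n : ℂ) = (n : ℂ) := Complex.conj_eq_iff_re.mpr rfl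

theorem sq_eq_one_iff_int {a : ℤ} (h : a * a = 1) : a = 1 ∨ a = -1 := by
  have hb1 : -1 ≤ a := by nlinarith
  have hb2 : a ≤ 1 := by nlinarith
  interval_cases a
  · right; rfl
  · simp at h
  · left; rfl

end ALG

section POS

variable {C : Type u} [Group C] [Fintype C] {M : Ideal AlgInt} {p : ℕ} [hpp : Fact p.Prime]

/-- the diagonal entries of `N` on the block are positive -/
theorem nMat_self_pos (hM : IsPModular p M) (e : Set (IrrCharacter C)) (he : IsPBlock M e)
    {ζ : IrrCharacter C} (hζ : ζ ∈ e) : 0 < nMat p e ζ ζ := by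
  classical
  have hp0 : (p : ℝ) ≠ 0 := Nat.cast_ne_zero.mpr hpp.out.ne_zero
  have h1 := Cfsg.Agent.Lib.Helper27.MajSubGR.regInner_eq_nMat hM e he hζ ζ
  -- the sum is a positive real
  set r : ℝ := ∑ s : C, (if p ∣ orderOf s then 0 else Complex.normSq ((ζ : C → ℂ) s)) with hr
  have hsum : ∑ s : C, (if p ∣ orderOf s then (0 : ℂ) else
      (ζ : C → ℂ) s * conj ((ζ : C → ℂ) s)) = (r : ℂ) := by
    rw [hr]
    push_cast
    apply Finset.sum_congr rfl
    intro s _
    by_cases hs : p ∣ orderOf s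
    · rw [if_pos hs, if_pos hs, Complex.ofReal_zero]
    · rw [if_neg hs, if_neg hs, Complex.mul_conj]
  have hrpos : 0 < r := by
    rw [hr]
    have hnn : ∀ s ∈ (Finset.univ : Finset C),
        (0 : ℝ) ≤ (if p ∣ orderOf s then 0 else Complex.normSq ((ζ : C → ℂ) s)) := by
      intro s _
      by_cases hs : p ∣ orderOf s
      · rw [if_pos hs]
      · rw [if_neg hs]; exact Complex.normSq_nonneg _
    have h1' : ¬ p ∣ orderOf (1 : C) := by
      rw [orderOf_one]
      exact hpp.out.one_lt.ne' ∘ Nat.dvd_one.mp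
    have hone : (0 : ℝ) < (if p ∣ orderOf (1 : C) then 0 else Complex.normSq ((ζ : C → ℂ) 1)) := by
      rw [if_neg h1']
      apply Complex.normSq_pos.mpr
      exact Cfsg.Agent.Lib.Helper24.irr_apply_one_ne_zero ζ
    exact lt_of_lt_of_le hone (Finset.single_le_sum hnn (Finset.mem_univ (1 : C)))
  rw [hsum] at h1
  have hcard : (0 : ℝ) < (Nat.card C : ℝ) := Nat.cast_pos.mpr Nat.card_pos
  have h2 : ((nMat p e ζ ζ : ℤ) : ℝ) = (p : ℝ) ^ blockDefect p e * ((Nat.card C : ℝ)⁻¹ * r) := by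
    have hpd : (p : ℂ) ^ blockDefect p e ≠ 0 :=
      pow_ne_zero _ (Nat.cast_ne_zero.mpr hpp.out.ne_zero)
    have h3 : ((nMat p e ζ ζ : ℤ) : ℂ) =
        (p : ℂ) ^ blockDefect p e * ((Nat.card C : ℂ)⁻¹ * (r : ℂ)) := by
      rw [h1]; field_simp
    have h4 : (((nMat p e ζ ζ : ℤ) : ℝ) : ℂ) =
        (((p : ℝ) ^ blockDefect p e * ((Nat.card C : ℝ)⁻¹ * r) : ℝ) : ℂ) := by
      push_cast
      exact h3
    exact_mod_cast h4
  have h5 : (0 : ℝ) < ((nMat p e ζ ζ : ℤ) : ℝ) := by
    rw [h2]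
    positivity
  exact_mod_cast h5

end POS

section TRIV

variable {G : Type u} [Group G] [Fintype G] {M : Ideal AlgInt}

omit [Fintype G] in
/-- `thetaFun` of a vector supported on `B` is the integer combination -/
theorem thetaFun_eq_intComb (B : Set (IrrCharacter G)) (n : IrrCharacter G → ℤ)
    (hn : ∀ χ, χ ∉ B → n χ = 0) (x : G) : thetaFun B n x = intComb n x := by
  classical
  unfold thetaFun intComb
  rw [finsum_mem_def]
  apply finsum_congr
  intro χ
  by_cases h : χ ∈ B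
  · rw [Set.indicator_of_mem h]
  · rw [Set.indicator_of_notMem h, hn χ h]
    simp

/-- (TRIV) a `2`-block of defect `2` with `l(B) = 1` and `k(B) = 4`. -/
theorem exists_regular_data (hM : IsPModular 2 M) (B : Set (IrrCharacter G)) (hB : IsPBlock M B)
    (hd : blockDefect 2 B = 2) (hl : blockRank 2 B = 1) (hk : Nat.card B = 4) :
    ∃ n : IrrCharacter G → ℤ, (∀ χ ∈ B, n χ = 1 ∨ n χ = -1) ∧
      (∀ x : G, ¬ IsPRegular 2 x → thetaFun B n x = 0) ∧
      ∀ x : G, MemLocalRing M (thetaFun B n x / 4) := by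
  classical
  have hpp : Fact (2 : ℕ).Prime := ⟨Nat.prime_two⟩
  have hprime : M.IsPrime := isPrime_of_isPModular hM
  let _ := fintypeIrr G
  set Nm : Matrix (IrrCharacter G) (IrrCharacter G) ℤ := Matrix.of (nMat 2 B) with hNm
  have hsymm : Nm.transpose = Nm := by
    ext ζ ζ'
    simp only [Matrix.transpose_apply, hNm, Matrix.of_apply]
    exact Cfsg.Agent.Lib.Helper8.MajSubNB.nMat_symm B ζ' ζ
  have hpd0 : (((2 : ℕ) : ℤ) ^ blockDefect 2 B) ≠ 0 := pow_ne_zero _ (by norm_num)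
  have hsq : Nm * Nm = (((2 : ℕ) : ℤ) ^ blockDefect 2 B) • Nm := by
    ext ζ ζ''
    simp only [Matrix.mul_apply, Matrix.smul_apply, hNm, Matrix.of_apply, smul_eq_mul]
    exact Cfsg.Agent.Lib.Helper19.MajSubNB3.nMat_sq hM B hB ζ ζ''
  obtain ⟨r, D, E, C', hED, hN, hC'symm, hCC', htr⟩ :=
    Cfsg.Agent.Lib.Helper7.MajSubLAT.exists_basic Nm hsymm _ hpd0 hsq
  have hr : r = 1 := by
    have h1 : Nm.trace = ((2 : ℕ) : ℤ) ^ blockDefect 2 B * (blockRank 2 B : ℤ) := by
      rw [Matrix.trace]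
      simp only [Matrix.diag_apply, hNm, Matrix.of_apply]
      exact Cfsg.Agent.Lib.Helper19.MajSubNB4.nMat_trace hM B hB
    rw [h1] at htr
    have := mul_left_cancel₀ hpd0 htr
    rw [hl] at this
    exact_mod_cast this.symm
  subst hr
  set Dv : IrrCharacter G → ℤ := fun ζ => D ζ 0 with hDv
  set c' : ℤ := C' 0 0 with hc'
  have hN' : ∀ ζ ζ', nMat 2 B ζ ζ' = Dv ζ * c' * Dv ζ' := by
    intro ζ ζ'
    have h1 := congrFun (congrFun hN ζ) ζ'
    simp only [hNm, Matrix.of_apply, Matrix.mul_apply, Fin.sum_univ_one,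
      Matrix.transpose_apply] at h1
    exact h1
  have hsumc : (∑ ζ : IrrCharacter G, Dv ζ * Dv ζ) * c' = 4 := by
    have h1 := congrFun (congrFun hCC' 0) 0
    rw [hd] at h1
    simpa [Matrix.mul_apply, Fin.sum_univ_one, hDv, hc'] using h1
  -- positivity
  have hpos : ∀ χ ∈ B, 0 < Dv χ * c' * Dv χ := by
    intro χ hχ
    rw [← hN']
    exact nMat_self_pos hM B hB hχ
  obtain ⟨χ₀, hχ₀⟩ : B.Nonempty := by
    obtain ⟨χ₁, rfl⟩ := hB
    exact ⟨χ₁, mem_blockOf_self χ₁⟩
  have hc'pos : 0 < c' := by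
    have h1 := hpos χ₀ hχ₀
    have h2 : Dv χ₀ * c' * Dv χ₀ = c' * (Dv χ₀ * Dv χ₀) := by ring
    rw [h2] at h1
    by_contra hneg
    have : c' * (Dv χ₀ * Dv χ₀) ≤ 0 :=
      mul_nonpos_of_nonpos_of_nonneg (not_lt.mp hneg) (mul_self_nonneg _)
    omega
  have hne : ∀ χ ∈ B, Dv χ ≠ 0 := by
    intro χ hχ h0
    have := hpos χ hχ
    rw [h0] at this
    simp at this
  -- the sum over `B`
  have hfinB : B.Finite := Set.toFinite B
  have hcardB : hfinB.toFinset.card = 4 := by
    rw [← hk, Nat.card_coe_set_eq, Set.ncard_eq_toFinset_card B hfinB]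
  have hge : (4 : ℤ) ≤ ∑ ζ : IrrCharacter G, Dv ζ * Dv ζ := by
    calc (4 : ℤ) = ∑ χ ∈ hfinB.toFinset, (1 : ℤ) := by
          rw [Finset.sum_const, hcardB]; norm_num
      _ ≤ ∑ χ ∈ hfinB.toFinset, Dv χ * Dv χ := by
          apply Finset.sum_le_sum
          intro χ hχ
          have h1 : 0 < Dv χ * Dv χ := mul_self_pos.mpr (hne χ (hfinB.mem_toFinset.mp hχ))
          omega
      _ ≤ ∑ ζ : IrrCharacter G, Dv ζ * Dv ζ :=
          Finset.sum_le_sum_of_subset_of_nonneg (Finset.subset_univ _)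
            (fun ζ _ _ => mul_self_nonneg _)
  have hc'1 : c' = 1 := by
    by_contra hne1
    have h2 : 2 ≤ c' := by omega
    have : (∑ ζ : IrrCharacter G, Dv ζ * Dv ζ) * c' ≥ 4 * 2 := by nlinarith
    omega
  have hsum4 : ∑ ζ : IrrCharacter G, Dv ζ * Dv ζ = 4 := by
    rw [hc'1, mul_one] at hsumc
    exact hsumc
  have hN'' : ∀ ζ ζ', nMat 2 B ζ ζ' = Dv ζ * Dv ζ' := by
    intro ζ ζ'
    rw [hN', hc'1, mul_one]
  have hDv0 : ∀ χ, χ ∉ B → Dv χ = 0 := fun χ hχ => dv_eq_zero_of_not_mem B Dv hN'' hχ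
  -- each square is one
  have hone : ∀ χ ∈ B, Dv χ * Dv χ = 1 := by
    intro χ hχ
    by_contra hcon
    have h1 : 0 < Dv χ * Dv χ := mul_self_pos.mpr (hne χ hχ)
    have h2 : 2 ≤ Dv χ * Dv χ := by omega
    have hχ' : χ ∈ hfinB.toFinset := hfinB.mem_toFinset.mpr hχ
    have h3 : (5 : ℤ) ≤ ∑ χ' ∈ hfinB.toFinset, Dv χ' * Dv χ' := by
      rw [← Finset.add_sum_erase _ _ hχ']
      have h4 : (3 : ℤ) ≤ ∑ χ' ∈ hfinB.toFinset.erase χ, Dv χ' * Dv χ' := by
        calc (3 : ℤ) = ∑ χ' ∈ hfinB.toFinset.erase χ, (1 : ℤ) := by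
              rw [Finset.sum_const, Finset.card_erase_of_mem hχ', hcardB]; norm_num
          _ ≤ ∑ χ' ∈ hfinB.toFinset.erase χ, Dv χ' * Dv χ' := by
              apply Finset.sum_le_sum
              intro χ' hχ''
              have h5 : 0 < Dv χ' * Dv χ' :=
                mul_self_pos.mpr (hne χ' (hfinB.mem_toFinset.mp (Finset.mem_of_mem_erase hχ'')))
              omega
      omega
    have h6 : ∑ χ' ∈ hfinB.toFinset, Dv χ' * Dv χ' ≤ ∑ ζ : IrrCharacter G, Dv ζ * Dv ζ :=
      Finset.sum_le_sum_of_subset_of_nonneg (Finset.subset_univ _)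
        (fun ζ _ _ => mul_self_nonneg _)
    omega
  have hsum' : ∑ ζ : IrrCharacter G, Dv ζ * Dv ζ = ((2 : ℕ) : ℤ) ^ blockDefect 2 B := by
    rw [hsum4, hd]; norm_num
  have hE : ∑ ζ : IrrCharacter G, E 0 ζ * Dv ζ = 1 := by
    have h1 := congrFun (congrFun hED 0) 0
    simpa [Matrix.mul_apply, hDv] using h1
  refine ⟨Dv, fun χ hχ => sq_eq_one_iff_int (hone χ hχ), ?_, ?_⟩
  · intro x hx
    rw [thetaFun_eq_intComb B Dv hDv0]
    exact intComb_eq_zero_of_singular hM B hB Dv hN'' hsum' x hx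
  · intro x
    rw [thetaFun_eq_intComb B Dv hDv0]
    have := memLocalRing_intComb_div hM B hB Dv hN'' hsum' (fun ζ => E 0 ζ) hE x
    rw [hd] at this
    have h4 : ((2 : ℕ) : ℂ) ^ 2 = 4 := by norm_num
    rwa [h4] at this

end TRIV

section SUBSEC

variable {G : Type u} [Group G] [Fintype G] {M : Ideal AlgInt}

/-- the inner product of `thetaFun B n` with an irreducible character -/
theorem classInner_thetaFun_irr (B : Set (IrrCharacter G)) (n : IrrCharacter G → ℤ)
    (hn : ∀ χ, χ ∉ B → n χ = 0) (χ' : IrrCharacter G) :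
    classInner (thetaFun B n) (χ' : G → ℂ) = (n χ' : ℂ) := by
  have h1 : thetaFun B n = intComb n := funext (thetaFun_eq_intComb B n hn)
  rw [h1, classInner_intComb]

/-- (SUBSEC) a major subsection `(u, f)` of a `2`-block of defect `2`, `u` an involution, `l(f) = 1`. -/
theorem exists_subsection_data (hM : IsPModular 2 M) (u : G) (hu2 : orderOf u = 2)
    (B : Set (IrrCharacter G)) (hB : IsPBlock M B)
    (f : Set (IrrCharacter (Subgroup.centralizer ({u} : Set G))))
    (hind : IsInducedBlock M (Subgroup.centralizer ({u} : Set G)) f B)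
    (hdef : blockDefect 2 f = blockDefect 2 B) (hd : blockDefect 2 B = 2)
    (hl : blockRank 2 f = 1) :
    ∃ (n : IrrCharacter G → ℤ) (D : IrrCharacter (Subgroup.centralizer ({u} : Set G)) → ℤ),
      (∀ χ ∈ B, n χ = 1 ∨ n χ = -1) ∧ (∀ ζ, ζ ∉ f → D ζ = 0) ∧
      (∀ s : Subgroup.centralizer ({u} : Set G), ¬ IsPRegular 2 s → intComb D s = 0) ∧
      (∀ s : Subgroup.centralizer ({u} : Set G), MemLocalRing M (intComb D s / ((4 : ℕ) : ℂ))) ∧
      ∀ g : G, thetaFun B n g =
        (Nat.card (Subgroup.centralizer ({u} : Set G)) : ℂ)⁻¹ * secInd 2 u (intComb D) g := by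
  classical
  have hpp : Fact (2 : ℕ).Prime := ⟨Nat.prime_two⟩
  have hprime : M.IsPrime := isPrime_of_isPModular hM
  set C := Subgroup.centralizer ({u} : Set G) with hCdef
  let _ : Fintype C := Fintype.ofFinite C
  let _ := fintypeIrr C
  let _ := fintypeIrr G
  obtain ⟨ψ₀, hb⟩ := hind.1
  subst hb
  set e := blockOf M (ψ₀ : C → ℂ) with he
  have he' : IsPBlock M e := ⟨ψ₀, rfl⟩
  have hz : ∃ k : ℕ, orderOf u = 2 ^ k := ⟨1, by rw [hu2, pow_one]⟩
  have hzC : u ∈ C := by
    rw [hCdef]; exact Subgroup.mem_centralizer_singleton_iff.mpr rfl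
  have hcommC : ∀ c : G, c ∈ C → c * u = u * c := by
    intro c hc
    rw [hCdef, Subgroup.mem_centralizer_singleton_iff] at hc
    exact hc
  have hcen : (⟨u, hzC⟩ : C) ∈ Subgroup.center C := by
    rw [Subgroup.mem_center_iff]
    intro g
    apply Subtype.ext
    exact hcommC g g.2
  set w : Subgroup.center C := ⟨⟨u, hzC⟩, hcen⟩ with hw
  have hwz : (((w : C) : G)) = u := rfl
  have hww : w * w = 1 := by
    apply Subtype.ext
    apply Subtype.ext
    change u * u = 1
    have := pow_orderOf_eq_one u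
    rw [hu2, pow_two] at this
    exact this
  have hd2 : blockDefect 2 e = 2 := by rw [hdef, hd]
  -- the basic set
  set Nm : Matrix (IrrCharacter C) (IrrCharacter C) ℤ := Matrix.of (nMat 2 e) with hNm
  have hsymm : Nm.transpose = Nm := by
    ext ζ ζ'
    simp only [Matrix.transpose_apply, hNm, Matrix.of_apply]
    exact Cfsg.Agent.Lib.Helper8.MajSubNB.nMat_symm e ζ' ζ
  have hpd0 : (((2 : ℕ) : ℤ) ^ blockDefect 2 e) ≠ 0 := pow_ne_zero _ (by norm_num)
  have hsq : Nm * Nm = (((2 : ℕ) : ℤ) ^ blockDefect 2 e) • Nm := by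
    ext ζ ζ''
    simp only [Matrix.mul_apply, Matrix.smul_apply, hNm, Matrix.of_apply, smul_eq_mul]
    exact Cfsg.Agent.Lib.Helper19.MajSubNB3.nMat_sq hM e he' ζ ζ''
  obtain ⟨r, D, E, C', hED, hN, hC'symm, hCC', htr⟩ :=
    Cfsg.Agent.Lib.Helper7.MajSubLAT.exists_basic Nm hsymm _ hpd0 hsq
  have hr : r = 1 := by
    have h1 : Nm.trace = ((2 : ℕ) : ℤ) ^ blockDefect 2 e * (blockRank 2 e : ℤ) := by
      rw [Matrix.trace]
      simp only [Matrix.diag_apply, hNm, Matrix.of_apply]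
      exact Cfsg.Agent.Lib.Helper19.MajSubNB4.nMat_trace hM e he'
    rw [h1] at htr
    have := mul_left_cancel₀ hpd0 htr
    rw [hl] at this
    exact_mod_cast this.symm
  subst hr
  -- the index type
  set ι := {χ : IrrCharacter G // χ ∈ B} with hι
  have hBne : B.Nonempty := by
    obtain ⟨χ₁, rfl⟩ := hB
    exact ⟨χ₁, mem_blockOf_self χ₁⟩
  obtain ⟨χ₀, hχ₀, hχ₀min⟩ := exists_minVal (p := 2) hBne
  set i₀ : ι := ⟨χ₀, hχ₀⟩ with hi₀def
  have hi₀ : blockHeight 2 B ((i₀ : IrrCharacter G) : G → ℂ) = 0 :=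
    (blockHeight_eq_zero_iff hχ₀).mpr hχ₀min
  -- the integers
  choose m hm using fun χ : IrrCharacter G =>
    Cfsg.Agent.Lib.Helper27.KleinL4.exists_int_gdec C e w hww D χ 0
  rw [hwz] at hm
  obtain ⟨hc'1, hc4, hone⟩ := sign_alg hM (fun i : ι => blockHeight 2 B ((i : IrrCharacter G) : G → ℂ))
    i₀ hi₀ (fun i => m (i : IrrCharacter G)) ((D.transpose * D) 0 0) (C' 0 0)
    (by
      have h1 := congrFun (congrFun hCC' 0) 0
      rw [hd2] at h1
      simpa [Matrix.mul_apply, Fin.sum_univ_one] using h1)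
    (by
      have h1 := Cfsg.Agent.Lib.Helper27.MajSubMain.gram_gdec hM u hz C hCdef B hB ψ₀ hind D E C' hED hN
        hC'symm hCC' 0 0
      rw [Finset.sum_subtype (Finset.univ.filter (· ∈ B)) (p := (· ∈ B)) (fun χ => by simp)] at h1
      have h2 : ((∑ i : ι, m (i : IrrCharacter G) * m (i : IrrCharacter G) : ℤ) : ℂ) =
          (((D.transpose * D) 0 0 : ℤ) : ℂ) := by
        rw [← h1]
        push_cast
        apply Finset.sum_congr rfl
        intro i _
        rw [hm]
        simp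
      exact_mod_cast h2)
    (by
      intro j
      have h1 := (Cfsg.Agent.Lib.Helper23.MajSubH5.contrib_5H hM u hz C hCdef B e hind hdef
        (i₀ : IrrCharacter G) (j : IrrCharacter G) i₀.2 hi₀ j.2).1
      have h2 := Cfsg.Agent.Lib.Helper27.MajSubMain.contrib_eq_gdec hM u C hzC hcommC e he' D C' hN
        (i₀ : IrrCharacter G) (j : IrrCharacter G)
      rw [← hdef] at h1
      have h3 : ((2 : ℕ) : ℂ) ^ blockDefect 2 e *
          contrib 2 C e u (i₀ : IrrCharacter G) (j : IrrCharacter G) =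
          (m (i₀ : IrrCharacter G) : ℂ) * (C' 0 0 : ℂ) * (m (j : IrrCharacter G) : ℂ) := by
        rw [h2, Fin.sum_univ_one, Fin.sum_univ_one, hm, hm]
        simp
      rw [h3] at h1
      simpa using h1)
  -- the column
  set Dv : IrrCharacter C → ℤ := fun ζ => D ζ 0 with hDv
  have hN'' : ∀ ζ ζ', nMat 2 e ζ ζ' = Dv ζ * Dv ζ' := by
    intro ζ ζ'
    have h1 := congrFun (congrFun hN ζ) ζ'
    simp only [hNm, Matrix.of_apply, Matrix.mul_apply, Fin.sum_univ_one,
      Matrix.transpose_apply] at h1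
    rw [h1, hc'1, mul_one]
  have hDv0 : ∀ ζ, ζ ∉ e → Dv ζ = 0 := fun ζ hζ => dv_eq_zero_of_not_mem e Dv hN'' hζ
  have hsum4 : ∑ ζ : IrrCharacter C, Dv ζ * Dv ζ = 4 := by
    rw [← hc4]
    simp [Matrix.mul_apply, hDv]
  have hsum' : ∑ ζ : IrrCharacter C, Dv ζ * Dv ζ = ((2 : ℕ) : ℤ) ^ blockDefect 2 e := by
    rw [hsum4, hd2]; norm_num
  have hE : ∑ ζ : IrrCharacter C, E 0 ζ * Dv ζ = 1 := by
    have h1 := congrFun (congrFun hED 0) 0
    simpa [Matrix.mul_apply, hDv] using h1
  have hvan : ∀ s : C, ¬ IsPRegular 2 s → intComb Dv s = 0 :=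
    fun s hs => intComb_eq_zero_of_singular hM e he' Dv hN'' hsum' s hs
  -- `gdec` in terms of inner products
  have hgdec : ∀ χ : IrrCharacter G, gdec C e D u χ 0 =
      ∑ ζ : IrrCharacter C,
        classInner (fun c : C => (χ : G → ℂ) (u * (c : G))) (ζ : C → ℂ) * (Dv ζ : ℂ) := by
    intro χ
    unfold gdec
    apply Finset.sum_congr rfl
    intro ζ _
    unfold zCoeff
    by_cases hζ : ζ ∈ e
    · rw [if_pos hζ]
    · rw [if_neg hζ, hDv0 ζ hζ]
      simp
  -- `gdec` vanishes off `B`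
  have hoff : ∀ χ : IrrCharacter G, χ ∉ B → gdec C e D u χ 0 = 0 := by
    intro χ hχ
    have hB' : IsPBlock M (blockOf M (χ : G → ℂ)) := ⟨χ, rfl⟩
    have hnot : ¬ IsInducedBlock M C e (blockOf M (χ : G → ℂ)) := by
      intro hcon
      have := isInducedBlock_unique hind hcon
      apply hχ
      rw [this]
      exact mem_blockOf_self χ
    have h1 := Cfsg.Agent.S0923.result 2 M hM u hz (blockOf M (χ : G → ℂ)) hB' χ
      (mem_blockOf_self χ) e he' hnot 1 (by rw [orderOf_one]; norm_num)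
    have h2 : decFun C e u χ 1 = 0 := h1
    rw [Cfsg.Agent.Lib.Helper27.MajSubSmall.decFun_eq_zCoeff] at h2
    -- proportionality at `1`
    have hψ₀ : ψ₀ ∈ e := mem_blockOf_self ψ₀
    have hDψ : Dv ψ₀ ≠ 0 := by
      intro h0
      have := nMat_self_pos hM e he' hψ₀
      rw [hN'', h0] at this
      simp at this
    have h3 : (Dv ψ₀ : ℂ) * ∑ ζ : IrrCharacter C, zCoeff C e u χ ζ * (ζ : C → ℂ) 1 =
        (ψ₀ : C → ℂ) 1 * gdec C e D u χ 0 := by
      unfold gdec
      rw [Finset.mul_sum, Finset.mul_sum]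
      apply Finset.sum_congr rfl
      intro ζ _
      by_cases hζ : ζ ∈ e
      · have h4 := prop_of_rank_one hM e he' Dv hN'' hζ hψ₀ 1
          (by unfold IsPRegular; rw [orderOf_one]; norm_num)
        have : (D ζ 0 : ℂ) = (Dv ζ : ℂ) := rfl
        rw [this]
        linear_combination (zCoeff C e u χ ζ) * h4
      · unfold zCoeff
        rw [if_neg hζ]
        simp
    rw [h2, mul_zero] at h3
    exact (mul_eq_zero.mp h3.symm).resolve_left (Cfsg.Agent.Lib.Helper24.irr_apply_one_ne_zero ψ₀)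
  -- the sign vector
  set n : IrrCharacter G → ℤ := fun χ => if χ ∈ B then m χ else 0 with hn
  have hn0 : ∀ χ, χ ∉ B → n χ = 0 := fun χ hχ => by rw [hn]; simp only [hχ, if_false]
  have hngd : ∀ χ : IrrCharacter G, gdec C e D u χ 0 = (n χ : ℂ) := by
    intro χ
    by_cases hχ : χ ∈ B
    · rw [hm χ, hn]; simp only [hχ, if_true]
    · rw [hoff χ hχ, hn0 χ hχ]; simp
  refine ⟨n, Dv, ?_, hDv0, hvan, ?_, ?_⟩
  · intro χ hχ
    have h1 := hone ⟨χ, hχ⟩
    have : n χ = m χ := by rw [hn]; simp only [hχ, if_true]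
    rw [this]
    exact sq_eq_one_iff_int h1
  · intro s
    have := memLocalRing_intComb_div hM e he' Dv hN'' hsum' (fun ζ => E 0 ζ) hE s
    rw [hd2] at this
    have h4 : ((2 : ℕ) : ℂ) ^ 2 = ((4 : ℕ) : ℂ) := by norm_num
    rwa [h4] at this
  · -- the induced class function
    have hcard0 : (Nat.card C : ℂ) ≠ 0 := Nat.cast_ne_zero.mpr Nat.card_pos.ne'
    set F : G → ℂ := thetaFun B n - (fun g => (Nat.card C : ℂ)⁻¹ * secInd 2 u (intComb Dv) g)
      with hF
    have hcls1 : IsClassFunction G (thetaFun B n) := by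
      have h1 : thetaFun B n = intComb n := funext (thetaFun_eq_intComb B n hn0)
      rw [h1]
      exact isClassFunction_intComb n
    have hcls2 : IsClassFunction G
        (fun g => (Nat.card C : ℂ)⁻¹ * secInd 2 u (intComb Dv) g) := by
      intro g h
      simp only
      rw [secInd_isClassFunction 2 u (intComb Dv) g h]
    have h0 : F = 0 := by
      apply eq_zero_of_classInner_irr_eq_zero (IsClassFunction.sub hcls1 hcls2)
      intro χ'
      rw [classInner_sub_left, classInner_thetaFun_irr B n hn0]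
      have h1 : (fun g => (Nat.card C : ℂ)⁻¹ * secInd 2 u (intComb Dv) g) =
          (Nat.card C : ℂ)⁻¹ • secInd 2 u (intComb Dv) := by
        funext g
        rw [Pi.smul_apply, smul_eq_mul]
      rw [h1, classInner_smul_left,
        classInner_secInd 2 u (intComb Dv)
          (IsCharacter.isClassFunction (IsIrrCharacter.isCharacter χ'.2)),
        ← mul_assoc, inv_mul_cancel₀ hcard0, one_mul]
      -- `⟨Φ, secRes χ'⟩ = ⟨Φ, ϑ⟩`
      set ϑ : C → ℂ := fun c => (χ' : G → ℂ) (u * (c : G)) with hϑ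
      have h2 : classInner (intComb Dv) (secRes 2 u (χ' : G → ℂ)) = classInner (intComb Dv) ϑ := by
        unfold classInner
        congr 1
        apply Finset.sum_congr rfl
        intro c _
        rw [secRes_apply]
        by_cases hc : IsPRegular 2 c
        · rw [pRegularPart_of_regular' 2 _ hc]
        · rw [hvan c hc, zero_mul, zero_mul]
      rw [h2]
      -- `⟨Φ, ϑ⟩ = conj gdec`
      have h3 : classInner (intComb Dv) ϑ = conj (gdec C e D u χ' 0) := by
        rw [hgdec χ', map_sum]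
        have h4 : intComb Dv = ∑ ζ : IrrCharacter C, (Dv ζ : ℂ) • (ζ : C → ℂ) := by
          funext s
          rw [intComb_eq_sum, Finset.sum_apply]
          rfl
        rw [h4, classInner_sum_left]
        apply Finset.sum_congr rfl
        intro ζ _
        rw [classInner_smul_left, map_mul, classInner_conj_symm, conj_intCast_aux]
        ring
      rw [h3, hngd χ', conj_intCast_aux, sub_self]
    intro g
    have h5 := congrFun h0 g
    rw [hF] at h5
    simp only [Pi.sub_apply, Pi.zero_apply] at h5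
    exact sub_eq_zero.mp h5

end SUBSEC

end Cfsg.Agent.Lib.Helper27.KleinPISub
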