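/-
helper27: S4638 assembly: a block `B` with a Klein four defect group `P` is perfectly isometric to its
Brauer correspondent `c` in `N_G(P)`.  Klein data of a block (`HadData` for inertial index one,
`TransData` for inertial index three) from the rank-one subsection data (S4539 / S4637 machinery), then
the isometry by pure algebra.  Leaves: see `notes/S4638_leaves.lean` (helpers 5, 7, 8, 9, 10, 13, 23, 29).
-/
import Mathlib
import Cfsg.Agent.Lib.Helper27.KleinPIDefs
import Cfsg.Agent.Lib.Helper27.KleinMain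
import Cfsg.Agent.Lib.Helper27.KleinPISub
import Cfsg.Agent.Lib.Helper29.KleinPILPROJ
import Cfsg.Agent.Lib.Helper9.KleinPIINNER
import Cfsg.Agent.Lib.Helper7.KleinPISECT
import Cfsg.Agent.Lib.Helper23.KleinPIORTH
import Cfsg.Agent.Lib.Helper5.KleinPILINB
import Cfsg.Agent.Lib.Helper27.KleinPIFUS
import Cfsg.Agent.Lib.Helper10.KleinPIPERFA
import Cfsg.Agent.Lib.Helper10.KleinPIPERFB
import Cfsg.Agent.Lib.Helper9.KleinPIROOT
import Cfsg.Agent.Lib.Helper23.KleinPINSIDE
import Cfsg.Agent.Lib.Helper5.KleinPISTAB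

set_option autoImplicit false

namespace Cfsg.Agent.Lib.Helper27.KleinPIMain

open Cfsg Cfsg.Agent.CharLib Cfsg.Agent.Lib.Helper24 Cfsg.Agent.Lib.Helper6
open Cfsg.Agent.Lib.Helper27.KleinPI
open scoped ComplexConjugate

universe u

section KD

variable {G : Type u} [Group G] [Fintype G] {M : Ideal AlgInt}


/-- (SECT) = helper7's `section_data_of` over helper29's (LPROJ) -/
theorem section_data' {p : ℕ} [hpp : Fact p.Prime] (hM : IsPModular p M) (u : G)
    (hu : ∃ k : ℕ, orderOf u = p ^ k)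
    (D : IrrCharacter (Subgroup.centralizer ({u} : Set G)) → ℤ)
    (hvan : ∀ s : Subgroup.centralizer ({u} : Set G), ¬ IsPRegular p s → intComb D s = 0) (g : G) :
    (IsPRegular p g → u ≠ 1 →
      (Nat.card (Subgroup.centralizer ({u} : Set G)) : ℂ)⁻¹ * secInd p u (intComb D) g = 0) ∧
    MemLocalRing M ((Nat.card (Subgroup.centralizer ({u} : Set G)) : ℂ)⁻¹ * secInd p u (intComb D) g /
      (Nat.card (Subgroup.centralizer ({g} : Set G)) : ℂ)) ∧
    ∀ m : ℕ, (∀ s : Subgroup.centralizer ({u} : Set G), MemLocalRing M (intComb D s / (m : ℂ))) →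
      MemLocalRing M ((Nat.card (Subgroup.centralizer ({u} : Set G)) : ℂ)⁻¹ *
        secInd p u (intComb D) g / (m : ℂ)) := by
  let _ : Fintype (Subgroup.centralizer ({u} : Set G)) := Fintype.ofFinite _
  exact Cfsg.Agent.Lib.Helper7.KleinPISECT.section_data_of hM u hu
    (fun a ha hv x => Cfsg.Agent.Lib.Helper29.KleinPILPROJ.memLocalRing_div_card_centralizer hM a ha hv x)
    D hvan g

/-- basic facts on a Klein four defect group -/
theorem klein_basic (hM : IsPModular 2 M) (B : Set (IrrCharacter G)) (hB : IsPBlock M B)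
    (P : Subgroup G) (hPD : IsDefectGroup 2 M B P) (hV : IsKleinFour P) :
    (∀ x ∈ P, ∀ y ∈ P, x * y = y * x) ∧ blockDefect 2 B = 2 ∧
      ∀ u ∈ P, u ≠ 1 → orderOf u = 2 := by
  have hp2 : Fact (2 : ℕ).Prime := ⟨Nat.prime_two⟩
  have hcardP : Nat.card P = 4 := hV.card_four
  refine ⟨?_, ?_, ?_⟩
  · intro x hx y hy
    have h := (IsKleinFour.isMulCommutative (G := P)).is_comm.comm ⟨x, hx⟩ ⟨y, hy⟩
    exact congrArg Subtype.val h
  · have h1 := card_defectGroup_eq hM B hB P hPD
    rw [hcardP] at h1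
    have : (2 : ℕ) ^ 2 = 2 ^ blockDefect 2 B := by rw [← h1]; norm_num
    exact (Nat.pow_right_injective (le_refl 2) this).symm
  · intro u huP hu1
    have h1 : (⟨u, huP⟩ : P) ^ 2 = 1 := by
      have := Monoid.pow_exponent_eq_one (⟨u, huP⟩ : P)
      rwa [hV.exponent_two] at this
    have h2 : u ^ 2 = 1 := by
      have := congrArg Subtype.val h1
      simpa using this
    exact orderOf_eq_prime h2 hu1

/-- the subsection data at a nontrivial element of `P` -/
theorem klein_subsection_data (hM : IsPModular 2 M) (B : Set (IrrCharacter G)) (hB : IsPBlock M B)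
    (P : Subgroup G) (hPD : IsDefectGroup 2 M B P) (hV : IsKleinFour P)
    (u : G) (huP : u ∈ P) (hu1 : u ≠ 1)
    (f : Set (IrrCharacter (Subgroup.centralizer ({u} : Set G))))
    (hind : IsInducedBlock M (Subgroup.centralizer ({u} : Set G)) f B)
    (hfD : IsDefectGroup 2 M f (P.subgroupOf (Subgroup.centralizer ({u} : Set G)))) :
    ∃ (n : IrrCharacter G → ℤ) (D : IrrCharacter (Subgroup.centralizer ({u} : Set G)) → ℤ),
      (∀ χ ∈ B, n χ = 1 ∨ n χ = -1) ∧ (∀ ζ, ζ ∉ f → D ζ = 0) ∧
      (∀ s : Subgroup.centralizer ({u} : Set G), ¬ IsPRegular 2 s → intComb D s = 0) ∧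
      (∀ s : Subgroup.centralizer ({u} : Set G), MemLocalRing M (intComb D s / ((4 : ℕ) : ℂ))) ∧
      ∀ g : G, thetaFun B n g =
        (Nat.card (Subgroup.centralizer ({u} : Set G)) : ℂ)⁻¹ * secInd 2 u (intComb D) g := by
  have hp2 : Fact (2 : ℕ).Prime := ⟨Nat.prime_two⟩
  obtain ⟨hcomm, hd, hord⟩ := klein_basic hM B hB P hPD hV
  obtain ⟨hlf, -⟩ := Cfsg.Agent.Lib.Helper27.KleinMain.klein_subsection hM B hB P hPD hV u huP hu1 f
    hind hfD
  have hcardP : Nat.card P = 4 := hV.card_four
  have hPH : P ≤ Subgroup.centralizer ({u} : Set G) := by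
    intro x hx
    rw [Subgroup.mem_centralizer_singleton_iff]
    exact hcomm x hx u huP
  have hcardD : Nat.card (P.subgroupOf (Subgroup.centralizer ({u} : Set G))) = 4 := by
    rw [← hcardP]
    exact Nat.card_congr (Subgroup.subgroupOfEquivOfLe hPH).toEquiv
  have h2 := card_defectGroup_eq hM f hind.1 _ hfD
  rw [hcardD] at h2
  have hdf : blockDefect 2 f = 2 := by
    have : (2 : ℕ) ^ 2 = 2 ^ blockDefect 2 f := by rw [← h2]; norm_num
    exact (Nat.pow_right_injective (le_refl 2) this).symm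
  exact Cfsg.Agent.Lib.Helper27.KleinPISub.exists_subsection_data hM u (hord u huP hu1) B hB f hind (by rw [hd, hdf]) hd hlf

/-- `thetaFun` as a sum over all irreducible characters -/
theorem thetaFun_eq_finsum (B : Set (IrrCharacter G)) (σ : IrrCharacter G → ℤ) (x : G) :
    thetaFun B σ x = ∑ᶠ χ : IrrCharacter G,
      (open Classical in if χ ∈ B then (σ χ : ℂ) else 0) * (χ : G → ℂ) x := by
  classical
  unfold thetaFun
  rw [finsum_mem_def]
  apply finsum_congr
  intro χ
  by_cases h : χ ∈ B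
  · rw [Set.indicator_of_mem h, if_pos h]
  · rw [Set.indicator_of_notMem h, if_neg h, zero_mul]

/-- divisibility of `thetaFun` by the centralizer orders when it vanishes on the singular elements -/
theorem thetaFun_div_centralizer (hM : IsPModular 2 M) (B : Set (IrrCharacter G))
    (σ : IrrCharacter G → ℤ) (hvan : ∀ x : G, ¬ IsPRegular 2 x → thetaFun B σ x = 0) (x : G) :
    MemLocalRing M (thetaFun B σ x / (Nat.card (Subgroup.centralizer ({x} : Set G)) : ℂ)) := by
  classical
  have hp2 : Fact (2 : ℕ).Prime := ⟨Nat.prime_two⟩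
  have hprime : M.IsPrime := isPrime_of_isPModular hM
  rw [thetaFun_eq_finsum]
  apply Cfsg.Agent.Lib.Helper29.KleinPILPROJ.memLocalRing_div_card_centralizer hM
  · intro χ
    by_cases h : χ ∈ B
    · rw [if_pos h]
      exact memLocalRing_intCast (σ χ)
    · rw [if_neg h]
      exact memLocalRing_zero
  · intro y hy
    rw [← thetaFun_eq_finsum]
    exact hvan y hy

/-- (KD-A) Klein data for inertial index one. -/
theorem klein_hadData (hM : IsPModular 2 M) (B : Set (IrrCharacter G)) (hB : IsPBlock M B)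
    (P : Subgroup G) (hPD : IsDefectGroup 2 M B P) (hV : IsKleinFour P)
    (c : Set (IrrCharacter (Subgroup.centralizer (P : Set G))))
    (hc : IsInducedBlock M (Subgroup.centralizer (P : Set G)) c B) (T : Subgroup G)
    (hT : ∀ g : G, g ∈ T ↔ (g ∈ Subgroup.normalizer (P : Set G) ∧
      StabilizesBlock (Subgroup.centralizer (P : Set G)) c g))
    (hcent : ∀ t ∈ T, ∀ u ∈ P, t * u * t⁻¹ = u) (hl : blockRank 2 B = 1) (hk : Nat.card B = 4) :
    ∃ σ : Fin 4 → IrrCharacter G → ℤ, HadData M B σ := by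
  classical
  have hp2 : Fact (2 : ℕ).Prime := ⟨Nat.prime_two⟩
  have hprime : M.IsPrime := isPrime_of_isPModular hM
  obtain ⟨hcomm, hd, hord⟩ := klein_basic hM B hB P hPD hV
  have hcardP : Nat.card P = 4 := hV.card_four
  obtain ⟨f, hf, hfus⟩ := Cfsg.Agent.Lib.Helper27.KleinPIFUS.exists_subsection_family hM B hB P hPD hcomm c hc T hT
  have hsub : ∀ u : G, u ∈ P → u ≠ 1 →
      ∃ (n : IrrCharacter G → ℤ) (D : IrrCharacter (Subgroup.centralizer ({u} : Set G)) → ℤ),
      (∀ χ ∈ B, n χ = 1 ∨ n χ = -1) ∧ (∀ ζ, ζ ∉ f u → D ζ = 0) ∧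
      (∀ s : Subgroup.centralizer ({u} : Set G), ¬ IsPRegular 2 s → intComb D s = 0) ∧
      (∀ s : Subgroup.centralizer ({u} : Set G), MemLocalRing M (intComb D s / ((4 : ℕ) : ℂ))) ∧
      ∀ g : G, thetaFun B n g =
        (Nat.card (Subgroup.centralizer ({u} : Set G)) : ℂ)⁻¹ * secInd 2 u (intComb D) g :=
    fun u huP hu1 => klein_subsection_data hM B hB P hPD hV u huP hu1 (f u) (hf u huP).1 (hf u huP).2
  choose! n D hn hD hvan hdiv hform using hsub
  obtain ⟨n0, hn0, hn0van, hn0div⟩ := Cfsg.Agent.Lib.Helper27.KleinPISub.exists_regular_data hM B hB hd hl hk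
  -- enumeration of `P`
  have hfin : Finite P := Nat.finite_of_card_ne_zero (by rw [hcardP]; norm_num)
  let _ : Fintype P := Fintype.ofFinite P
  obtain ⟨e, he0⟩ : ∃ e : Fin 4 ≃ P, e 0 = 1 := by
    have h4 : Fintype.card P = 4 := by rw [← Nat.card_eq_fintype_card, hcardP]
    let e₀ : P ≃ Fin 4 := Fintype.equivFinOfCardEq h4
    refine ⟨(e₀.trans (Equiv.swap (e₀ 1) 0)).symm, ?_⟩
    rw [Equiv.symm_apply_eq]
    simp
  have hne1 : ∀ i : Fin 4, i ≠ 0 → ((e i : P) : G) ≠ 1 := by
    intro i hi h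
    apply hi
    have : e i = e 0 := by rw [he0]; exact Subtype.ext h
    exact e.injective this
  have hinj : ∀ i j : Fin 4, ((e i : P) : G) = ((e j : P) : G) → i = j :=
    fun i j h => e.injective (Subtype.ext h)
  refine ⟨fun i => if i = 0 then n0 else n ((e i : P) : G), ?_, ?_, ?_, ?_, ?_⟩
  · intro i χ hχ
    by_cases hi : i = 0
    · simp only [hi, if_true]
      exact hn0 χ hχ
    · simp only [hi, if_false]
      exact hn _ (e i).2 (hne1 i hi) χ hχ
  · -- orthogonality
    have key0 : ∀ j : Fin 4, j ≠ 0 → ∑ᶠ χ ∈ B, n0 χ * n ((e j : P) : G) χ = 0 := by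
      intro j hj
      have h1 := Cfsg.Agent.Lib.Helper9.KleinPIINNER.classInner_thetaFun B n0 (n ((e j : P) : G))
      have h2 : classInner (thetaFun B n0) (thetaFun B (n ((e j : P) : G))) = 0 := by
        unfold classInner
        rw [Finset.sum_eq_zero, mul_zero]
        intro g _
        by_cases hg : IsPRegular 2 g
        · rw [hform _ (e j).2 (hne1 j hj) g,
            (section_data' hM ((e j : P) : G) ⟨1, by rw [hord _ (e j).2 (hne1 j hj), pow_one]⟩
              (D ((e j : P) : G)) (hvan _ (e j).2 (hne1 j hj)) g).1 hg (hne1 j hj), map_zero,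
            mul_zero]
        · rw [hn0van g hg, zero_mul]
      rw [h2] at h1
      exact_mod_cast h1.symm
    intro i j hij
    by_cases hi : i = 0
    · have hj : j ≠ 0 := fun h => hij (hi.trans h.symm)
      simp only [hi, hj, if_true, if_false]
      exact key0 j hj
    · by_cases hj : j = 0
      · simp only [hi, hj, if_true, if_false]
        rw [← key0 i hi]
        apply finsum_mem_congr rfl
        intro χ _
        ring
      · simp only [hi, hj, if_false]
        have h1 := Cfsg.Agent.Lib.Helper9.KleinPIINNER.classInner_thetaFun B (n ((e i : P) : G)) (n ((e j : P) : G))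
        have h3 : classInner (secInd 2 ((e i : P) : G) (intComb (D ((e i : P) : G))))
            (secInd 2 ((e j : P) : G) (intComb (D ((e j : P) : G)))) = 0 := by
          apply Cfsg.Agent.Lib.Helper23.KleinPIORTH.classInner_secInd_eq_zero hM ((e i : P) : G) ((e j : P) : G)
            ⟨1, by rw [hord _ (e i).2 (hne1 i hi), pow_one]⟩
            ⟨1, by rw [hord _ (e j).2 (hne1 j hj), pow_one]⟩
            (f _) (hf _ (e i).2).1.1 (f _) (hf _ (e j).2).1.1 _ (hD _ (e i).2 (hne1 i hi)) _
            (hD _ (e j).2 (hne1 j hj))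
          intro g hg ζ hζ ζ' hζ' hrel
          obtain ⟨t, ht, htu⟩ := hfus _ (e i).2 _ (e j).2 g hg ⟨ζ, hζ, ζ', hζ', hrel⟩
          rw [hcent t ht _ (e i).2] at htu
          exact hij (hinj i j htu)
        have h2 : classInner (thetaFun B (n ((e i : P) : G))) (thetaFun B (n ((e j : P) : G))) = 0 := by
          have e1 : thetaFun B (n ((e i : P) : G)) = fun g =>
              (Nat.card (Subgroup.centralizer ({((e i : P) : G)} : Set G)) : ℂ)⁻¹ *
                secInd 2 ((e i : P) : G) (intComb (D ((e i : P) : G))) g :=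
            funext (hform _ (e i).2 (hne1 i hi))
          have e2 : thetaFun B (n ((e j : P) : G)) = fun g =>
              (Nat.card (Subgroup.centralizer ({((e j : P) : G)} : Set G)) : ℂ)⁻¹ *
                secInd 2 ((e j : P) : G) (intComb (D ((e j : P) : G))) g :=
            funext (hform _ (e j).2 (hne1 j hj))
          rw [e1, e2]
          unfold classInner at h3 ⊢
          have h4 : ∀ g : G,
              ((Nat.card (Subgroup.centralizer ({((e i : P) : G)} : Set G)) : ℂ)⁻¹ *
                secInd 2 ((e i : P) : G) (intComb (D ((e i : P) : G))) g) *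
              conj ((Nat.card (Subgroup.centralizer ({((e j : P) : G)} : Set G)) : ℂ)⁻¹ *
                secInd 2 ((e j : P) : G) (intComb (D ((e j : P) : G))) g) =
              ((Nat.card (Subgroup.centralizer ({((e i : P) : G)} : Set G)) : ℂ)⁻¹ *
                conj ((Nat.card (Subgroup.centralizer ({((e j : P) : G)} : Set G)) : ℂ)⁻¹)) *
              (secInd 2 ((e i : P) : G) (intComb (D ((e i : P) : G))) g *
                conj (secInd 2 ((e j : P) : G) (intComb (D ((e j : P) : G))) g)) := by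
            intro g
            rw [map_mul]
            ring
          rw [Finset.sum_congr rfl (fun g _ => h4 g), ← Finset.mul_sum]
          have hG0 : (Nat.card G : ℂ)⁻¹ ≠ 0 :=
            inv_ne_zero (Nat.cast_ne_zero.mpr Nat.card_pos.ne')
          have h5 := (mul_eq_zero.mp h3).resolve_left hG0
          rw [h5, mul_zero, mul_zero]
        rw [h2] at h1
        exact_mod_cast h1.symm
  · intro i x hi hx
    simp only [hi, if_false]
    rw [hform _ (e i).2 (hne1 i hi) x]
    exact (section_data' hM ((e i : P) : G) ⟨1, by rw [hord _ (e i).2 (hne1 i hi), pow_one]⟩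
      (D ((e i : P) : G)) (hvan _ (e i).2 (hne1 i hi)) x).1 hx (hne1 i hi)
  · intro x hx
    simp only [if_true]
    exact hn0van x hx
  · intro i x
    by_cases hi : i = 0
    · simp only [hi, if_true]
      exact ⟨hn0div x, thetaFun_div_centralizer hM B n0 hn0van x⟩
    · simp only [hi, if_false]
      rw [hform _ (e i).2 (hne1 i hi) x]
      obtain ⟨-, h2, h3⟩ := section_data' hM ((e i : P) : G)
        ⟨1, by rw [hord _ (e i).2 (hne1 i hi), pow_one]⟩
        (D ((e i : P) : G)) (hvan _ (e i).2 (hne1 i hi)) x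
      refine ⟨?_, h2⟩
      have := h3 4 (hdiv _ (e i).2 (hne1 i hi))
      simpa using this

/-- (KD-B) Klein data for inertial index three. -/
theorem klein_transData (hM : IsPModular 2 M) (B : Set (IrrCharacter G)) (hB : IsPBlock M B)
    (P : Subgroup G) (hPD : IsDefectGroup 2 M B P) (hV : IsKleinFour P)
    (c : Set (IrrCharacter (Subgroup.centralizer (P : Set G))))
    (hc : IsInducedBlock M (Subgroup.centralizer (P : Set G)) c B) (T : Subgroup G)
    (hT : ∀ g : G, g ∈ T ↔ (g ∈ Subgroup.normalizer (P : Set G) ∧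
      StabilizesBlock (Subgroup.centralizer (P : Set G)) c g))
    (hl : blockRank 2 B = 3) (hk : Nat.card B = 4) :
    ∃ σ : IrrCharacter G → ℤ, TransData M B σ := by
  classical
  have hp2 : Fact (2 : ℕ).Prime := ⟨Nat.prime_two⟩
  obtain ⟨hcomm, hd, hord⟩ := klein_basic hM B hB P hPD hV
  have hcardP : Nat.card P = 4 := hV.card_four
  obtain ⟨f, hf, -⟩ := Cfsg.Agent.Lib.Helper27.KleinPIFUS.exists_subsection_family hM B hB P hPD hcomm c hc T hT
  obtain ⟨u, huP, hu1⟩ : ∃ u : G, u ∈ P ∧ u ≠ 1 := by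
    have h1 : 1 < Nat.card P := by rw [hcardP]; norm_num
    have : Finite P := Nat.finite_of_card_ne_zero (by rw [hcardP]; norm_num)
    have hnt : Nontrivial P := Finite.one_lt_card_iff_nontrivial.mp h1
    obtain ⟨x, hx⟩ := exists_ne (1 : P)
    exact ⟨x, x.2, fun h => hx (Subtype.ext h)⟩
  obtain ⟨n, D, hn, hD, hvan, hdiv, hform⟩ :=
    klein_subsection_data hM B hB P hPD hV u huP hu1 (f u) (hf u huP).1 (hf u huP).2
  have hup : ∃ k : ℕ, orderOf u = 2 ^ k := ⟨1, by rw [hord u huP hu1, pow_one]⟩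
  have hreg : ∀ x : G, IsPRegular 2 x → thetaFun B n x = 0 := by
    intro x hx
    rw [hform x]
    exact (section_data' hM u hup D hvan x).1 hx hu1
  refine ⟨n, hn, hreg, Cfsg.Agent.Lib.Helper5.KleinPILINB.eq_mul_of_rank_three hM B hB hk hl n hn hreg, ?_⟩
  intro x
  rw [hform x]
  obtain ⟨-, h2, h3⟩ := section_data' hM u hup D hvan x
  refine ⟨?_, h2⟩
  have := h3 4 hdiv
  simpa using this

end KD

section FINAL

/-- two distinct nontrivial elements of a group of order four -/
theorem exists_two_nontrivial {H : Type u} [Group H] (h4 : Nat.card H = 4) :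
    ∃ a b : H, a ≠ 1 ∧ b ≠ 1 ∧ a ≠ b := by
  classical
  have hfin : Finite H := Nat.finite_of_card_ne_zero (by rw [h4]; norm_num)
  let _ : Fintype H := Fintype.ofFinite H
  have h2 : 2 < Fintype.card H := by rw [← Nat.card_eq_fintype_card, h4]; norm_num
  obtain ⟨a, b, c, hab, hac, hbc⟩ := Fintype.two_lt_card_iff.mp h2
  by_cases ha : a = 1
  · refine ⟨b, c, ?_, ?_, hbc⟩
    · intro hb; exact hab (ha.trans hb.symm)
    · intro hc; exact hac (ha.trans hc.symm)
  · by_cases hb : b = 1
    · refine ⟨a, c, ha, ?_, hac⟩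
      intro hc; exact hbc (hb.trans hc.symm)
    · exact ⟨a, b, ha, hb, hab⟩

theorem result_S4638 {G : Type u} [Group G] [Finite G] (M : Ideal Cfsg.AlgInt)
    (hM : Cfsg.IsPModular 2 M) (B : Set (Cfsg.IrrCharacter G)) (hB : Cfsg.IsPBlock M B)
    (P : Subgroup G) (hPD : Cfsg.IsDefectGroup 2 M B P) (hV : IsKleinFour P)
    (c : Set (Cfsg.IrrCharacter (Subgroup.normalizer (P : Set G))))
    (hcD : Cfsg.IsDefectGroup 2 M c (P.subgroupOf (Subgroup.normalizer (P : Set G))))
    (hc : Cfsg.IsInducedBlock M (Subgroup.normalizer (P : Set G)) c B) :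
    ∃ (I : Cfsg.IrrCharacter (Subgroup.normalizer (P : Set G)) → Cfsg.IrrCharacter G)
      (ε : Cfsg.IrrCharacter (Subgroup.normalizer (P : Set G)) → ℤ),
      Cfsg.IsPerfectIsometry 2 M c B I ε := by
  classical
  let _ : Fintype G := Fintype.ofFinite G
  let _ : Fintype (Subgroup.normalizer (P : Set G)) := Fintype.ofFinite _
  have hp2 : Fact (2 : ℕ).Prime := ⟨Nat.prime_two⟩
  have hPN : P ≤ Subgroup.normalizer (P : Set G) := Subgroup.le_normalizer
  -- the Klein four group inside `N`
  let κ : (P.subgroupOf (Subgroup.normalizer (P : Set G))) ≃* P := Subgroup.subgroupOfEquivOfLe hPN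
  have hVN : IsKleinFour (P.subgroupOf (Subgroup.normalizer (P : Set G))) := by
    refine ⟨?_, ?_⟩
    · rw [Nat.card_congr κ.toEquiv]; exact hV.card_four
    · rw [Monoid.exponent_eq_of_mulEquiv κ]; exact hV.exponent_two
  obtain ⟨hcomm, -, -⟩ := klein_basic hM B hB P hPD hV
  obtain ⟨hcommN, -, -⟩ := klein_basic hM c hc.1 _ hcD hVN
  -- the roots
  obtain ⟨b', hb'⟩ := Cfsg.Agent.Lib.Helper9.KleinPIROOT.exists_root hM c hc.1 _ hcD hcommN
  obtain ⟨b, hb, hstab⟩ := Cfsg.Agent.Lib.Helper23.KleinPINSIDE.exists_root_transport hM B P c hc b' hb'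
  obtain ⟨T, hT⟩ := Cfsg.Agent.Lib.Helper5.KleinPISTAB.exists_stabilizer P b
  obtain ⟨T', hT'⟩ := Cfsg.Agent.Lib.Helper5.KleinPISTAB.exists_stabilizer (P.subgroupOf (Subgroup.normalizer (P : Set G))) b'
  -- S4637 on both sides
  obtain ⟨-, hkB, hlB⟩ := Cfsg.Agent.Lib.Helper27.KleinMain.result_S4637 M hM B hB P hPD hV b hb T hT _ rfl
  obtain ⟨-, hkc, hlc⟩ := Cfsg.Agent.Lib.Helper27.KleinMain.result_S4637 M hM c hc.1 _ hcD hVN b' hb' T' hT' _ rfl
  -- membership in the two stabilizers
  have hmemT : ∀ t : Subgroup.normalizer (P : Set G), t ∈ T' ↔ (t : G) ∈ T := by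
    intro t
    rw [hT, hT']
    constructor
    · rintro ⟨-, h2⟩
      exact ⟨t.2, (hstab t).mp h2⟩
    · rintro ⟨-, h2⟩
      refine ⟨?_, (hstab t).mpr h2⟩
      have hn : (P.subgroupOf (Subgroup.normalizer (P : Set G))).Normal :=
        Subgroup.normal_in_normalizer
      rw [Subgroup.normalizer_eq_top_iff.mpr hn]
      exact Subgroup.mem_top t
  rcases Cfsg.Agent.Lib.Helper14.KleinE13.inertial_klein hM B hB P hPD hV b hb T hT with
    ⟨h1, hcent⟩ | ⟨h3, htrans⟩
  · rcases Cfsg.Agent.Lib.Helper14.KleinE13.inertial_klein hM c hc.1 _ hcD hVN b' hb' T' hT' with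
      ⟨h1', hcent'⟩ | ⟨h3', htrans'⟩
    · -- both inertial indices are one
      rw [h1] at hlB
      rw [h1'] at hlc
      obtain ⟨σ, hσ⟩ := klein_hadData hM B hB P hPD hV b hb T hT hcent hlB hkB
      obtain ⟨τ, hτ⟩ := klein_hadData hM c hc.1 _ hcD hVN b' hb' T' hT' hcent' hlc hkc
      exact Cfsg.Agent.Lib.Helper10.KleinPIPERFA.exists_perfect_of_hadData hM B c hkB hkc σ τ hσ hτ
    · -- impossible
      exfalso
      obtain ⟨a, a', ha, ha', haa'⟩ := exists_two_nontrivial hVN.card_four
      obtain ⟨t, ht, hta⟩ := htrans' (a : Subgroup.normalizer (P : Set G)) a.2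
        (a' : Subgroup.normalizer (P : Set G)) a'.2
        (fun h => ha (Subtype.ext h)) (fun h => ha' (Subtype.ext h))
      have h5 := hcent (t : G) ((hmemT t).mp ht) ((a : Subgroup.normalizer (P : Set G)) : G)
        (Subgroup.mem_subgroupOf.mp a.2)
      have h6 := congrArg (fun z : Subgroup.normalizer (P : Set G) => (z : G)) hta
      simp only [Subgroup.coe_mul, Subgroup.coe_inv] at h6
      rw [h5] at h6
      exact haa' (Subtype.ext (Subtype.ext h6))
  · rcases Cfsg.Agent.Lib.Helper14.KleinE13.inertial_klein hM c hc.1 _ hcD hVN b' hb' T' hT' with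
      ⟨h1', hcent'⟩ | ⟨h3', htrans'⟩
    · -- impossible
      exfalso
      obtain ⟨a, a', ha, ha', haa'⟩ := exists_two_nontrivial hV.card_four
      obtain ⟨t, ht, hta⟩ := htrans (a : G) a.2 (a' : G) a'.2
        (fun h => ha (Subtype.ext h)) (fun h => ha' (Subtype.ext h))
      have htN : t ∈ Subgroup.normalizer (P : Set G) := ((hT t).mp ht).1
      have h5 := hcent' ⟨t, htN⟩ ((hmemT ⟨t, htN⟩).mpr ht) ⟨(a : G), hPN a.2⟩
        (Subgroup.mem_subgroupOf.mpr a.2)
      have h6 := congrArg (fun z : Subgroup.normalizer (P : Set G) => (z : G)) h5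
      simp only [Subgroup.coe_mul, Subgroup.coe_inv] at h6
      rw [hta] at h6
      exact haa' (Subtype.ext h6.symm)
    · -- both inertial indices are three
      rw [h3] at hlB
      rw [h3'] at hlc
      obtain ⟨σ, hσ⟩ := klein_transData hM B hB P hPD hV b hb T hT hlB hkB
      obtain ⟨τ, hτ⟩ := klein_transData hM c hc.1 _ hcD hVN b' hb' T' hT' hlc hkc
      exact Cfsg.Agent.Lib.Helper10.KleinPIPERFB.exists_perfect_of_transData hM B c hkB hkc σ τ hσ hτ

end FINAL

end Cfsg.Agent.Lib.Helper27.KleinPIMain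

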