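/-
Schur multiplier theory (helper27): central extensions of direct products.
-/
import Cfsg.Agent.Lib.Helper27.Schur5

set_option autoImplicit false

namespace Cfsg.Agent.Lib.Helper27.Schur

universe u v w

open Subgroup
open scoped commutatorElement

section Pairing

variable {Γ : Type w} [Group Γ]

/-- commutator with a fixed element as a homomorphism to the centre, on a subgroup on which all such
commutators are central. -/
def commHom (X : Subgroup Γ) (y : Γ) (h : ∀ x ∈ X, ⁅x, y⁆ ∈ center Γ) : ↥X →* ↥(center Γ) where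
  toFun x := ⟨⁅(x : Γ), y⁆, h x x.2⟩
  map_one' := Subtype.ext (by simp)
  map_mul' a b := Subtype.ext (by
    have hb := h b b.2
    rw [mem_center_iff] at hb
    show ⁅(a : Γ) * b, y⁆ = ⁅(a : Γ), y⁆ * ⁅(b : Γ), y⁆
    have e : ⁅(a : Γ) * b, y⁆ = (a : Γ) * ⁅(b : Γ), y⁆ * (a : Γ)⁻¹ * ⁅(a : Γ), y⁆ := by
      simp only [commutatorElement_def]; group
    rw [e, hb (a : Γ), mul_inv_cancel_right]
    exact (hb _).symm)

/-- the exponent bound for the commutator pairing -/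
theorem commutatorElement_pow_card_eq_one {Q : Type u} [Group Q] [Finite Q] (X : Subgroup Γ) (y : Γ)
    (h : ∀ x ∈ X, ⁅x, y⁆ ∈ center Γ) (ρ : ↥X →* Q) (hρ : Function.Surjective ρ)
    (hk : ∀ k ∈ ρ.ker, ⁅(k : Γ), y⁆ = 1) (x : Γ) (hx : x ∈ X) :
    ⁅x, y⁆ ^ Nat.card (Abelianization Q) = 1 := by
  set n := Nat.card (Abelianization Q) with hn
  let φ := commHom X y h
  let x' : ↥X := ⟨x, hx⟩
  -- ρ x ^ n ∈ commutator Q
  have h1 : ρ x' ^ n ∈ commutator Q := by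
    rw [← Abelianization.ker_of, MonoidHom.mem_ker, map_pow, hn]
    exact pow_card_eq_one'
  have h2 : commutator Q = (commutator ↥X).map ρ := by
    rw [_root_.commutator_def, _root_.commutator_def, Subgroup.map_commutator,
      ← MonoidHom.range_eq_map, MonoidHom.range_eq_top.mpr hρ]
  rw [h2] at h1
  obtain ⟨c, hc, hcx⟩ := h1
  have h3 : c⁻¹ * x' ^ n ∈ ρ.ker := by
    show ρ (c⁻¹ * x' ^ n) = 1
    rw [map_mul, map_inv, map_pow, hcx, inv_mul_cancel]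
  have h4 : φ c = 1 := by
    have hle : commutator ↥X ≤ φ.ker := by
      rw [commutator_eq_closure, Subgroup.closure_le]
      rintro _ ⟨a, b, rfl⟩
      show φ ⁅a, b⁆ = 1
      rw [map_commutatorElement, commutatorElement_eq_one_iff_mul_comm]
      exact mul_comm' (φ a) (φ b)
    exact hle hc
  have h5 : φ (c⁻¹ * x' ^ n) = 1 := Subtype.ext (hk _ h3)
  have h6 : φ x' ^ n = 1 := by
    rw [← map_pow]
    have : x' ^ n = c * (c⁻¹ * x' ^ n) := by group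
    rw [this, map_mul, h4, h5, one_mul]
  exact congrArg Subtype.val h6

end Pairing

section Prod

variable {Q₁ : Type u} {Q₂ : Type v} [Group Q₁] [Group Q₂] {Γ : Type w} [Group Γ] (σ : Γ →* Q₁ × Q₂)

/-- preimage of `Q₁ × 1` -/
def E1 : Subgroup Γ := ((MonoidHom.snd Q₁ Q₂).comp σ).ker
/-- preimage of `1 × Q₂` -/
def E2 : Subgroup Γ := ((MonoidHom.fst Q₁ Q₂).comp σ).ker

instance : (E1 σ).Normal := by unfold E1; infer_instance
instance : (E2 σ).Normal := by unfold E2; infer_instance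

theorem mem_E1 {g : Γ} : g ∈ E1 σ ↔ (σ g).2 = 1 := Iff.rfl
theorem mem_E2 {g : Γ} : g ∈ E2 σ ↔ (σ g).1 = 1 := Iff.rfl

theorem ker_le_E1 : σ.ker ≤ E1 σ := fun g hg => by
  rw [mem_E1, show σ g = 1 from hg]; rfl
theorem ker_le_E2 : σ.ker ≤ E2 σ := fun g hg => by
  rw [mem_E2, show σ g = 1 from hg]; rfl

theorem E1_inf_E2 : E1 σ ⊓ E2 σ = σ.ker := by
  ext g
  rw [mem_inf, mem_E1, mem_E2, MonoidHom.mem_ker, Prod.ext_iff]
  exact ⟨fun h => ⟨h.2, h.1⟩, fun h => ⟨h.2, h.1⟩⟩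

/-- the extension `E₁ → Q₁` -/
def sig1 : ↥(E1 σ) →* Q₁ := ((MonoidHom.fst Q₁ Q₂).comp σ).comp (E1 σ).subtype
/-- the extension `E₂ → Q₂` -/
def sig2 : ↥(E2 σ) →* Q₂ := ((MonoidHom.snd Q₁ Q₂).comp σ).comp (E2 σ).subtype

theorem sig1_apply (x : ↥(E1 σ)) : sig1 σ x = (σ x).1 := rfl
theorem sig2_apply (x : ↥(E2 σ)) : sig2 σ x = (σ x).2 := rfl

theorem sigma_eq_of_mem_E1 {g : Γ} (hg : g ∈ E1 σ) : σ g = ((σ g).1, 1) := Prod.ext rfl hg
theorem sigma_eq_of_mem_E2 {g : Γ} (hg : g ∈ E2 σ) : σ g = (1, (σ g).2) := Prod.ext hg rfl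

theorem sig1_surjective (hσ : Function.Surjective σ) : Function.Surjective (sig1 σ) := by
  intro q
  obtain ⟨g, hg⟩ := hσ (q, 1)
  exact ⟨⟨g, by rw [mem_E1, hg]⟩, by rw [sig1_apply]; show (σ g).1 = q; rw [hg]⟩

theorem sig2_surjective (hσ : Function.Surjective σ) : Function.Surjective (sig2 σ) := by
  intro q
  obtain ⟨g, hg⟩ := hσ (1, q)
  exact ⟨⟨g, by rw [mem_E2, hg]⟩, by rw [sig2_apply]; show (σ g).2 = q; rw [hg]⟩

theorem mem_sig1_ker {x : ↥(E1 σ)} : x ∈ (sig1 σ).ker ↔ (x : Γ) ∈ σ.ker := by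
  rw [MonoidHom.mem_ker, MonoidHom.mem_ker, sig1_apply, Prod.ext_iff]
  exact ⟨fun h => ⟨h, x.2⟩, fun h => h.1⟩

theorem mem_sig2_ker {x : ↥(E2 σ)} : x ∈ (sig2 σ).ker ↔ (x : Γ) ∈ σ.ker := by
  rw [MonoidHom.mem_ker, MonoidHom.mem_ker, sig2_apply, Prod.ext_iff]
  exact ⟨fun h => ⟨x.2, h⟩, fun h => h.2⟩

theorem sig1_ker_le_center (hc : σ.ker ≤ center Γ) : (sig1 σ).ker ≤ center ↥(E1 σ) := by
  intro x hx
  have := hc ((mem_sig1_ker σ).mp hx)
  rw [mem_center_iff] at this ⊢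
  intro y
  exact Subtype.ext (this y)

theorem sig2_ker_le_center (hc : σ.ker ≤ center Γ) : (sig2 σ).ker ≤ center ↥(E2 σ) := by
  intro x hx
  have := hc ((mem_sig2_ker σ).mp hx)
  rw [mem_center_iff] at this ⊢
  intro y
  exact Subtype.ext (this y)

theorem exists_mul_E1_E2 (hσ : Function.Surjective σ) (g : Γ) : ∃ x ∈ E1 σ, ∃ y ∈ E2 σ, g = x * y := by
  obtain ⟨x, hx⟩ := hσ ((σ g).1, 1)
  refine ⟨x, by rw [mem_E1, hx], x⁻¹ * g, ?_, by group⟩
  rw [mem_E2, map_mul, map_inv, hx]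
  simp

theorem commutatorElement_mem_ker {x y : Γ} (hx : x ∈ E1 σ) (hy : y ∈ E2 σ) : ⁅x, y⁆ ∈ σ.ker := by
  rw [← E1_inf_E2]
  constructor
  · rw [commutatorElement_def]
    have : x * y * x⁻¹ * y⁻¹ = x * (y * x⁻¹ * y⁻¹) := by group
    rw [this]
    exact (E1 σ).mul_mem hx (Normal.conj_mem inferInstance _ ((E1 σ).inv_mem hx) y)
  · rw [commutatorElement_def]
    exact (E2 σ).mul_mem (Normal.conj_mem inferInstance _ hy x) ((E2 σ).inv_mem hy)

/-- with coprime abelianizations, `E₁` and `E₂` commute elementwise -/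
theorem commute_E1_E2_of_coprime [Finite Q₁] [Finite Q₂] (hσ : Function.Surjective σ)
    (hc : σ.ker ≤ center Γ)
    (hcop : Nat.Coprime (Nat.card (Abelianization Q₁)) (Nat.card (Abelianization Q₂)))
    {x y : Γ} (hx : x ∈ E1 σ) (hy : y ∈ E2 σ) : x * y = y * x := by
  have h1 : ⁅x, y⁆ ^ Nat.card (Abelianization Q₁) = 1 := by
    apply commutatorElement_pow_card_eq_one (E1 σ) y
      (fun x hx => hc (commutatorElement_mem_ker σ hx hy)) (sig1 σ) (sig1_surjective σ hσ) _ x hx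
    intro k hk
    have := hc ((mem_sig1_ker σ).mp hk)
    rw [mem_center_iff] at this
    rw [commutatorElement_eq_one_iff_mul_comm]
    exact (this y).symm
  have h2 : ⁅y, x⁆ ^ Nat.card (Abelianization Q₂) = 1 := by
    apply commutatorElement_pow_card_eq_one (E2 σ) x
      (fun y hy => by
        have := hc (commutatorElement_mem_ker σ hx hy)
        rw [← commutatorElement_inv]
        exact (center Γ).inv_mem this) (sig2 σ) (sig2_surjective σ hσ) _ y hy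
    intro k hk
    have := hc ((mem_sig2_ker σ).mp hk)
    rw [mem_center_iff] at this
    rw [commutatorElement_eq_one_iff_mul_comm]
    exact (this x).symm
  have h2' : ⁅x, y⁆ ^ Nat.card (Abelianization Q₂) = 1 := by
    rw [← commutatorElement_inv, inv_pow, h2, inv_one]
  have h3 : orderOf ⁅x, y⁆ ∣ 1 := by
    have := Nat.dvd_gcd (orderOf_dvd_of_pow_eq_one h1) (orderOf_dvd_of_pow_eq_one h2')
    rwa [hcop] at this
  have h4 : ⁅x, y⁆ = 1 := orderOf_eq_one_iff.mp (Nat.dvd_one.mp h3)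
  exact commutatorElement_eq_one_iff_mul_comm.mp h4

/-- if `E₁` and `E₂` commute, every element of `ker σ ∩ Γ'` is a product of elements of
`ker ∩ E₁'` and `ker ∩ E₂'`. -/
theorem exists_mul_of_commute (hσ : Function.Surjective σ)
    (hcomm : ∀ x ∈ E1 σ, ∀ y ∈ E2 σ, x * y = y * x) (k : Γ) (hk : k ∈ σ.ker) (hk' : k ∈ commutator Γ) :
    ∃ c₁ : ↥(E1 σ), ∃ c₂ : ↥(E2 σ), c₁ ∈ (sig1 σ).ker ⊓ commutator ↥(E1 σ) ∧
      c₂ ∈ (sig2 σ).ker ⊓ commutator ↥(E2 σ) ∧ k = (c₁ : Γ) * (c₂ : Γ) := by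
  let Φ : ↥(E1 σ) × ↥(E2 σ) →* Γ := MonoidHom.noncommCoprod (E1 σ).subtype (E2 σ).subtype
    (fun x y => hcomm x x.2 y y.2)
  have hΦ : Function.Surjective Φ := by
    intro g
    obtain ⟨x, hx, y, hy, rfl⟩ := exists_mul_E1_E2 σ hσ g
    exact ⟨(⟨x, hx⟩, ⟨y, hy⟩), rfl⟩
  have h1 : commutator Γ = (commutator (↥(E1 σ) × ↥(E2 σ))).map Φ := by
    rw [_root_.commutator_def, _root_.commutator_def, Subgroup.map_commutator,
      ← MonoidHom.range_eq_map, MonoidHom.range_eq_top.mpr hΦ]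
  have h2 : commutator (↥(E1 σ) × ↥(E2 σ)) = (commutator ↥(E1 σ)).prod (commutator ↥(E2 σ)) := by
    rw [_root_.commutator_def, _root_.commutator_def, _root_.commutator_def, ← Subgroup.top_prod_top,
      Subgroup.commutator_prod_prod]
  rw [h1, h2] at hk'
  obtain ⟨⟨c₁, c₂⟩, ⟨hc₁, hc₂⟩, rfl⟩ := hk'
  have h3 : σ (c₁ : Γ) * σ (c₂ : Γ) = 1 := by
    rw [← map_mul]; exact hk
  rw [sigma_eq_of_mem_E1 σ c₁.2, sigma_eq_of_mem_E2 σ c₂.2, Prod.mk_mul_mk, mul_one, one_mul,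
    Prod.mk_eq_one] at h3
  refine ⟨c₁, c₂, ⟨?_, hc₁⟩, ⟨?_, hc₂⟩, rfl⟩
  · show sig1 σ c₁ = 1
    rw [sig1_apply]; exact h3.1
  · show sig2 σ c₂ = 1
    rw [sig2_apply]; exact h3.2

end Prod

end Cfsg.Agent.Lib.Helper27.Schur

namespace Cfsg.Agent.Lib.Helper27.Schur

universe u v w

open Subgroup
open scoped commutatorElement

/-- product of stem extensions is a stem extension -/
theorem prodMap_isStem {Q₁ : Type*} {Q₂ : Type*} [Group Q₁] [Group Q₂] {Γ₁ : Type*} {Γ₂ : Type*}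
    [Group Γ₁] [Group Γ₂] (σ₁ : Γ₁ →* Q₁) (σ₂ : Γ₂ →* Q₂) (h₁ : Cfsg.IsStemExtension σ₁)
    (h₂ : Cfsg.IsStemExtension σ₂) : Cfsg.IsStemExtension (σ₁.prodMap σ₂) := by
  refine ⟨Function.Surjective.prodMap h₁.1 h₂.1, ?_, ?_⟩
  · rw [MonoidHom.ker_prodMap, Subgroup.center_prod]
    exact Subgroup.prod_mono h₁.2.1 h₂.2.1
  · rw [MonoidHom.ker_prodMap]
    have : commutator (Γ₁ × Γ₂) = (commutator Γ₁).prod (commutator Γ₂) := by
      rw [_root_.commutator_def, _root_.commutator_def, _root_.commutator_def, ← Subgroup.top_prod_top,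
        Subgroup.commutator_prod_prod]
    rw [this]
    exact Subgroup.prod_mono h₁.2.2 h₂.2.2

/-- **Schur multiplier of a direct product with coprime abelianizations**: the second half. -/
theorem exists_surjective_prod_of_coprime {Q₁ : Type u} {Q₂ : Type v} [Group Q₁] [Group Q₂] [Finite Q₁]
    [Finite Q₂] {A : Type*} {B : Type*} [CommGroup A] [CommGroup B] (hA : Cfsg.HasSchurMultiplier Q₁ A)
    (hB : Cfsg.HasSchurMultiplier Q₂ B)
    (hcop : Nat.Coprime (Nat.card (Abelianization Q₁)) (Nat.card (Abelianization Q₂)))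
    {Γ : Type w} [Group Γ] (σ : Γ →* Q₁ × Q₂) (hσ : Cfsg.IsStemExtension σ) :
    ∃ f : A × B →* ↥σ.ker, Function.Surjective f := by
  obtain ⟨hs, hc, hd⟩ := hσ
  obtain ⟨θ₁, hθ₁⟩ := exists_surjective_of_hasSchurMultiplier hA (sig1 σ) (sig1_surjective σ hs)
    (sig1_ker_le_center σ hc)
  obtain ⟨θ₂, hθ₂⟩ := exists_surjective_of_hasSchurMultiplier hB (sig2 σ) (sig2_surjective σ hs)
    (sig2_ker_le_center σ hc)
  let g₁ : A →* ↥σ.ker := MonoidHom.codRestrict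
    (((E1 σ).subtype.comp (Subgroup.subtype _)).comp θ₁) σ.ker
    (fun a => (mem_sig1_ker σ).mp (θ₁ a).2.1)
  let g₂ : B →* ↥σ.ker := MonoidHom.codRestrict
    (((E2 σ).subtype.comp (Subgroup.subtype _)).comp θ₂) σ.ker
    (fun b => (mem_sig2_ker σ).mp (θ₂ b).2.1)
  have hcomm : ∀ a b, Commute (g₁ a) (g₂ b) := by
    intro a b
    have := hc (g₁ a).2
    rw [mem_center_iff] at this
    exact Subtype.ext (this (g₂ b : Γ)).symm
  refine ⟨MonoidHom.noncommCoprod g₁ g₂ hcomm, ?_⟩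
  intro k
  obtain ⟨c₁, c₂, hc₁, hc₂, hk⟩ := exists_mul_of_commute σ hs
    (fun x hx y hy => commute_E1_E2_of_coprime σ hs hc hcop hx hy) k k.2 (hd k.2)
  obtain ⟨a, ha⟩ := hθ₁ ⟨c₁, hc₁⟩
  obtain ⟨b, hb⟩ := hθ₂ ⟨c₂, hc₂⟩
  refine ⟨(a, b), ?_⟩
  apply Subtype.ext
  rw [MonoidHom.noncommCoprod_apply, Subgroup.coe_mul, hk]
  have e1 : ((g₁ a : ↥σ.ker) : Γ) = c₁ := by
    show (((θ₁ a : ↥((sig1 σ).ker ⊓ commutator ↥(E1 σ))) : ↥(E1 σ)) : Γ) = c₁
    rw [ha]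
  have e2 : ((g₂ b : ↥σ.ker) : Γ) = c₂ := by
    show (((θ₂ b : ↥((sig2 σ).ker ⊓ commutator ↥(E2 σ))) : ↥(E2 σ)) : Γ) = c₂
    rw [hb]
  rw [e1, e2]

end Cfsg.Agent.Lib.Helper27.Schur
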