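/-
Schur multiplier theory (helper27): monomial (induced) representations in which a central subgroup acts by
scalars through a prescribed linear character.
-/
import Mathlib

set_option autoImplicit false

namespace Cfsg.Agent.Lib.Helper27.Schur

open Subgroup Matrix

section Mono

variable {Δ : Type*} [Group Δ] (L : Subgroup Δ) [L.Normal]

/-- the action on cosets through representatives -/
noncomputable def act (g : Δ) (c : Δ ⧸ L) : Δ ⧸ L := ((g * Quotient.out c : Δ) : Δ ⧸ L)

theorem mk_mul_out (g : Δ) (a : Δ) : ((g * Quotient.out (a : Δ ⧸ L) : Δ) : Δ ⧸ L) = ((g * a : Δ) : Δ ⧸ L) := by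
  rw [QuotientGroup.eq]
  have h : (Quotient.out (a : Δ ⧸ L))⁻¹ * a ∈ L := by
    rw [← QuotientGroup.eq]; exact QuotientGroup.out_eq' _
  have : (g * Quotient.out (a : Δ ⧸ L))⁻¹ * (g * a) = (Quotient.out (a : Δ ⧸ L))⁻¹ * a := by group
  rw [this]; exact h

theorem act_one (c : Δ ⧸ L) : act L 1 c = c := by
  unfold act; rw [one_mul]; exact QuotientGroup.out_eq' _

theorem act_mul (g h : Δ) (c : Δ ⧸ L) : act L (g * h) c = act L g (act L h c) := by
  unfold act
  rw [mk_mul_out, mul_assoc]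

/-- the cocycle -/
noncomputable def zz (g : Δ) (c : Δ ⧸ L) : Δ := (Quotient.out (act L g c))⁻¹ * g * Quotient.out c

theorem zz_mem (g : Δ) (c : Δ ⧸ L) : zz L g c ∈ L := by
  unfold zz
  rw [mul_assoc, ← QuotientGroup.eq]
  exact QuotientGroup.out_eq' _

theorem zz_one (c : Δ ⧸ L) : zz L 1 c = 1 := by
  unfold zz; rw [act_one, mul_one, inv_mul_cancel]

theorem zz_mul (g h : Δ) (c : Δ ⧸ L) : zz L (g * h) c = zz L g (act L h c) * zz L h c := by
  unfold zz
  rw [act_mul]
  group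

theorem act_of_mem_center {z : Δ} (hz : z ∈ center Δ) (hzL : z ∈ L) (c : Δ ⧸ L) : act L z c = c := by
  unfold act
  rw [mem_center_iff] at hz
  rw [← hz, QuotientGroup.mk_mul, (QuotientGroup.eq_one_iff z).mpr hzL, mul_one]
  exact QuotientGroup.out_eq' _

theorem zz_of_mem_center {z : Δ} (hz : z ∈ center Δ) (hzL : z ∈ L) (c : Δ ⧸ L) : zz L z c = z := by
  unfold zz
  rw [act_of_mem_center L hz hzL]
  rw [mem_center_iff] at hz
  rw [mul_assoc, ← hz, ← mul_assoc, inv_mul_cancel, one_mul]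

end Mono

section MonoRep

variable {Δ : Type*} [Group Δ] [Finite Δ] (L : Subgroup Δ) [L.Normal] (lam : ↥L →* ℂˣ)

open Classical in
/-- the monomial matrices of the induced representation -/
noncomputable def monoMat [Fintype (Δ ⧸ L)] (g : Δ) : Matrix (Δ ⧸ L) (Δ ⧸ L) ℂ :=
  fun c' c => if c' = act L g c then ((lam ⟨zz L g c, zz_mem L g c⟩ : ℂˣ) : ℂ) else 0

open Classical in
theorem monoMat_one [Fintype (Δ ⧸ L)] : monoMat L lam 1 = 1 := by
  ext c' c
  unfold monoMat
  rw [act_one]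
  by_cases h : c' = c
  · subst h
    rw [if_pos rfl, Matrix.one_apply_eq]
    have : (⟨zz L 1 c', zz_mem L 1 c'⟩ : ↥L) = 1 := Subtype.ext (zz_one L c')
    rw [this, map_one]; rfl
  · rw [if_neg h, Matrix.one_apply_ne h]

open Classical in
theorem monoMat_mul [Fintype (Δ ⧸ L)] (g h : Δ) : monoMat L lam (g * h) = monoMat L lam g * monoMat L lam h := by
  ext c'' c
  rw [Matrix.mul_apply]
  have hsum : ∑ c', monoMat L lam g c'' c' * monoMat L lam h c' c
      = monoMat L lam g c'' (act L h c) * monoMat L lam h (act L h c) c := by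
    apply Finset.sum_eq_single (act L h c)
    · intro b _ hb
      have : monoMat L lam h b c = 0 := by
        unfold monoMat; rw [if_neg hb]
      rw [this, mul_zero]
    · intro hc; exact absurd (Finset.mem_univ _) hc
  rw [hsum]
  unfold monoMat
  rw [if_pos rfl, act_mul]
  by_cases hc : c'' = act L g (act L h c)
  · rw [if_pos hc, if_pos hc]
    have : (⟨zz L (g * h) c, zz_mem L (g * h) c⟩ : ↥L)
        = ⟨zz L g (act L h c), zz_mem L g (act L h c)⟩ * ⟨zz L h c, zz_mem L h c⟩ :=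
      Subtype.ext (zz_mul L g h c)
    rw [this, map_mul, Units.val_mul]
  · rw [if_neg hc, if_neg hc, zero_mul]

open Classical in
theorem monoMat_of_mem_center [Fintype (Δ ⧸ L)] {z : Δ} (hz : z ∈ center Δ) (hzL : z ∈ L) :
    monoMat L lam z = Matrix.scalar (Δ ⧸ L) ((lam ⟨z, hzL⟩ : ℂˣ) : ℂ) := by
  ext c' c
  unfold monoMat
  rw [act_of_mem_center L hz hzL]
  have : (⟨zz L z c, zz_mem L z c⟩ : ↥L) = ⟨z, hzL⟩ := Subtype.ext (zz_of_mem_center L hz hzL c)
  rw [this]
  by_cases h : c' = c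
  · subst h; rw [if_pos rfl]; simp
  · rw [if_neg h]; simp [h]

end MonoRep

end Cfsg.Agent.Lib.Helper27.Schur

namespace Cfsg.Agent.Lib.Helper27.Schur

open Subgroup Matrix

/-- a finite group `Δ` with a central subgroup `L` and a linear character `lam` of `L` has a matrix
representation in which every `z ∈ L` acts as the scalar `lam z`. -/
theorem exists_rep_of_central_char {Δ : Type*} [Group Δ] [Finite Δ] (L : Subgroup Δ) (hL : L ≤ center Δ)
    (lam : ↥L →* ℂˣ) :
    ∃ (n : ℕ) (ρ : Δ →* GL (Fin n) ℂ), 0 < n ∧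
      ∀ z : ↥L, ρ z = Matrix.GeneralLinearGroup.scalar (Fin n) (lam z) := by
  classical
  haveI : L.Normal := by
    constructor
    intro z hz g
    have := hL hz
    rw [mem_center_iff] at this
    rw [this g, mul_inv_cancel_right]; exact hz
  haveI : Fintype (Δ ⧸ L) := Fintype.ofFinite _
  let f : Δ →* Matrix (Δ ⧸ L) (Δ ⧸ L) ℂ :=
    { toFun := monoMat L lam
      map_one' := monoMat_one L lam
      map_mul' := monoMat_mul L lam }
  let F : Δ →* GL (Δ ⧸ L) ℂ := f.toHomUnits
  let e : (Δ ⧸ L) ≃ Fin (Fintype.card (Δ ⧸ L)) := Fintype.equivFin _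
  let R : GL (Δ ⧸ L) ℂ ≃* GL (Fin (Fintype.card (Δ ⧸ L))) ℂ :=
    Units.mapEquiv (Matrix.reindexAlgEquiv ℂ ℂ e).toMulEquiv
  refine ⟨Fintype.card (Δ ⧸ L), R.toMonoidHom.comp F, Fintype.card_pos, ?_⟩
  intro z
  apply Units.ext
  show (Matrix.reindexAlgEquiv ℂ ℂ e) (monoMat L lam (z : Δ)) = _
  rw [monoMat_of_mem_center L lam (hL z.2) z.2, Matrix.GeneralLinearGroup.coe_scalar]
  have : (⟨(z : Δ), z.2⟩ : ↥L) = z := rfl
  rw [this]
  ext i j
  simp [Matrix.reindexAlgEquiv_apply, Matrix.reindex_apply, Matrix.submatrix_apply, Matrix.scalar_apply,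
    Matrix.diagonal_apply]

/-- separation: for a nonidentity element `l` of a central subgroup `L` of a finite group, some matrix
representation maps `L` to scalars and `l` to a nonidentity scalar. -/
theorem exists_rep_central_ne_one {Δ : Type*} [Group Δ] [Finite Δ] (L : Subgroup Δ) (hL : L ≤ center Δ)
    (l : Δ) (hl : l ∈ L) (hl1 : l ≠ 1) :
    ∃ (n : ℕ) (ρ : Δ →* GL (Fin n) ℂ), (∀ z ∈ L, ρ z ∈ center (GL (Fin n) ℂ)) ∧ ρ l ≠ 1 := by
  classical
  letI : CommGroup ↥L :=
    { (inferInstance : Group ↥L) with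
      mul_comm := fun x y => Subtype.ext (by
        have := hL x.2
        rw [mem_center_iff] at this
        exact (this y.1).symm) }
  have hne : (⟨l, hl⟩ : ↥L) ≠ 1 := fun h => hl1 (congrArg Subtype.val h)
  obtain ⟨lam, hlam⟩ := CommGroup.exists_apply_ne_one_of_hasEnoughRootsOfUnity ↥L ℂ hne
  obtain ⟨n, ρ, hn, hρ⟩ := exists_rep_of_central_char L hL lam
  refine ⟨n, ρ, ?_, ?_⟩
  · intro z hz
    rw [Matrix.GeneralLinearGroup.center_eq_range_scalar]
    exact ⟨lam ⟨z, hz⟩, (hρ ⟨z, hz⟩).symm⟩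
  · have h1 := hρ ⟨l, hl⟩
    change ρ l = _ at h1
    rw [h1]
    intro h
    apply hlam
    have h2 := congrArg (fun g : GL (Fin n) ℂ => (g : Matrix (Fin n) (Fin n) ℂ) ⟨0, hn⟩ ⟨0, hn⟩) h
    simp only [Matrix.GeneralLinearGroup.coe_scalar] at h2
    apply Units.ext
    simpa using h2

end Cfsg.Agent.Lib.Helper27.Schur
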