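/-
Schur multiplier theory (helper27): projective representations and covers.
-/
import Cfsg.Agent.Lib.Helper27.Schur5
import Cfsg.Agent.Lib.Helper27.SchurRep

set_option autoImplicit false

namespace Cfsg.Agent.Lib.Helper27.Schur

universe u v w

open Subgroup Matrix
open scoped commutatorElement

/-- descend a homomorphism along a surjection -/
theorem exists_descend {X Y Z : Type*} [Group X] [Group Y] [Group Z] (f : X →* Y) (hf : Function.Surjective f)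
    (g : X →* Z) (hg : f.ker ≤ g.ker) : ∃ h : Y →* Z, h.comp f = g := by
  refine ⟨f.liftOfSurjective hf ⟨g, hg⟩, ?_⟩
  ext x
  simp

/-- a homomorphism to a group whose image consists of pairwise commuting elements kills commutators -/
theorem commutator_le_ker_of_commute {X Y : Type*} [Group X] [Group Y] (f : X →* Y)
    (h : ∀ a b : X, f a * f b = f b * f a) : commutator X ≤ f.ker := by
  rw [commutator_eq_closure, Subgroup.closure_le]
  rintro _ ⟨a, b, rfl⟩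
  show f ⁅a, b⁆ = 1
  rw [map_commutatorElement, commutatorElement_eq_one_iff_mul_comm]
  exact h a b

section Fiber

variable {Q : Type u} [Group Q] {Γ : Type v} [Group Γ] {Δ : Type w} [Group Δ] (σ : Γ →* Q) (τ : Δ →* Q)

/-- the fibre product -/
def fiberProd : Subgroup (Γ × Δ) := (σ.comp (MonoidHom.fst Γ Δ)).eqLocus (τ.comp (MonoidHom.snd Γ Δ))

theorem mem_fiberProd {p : Γ × Δ} : p ∈ fiberProd σ τ ↔ σ p.1 = τ p.2 := Iff.rfl

theorem exists_mem_commutator_fst (hτ : Function.Surjective τ) (k : Γ) (hk : k ∈ commutator Γ) :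
    ∃ e ∈ commutator ↥(fiberProd σ τ), ((e : ↥(fiberProd σ τ)) : Γ × Δ).1 = k := by
  let p : ↥(fiberProd σ τ) →* Γ := (MonoidHom.fst Γ Δ).comp (fiberProd σ τ).subtype
  have hp : Function.Surjective p := by
    intro g
    obtain ⟨d, hd⟩ := hτ (σ g)
    exact ⟨⟨(g, d), hd.symm⟩, rfl⟩
  have h1 : commutator Γ = (commutator ↥(fiberProd σ τ)).map p := by
    rw [_root_.commutator_def, _root_.commutator_def, Subgroup.map_commutator,
      ← MonoidHom.range_eq_map, MonoidHom.range_eq_top.mpr hp]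
  rw [h1] at hk
  obtain ⟨e, he, rfl⟩ := hk
  exact ⟨e, he, rfl⟩

theorem exists_mem_commutator_snd (hσ : Function.Surjective σ) (l : Δ) (hl : l ∈ commutator Δ) :
    ∃ e ∈ commutator ↥(fiberProd σ τ), ((e : ↥(fiberProd σ τ)) : Γ × Δ).2 = l := by
  let p : ↥(fiberProd σ τ) →* Δ := (MonoidHom.snd Γ Δ).comp (fiberProd σ τ).subtype
  have hp : Function.Surjective p := by
    intro d
    obtain ⟨g, hg⟩ := hσ (τ d)
    exact ⟨⟨(g, d), hg⟩, rfl⟩
  have h1 : commutator Δ = (commutator ↥(fiberProd σ τ)).map p := by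
    rw [_root_.commutator_def, _root_.commutator_def, Subgroup.map_commutator,
      ← MonoidHom.range_eq_map, MonoidHom.range_eq_top.mpr hp]
  rw [h1] at hl
  obtain ⟨e, he, rfl⟩ := hl
  exact ⟨e, he, rfl⟩

/-- if representations of `Δ` (with `ker τ` scalar) can be matched projectively by representations of `Γ`,
then no element `(1, l)`, `l ≠ 1`, lies in the commutator subgroup of the fibre product. -/
theorem eq_one_of_mem_commutator_fiberProd [Finite Δ] (hτc : τ.ker ≤ center Δ)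
    (hmatch : ∀ (n : ℕ) (ρΔ : Δ →* GL (Fin n) ℂ), (∀ z ∈ τ.ker, ρΔ z ∈ center (GL (Fin n) ℂ)) →
      ∃ ρΓ : Γ →* GL (Fin n) ℂ, ∀ g d, σ g = τ d → (ρΓ g)⁻¹ * ρΔ d ∈ center (GL (Fin n) ℂ))
    (e : ↥(fiberProd σ τ)) (he : e ∈ commutator ↥(fiberProd σ τ)) (h1 : (e : Γ × Δ).1 = 1) :
    (e : Γ × Δ).2 = 1 := by
  by_contra hne
  set l := (e : Γ × Δ).2 with hl
  have hlk : l ∈ τ.ker := by
    show τ l = 1
    have h := (mem_fiberProd σ τ).mp e.2
    rw [hl, ← h, h1, map_one]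
  obtain ⟨n, ρΔ, hρ1, hρ2⟩ := exists_rep_central_ne_one τ.ker hτc l hlk hne
  obtain ⟨ρΓ, hρΓ⟩ := hmatch n ρΔ hρ1
  let ζ : ↥(fiberProd σ τ) →* GL (Fin n) ℂ :=
    { toFun := fun x => (ρΓ (x : Γ × Δ).1)⁻¹ * ρΔ (x : Γ × Δ).2
      map_one' := by simp
      map_mul' := fun x y => by
        have hx := hρΓ _ _ ((mem_fiberProd σ τ).mp x.2)
        rw [mem_center_iff] at hx
        show (ρΓ ((x : Γ × Δ).1 * (y : Γ × Δ).1))⁻¹ * ρΔ ((x : Γ × Δ).2 * (y : Γ × Δ).2) = _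
        rw [map_mul, map_mul, _root_.mul_inv_rev]
        calc (ρΓ (y : Γ × Δ).1)⁻¹ * (ρΓ (x : Γ × Δ).1)⁻¹ * (ρΔ (x : Γ × Δ).2 * ρΔ (y : Γ × Δ).2)
            = (ρΓ (y : Γ × Δ).1)⁻¹ * ((ρΓ (x : Γ × Δ).1)⁻¹ * ρΔ (x : Γ × Δ).2) * ρΔ (y : Γ × Δ).2 := by group
          _ = ((ρΓ (x : Γ × Δ).1)⁻¹ * ρΔ (x : Γ × Δ).2) * (ρΓ (y : Γ × Δ).1)⁻¹ * ρΔ (y : Γ × Δ).2 := by
              rw [hx (ρΓ (y : Γ × Δ).1)⁻¹]
          _ = _ := by group }
  have hζc : ∀ a b, ζ a * ζ b = ζ b * ζ a := by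
    intro a b
    have hb := hρΓ _ _ ((mem_fiberProd σ τ).mp b.2)
    rw [mem_center_iff] at hb
    exact hb (ζ a)
  have h2 : ζ e = 1 := commutator_le_ker_of_commute ζ hζc he
  have h3 : ζ e = ρΔ l := by
    show (ρΓ (e : Γ × Δ).1)⁻¹ * ρΔ (e : Γ × Δ).2 = ρΔ l
    rw [h1, map_one, inv_one, one_mul]
  exact hρ2 (h3 ▸ h2)

/-- the comparison homomorphism between the kernels of two stem extensions -/
theorem exists_surjective_ker_of_match [Finite Δ] (hσ : Cfsg.IsStemExtension σ) (hτ : Cfsg.IsStemExtension τ)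
    (hmatch : ∀ (n : ℕ) (ρΔ : Δ →* GL (Fin n) ℂ), (∀ z ∈ τ.ker, ρΔ z ∈ center (GL (Fin n) ℂ)) →
      ∃ ρΓ : Γ →* GL (Fin n) ℂ, ∀ g d, σ g = τ d → (ρΓ g)⁻¹ * ρΔ d ∈ center (GL (Fin n) ℂ)) :
    ∃ π : σ.ker →* τ.ker, Function.Surjective π := by
  classical
  -- the graph
  let D : Subgroup ↥(fiberProd σ τ) :=
    commutator ↥(fiberProd σ τ) ⊓ (σ.comp ((MonoidHom.fst Γ Δ).comp (fiberProd σ τ).subtype)).ker
  let p₁ : ↥D →* ↥σ.ker :=
    MonoidHom.codRestrict (((MonoidHom.fst Γ Δ).comp (fiberProd σ τ).subtype).comp D.subtype) σ.ker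
      (fun x => x.2.2)
  let p₂ : ↥D →* ↥τ.ker :=
    MonoidHom.codRestrict (((MonoidHom.snd Γ Δ).comp (fiberProd σ τ).subtype).comp D.subtype) τ.ker
      (fun x => by
        show τ ((x : ↥(fiberProd σ τ)) : Γ × Δ).2 = 1
        have h := (mem_fiberProd σ τ).mp (x : ↥(fiberProd σ τ)).2
        rw [← h]
        exact x.2.2)
  have hp₁inj : Function.Injective p₁ := by
    rw [← MonoidHom.ker_eq_bot_iff, eq_bot_iff]
    intro x hx
    have h1 : ((x : ↥(fiberProd σ τ)) : Γ × Δ).1 = 1 := congrArg Subtype.val (show p₁ x = 1 from hx)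
    have h2 := eq_one_of_mem_commutator_fiberProd σ τ hτ.2.1 hmatch x.1 x.2.1 h1
    rw [mem_bot]
    apply Subtype.ext
    apply Subtype.ext
    exact Prod.ext h1 h2
  have hp₁surj : Function.Surjective p₁ := by
    intro k
    obtain ⟨e, he, hek⟩ := exists_mem_commutator_fst σ τ hτ.1 k.1 (hσ.2.2 k.2)
    refine ⟨⟨e, he, ?_⟩, Subtype.ext hek⟩
    show σ ((e : Γ × Δ).1) = 1
    rw [hek]; exact k.2
  have hp₂surj : Function.Surjective p₂ := by
    intro l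
    obtain ⟨e, he, hel⟩ := exists_mem_commutator_snd σ τ hσ.1 l.1 (hτ.2.2 l.2)
    refine ⟨⟨e, he, ?_⟩, Subtype.ext hel⟩
    show σ ((e : Γ × Δ).1) = 1
    have h := (mem_fiberProd σ τ).mp e.2
    rw [h, hel]; exact l.2
  let E₁ : ↥D ≃* ↥σ.ker := MulEquiv.ofBijective p₁ ⟨hp₁inj, hp₁surj⟩
  exact ⟨p₂.comp E₁.symm.toMonoidHom, hp₂surj.comp E₁.symm.surjective⟩

end Fiber

end Cfsg.Agent.Lib.Helper27.Schur

namespace Cfsg.Agent.Lib.Helper27.Schur

universe u v w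

open Subgroup Matrix
open scoped commutatorElement

/-- the lifting property of `σ` for projective representations gives the matching property -/
theorem match_of_lift {Q : Type u} [Group Q] {Γ : Type v} [Group Γ] {Δ : Type w} [Group Δ] (σ : Γ →* Q)
    (τ : Δ →* Q) (hτ : Function.Surjective τ)
    (hlift : ∀ (n : ℕ) (γ : Q →* (GL (Fin n) ℂ ⧸ Subgroup.center (GL (Fin n) ℂ))),
      ∃ ρ : Γ →* GL (Fin n) ℂ, (QuotientGroup.mk' (Subgroup.center (GL (Fin n) ℂ))).comp ρ = γ.comp σ)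
    (n : ℕ) (ρΔ : Δ →* GL (Fin n) ℂ) (hρ : ∀ z ∈ τ.ker, ρΔ z ∈ center (GL (Fin n) ℂ)) :
    ∃ ρΓ : Γ →* GL (Fin n) ℂ, ∀ g d, σ g = τ d → (ρΓ g)⁻¹ * ρΔ d ∈ center (GL (Fin n) ℂ) := by
  obtain ⟨γ, hγ⟩ := exists_descend τ hτ ((QuotientGroup.mk' (Subgroup.center (GL (Fin n) ℂ))).comp ρΔ)
    (fun z hz => by
      show (QuotientGroup.mk' (Subgroup.center (GL (Fin n) ℂ))) (ρΔ z) = 1
      exact (QuotientGroup.eq_one_iff _).mpr (hρ z hz))
  obtain ⟨ρ, hρ'⟩ := hlift n γ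
  refine ⟨ρ, fun g d hgd => ?_⟩
  have h1 : (QuotientGroup.mk' (Subgroup.center (GL (Fin n) ℂ))) (ρ g) = γ (σ g) :=
    DFunLike.congr_fun hρ' g
  have h2 : γ (τ d) = (QuotientGroup.mk' (Subgroup.center (GL (Fin n) ℂ))) (ρΔ d) :=
    DFunLike.congr_fun hγ d
  rw [hgd, h2] at h1
  exact QuotientGroup.eq.mp h1

end Cfsg.Agent.Lib.Helper27.Schur
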