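/-
Schur multiplier theory (helper27): universal central extensions of perfect groups.
-/
import Cfsg.Agent.Lib.Helper27.SchurProj
import Cfsg.Agent.Lib.Helper27.SchurProd

set_option autoImplicit false

namespace Cfsg.Agent.Lib.Helper27.Schur

universe u v w

open Subgroup
open scoped commutatorElement

/-- homomorphisms from a perfect group into a central extension are determined by their composite
with the extension -/
theorem hom_eq_of_perfect {G X Q : Type*} [Group G] [Group X] [Group Q] (hG : Group.IsPerfect G)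
    (ξ : X →* Q) (hξ : ξ.ker ≤ center X) (η₁ η₂ : G →* X) (h : ξ.comp η₁ = ξ.comp η₂) : η₁ = η₂ := by
  have hc : ∀ g, η₁ g * (η₂ g)⁻¹ ∈ center X := by
    intro g
    apply hξ
    show ξ (η₁ g * (η₂ g)⁻¹) = 1
    have := DFunLike.congr_fun h g
    simp only [MonoidHom.comp_apply] at this
    rw [map_mul, map_inv, this, mul_inv_cancel]
  let δ : G →* X :=
    { toFun := fun g => η₁ g * (η₂ g)⁻¹
      map_one' := by simp
      map_mul' := fun a b => by
        have hb := mem_center_iff.mp (hc b)
        calc η₁ (a * b) * (η₂ (a * b))⁻¹ = η₁ a * (η₁ b * (η₂ b)⁻¹) * (η₂ a)⁻¹ := by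
              rw [map_mul, map_mul, mul_inv_rev]; group
          _ = (η₁ b * (η₂ b)⁻¹) * η₁ a * (η₂ a)⁻¹ := by rw [hb (η₁ a)]
          _ = (η₁ b * (η₂ b)⁻¹) * (η₁ a * (η₂ a)⁻¹) := by group
          _ = η₁ a * (η₂ a)⁻¹ * (η₁ b * (η₂ b)⁻¹) := (hb _).symm }
  have hδ : commutator G ≤ δ.ker := commutator_le_ker_of_commute δ (fun a b => by
    exact (mem_center_iff.mp (hc b) (δ a)))
  rw [hG.commutator_eq_top] at hδ
  ext g
  have : δ g = 1 := hδ (mem_top g)
  exact mul_inv_eq_one.mp this

section Perfect

variable {H : Type*} {Q : Type*} [Group H] [Group Q] (hh : H →* Q)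

/-- if `H/Z` is perfect with `Z` central then `H = H' Z` -/
theorem exists_mul_commutator_central (hs : Function.Surjective hh) (hQ : Group.IsPerfect Q) (x : H) :
    ∃ y ∈ commutator H, ∃ z ∈ hh.ker, x = y * z := by
  have h1 : (commutator H).map hh = ⊤ := by
    rw [_root_.commutator_def, Subgroup.map_commutator, ← MonoidHom.range_eq_map,
      MonoidHom.range_eq_top.mpr hs, ← _root_.commutator_def, hQ.commutator_eq_top]
  have h2 : hh x ∈ (commutator H).map hh := by rw [h1]; exact mem_top _
  obtain ⟨y, hy, hyx⟩ := h2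
  refine ⟨y, hy, y⁻¹ * x, ?_, by group⟩
  show hh (y⁻¹ * x) = 1
  rw [map_mul, map_inv, hyx, inv_mul_cancel]

theorem commutator_commutator_of_perfect_quotient (hs : Function.Surjective hh)
    (hc : hh.ker ≤ center H) (hQ : Group.IsPerfect Q) :
    ⁅commutator H, commutator H⁆ = commutator H := by
  apply le_antisymm
  · exact Subgroup.commutator_le_right _ _
  · rw [commutator_eq_closure, Subgroup.closure_le]
    rintro _ ⟨a, b, rfl⟩
    obtain ⟨a', ha', z, hz, rfl⟩ := exists_mul_commutator_central hh hs hQ a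
    obtain ⟨b', hb', w, hw, rfl⟩ := exists_mul_commutator_central hh hs hQ b
    rw [commutatorElement_mul_central _ _ _ _ (hc hz) (hc hw)]
    rw [← commutator_eq_closure]
    exact Subgroup.commutator_mem_commutator ha' hb'

theorem isPerfect_commutator_of_perfect_quotient (hs : Function.Surjective hh)
    (hc : hh.ker ≤ center H) (hQ : Group.IsPerfect Q) : Group.IsPerfect ↥(commutator H) :=
  Subgroup.isPerfect_iff.mpr (commutator_commutator_of_perfect_quotient hh hs hc hQ)

theorem restrict_commutator_surjective (hs : Function.Surjective hh) (hQ : Group.IsPerfect Q) :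
    Function.Surjective (hh.comp (commutator H).subtype) := by
  intro q
  obtain ⟨x, rfl⟩ := hs q
  obtain ⟨y, hy, z, hz, rfl⟩ := exists_mul_commutator_central hh hs hQ x
  refine ⟨⟨y, hy⟩, ?_⟩
  show hh y = hh (y * z)
  rw [map_mul, show hh z = 1 from hz, mul_one]

theorem restrict_commutator_ker_le_center (hc : hh.ker ≤ center H) :
    (hh.comp (commutator H).subtype).ker ≤ center ↥(commutator H) := by
  intro k hk
  have h1 : (k : H) ∈ center H := hc hk
  rw [mem_center_iff]
  intro g
  apply Subtype.ext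
  exact mem_center_iff.mp h1 _

end Perfect

/-- **Universal central extension** of a finite perfect group. -/
theorem exists_universal_central_extension {Q : Type u} [Group Q] [Finite Q] (hQ : Group.IsPerfect Q) :
    ∃ (G : Type u) (_ : Group G) (_ : Finite G) (π : G →* Q), Group.IsPerfect G ∧ Function.Surjective π ∧
      π.ker ≤ Subgroup.center G ∧ ∀ (X : Type u) [Group X] (ξ : X →* Q), Function.Surjective ξ →
        ξ.ker ≤ Subgroup.center X → ∃! η : G →* X, ξ.comp η = π := by
  have hs := hopfHom_surjective (stdPres Q) (stdPres_surjective Q)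
  have hc := hopfHom_ker_le_center (stdPres Q)
  haveI : Finite ↥(commutator (HopfGroup (stdPres Q))) :=
    finite_commutator_of_central (hopfHom (stdPres Q)) hc
  have hperf := isPerfect_commutator_of_perfect_quotient (hopfHom (stdPres Q)) hs hc hQ
  refine ⟨↥(commutator (HopfGroup (stdPres Q))), inferInstance, inferInstance,
    (hopfHom (stdPres Q)).comp (commutator (HopfGroup (stdPres Q))).subtype, hperf,
    restrict_commutator_surjective _ hs hQ, restrict_commutator_ker_le_center _ hc, ?_⟩
  intro X _ ξ hξs hξc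
  obtain ⟨φ, hφ⟩ := exists_lift (stdPres Q) ξ hξs hξc
  refine ⟨φ.comp (commutator (HopfGroup (stdPres Q))).subtype, ?_, ?_⟩
  · show ξ.comp (φ.comp _) = _
    rw [← MonoidHom.comp_assoc, hφ]
  · intro η hη
    apply hom_eq_of_perfect hperf ξ hξc
    rw [hη, ← MonoidHom.comp_assoc, hφ]

/-- a stem extension of a perfect group is perfect -/
theorem isPerfect_of_stem {G : Type*} {Δ : Type*} [Group G] [Group Δ] (hG : Group.IsPerfect G)
    (τ : Δ →* G) (hτ : Cfsg.IsStemExtension τ) : Group.IsPerfect Δ := by
  refine ⟨?_⟩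
  rw [eq_top_iff]
  intro x _
  obtain ⟨y, hy, z, hz, rfl⟩ := exists_mul_commutator_central τ hτ.1 hG x
  exact mul_mem hy (hτ.2.2 hz)

/-- a homomorphism from a perfect group to a group with commuting image is trivial -/
theorem eq_one_of_perfect_of_commute {X Y : Type*} [Group X] [Group Y] (hX : Group.IsPerfect X)
    (f : X →* Y) (h : ∀ a b : X, f a * f b = f b * f a) (x : X) : f x = 1 := by
  have := commutator_le_ker_of_commute f h
  rw [hX.commutator_eq_top] at this
  exact this (mem_top x)

/-- a central extension of a central extension of a perfect group is central -/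
theorem ker_comp_le_center_of_perfect {Δ G Q : Type*} [Group Δ] [Group G] [Group Q]
    (hΔ : Group.IsPerfect Δ) (τ : Δ →* G) (hτ : τ.ker ≤ center Δ) (π : G →* Q)
    (hπ : π.ker ≤ center G) : (π.comp τ).ker ≤ center Δ := by
  intro k hk
  have hk1 : τ k ∈ center G := hπ hk
  have h : ∀ x ∈ (⊤ : Subgroup Δ), ⁅x, k⁆ ∈ center Δ := by
    intro x _
    apply hτ
    show τ ⁅x, k⁆ = 1
    rw [map_commutatorElement, commutatorElement_eq_one_iff_mul_comm]
    exact mem_center_iff.mp hk1 _
  haveI := hΔ
  have hperf : Group.IsPerfect ↥(⊤ : Subgroup Δ) := inferInstance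
  have h1 := eq_one_of_perfect_of_commute hperf (commHom ⊤ k h) (fun a b => by
    apply Subtype.ext
    exact mem_center_iff.mp ((commHom ⊤ k h) b).2 _)
  rw [mem_center_iff]
  intro d
  have h2 := congrArg Subtype.val (h1 ⟨d, mem_top d⟩)
  have h3 : ⁅d, k⁆ = 1 := h2
  exact commutatorElement_eq_one_iff_mul_comm.mp h3

/-- if a perfect central extension `π : G → Q` lifts through `π ∘ τ` for a stem extension `τ` of `G`,
then `τ` is an isomorphism -/
theorem ker_eq_bot_of_lift {G : Type*} {Q : Type*} {Δ : Type*} [Group G] [Group Q] [Group Δ]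
    (hG : Group.IsPerfect G) (π : G →* Q) (hker : π.ker ≤ center G) (τ : Δ →* G)
    (hτ : Cfsg.IsStemExtension τ) (η : G →* Δ) (hη : (π.comp τ).comp η = π) : τ.ker = ⊥ := by
  have h1 : τ.comp η = MonoidHom.id G := by
    apply hom_eq_of_perfect hG π hker
    rw [MonoidHom.comp_id, ← MonoidHom.comp_assoc, hη]
  have hΔ := isPerfect_of_stem hG τ hτ
  -- Δ = η(G) · ker τ, so Δ' ≤ η(G)
  have h2 : commutator Δ ≤ η.range := by
    rw [commutator_eq_closure, Subgroup.closure_le]
    rintro _ ⟨a, b, rfl⟩
    have ha : a = η (τ a) * ((η (τ a))⁻¹ * a) := by group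
    have hb : b = η (τ b) * ((η (τ b))⁻¹ * b) := by group
    have hza : (η (τ a))⁻¹ * a ∈ center Δ := by
      apply hτ.2.1
      show τ ((η (τ a))⁻¹ * a) = 1
      have := DFunLike.congr_fun h1 (τ a)
      simp only [MonoidHom.comp_apply, MonoidHom.id_apply] at this
      rw [map_mul, map_inv, this, inv_mul_cancel]
    have hzb : (η (τ b))⁻¹ * b ∈ center Δ := by
      apply hτ.2.1
      show τ ((η (τ b))⁻¹ * b) = 1
      have := DFunLike.congr_fun h1 (τ b)
      simp only [MonoidHom.comp_apply, MonoidHom.id_apply] at this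
      rw [map_mul, map_inv, this, inv_mul_cancel]
    rw [ha, hb, commutatorElement_mul_central _ _ _ _ hza hzb, ← map_commutatorElement]
    exact ⟨_, rfl⟩
  rw [eq_bot_iff]
  intro k hk
  obtain ⟨g, rfl⟩ := h2 (hτ.2.2 hk)
  have h3 : τ (η g) = g := DFunLike.congr_fun h1 g
  have h4 : τ (η g) = 1 := hk
  rw [h3] at h4
  rw [mem_bot, h4, map_one]

/-- a perfect group with trivial multiplier lifts through every central extension -/
theorem exists_lift_of_trivial_multiplier {G : Type u} [Group G] [Finite G] (hG : Group.IsPerfect G)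
    (hM : Cfsg.HasCyclicSchurMultiplier G 1) {Q : Type v} [Group Q] (π : G →* Q) {X : Type w} [Group X]
    (ξ : X →* Q) (hξs : Function.Surjective ξ) (hξc : ξ.ker ≤ center X) :
    ∃ η : G →* X, ξ.comp η = π := by
  let p1 : ↥(fiberProd π ξ) →* G := (MonoidHom.fst G X).comp (fiberProd π ξ).subtype
  let p2 : ↥(fiberProd π ξ) →* X := (MonoidHom.snd G X).comp (fiberProd π ξ).subtype
  have hp1 : Function.Surjective p1 := by
    intro g
    obtain ⟨x, hx⟩ := hξs (π g)
    exact ⟨⟨(g, x), hx.symm⟩, rfl⟩
  have hp1c : p1.ker ≤ center _ := by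
    intro e he
    have h1 : (e : G × X).1 = 1 := he
    have h2 : π (e : G × X).1 = ξ (e : G × X).2 := e.2
    rw [h1, map_one] at h2
    have h3 : (e : G × X).2 ∈ center X := hξc h2.symm
    rw [mem_center_iff]
    intro f
    apply Subtype.ext
    apply Prod.ext
    · show (f : G × X).1 * (e : G × X).1 = (e : G × X).1 * (f : G × X).1
      rw [h1, mul_one, one_mul]
    · exact mem_center_iff.mp h3 _
  obtain ⟨θ, hθ⟩ := exists_surjective_of_hasSchurMultiplier hM p1 hp1 hp1c
  have hbot : ∀ e ∈ commutator ↥(fiberProd π ξ), p1 e = 1 → e = 1 := by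
    intro e he he1
    obtain ⟨a, ha⟩ := hθ ⟨e, he1, he⟩
    have h2 : Subsingleton (Multiplicative (ZMod 1)) := by
      have : Subsingleton (ZMod 1) := by
        change Subsingleton (Fin 1); infer_instance
      exact inferInstanceAs (Subsingleton (ZMod 1))
    have h3 : a = 1 := Subsingleton.elim _ _
    rw [h3, map_one] at ha
    exact (congrArg Subtype.val ha).symm
  let r : ↥(commutator ↥(fiberProd π ξ)) →* G := p1.comp (Subgroup.subtype _)
  have hr : Function.Bijective r := by
    constructor
    · rw [← MonoidHom.ker_eq_bot_iff, eq_bot_iff]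
      intro d hd
      rw [mem_bot]
      apply Subtype.ext
      exact hbot d.1 d.2 hd
    · intro g
      obtain ⟨e, he, heg⟩ := exists_mem_commutator_fst π ξ hξs g
        (by rw [hG.commutator_eq_top]; exact mem_top g)
      exact ⟨⟨e, he⟩, heg⟩
  let er : ↥(commutator ↥(fiberProd π ξ)) ≃* G := MulEquiv.ofBijective r hr
  refine ⟨(p2.comp (Subgroup.subtype _)).comp er.symm.toMonoidHom, ?_⟩
  ext g
  show ξ ((er.symm g : ↥(fiberProd π ξ)) : G × X).2 = π g
  have h1 : π ((er.symm g : ↥(fiberProd π ξ)) : G × X).1 = ξ ((er.symm g : ↥(fiberProd π ξ)) : G × X).2 :=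
    (er.symm g : ↥(fiberProd π ξ)).2
  rw [← h1]
  congr 1
  exact er.apply_symm_apply g

end Cfsg.Agent.Lib.Helper27.Schur
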