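/-
helper27: uniqueness of the quasisimple group `2^2.L_3(4)`, conditional on the Schur multiplier
`M(L_3(4)) = 3 × 4 × 4`.  General part: lifts of the universal central extension.
-/
import Cfsg.Agent.Lib.Helper27.SchurUniv

set_option autoImplicit false

namespace Cfsg.Agent.Lib.Helper27.L34Cover

universe u v w

open Subgroup Cfsg.Agent.Lib.Helper27.Schur
open scoped commutatorElement

/-- a lift of a surjection to a perfect central extension is surjective -/
theorem lift_surjective {U : Type u} {L : Type v} {P : Type w} [Group U] [Group L] [Group P]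
    (hL : Group.IsPerfect L) (π : U →* P) (hπ : Function.Surjective π) (ξ : L →* P)
    (hξc : ξ.ker ≤ center L) (η : U →* L) (h : ξ.comp η = π) : Function.Surjective η := by
  have h1 : ∀ x : L, ∃ y ∈ η.range, ∃ z ∈ ξ.ker, x = y * z := by
    intro x
    obtain ⟨u, hu⟩ := hπ (ξ x)
    refine ⟨η u, ⟨u, rfl⟩, (η u)⁻¹ * x, ?_, by group⟩
    have : ξ (η u) = π u := by rw [← h]; rfl
    rw [MonoidHom.mem_ker, map_mul, map_inv, this, hu, inv_mul_cancel]
  have h2 : commutator L ≤ η.range := by
    rw [commutator_eq_closure, closure_le]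
    rintro _ ⟨a, b, rfl⟩
    obtain ⟨y1, hy1, z1, hz1, rfl⟩ := h1 a
    obtain ⟨y2, hy2, z2, hz2, rfl⟩ := h1 b
    rw [commutatorElement_mul_central _ _ _ _ (hξc hz1) (hξc hz2)]
    rw [commutatorElement_def]
    exact mul_mem (mul_mem (mul_mem hy1 hy2) (inv_mem hy1)) (inv_mem hy2)
  rw [hL.commutator_eq_top] at h2
  exact MonoidHom.range_eq_top.mp (top_le_iff.mp h2)

/-- the kernel of the lift lies in the kernel of the extension -/
theorem ker_lift_le {U : Type u} {L : Type v} {P : Type w} [Group U] [Group L] [Group P]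
    (π : U →* P) (ξ : L →* P) (η : U →* L) (h : ξ.comp η = π) : η.ker ≤ π.ker := by
  intro x hx
  rw [MonoidHom.mem_ker] at hx ⊢
  rw [← h, MonoidHom.comp_apply, hx, map_one]

/-- cardinality for a surjective hom -/
theorem card_eq_ker_mul {G : Type u} {H : Type v} [Group G] [Group H] (f : G →* H)
    (hf : Function.Surjective f) : Nat.card G = Nat.card f.ker * Nat.card H := by
  rw [← Subgroup.card_mul_index f.ker, Subgroup.index_ker, MonoidHom.range_eq_top.mpr hf,
    Subgroup.card_top]

end Cfsg.Agent.Lib.Helper27.L34Cover
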