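/-
helper27: uniqueness of the quasisimple group `2^2.L_3(4)`, conditional on the Schur multiplier
`M(L_3(4)) = 3 × 4 × 4`.  Main lemma.
-/
import Cfsg.Agent.Lib.Helper27.L34CoverA

set_option autoImplicit false

namespace Cfsg.Agent.Lib.Helper27.L34Cover

universe u v w

open Subgroup Cfsg.Agent.Lib.Helper27.Schur
open scoped commutatorElement

/-- the abelian group `3 × 4 × 4` -/
abbrev A48 : Type := Multiplicative (ZMod 3 × ZMod 4 × ZMod 4)

/-- squaring on `3 × 4 × 4` -/
def sq48 : A48 →* A48 where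
  toFun a := a * a
  map_one' := by simp
  map_mul' a b := mul_mul_mul_comm a b a b

theorem sq48_apply (a : A48) : sq48 a = a * a := rfl

theorem card_A48 : Nat.card A48 = 48 := by
  rw [Nat.card_eq_fintype_card]
  decide

theorem card_ker_sq48 : Nat.card sq48.ker = 4 := by
  have h : Nat.card sq48.ker = Nat.card {a : A48 // a * a = 1} := by
    apply Nat.card_congr
    exact Equiv.subtypeEquivRight (fun a => by rw [MonoidHom.mem_ker, sq48_apply])
  rw [h, Nat.card_eq_fintype_card, Fintype.card_subtype]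
  decide

theorem card_range_sq48 : Nat.card sq48.range = 12 := by
  have h := card_eq_ker_mul sq48.rangeRestrict sq48.rangeRestrict_surjective
  rw [MonoidHom.ker_rangeRestrict, card_ker_sq48, card_A48] at h
  omega

/-- cardinality of the kernel of a composite -/
theorem card_ker_comp {U : Type u} {L : Type v} {P : Type w} [Group U] [Group L] [Group P] [Finite U]
    (π : U →* P) (hπ : Function.Surjective π) (ξ : L →* P) (η : U →* L)
    (hη : Function.Surjective η) (h : ξ.comp η = π) :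
    Nat.card π.ker = Nat.card η.ker * Nat.card ξ.ker := by
  haveI : Finite P := Finite.of_surjective π hπ
  haveI : Finite L := Finite.of_surjective η hη
  have hξ : Function.Surjective ξ := by
    intro p
    obtain ⟨u, rfl⟩ := hπ p
    exact ⟨η u, by rw [← h]; rfl⟩
  have e1 := card_eq_ker_mul π hπ
  have e2 := card_eq_ker_mul η hη
  have e3 := card_eq_ker_mul ξ hξ
  rw [e2, e3, ← mul_assoc] at e1
  exact (Nat.eq_of_mul_eq_mul_right Nat.card_pos e1).symm

/-- elements of `ker π` are sent into `ker ξ` by a lift -/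
theorem lift_mem_ker {U : Type u} {L : Type v} {P : Type w} [Group U] [Group L] [Group P]
    (π : U →* P) (ξ : L →* P) (η : U →* L) (h : ξ.comp η = π) {x : U} (hx : x ∈ π.ker) :
    η x ∈ ξ.ker := by
  rw [MonoidHom.mem_ker] at hx ⊢
  rw [← hx, ← h]; rfl

/-- **Uniqueness of `2^2.L_3(4)`**, abstract form: if the perfect finite group `P` has Schur
multiplier `3 × 4 × 4`, any two perfect central extensions of `P` with kernel elementary abelian of order 4
are isomorphic. -/
theorem nonempty_mulEquiv_of_cover {P : Type u} [Group P] [Finite P] (hP : Group.IsPerfect P)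
    (hM : Cfsg.HasSchurMultiplier P A48)
    {L₁ L₂ : Type u} [Group L₁] [Group L₂] (h₁ : Group.IsPerfect L₁) (h₂ : Group.IsPerfect L₂)
    (ξ₁ : L₁ →* P) (ξ₂ : L₂ →* P) (hs₁ : Function.Surjective ξ₁) (hs₂ : Function.Surjective ξ₂)
    (hc₁ : ξ₁.ker ≤ center L₁) (hc₂ : ξ₂.ker ≤ center L₂)
    (hk₁ : Nat.card ξ₁.ker = 4) (hk₂ : Nat.card ξ₂.ker = 4)
    (he₁ : ∀ x ∈ ξ₁.ker, x * x = 1) (he₂ : ∀ x ∈ ξ₂.ker, x * x = 1) : Nonempty (L₁ ≃* L₂) := by
  obtain ⟨U, _, _, π, hU, hπs, hπc, huniv⟩ := exists_universal_central_extension hP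
  -- `ker π ≅ A48`
  have hstem : Cfsg.IsStemExtension π :=
    ⟨hπs, hπc, by rw [hU.commutator_eq_top]; exact le_top⟩
  obtain ⟨ψ, hψ⟩ := hM.2 U π hstem
  obtain ⟨Γ, _, _, σ, hσ, ⟨eσ⟩⟩ := hM.1
  have hcardσ : Nat.card σ.ker = 48 := by rw [Nat.card_congr eσ.toEquiv, card_A48]
  have hcardπ : Nat.card π.ker = 48 := by
    obtain ⟨η, hη, -⟩ := huniv Γ σ hσ.1 hσ.2.1
    have hΓ := isPerfect_of_stem hP σ hσ
    have hηs := lift_surjective hΓ π hπs σ hσ.2.1 η hη
    have e := card_ker_comp π hπs σ η hηs hη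
    rw [hcardσ] at e
    have hle : Nat.card π.ker ≤ 48 := by
      rw [← card_A48]
      exact Nat.card_le_card_of_surjective ψ hψ
    have hpos : 0 < Nat.card η.ker := Nat.card_pos
    nlinarith
  have hψb : Function.Bijective ψ :=
    hψ.bijective_of_nat_card_le (by rw [hcardπ, card_A48])
  -- the subgroup of squares
  let ι : A48 →* U := π.ker.subtype.comp ψ
  have hι : Function.Injective ι := π.ker.subtype_injective.comp hψb.1
  let T : Subgroup U := sq48.range.map ι
  have hT : Nat.card T = 12 := by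
    rw [Subgroup.card_map_of_injective hι, card_range_sq48]
  -- key claim
  have key : ∀ {L : Type u} [Group L] (hL : Group.IsPerfect L) (ξ : L →* P)
      (hs : Function.Surjective ξ) (hc : ξ.ker ≤ center L) (hk : Nat.card ξ.ker = 4)
      (he : ∀ x ∈ ξ.ker, x * x = 1), ∃ η : U →* L, Function.Surjective η ∧ η.ker = T := by
    intro L _ hL ξ hs hc hk he
    obtain ⟨η, hη, -⟩ := huniv L ξ hs hc
    have hηs := lift_surjective hL π hπs ξ hc η hη
    refine ⟨η, hηs, ?_⟩
    have e := card_ker_comp π hπs ξ η hηs hη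
    rw [hcardπ, hk] at e
    have hK : Nat.card η.ker = 12 := by omega
    symm
    apply Subgroup.eq_of_le_of_card_ge
    · rintro _ ⟨_, ⟨a, rfl⟩, rfl⟩
      rw [MonoidHom.mem_ker, sq48_apply, map_mul, map_mul]
      apply he
      apply lift_mem_ker π ξ η hη
      exact (ψ a).2
    · rw [hT, hK]
  obtain ⟨η₁, hη₁, hK₁⟩ := key h₁ ξ₁ hs₁ hc₁ hk₁ he₁
  obtain ⟨η₂, hη₂, hK₂⟩ := key h₂ ξ₂ hs₂ hc₂ hk₂ he₂
  have e1 := QuotientGroup.quotientKerEquivOfSurjective η₁ hη₁
  have e2 := QuotientGroup.quotientKerEquivOfSurjective η₂ hη₂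
  exact ⟨e1.symm.trans ((QuotientGroup.quotientMulEquivOfEq (hK₁.trans hK₂.symm)).trans e2)⟩

end Cfsg.Agent.Lib.Helper27.L34Cover
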