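/-
helper27: uniqueness of the quasisimple group `2^2.L_3(4)`, conditional on the Schur multiplier
`M(L_3(4)) = 3 × 4 × 4`.  Universe polymorphic form for quasisimple groups.
-/
import Cfsg.Agent.Lib.Helper27.L34CoverB
import Cfsg.Prelude.Def_CaseTheorems

set_option autoImplicit false

namespace Cfsg.Agent.Lib.Helper27.L34Cover

universe u v w

open Subgroup Cfsg.Agent.Lib.Helper27.Schur

/-- transporting a central extension along an isomorphism -/
theorem transport_ext {L : Type v} {L' : Type w} {P : Type u} [Group L] [Group L'] [Group P]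
    (f : L' ≃* L) (ξ : L →* P) (hL : Group.IsPerfect L) (hs : Function.Surjective ξ)
    (hc : ξ.ker ≤ center L) (hk : Nat.card ξ.ker = 4) (he : ∀ x ∈ ξ.ker, x * x = 1) :
    Group.IsPerfect L' ∧ Function.Surjective (ξ.comp f.toMonoidHom) ∧
      (ξ.comp f.toMonoidHom).ker ≤ center L' ∧ Nat.card (ξ.comp f.toMonoidHom).ker = 4 ∧
      ∀ x ∈ (ξ.comp f.toMonoidHom).ker, x * x = 1 := by
  have hmem : ∀ x : L', x ∈ (ξ.comp f.toMonoidHom).ker ↔ f x ∈ ξ.ker := by
    intro x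
    rw [MonoidHom.mem_ker, MonoidHom.mem_ker]; rfl
  refine ⟨?_, ?_, ?_, ?_, ?_⟩
  · haveI := hL
    exact Group.IsPerfect.ofSurjective (f := f.symm.toMonoidHom) f.symm.surjective
  · exact hs.comp f.surjective
  · intro x hx
    have h1 := hc ((hmem x).mp hx)
    rw [mem_center_iff] at h1 ⊢
    intro g
    apply f.injective
    rw [map_mul, map_mul]
    exact h1 (f g)
  · rw [← hk]
    apply Nat.card_congr
    exact f.toEquiv.subtypeEquiv (fun x => hmem x)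
  · intro x hx
    apply f.injective
    rw [map_mul, map_one]
    exact he _ ((hmem x).mp hx)

/-- **Uniqueness of `2^2.L_3(4)`**, universe polymorphic abstract form. -/
theorem nonempty_mulEquiv_of_cover' {P : Type u} [Group P] [Finite P] (hP : Group.IsPerfect P)
    (hM : Cfsg.HasSchurMultiplier P A48)
    {L₁ : Type v} {L₂ : Type w} [Group L₁] [Group L₂] [Finite L₁] [Finite L₂]
    (h₁ : Group.IsPerfect L₁) (h₂ : Group.IsPerfect L₂)
    (ξ₁ : L₁ →* P) (ξ₂ : L₂ →* P) (hs₁ : Function.Surjective ξ₁) (hs₂ : Function.Surjective ξ₂)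
    (hc₁ : ξ₁.ker ≤ center L₁) (hc₂ : ξ₂.ker ≤ center L₂)
    (hk₁ : Nat.card ξ₁.ker = 4) (hk₂ : Nat.card ξ₂.ker = 4)
    (he₁ : ∀ x ∈ ξ₁.ker, x * x = 1) (he₂ : ∀ x ∈ ξ₂.ker, x * x = 1) : Nonempty (L₁ ≃* L₂) := by
  obtain ⟨L₁', _, ⟨f₁⟩⟩ := exists_mulEquiv_of_finite.{u, v} L₁
  obtain ⟨L₂', _, ⟨f₂⟩⟩ := exists_mulEquiv_of_finite.{u, w} L₂
  obtain ⟨a1, a2, a3, a4, a5⟩ := transport_ext f₁ ξ₁ h₁ hs₁ hc₁ hk₁ he₁
  obtain ⟨b1, b2, b3, b4, b5⟩ := transport_ext f₂ ξ₂ h₂ hs₂ hc₂ hk₂ he₂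
  obtain ⟨g⟩ := nonempty_mulEquiv_of_cover hP hM a1 b1 _ _ a2 b2 a3 b3 a4 b4 a5 b5
  exact ⟨f₁.symm.trans (g.trans f₂)⟩

/-- **Uniqueness of `2^2.L_3(4)`** for quasisimple groups, given the Schur multiplier of the
central quotient. -/
theorem nonempty_mulEquiv_of_quasisimple {P : Type u} [Group P]
    (hM : Cfsg.HasSchurMultiplier P A48)
    {L₁ : Type v} {L₂ : Type w} [Group L₁] [Group L₂] [Finite L₁] [Finite L₂]
    (h₁ : Cfsg.IsQuasisimple L₁) (h₂ : Cfsg.IsQuasisimple L₂)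
    (hc₁ : Nat.card (center L₁) = 4) (hc₂ : Nat.card (center L₂) = 4)
    (he₁ : ∀ x ∈ center L₁, x * x = 1) (he₂ : ∀ x ∈ center L₂, x * x = 1)
    (e₁ : L₁ ⧸ center L₁ ≃* P) (e₂ : L₂ ⧸ center L₂ ≃* P) : Nonempty (L₁ ≃* L₂) := by
  haveI : Finite P := Finite.of_equiv _ e₁.toEquiv
  have hP : Group.IsPerfect P := by
    haveI := h₁.1
    exact Group.IsPerfect.ofSurjective
      (f := e₁.toMonoidHom.comp (QuotientGroup.mk' (center L₁)))
      (e₁.surjective.comp (QuotientGroup.mk'_surjective _))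
  have hker₁ : (e₁.toMonoidHom.comp (QuotientGroup.mk' (center L₁))).ker = center L₁ := by
    ext x
    rw [MonoidHom.mem_ker, MonoidHom.comp_apply]
    show e₁ (QuotientGroup.mk' (center L₁) x) = 1 ↔ _
    rw [MulEquiv.map_eq_one_iff, QuotientGroup.mk'_apply, QuotientGroup.eq_one_iff]
  have hker₂ : (e₂.toMonoidHom.comp (QuotientGroup.mk' (center L₂))).ker = center L₂ := by
    ext x
    rw [MonoidHom.mem_ker, MonoidHom.comp_apply]
    show e₂ (QuotientGroup.mk' (center L₂) x) = 1 ↔ _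
    rw [MulEquiv.map_eq_one_iff, QuotientGroup.mk'_apply, QuotientGroup.eq_one_iff]
  refine nonempty_mulEquiv_of_cover' hP hM h₁.1 h₂.1
    (e₁.toMonoidHom.comp (QuotientGroup.mk' (center L₁)))
    (e₂.toMonoidHom.comp (QuotientGroup.mk' (center L₂)))
    (e₁.surjective.comp (QuotientGroup.mk'_surjective _))
    (e₂.surjective.comp (QuotientGroup.mk'_surjective _)) ?_ ?_ ?_ ?_ ?_ ?_
  · rw [hker₁]
  · rw [hker₂]
  · rw [hker₁]; exact hc₁
  · rw [hker₂]; exact hc₂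
  · rw [hker₁]; exact he₁
  · rw [hker₂]; exact he₂

end Cfsg.Agent.Lib.Helper27.L34Cover
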