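import Mathlib

/-!
Arithmetic for the realization of dihedral / semidihedral / quaternion fusion systems:
a prime `p ≡ 3 (mod 4)` with prescribed `2`-adic valuation of `p + 1` (Dirichlet).
-/

set_option autoImplicit false

namespace Cfsg.Agent.Lib.Helper27.MetaSS

/-- For `e ≥ 2` there is a prime `p ≡ 3 (mod 4)` with `v₂(p + 1) = e`. -/
theorem exists_prime_fact (e : ℕ) (he : 2 ≤ e) :
    ∃ p : ℕ, p.Prime ∧ p % 4 = 3 ∧ (p + 1).factorization 2 = e := by
  have hne : NeZero (2 ^ (e + 1)) := ⟨by positivity⟩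
  have h1 : 1 ≤ 2 ^ e := Nat.one_le_two_pow
  have hodd : Odd (2 ^ e - 1) := by
    have : Even (2 ^ e) := (Nat.even_pow' (by omega)).mpr (by decide)
    exact Nat.Even.sub_odd h1 this (by decide)
  have hunit : IsUnit (((2 ^ e - 1 : ℕ)) : ZMod (2 ^ (e + 1))) := by
    rw [ZMod.isUnit_iff_coprime]
    apply Nat.Coprime.pow_right
    rw [Nat.coprime_two_right]
    exact hodd
  obtain ⟨p, -, hp, hpm⟩ := Nat.forall_exists_prime_gt_and_eq_mod hunit 0
  rw [ZMod.natCast_eq_natCast_iff] at hpm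
  have hlt : 2 ^ e - 1 < 2 ^ (e + 1) := by
    rw [pow_succ]; omega
  have hmod : p % 2 ^ (e + 1) = 2 ^ e - 1 := by
    rw [hpm, Nat.mod_eq_of_lt hlt]
  obtain ⟨t, ht⟩ : ∃ t, p = 2 ^ (e + 1) * t + (2 ^ e - 1) := ⟨p / 2 ^ (e + 1), by
    rw [← hmod]; exact (Nat.div_add_mod p _).symm⟩
  have hp1 : p + 1 = 2 ^ e * (2 * t + 1) := by
    rw [ht, pow_succ]
    have : 2 ^ e * 2 * t + (2 ^ e - 1) + 1 = 2 ^ e * 2 * t + 2 ^ e := by omega
    rw [this]; ring
  refine ⟨p, hp, ?_, ?_⟩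
  · obtain ⟨f, rfl⟩ : ∃ f, e = f + 2 := ⟨e - 2, by omega⟩
    have h4 : (p + 1) % 4 = 0 := by
      rw [hp1, pow_add]
      have : 2 ^ f * 2 ^ 2 * (2 * t + 1) = 4 * (2 ^ f * (2 * t + 1)) := by ring
      rw [this]; exact Nat.mul_mod_right _ _
    omega
  · rw [hp1, Nat.factorization_mul (by positivity) (by omega), Nat.factorization_pow]
    have h2 : (2 * t + 1).factorization 2 = 0 := by
      apply Nat.factorization_eq_zero_of_not_dvd
      omega
    simp [Nat.Prime.factorization_self Nat.prime_two, h2]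

end Cfsg.Agent.Lib.Helper27.MetaSS
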