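import Cfsg.Agent.Lib.Helper26.FSCyclicExt
import Cfsg.Agent.Lib.Helper29.Frobenius

/-!
If `S` is normal in the fusion system realized by `ι : S →* G` (image a Sylow `p`-subgroup) and
`Aut(S)` is a `p`-group, then `G` satisfies the Frobenius condition, hence has a normal
`p`-complement.
-/

set_option autoImplicit false

namespace Cfsg.Agent.Lib.Helper27.MetaSS

open Cfsg Cfsg.FusionSystem Cfsg.Agent.Lib.Helper26 Cfsg.Agent.Lib.Helper29

universe u v

theorem mem_normalizer_of_conj_le {G : Type*} [Group G] (T : Subgroup G) [Finite T] (n : G)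
    (h : ∀ t ∈ T, n * t * n⁻¹ ∈ T) : n ∈ Subgroup.normalizer (T : Set G) := by
  rw [Subgroup.mem_normalizer_iff]
  intro t
  refine ⟨h t, fun ht => ?_⟩
  -- conjugation by `n` is an injective self-map of the finite set `T`, hence surjective
  let f : T → T := fun x => ⟨n * x * n⁻¹, h x x.2⟩
  have hf : Function.Injective f := by
    intro a b hab
    have := congrArg Subtype.val hab
    exact Subtype.ext (mul_left_cancel (mul_right_cancel this))
  obtain ⟨x, hx⟩ := (Finite.injective_iff_surjective.mp hf) ⟨n * t * n⁻¹, ht⟩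
  have h1 : n * (x : G) * n⁻¹ = n * t * n⁻¹ := congrArg Subtype.val hx
  have h2 : (x : G) = t := mul_left_cancel (mul_right_cancel h1)
  rw [← h2]; exact x.2

theorem frobCond_of_isNormal_realized {Ω : Type v} [Group Ω] {S : Subgroup Ω} [Finite S]
    {G : Type u} [Group G] [Finite G] {p : ℕ} [Fact p.Prime]
    (ι : S →* G) (hinj : Function.Injective ι) (T : Sylow p G) (hT : (T : Subgroup G) = ι.range)
    (hN : (realizedSystem ι hinj).IsNormal S) (hAut : IsPGroup p (MulAut S)) : FrobCond p G := by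
  classical
  apply frobCond_of_sylow T
  intro Q hQ g hg hcop
  -- the isomorphism `S ≃* T`
  let e : S ≃* ι.range := MonoidHom.ofInjective hinj
  have he : ∀ y : ι.range, ι (e.symm y) = y := fun y => by
    have := e.apply_symm_apply y
    exact congrArg Subtype.val this
  -- the preimage `P` of `Q`
  set P : Subgroup Ω := (Q.comap ι).map S.subtype with hPdef
  have hPS : P ≤ S := Subgroup.map_subtype_le _
  have hPQ : ∀ x : P, ι ⟨x, hPS x.2⟩ ∈ Q := by
    rintro ⟨_, ⟨s, hs, rfl⟩⟩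
    exact hs
  have hgQ : ∀ q ∈ Q, g * q * g⁻¹ ∈ Q := fun q hq => (Subgroup.mem_normalizer_iff.mp hg q).mp hq
  have hrange : ∀ x : P, g * ι ⟨x, hPS x.2⟩ * g⁻¹ ∈ ι.range := fun x => by
    rw [← hT]; exact hQ (hgQ _ (hPQ x))
  -- the map `φ`
  let ψ₀ : P →* ι.range :=
    ((MulAut.conj g).toMonoidHom.comp (ι.comp (Subgroup.inclusion hPS))).codRestrict ι.range
      (fun x => hrange x)
  let φ : P →* Ω := S.subtype.comp (e.symm.toMonoidHom.comp ψ₀)
  have hφS : ∀ x : P, φ x ∈ S := fun x => (e.symm (ψ₀ x)).2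
  have hφι : ∀ x : P, ι ⟨φ x, hφS x⟩ = g * ι ⟨x, hPS x.2⟩ * g⁻¹ := by
    intro x
    have h1 : (⟨φ x, hφS x⟩ : S) = e.symm (ψ₀ x) := rfl
    rw [h1, he]
    rfl
  have hφmem : φ ∈ (realizedSystem ι hinj).Hom P := ⟨hPS, hφS, g, hφι⟩
  obtain ⟨ψ, ⟨hle, hψS, n, hn⟩, hext, -⟩ := hN.2 P φ hφmem
  have hSle : S ≤ P ⊔ S := le_sup_right
  -- `n` normalizes `T`
  have hnT : ∀ t ∈ (T : Subgroup G), n * t * n⁻¹ ∈ (T : Subgroup G) := by
    intro t ht
    rw [hT] at ht ⊢
    obtain ⟨s, rfl⟩ := ht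
    have := hn ⟨s, hSle s.2⟩
    have h2 : (⟨((⟨(s : Ω), hSle s.2⟩ : ↥(P ⊔ S)) : Ω), hle (⟨(s : Ω), hSle s.2⟩ : ↥(P ⊔ S)).2⟩ : S) = s := rfl
    rw [h2] at this
    rw [← this]
    exact ⟨_, rfl⟩
  have hTfin : Finite (T : Subgroup G) := inferInstance
  have hnN : n ∈ Subgroup.normalizer ((T : Subgroup G) : Set G) :=
    mem_normalizer_of_conj_le (T : Subgroup G) n hnT
  -- `n` and `g` agree on `Q`
  have hng : ∀ q ∈ Q, n * q * n⁻¹ = g * q * g⁻¹ := by
    intro q hq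
    have hqT : q ∈ ι.range := by rw [← hT]; exact hQ hq
    obtain ⟨s, rfl⟩ := hqT
    have hsP : (s : Ω) ∈ P := ⟨s, hq, rfl⟩
    have h1 := hn ⟨s, hSle s.2⟩
    have h2 := hext ⟨s, hsP⟩
    have h3 := hφι ⟨s, hsP⟩
    have e1 : (Subgroup.inclusion (le_sup_left : P ≤ P ⊔ S) ⟨(s : Ω), hsP⟩) = ⟨(s : Ω), hSle s.2⟩ := rfl
    rw [e1] at h2
    have e2 : (⟨((⟨(s : Ω), hSle s.2⟩ : ↥(P ⊔ S)) : Ω), hle (⟨(s : Ω), hSle s.2⟩ : ↥(P ⊔ S)).2⟩ : S) = s := rfl
    rw [e2] at h1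
    have e3 : (⟨((⟨(s : Ω), hsP⟩ : P) : Ω), hPS (⟨(s : Ω), hsP⟩ : P).2⟩ : S) = s := rfl
    rw [e3] at h3
    rw [← h1, ← h3]
    congr 1
    exact Subtype.ext h2
  -- powers agree
  have hpow : ∀ (j : ℕ), ∀ q ∈ Q, n ^ j * q * (n ^ j)⁻¹ = g ^ j * q * (g ^ j)⁻¹ ∧
      g ^ j * q * (g ^ j)⁻¹ ∈ Q := by
    intro j
    induction j with
    | zero => intro q hq; simpa using hq
    | succ j ih =>
      intro q hq
      obtain ⟨h1, h2⟩ := ih q hq
      have e1 : n ^ (j + 1) * q * (n ^ (j + 1))⁻¹ = n * (n ^ j * q * (n ^ j)⁻¹) * n⁻¹ := by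
        rw [pow_succ']; group
      have e2 : g ^ (j + 1) * q * (g ^ (j + 1))⁻¹ = g * (g ^ j * q * (g ^ j)⁻¹) * g⁻¹ := by
        rw [pow_succ']; group
      rw [e1, e2, h1, hng _ h2]
      exact ⟨rfl, hgQ _ h2⟩
  -- `Aut(T)` is a `p`-group
  have eST : S ≃* (T : Subgroup G) := e.trans (MulEquiv.subgroupCongr hT.symm)
  have hAutT : IsPGroup p (MulAut (T : Subgroup G)) := hAut.of_equiv (MulAut.congr eST)
  obtain ⟨k, hk⟩ := hAutT ((T : Subgroup G).normalizerMonoidHom ⟨n, hnN⟩)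
  have hk' : (⟨n, hnN⟩ : Subgroup.normalizer ((T : Subgroup G) : Set G)) ^ p ^ k ∈
      ((T : Subgroup G).normalizerMonoidHom).ker := by
    rw [MonoidHom.mem_ker, map_pow]; exact hk
  rw [Subgroup.normalizerMonoidHom_ker, Subgroup.mem_subgroupOf] at hk'
  have hk'' : n ^ p ^ k ∈ Subgroup.centralizer ((T : Subgroup G) : Set G) := by
    simpa using hk'
  -- so `g ^ p ^ k` centralizes `Q`
  have hgc : g ^ p ^ k ∈ Subgroup.centralizer (Q : Set G) := by
    rw [Subgroup.mem_centralizer_iff]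
    intro q hq
    have h1 := (hpow (p ^ k) q hq).1
    have h2 : n ^ p ^ k * q * (n ^ p ^ k)⁻¹ = q := by
      have := (Subgroup.mem_centralizer_iff.mp hk'') q (hQ hq)
      rw [← this]; group
    rw [h2] at h1
    calc q * g ^ p ^ k = (g ^ p ^ k * q * (g ^ p ^ k)⁻¹) * g ^ p ^ k := by rw [← h1]
      _ = g ^ p ^ k * q := by group
  have hpp : p.Prime := Fact.out
  have hcop' : (p ^ k).Coprime (orderOf g) := (Nat.Coprime.pow_left k hcop.symm)
  obtain ⟨m, hm⟩ := exists_pow_eq_self_of_coprime hcop'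
  rw [← hm]
  exact Subgroup.pow_mem _ hgc m

/-- No normal `2`-complement when two elements of odd order multiply to a nontrivial `2`-element. -/
theorem false_of_normal_complement {X : Type u} [Group X] [Finite X] (P : Sylow 2 X)
    (N : Subgroup X) [N.Normal] (hN : N.IsComplement' (P : Subgroup X)) (q : ℕ) (hq : Odd q)
    (a b : X) (ha : a ^ q = 1) (hb : b ^ q = 1) (h4 : (a * b * a) ^ 2 ^ 2 = 1)
    (h1 : a * b * a ≠ 1) : False := by
  have h2 : Fact (Nat.Prime 2) := ⟨Nat.prime_two⟩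
  have hcop : ∀ x : X, x ^ q = 1 → (orderOf x).Coprime 2 := by
    intro x hx
    have hd : orderOf x ∣ q := orderOf_dvd_of_pow_eq_one hx
    rw [Nat.coprime_two_right]
    exact Odd.of_dvd_nat hq hd
  have haN := mem_normal_complement_of_coprime P N hN a (hcop a ha)
  have hbN := mem_normal_complement_of_coprime P N hN b (hcop b hb)
  have hJ : a * b * a ∈ N := N.mul_mem (N.mul_mem haN hbN) haN
  exact h1 (eq_one_of_mem_normal_complement P N hN _ hJ 2 h4)

end Cfsg.Agent.Lib.Helper27.MetaSS
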