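import Cfsg.Agent.Lib.Helper26.SCMetaB
import Cfsg.Agent.Lib.Helper29.MetacyclicAut
import Cfsg.Agent.Lib.Helper20.QuatEight

/-!
Glue lemmas for S5287: a metacyclic group `(C × C) × H` has `H` trivial; an automorphism of order
three of `Q₈`; the four-group as `C₂ × C₂`; small dihedral / quaternion groups.
-/

set_option autoImplicit false

namespace Cfsg.Agent.Lib.Helper27.MetaSS

open Cfsg

universe u

/-- reduction mod `p` on `Multiplicative (ZMod (p ^ n))` -/
noncomputable def redHom (p n : ℕ) (hn : 0 < n) :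
    Multiplicative (ZMod (p ^ n)) →* Multiplicative (ZMod p) :=
  AddMonoidHom.toMultiplicative
    (ZMod.castHom (dvd_pow_self p hn.ne') (ZMod p)).toAddMonoidHom

theorem redHom_surjective (p n : ℕ) (hn : 0 < n) : Function.Surjective (redHom p n hn) := by
  intro y
  obtain ⟨x, hx⟩ := ZMod.ringHom_surjective (ZMod.castHom (dvd_pow_self p hn.ne') (ZMod p))
    (Multiplicative.toAdd y)
  exact ⟨Multiplicative.ofAdd x, by
    show Multiplicative.ofAdd ((ZMod.castHom (dvd_pow_self p hn.ne') (ZMod p)) x) = y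
    rw [hx]; rfl⟩

theorem pow_eq_one_zmod (p : ℕ) [Fact p.Prime] (y : Multiplicative (ZMod p)) : y ^ p = 1 := by
  have h : Multiplicative.toAdd (y ^ p) = 0 := by
    rw [toAdd_pow, nsmul_eq_mul, ZMod.natCast_self, zero_mul]
  exact Multiplicative.toAdd.injective h

/-- A metacyclic `p`-group of the form `(C × C) × H` has `H` trivial. -/
theorem subsingleton_of_isMetacyclic_prod {S : Type u} [Group S] [Finite S] {p : ℕ}
    [Fact p.Prime] (hS : IsPGroup p S) (hm : Cfsg.IsMetacyclic S) (n : ℕ) (hn : 0 < n)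
    (H : Type) [CommGroup H]
    (f : S ≃* (Multiplicative (ZMod (p ^ n)) × Multiplicative (ZMod (p ^ n))) × H) :
    Subsingleton H := by
  classical
  have hpp : p.Prime := Fact.out
  by_contra hns
  rw [not_subsingleton_iff_nontrivial] at hns
  -- `H` embeds in `S`
  let ι : H →* S := f.symm.toMonoidHom.comp (MonoidHom.inr _ H)
  have hι : Function.Injective ι := by
    intro a b hab
    have h1 := f.symm.injective hab
    exact (Prod.mk.injEq _ _ _ _ ▸ h1).2
  have hfinH : Finite H := Finite.of_injective ι hι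
  have hHp : IsPGroup p H := hS.of_injective ι hι
  obtain ⟨χ, hχ⟩ := Cfsg.Agent.Lib.Helper29.exists_hom_ne_one hHp hns
  have hχs : Function.Surjective χ := by
    obtain ⟨h₀, hh₀⟩ : ∃ h₀, χ h₀ ≠ 1 := by
      by_contra hall
      push Not at hall
      exact hχ (MonoidHom.ext hall)
    have hcard : Nat.card (Multiplicative (ZMod p)) = p := by
      rw [Nat.card_eq_fintype_card, Fintype.card_multiplicative, ZMod.card]
    have htop := zpowers_eq_top_of_prime_card (G := Multiplicative (ZMod p)) hcard hh₀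
    intro y
    have hy : y ∈ Subgroup.zpowers (χ h₀) := by rw [htop]; exact Subgroup.mem_top y
    obtain ⟨k, hk⟩ := Subgroup.mem_zpowers_iff.mp hy
    exact ⟨h₀ ^ k, by rw [map_zpow, hk]⟩
  -- the surjection onto `(Z/p)³`
  let ψ : (Multiplicative (ZMod (p ^ n)) × Multiplicative (ZMod (p ^ n))) × H →*
      (Multiplicative (ZMod p) × Multiplicative (ZMod p)) × Multiplicative (ZMod p) :=
    ((redHom p n hn).prodMap (redHom p n hn)).prodMap χ
  have hψs : Function.Surjective ψ := by
    rintro ⟨⟨y1, y2⟩, y3⟩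
    obtain ⟨x1, rfl⟩ := redHom_surjective p n hn y1
    obtain ⟨x2, rfl⟩ := redHom_surjective p n hn y2
    obtain ⟨x3, rfl⟩ := hχs y3
    exact ⟨((x1, x2), x3), rfl⟩
  let g : S →* (Multiplicative (ZMod p) × Multiplicative (ZMod p)) × Multiplicative (ZMod p) :=
    ψ.comp f.toMonoidHom
  have hgs : Function.Surjective g := hψs.comp f.surjective
  have hexp : ∀ s : S, s ^ p ∈ g.ker := by
    intro s
    rw [MonoidHom.mem_ker, map_pow]
    ext <;> simp [pow_eq_one_zmod]
  have h1 := Cfsg.Agent.Lib.Helper26.SCM.index_le_of_isMetacyclic (p := p) hm g.ker hexp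
  rw [Subgroup.index_ker, MonoidHom.range_eq_top.mpr hgs, Subgroup.card_top] at h1
  have hcard : Nat.card ((Multiplicative (ZMod p) × Multiplicative (ZMod p)) ×
      Multiplicative (ZMod p)) = p ^ 3 := by
    rw [Nat.card_prod, Nat.card_prod, Nat.card_eq_fintype_card, Fintype.card_multiplicative,
      ZMod.card]
    ring
  rw [hcard] at h1
  have := Nat.pow_lt_pow_right hpp.one_lt (show 2 < 3 by norm_num)
  omega

section Q8

open Cfsg.Agent.Lib.Helper20 Cfsg.Agent.Lib.Helper20.Q8 QuaternionGroup

theorem sigma_xa_three : Q8.sigma (xa 3) = a 1 := by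
  have h : (xa 3 : Q8c) = xa 0 * (a 1) ^ 3 := by decide
  rw [h, map_mul, map_pow, sigma_xa_zero, sigma_a_one]
  decide

theorem sigma_pow_three : Q8.sigma ^ 3 = 1 := by
  apply aut_ext
  · show (Q8.sigma ^ 3) (a 1) = a 1
    rw [pow_succ, pow_succ, pow_one, MulAut.mul_apply, MulAut.mul_apply, sigma_a_one,
      sigma_xa_zero, sigma_xa_three]
  · show (Q8.sigma ^ 3) (xa 0) = xa 0
    rw [pow_succ, pow_succ, pow_one, MulAut.mul_apply, MulAut.mul_apply, sigma_xa_zero,
      sigma_xa_three, sigma_a_one]

theorem sigma_ne_one : Q8.sigma ≠ 1 := by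
  intro h
  have := sigma_a_one
  rw [h] at this
  exact absurd this (by decide)

/-- A group isomorphic to `Q₈` has a subgroup of automorphisms of odd order that is not of
exponent `1`. -/
theorem exists_bad_aut_of_q8 {S : Type u} [Group S] (e : S ≃* QuaternionGroup 2) :
    ∃ K : Subgroup (MulAut S), (Nat.card K).Coprime 2 ∧ ∃ h ∈ K, h ≠ 1 := by
  set τ : MulAut S := (MulAut.congr e).symm Q8.sigma with hτ
  have hτ3 : τ ^ 3 = 1 := by rw [hτ, ← map_pow, sigma_pow_three, map_one]
  have hτ1 : τ ≠ 1 := by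
    intro h
    apply sigma_ne_one
    have : (MulAut.congr e).symm Q8.sigma = (MulAut.congr e).symm 1 := by rw [← hτ, h, map_one]
    exact (MulAut.congr e).symm.injective this
  refine ⟨Subgroup.zpowers τ, ?_, τ, Subgroup.mem_zpowers τ, hτ1⟩
  rw [Nat.card_zpowers]
  have hd : orderOf τ ∣ 3 := orderOf_dvd_of_pow_eq_one hτ3
  exact Nat.Coprime.coprime_dvd_left hd (by norm_num)

end Q8

/-- The four-group `D₂` is `C₂ × C₂`. -/
theorem dihedral_two_equiv :
    Nonempty (DihedralGroup 2 ≃* Multiplicative (ZMod 2) × Multiplicative (ZMod 2)) := by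
  let f : DihedralGroup 2 → Multiplicative (ZMod 2) × Multiplicative (ZMod 2) := fun g =>
    match g with
    | DihedralGroup.r i => (Multiplicative.ofAdd i, Multiplicative.ofAdd 0)
    | DihedralGroup.sr i => (Multiplicative.ofAdd i, Multiplicative.ofAdd 1)
  have hmul : ∀ x y, f (x * y) = f x * f y := by decide
  have hbij : Function.Bijective f := by
    constructor
    · intro x y; revert x y; decide
    · intro y; revert y; decide
  exact ⟨MulEquiv.ofBijective (MonoidHom.mk' f hmul) hbij⟩

theorem dihedral_one_comm : ∀ a b : DihedralGroup 1, a * b = b * a := by decide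

theorem quaternion_one_comm : ∀ a b : QuaternionGroup 1, a * b = b * a := by decide

theorem infinite_quaternion_zero : Infinite (QuaternionGroup 0) :=
  Infinite.of_injective (fun i : ℤ => (QuaternionGroup.a i : QuaternionGroup 0)) (by
    intro i j h
    exact QuaternionGroup.a.inj h)

end Cfsg.Agent.Lib.Helper27.MetaSS
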