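import Cfsg.Agent.Lib.Helper1.MetaCoprime

/-!
`p'`-groups of automorphisms of a nonabelian metacyclic `p`-group, `p` odd, are abelian of exponent
dividing `p - 1`.
-/

set_option autoImplicit false

namespace Cfsg.Agent.Lib.Helper27.MetaSS

open Subgroup Cfsg.Agent.Lib.Helper1.MetaCoprime Cfsg.Agent.Lib.Helper1
open scoped commutatorElement

section Ambient

variable {G : Type*} [Group G] [Finite G] {p : ℕ} [hp : Fact p.Prime]

theorem mem_centralizer_of_decomp {R A K : Subgroup G}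
    (hdec : ∀ x ∈ R, ∃ k ∈ K, ∃ c ∈ R ⊓ centralizer (A : Set G), x = k * c)
    (a : G) (haA : a ∈ A) (haK : a ∈ centralizer (K : Set G)) : a ∈ centralizer (R : Set G) := by
  rw [mem_centralizer_iff]
  intro x hx
  obtain ⟨k, hk, c, hc, rfl⟩ := hdec x hx
  have h1 : k * a = a * k := (mem_centralizer_iff.mp haK) k hk
  have h2 : a * c = c * a := (mem_centralizer_iff.mp hc.2) a haA
  calc k * c * a = k * (c * a) := by group
    _ = k * (a * c) := by rw [h2]
    _ = (k * a) * c := by group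
    _ = a * k * c := by rw [h1]
    _ = a * (k * c) := by group

/-- Ambient form. -/
theorem ambient_comm_exponent (hp2 : p ≠ 2) (R A : Subgroup G) (hR : IsPGroup p R)
    (hRm : Cfsg.IsMetacyclic R) (hnab : ¬ ∀ x ∈ R, ∀ y ∈ R, x * y = y * x)
    (hA : A ≤ normalizer (R : Set G)) (hcop : (Nat.card A).Coprime p) :
    (∀ a ∈ A, ∀ b ∈ A, a * b * a⁻¹ * b⁻¹ ∈ centralizer (R : Set G)) ∧
      ∀ a ∈ A, a ^ (p - 1) ∈ centralizer (R : Set G) := by
  classical
  have hpp : p.Prime := hp.out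
  set K : Subgroup G := ⁅R, A⁆ with hKdef
  have hKR : K ≤ R := commutator_le_of_le_normalizer hA
  have hAK : A ≤ normalizer (K : Set G) := le_normalizer_commutator_right R A
  have hKp : IsPGroup p K := hR.to_le hKR
  have hKm : Cfsg.IsMetacyclic K := isMetacyclic_of_le hKR hRm
  have hKK : ⁅K, A⁆ = K := commutator_commutator_eq R A hR hA hcop
  have hKab : ∀ x ∈ K, ∀ y ∈ K, x * y = y * x :=
    commutative_of_commutator_eq hp2 K A hKp hKm hAK hcop hKK
  have hdec : ∀ x ∈ R, ∃ k ∈ K, ∃ c ∈ R ⊓ centralizer (A : Set G), x = k * c :=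
    fun x hx => exists_mul_of_coprime R A hR hA hcop x hx
  -- `C_K(A) = 1`
  have hKC : K ⊓ centralizer (A : Set G) = ⊥ := by
    have : IsMulCommutative K := ⟨⟨fun a b => Subtype.ext (hKab a a.2 b b.2)⟩⟩
    have hcop' : (Nat.card A).Coprime (Nat.card K) := by
      obtain ⟨m, hm⟩ := IsPGroup.iff_card.mp hKp
      rw [hm]; exact Nat.Coprime.pow_right m hcop
    have h := Cfsg.Agent.Lib.Helper1.centralizer_inf_commutator_eq_bot A K hAK hcop'
    rw [hKK] at h
    rw [← h]
    exact (inf_eq_left.mpr inf_le_left).symm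
  -- `K` is cyclic
  have hKcyc : IsCyclic K := by
    by_contra hKnc
    apply hnab
    have hRnc : ¬ IsCyclic R := by
      intro hc
      apply hKnc
      have : IsCyclic (K.subgroupOf R) := inferInstance
      exact isCyclic_of_surjective (subgroupOfEquivOfLe hKR).toMonoidHom
        (subgroupOfEquivOfLe hKR).surjective
    obtain ⟨E, hER, hEc, hEall, hEexp⟩ := exists_omega hp2 R hR hRm hRnc
    obtain ⟨E', hE'K, hE'c, -, hE'exp⟩ := exists_omega hp2 K hKp hKm hKnc
    have hE'E : E' ≤ E := fun x hx => hEall x (hKR (hE'K hx)) (hE'exp x hx)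
    have hEE' : E' = E := Subgroup.eq_of_le_of_card_ge hE'E (by rw [hEc, hE'c])
    have hEK : E ≤ K := hEE' ▸ hE'K
    -- the fixed points are trivial
    have hC : ∀ c ∈ R ⊓ centralizer (A : Set G), c = 1 := by
      intro c hc
      by_contra hc1
      obtain ⟨j, hj⟩ := (IsPGroup.iff_orderOf.mp hR) ⟨c, hc.1⟩
      rw [Subgroup.orderOf_mk] at hj
      have hj0 : j ≠ 0 := by
        rintro rfl
        rw [pow_zero, orderOf_eq_one_iff] at hj
        exact hc1 hj
      obtain ⟨i, rfl⟩ : ∃ i, j = i + 1 := ⟨j - 1, by omega⟩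
      have hc'p : (c ^ p ^ i) ^ p = 1 := by
        rw [← pow_mul, ← pow_succ, ← hj, pow_orderOf_eq_one]
      have hc'1 : c ^ p ^ i ≠ 1 := by
        intro h1
        have := orderOf_dvd_of_pow_eq_one h1
        rw [hj] at this
        have := Nat.le_of_dvd (Nat.pos_of_ne_zero (pow_ne_zero _ hpp.ne_zero)) this
        have h2 : p ^ i < p ^ (i + 1) := Nat.pow_lt_pow_right hpp.one_lt (Nat.lt_succ_self i)
        omega
      have hc'R : c ^ p ^ i ∈ R := R.pow_mem hc.1 _
      have hc'K : c ^ p ^ i ∈ K := hEK (hEall _ hc'R hc'p)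
      have hc'C : c ^ p ^ i ∈ centralizer (A : Set G) := Subgroup.pow_mem _ hc.2 _
      have : c ^ p ^ i ∈ K ⊓ centralizer (A : Set G) := ⟨hc'K, hc'C⟩
      rw [hKC, mem_bot] at this
      exact hc'1 this
    have hRK : ∀ x ∈ R, x ∈ K := by
      intro x hx
      obtain ⟨k, hk, c, hc, rfl⟩ := hdec x hx
      rw [hC c hc, mul_one]; exact hk
    intro x hx y hy
    exact hKab x (hRK x hx) y (hRK y hy)
  -- the action on `K`
  set ρ : ↥A →* MulAut ↥K := K.normalizerMonoidHom.comp (Subgroup.inclusion hAK) with hρ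
  have hker : ∀ a : ↥A, ρ a = 1 → (a : G) ∈ centralizer (K : Set G) := by
    intro a ha
    have h1 : Subgroup.inclusion hAK a ∈ K.normalizerMonoidHom.ker := by
      rw [MonoidHom.mem_ker]; exact ha
    rw [Subgroup.normalizerMonoidHom_ker, mem_subgroupOf] at h1
    exact h1
  have hcomm : ∀ x y : MulAut ↥K, x * y = y * x := by
    intro x y
    have e := IsCyclic.mulAutMulEquiv ↥K
    apply e.injective
    rw [map_mul, map_mul, mul_comm]
  constructor
  · intro a ha b hb
    apply mem_centralizer_of_decomp hdec _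
      (A.mul_mem (A.mul_mem (A.mul_mem ha hb) (A.inv_mem ha)) (A.inv_mem hb))
    have h1 : ρ (⟨a, ha⟩ * ⟨b, hb⟩ * ⟨a, ha⟩⁻¹ * ⟨b, hb⟩⁻¹) = 1 := by
      rw [map_mul, map_mul, map_mul, map_inv, map_inv, hcomm (ρ ⟨a, ha⟩) (ρ ⟨b, hb⟩)]
      group
    exact hker _ h1
  · intro a ha
    apply mem_centralizer_of_decomp hdec _ (A.pow_mem ha _)
    have h1 : ρ (⟨a, ha⟩ ^ (p - 1)) = 1 := by
      rw [map_pow]
      have hd1 : orderOf (ρ ⟨a, ha⟩) ∣ Nat.card A := by
        apply orderOf_dvd_of_pow_eq_one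
        rw [← map_pow, pow_card_eq_one', map_one]
      have hd2 : orderOf (ρ ⟨a, ha⟩) ∣ Nat.card (MulAut ↥K) := orderOf_dvd_natCard _
      obtain ⟨m, hm⟩ := IsPGroup.iff_card.mp hKp
      rw [IsCyclic.card_mulAut, hm] at hd2
      have hd3 : orderOf (ρ ⟨a, ha⟩) ∣ p ^ m * (p - 1) := by
        rcases Nat.eq_zero_or_pos m with rfl | hm0
        · rw [pow_zero, Nat.totient_one] at hd2
          exact dvd_trans hd2 (one_dvd _)
        · rw [Nat.totient_prime_pow hpp hm0] at hd2
          exact dvd_trans hd2 (Nat.mul_dvd_mul_right (pow_dvd_pow p (Nat.sub_le m 1)) _)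
      have hc1 : (orderOf (ρ ⟨a, ha⟩)).Coprime (p ^ m) :=
        Nat.Coprime.pow_right m (Nat.Coprime.coprime_dvd_left hd1 hcop)
      have hd4 : orderOf (ρ ⟨a, ha⟩) ∣ p - 1 := hc1.dvd_of_dvd_mul_left hd3
      exact orderOf_dvd_iff_pow_eq_one.mp hd4
    exact hker _ h1

end Ambient

end Cfsg.Agent.Lib.Helper27.MetaSS
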