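import Cfsg.Agent.Lib.Helper27.MetaSSOdd
import Mathlib.GroupTheory.SemidirectProduct

/-!
Abstract form: `p'`-subgroups of `Aut(S)`, `S` nonabelian metacyclic `p`-group, `p` odd.
-/

set_option autoImplicit false

namespace Cfsg.Agent.Lib.Helper27.MetaSS

open Subgroup

universe u

theorem comm_and_exponent_of_metacyclic_odd {S : Type u} [Group S] [Finite S] {p : ℕ}
    [Fact p.Prime] (hp2 : p ≠ 2) (hS : IsPGroup p S) (hm : Cfsg.IsMetacyclic S)
    (hnab : ¬ ∀ a b : S, a * b = b * a) (H : Subgroup (MulAut S))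
    (hH : (Nat.card H).Coprime p) :
    (∀ a ∈ H, ∀ b ∈ H, a * b = b * a) ∧ ∀ h ∈ H, h ^ (p - 1) = 1 := by
  classical
  let G := SemidirectProduct S H H.subtype
  have hfinG : Finite G := Finite.of_equiv _ SemidirectProduct.equivProd.symm
  set i : S →* G := SemidirectProduct.inl with hi
  set j : ↥H →* G := SemidirectProduct.inr with hj
  have hiinj : Function.Injective i := SemidirectProduct.inl_injective
  have hjinj : Function.Injective j := SemidirectProduct.inr_injective
  have hconj : ∀ (h : ↥H) (s : S), j h * i s * (j h)⁻¹ = i ((h : MulAut S) s) := by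
    intro h s
    have := SemidirectProduct.inl_aut (φ := H.subtype) h s
    rw [map_inv] at this
    exact this.symm
  set R : Subgroup G := i.range with hR
  set A : Subgroup G := j.range with hA
  have hRp : IsPGroup p R := hS.of_equiv (MonoidHom.ofInjective hiinj)
  have hRm : Cfsg.IsMetacyclic R :=
    Cfsg.Agent.Lib.Helper1.isMetacyclic_of_surjective (MonoidHom.ofInjective hiinj).toMonoidHom
      (MonoidHom.ofInjective hiinj).surjective hm
  have hRnab : ¬ ∀ x ∈ R, ∀ y ∈ R, x * y = y * x := by
    intro h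
    apply hnab
    intro a b
    apply hiinj
    rw [map_mul, map_mul]
    exact h _ ⟨a, rfl⟩ _ ⟨b, rfl⟩
  have hRn : R.Normal := by
    rw [hR, hi, SemidirectProduct.range_inl_eq_ker_rightHom]
    infer_instance
  have hAN : A ≤ normalizer (R : Set G) := by
    rw [normalizer_eq_top]
    exact le_top
  have hcA : Nat.card A = Nat.card H :=
    (Nat.card_congr (MonoidHom.ofInjective hjinj).toEquiv).symm
  obtain ⟨h1, h2⟩ := ambient_comm_exponent hp2 R A hRp hRm hRnab hAN (by rw [hcA]; exact hH)
  -- an element of `H` whose image centralizes `R` is trivial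
  have htriv : ∀ c : ↥H, j c ∈ centralizer (R : Set G) → c = 1 := by
    intro c hc
    apply Subtype.ext
    ext s
    apply hiinj
    rw [← hconj c s]
    have := (mem_centralizer_iff.mp hc) (i s) ⟨s, rfl⟩
    rw [← this]
    simp
  constructor
  · intro a ha b hb
    have h3 := h1 (j ⟨a, ha⟩) ⟨_, rfl⟩ (j ⟨b, hb⟩) ⟨_, rfl⟩
    rw [← map_inv, ← map_inv, ← map_mul, ← map_mul, ← map_mul] at h3
    have h4 := htriv _ h3
    have h5 : a * b * a⁻¹ * b⁻¹ = 1 := by
      have := congrArg Subtype.val h4
      simpa using this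
    calc a * b = (a * b * a⁻¹ * b⁻¹) * (b * a) := by group
      _ = b * a := by rw [h5, one_mul]
  · intro h hh
    have h3 := h2 (j ⟨h, hh⟩) ⟨_, rfl⟩
    rw [← map_pow] at h3
    have h4 := htriv _ h3
    have := congrArg Subtype.val h4
    simpa using this

end Cfsg.Agent.Lib.Helper27.MetaSS
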