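import Cfsg.Agent.Lib.Helper18.QuasiDihedral
import Cfsg.Agent.Lib.Helper19.ZPresA
import Cfsg.Agent.Lib.Helper2.QuatSylow
import Cfsg.Agent.Lib.Helper14.DihedralCrit

/-!
Two quasi-dihedral groups of the same order are isomorphic; the quotient of a generalized
quaternion group by its centre is dihedral.
-/

set_option autoImplicit false

namespace Cfsg.Agent.Lib.Helper27.MetaSS

open Cfsg Cfsg.Agent.Lib.Helper18 Cfsg.Agent.Lib.Helper2

theorem isQD_equiv_pres {S : Type*} [Group S] {m : ℕ} {x y : S} (h : IsQD S m x y) :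
    Nonempty (S ≃* PresentedGroup
      (Cfsg.Agent.Lib.Helper19.ZPres.zrels 2 (2 ^ (m + 3)) (2 ^ (m + 2) - 1))) := by
  have := h.finite
  apply Cfsg.Agent.Lib.Helper19.ZPres.nonempty_mulEquiv (x := y) (y := x) (by norm_num) (by positivity)
  · rw [pow_two]; exact h.y_mul_self
  · exact h.x_pow_card
  · have h1 := h.rel
    rw [h.y_inv] at h1
    have h2 : y⁻¹ * x * y = y * x * y := by rw [h.y_inv]
    rw [h2, h1]
  · rw [eq_top_iff]
    intro g _
    obtain ⟨i, rfl | rfl⟩ := h.cover g
    · exact Subgroup.pow_mem _ (Subgroup.subset_closure (by simp)) i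
    · exact Subgroup.mul_mem _ (Subgroup.pow_mem _ (Subgroup.subset_closure (by simp)) i)
        (Subgroup.subset_closure (by simp))
  · rw [h.card]
    apply le_of_eq
    rw [show m + 4 = (m + 3) + 1 from rfl, pow_succ]; ring

theorem nonempty_mulEquiv_of_isQD {S S' : Type*} [Group S] [Group S'] {m : ℕ} {x y : S}
    {x' y' : S'} (h : IsQD S m x y) (h' : IsQD S' m x' y') : Nonempty (S ≃* S') := by
  obtain ⟨e⟩ := isQD_equiv_pres h
  obtain ⟨e'⟩ := isQD_equiv_pres h'
  exact ⟨e.trans e'.symm⟩

/-- Two quasi-dihedral groups of the same order are isomorphic. -/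
theorem nonempty_mulEquiv_of_isQuasiDihedral {S S' : Type*} [Group S] [Group S']
    (h : Cfsg.IsQuasiDihedral S) (h' : Cfsg.IsQuasiDihedral S')
    (hcard : Nat.card S = Nat.card S') : Nonempty (S ≃* S') := by
  obtain ⟨m, x, y, hq⟩ := exists_isQD h
  obtain ⟨m', x', y', hq'⟩ := exists_isQD h'
  have hmm : m = m' := by
    have h1 := hq.card
    have h2 := hq'.card
    rw [hcard, h2] at h1
    have := Nat.pow_right_injective (le_refl 2) h1
    omega
  subst hmm
  exact nonempty_mulEquiv_of_isQD hq hq'

section quot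

variable {G : Type*} [Group G] [Finite G]

/-- The image of a generalized quaternion subgroup modulo its central involution is dihedral, and has
the same index. -/
theorem dihedral_of_quat_quotient {T : Subgroup G} {m : ℕ} {a b : G} (h : QuatData T m a b)
    (hm : 0 < m) (Z : Subgroup G) [Z.Normal] (hZ : Z = Subgroup.zpowers (a ^ m)) :
    Nonempty (↥(T.map (QuotientGroup.mk' Z)) ≃* DihedralGroup m) ∧
      (T.map (QuotientGroup.mk' Z)).index = T.index := by
  classical
  set π := QuotientGroup.mk' Z with hπ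
  have hπs : Function.Surjective π := QuotientGroup.mk'_surjective Z
  have hZT : Z ≤ T := by
    rw [hZ, Subgroup.zpowers_le]
    exact T.pow_mem h.ha m
  have hcomap : (T.map π).comap π = T := by
    rw [Subgroup.comap_map_eq, QuotientGroup.ker_mk']
    exact sup_eq_left.mpr hZT
  have hidx : (T.map π).index = T.index := by
    have := Subgroup.index_comap_of_surjective (T.map π) hπs
    rw [hcomap] at this
    exact this.symm
  refine ⟨?_, hidx⟩
  have hcardZ : Nat.card Z = 2 := by
    rw [hZ, Nat.card_zpowers, h.orderOf_pow_m hm]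
  have hcardG : Nat.card G = Nat.card (G ⧸ Z) * 2 := by
    rw [← hcardZ]; exact Subgroup.card_eq_card_quotient_mul_card_subgroup Z
  have hcardT : Nat.card ↥(T.map π) = 2 * m := by
    have h1 := (T.map π).card_mul_index
    have h2 := T.card_mul_index
    rw [hidx] at h1
    rw [h.card, hcardG, ← h1] at h2
    have hpos : 0 < T.index := Nat.pos_of_ne_zero Subgroup.index_ne_zero_of_finite
    have h3 : (4 * m) * T.index = (Nat.card ↥(T.map π) * 2) * T.index := by
      rw [h2]; ring
    have h4 := Nat.eq_of_mul_eq_mul_right hpos h3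
    omega
  have hmemZ : ∀ g : G, π g = 1 ↔ g ∈ Z := fun g => by
    rw [hπ, QuotientGroup.mk'_apply, QuotientGroup.eq_one_iff]
  have hZle : Z ≤ Subgroup.zpowers a := by
    rw [hZ, Subgroup.zpowers_le]
    exact Subgroup.pow_mem _ (Subgroup.mem_zpowers a) m
  have hZmem : ∀ g : G, g ∈ Z → g = 1 ∨ g = a ^ m := by
    intro g hg
    rw [hZ] at hg
    obtain ⟨k, rfl⟩ := Subgroup.mem_zpowers_iff.mp hg
    have h2 : (a ^ m) ^ (2 : ℤ) = 1 := by
      have h0 := pow_orderOf_eq_one (a ^ m)
      rw [h.orderOf_pow_m hm] at h0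
      exact_mod_cast h0
    rcases Int.emod_two_eq_zero_or_one k with hk | hk
    · left
      have : k = 2 * (k / 2) := by omega
      rw [this, zpow_mul, h2, one_zpow]
    · right
      have : k = 2 * (k / 2) + 1 := by omega
      rw [this, zpow_add, zpow_mul, h2, one_zpow, one_mul, zpow_one]
  have hra : π a ∈ T.map π := Subgroup.mem_map_of_mem _ h.ha
  have hsb : π b ∈ T.map π := Subgroup.mem_map_of_mem _ h.hb
  have hbb : π b * π b = 1 := by
    rw [← map_mul, h.sq, hmemZ, hZ]
    exact Subgroup.mem_zpowers _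
  apply Cfsg.Agent.Lib.Helper14.nonempty_mulEquiv_dihedral m hcardT ⟨π a, hra⟩ ⟨π b, hsb⟩
  · apply Subtype.ext
    simp only [Subgroup.coe_pow, Subgroup.coe_one]
    rw [← map_pow, hmemZ, hZ]
    exact Subgroup.mem_zpowers _
  · apply Subtype.ext
    simp only [Subgroup.coe_mul, Subgroup.coe_one]
    exact hbb
  · apply Subtype.ext
    simp only [Subgroup.coe_mul, Subgroup.coe_inv]
    have h1 : π b = (π b)⁻¹ := eq_inv_of_mul_eq_one_left hbb
    have h2 : π b * π a * π b = π b * π a * (π b)⁻¹ := by rw [← h1]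
    rw [h2, ← map_inv, ← map_mul, ← map_mul, h.conj, map_inv]
  · rw [Subgroup.orderOf_mk]
    rw [orderOf_eq_iff hm]
    constructor
    · rw [← map_pow, hmemZ, hZ]
      exact Subgroup.mem_zpowers _
    · intro j hj hj0 hj1
      rw [← map_pow, hmemZ] at hj1
      rcases hZmem _ hj1 with h3 | h3
      · have := orderOf_dvd_of_pow_eq_one h3
        rw [h.order_a] at this
        have := Nat.le_of_dvd hj0 this
        omega
      · have h4 : orderOf a ∣ m - j := by
          apply orderOf_dvd_of_pow_eq_one
          have : a ^ j * a ^ (m - j) = a ^ j * 1 := by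
            rw [← pow_add, mul_one, h3]; congr 1; omega
          exact mul_left_cancel this
        rw [h.order_a] at h4
        have := Nat.le_of_dvd (by omega) h4
        omega
  · intro hmem
    obtain ⟨k, hk⟩ := Subgroup.mem_zpowers_iff.mp hmem
    have hk' : (π a) ^ k = π b := by
      have := congrArg Subtype.val hk
      simpa using this
    have h5 : π (a ^ k * b⁻¹) = 1 := by
      rw [map_mul, map_zpow, hk', map_inv, mul_inv_cancel]
    rw [hmemZ] at h5
    have h6 := hZle h5
    apply h.not_mem
    have h7 : b = (a ^ k * b⁻¹)⁻¹ * a ^ k := by group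
    rw [h7]
    exact Subgroup.mul_mem _ (Subgroup.inv_mem _ h6) (Subgroup.zpow_mem_zpowers a k)

end quot

end Cfsg.Agent.Lib.Helper27.MetaSS
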