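import Cfsg.Agent.S1217
import Cfsg.Agent.S0261
import Cfsg.Agent.Lib.Helper27.MetaSSArith
import Cfsg.Agent.Lib.Helper27.MetaSSFrob
import Cfsg.Agent.Lib.Helper27.MetaSSQuot
import Cfsg.Agent.Lib.Helper27.MetaSSAut

/-!
Saturated fusion systems over dihedral, quasi-dihedral and generalized quaternion `2`-groups in which
the whole group is not normal: the `2`-fusion systems of `PSL₂(p)`, `GL₂(p)`, `SL₂(p)` for a suitable
prime `p ≡ 3 (mod 4)`.
-/

set_option autoImplicit false

namespace Cfsg.Agent.Lib.Helper27.MetaSS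

open Cfsg Cfsg.FusionSystem Cfsg.Agent.Lib.Helper26 Cfsg.Agent.Lib.Helper29 Matrix

universe u v

/-- A realization on a Sylow `2`-subgroup of a group without normal `2`-complement gives a saturated
system in which `S` is not normal, provided `Aut(S)` is a `2`-group. -/
theorem exists_not_normal_of_realization {Ω : Type v} [Group Ω] {S : Subgroup Ω} [Finite S]
    {G : Type u} [Group G] [Finite G] (T : Sylow 2 G) (e : S ≃* (T : Subgroup G))
    (hAut : IsPGroup 2 (MulAut S))
    (hnc : ¬ ∃ N : Subgroup G, N.Normal ∧ N.IsComplement' (T : Subgroup G)) :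
    ∃ F : FusionSystem S, F.IsSaturated 2 ∧ ¬ F.IsNormal S := by
  have h2 : Fact (Nat.Prime 2) := ⟨Nat.prime_two⟩
  set ι : S →* G := (T : Subgroup G).subtype.comp e.toMonoidHom with hι
  have hinj : Function.Injective ι := by
    intro a b hab
    exact e.injective (Subtype.ext hab)
  have hT : (T : Subgroup G) = ι.range := by
    ext g
    constructor
    · intro hg
      exact ⟨e.symm ⟨g, hg⟩, by simp [hι]⟩
    · rintro ⟨s, rfl⟩
      exact (e s).2
  refine ⟨realizedSystem ι hinj, realizedSystem_saturated 2 ι hinj T hT, fun hN => hnc ?_⟩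
  exact (frobCond_of_isNormal_realized ι hinj T hT hN hAut).exists_normal_complement T

section SLp

variable (p : ℕ) [hp : Fact p.Prime]

/-- upper transvection -/
def tS (t : ZMod p) : SpecialLinearGroup (Fin 2) (ZMod p) :=
  ⟨!![1, t; 0, 1], by simp [Matrix.det_fin_two]⟩

/-- lower transvection -/
def lS (t : ZMod p) : SpecialLinearGroup (Fin 2) (ZMod p) :=
  ⟨!![1, 0; t, 1], by simp [Matrix.det_fin_two]⟩

/-- the Weyl element -/
def jS : SpecialLinearGroup (Fin 2) (ZMod p) :=
  ⟨!![0, 1; -1, 0], by simp [Matrix.det_fin_two]⟩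

theorem tS_mul (s t : ZMod p) : tS p s * tS p t = tS p (s + t) := by
  apply Subtype.ext
  change (!![1, s; 0, 1] * !![1, t; 0, 1] : Matrix (Fin 2) (Fin 2) (ZMod p)) = !![1, s + t; 0, 1]
  ext i j
  fin_cases i <;> fin_cases j <;> simp [Matrix.mul_apply, Fin.sum_univ_two, add_comm]

theorem lS_mul (s t : ZMod p) : lS p s * lS p t = lS p (s + t) := by
  apply Subtype.ext
  change (!![1, 0; s, 1] * !![1, 0; t, 1] : Matrix (Fin 2) (Fin 2) (ZMod p)) = !![1, 0; s + t, 1]
  ext i j
  fin_cases i <;> fin_cases j <;> simp [Matrix.mul_apply, Fin.sum_univ_two, add_comm]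

theorem tS_zero : tS p 0 = 1 := by
  apply Subtype.ext
  change (!![1, 0; 0, 1] : Matrix (Fin 2) (Fin 2) (ZMod p)) = 1
  ext i j
  fin_cases i <;> fin_cases j <;> simp

theorem lS_zero : lS p 0 = 1 := by
  apply Subtype.ext
  change (!![1, 0; 0, 1] : Matrix (Fin 2) (Fin 2) (ZMod p)) = 1
  ext i j
  fin_cases i <;> fin_cases j <;> simp

theorem tS_pow (t : ZMod p) (k : ℕ) : tS p t ^ k = tS p (k * t) := by
  induction k with
  | zero => simp [tS_zero]
  | succ k ih =>
    rw [pow_succ, ih, tS_mul]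
    congr 1
    push_cast
    ring

theorem lS_pow (t : ZMod p) (k : ℕ) : lS p t ^ k = lS p (k * t) := by
  induction k with
  | zero => simp [lS_zero]
  | succ k ih =>
    rw [pow_succ, ih, lS_mul]
    congr 1
    push_cast
    ring

theorem tS_pow_p (t : ZMod p) : tS p t ^ p = 1 := by
  rw [tS_pow, ZMod.natCast_self, zero_mul, tS_zero]

theorem lS_pow_p (t : ZMod p) : lS p t ^ p = 1 := by
  rw [lS_pow, ZMod.natCast_self, zero_mul, lS_zero]

theorem tS_lS_tS : tS p 1 * lS p (-1) * tS p 1 = jS p := by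
  apply Subtype.ext
  change (!![1, 1; 0, 1] * !![1, 0; -1, 1] * !![1, 1; 0, 1] : Matrix (Fin 2) (Fin 2) (ZMod p)) =
    !![0, 1; -1, 0]
  ext i j
  fin_cases i <;> fin_cases j <;> simp [Matrix.mul_apply, Fin.sum_univ_two]

theorem jS_mul_self : jS p * jS p = -1 := by
  apply Subtype.ext
  change (!![0, 1; -1, 0] * !![0, 1; -1, 0] : Matrix (Fin 2) (Fin 2) (ZMod p)) = -1
  ext i j
  fin_cases i <;> fin_cases j <;> simp [Matrix.mul_apply, Fin.sum_univ_two]

theorem jS_pow_four : jS p ^ 2 ^ 2 = 1 := by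
  have h : jS p ^ 2 ^ 2 = (jS p * jS p) * (jS p * jS p) := by
    norm_num [pow_succ, mul_assoc]
  rw [h, jS_mul_self]
  simp

theorem jS_apply_zero : (jS p).1 0 0 = 0 := by simp [jS]

theorem jS_ne_one : jS p ≠ 1 := by
  intro h
  have := congrArg (fun M : SpecialLinearGroup (Fin 2) (ZMod p) => M.1 0 0) h
  simp [jS] at this

theorem jS_ne_neg_one : jS p ≠ -1 := by
  intro h
  have := congrArg (fun M : SpecialLinearGroup (Fin 2) (ZMod p) => M.1 0 0) h
  simp [jS] at this

/-- A finite group receiving `SL₂(p)` (`p` odd) with `j` mapped nontrivially has no normal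
`2`-complement. -/
theorem no_complement_of_hom (hp2 : p ≠ 2) {X : Type u} [Group X] [Finite X]
    (f : SpecialLinearGroup (Fin 2) (ZMod p) →* X) (hf : f (jS p) ≠ 1) (P : Sylow 2 X) :
    ¬ ∃ N : Subgroup X, N.Normal ∧ N.IsComplement' (P : Subgroup X) := by
  rintro ⟨N, hNn, hN⟩
  have hodd : Odd p := hp.out.odd_of_ne_two hp2
  apply false_of_normal_complement P N hN p hodd (f (tS p 1)) (f (lS p (-1)))
  · rw [← map_pow, tS_pow_p, map_one]
  · rw [← map_pow, lS_pow_p, map_one]
  · rw [← map_mul, ← map_mul, tS_lS_tS, ← map_pow, jS_pow_four, map_one]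
  · rw [← map_mul, ← map_mul, tS_lS_tS]
    exact hf

end SLp

end Cfsg.Agent.Lib.Helper27.MetaSS
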