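import Cfsg.Agent.Lib.Helper27.MetaSSReal

/-!
The three realizations: quasi-dihedral (`GL₂(p)`), generalized quaternion (`SL₂(p)`), dihedral
(`SL₂(p)/⟨-1⟩`).
-/

set_option autoImplicit false

namespace Cfsg.Agent.Lib.Helper27.MetaSS

open Cfsg Cfsg.FusionSystem Cfsg.Agent.Lib.Helper26 Cfsg.Agent.Lib.Helper29 Matrix

universe u v

theorem prime_data {p : ℕ} (hp : p.Prime) (hp4 : p % 4 = 3) :
    p ≠ 2 ∧ Odd p ∧ (p - 1).factorization 2 = 1 ∧ p.factorization 2 = 0 := by
  have hp2 : p ≠ 2 := by rintro rfl; omega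
  refine ⟨hp2, hp.odd_of_ne_two hp2, ?_, ?_⟩
  · exact Cfsg.Agent.Lib.Helper13.fact_two_of_mod_four_eq_two (p - 1) (by omega)
  · apply Nat.factorization_eq_zero_of_not_dvd
    omega

/-- **Quasi-dihedral**: realized inside `GL₂(p)`. -/
theorem exists_not_normal_of_isQuasiDihedral {Ω : Type v} [Group Ω] {S : Subgroup Ω} [Finite S]
    (hS : Cfsg.IsQuasiDihedral S) : ∃ F : FusionSystem S, F.IsSaturated 2 ∧ ¬ F.IsNormal S := by
  classical
  obtain ⟨n, hn3, hcard, -⟩ := id hS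
  obtain ⟨p, hp, hp4, hfac⟩ := exists_prime_fact (n - 1) (by omega)
  haveI : Fact p.Prime := ⟨hp⟩
  obtain ⟨hp2, hpodd, hfac1, -⟩ := prime_data hp hp4
  have hcF : Fintype.card (ZMod p) = p := ZMod.card p
  obtain ⟨T⟩ : Nonempty (Sylow 2 (GL (Fin 2) (ZMod p))) := inferInstance
  have hqd := (Cfsg.Agent.S1217.result T).1 (by rw [hcF]; exact hp4)
  have hcT := Cfsg.Agent.Lib.Helper13.card_sylow_two_GL2 (by rw [hcF]; exact hpodd) T
  rw [hcF, hfac1, hfac] at hcT
  obtain ⟨e⟩ := nonempty_mulEquiv_of_isQuasiDihedral hS hqd (by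
    rw [hcard, hcT]; congr 1; omega)
  refine exists_not_normal_of_realization T e (isPGroup_mulAut_of_isQuasiDihedral hS)
    (no_complement_of_hom p hp2 SpecialLinearGroup.toGL ?_ T)
  intro h
  exact jS_ne_one p (SpecialLinearGroup.toGL_injective (by rw [h, map_one]))

theorem card_sylow_SL2 {p : ℕ} [Fact p.Prime] (hp4 : p % 4 = 3) (e : ℕ)
    (hfac : (p + 1).factorization 2 = e)
    (T : Sylow 2 (SpecialLinearGroup (Fin 2) (ZMod p))) :
    Nat.card (T : Subgroup (SpecialLinearGroup (Fin 2) (ZMod p))) = 2 ^ (e + 1) := by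
  have hp : p.Prime := Fact.out
  obtain ⟨hp2, hpodd, hfac1, hfac0⟩ := prime_data hp hp4
  have hcF : Fintype.card (ZMod p) = p := ZMod.card p
  rw [Sylow.card_eq_multiplicity, Cfsg.Agent.Lib.Helper2.card_SL2, hcF]
  have h1 : p - 1 ≠ 0 := by have := hp.two_le; omega
  rw [Nat.factorization_mul (Nat.mul_ne_zero hp.ne_zero h1) (by omega),
    Nat.factorization_mul hp.ne_zero h1]
  simp only [Finsupp.coe_add, Pi.add_apply]
  rw [hfac0, hfac1, hfac]
  congr 1
  omega

theorem two_ne_zero_zmod {p : ℕ} [Fact p.Prime] (hp2 : p ≠ 2) : (2 : ZMod p) ≠ 0 := by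
  have hp : p.Prime := Fact.out
  intro h
  have h1 : ((2 : ℕ) : ZMod p) = 0 := by exact_mod_cast h
  rw [ZMod.natCast_eq_zero_iff] at h1
  have := (Nat.prime_dvd_prime_iff_eq hp Nat.prime_two).mp h1
  exact hp2 this

/-- **Generalized quaternion of order `≥ 16`**: realized inside `SL₂(p)`. -/
theorem exists_not_normal_of_quaternion {Ω : Type v} [Group Ω] {S : Subgroup Ω} [Finite S]
    (k : ℕ) (hk : 2 ≤ k) (e : S ≃* QuaternionGroup (2 ^ k)) :
    ∃ F : FusionSystem S, F.IsSaturated 2 ∧ ¬ F.IsNormal S := by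
  classical
  obtain ⟨p, hp, hp4, hfac⟩ := exists_prime_fact (k + 1) (by omega)
  haveI : Fact p.Prime := ⟨hp⟩
  obtain ⟨hp2, hpodd, hfac1, -⟩ := prime_data hp hp4
  have hcF : Fintype.card (ZMod p) = p := ZMod.card p
  obtain ⟨T⟩ : Nonempty (Sylow 2 (SpecialLinearGroup (Fin 2) (ZMod p))) := inferInstance
  obtain ⟨k', hk', ⟨e'⟩⟩ := Cfsg.Agent.S0261.result (by rw [hcF]; exact hpodd) T
  have hcT := card_sylow_SL2 hp4 (k + 1) hfac T
  have hkk : k' = k := by
    have : NeZero (2 ^ k') := ⟨by positivity⟩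
    have h1 : Nat.card (T : Subgroup (SpecialLinearGroup (Fin 2) (ZMod p))) = 4 * 2 ^ k' := by
      rw [Nat.card_congr e'.toEquiv, Nat.card_eq_fintype_card, QuaternionGroup.card]
    rw [hcT] at h1
    have h2 : (2 : ℕ) ^ (k + 1 + 1) = 2 ^ (k' + 2) := by
      rw [h1]; ring
    have := Nat.pow_right_injective (le_refl 2) h2
    omega
  subst hkk
  have hAut : IsPGroup 2 (MulAut S) :=
    (isPGroup_mulAut_quaternion hk).of_equiv (MulAut.congr e).symm
  refine exists_not_normal_of_realization T (e.trans e'.symm) hAut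
    (no_complement_of_hom p hp2 (MonoidHom.id _) (jS_ne_one p) T)

/-- **Dihedral of order `≥ 8`**: realized inside `SL₂(p)/⟨-1⟩`. -/
theorem exists_not_normal_of_dihedral {Ω : Type v} [Group Ω] {S : Subgroup Ω} [Finite S]
    (k : ℕ) (hk : 2 ≤ k) (e : S ≃* DihedralGroup (2 ^ k)) :
    ∃ F : FusionSystem S, F.IsSaturated 2 ∧ ¬ F.IsNormal S := by
  classical
  obtain ⟨p, hp, hp4, hfac⟩ := exists_prime_fact (k + 1) (by omega)
  haveI : Fact p.Prime := ⟨hp⟩
  obtain ⟨hp2, hpodd, hfac1, -⟩ := prime_data hp hp4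
  have hcF : Fintype.card (ZMod p) = p := ZMod.card p
  obtain ⟨T⟩ : Nonempty (Sylow 2 (SpecialLinearGroup (Fin 2) (ZMod p))) := inferInstance
  obtain ⟨k', hk', ⟨e'⟩⟩ := Cfsg.Agent.S0261.result (by rw [hcF]; exact hpodd) T
  have hcT := card_sylow_SL2 hp4 (k + 1) hfac T
  have hkk : k' = k := by
    have : NeZero (2 ^ k') := ⟨by positivity⟩
    have h1 : Nat.card (T : Subgroup (SpecialLinearGroup (Fin 2) (ZMod p))) = 4 * 2 ^ k' := by
      rw [Nat.card_congr e'.toEquiv, Nat.card_eq_fintype_card, QuaternionGroup.card]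
    rw [hcT] at h1
    have h2 : (2 : ℕ) ^ (k + 1 + 1) = 2 ^ (k' + 2) := by
      rw [h1]; ring
    have := Nat.pow_right_injective (le_refl 2) h2
    omega
  subst hkk
  have hne : NeZero (2 ^ k') := ⟨by positivity⟩
  have hm : 0 < 2 ^ k' := by positivity
  obtain ⟨a, b, hq⟩ := Cfsg.Agent.Lib.Helper2.exists_quatData e'
  -- the involution is `-1`
  have h20 := two_ne_zero_zmod (p := p) hp2
  have ham : a ^ 2 ^ k' = -1 := by
    apply Cfsg.Agent.Lib.Helper2.sl2_eq_neg_one_of_mul_self h20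
    · have := pow_orderOf_eq_one (a ^ 2 ^ k')
      rw [hq.orderOf_pow_m hm, pow_two] at this
      exact this
    · exact hq.pow_m_ne_one hm
  -- the central subgroup `Z = ⟨-1⟩`
  set Z : Subgroup (SpecialLinearGroup (Fin 2) (ZMod p)) := Subgroup.zpowers (-1) with hZ
  have hZn : Z.Normal := by
    constructor
    intro x hx g
    obtain ⟨j, rfl⟩ := Subgroup.mem_zpowers_iff.mp hx
    have hc : g * (-1 : SpecialLinearGroup (Fin 2) (ZMod p)) = -1 * g := by
      rw [mul_neg, neg_mul, mul_one, one_mul]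
    have hcj : g * (-1 : SpecialLinearGroup (Fin 2) (ZMod p)) ^ j = (-1) ^ j * g :=
      (Commute.zpow_right (show Commute g (-1) from hc) j).eq
    rw [hcj, mul_inv_cancel_right]
    exact Subgroup.zpow_mem_zpowers _ _
  obtain ⟨⟨eD⟩, hidx⟩ := dihedral_of_quat_quotient hq hm Z (by rw [hZ, ham])
  -- the image is a Sylow subgroup
  have hTbar : IsPGroup 2 ↥((T : Subgroup (SpecialLinearGroup (Fin 2) (ZMod p))).map
      (QuotientGroup.mk' Z)) := T.2.map _
  have hnd : ¬ 2 ∣ ((T : Subgroup (SpecialLinearGroup (Fin 2) (ZMod p))).map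
      (QuotientGroup.mk' Z)).index := by
    rw [hidx]; exact T.not_dvd_index
  set P : Sylow 2 (SpecialLinearGroup (Fin 2) (ZMod p) ⧸ Z) := hTbar.toSylow hnd with hP
  have hPc : (P : Subgroup (SpecialLinearGroup (Fin 2) (ZMod p) ⧸ Z)) =
      (T : Subgroup (SpecialLinearGroup (Fin 2) (ZMod p))).map (QuotientGroup.mk' Z) := rfl
  have hAut : IsPGroup 2 (MulAut S) :=
    (isPGroup_mulAut_dihedral hk).of_equiv (MulAut.congr e).symm
  refine exists_not_normal_of_realization P (e.trans eD.symm) hAut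
    (no_complement_of_hom p hp2 (QuotientGroup.mk' Z) ?_ P)
  intro h
  rw [QuotientGroup.mk'_apply, QuotientGroup.eq_one_iff] at h
  obtain ⟨j, hj⟩ := Subgroup.mem_zpowers_iff.mp h
  rcases Int.emod_two_eq_zero_or_one j with hj2 | hj2
  · have : j = 2 * (j / 2) := by omega
    rw [this, _root_.zpow_mul] at hj
    have h1 : (-1 : SpecialLinearGroup (Fin 2) (ZMod p)) ^ (2 : ℤ) = 1 := by
      have : (-1 : SpecialLinearGroup (Fin 2) (ZMod p)) ^ (2 : ℕ) = 1 := by
        rw [pow_two, neg_mul, mul_neg, mul_one, neg_neg]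
      exact_mod_cast this
    rw [h1, _root_.one_zpow] at hj
    exact jS_ne_one p hj.symm
  · have : j = 2 * (j / 2) + 1 := by omega
    rw [this, _root_.zpow_add, _root_.zpow_mul] at hj
    have h1 : (-1 : SpecialLinearGroup (Fin 2) (ZMod p)) ^ (2 : ℤ) = 1 := by
      have : (-1 : SpecialLinearGroup (Fin 2) (ZMod p)) ^ (2 : ℕ) = 1 := by
        rw [pow_two, neg_mul, mul_neg, mul_one, neg_neg]
      exact_mod_cast this
    rw [h1, _root_.one_zpow, one_mul, _root_.zpow_one] at hj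
    exact jS_ne_neg_one p hj.symm

end Cfsg.Agent.Lib.Helper27.MetaSS
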