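/-
helper27: minimal permutation degree of `PSL_n(q)` (S2140), part C:
abstract counting (Burnside + double counting), the arithmetic of the key lemma,
and the embedding `SL κ F →* SL ι F`, `M ↦ 1 + P (M - 1) Q` (`Q P = 1`).
-/
import Cfsg.Agent.Lib.Helper27.MinDegB

set_option autoImplicit false

namespace Cfsg.Agent.Lib.Helper27.MinDeg

open Matrix

/-! ### abstract counting -/

section counting

variable {A Ω : Type*} [Group A] [MulAction A Ω] [Finite A] [Finite Ω]

/-- double counting of the pairs `(a, ω)` with `a • ω = ω`. -/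
noncomputable def sigmaFixedEquivSigmaStab :
    (Σ a : A, MulAction.fixedBy Ω a) ≃ (Σ ω : Ω, MulAction.stabilizer A ω) where
  toFun x := ⟨x.2.1, ⟨x.1, x.2.2⟩⟩
  invFun y := ⟨y.2.1, ⟨y.1, y.2.2⟩⟩
  left_inv _ := rfl
  right_inv _ := rfl

theorem abs_key (φ d : ℕ) (hφ : ∀ a : A, a ≠ 1 → Nat.card (MulAction.fixedBy Ω a) = φ)
    (hd : ∀ ω : Ω, Nat.card (MulAction.stabilizer A ω) = d) :
    Nat.card Ω + (Nat.card A - 1) * φ =
        Nat.card (MulAction.orbitRel.Quotient A Ω) * Nat.card A ∧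
      Nat.card Ω + (Nat.card A - 1) * φ = Nat.card Ω * d := by
  classical
  have : Fintype A := Fintype.ofFinite A
  have : Fintype Ω := Fintype.ofFinite Ω
  have hsum : ∑ a : A, Fintype.card (MulAction.fixedBy Ω a) =
      Nat.card Ω + (Nat.card A - 1) * φ := by
    rw [← Finset.add_sum_erase Finset.univ _ (Finset.mem_univ (1 : A))]
    congr 1
    · rw [Nat.card_eq_fintype_card]
      apply Fintype.card_congr
      exact Equiv.subtypeUnivEquiv (fun ω => by simp)
    · have h1 : ∀ a ∈ (Finset.univ : Finset A).erase 1,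
          Fintype.card (MulAction.fixedBy Ω a) = φ := by
        intro a ha
        rw [← Nat.card_eq_fintype_card]
        exact hφ a (Finset.ne_of_mem_erase ha)
      rw [Finset.sum_congr rfl h1, Finset.sum_const, Finset.card_erase_of_mem (Finset.mem_univ _),
        Finset.card_univ, Nat.card_eq_fintype_card, smul_eq_mul]
  constructor
  · rw [← hsum, MulAction.sum_card_fixedBy_eq_card_orbits_mul_card_group,
      Nat.card_eq_fintype_card, Nat.card_eq_fintype_card]
  · have h2 : ∀ ω ∈ (Finset.univ : Finset Ω), Fintype.card (MulAction.stabilizer A ω) = d := by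
      intro ω _
      rw [← Nat.card_eq_fintype_card]
      exact hd ω
    rw [← hsum, ← Fintype.card_sigma, Fintype.card_congr sigmaFixedEquivSigmaStab,
      Fintype.card_sigma, Finset.sum_congr rfl h2, Finset.sum_const, Finset.card_univ,
      Nat.card_eq_fintype_card, smul_eq_mul]

end counting

/-! ### arithmetic of the key lemma -/

theorem key_arith {N m φ c d : ℕ} (h1 : N + (m - 1) * φ = c * m) (h2 : N + (m - 1) * φ = N * d)
    (hφ : φ < N) (hN : N < 2 * m) (hm : 1 < m) :
    N = m + φ ∧ c = φ + 1 ∧ N * d = (φ + 1) * m := by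
  obtain ⟨m', rfl⟩ : ∃ m', m = m' + 1 := ⟨m - 1, by omega⟩
  simp only [Nat.add_sub_cancel] at h1 h2
  have hc : c = φ + 1 := by
    by_contra hne
    rcases Nat.lt_or_gt_of_ne hne with h | h
    · have : c ≤ φ := by omega
      have : c * (m' + 1) ≤ φ * (m' + 1) := Nat.mul_le_mul_right _ this
      nlinarith
    · have : φ + 2 ≤ c := by omega
      have : (φ + 2) * (m' + 1) ≤ c * (m' + 1) := Nat.mul_le_mul_right _ this
      nlinarith
  subst hc
  refine ⟨by nlinarith, rfl, ?_⟩
  rw [← h2, h1]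

/-- in the key lemma, with `m = y * d`. -/
theorem key_arith2 {N m φ d y : ℕ} (hN : N = m + φ) (h3 : N * d = (φ + 1) * m) (hm : m = y * d)
    (hd : 0 < d) (hm1 : 1 < m) : N = (φ + 1) * y ∧ (φ + 1) * (y - 1) = m - 1 := by
  have h4 : N = (φ + 1) * y := by
    subst hm
    have : N * d = ((φ + 1) * y) * d := by rw [h3]; ring
    exact Nat.eq_of_mul_eq_mul_right hd this
  refine ⟨h4, ?_⟩
  have hy : 0 < y := by
    rcases Nat.eq_zero_or_pos y with rfl | h
    · simp at hm; omega
    · exact h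
  obtain ⟨y', rfl⟩ : ∃ y', y = y' + 1 := ⟨y - 1, by omega⟩
  simp only [Nat.add_sub_cancel]
  have : (φ + 1) * (y' + 1) = m + φ := by rw [← h4, hN]
  have : (φ + 1) * y' + (φ + 1) = m + φ := by rw [← this]; ring
  omega

/-! ### the embedding `M ↦ 1 + P (M - 1) Q` -/

section emb

variable {ι : Type*} [Fintype ι] [DecidableEq ι] {κ : Type*} [Fintype κ] [DecidableEq κ]
  {F : Type*} [Field F]

variable (P : Matrix ι κ F) (Q : Matrix κ ι F)

/-- `M ↦ 1 + P (M - 1) Q`. -/
def embMat (M : Matrix κ κ F) : Matrix ι ι F := 1 + P * (M - 1) * Q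

theorem embMat_one : embMat P Q 1 = 1 := by
  unfold embMat
  rw [sub_self, Matrix.mul_zero, Matrix.zero_mul, add_zero]

theorem embMat_mul (hQP : Q * P = 1) (M N : Matrix κ κ F) :
    embMat P Q M * embMat P Q N = embMat P Q (M * N) := by
  unfold embMat
  have h1 : P * (M - 1) * Q * (P * (N - 1) * Q) = P * ((M - 1) * (N - 1)) * Q := by
    calc P * (M - 1) * Q * (P * (N - 1) * Q)
        = P * (M - 1) * (Q * P) * (N - 1) * Q := by simp only [Matrix.mul_assoc]
      _ = P * ((M - 1) * (N - 1)) * Q := by rw [hQP, Matrix.mul_one]; simp only [Matrix.mul_assoc]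
  rw [add_mul, mul_add, mul_add, one_mul, mul_one, one_mul, h1]
  have h2 : M * N - 1 = (M - 1) + (N - 1) + (M - 1) * (N - 1) := by noncomm_ring
  rw [h2, Matrix.mul_add, Matrix.mul_add, Matrix.add_mul, Matrix.add_mul]
  abel

theorem embMat_det (hQP : Q * P = 1) (M : Matrix κ κ F) : (embMat P Q M).det = M.det := by
  unfold embMat
  rw [Matrix.mul_assoc, det_one_add_mul_comm, Matrix.mul_assoc, hQP, Matrix.mul_one,
    add_sub_cancel]

/-- the embedding of `SL κ F` into `SL ι F`. -/
def embSL (hQP : Q * P = 1) : Matrix.SpecialLinearGroup κ F →* Matrix.SpecialLinearGroup ι F where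
  toFun g := ⟨embMat P Q (g : Matrix κ κ F), by rw [embMat_det P Q hQP]; exact g.2⟩
  map_one' := by
    apply sl_ext
    show embMat P Q ((1 : Matrix.SpecialLinearGroup κ F) : Matrix κ κ F) = _
    rw [Matrix.SpecialLinearGroup.coe_one, embMat_one, Matrix.SpecialLinearGroup.coe_one]
  map_mul' g h := by
    apply sl_ext
    show embMat P Q ((g * h : Matrix.SpecialLinearGroup κ F) : Matrix κ κ F) =
      embMat P Q (g : Matrix κ κ F) * embMat P Q (h : Matrix κ κ F)
    rw [Matrix.SpecialLinearGroup.coe_mul, embMat_mul P Q hQP]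

theorem embSL_coe (hQP : Q * P = 1) (g : Matrix.SpecialLinearGroup κ F) :
    ((embSL P Q hQP g : Matrix.SpecialLinearGroup ι F) : Matrix ι ι F) =
      1 + P * ((g : Matrix κ κ F) - 1) * Q := rfl

theorem embSL_mulVec (hQP : Q * P = 1) (g : Matrix.SpecialLinearGroup κ F) (x : κ → F) :
    ((embSL P Q hQP g : Matrix.SpecialLinearGroup ι F) : Matrix ι ι F) *ᵥ (P *ᵥ x) =
      P *ᵥ ((g : Matrix κ κ F) *ᵥ x) := by
  have h1 : Q *ᵥ (P *ᵥ x) = x := by rw [mulVec_mulVec, hQP, one_mulVec]
  rw [embSL_coe, add_mulVec, one_mulVec, ← mulVec_mulVec, h1, ← mulVec_mulVec, sub_mulVec,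
    one_mulVec, mulVec_sub]
  abel

theorem vecMul_embSL (hQP : Q * P = 1) (g : Matrix.SpecialLinearGroup κ F) (φ : ι → F)
    (hφ : φ ᵥ* P = 0) :
    φ ᵥ* ((embSL P Q hQP g : Matrix.SpecialLinearGroup ι F) : Matrix ι ι F) = φ := by
  rw [embSL_coe, vecMul_add, vecMul_one, ← vecMul_vecMul, ← vecMul_vecMul, hφ, zero_vecMul,
    zero_vecMul, add_zero]

end emb

end Cfsg.Agent.Lib.Helper27.MinDeg
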