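/-
helper27: minimal permutation degree of `PSL_n(q)` (S2140), part D:
the transvection groups `Q f`, the stabilizer sets `Dset ω f`, transport under conjugation,
the dual action on points and the applications of Block's lemma.
-/
import Cfsg.Agent.Lib.Helper27.MinDegC

set_option autoImplicit false

namespace Cfsg.Agent.Lib.Helper27.MinDeg

open Matrix
open scoped LinearAlgebra.Projectivization

variable {ι : Type*} [Fintype ι] [DecidableEq ι] {F : Type*} [Field F]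

/-- the group of transvections with axis `f = 0`. -/
def Q (f : ι → F) : Subgroup (Matrix.SpecialLinearGroup ι F) where
  carrier := {g | ∃ v : ι → F, f ⬝ᵥ v = 0 ∧ g = T v f}
  one_mem' := ⟨0, dotProduct_zero f, (T_zero_left f).symm⟩
  mul_mem' := by
    rintro _ _ ⟨v, hv, rfl⟩ ⟨w, hw, rfl⟩
    exact ⟨v + w, by rw [dotProduct_add, hv, hw, add_zero], (T_add hv hw).symm⟩
  inv_mem' := by
    rintro _ ⟨v, hv, rfl⟩
    exact ⟨-v, by rw [dotProduct_neg, hv, neg_zero], (T_neg hv).symm⟩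

theorem mem_Q {f : ι → F} {g : Matrix.SpecialLinearGroup ι F} :
    g ∈ Q f ↔ ∃ v : ι → F, f ⬝ᵥ v = 0 ∧ g = T v f := Iff.rfl

theorem T_mem_Q {v f : ι → F} (hv : f ⬝ᵥ v = 0) : T v f ∈ Q f := ⟨v, hv, rfl⟩

/-- the hyperplane is in bijection with `Q f`. -/
noncomputable def kerEquivQ {f : ι → F} (hf : f ≠ 0) : {v : ι → F // f ⬝ᵥ v = 0} ≃ Q f :=
  Equiv.ofBijective (fun v => (⟨T v.1 f, T_mem_Q v.2⟩ : Q f))
    ⟨fun v w e => Subtype.ext (T_injective v.2 w.2 hf (congrArg Subtype.val e)),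
     fun g => by
      obtain ⟨v, hv, e⟩ := g.2
      exact ⟨⟨v, hv⟩, Subtype.ext e.symm⟩⟩

theorem natCard_Q [Finite F] {f : ι → F} (hf : f ≠ 0) :
    Nat.card (Q f) = Nat.card F ^ (Fintype.card ι - 1) := by
  rw [← Nat.card_congr (kerEquivQ hf), natCard_ker hf]

theorem isPGroup_Q (p : ℕ) [CharP F p] (f : ι → F) : IsPGroup p (Q f) := by
  rintro ⟨g, v, hv, rfl⟩
  refine ⟨1, ?_⟩
  apply Subtype.ext
  rw [pow_one]
  show T v f ^ p = 1
  exact T_pow_char p hv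

section act

variable {Ω : Type*} [MulAction (Matrix.SpecialLinearGroup ι F) Ω]

/-- the vectors `v` of the hyperplane such that `T v f` fixes `ω`. -/
def Dset (ω : Ω) (f : ι → F) : Set (ι → F) := {v | f ⬝ᵥ v = 0 ∧ T v f • ω = ω}

theorem mem_Dset {ω : Ω} {f v : ι → F} : v ∈ Dset ω f ↔ f ⬝ᵥ v = 0 ∧ T v f • ω = ω := Iff.rfl

theorem zero_mem_Dset (ω : Ω) (f : ι → F) : (0 : ι → F) ∈ Dset ω f :=
  ⟨dotProduct_zero f, by rw [T_zero_left, one_smul]⟩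

theorem add_mem_Dset {ω : Ω} {f v w : ι → F} (hv : v ∈ Dset ω f) (hw : w ∈ Dset ω f) :
    v + w ∈ Dset ω f :=
  ⟨by rw [dotProduct_add, hv.1, hw.1, add_zero], by rw [T_add hv.1 hw.1, mul_smul, hw.2, hv.2]⟩

theorem neg_mem_Dset {ω : Ω} {f v : ι → F} (hv : v ∈ Dset ω f) : -v ∈ Dset ω f :=
  ⟨by rw [dotProduct_neg, hv.1, neg_zero], by rw [T_neg hv.1, inv_smul_eq_iff, hv.2]⟩

theorem sub_mem_Dset {ω : Ω} {f v w : ι → F} (hv : v ∈ Dset ω f) (hw : w ∈ Dset ω f) :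
    v - w ∈ Dset ω f := by
  rw [sub_eq_add_neg]; exact add_mem_Dset hv (neg_mem_Dset hw)

theorem mem_Dset_smul_iff {ω : Ω} {f v : ι → F} {c : F} :
    v ∈ Dset ω (c • f) ↔ c • v ∈ Dset ω f := by
  rw [mem_Dset, mem_Dset, T_smul, smul_dotProduct, dotProduct_smul]

/-- transport of `Dset` under the group. -/
theorem mem_Dset_conj_iff {ω : Ω} {f v : ι → F} (g : Matrix.SpecialLinearGroup ι F) :
    (g : Matrix ι ι F) *ᵥ v ∈
        Dset (g • ω) (f ᵥ* ((g⁻¹ : Matrix.SpecialLinearGroup ι F) : Matrix ι ι F)) ↔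
      v ∈ Dset ω f := by
  rw [mem_Dset, mem_Dset, conj_dot, ← conj_T, mul_smul, mul_smul, inv_smul_smul, smul_left_cancel_iff]

theorem mulVec_inv_mulVec (g : Matrix.SpecialLinearGroup ι F) (v : ι → F) :
    (g : Matrix ι ι F) *ᵥ (((g⁻¹ : Matrix.SpecialLinearGroup ι F) : Matrix ι ι F) *ᵥ v) = v := by
  rw [mulVec_mulVec, coe_mul_coe_inv, one_mulVec]

theorem inv_mulVec_mulVec (g : Matrix.SpecialLinearGroup ι F) (v : ι → F) :
    ((g⁻¹ : Matrix.SpecialLinearGroup ι F) : Matrix ι ι F) *ᵥ ((g : Matrix ι ι F) *ᵥ v) = v := by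
  rw [mulVec_mulVec, coe_inv_mul_coe, one_mulVec]

theorem mem_Dset_conj_iff' {ω : Ω} {f w : ι → F} (g : Matrix.SpecialLinearGroup ι F) :
    w ∈ Dset (g • ω) (f ᵥ* ((g⁻¹ : Matrix.SpecialLinearGroup ι F) : Matrix ι ι F)) ↔
      ((g⁻¹ : Matrix.SpecialLinearGroup ι F) : Matrix ι ι F) *ᵥ w ∈ Dset ω f := by
  have h := mem_Dset_conj_iff (ω := ω) (f := f)
    (v := ((g⁻¹ : Matrix.SpecialLinearGroup ι F) : Matrix ι ι F) *ᵥ w) g
  rw [mulVec_inv_mulVec] at h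
  exact h

/-- `Q f` is abelian, so `Dset` is constant on `Q f`-orbits. -/
theorem Dset_T_smul {ω : Ω} {f w : ι → F} (hw : f ⬝ᵥ w = 0) :
    Dset (T w f • ω) f = Dset ω f := by
  ext v
  rw [mem_Dset, mem_Dset]
  constructor
  · rintro ⟨hv, e⟩
    refine ⟨hv, ?_⟩
    rw [← mul_smul, T_comm hv hw, mul_smul] at e
    exact smul_left_cancel _ e
  · rintro ⟨hv, e⟩
    refine ⟨hv, ?_⟩
    rw [← mul_smul, T_comm hv hw, mul_smul, e]

theorem natCard_Dset_conj [Finite F] (ω : Ω) (f : ι → F) (g : Matrix.SpecialLinearGroup ι F) :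
    Nat.card (Dset (g • ω) (f ᵥ* ((g⁻¹ : Matrix.SpecialLinearGroup ι F) : Matrix ι ι F))) =
      Nat.card (Dset ω f) := by
  symm
  refine Nat.card_congr (Equiv.ofBijective
    (fun v : Dset ω f => (⟨(g : Matrix ι ι F) *ᵥ v.1, (mem_Dset_conj_iff g).2 v.2⟩ :
      Dset (g • ω) (f ᵥ* ((g⁻¹ : Matrix.SpecialLinearGroup ι F) : Matrix ι ι F)))) ⟨?_, ?_⟩)
  · rintro ⟨v, hv⟩ ⟨w, hw⟩ e
    have e1 : (g : Matrix ι ι F) *ᵥ v = (g : Matrix ι ι F) *ᵥ w := Subtype.mk.inj e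
    apply Subtype.ext
    show v = w
    rw [← inv_mulVec_mulVec g v, e1, inv_mulVec_mulVec]
  · rintro ⟨w, hw⟩
    refine ⟨⟨((g⁻¹ : Matrix.SpecialLinearGroup ι F) : Matrix ι ι F) *ᵥ w,
      (mem_Dset_conj_iff' g).1 hw⟩, ?_⟩
    apply Subtype.ext
    exact mulVec_inv_mulVec g w

theorem natCard_Dset_smul [Finite F] (ω : Ω) (f : ι → F) {c : F} (hc : c ≠ 0) :
    Nat.card (Dset ω (c • f)) = Nat.card (Dset ω f) := by
  refine Nat.card_congr (Equiv.ofBijective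
    (fun v : Dset ω (c • f) => (⟨c • v.1, mem_Dset_smul_iff.1 v.2⟩ : Dset ω f)) ⟨?_, ?_⟩)
  · rintro ⟨v, hv⟩ ⟨w, hw⟩ e
    have e1 : c • v = c • w := Subtype.mk.inj e
    apply Subtype.ext
    exact smul_right_injective _ hc e1
  · rintro ⟨w, hw⟩
    refine ⟨⟨c⁻¹ • w, mem_Dset_smul_iff.2 ?_⟩, ?_⟩
    · rw [smul_smul, mul_inv_cancel₀ hc, one_smul]; exact hw
    · apply Subtype.ext
      show c • c⁻¹ • w = w
      rw [smul_smul, mul_inv_cancel₀ hc, one_smul]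

/-- the stabilizer of `ω` in `Q f` is `Dset ω f`. -/
noncomputable def stabEquivDset {f : ι → F} (hf : f ≠ 0) (ω : Ω) :
    MulAction.stabilizer (Q f) ω ≃ Dset ω f :=
  Equiv.symm <| Equiv.ofBijective
    (fun v : Dset ω f => (⟨⟨T v.1 f, T_mem_Q v.2.1⟩, by
      rw [MulAction.mem_stabilizer_iff]; exact v.2.2⟩ : MulAction.stabilizer (Q f) ω))
    ⟨fun v w e => by
      have e0 : (⟨T v.1 f, T_mem_Q v.2.1⟩ : Q f) = ⟨T w.1 f, T_mem_Q w.2.1⟩ :=
        congrArg Subtype.val e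
      have e1 : T v.1 f = T w.1 f := congrArg Subtype.val e0
      exact Subtype.ext (T_injective v.2.1 w.2.1 hf e1),
     fun g => by
      obtain ⟨⟨g, v, hv, rfl⟩, hg⟩ := g
      rw [MulAction.mem_stabilizer_iff] at hg
      exact ⟨⟨v, hv, hg⟩, rfl⟩⟩

theorem natCard_fixedBy_conj [Finite Ω] (g x : Matrix.SpecialLinearGroup ι F) :
    Nat.card (MulAction.fixedBy Ω (g * x * g⁻¹)) = Nat.card (MulAction.fixedBy Ω x) := by
  symm
  refine Nat.card_congr (Equiv.ofBijective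
    (fun ω : MulAction.fixedBy Ω x => (⟨g • ω.1, by
      rw [MulAction.mem_fixedBy, mul_smul, mul_smul, inv_smul_smul]
      exact congrArg (g • ·) ω.2⟩ : MulAction.fixedBy Ω (g * x * g⁻¹))) ⟨?_, ?_⟩)
  · rintro ⟨a, ha⟩ ⟨b, hb⟩ e
    apply Subtype.ext
    exact smul_left_cancel g (Subtype.mk.inj e)
  · rintro ⟨b, hb⟩
    refine ⟨⟨g⁻¹ • b, ?_⟩, ?_⟩
    · rw [MulAction.mem_fixedBy] at hb ⊢
      rw [mul_smul, mul_smul] at hb
      rw [eq_inv_smul_iff]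
      exact hb
    · apply Subtype.ext
      exact smul_inv_smul g b

end act

end Cfsg.Agent.Lib.Helper27.MinDeg
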