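/-
helper27: minimal permutation degree of `PSL_n(q)` (S2140), part E:
the dual action on points and the two applications of Block's lemma.
-/
import Cfsg.Agent.Lib.Helper27.MinDegD
import Cfsg.Agent.Lib.Helper7.MinDegblock

set_option autoImplicit false

namespace Cfsg.Agent.Lib.Helper27.MinDeg

open Matrix
open scoped LinearAlgebra.Projectivization

variable {ι : Type*} [Fintype ι] [DecidableEq ι] {F : Type*} [Field F]

theorem coe_transpose' (g : Matrix.SpecialLinearGroup ι F) :
    ((g.transpose : Matrix.SpecialLinearGroup ι F) : Matrix ι ι F) = (g : Matrix ι ι F)ᵀ := rfl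

theorem transpose_mul' (g h : Matrix.SpecialLinearGroup ι F) :
    (g * h).transpose = h.transpose * g.transpose := by
  apply sl_ext
  rw [coe_transpose', Matrix.SpecialLinearGroup.coe_mul, Matrix.SpecialLinearGroup.coe_mul,
    coe_transpose', coe_transpose', Matrix.transpose_mul]

theorem transpose_one' : (1 : Matrix.SpecialLinearGroup ι F).transpose = 1 := by
  apply sl_ext
  rw [coe_transpose', Matrix.SpecialLinearGroup.coe_one, Matrix.transpose_one]

theorem transpose_inv' (g : Matrix.SpecialLinearGroup ι F) :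
    (g⁻¹).transpose = (g.transpose)⁻¹ := by
  rw [eq_inv_iff_mul_eq_one, ← transpose_mul', mul_inv_cancel, transpose_one']

theorem transpose_transpose' (g : Matrix.SpecialLinearGroup ι F) :
    g.transpose.transpose = g := by
  apply sl_ext
  rw [coe_transpose', coe_transpose', Matrix.transpose_transpose]

/-- the inverse transpose automorphism. -/
def tau : Matrix.SpecialLinearGroup ι F →* Matrix.SpecialLinearGroup ι F where
  toFun g := (g⁻¹).transpose
  map_one' := by rw [inv_one, transpose_one']
  map_mul' g h := by rw [_root_.mul_inv_rev, transpose_mul']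

theorem tau_apply (g : Matrix.SpecialLinearGroup ι F) : tau g = (g⁻¹).transpose := rfl

theorem tau_tau (g : Matrix.SpecialLinearGroup ι F) : tau (tau g) = g := by
  rw [tau_apply, tau_apply, transpose_inv' (g⁻¹).transpose, transpose_transpose', inv_inv]

theorem tau_mulVec (g : Matrix.SpecialLinearGroup ι F) (f : ι → F) :
    ((tau g : Matrix.SpecialLinearGroup ι F) : Matrix ι ι F) *ᵥ f =
      f ᵥ* ((g⁻¹ : Matrix.SpecialLinearGroup ι F) : Matrix ι ι F) := by
  rw [tau_apply, coe_transpose', mulVec_transpose]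

variable (ι F) in
/-- points of the dual space, with the contragredient action. -/
def DualPt : Type _ := ℙ F (ι → F)

noncomputable instance : MulAction (Matrix.SpecialLinearGroup ι F) (DualPt ι F) :=
  MulAction.compHom (ℙ F (ι → F)) (tau : Matrix.SpecialLinearGroup ι F →* _)

instance [Finite F] : Finite (DualPt ι F) := by
  unfold DualPt; infer_instance

theorem dual_smul_def (g : Matrix.SpecialLinearGroup ι F) (x : DualPt ι F) :
    g • x = ((tau g • (show ℙ F (ι → F) from x) : ℙ F (ι → F)) : DualPt ι F) := rfl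

theorem dual_two_trans (a b c d : DualPt ι F) (hab : a ≠ b) (hcd : c ≠ d) :
    ∃ k : Matrix.SpecialLinearGroup ι F, k • a = c ∧ k • b = d := by
  have h2 : MulAction.IsMultiplyPretransitive (Matrix.SpecialLinearGroup ι F) (ℙ F (ι → F)) 2 :=
    inferInstance
  rw [MulAction.is_two_pretransitive_iff] at h2
  obtain ⟨g, h1, h2⟩ := h2 (a := (show ℙ F (ι → F) from a)) (b := (show ℙ F (ι → F) from b))
    (c := (show ℙ F (ι → F) from c)) (d := (show ℙ F (ι → F) from d)) hab hcd
  refine ⟨tau g, ?_, ?_⟩
  · rw [dual_smul_def, tau_tau]; exact h1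
  · rw [dual_smul_def, tau_tau]; exact h2

theorem pt_two_trans (a b c d : ℙ F (ι → F)) (hab : a ≠ b) (hcd : c ≠ d) :
    ∃ k : Matrix.SpecialLinearGroup ι F, k • a = c ∧ k • b = d := by
  have h2 : MulAction.IsMultiplyPretransitive (Matrix.SpecialLinearGroup ι F) (ℙ F (ι → F)) 2 :=
    inferInstance
  rw [MulAction.is_two_pretransitive_iff] at h2
  exact h2 hab hcd

section act

variable {Ω : Type*} [MulAction (Matrix.SpecialLinearGroup ι F) Ω]
  [MulAction.IsPretransitive (Matrix.SpecialLinearGroup ι F) Ω] [Finite F] [Finite Ω]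

/-- **Block, dual form**: hyperplane stabilizers are transitive on `Ω`. -/
theorem exists_smul_dual (hlt : Nat.card Ω < Nat.card (ℙ F (ι → F))) {f f' : ι → F} (hf : f ≠ 0)
    (hf' : f' ≠ 0) (ω ω' : Ω) :
    ∃ (k : Matrix.SpecialLinearGroup ι F) (c : F), c ≠ 0 ∧
      f ᵥ* ((k⁻¹ : Matrix.SpecialLinearGroup ι F) : Matrix ι ι F) = c • f' ∧ k • ω = ω' := by
  obtain ⟨k, h1, h2⟩ := Cfsg.Agent.Lib.Helper7.MinDegLeaf.block (K := Matrix.SpecialLinearGroup ι F) (X := DualPt ι F)
    (Y := Ω) dual_two_trans (fun y y' => MulAction.exists_smul_eq _ y y') hlt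
    (show DualPt ι F from Projectivization.mk F f hf)
    (show DualPt ι F from Projectivization.mk F f' hf') ω ω'
  have h3 : (tau k • Projectivization.mk F f hf : ℙ F (ι → F)) = Projectivization.mk F f' hf' := h1
  rw [Projectivization.smul_mk, Projectivization.mk_eq_mk_iff] at h3
  obtain ⟨a, ha⟩ := h3
  refine ⟨k, (a : F), a.ne_zero, ?_, h2⟩
  rw [← tau_mulVec]
  exact ha.symm

/-- **Block, point form**: point stabilizers are transitive on `Ω`. -/
theorem exists_smul_pt (hlt : Nat.card Ω < Nat.card (ℙ F (ι → F))) {v v' : ι → F} (hv : v ≠ 0)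
    (hv' : v' ≠ 0) (ω ω' : Ω) :
    ∃ (k : Matrix.SpecialLinearGroup ι F) (c : F), c ≠ 0 ∧
      (k : Matrix ι ι F) *ᵥ v = c • v' ∧ k • ω = ω' := by
  obtain ⟨k, h1, h2⟩ := Cfsg.Agent.Lib.Helper7.MinDegLeaf.block (K := Matrix.SpecialLinearGroup ι F) (X := ℙ F (ι → F))
    (Y := Ω) pt_two_trans (fun y y' => MulAction.exists_smul_eq _ y y') hlt
    (Projectivization.mk F v hv) (Projectivization.mk F v' hv') ω ω'
  rw [Projectivization.smul_mk, Projectivization.mk_eq_mk_iff] at h1
  obtain ⟨a, ha⟩ := h1
  exact ⟨k, (a : F), a.ne_zero, ha.symm, h2⟩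

end act

end Cfsg.Agent.Lib.Helper27.MinDeg
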