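/-
helper27: minimal permutation degree of `PSL_n(q)` (S2140), part F: the key lemma.
-/
import Cfsg.Agent.Lib.Helper27.MinDegE
import Cfsg.Agent.Lib.Helper28.MinDegexists_conj_T
import Cfsg.Agent.Lib.Helper2.SLGen

set_option autoImplicit false

namespace Cfsg.Agent.Lib.Helper27.MinDeg

open Matrix
open scoped LinearAlgebra.Projectivization

variable {ι : Type*} [Fintype ι] [DecidableEq ι] {F : Type*} [Field F]

theorem transvection_eq_T {i j : ι} (hij : i ≠ j) (c : F) :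
    Matrix.SpecialLinearGroup.transvection hij c =
      T (c • (Pi.single i 1 : ι → F)) (Pi.single j 1 : ι → F) := by
  have h : (Pi.single j 1 : ι → F) ⬝ᵥ (c • (Pi.single i 1 : ι → F)) = 0 := by
    rw [dotProduct_smul, single_dotProduct, one_mul, Pi.single_eq_of_ne hij.symm, smul_zero]
  apply sl_ext
  rw [T_coe h, Matrix.SpecialLinearGroup.transvection_coe, smul_vecMulVec,
    ← single_eq_single_vecMulVec_single, Matrix.smul_single, smul_eq_mul, mul_one]

section act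

variable {Ω : Type*} [MulAction (Matrix.SpecialLinearGroup ι F) Ω]

/-- all transvections have the same number of fixed points -/
theorem natCard_fixedBy_T [Finite Ω] (h3 : 3 ≤ Fintype.card ι) {v f v' f' : ι → F} (hv : v ≠ 0)
    (hf : f ≠ 0) (hv' : v' ≠ 0) (hf' : f' ≠ 0) (h : f ⬝ᵥ v = 0) (h' : f' ⬝ᵥ v' = 0) :
    Nat.card (MulAction.fixedBy Ω (T v f)) = Nat.card (MulAction.fixedBy Ω (T v' f')) := by
  obtain ⟨g, h1, h2⟩ := Cfsg.Agent.Lib.Helper28.MinDegLeaf.exists_conj_T h3 hv hf hv' hf' h h'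
  rw [← natCard_fixedBy_conj g (T v f), conj_T, h1, h2]

/-- if one transvection acts trivially, the whole group does. -/
theorem smul_eq_of_T_trivial (h3 : 3 ≤ Fintype.card ι) {v₀ f₀ : ι → F} (hv₀ : v₀ ≠ 0)
    (hf₀ : f₀ ≠ 0) (h₀ : f₀ ⬝ᵥ v₀ = 0) (htriv : ∀ ω : Ω, T v₀ f₀ • ω = ω)
    (g : Matrix.SpecialLinearGroup ι F) (ω : Ω) : g • ω = ω := by
  have hall : ∀ v f : ι → F, ∀ ω : Ω, T v f • ω = ω := by
    intro v f ω
    by_cases h : f ⬝ᵥ v = 0
    · by_cases hv : v = 0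
      · subst hv; rw [T_zero_left, one_smul]
      by_cases hf : f = 0
      · subst hf; rw [T_zero_right, one_smul]
      obtain ⟨k, h1, h2⟩ :=
        Cfsg.Agent.Lib.Helper28.MinDegLeaf.exists_conj_T h3 hv₀ hf₀ hv hf h₀ h
      have e : T v f = k * T v₀ f₀ * k⁻¹ := by rw [conj_T, h1, h2]
      rw [e, mul_smul, mul_smul, htriv, smul_inv_smul]
    · rw [T_of_ne h, one_smul]
  have : Nontrivial ι := by
    rw [← Fintype.one_lt_card_iff_nontrivial]; omega
  revert ω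
  refine Cfsg.Agent.Lib.Helper2.sl_transvection_induction
    (fun g => ∀ ω : Ω, g • ω = ω) ?_ ?_ g
  · intro i j hij c ω
    rw [transvection_eq_T]
    exact hall _ _ ω
  · intro A B hA hB ω
    rw [mul_smul, hB, hA]

variable [MulAction.IsPretransitive (Matrix.SpecialLinearGroup ι F) Ω] [Finite F] [Finite Ω]

/-- all the sets `Dset ω f` have the same cardinality. -/
theorem natCard_Dset_eq (hlt : Nat.card Ω < Nat.card (ℙ F (ι → F))) {f f' : ι → F} (hf : f ≠ 0)
    (hf' : f' ≠ 0) (ω ω' : Ω) : Nat.card (Dset ω f) = Nat.card (Dset ω' f') := by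
  obtain ⟨k, c, hc, h1, h2⟩ := exists_smul_dual hlt hf hf' ω ω'
  rw [← natCard_Dset_conj ω f k, h1, h2, natCard_Dset_smul _ _ hc]

theorem natCard_pt_lt (h2 : 2 ≤ Fintype.card ι) :
    Nat.card (ℙ F (ι → F)) < 2 * Nat.card F ^ (Fintype.card ι - 1) := by
  have hc := Projectivization.card F (ι → F)
  have hq : 1 < Nat.card F := Finite.one_lt_card
  rw [Nat.card_fun, Nat.card_eq_fintype_card (α := ι)] at hc
  obtain ⟨n, hn⟩ : ∃ n, Fintype.card ι = n + 1 := ⟨Fintype.card ι - 1, by omega⟩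
  rw [hn] at hc ⊢
  simp only [Nat.add_sub_cancel]
  generalize Nat.card F = q at hc hq ⊢
  generalize Nat.card (ℙ F (ι → F)) = θ at hc ⊢
  have hm : 0 < q ^ n := Nat.pos_of_ne_zero (pow_ne_zero _ (by omega))
  by_contra hge
  push Not at hge
  obtain ⟨q', rfl⟩ : ∃ q', q = q' + 2 := ⟨q - 2, by omega⟩
  have e1 : (q' + 2) ^ (n + 1) = (q' + 2) ^ n * (q' + 2) := pow_succ _ _
  have e2 : θ * (q' + 2 - 1) = θ * (q' + 1) := by congr 1
  rw [e1, e2] at hc
  have : 2 * (q' + 2) ^ n * (q' + 1) ≤ θ * (q' + 1) := Nat.mul_le_mul_right _ hge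
  have h5 : (q' + 2) ^ n * (q' + 2) ≥ 1 := Nat.one_le_iff_ne_zero.2 (by positivity)
  generalize (q' + 2) ^ n = M at *
  have hc' : M * (q' + 2) = θ * (q' + 1) + 1 := by omega
  have h6 : 2 * M * (q' + 1) = 2 * (M * q') + 2 * M := by ring
  have h7 : M * (q' + 2) = M * q' + 2 * M := by ring
  have h8 : 0 ≤ M * q' := Nat.zero_le _
  omega

theorem fixedBy_Q_coe {f : ι → F} (a : Q f) :
    MulAction.fixedBy Ω a = MulAction.fixedBy Ω (a : Matrix.SpecialLinearGroup ι F) := rfl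

/-- **key lemma** (`m = q^(n-1)`, `φ` = number of fixed points of a transvection, `d = |Dset|`). -/
theorem key_lemma (h3 : 3 ≤ Fintype.card ι) (hlt : Nat.card Ω < Nat.card (ℙ F (ι → F)))
    (h1 : 1 < Nat.card Ω) {v₀ f₀ : ι → F} (hv₀ : v₀ ≠ 0) (hf₀ : f₀ ≠ 0) (h₀ : f₀ ⬝ᵥ v₀ = 0)
    (ω₀ : Ω) {f : ι → F} (hf : f ≠ 0) :
    Nat.card Ω = Nat.card F ^ (Fintype.card ι - 1) + Nat.card (MulAction.fixedBy Ω (T v₀ f₀)) ∧
    Nat.card (MulAction.orbitRel.Quotient (Q f) Ω) =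
      Nat.card (MulAction.fixedBy Ω (T v₀ f₀)) + 1 ∧
    Nat.card Ω * Nat.card (Dset ω₀ f₀) =
      (Nat.card (MulAction.fixedBy Ω (T v₀ f₀)) + 1) * Nat.card F ^ (Fintype.card ι - 1) := by
  set φ := Nat.card (MulAction.fixedBy Ω (T v₀ f₀)) with hφdef
  set d := Nat.card (Dset ω₀ f₀) with hddef
  have hφ : ∀ a : Q f, a ≠ 1 → Nat.card (MulAction.fixedBy Ω a) = φ := by
    rintro ⟨g, v, hv, rfl⟩ ha
    rw [fixedBy_Q_coe]
    have hv0 : v ≠ 0 := by
      rintro rfl
      apply ha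
      apply Subtype.ext
      exact T_zero_left f
    exact natCard_fixedBy_T h3 hv0 hf hv₀ hf₀ hv h₀
  have hd : ∀ ω : Ω, Nat.card (MulAction.stabilizer (Q f) ω) = d := by
    intro ω
    rw [Nat.card_congr (stabEquivDset hf ω)]
    exact natCard_Dset_eq hlt hf hf₀ ω ω₀
  obtain ⟨hA1, hA2⟩ := abs_key (A := Q f) (Ω := Ω) φ d hφ hd
  rw [natCard_Q hf] at hA1 hA2
  have hq : 1 < Nat.card F := Finite.one_lt_card
  have hm : 1 < Nat.card F ^ (Fintype.card ι - 1) := Nat.one_lt_pow (by omega) hq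
  have hN : Nat.card Ω < 2 * Nat.card F ^ (Fintype.card ι - 1) :=
    lt_trans hlt (natCard_pt_lt (by omega))
  have hle : φ ≤ Nat.card Ω := Finite.card_subtype_le _
  have hφN : φ < Nat.card Ω := by
    rcases Nat.lt_or_ge φ (Nat.card Ω) with h | h
    · exact h
    exfalso
    have hbij : Function.Bijective
        (Subtype.val : MulAction.fixedBy Ω (T v₀ f₀) → Ω) :=
      Subtype.val_injective.bijective_of_nat_card_le h
    have htriv : ∀ ω : Ω, T v₀ f₀ • ω = ω := by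
      intro ω
      obtain ⟨⟨x, hx⟩, rfl⟩ := hbij.2 ω
      exact hx
    have hsub : Subsingleton Ω := by
      constructor
      intro a b
      obtain ⟨g, hg⟩ := MulAction.exists_smul_eq (Matrix.SpecialLinearGroup ι F) a b
      rw [← hg, smul_eq_of_T_trivial h3 hv₀ hf₀ h₀ htriv]
    have := Finite.card_le_one_iff_subsingleton.2 hsub
    omega
  exact key_arith hA1 hA2 hφN hN hm

end act

end Cfsg.Agent.Lib.Helper27.MinDeg
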