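/-
helper27: minimal permutation degree of `PSL_n(q)` (S2140), part G:
coordinate preliminaries for case T (coordinate hyperplane, the subspace `U₀`, the embedded
`SL` of the other coordinates, the `p`-group `Rgrp`).
-/
import Cfsg.Agent.Lib.Helper27.MinDegF

set_option autoImplicit false

namespace Cfsg.Agent.Lib.Helper27.MinDeg

open Matrix
open scoped LinearAlgebra.Projectivization

variable {ι : Type*} [Fintype ι] [DecidableEq ι] {F : Type*} [Field F]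

/-- basis vector -/
def bv (i : ι) : ι → F := Pi.single i 1

theorem bv_dot (i : ι) (v : ι → F) : (bv i : ι → F) ⬝ᵥ v = v i := by
  unfold bv; rw [single_dotProduct, one_mul]

theorem dot_bv (i : ι) (v : ι → F) : v ⬝ᵥ (bv i : ι → F) = v i := by
  unfold bv; rw [dotProduct_single, mul_one]

theorem bv_self (i : ι) : (bv i : ι → F) i = 1 := by unfold bv; rw [Pi.single_eq_same]

theorem bv_ne {i j : ι} (h : j ≠ i) : (bv i : ι → F) j = 0 := by
  unfold bv; rw [Pi.single_eq_of_ne h]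

theorem bv_ne_zero (i : ι) : (bv i : ι → F) ≠ 0 := by
  intro h
  have := congrFun h i
  rw [bv_self] at this
  exact one_ne_zero this

/-- the subspace `{u | u i₀ = 0 ∧ u i₁ = 0}` -/
def U0 (i₀ i₁ : ι) : Set (ι → F) := {u | u i₀ = 0 ∧ u i₁ = 0}

theorem natCard_U0 [Finite F] {i₀ i₁ : ι} (h01 : i₀ ≠ i₁) (h2 : 2 ≤ Fintype.card ι) :
    Nat.card (U0 (F := F) i₀ i₁) = Nat.card F ^ (Fintype.card ι - 2) := by
  have hq : 0 < Nat.card F := Nat.card_pos
  have e : (U0 (F := F) i₀ i₁ × F) ≃ {v : ι → F // (bv i₀ : ι → F) ⬝ᵥ v = 0} :=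
    { toFun := fun x => ⟨x.1.1 + x.2 • bv i₁, by
        rw [bv_dot, Pi.add_apply, Pi.smul_apply, bv_ne h01, x.1.2.1, smul_zero, add_zero]⟩
      invFun := fun v => (⟨v.1 - v.1 i₁ • bv i₁, by
        constructor
        · rw [Pi.sub_apply, Pi.smul_apply, bv_ne h01, smul_zero, sub_zero, ← bv_dot i₀ v.1]
          exact v.2
        · rw [Pi.sub_apply, Pi.smul_apply, bv_self, smul_eq_mul, mul_one, sub_self]⟩, v.1 i₁)
      left_inv := by
        rintro ⟨⟨u, hu0, hu1⟩, t⟩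
        have h1 : (u + t • (bv i₁ : ι → F)) i₁ = t := by
          rw [Pi.add_apply, Pi.smul_apply, bv_self, hu1, zero_add, smul_eq_mul, mul_one]
        apply Prod.ext
        · apply Subtype.ext
          show u + t • bv i₁ - (u + t • (bv i₁ : ι → F)) i₁ • bv i₁ = u
          rw [h1, add_sub_cancel_right]
        · exact h1
      right_inv := by
        rintro ⟨v, hv⟩
        apply Subtype.ext
        show v - v i₁ • bv i₁ + v i₁ • bv i₁ = v
        rw [sub_add_cancel] }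
  have h := Nat.card_congr e
  rw [Nat.card_prod, natCard_ker (bv_ne_zero i₀)] at h
  obtain ⟨n, hn⟩ : ∃ n, Fintype.card ι = n + 2 := ⟨Fintype.card ι - 2, by omega⟩
  rw [hn] at h ⊢
  simp only [Nat.add_sub_cancel] at h ⊢
  have h' : n + 2 - 1 = n + 1 := by omega
  rw [h', pow_succ] at h
  exact Nat.eq_of_mul_eq_mul_right hq h

/-- the `p`-group of transvections `T u (bv i₁)` with `u ∈ U0 i₀ i₁`. -/
def Rgrp (i₀ i₁ : ι) : Subgroup (Matrix.SpecialLinearGroup ι F) where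
  carrier := {g | ∃ u : ι → F, u ∈ U0 i₀ i₁ ∧ g = T u (bv i₁)}
  one_mem' := ⟨0, ⟨rfl, rfl⟩, (T_zero_left _).symm⟩
  mul_mem' := by
    rintro _ _ ⟨u, hu, rfl⟩ ⟨w, hw, rfl⟩
    refine ⟨u + w, ⟨?_, ?_⟩, ?_⟩
    · rw [Pi.add_apply, hu.1, hw.1, add_zero]
    · rw [Pi.add_apply, hu.2, hw.2, add_zero]
    · rw [T_add (by rw [bv_dot]; exact hu.2) (by rw [bv_dot]; exact hw.2)]
  inv_mem' := by
    rintro _ ⟨u, hu, rfl⟩
    refine ⟨-u, ⟨?_, ?_⟩, ?_⟩
    · rw [Pi.neg_apply, hu.1, neg_zero]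
    · rw [Pi.neg_apply, hu.2, neg_zero]
    · rw [T_neg (by rw [bv_dot]; exact hu.2)]

theorem Rgrp_le_Q (i₀ i₁ : ι) : Rgrp (F := F) i₀ i₁ ≤ Q (bv i₁) := by
  rintro _ ⟨u, hu, rfl⟩
  exact T_mem_Q (by rw [bv_dot]; exact hu.2)

theorem isPGroup_Rgrp (p : ℕ) [CharP F p] (i₀ i₁ : ι) : IsPGroup p (Rgrp (F := F) i₀ i₁) :=
  (isPGroup_Q p (bv i₁)).to_le (Rgrp_le_Q i₀ i₁)

/-- an element of `Rgrp` fixes the functional `bv i₀`. -/
theorem bv_vecMul_T_inv {i₀ i₁ : ι} {u : ι → F} (hu : u ∈ U0 i₀ i₁) :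
    (bv i₀ : ι → F) ᵥ* (((T u (bv i₁))⁻¹ : Matrix.SpecialLinearGroup ι F) : Matrix ι ι F) =
      bv i₀ := by
  have h1 : (bv i₁ : ι → F) ⬝ᵥ (-u) = 0 := by rw [bv_dot, Pi.neg_apply, hu.2, neg_zero]
  have h2 : (bv i₁ : ι → F) ⬝ᵥ u = 0 := by rw [bv_dot]; exact hu.2
  rw [← T_neg h2, vecMul_T h1, bv_dot, Pi.neg_apply, hu.1, neg_zero, zero_smul, add_zero]

theorem Rgrp_normalizes {i₀ i₁ : ι} :
    ∀ r ∈ Rgrp (F := F) i₀ i₁, ∀ q ∈ Q (bv i₀ : ι → F), r * q * r⁻¹ ∈ Q (bv i₀ : ι → F) := by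
  rintro _ ⟨u, hu, rfl⟩ _ ⟨v, hv, rfl⟩
  rw [conj_T, bv_vecMul_T_inv hu]
  apply T_mem_Q
  have := conj_dot (T u (bv i₁)) v (bv i₀ : ι → F)
  rw [bv_vecMul_T_inv hu] at this
  rw [this]; exact hv

/-! ### the embedded `SL` of the coordinates `≠ i₀` -/

/-- inclusion matrix of the coordinates `≠ i₀`. -/
def Pm (i₀ : ι) : Matrix ι {i : ι // i ≠ i₀} F := Matrix.of fun i j => if i = j.1 then 1 else 0

/-- restriction matrix. -/
def Qm (i₀ : ι) : Matrix {i : ι // i ≠ i₀} ι F := Matrix.of fun j i => if i = j.1 then 1 else 0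

theorem Qm_mul_Pm (i₀ : ι) :
    (Qm i₀ : Matrix {i : ι // i ≠ i₀} ι F) * (Pm i₀ : Matrix ι {i : ι // i ≠ i₀} F) = 1 := by
  ext j j'
  simp only [Matrix.mul_apply, Qm, Pm, Matrix.of_apply, Matrix.one_apply]
  rw [Finset.sum_eq_single j.1]
  · simp only [if_true, one_mul]
    by_cases h : j = j'
    · subst h; simp
    · have : j.1 ≠ j'.1 := fun e => h (Subtype.ext e)
      simp [h, this]
  · intro i _ hi
    simp [hi]
  · intro h; exact absurd (Finset.mem_univ _) h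

theorem Pm_mulVec_apply (i₀ : ι) (x : {i : ι // i ≠ i₀} → F) (i : ι) :
    ((Pm i₀ : Matrix _ _ F) *ᵥ x) i = if h : i ≠ i₀ then x ⟨i, h⟩ else 0 := by
  simp only [Matrix.mulVec, dotProduct, Pm, Matrix.of_apply]
  by_cases h : i ≠ i₀
  · rw [dif_pos h, Finset.sum_eq_single (⟨i, h⟩ : {i : ι // i ≠ i₀})]
    · simp
    · intro j _ hj
      have : i ≠ j.1 := fun e => hj (Subtype.ext e.symm)
      simp [this]
    · intro h'; exact absurd (Finset.mem_univ _) h'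
  · rw [dif_neg h]
    push Not at h
    apply Finset.sum_eq_zero
    intro j _
    have : i ≠ j.1 := by rw [h]; exact j.2.symm
    simp [this]

theorem Pm_mulVec_restrict {i₀ : ι} {w : ι → F} (hw : w i₀ = 0) :
    (Pm i₀ : Matrix _ _ F) *ᵥ (fun j => w j.1) = w := by
  funext i
  rw [Pm_mulVec_apply]
  by_cases h : i ≠ i₀
  · rw [dif_pos h]
  · rw [dif_neg h]
    push Not at h
    rw [h, hw]

theorem bv_vecMul_Pm (i₀ : ι) : (bv i₀ : ι → F) ᵥ* (Pm i₀ : Matrix _ _ F) = 0 := by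
  funext j
  unfold bv
  rw [Matrix.single_one_vecMul]
  simp only [Pm, Matrix.of_apply, Matrix.row_apply]
  simp [j.2.symm]

/-- the embedding of `SL` of the coordinates `≠ i₀`. -/
def embK (i₀ : ι) :
    Matrix.SpecialLinearGroup {i : ι // i ≠ i₀} F →* Matrix.SpecialLinearGroup ι F :=
  embSL (Pm i₀) (Qm i₀) (Qm_mul_Pm i₀)

theorem embK_mulVec_restrict {i₀ : ι} (k : Matrix.SpecialLinearGroup {i : ι // i ≠ i₀} F)
    {w : ι → F} (hw : w i₀ = 0) :
    ((embK i₀ k : Matrix.SpecialLinearGroup ι F) : Matrix ι ι F) *ᵥ w =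
      (Pm i₀ : Matrix ι {i : ι // i ≠ i₀} F) *ᵥ
        ((k : Matrix {i : ι // i ≠ i₀} {i : ι // i ≠ i₀} F) *ᵥ
          fun j : {i : ι // i ≠ i₀} => w j.1) := by
  conv_lhs => rw [← Pm_mulVec_restrict hw]
  exact embSL_mulVec _ _ _ k _

theorem bv_vecMul_embK {i₀ : ι} (k : Matrix.SpecialLinearGroup {i : ι // i ≠ i₀} F) :
    (bv i₀ : ι → F) ᵥ* ((embK i₀ k : Matrix.SpecialLinearGroup ι F) : Matrix ι ι F) = bv i₀ :=
  vecMul_embSL _ _ _ k _ (bv_vecMul_Pm i₀)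

theorem embK_normalizes {i₀ : ι} (k : Matrix.SpecialLinearGroup {i : ι // i ≠ i₀} F) :
    ∀ q ∈ Q (bv i₀ : ι → F), embK i₀ k * q * (embK i₀ k)⁻¹ ∈ Q (bv i₀ : ι → F) := by
  rintro _ ⟨v, hv, rfl⟩
  have h1 : (bv i₀ : ι → F) ᵥ*
      (((embK i₀ k)⁻¹ : Matrix.SpecialLinearGroup ι F) : Matrix ι ι F) = bv i₀ := by
    rw [← map_inv]; exact bv_vecMul_embK k⁻¹
  rw [conj_T, h1]
  apply T_mem_Q
  have := conj_dot (embK i₀ k) v (bv i₀ : ι → F)
  rw [h1] at this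
  rw [this]; exact hv

theorem card_ne_subtype (i₀ : ι) : Fintype.card {i : ι // i ≠ i₀} = Fintype.card ι - 1 := by
  rw [Fintype.card_subtype_compl (· = i₀), Fintype.card_subtype_eq]

end Cfsg.Agent.Lib.Helper27.MinDeg
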