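/-
helper27: minimal permutation degree of `PSL_n(q)` (S2140), part H: case T is impossible.
-/
import Cfsg.Agent.Lib.Helper27.MinDegG
import Cfsg.Agent.Lib.Helper7.MinDegblock_quot
import Cfsg.Agent.Lib.Helper20.MinDegexists_fixed_orbit

set_option autoImplicit false

namespace Cfsg.Agent.Lib.Helper27.MinDeg

open Matrix
open scoped LinearAlgebra.Projectivization

variable {ι : Type*} [Fintype ι] [DecidableEq ι] {F : Type*} [Field F]

/-! ### arithmetic -/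

theorem caseT_arith_a {N m φ q θ : ℕ} (hN : N = m + φ) (hθ : q * m - 1 = θ * (q - 1))
    (hlt : N < θ) (hq : 2 ≤ q) (hm : 1 < m) : (φ + 1) * (q - 1) ≤ m - 1 := by
  obtain ⟨q', rfl⟩ : ∃ q', q = q' + 1 := ⟨q - 1, by omega⟩
  obtain ⟨m', rfl⟩ : ∃ m', m = m' + 1 := ⟨m - 1, by omega⟩
  simp only [Nat.add_sub_cancel] at hθ ⊢
  have h1 : (N + 1) * q' ≤ θ * q' := Nat.mul_le_mul_right _ (by omega)
  have h2 : (q' + 1) * (m' + 1) = q' * m' + q' + m' + 1 := by ring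
  have h3 : (N + 1) * q' = (m' + 1) * q' + (φ + 1) * q' := by rw [hN]; ring
  have h4 : (m' + 1) * q' = q' * m' + q' := by ring
  omega

theorem caseT_arith_b {m φ q y : ℕ} (ha : (φ + 1) * (q - 1) ≤ m - 1)
    (hy2 : (φ + 1) * (y - 1) = m - 1) (hy : 1 ≤ y) : q ≤ y := by
  rw [← hy2] at ha
  have := Nat.le_of_mul_le_mul_left ha (Nat.succ_pos φ)
  omega

theorem caseT_arith_c {m φ q y θ' : ℕ} (ha : (φ + 1) * (q - 1) ≤ m - 1)
    (hy2 : (φ + 1) * (y - 1) = m - 1) (hy : 1 ≤ y) (hq : 1 ≤ q) (hθ' : m - 1 = θ' * (q - 1))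
    (hc : θ' ≤ φ + 1) : y = q := by
  have h1 : θ' * (q - 1) ≤ (φ + 1) * (q - 1) := Nat.mul_le_mul_right _ hc
  have h2 : (φ + 1) * (q - 1) = (φ + 1) * (y - 1) := by omega
  have := Nat.eq_of_mul_eq_mul_left (Nat.succ_pos φ) h2
  omega

section act

variable {Ω : Type*} [MulAction (Matrix.SpecialLinearGroup ι F) Ω]

/-- if `g` maps `ω` into its `Q f`-orbit and fixes the functional `f`, it preserves `Dset ω f`. -/
theorem mulVec_mem_Dset_of_orbit {ω : Ω} {f : ι → F} {g q : Matrix.SpecialLinearGroup ι F}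
    (hq : q ∈ Q f) (hgq : g • ω = q • ω)
    (hgf : f ᵥ* ((g⁻¹ : Matrix.SpecialLinearGroup ι F) : Matrix ι ι F) = f) {w : ι → F}
    (hw : w ∈ Dset ω f) : (g : Matrix ι ι F) *ᵥ w ∈ Dset ω f := by
  obtain ⟨v, hv, rfl⟩ := hq
  have h := (mem_Dset_conj_iff (ω := ω) (f := f) (v := w) g).2 hw
  rw [hgf, hgq, Dset_T_smul hv] at h
  exact h

/-- consequence of the fixed `Q f₀`-orbit of `Rgrp`. -/
theorem smul_mem_Dset_of_Rgrp {i₀ i₁ : ι} {ω₁ : Ω}
    (hω₁ : ∀ r ∈ Rgrp (F := F) i₀ i₁, ∃ q ∈ Q (bv i₀ : ι → F), r • ω₁ = q • ω₁)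
    {w : ι → F} (hw : w ∈ Dset ω₁ (bv i₀ : ι → F)) {u : ι → F} (hu : u ∈ U0 i₀ i₁) :
    (w i₁) • u ∈ Dset ω₁ (bv i₀ : ι → F) := by
  obtain ⟨q, hq, hrq⟩ := hω₁ (T u (bv i₁)) ⟨u, hu, rfl⟩
  have h := mulVec_mem_Dset_of_orbit hq hrq (bv_vecMul_T_inv hu) hw
  have hu1 : (bv i₁ : ι → F) ⬝ᵥ u = 0 := by rw [bv_dot]; exact hu.2
  rw [T_mulVec hu1, bv_dot] at h
  have := sub_mem_Dset h hw
  rwa [add_sub_cancel_left] at this

variable [MulAction.IsPretransitive (Matrix.SpecialLinearGroup ι F) Ω] [Finite F] [Finite Ω]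

theorem natCard_fun_eq : Nat.card (ι → F) = Nat.card F ^ Fintype.card ι := by
  rw [Nat.card_fun, Nat.card_eq_fintype_card (α := ι)]

/-- **Case T is impossible.** -/
theorem caseT_false (h3 : 3 ≤ Fintype.card ι) (hlt : Nat.card Ω < Nat.card (ℙ F (ι → F)))
    (h1 : 1 < Nat.card Ω) {ω₀ : Ω} {f₁ : ι → F} (hf₁ : f₁ ≠ 0)
    (hd1 : 1 < Nat.card (Dset ω₀ f₁)) : False := by
  classical
  obtain ⟨i₀, i₁, i₂, h01, h02, h12⟩ : ∃ i₀ i₁ i₂ : ι, i₀ ≠ i₁ ∧ i₀ ≠ i₂ ∧ i₁ ≠ i₂ :=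
    Fintype.two_lt_card_iff.1 (by omega)
  have hf₀ : (bv i₀ : ι → F) ≠ 0 := bv_ne_zero i₀
  have hv₀ : (bv i₁ : ι → F) ≠ 0 := bv_ne_zero i₁
  have h₀ : (bv i₀ : ι → F) ⬝ᵥ bv i₁ = 0 := by rw [bv_dot, bv_ne h01]
  -- the numbers
  obtain ⟨hN, hc, hNd⟩ := key_lemma h3 hlt h1 hv₀ hf₀ h₀ ω₀ hf₀
  have hdd : Nat.card (Dset ω₀ (bv i₀ : ι → F)) = Nat.card (Dset ω₀ f₁) :=
    natCard_Dset_eq hlt hf₀ hf₁ ω₀ ω₀
  have hdall : ∀ ω : Ω, Nat.card (Dset ω (bv i₀ : ι → F)) = Nat.card (Dset ω₀ (bv i₀ : ι → F)) :=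
    fun ω => natCard_Dset_eq hlt hf₀ hf₀ ω ω₀
  rw [← hdd] at hd1
  generalize hφ : Nat.card (MulAction.fixedBy Ω (T (bv i₁ : ι → F) (bv i₀))) = φ at hN hc hNd
  generalize hd : Nat.card (Dset ω₀ (bv i₀ : ι → F)) = d at hNd hd1 hdall
  have hq : 1 < Nat.card F := Finite.one_lt_card
  generalize hqdef : Nat.card F = q at hN hNd hq
  have hm1 : 1 < q ^ (Fintype.card ι - 1) := Nat.one_lt_pow (by omega) hq
  -- `d ∣ m`
  have hdvd : d ∣ q ^ (Fintype.card ι - 1) := by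
    have := Subgroup.card_subgroup_dvd_card (MulAction.stabilizer (Q (bv i₀ : ι → F)) ω₀)
    rwa [Nat.card_congr (stabEquivDset hf₀ ω₀), natCard_Q hf₀, hd, hqdef] at this
  obtain ⟨y, hy⟩ : ∃ y, q ^ (Fintype.card ι - 1) = y * d := ⟨_, (Nat.div_mul_cancel hdvd).symm⟩
  obtain ⟨hNy, hy2⟩ := key_arith2 hN hNd hy (by omega) hm1
  have hy1 : 1 ≤ y := by
    rcases Nat.eq_zero_or_pos y with rfl | h
    · rw [zero_mul] at hy; omega
    · exact h
  -- the number of points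
  have hθ : q * q ^ (Fintype.card ι - 1) - 1 = Nat.card (ℙ F (ι → F)) * (q - 1) := by
    have := Projectivization.card F (ι → F)
    rw [natCard_fun_eq, hqdef] at this
    rw [← this, ← pow_succ']
    congr 2
    omega
  have ha := caseT_arith_a hN hθ hlt (by omega) hm1
  have hqy := caseT_arith_b ha hy2 hy1
  -- the characteristic
  obtain ⟨p, hp⟩ := CharP.exists F
  have hpp : p.Prime := CharP.char_is_prime F p
  have : Fact p.Prime := ⟨hpp⟩
  have hpm : p ∣ q ^ (Fintype.card ι - 1) := by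
    have : Fintype F := Fintype.ofFinite F
    obtain ⟨k, _, hk⟩ := FiniteField.card F p
    have hpq : p ∣ q := by
      rw [← hqdef, Nat.card_eq_fintype_card, hk]
      exact dvd_pow_self p k.ne_zero
    exact dvd_pow hpq (by omega)
  have hpc : ¬ p ∣ Nat.card (MulAction.orbitRel.Quotient (Q (bv i₀ : ι → F)) Ω) := by
    rw [hc]
    intro hdv
    have h2 : p ∣ q ^ (Fintype.card ι - 1) - 1 := by
      rw [← hy2]; exact Dvd.dvd.mul_right hdv _
    have h3' : p ∣ 1 := by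
      have := Nat.dvd_sub hpm h2
      rwa [Nat.sub_sub_self (by omega)] at this
    exact hpp.one_lt.ne' (Nat.dvd_one.1 h3')
  -- a `Q f₀`-orbit fixed by `Rgrp`
  obtain ⟨ω₁, hω₁⟩ := Cfsg.Agent.Lib.Helper20.MinDegLeaf.exists_fixed_orbit p
    (Q (bv i₀ : ι → F)) (Rgrp i₀ i₁) Rgrp_normalizes (isPGroup_Rgrp p i₀ i₁) hpc
  have hd₁ : Nat.card (Dset ω₁ (bv i₀ : ι → F)) = d := hdall ω₁
  have hU0 : Nat.card (U0 (F := F) i₀ i₁) = q ^ (Fintype.card ι - 2) := by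
    rw [natCard_U0 h01 (by omega), hqdef]
  have hmq : q ^ (Fintype.card ι - 1) = q ^ (Fintype.card ι - 2) * q := by
    rw [← pow_succ]; congr 1; omega
  -- `Dset ω₁ f₀ ⊆ U0`
  have hsub : ∀ w : ι → F, w ∈ Dset ω₁ (bv i₀ : ι → F) → w ∈ U0 i₀ i₁ := by
    intro w hw
    refine ⟨by rw [← bv_dot i₀ w]; exact hw.1, ?_⟩
    by_contra ht
    have hUD : ∀ u : ι → F, u ∈ U0 i₀ i₁ → u ∈ Dset ω₁ (bv i₀ : ι → F) := by
      intro u hu
      have hu' : (w i₁)⁻¹ • u ∈ U0 i₀ i₁ := by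
        constructor
        · rw [Pi.smul_apply, hu.1, smul_zero]
        · rw [Pi.smul_apply, hu.2, smul_zero]
      have := smul_mem_Dset_of_Rgrp hω₁ hw hu'
      rwa [smul_smul, mul_inv_cancel₀ ht, one_smul] at this
    have hltc : Nat.card (U0 (F := F) i₀ i₁) < Nat.card (Dset ω₁ (bv i₀ : ι → F)) := by
      have : Fintype (U0 (F := F) i₀ i₁) := Fintype.ofFinite _
      have : Fintype (Dset ω₁ (bv i₀ : ι → F)) := Fintype.ofFinite _
      rw [Nat.card_eq_fintype_card, Nat.card_eq_fintype_card]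
      refine Fintype.card_lt_of_injective_of_notMem
        (fun u : U0 (F := F) i₀ i₁ => (⟨u.1, hUD u.1 u.2⟩ : Dset ω₁ (bv i₀ : ι → F))) ?_
        (b := ⟨w, hw⟩) ?_
      · rintro ⟨a, ha⟩ ⟨b, hb⟩ e
        apply Subtype.ext
        exact Subtype.mk.inj e
      · rintro ⟨⟨a, ha⟩, e⟩
        have : a = w := Subtype.mk.inj e
        subst this
        exact ht ha.2
    rw [hd₁, hU0] at hltc
    have h5 : q * d ≤ y * d := Nat.mul_le_mul_right _ hqy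
    rw [← hy, hmq] at h5
    have h6 : q ^ (Fintype.card ι - 2) * q < d * q := Nat.mul_lt_mul_of_pos_right hltc (by omega)
    rw [mul_comm d q] at h6
    omega
  -- a nonzero element of `Dset ω₁ f₀`
  obtain ⟨w₁, hw₁, hw₁0⟩ : ∃ w₁ : ι → F, w₁ ∈ Dset ω₁ (bv i₀ : ι → F) ∧ w₁ ≠ 0 := by
    have hnt : Nontrivial (Dset ω₁ (bv i₀ : ι → F)) := by
      rw [← Finite.one_lt_card_iff_nontrivial, hd₁]; exact hd1
    obtain ⟨⟨a, ha⟩, hne⟩ := exists_ne (⟨0, zero_mem_Dset ω₁ _⟩ : Dset ω₁ (bv i₀ : ι → F))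
    exact ⟨a, ha, fun h => hne (Subtype.ext h)⟩
  -- Block's lemma for the embedded `SL`
  have hw₁i₀ : w₁ i₀ = 0 := (hsub w₁ hw₁).1
  have hw₁' : (fun j : {i : ι // i ≠ i₀} => w₁ j.1) ≠ 0 := by
    intro h
    apply hw₁0
    rw [← Pm_mulVec_restrict hw₁i₀, h, mulVec_zero]
  have he' : (fun j : {i : ι // i ≠ i₀} => (bv i₁ : ι → F) j.1) ≠ 0 := by
    intro h
    have := congrFun h ⟨i₁, h01.symm⟩
    simp only [Pi.zero_apply] at this
    rw [bv_self] at this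
    exact one_ne_zero this
  have hblock := Cfsg.Agent.Lib.Helper7.MinDegLeaf.block_quot
    (G := Matrix.SpecialLinearGroup ι F) (Ω := Ω)
    (K := Matrix.SpecialLinearGroup {i : ι // i ≠ i₀} F) (X := ℙ F ({i : ι // i ≠ i₀} → F))
    pt_two_trans (Q (bv i₀ : ι → F)) (embK i₀) embK_normalizes ω₁
    (Projectivization.mk F _ hw₁') (Projectivization.mk F _ he') (by
      rintro k ⟨q', hq', hkq⟩ heq
      rw [Projectivization.smul_mk, Projectivization.mk_eq_mk_iff] at heq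
      obtain ⟨a, ha⟩ := heq
      have hgf : (bv i₀ : ι → F) ᵥ*
          (((embK i₀ k)⁻¹ : Matrix.SpecialLinearGroup ι F) : Matrix ι ι F) = bv i₀ := by
        rw [← map_inv]; exact bv_vecMul_embK k⁻¹
      have hmem := mulVec_mem_Dset_of_orbit hq' hkq hgf hw₁
      rw [embK_mulVec_restrict k hw₁i₀] at hmem
      have hk : (k : Matrix _ _ F) *ᵥ (fun j : {i : ι // i ≠ i₀} => w₁ j.1) =
          (a : F) • fun j : {i : ι // i ≠ i₀} => (bv i₁ : ι → F) j.1 := ha.symm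
      rw [hk, mulVec_smul, Pm_mulVec_restrict (bv_ne h01)] at hmem
      have := (hsub _ hmem).2
      rw [Pi.smul_apply, bv_self, smul_eq_mul, mul_one] at this
      exact a.ne_zero this)
  rw [hc] at hblock
  have hθ' : q ^ (Fintype.card ι - 1) - 1 =
      Nat.card (ℙ F ({i : ι // i ≠ i₀} → F)) * (q - 1) := by
    have := Projectivization.card F ({i : ι // i ≠ i₀} → F)
    rwa [natCard_fun_eq, card_ne_subtype, hqdef] at this
  have hyq : y = q := caseT_arith_c ha hy2 hy1 (by omega) hθ' hblock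
  subst hyq
  have hdq : d = y ^ (Fintype.card ι - 2) := by
    rw [hmq, mul_comm] at hy
    exact (Nat.eq_of_mul_eq_mul_left (by omega) hy).symm
  -- `Dset ω₁ f₀ = U0`
  have hUD : ∀ u : ι → F, u ∈ U0 i₀ i₁ → u ∈ Dset ω₁ (bv i₀ : ι → F) := by
    intro u hu
    have hbij : Function.Bijective
        (fun x : Dset ω₁ (bv i₀ : ι → F) => (⟨x.1, hsub x.1 x.2⟩ : U0 (F := F) i₀ i₁)) := by
      apply Function.Injective.bijective_of_nat_card_le
      · rintro ⟨a, ha⟩ ⟨b, hb⟩ e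
        apply Subtype.ext
        exact Subtype.mk.inj e
      · rw [hd₁, hU0, hdq]
    obtain ⟨⟨x, hx⟩, e⟩ := hbij.2 ⟨u, hu⟩
    have : x = u := Subtype.mk.inj e
    subst this
    exact hx
  -- a transvection with centre `bv i₁` fixing `ω₁`
  have h2U : (bv i₂ : ι → F) ∈ U0 i₀ i₁ := ⟨bv_ne h02, bv_ne h12⟩
  have h2D := hUD _ h2U
  obtain ⟨k, c, hc0, hk1, hk2⟩ := exists_smul_pt hlt (bv_ne_zero i₂) (bv_ne_zero i₁) ω₁ ω₁
  set g' : ι → F :=
    (bv i₀ : ι → F) ᵥ* ((k⁻¹ : Matrix.SpecialLinearGroup ι F) : Matrix ι ι F) with hg'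
  have hfix : T (bv i₁ : ι → F) (c • g') • ω₁ = ω₁ := by
    have e : T (bv i₁ : ι → F) (c • g') = k * T (bv i₂) (bv i₀) * k⁻¹ := by
      rw [conj_T, hk1, T_smul]
    rw [e, mul_smul, mul_smul]
    have hk3 : k⁻¹ • ω₁ = ω₁ := by rw [inv_smul_eq_iff, hk2]
    rw [hk3, h2D.2, hk2]
  have hg'1 : g' ⬝ᵥ (bv i₁ : ι → F) = 0 := by
    have := conj_dot k (bv i₂ : ι → F) (bv i₀ : ι → F)
    rw [hk1, dotProduct_smul, bv_dot, bv_ne h02, smul_eq_mul] at this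
    rcases mul_eq_zero.1 this with h | h
    · exact absurd h hc0
    · exact h
  have hg'0 : g' ≠ 0 := by
    intro h
    apply hf₀
    have : g' ᵥ* (k : Matrix ι ι F) = bv i₀ := by
      rw [hg', vecMul_vecMul, coe_inv_mul_coe, vecMul_one]
    rw [← this, h, zero_vecMul]
  have hcg1 : (c • g') ⬝ᵥ (bv i₁ : ι → F) = 0 := by rw [smul_dotProduct, hg'1, smul_zero]
  -- `c • g'` vanishes on `U0`
  have hvan : ∀ v : ι → F, v ∈ U0 i₀ i₁ → (c • g') ⬝ᵥ v = 0 := by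
    intro v hv
    have hvD := hUD v hv
    have hcomm := T_commutator (u := (bv i₁ : ι → F)) (g := c • g') (v := v)
      (f := (bv i₀ : ι → F)) hcg1 hvD.1 h₀
    have hfix2 : T (((c • g') ⬝ᵥ v) • (bv i₁ : ι → F)) (bv i₀) • ω₁ = ω₁ := by
      rw [← hcomm, mul_smul, mul_smul, mul_smul]
      have e1 : (T v (bv i₀ : ι → F))⁻¹ • ω₁ = ω₁ := by rw [inv_smul_eq_iff, hvD.2]
      have e2 : (T (bv i₁ : ι → F) (c • g'))⁻¹ • ω₁ = ω₁ := by rw [inv_smul_eq_iff, hfix]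
      rw [e1, e2, hvD.2, hfix]
    have hmem : ((c • g') ⬝ᵥ v) • (bv i₁ : ι → F) ∈ Dset ω₁ (bv i₀ : ι → F) :=
      ⟨by rw [dotProduct_smul, h₀, smul_zero], hfix2⟩
    have := (hsub _ hmem).2
    rwa [Pi.smul_apply, bv_self, smul_eq_mul, mul_one] at this
  -- hence `c • g'` is a multiple of `bv i₀`
  have hform : c • g' = ((c • g') i₀) • (bv i₀ : ι → F) := by
    funext i
    have hR : (((c • g') i₀) • (bv i₀ : ι → F)) i = (c • g') i₀ * (bv i₀ : ι → F) i := rfl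
    rw [hR]
    by_cases hi0 : i = i₀
    · subst hi0
      rw [bv_self, mul_one]
    · rw [bv_ne hi0, mul_zero]
      by_cases hi1 : i = i₁
      · subst hi1
        rw [← dot_bv i (c • g')]; exact hcg1
      · rw [← dot_bv i (c • g')]
        exact hvan _ ⟨bv_ne (Ne.symm hi0), bv_ne (Ne.symm hi1)⟩
  have ht0 : (c • g') i₀ ≠ 0 := by
    intro h
    rw [h, zero_smul] at hform
    rcases smul_eq_zero.1 hform with h' | h'
    · exact hc0 h'
    · exact hg'0 h'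
  rw [hform, ← T_smul] at hfix
  have hmem : ((c • g') i₀) • (bv i₁ : ι → F) ∈ Dset ω₁ (bv i₀ : ι → F) :=
    ⟨by rw [dotProduct_smul, h₀, smul_zero], hfix⟩
  have := (hsub _ hmem).2
  rw [Pi.smul_apply, bv_self, smul_eq_mul, mul_one] at this
  exact ht0 this

end act

end Cfsg.Agent.Lib.Helper27.MinDeg
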