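/-
helper27: minimal permutation degree of `PSL_n(q)` (S2140), part I: assembly.
Every nontrivial transitive action of `SL_n(q)` (`n ≥ 3`, `(n, q) ≠ (4, 2)`) has degree at least
the number of points of the projective space.
-/
import Cfsg.Agent.Lib.Helper27.MinDegH
import Cfsg.Agent.Lib.Helper17.MinDegR43
import Cfsg.Agent.Lib.Helper20.MinDegR3odd
import Cfsg.Agent.Lib.Helper20.MinDegR4
import Cfsg.Agent.Lib.Helper7.MinDegR3even
import Cfsg.Agent.Lib.Helper20.MinDegfinal_of_action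

set_option autoImplicit false

namespace Cfsg.Agent.Lib.Helper27.MinDeg

open Matrix
open scoped LinearAlgebra.Projectivization

section act

variable {ι : Type*} [Fintype ι] [DecidableEq ι] {F : Type*} [Field F] [Finite F]
  {Ω : Type*} [MulAction (Matrix.SpecialLinearGroup ι F) Ω]
  [MulAction.IsPretransitive (Matrix.SpecialLinearGroup ι F) Ω] [Finite Ω]

theorem rhyp_arith {N m φ : ℕ} (hN : N = m + φ) (hd : N * 1 = (φ + 1) * m) (hm : 1 < m) :
    N = m := by
  obtain ⟨m', rfl⟩ : ∃ m', m = m' + 2 := ⟨m - 2, by omega⟩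
  have h : (φ + 1) * (m' + 2) = φ * m' + 2 * φ + m' + 2 := by ring
  have h0 : 0 ≤ φ * m' := Nat.zero_le _
  omega

/-- if all the sets `Dset ω f` are trivial, we are in the regular case. -/
theorem rhyp_of_d_eq_one (h3 : 3 ≤ Fintype.card ι)
    (hlt : Nat.card Ω < Nat.card (ℙ F (ι → F))) (h1 : 1 < Nat.card Ω)
    (hd : ∀ (ω : Ω) (f : ι → F), f ≠ 0 → Nat.card (Dset ω f) = 1) : RHyp ι F Ω := by
  classical
  obtain ⟨i₀, i₁, h01⟩ : ∃ i₀ i₁ : ι, i₀ ≠ i₁ :=
    Fintype.exists_pair_of_one_lt_card (by omega)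
  have hne : Nonempty Ω := by
    rcases isEmpty_or_nonempty Ω with h | h
    · rw [Nat.card_of_isEmpty] at h1; omega
    · exact h
  obtain ⟨ω₀⟩ := hne
  have h₀ : (bv i₀ : ι → F) ⬝ᵥ (bv i₁ : ι → F) = 0 := by
    rw [bv_dot]; exact bv_ne h01
  obtain ⟨hN, -, hNd⟩ := key_lemma h3 hlt h1 (bv_ne_zero i₁) (bv_ne_zero i₀) h₀ ω₀
    (bv_ne_zero (F := F) i₀)
  rw [hd ω₀ _ (bv_ne_zero i₀)] at hNd
  have hq : 1 < Nat.card F := Finite.one_lt_card
  have hm : 1 < Nat.card F ^ (Fintype.card ι - 1) := Nat.one_lt_pow (by omega) hq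
  refine ⟨rhyp_arith hN hNd hm, ?_⟩
  intro v f ω hfv hf hfix
  have hsub : Subsingleton (Dset ω f) :=
    Finite.card_le_one_iff_subsingleton.1 (le_of_eq (hd ω f hf))
  have hv : v ∈ Dset ω f := ⟨hfv, hfix⟩
  have := Subsingleton.elim (⟨v, hv⟩ : Dset ω f) ⟨0, zero_mem_Dset ω f⟩
  exact congrArg Subtype.val this

end act

/-- every nontrivial transitive action of `SL_n(q)` has degree at least `|ℙ|`. -/
theorem no_small_action {F : Type*} [Field F] [Finite F] (n : ℕ) (hn : 3 ≤ n)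
    (hexc : ¬ (n = 4 ∧ Nat.card F = 2))
    (Ω : Type*) [MulAction (Matrix.SpecialLinearGroup (Fin n) F) Ω]
    [MulAction.IsPretransitive (Matrix.SpecialLinearGroup (Fin n) F) Ω] [Finite Ω]
    (h1 : 1 < Nat.card Ω) : Nat.card (ℙ F (Fin n → F)) ≤ Nat.card Ω := by
  classical
  by_contra hcon
  have hlt : Nat.card Ω < Nat.card (ℙ F (Fin n → F)) := not_le.1 hcon
  have hcard : Fintype.card (Fin n) = n := Fintype.card_fin n
  have h3 : 3 ≤ Fintype.card (Fin n) := by omega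
  have hne : Nonempty Ω := by
    rcases isEmpty_or_nonempty Ω with h | h
    · rw [Nat.card_of_isEmpty] at h1; omega
    · exact h
  obtain ⟨ω₀⟩ := hne
  have i₀ : Fin n := ⟨0, by omega⟩
  have hq : 1 < Nat.card F := Finite.one_lt_card
  by_cases hd1 : 1 < Nat.card (Dset ω₀ (bv i₀ : Fin n → F))
  · exact caseT_false h3 hlt h1 (bv_ne_zero i₀) hd1
  · have hd : ∀ (ω : Ω) (f : Fin n → F), f ≠ 0 → Nat.card (Dset ω f) = 1 := by
      intro ω f hf
      rw [natCard_Dset_eq hlt hf (bv_ne_zero i₀) ω ω₀]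
      have hpos : 0 < Nat.card (Dset ω₀ (bv i₀ : Fin n → F)) := by
        have : Nonempty (Dset ω₀ (bv i₀ : Fin n → F)) := ⟨⟨0, zero_mem_Dset _ _⟩⟩
        exact Nat.card_pos
      omega
    have hR : RHyp (Fin n) F Ω := rhyp_of_d_eq_one h3 hlt h1 hd
    rcases Nat.lt_or_ge 4 n with h5 | h4
    · exact Cfsg.Agent.Lib.Helper17.MinDegLeaf.R5 hR (by omega)
    · rcases Nat.lt_or_ge n 4 with h3' | h4'
      · have hn3 : Fintype.card (Fin n) = 3 := by omega
        by_cases h2 : (2 : F) = 0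
        · exact Cfsg.Agent.Lib.Helper7.MinDegLeaf.R3even hR hn3 h2
        · exact Cfsg.Agent.Lib.Helper20.MinDegLeaf.R3odd hR hn3 h2
      · have hn4 : n = 4 := by omega
        have hc4 : Fintype.card (Fin n) = 4 := by omega
        rcases Nat.lt_or_ge (Nat.card F) 4 with hq4 | hq4
        · have hq3 : Nat.card F = 3 := by
            have : Nat.card F ≠ 2 := fun h => hexc ⟨hn4, h⟩
            omega
          exact Cfsg.Agent.Lib.Helper17.MinDegLeaf.R43 hR hc4 hq3
        · exact Cfsg.Agent.Lib.Helper20.MinDegLeaf.R4 hR (by omega) hq4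

end Cfsg.Agent.Lib.Helper27.MinDeg
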