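import Cfsg.Agent.Lib.Helper26.FSNormalizerConstrained
import Cfsg.Agent.Lib.Helper26.FSModel
import Cfsg.Agent.Lib.Helper26.FSNormal
import Cfsg.Agent.Lib.Helper24.PSolvable
import Cfsg.Agent.Lib.Helper25.PSolvableOfSolvable

/-!
helper27: for a model `G` of a fusion system `F`: `O_p(F)` is the pull-back of `O_p(G)`, and
`Aut_F(O_p(F))` is `p`-solvable iff `G` is.
-/

set_option autoImplicit false

namespace Cfsg.Agent.Lib.Helper27.ModelPSolv

open Cfsg Cfsg.FusionSystem Cfsg.Agent.Lib.Helper26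

universe u v

variable {Ω : Type u} [Group Ω] {S : Subgroup Ω} {G : Type v} [Group G]

theorem core_eq_pullSub [Finite S] (p : ℕ) [Fact p.Prime] (hS : IsPGroup p S) (F : FusionSystem S)
    (ι : S →* G) (hG : F.IsModel p G ι) : F.core = pullSub ι (pCore p G) := by
  obtain ⟨hfin, hreal, ⟨T, hT⟩, hcent⟩ := hG
  haveI : (pCore p G).Normal := Cfsg.Agent.Lib.Helper24.pCore_normal' p
  have hOT : pCore p G ≤ ι.range := hT ▸ Cfsg.Agent.Lib.Helper16.pCore_le_sylow T
  have hQn : F.IsNormal (pullSub ι (pCore p G)) :=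
    isNormal_pullSub_of_realized F ι hreal (pCore p G) hOT
  apply le_antisymm
  · have hcn : F.IsNormal F.core := core_isNormal F
    have hQle : pullSub ι (pCore p G) ≤ F.core := le_sSup hQn
    have hnorm : ((F.core.subgroupOf S).map ι).Normal :=
      map_normal_of_isNormal_of_model F ι hreal (pCore p G) hOT hcent hcn hQle
    have hpg : IsPGroup p ((F.core.subgroupOf S).map ι) := (hS.to_subgroup _).map ι
    have hle : (F.core.subgroupOf S).map ι ≤ pCore p G :=
      Cfsg.Agent.Lib.Helper16.le_pCore hnorm hpg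
    intro x hx
    have hxS : x ∈ S := hcn.1 hx
    exact (mem_pullSub ι _ ⟨x, hxS⟩).mpr (hle ⟨⟨x, hxS⟩, hx, rfl⟩)
  · exact le_sSup hQn

/-- The isomorphism from the pull-back of `N` onto `N`. -/
noncomputable def eQ (ι : S →* G) (hinj : Function.Injective ι) (N : Subgroup G) (hNT : N ≤ ι.range) :
    ↥(pullSub ι N) ≃* ↥N :=
  MulEquiv.ofBijective
    ((ι.comp (Subgroup.inclusion (pullSub_le ι N))).codRestrict N
      (fun x => (mem_pullSub ι N (Subgroup.inclusion (pullSub_le ι N) x)).mp x.2))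
    ⟨by
      intro a b hab
      have h1 : ι (Subgroup.inclusion (pullSub_le ι N) a) = ι (Subgroup.inclusion (pullSub_le ι N) b) :=
        congrArg Subtype.val hab
      have h2 := hinj h1
      exact Subgroup.inclusion_injective _ h2,
     by
      intro n
      obtain ⟨s, hs⟩ := hNT n.2
      have hsN : (s : Ω) ∈ pullSub ι N := (mem_pullSub ι N s).mpr (by rw [hs]; exact n.2)
      refine ⟨⟨s, hsN⟩, Subtype.ext ?_⟩
      show ι (Subgroup.inclusion (pullSub_le ι N) ⟨s, hsN⟩) = n
      rw [← hs]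
      rfl⟩

theorem eQ_apply (ι : S →* G) (hinj : Function.Injective ι) (N : Subgroup G) (hNT : N ≤ ι.range)
    (x : ↥(pullSub ι N)) : ((eQ ι hinj N hNT x : N) : G) = ι ⟨x, pullSub_le ι N x.2⟩ := rfl

theorem map_autGroup_eq_range (F : FusionSystem S) (ι : S →* G) (hreal : F.IsRealizedBy ι)
    (N : Subgroup G) [hN : N.Normal] (hNT : N ≤ ι.range) :
    (F.autGroup (pullSub ι N)).map (MulAut.congr (eQ ι hreal.1 N hNT)).toMonoidHom =
      (MulAut.conjNormal (H := N)).range := by
  have hinj := hreal.1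
  have hQS := pullSub_le ι N
  ext β
  constructor
  · rintro ⟨α, hα, rfl⟩
    have hα' := (mem_autGroup_iff F hQS α).mp hα
    have hαS : ∀ x : ↥(pullSub ι N), ((pullSub ι N).subtype.comp α.toMonoidHom) x ∈ S :=
      fun x => hQS (α x).2
    obtain ⟨g, hg⟩ := (hreal.2 _ hQS _ hαS).mp hα'
    refine ⟨g, ?_⟩
    ext n
    rw [MulAut.conjNormal_apply]
    symm
    show ((eQ ι hinj N hNT (α ((eQ ι hinj N hNT).symm n)) : N) : G) = g * n * g⁻¹
    rw [eQ_apply]
    have h1 := hg ((eQ ι hinj N hNT).symm n)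
    have h2 : ι ⟨(((eQ ι hinj N hNT).symm n : ↥(pullSub ι N)) : Ω), hQS ((eQ ι hinj N hNT).symm n).2⟩ = n := by
      rw [← eQ_apply ι hinj N hNT, MulEquiv.apply_symm_apply]
    rw [h2] at h1
    exact h1
  · rintro ⟨g, rfl⟩
    refine ⟨(MulAut.congr (eQ ι hinj N hNT)).symm (MulAut.conjNormal g), ?_, ?_⟩
    · apply (mem_autGroup_iff F hQS _).mpr
      set α := (MulAut.congr (eQ ι hinj N hNT)).symm (MulAut.conjNormal g) with hαdef
      have hαS : ∀ x : ↥(pullSub ι N), ((pullSub ι N).subtype.comp α.toMonoidHom) x ∈ S :=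
        fun x => hQS (α x).2
      refine (hreal.2 _ hQS _ hαS).mpr ⟨g, fun x => ?_⟩
      show ι ⟨((α x : ↥(pullSub ι N)) : Ω), hQS (α x).2⟩ = g * ι ⟨x, hQS x.2⟩ * g⁻¹
      rw [← eQ_apply ι hinj N hNT, ← eQ_apply ι hinj N hNT x]
      have h3 : eQ ι hinj N hNT (α x) = MulAut.conjNormal g (eQ ι hinj N hNT x) := by
        rw [hαdef]
        show eQ ι hinj N hNT ((eQ ι hinj N hNT).symm (MulAut.conjNormal g ((eQ ι hinj N hNT).symm.symm x))) = _
        rw [MulEquiv.apply_symm_apply]
        rfl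
      rw [h3, MulAut.conjNormal_apply]
    · exact MulEquiv.apply_symm_apply _ _

theorem isPSolvable_of_mulEquiv {A : Type*} {B : Type*} [Group A] [Group B] (p : ℕ) [Fact p.Prime]
    (e : A ≃* B) (h : IsPSolvable p A) : IsPSolvable p B :=
  Cfsg.Agent.Lib.Helper24.isPSolvable_of_surjective p e.toMonoidHom e.surjective h

theorem isPSolvable_autGroup_iff_range (p : ℕ) [Fact p.Prime] (F : FusionSystem S) (ι : S →* G)
    (hreal : F.IsRealizedBy ι) (N : Subgroup G) [hN : N.Normal] (hNT : N ≤ ι.range) :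
    IsPSolvable p ↥(F.autGroup (pullSub ι N)) ↔ IsPSolvable p ↥(MulAut.conjNormal (H := N)).range := by
  have e1 : ↥(F.autGroup (pullSub ι N)) ≃*
      ↥((F.autGroup (pullSub ι N)).map (MulAut.congr (eQ ι hreal.1 N hNT)).toMonoidHom) :=
    (F.autGroup (pullSub ι N)).equivMapOfInjective _ (MulAut.congr (eQ ι hreal.1 N hNT)).injective
  have e2 : ↥((F.autGroup (pullSub ι N)).map (MulAut.congr (eQ ι hreal.1 N hNT)).toMonoidHom) ≃*
      ↥(MulAut.conjNormal (H := N)).range :=
    MulEquiv.subgroupCongr (map_autGroup_eq_range F ι hreal N hNT)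
  exact ⟨isPSolvable_of_mulEquiv p (e1.trans e2), isPSolvable_of_mulEquiv p (e1.trans e2).symm⟩

theorem isPSolvable_iff_range [Finite G] (p : ℕ) [Fact p.Prime] (N : Subgroup G) [hN : N.Normal]
    (hNp : IsPGroup p N) (hcent : Subgroup.centralizer (N : Set G) ≤ N) :
    IsPSolvable p ↥(MulAut.conjNormal (H := N)).range ↔ IsPSolvable p G := by
  constructor
  · intro h
    have hker : (MulAut.conjNormal (H := N)).ker ≤ N := by
      intro g hg
      apply hcent
      rw [Subgroup.mem_centralizer_iff]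
      intro n hn
      have h1 : MulAut.conjNormal g ⟨n, hn⟩ = ⟨n, hn⟩ := by
        rw [MonoidHom.mem_ker.mp hg]
        rfl
      have h2 := congrArg Subtype.val h1
      rw [MulAut.conjNormal_apply] at h2
      calc n * g = (g * n * g⁻¹) * g := by rw [h2]
        _ = g * n := by group
    have hkp : IsPGroup p (MulAut.conjNormal (H := N)).ker := hNp.to_le hker
    obtain ⟨m, hm⟩ := IsPGroup.exists_card_eq hkp
    have hq : IsPSolvable p (G ⧸ (MulAut.conjNormal (H := N)).ker) :=
      isPSolvable_of_mulEquiv p (QuotientGroup.quotientKerEquivRange (MulAut.conjNormal (H := N))).symm h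
    exact Cfsg.Agent.Lib.Helper25.isPSolvable_of_quotient p _ (Or.inl ⟨m, hm⟩) hq
  · intro h
    exact Cfsg.Agent.Lib.Helper24.isPSolvable_of_surjective p
      (MulAut.conjNormal (H := N)).rangeRestrict (MonoidHom.rangeRestrict_surjective _) h

/-- For a model: `Aut_F(O_p(F))` is `p`-solvable iff the model is. -/
theorem isPSolvable_autGroup_core_iff [Finite S] (p : ℕ) [Fact p.Prime] (hS : IsPGroup p S)
    (F : FusionSystem S) (ι : S →* G) (hG : F.IsModel p G ι) :
    IsPSolvable p ↥(F.autGroup F.core) ↔ IsPSolvable p G := by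
  have hcore := core_eq_pullSub p hS F ι hG
  obtain ⟨hfin, hreal, ⟨T, hT⟩, hcent⟩ := hG
  haveI := hfin
  haveI : (pCore p G).Normal := Cfsg.Agent.Lib.Helper24.pCore_normal' p
  have hOT : pCore p G ≤ ι.range := hT ▸ Cfsg.Agent.Lib.Helper16.pCore_le_sylow T
  rw [hcore]
  rw [isPSolvable_autGroup_iff_range p F ι hreal (pCore p G) hOT]
  exact isPSolvable_iff_range p (pCore p G) Cfsg.Agent.Lib.Helper16.pCore_isPGroup hcent

end Cfsg.Agent.Lib.Helper27.ModelPSolv
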