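import Cfsg.Agent.Lib.Helper27.ModelPSolv
import Cfsg.Agent.Lib.Helper12.HallHigman
import Cfsg.Agent.Lib.Helper12.Cores

/-!
helper27: a fusion system realized by a finite `p`-solvable group `G` on a Sylow `p`-subgroup has the
model `G / O_{p'}(G)`.
-/

set_option autoImplicit false

namespace Cfsg.Agent.Lib.Helper27.ModelQuot

open Cfsg Cfsg.FusionSystem Cfsg.Agent.Lib.Helper26
open scoped Pointwise

universe u v

/-- Two homomorphisms from a `p`-group that agree modulo a normal `p'`-subgroup `K` are conjugate under `K`. -/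
theorem exists_conj_of_mod {G : Type v} [Group G] [Finite G] {p : ℕ} [Fact p.Prime] (K : Subgroup G)
    [hKn : K.Normal] (hK : (Nat.card K).Coprime p) {P : Type*} [Group P] (hP : IsPGroup p P)
    (α β : P →* G) (h : ∀ x, (α x)⁻¹ * β x ∈ K) : ∃ k ∈ K, ∀ x, α x = k * β x * k⁻¹ := by
  set A := α.range with hAdef
  set B := β.range with hBdef
  have hA : IsPGroup p A := hP.of_surjective α.rangeRestrict α.rangeRestrict_surjective
  have hB : IsPGroup p B := hP.of_surjective β.rangeRestrict β.rangeRestrict_surjective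
  have hAK : ∀ x, x ∈ A → x ∈ K → x = 1 := by
    intro x hxA hxK
    apply Cfsg.Agent.Lib.Helper16.eq_one_of_mem_pgroup_of_coprime hA hxA
    have h1 : orderOf x ∣ Nat.card K := by
      have := orderOf_dvd_natCard (⟨x, hxK⟩ : K)
      rwa [Subgroup.orderOf_mk] at this
    exact Nat.Coprime.coprime_dvd_left h1 hK
  have hBH : B ≤ A ⊔ K := by
    rintro _ ⟨x, rfl⟩
    have : β x = α x * ((α x)⁻¹ * β x) := by group
    rw [this]
    exact Subgroup.mul_mem _ (Subgroup.mem_sup_left ⟨x, rfl⟩) (Subgroup.mem_sup_right (h x))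
  -- index of `A` in `A ⊔ K`
  have hinfbot : K ⊓ A = ⊥ := by
    rw [eq_bot_iff]
    intro x hx
    exact (Subgroup.mem_bot).mpr (hAK x hx.2 hx.1)
  have hrel : A.relIndex (A ⊔ K) = Nat.card K := by
    have h1 : Nat.card ↥(A ⊔ K) = Nat.card ↥K * K.relIndex A :=
      Cfsg.Agent.Lib.Helper12.card_sup_eq_of_normal A K
    have h2 : K.relIndex A = Nat.card A := by
      rw [← Subgroup.inf_relIndex_right, hinfbot, Subgroup.relIndex_bot_left]
    have h3 := Subgroup.relIndex_mul_relIndex ⊥ A (A ⊔ K) bot_le le_sup_left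
    rw [Subgroup.relIndex_bot_left, Subgroup.relIndex_bot_left, h1, h2] at h3
    have hpos : 0 < Nat.card A := Nat.card_pos
    have h4 : Nat.card ↥A * A.relIndex (A ⊔ K) = Nat.card ↥A * Nat.card ↥K := by
      rw [h3, mul_comm]
    exact Nat.eq_of_mul_eq_mul_left hpos h4
  have hA' : IsPGroup p (A.subgroupOf (A ⊔ K)) := hA.comap_subtype
  have hB' : IsPGroup p (B.subgroupOf (A ⊔ K)) := hB.comap_subtype
  have hidx : ¬ p ∣ (A.subgroupOf (A ⊔ K)).index := by
    have : (A.subgroupOf (A ⊔ K)).index = Nat.card K := hrel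
    rw [this]
    intro hdvd
    have := Nat.Coprime.eq_one_of_dvd hK.symm hdvd
    exact (Fact.out : p.Prime).one_lt.ne' this
  obtain ⟨R, hR⟩ := hB'.exists_le_sylow
  obtain ⟨hh, hhR⟩ := MulAction.exists_smul_eq (↥(A ⊔ K)) R (hA'.toSylow hidx)
  have hconj : ∀ y : ↥(A ⊔ K), (y : G) ∈ B → ((hh : G) * y * (hh : G)⁻¹) ∈ A := by
    intro y hy
    have h1 : y ∈ (R : Subgroup ↥(A ⊔ K)) := hR hy
    have h2 : MulAut.conj hh • y ∈ MulAut.conj hh • (R : Subgroup ↥(A ⊔ K)) :=
      Subgroup.smul_mem_pointwise_smul _ _ _ h1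
    rw [← Sylow.coe_subgroup_smul, hhR, IsPGroup.toSylow_coe] at h2
    have h3 : ((MulAut.conj hh • y : ↥(A ⊔ K)) : G) ∈ A := h2
    exact h3
  have hmem : (hh : G) ∈ ((A ⊔ K : Subgroup G) : Set G) := hh.2
  rw [Subgroup.mul_normal A K] at hmem
  obtain ⟨a, ha, k, hk, hak⟩ := Set.mem_mul.mp hmem
  refine ⟨k, hk, fun x => ?_⟩
  have h1 := hconj ⟨β x, hBH ⟨x, rfl⟩⟩ ⟨x, rfl⟩
  have h2 : k * β x * k⁻¹ ∈ A := by
    have h3 : k * β x * k⁻¹ = a⁻¹ * ((hh : G) * β x * (hh : G)⁻¹) * a := by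
      rw [← hak]; group
    rw [h3]
    exact A.mul_mem (A.mul_mem (A.inv_mem ha) h1) ha
  have hcA : (α x)⁻¹ * (k * β x * k⁻¹) ∈ A := A.mul_mem (A.inv_mem ⟨x, rfl⟩) h2
  have hcK : (α x)⁻¹ * (k * β x * k⁻¹) ∈ K := by
    have h4 : (α x)⁻¹ * (k * β x * k⁻¹) = ((α x)⁻¹ * k * ((α x)⁻¹)⁻¹) * ((α x)⁻¹ * β x) * k⁻¹ := by group
    rw [h4]
    exact K.mul_mem (K.mul_mem (hKn.conj_mem k hk _) (h x)) (K.inv_mem hk)
  have hc := hAK _ hcA hcK
  calc α x = α x * ((α x)⁻¹ * (k * β x * k⁻¹)) := by rw [hc, mul_one]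
    _ = k * β x * k⁻¹ := by group

variable {Ω : Type u} [Group Ω] {S : Subgroup Ω} {G : Type v} [Group G]

theorem model_quotient [Finite S] [Finite G] (p : ℕ) [Fact p.Prime] (hS : IsPGroup p S)
    (F : FusionSystem S) (ι : S →* G) (hreal : F.IsRealizedBy ι) (T : Sylow p G)
    (hT : (T : Subgroup G) = ι.range) (hps : IsPSolvable p G) :
    haveI := Cfsg.Agent.Lib.Helper24.pPrimeCore_normal' (G := G) p
    F.IsModel p (G ⧸ pPrimeCore p G) ((QuotientGroup.mk' (pPrimeCore p G)).comp ι) ∧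
      IsPSolvable p (G ⧸ pPrimeCore p G) := by
  haveI hKn := Cfsg.Agent.Lib.Helper24.pPrimeCore_normal' (G := G) p
  set K := pPrimeCore p G with hKdef
  have hK : (Nat.card K).Coprime p := Cfsg.Agent.Lib.Helper12.pPrimeCore_coprime p
  have hsurj : Function.Surjective (QuotientGroup.mk' K) := QuotientGroup.mk'_surjective K
  have hpsq : IsPSolvable p (G ⧸ K) :=
    Cfsg.Agent.Lib.Helper24.isPSolvable_of_surjective p (QuotientGroup.mk' K) hsurj hps
  obtain ⟨hinj, hreal'⟩ := hreal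
  have hTp : IsPGroup p ι.range := hT ▸ T.isPGroup'
  -- injectivity of the composite
  have hinj' : Function.Injective ((QuotientGroup.mk' K).comp ι) := by
    rw [injective_iff_map_eq_one]
    intro s hs
    have h1 : ι s ∈ K := by
      have : (QuotientGroup.mk' K) (ι s) = 1 := hs
      rwa [QuotientGroup.mk'_apply, QuotientGroup.eq_one_iff] at this
    have h2 : ι s = 1 := by
      apply Cfsg.Agent.Lib.Helper16.eq_one_of_mem_pgroup_of_coprime hTp ⟨s, rfl⟩
      have h3 : orderOf (ι s) ∣ Nat.card K := by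
        have := orderOf_dvd_natCard (⟨ι s, h1⟩ : K)
        rwa [Subgroup.orderOf_mk] at this
      exact Nat.Coprime.coprime_dvd_left h3 hK
    exact (injective_iff_map_eq_one ι).mp hinj s h2
  refine ⟨⟨inferInstance, ⟨hinj', ?_⟩, ?_, ?_⟩, hpsq⟩
  · intro P hP φ hφ
    constructor
    · intro hφF
      obtain ⟨g, hg⟩ := (hreal' P hP φ hφ).mp hφF
      refine ⟨QuotientGroup.mk' K g, fun x => ?_⟩
      show (QuotientGroup.mk' K) (ι ⟨φ x, hφ x⟩) = _
      rw [hg x, map_mul, map_mul, map_inv]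
      rfl
    · rintro ⟨gb, hgb⟩
      obtain ⟨g, rfl⟩ := hsurj gb
      have hPp : IsPGroup p P := by
        intro x
        obtain ⟨k, hk⟩ := hS ⟨x, hP x.2⟩
        refine ⟨k, Subtype.ext ?_⟩
        have := congrArg Subtype.val hk
        simpa using this
      set α : P →* G := ι.comp (φ.codRestrict S hφ) with hα
      set β : P →* G := (MulAut.conj g).toMonoidHom.comp (ι.comp (Subgroup.inclusion hP)) with hβ
      have hmod : ∀ x, (α x)⁻¹ * β x ∈ K := by
        intro x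
        have h1 := hgb x
        have h2 : (QuotientGroup.mk' K) (α x) = (QuotientGroup.mk' K) (β x) := by
          show (QuotientGroup.mk' K) (ι ⟨φ x, hφ x⟩) = (QuotientGroup.mk' K) (g * ι ⟨x, hP x.2⟩ * g⁻¹)
          rw [map_mul, map_mul, map_inv]
          exact h1
        rw [QuotientGroup.mk'_apply, QuotientGroup.mk'_apply, QuotientGroup.eq] at h2
        exact h2
      obtain ⟨k, hk, hkx⟩ := exists_conj_of_mod K hK hPp α β hmod
      refine (hreal' P hP φ hφ).mpr ⟨k * g, fun x => ?_⟩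
      have := hkx x
      show ι ⟨φ x, hφ x⟩ = k * g * ι ⟨x, hP x.2⟩ * (k * g)⁻¹
      have h3 : α x = ι ⟨φ x, hφ x⟩ := rfl
      have h4 : β x = g * ι ⟨x, hP x.2⟩ * g⁻¹ := rfl
      rw [← h3, this, h4]
      group
  · refine ⟨T.mapSurjective hsurj, ?_⟩
    rw [Sylow.coe_mapSurjective, hT, MonoidHom.map_range]
  · apply Cfsg.Agent.Lib.Helper12.centralizer_pCore_le_pCore p hpsq
    exact Cfsg.Agent.Lib.Helper24.pPrimeCore_quotient_eq_bot' p

end Cfsg.Agent.Lib.Helper27.ModelQuot
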