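import Cfsg.Agent.Lib.Helper27.ModelPSolv
import Cfsg.Agent.Lib.Helper27.FMEmbed2
import Cfsg.Agent.Lib.Helper16.PCore

/-!
helper27: in a model `G` of `F`, the pull-back of `O_p(G)` is radical in `F`; models along an equality of
underlying subgroups; a normal subgroup is fully normalized.
-/

set_option autoImplicit false
set_option linter.unusedSectionVars false
set_option linter.unusedVariables false

namespace Cfsg.Agent.Lib.Helper27.ModelRad

open Cfsg Cfsg.FusionSystem Cfsg.Agent.Lib.Helper26 Cfsg.Agent.Lib.Helper27.ModelPSolv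

universe u v

variable {Ω : Type u} [Group Ω] {S : Subgroup Ω} {G : Type v} [Group G]

/-- `O_p` of the image of `G` in `Aut(N)` is `Inn(N)` when `N` is a normal self-centralizing `p`-subgroup
containing every normal `p`-subgroup. -/
theorem pCore_conjNormal_range [Finite G] (p : ℕ) [Fact p.Prime]
    (hcent : Subgroup.centralizer ((pCore p G : Subgroup G) : Set G) ≤ pCore p G) :
    haveI : (pCore p G).Normal := Cfsg.Agent.Lib.Helper24.pCore_normal' p
    (pCore p ↥(MulAut.conjNormal (H := pCore p G)).range).map (MulAut.conjNormal (H := pCore p G)).range.subtype =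
      Inn ↥(pCore p G) := by
  haveI hOn : (pCore p G).Normal := Cfsg.Agent.Lib.Helper24.pCore_normal' p
  set O := pCore p G with hOdef
  have hOp : IsPGroup p O := Cfsg.Agent.Lib.Helper16.pCore_isPGroup
  set κ : G →* MulAut ↥O := MulAut.conjNormal (H := O) with hκdef
  have hker : κ.ker ≤ O := by
    intro g hg
    apply hcent
    rw [Subgroup.mem_centralizer_iff]
    intro n hn
    have h1 : κ g ⟨n, hn⟩ = ⟨n, hn⟩ := by
      rw [MonoidHom.mem_ker.mp hg]
      rfl
    have h2 := congrArg Subtype.val h1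
    rw [hκdef, MulAut.conjNormal_apply] at h2
    calc n * g = (g * n * g⁻¹) * g := by rw [h2]
      _ = g * n := by group
  have hconj : ∀ x : ↥O, (MulAut.conj x : MulAut ↥O) = κ (x : G) := by
    intro x
    ext y
    rw [hκdef, MulAut.conjNormal_apply]
    simp [MulAut.conj_apply]
  apply le_antisymm
  · -- the preimage of `O_p(range)` is a normal `p`-subgroup
    rintro _ ⟨⟨β, hβr⟩, hβ, rfl⟩
    have hYp : IsPGroup p ((pCore p ↥κ.range).comap κ.rangeRestrict) := by
      apply IsPGroup.comap_of_ker_isPGroup Cfsg.Agent.Lib.Helper16.pCore_isPGroup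
      rw [MonoidHom.ker_rangeRestrict]
      exact hOp.to_le hker
    have hYn : ((pCore p ↥κ.range).comap κ.rangeRestrict).Normal := by
      haveI : (pCore p ↥κ.range).Normal := Cfsg.Agent.Lib.Helper24.pCore_normal' p
      infer_instance
    have hYO : (pCore p ↥κ.range).comap κ.rangeRestrict ≤ O := Cfsg.Agent.Lib.Helper16.le_pCore hYn hYp
    obtain ⟨g, hg⟩ := hβr
    have hgY : g ∈ (pCore p ↥κ.range).comap κ.rangeRestrict := by
      rw [Subgroup.mem_comap]
      have : κ.rangeRestrict g = ⟨β, ⟨g, hg⟩⟩ := Subtype.ext hg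
      rw [this]
      exact hβ
    refine ⟨⟨g, hYO hgY⟩, ?_⟩
    rw [hconj]
    exact hg
  · rintro _ ⟨x, rfl⟩
    have hmem : κ (x : G) ∈ κ.range := ⟨_, rfl⟩
    refine ⟨⟨κ (x : G), hmem⟩, ?_, (hconj x).symm⟩
    have hIn : (O.map κ.rangeRestrict).Normal :=
      Subgroup.Normal.map hOn _ κ.rangeRestrict_surjective
    have hIp : IsPGroup p (O.map κ.rangeRestrict) := hOp.map _
    exact Cfsg.Agent.Lib.Helper16.le_pCore hIn hIp ⟨x, x.2, rfl⟩

/-- In a model, the pull-back of `O_p` is radical. -/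
theorem isRadical_pullSub_pCore [Finite S] (p : ℕ) [Fact p.Prime] (hS : IsPGroup p S) (F : FusionSystem S)
    (ι : S →* G) (hG : F.IsModel p G ι) : F.IsRadical p (pullSub ι (pCore p G)) := by
  obtain ⟨hfin, hreal, ⟨T, hT⟩, hcent⟩ := hG
  haveI := hfin
  haveI hOn : (pCore p G).Normal := Cfsg.Agent.Lib.Helper24.pCore_normal' p
  have hOT : pCore p G ≤ ι.range := hT ▸ Cfsg.Agent.Lib.Helper16.pCore_le_sylow T
  refine ⟨pullSub_le ι _, ?_⟩
  set R := pullSub ι (pCore p G) with hRdef
  set E := eQ ι hreal.1 (pCore p G) hOT with hEdef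
  set c : MulAut ↥R ≃* MulAut ↥(pCore p G) := MulAut.congr E with hcdef
  have hmap := map_autGroup_eq_range F ι hreal (pCore p G) hOT
  have hGT := pCore_conjNormal_range (G := G) p hcent
  -- transport along `c`
  apply Subgroup.map_injective (f := c.toMonoidHom) c.injective
  -- right-hand side
  have hR : (Inn ↥R).map c.toMonoidHom = Inn ↥(pCore p G) := by
    ext β
    constructor
    · rintro ⟨_, ⟨x, rfl⟩, rfl⟩
      refine ⟨E x, ?_⟩
      refine MulEquiv.ext (fun y => ?_)
      show _ = E (MulAut.conj x (E.symm y))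
      simp [MulAut.conj_apply]
    · rintro ⟨y, rfl⟩
      refine ⟨MulAut.conj (E.symm y), ⟨_, rfl⟩, ?_⟩
      refine MulEquiv.ext (fun z => ?_)
      show E (MulAut.conj (E.symm y) (E.symm z)) = _
      simp [MulAut.conj_apply]
  rw [hR, ← hGT]
  -- left-hand side
  set A := F.autGroup R with hAdef
  let e₁ : ↥A ≃* ↥(A.map c.toMonoidHom) := A.equivMapOfInjective c.toMonoidHom c.injective
  let e₂ : ↥(A.map c.toMonoidHom) ≃* ↥(MulAut.conjNormal (H := pCore p G)).range := MulEquiv.subgroupCongr hmap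
  let e : ↥A ≃* ↥(MulAut.conjNormal (H := pCore p G)).range := e₁.trans e₂
  have he : ∀ a : ↥A, ((e a : ↥(MulAut.conjNormal (H := pCore p G)).range) : MulAut ↥(pCore p G)) = c a := by
    intro a
    rfl
  have hpc := Cfsg.Agent.Lib.Helper16.pCore_map_equiv (p := p) e
  rw [← hpc]
  ext β
  constructor
  · rintro ⟨_, ⟨a, ha, rfl⟩, rfl⟩
    exact ⟨e a, ⟨a, ha, rfl⟩, (he a)⟩
  · rintro ⟨_, ⟨a, ha, rfl⟩, rfl⟩
    exact ⟨(a : MulAut ↥R), ⟨a, ha, rfl⟩, (he a).symm⟩

end Cfsg.Agent.Lib.Helper27.ModelRad
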