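import Mathlib
import Cfsg.Prelude.Def_GeometricClasses
import Cfsg.Agent.Lib.Helper11.MonoDefs
import Cfsg.Agent.Lib.Helper7.MonoMB
import Cfsg.Agent.Lib.Helper27.MonoG34core

/-!
S5634, case m = 1 (helper11's market), leaves MG3 + MG4 (helper27), exact signatures.
-/

set_option autoImplicit false

namespace Cfsg.Agent.Lib.Helper27.MonoLeaf
open Matrix Cfsg.Agent.Lib.Helper11.Mono

variable {F : Type*} [Field F] [Fintype F] {ι : Type} [Fintype ι] [DecidableEq ι]

/-- MG3 -/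
theorem hasTransv_of_block_transv (h5 : 5 ≤ Fintype.card ι) (hq : 3 ≤ Fintype.card F)
    (M : Subgroup (GL ι F)) (hMS : M ≤ Cfsg.Geo.specialLinear ι F) (hH : ContainsH M)
    (r : ι) (g : GL ι F) (hg : g ∈ M) (hcol : ColAt (g : Matrix ι ι F) r r)
    (i j : {k : ι // k ≠ r}) (hij : i ≠ j) (ξ : F) (hξ : ξ ≠ 0)
    (hblk : (g : Matrix ι ι F).submatrix Subtype.val Subtype.val = Matrix.transvection i j ξ) :
    HasTransv M :=
  hasTransv_of_block_transv_of h5 hq M
    (fun y hy r hrow hrr hne =>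
      Cfsg.Agent.Lib.Helper7.MonoLeaf.hasTransv_of_row (by omega) hq M hH y hy r hrow hrr hne)
    hMS hH r g hg hcol i j hij ξ hξ hblk

/-- MG4 -/
theorem isMono_or_hasTransv_of_block_mono (h4 : 4 ≤ Fintype.card ι) (hq : 3 ≤ Fintype.card F)
    (M : Subgroup (GL ι F)) (hMS : M ≤ Cfsg.Geo.specialLinear ι F) (hH : ContainsH M)
    (r : ι) (g : GL ι F) (hg : g ∈ M) (hcol : ColAt (g : Matrix ι ι F) r r)
    (hblk : IsMono ((g : Matrix ι ι F).submatrix (Subtype.val : {k : ι // k ≠ r} → ι) Subtype.val)) :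
    IsMono (g : Matrix ι ι F) ∨ HasTransv M :=
  isMono_or_hasTransv_of_block_mono_of M
    (fun y hy r hrow hrr hne =>
      Cfsg.Agent.Lib.Helper7.MonoLeaf.hasTransv_of_row h4 hq M hH y hy r hrow hrr hne)
    hMS hH r g hg hcol hblk

end Cfsg.Agent.Lib.Helper27.MonoLeaf
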