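import Mathlib
import Cfsg.Prelude.Def_OddOrderLocal

/-!
# Narrow `p`-groups (B&G §5), part A (helper27)

From the structural form of narrowness (`C_R(R₀) = R₀ × R₁`, `|R₀| = p`, `R₁` cyclic) we build the
subgroup `E = Ω₁(C_R(R₀))`: elementary abelian of order `p ^ 2`, contained in no larger elementary
abelian subgroup, and containing every element of order dividing `p` of `C_R(R₀)`.
-/

set_option autoImplicit false
set_option linter.style.haveILetI false
set_option linter.unusedSectionVars false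

namespace Cfsg.Agent.Lib.Helper27.NarrowA

open Cfsg

variable {R : Type*} [Group R]

/-- The structural form of narrowness. -/
structure NData (p : ℕ) (R₀ R₁ : Subgroup R) : Prop where
  card0 : Nat.card R₀ = p
  cyc : IsCyclic R₁
  disj : R₀ ⊓ R₁ = ⊥
  comm : ∀ a ∈ R₀, ∀ b ∈ R₁, a * b = b * a
  sup : R₀ ⊔ R₁ = Subgroup.centralizer (R₀ : Set R)

variable {p : ℕ} [hp : Fact p.Prime] {R₀ R₁ : Subgroup R}

theorem NData.commute (h : NData p R₀ R₁) (a : R₀) (b : R₁) :
    Commute (R₀.subtype a) (R₁.subtype b) := by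
  show (a : R) * (b : R) = (b : R) * (a : R)
  exact h.comm a a.2 b b.2

/-- the product map `R₀ × R₁ → R`. -/
noncomputable def NData.phi (h : NData p R₀ R₁) : R₀ × R₁ →* R :=
  R₀.subtype.noncommCoprod R₁.subtype h.commute

theorem NData.phi_apply (h : NData p R₀ R₁) (u : R₀ × R₁) : h.phi u = (u.1 : R) * (u.2 : R) := by
  unfold NData.phi
  rw [MonoidHom.noncommCoprod_apply]
  rfl

theorem NData.phi_range (h : NData p R₀ R₁) :
    h.phi.range = Subgroup.centralizer (R₀ : Set R) := by
  unfold NData.phi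
  rw [MonoidHom.noncommCoprod_range, Subgroup.range_subtype, Subgroup.range_subtype, h.sup]

theorem NData.phi_injective (h : NData p R₀ R₁) : Function.Injective h.phi := by
  unfold NData.phi
  rw [MonoidHom.noncommCoprod_injective]
  refine ⟨Subtype.val_injective, Subtype.val_injective, ?_⟩
  rw [Subgroup.range_subtype, Subgroup.range_subtype, disjoint_iff, h.disj]

include hp in
theorem NData.cyc0 (h : NData p R₀ R₁) : IsCyclic R₀ :=
  isCyclic_of_prime_card h.card0

include hp in
theorem NData.prod_comm (h : NData p R₀ R₁) (u v : R₀ × R₁) : u * v = v * u := by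
  haveI := h.cyc0
  haveI := h.cyc
  ext
  · simp only [Prod.fst_mul, Subgroup.coe_mul]
    exact congrArg Subtype.val ((IsCyclic.isMulCommutative (α := R₀)).is_comm.comm u.1 v.1)
  · simp only [Prod.snd_mul, Subgroup.coe_mul]
    exact congrArg Subtype.val ((IsCyclic.isMulCommutative (α := R₁)).is_comm.comm u.2 v.2)

include hp in
/-- `C_R(R₀)` is commutative. -/
theorem NData.centralizer_comm (h : NData p R₀ R₁) {x y : R}
    (hx : x ∈ Subgroup.centralizer (R₀ : Set R)) (hy : y ∈ Subgroup.centralizer (R₀ : Set R)) :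
    x * y = y * x := by
  rw [← h.phi_range] at hx hy
  obtain ⟨u, rfl⟩ := hx
  obtain ⟨v, rfl⟩ := hy
  rw [← map_mul, ← map_mul, h.prod_comm]

include hp in
theorem NData.le_centralizer (h : NData p R₀ R₁) : R₀ ≤ Subgroup.centralizer (R₀ : Set R) := by
  rw [← h.sup]; exact le_sup_left

/-- `E = Ω₁(C_R(R₀))`. -/
def NData.E (h : NData p R₀ R₁) : Subgroup R where
  carrier := {x | x ∈ Subgroup.centralizer (R₀ : Set R) ∧ x ^ p = 1}
  one_mem' := ⟨Subgroup.one_mem _, one_pow _⟩
  mul_mem' := by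
    rintro x y ⟨hx, hxp⟩ ⟨hy, hyp⟩
    refine ⟨Subgroup.mul_mem _ hx hy, ?_⟩
    have hc : Commute x y := h.centralizer_comm hx hy
    rw [hc.mul_pow, hxp, hyp, one_mul]
  inv_mem' := by
    rintro x ⟨hx, hxp⟩
    exact ⟨Subgroup.inv_mem _ hx, by rw [inv_pow, hxp, inv_one]⟩

theorem NData.mem_E (h : NData p R₀ R₁) {x : R} :
    x ∈ h.E ↔ x ∈ Subgroup.centralizer (R₀ : Set R) ∧ x ^ p = 1 := Iff.rfl

include hp in
theorem NData.E_elemAb (h : NData p R₀ R₁) : Cfsg.IsElementaryAbelian p h.E := by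
  refine ⟨⟨⟨?_⟩⟩, fun a ha => ha.2⟩
  rintro ⟨a, ha⟩ ⟨b, hb⟩
  exact Subtype.ext (h.centralizer_comm ha.1 hb.1)

include hp in
theorem NData.R₀_le_E (h : NData p R₀ R₁) : R₀ ≤ h.E := by
  intro x hx
  refine ⟨h.le_centralizer hx, ?_⟩
  have h1 : (⟨x, hx⟩ : R₀) ^ Nat.card R₀ = 1 := pow_card_eq_one'
  rw [h.card0] at h1
  exact congrArg Subtype.val h1

include hp in
/-- `E` is contained in no larger elementary abelian subgroup. -/
theorem NData.E_max (h : NData p R₀ R₁) (B : Subgroup R) (hB : Cfsg.IsElementaryAbelian p B)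
    (hEB : h.E ≤ B) : B = h.E := by
  apply le_antisymm _ hEB
  intro x hx
  refine ⟨?_, hB.2 x hx⟩
  rw [Subgroup.mem_centralizer_iff]
  intro r hr
  have hrB : r ∈ B := hEB (h.R₀_le_E hr)
  exact congrArg Subtype.val (hB.1.is_comm.comm ⟨r, hrB⟩ ⟨x, hx⟩)

include hp in
theorem NData.card_E_le [Finite R] (h : NData p R₀ R₁) : Nat.card h.E ≤ p ^ 2 := by
  classical
  have hpp : p.Prime := hp.out
  haveI := h.cyc
  -- surjection from `R₀ × {r // r^p = 1}`
  let f : R₀ × {r : R₁ // r ^ p = 1} → h.E := fun u =>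
    ⟨h.phi (u.1, u.2.1), by
      constructor
      · rw [← h.phi_range]; exact ⟨_, rfl⟩
      · rw [← map_pow]
        have h1 : ((u.1, u.2.1) : R₀ × R₁) ^ p = 1 := by
          ext
          · simp only [Prod.pow_fst, Prod.fst_one]
            have h2 : (u.1 : R₀) ^ Nat.card R₀ = 1 := pow_card_eq_one'
            rw [h.card0] at h2
            rw [h2]
          · simp only [Prod.pow_snd, Prod.snd_one]
            rw [u.2.2]
        rw [h1, map_one]⟩
  have hf : Function.Surjective f := by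
    rintro ⟨x, hx, hxp⟩
    rw [← h.phi_range] at hx
    obtain ⟨u, rfl⟩ := hx
    have h1 : u ^ p = 1 := by
      apply h.phi_injective
      rw [map_pow, hxp, map_one]
    have h2 : u.2 ^ p = 1 := by
      have := congrArg Prod.snd h1
      simpa using this
    exact ⟨(u.1, ⟨u.2, h2⟩), rfl⟩
  have h3 := Nat.card_le_card_of_surjective f hf
  rw [Nat.card_prod, h.card0] at h3
  have h4 : Nat.card {r : R₁ // r ^ p = 1} ≤ p := by
    haveI : Fintype R₁ := Fintype.ofFinite _
    rw [Nat.card_eq_fintype_card, Fintype.card_subtype]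
    exact IsCyclic.card_pow_eq_one_le hpp.pos
  calc Nat.card h.E ≤ p * Nat.card {r : R₁ // r ^ p = 1} := h3
    _ ≤ p * p := Nat.mul_le_mul_left _ h4
    _ = p ^ 2 := by ring

end Cfsg.Agent.Lib.Helper27.NarrowA
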