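import Mathlib
import Cfsg.Agent.Lib.Helper27.NarrowA
import Cfsg.Agent.S1453

/-!
# Narrow `p`-groups (B&G §5), part B (helper27)

For a narrow `p`-group `R` of rank at least 3 (`p` odd): `|E| = p ^ 2`, and the characteristic
subgroup `T` of index `p` (from S1453 = B&G 5.2) satisfies: every subgroup of exponent `p` of
`T ∩ C_R(R₀)` has order at most `p`.
-/

set_option autoImplicit false
set_option linter.style.haveILetI false
set_option linter.unusedSectionVars false

namespace Cfsg.Agent.Lib.Helper27.NarrowA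

open Cfsg

variable {R : Type*} [Group R] [Finite R] {p : ℕ} [hp : Fact p.Prime] {R₀ R₁ : Subgroup R}

theorem NData.R₁_ne_bot (h : NData p R₀ R₁) (hR : IsPGroup p R) (hr : ¬ Cfsg.PRankLE p 2 R) :
    R₁ ≠ ⊥ := by
  have hpp : p.Prime := hp.out
  intro h1
  have hC : Subgroup.centralizer (R₀ : Set R) = R₀ := by rw [← h.sup, h1, sup_bot_eq]
  have hnt : Nontrivial R := by
    by_contra hnt
    rw [not_nontrivial_iff_subsingleton] at hnt
    apply hr
    intro A _ _
    have : Nat.card A = 1 := Nat.card_unique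
    rw [this]
    exact Nat.one_le_pow _ _ hpp.pos
  have hZ : Subgroup.center R ≤ R₀ := by
    rw [← hC]; exact Subgroup.center_le_centralizer _
  have hZ1 : Subgroup.center R ≠ ⊥ := (hR.bot_lt_center).ne'
  have hZeq : Subgroup.center R = R₀ := by
    apply Subgroup.eq_of_le_of_card_ge hZ
    rw [h.card0]
    obtain ⟨k, hk⟩ := (hR.to_subgroup (Subgroup.center R)).exists_card_eq
    rw [hk]
    rcases Nat.eq_zero_or_pos k with h0 | h0
    · exfalso
      rw [h0, pow_zero] at hk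
      exact hZ1 (Subgroup.card_eq_one.mp hk)
    · exact Nat.le_self_pow (by omega) p
  have htop : Subgroup.centralizer (R₀ : Set R) = ⊤ := by
    rw [Subgroup.centralizer_eq_top_iff_subset, ← hZeq]
  rw [hC] at htop
  apply hr
  intro A _ _
  calc Nat.card A ≤ Nat.card R := Subgroup.card_le_card_group A
    _ = Nat.card R₀ := by rw [htop, Subgroup.card_top]
    _ = p := h.card0
    _ ≤ p ^ 2 := Nat.le_self_pow (by norm_num) p

theorem NData.card_E (h : NData p R₀ R₁) (hR : IsPGroup p R) (hr : ¬ Cfsg.PRankLE p 2 R) :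
    Nat.card h.E = p ^ 2 := by
  have hpp : p.Prime := hp.out
  apply le_antisymm h.card_E_le
  have h1 := h.R₁_ne_bot hR hr
  have hR₁p : IsPGroup p R₁ := hR.to_subgroup R₁
  have hdvd : p ∣ Nat.card R₁ := by
    obtain ⟨k, hk⟩ := hR₁p.exists_card_eq
    rcases Nat.eq_zero_or_pos k with h0 | h0
    · exfalso
      rw [h0, pow_zero] at hk
      exact h1 (Subgroup.card_eq_one.mp hk)
    · rw [hk]; exact dvd_pow_self p (by omega)
  obtain ⟨ω, hω⟩ := exists_prime_orderOf_dvd_card' p hdvd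
  have hωE : (ω : R) ∈ h.E := by
    refine ⟨?_, ?_⟩
    · rw [← h.sup]; exact Subgroup.mem_sup_right ω.2
    · have : ω ^ p = 1 := by rw [← hω]; exact pow_orderOf_eq_one ω
      have := congrArg Subtype.val this
      simpa using this
  have hωR₀ : (ω : R) ∉ R₀ := by
    intro hmem
    have h2 : (ω : R) ∈ R₀ ⊓ R₁ := ⟨hmem, ω.2⟩
    rw [h.disj, Subgroup.mem_bot] at h2
    have h3 : ω = 1 := Subtype.ext h2
    rw [h3, orderOf_one] at hω
    exact hpp.one_lt.ne hω
  have hlt : R₀ < h.E := lt_of_le_of_ne h.R₀_le_E (fun heq => hωR₀ (heq ▸ hωE))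
  obtain ⟨k, hk⟩ := (hR.to_subgroup h.E).exists_card_eq
  have hcardlt : Nat.card R₀ < Nat.card h.E := by
    by_contra hge
    push Not at hge
    exact hlt.ne (Subgroup.eq_of_le_of_card_ge hlt.le hge)
  rw [h.card0, hk] at hcardlt
  rw [hk]
  have hk2 : 2 ≤ k := by
    by_contra hk2
    push Not at hk2
    have : p ^ k ≤ p ^ 1 := Nat.pow_le_pow_right hpp.pos (by omega)
    rw [pow_one] at this
    omega
  exact Nat.pow_le_pow_right hpp.pos hk2

/-- The characteristic subgroup `T = C_R(Ω₁(Z₂(R)))`. -/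
def tSub (p : ℕ) (R : Type*) [Group R] : Subgroup R :=
  Subgroup.centralizer
    ((Subgroup.closure {x : R | x ∈ Subgroup.upperCentralSeries R 2 ∧ x ^ p = 1} : Subgroup R) : Set R)

theorem NData.tSub_spec (h : NData p R₀ R₁) (hp2 : p ≠ 2) (hR : IsPGroup p R)
    (hr : ¬ Cfsg.PRankLE p 2 R) :
    ¬ h.E ≤ tSub p R ∧ (tSub p R).Characteristic ∧ (tSub p R).index = p := by
  obtain ⟨h1, -, -, h4, h5⟩ := Cfsg.Agent.S1453.result p hp2 hR hr h.E h.E_elemAb (h.card_E hR hr)
    h.E_max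
  exact ⟨h1, h4, h5⟩

/-- Subgroups of exponent `p` of `T ∩ C_R(R₀)` have order at most `p`. -/
theorem NData.card_le_of_le_tSub (h : NData p R₀ R₁) (hp2 : p ≠ 2) (hR : IsPGroup p R)
    (hr : ¬ Cfsg.PRankLE p 2 R) (X : Subgroup R) (hXT : X ≤ tSub p R)
    (hXC : X ≤ Subgroup.centralizer (R₀ : Set R)) (hXp : ∀ x ∈ X, x ^ p = 1) :
    Nat.card X ≤ p := by
  have hpp : p.Prime := hp.out
  obtain ⟨h1, -, -⟩ := h.tSub_spec hp2 hR hr
  have hXE : X ≤ h.E ⊓ tSub p R := fun x hx => ⟨⟨hXC hx, hXp x hx⟩, hXT hx⟩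
  have h2 : Nat.card ↥(h.E ⊓ tSub p R) ∣ p ^ 2 := by
    rw [← h.card_E hR hr]
    exact Subgroup.card_dvd_of_le inf_le_left
  obtain ⟨k, hk, hk'⟩ := (Nat.dvd_prime_pow hpp).mp h2
  have hk1 : k ≤ 1 := by
    by_contra hk1
    have hk2 : k = 2 := by omega
    apply h1
    have : h.E ⊓ tSub p R = h.E := by
      apply Subgroup.eq_of_le_of_card_ge inf_le_left
      rw [hk', hk2, h.card_E hR hr]
    rw [← this]
    exact inf_le_right
  calc Nat.card X ≤ Nat.card ↥(h.E ⊓ tSub p R) := Subgroup.card_le_of_le hXE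
    _ = p ^ k := hk'
    _ ≤ p ^ 1 := Nat.pow_le_pow_right hpp.pos hk1
    _ = p := pow_one p

end Cfsg.Agent.Lib.Helper27.NarrowA
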