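import Mathlib
import Cfsg.Agent.Lib.Helper27.NarrowB
import Cfsg.Agent.Lib.Helper17.SecAut

/-!
# Narrow `p`-groups (B&G §5), part C (helper27): cyclic steps

`D` a normal subgroup of exponent `p`, `T` normal, `a ∈ R` such that every subgroup of exponent `p`
of `T ∩ C_R(a)` has order at most `p`.  Then consecutive terms of the series
`D ⊓ T ⊓ Z_i(R)` have relative index dividing `p`.
-/

set_option autoImplicit false
set_option linter.style.haveILetI false
set_option linter.unusedSectionVars false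

namespace Cfsg.Agent.Lib.Helper27.NarrowA

open Cfsg Cfsg.Agent.Lib.Helper17

section Cyc

variable {G : Type*} [Group G]

theorem cycStep_of_relIndex_dvd {p : ℕ} [hp : Fact p.Prime] {M N : Subgroup G} (hMN : M ≤ N)
    [hn : (M.subgroupOf N).Normal] (h : M.relIndex N ∣ p) : CycStep p M N := by
  have hcard : Nat.card (N ⧸ M.subgroupOf N) ∣ p := by
    rw [← Subgroup.index_eq_card]; exact h
  haveI : IsCyclic (N ⧸ M.subgroupOf N) := isCyclic_of_card_dvd_prime hcard
  obtain ⟨g, hg⟩ := IsCyclic.exists_generator (α := N ⧸ M.subgroupOf N)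
  obtain ⟨x, rfl⟩ := QuotientGroup.mk_surjective g
  refine ⟨hMN, x, x.2, ?_, ?_⟩
  · have h1 : (QuotientGroup.mk x : N ⧸ M.subgroupOf N) ^ p = 1 := by
      obtain ⟨k, hk⟩ := hcard
      rw [hk, pow_mul, pow_card_eq_one', one_pow]
    rw [← QuotientGroup.mk_pow, QuotientGroup.eq_one_iff, Subgroup.mem_subgroupOf] at h1
    simpa using h1
  · intro y hy
    obtain ⟨k, hk⟩ := Subgroup.mem_zpowers_iff.mp (hg (QuotientGroup.mk ⟨y, hy⟩))
    refine ⟨k, ?_⟩
    rw [← QuotientGroup.mk_zpow, QuotientGroup.eq, Subgroup.mem_subgroupOf] at hk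
    simpa using hk

end Cyc

variable {R : Type*} [Group R] [Finite R] {p : ℕ} [hp : Fact p.Prime]

/-- the series `D ⊓ T ⊓ Z_i(R)`. -/
def uSer (D T : Subgroup R) (i : ℕ) : Subgroup R := D ⊓ T ⊓ Subgroup.upperCentralSeries R i

theorem uSer_mono (D T : Subgroup R) (i : ℕ) : uSer D T i ≤ uSer D T (i + 1) :=
  inf_le_inf_left _ (Subgroup.upperCentralSeries_mono R (Nat.le_succ i))

theorem uSer_zero (D T : Subgroup R) : uSer D T 0 = ⊥ := by
  unfold uSer
  rw [Subgroup.upperCentralSeries_zero, inf_bot_eq]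

instance uSer_normal (D T : Subgroup R) [D.Normal] [T.Normal] (i : ℕ) : (uSer D T i).Normal := by
  unfold uSer
  infer_instance

/-- fixed-point inequality: the step `uSer i ≤ uSer (i+1)` has relative index dividing `p`. -/
theorem uSer_relIndex_dvd (hR : IsPGroup p R) (D T : Subgroup R) [D.Normal] [T.Normal]
    (hD : ∀ x ∈ D, x ^ p = 1) (a : R)
    (hsmall : ∀ X : Subgroup R, X ≤ T → (∀ x ∈ X, x * a = a * x) → (∀ x ∈ X, x ^ p = 1) →
      Nat.card X ≤ p) (i : ℕ) :
    (uSer D T i).relIndex (uSer D T (i + 1)) ∣ p := by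
  have hpp : p.Prime := hp.out
  obtain ⟨N, hN⟩ : ∃ N : Subgroup R, N = uSer D T (i + 1) := ⟨_, rfl⟩
  obtain ⟨M, hM⟩ : ∃ M : Subgroup R, M = uSer D T i := ⟨_, rfl⟩
  have hMN : M ≤ N := by rw [hM, hN]; exact uSer_mono D T i
  rw [← hM, ← hN]
  -- the commutator map lands in `M`
  have hcomm : ∀ x ∈ N, x * a * x⁻¹ * a⁻¹ ∈ M := by
    intro x hx
    rw [hN] at hx
    rw [hM]
    obtain ⟨hxDT, hxZ⟩ := hx
    refine ⟨?_, Subgroup.mem_upperCentralSeries_succ_iff.mp hxZ a⟩
    have h1 : a * x⁻¹ * a⁻¹ ∈ D ⊓ T :=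
      (inferInstance : (D ⊓ T).Normal).conj_mem _ (Subgroup.inv_mem _ hxDT) a
    have h2 := Subgroup.mul_mem _ hxDT h1
    have e : x * (a * x⁻¹ * a⁻¹) = x * a * x⁻¹ * a⁻¹ := by group
    rwa [e] at h2
  -- the centralizer part
  obtain ⟨C, hC⟩ : ∃ C : Subgroup R, C = N ⊓ Subgroup.centralizer {a} := ⟨_, rfl⟩
  have hCcard : Nat.card C ≤ p := by
    apply hsmall C
    · intro x hx
      rw [hC, hN] at hx
      exact hx.1.1.2
    · intro x hx
      rw [hC] at hx
      exact Subgroup.mem_centralizer_singleton_iff.mp hx.2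
    · intro x hx
      rw [hC, hN] at hx
      exact hD x hx.1.1.1
  have hCN : C ≤ N := by rw [hC]; exact inf_le_left
  -- injection `N ⧸ C → M`
  let f : N → M := fun x => ⟨(x : R) * a * (x : R)⁻¹ * a⁻¹, hcomm x x.2⟩
  have hf : ∀ x y : N, (QuotientGroup.leftRel (C.subgroupOf N)) x y → f x = f y := by
    intro x y hxy
    rw [QuotientGroup.leftRel_apply, Subgroup.mem_subgroupOf, hC] at hxy
    have h1 := Subgroup.mem_centralizer_singleton_iff.mp hxy.2
    apply Subtype.ext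
    show (x : R) * a * (x : R)⁻¹ * a⁻¹ = (y : R) * a * (y : R)⁻¹ * a⁻¹
    have h2 : ((x⁻¹ * y : N) : R) = (x : R)⁻¹ * (y : R) := by push_cast; rfl
    rw [h2] at h1
    have h3 : (y : R) * a * (y : R)⁻¹ = (x : R) * a * (x : R)⁻¹ := by
      calc (y : R) * a * (y : R)⁻¹ = (x : R) * ((x : R)⁻¹ * (y : R) * a) * (y : R)⁻¹ := by group
        _ = (x : R) * (a * ((x : R)⁻¹ * (y : R))) * (y : R)⁻¹ := by rw [h1]
        _ = (x : R) * a * (x : R)⁻¹ := by group
    rw [h3]
  let F : N ⧸ C.subgroupOf N → M := fun q => Quotient.liftOn' q f hf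
  have hF : Function.Injective F := by
    intro q₁ q₂
    induction q₁ using QuotientGroup.induction_on with
    | H x =>
    induction q₂ using QuotientGroup.induction_on with
    | H y =>
    intro hxy
    have h1 : f x = f y := hxy
    have h2 : (x : R) * a * (x : R)⁻¹ * a⁻¹ = (y : R) * a * (y : R)⁻¹ * a⁻¹ :=
      congrArg Subtype.val h1
    rw [QuotientGroup.eq, Subgroup.mem_subgroupOf, hC]
    refine ⟨N.mul_mem (N.inv_mem x.2) y.2, ?_⟩
    show ((x⁻¹ * y : N) : R) ∈ Subgroup.centralizer {a}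
    rw [Subgroup.mem_centralizer_singleton_iff]
    have h3 : (x : R) * a * (x : R)⁻¹ = (y : R) * a * (y : R)⁻¹ := mul_right_cancel h2
    have h4 : ((x⁻¹ * y : N) : R) = (x : R)⁻¹ * (y : R) := by push_cast; rfl
    rw [h4]
    calc (x : R)⁻¹ * (y : R) * a = (x : R)⁻¹ * ((y : R) * a * (y : R)⁻¹) * (y : R) := by group
      _ = (x : R)⁻¹ * ((x : R) * a * (x : R)⁻¹) * (y : R) := by rw [h3]
      _ = a * ((x : R)⁻¹ * (y : R)) := by group
  have h1 : Nat.card (N ⧸ C.subgroupOf N) ≤ Nat.card M := Nat.card_le_card_of_injective F hF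
  have h2 : Nat.card N = Nat.card (N ⧸ C.subgroupOf N) * Nat.card (C.subgroupOf N) :=
    Subgroup.card_eq_card_quotient_mul_card_subgroup _
  have h3 : Nat.card (C.subgroupOf N) = Nat.card C :=
    Nat.card_congr (Subgroup.subgroupOfEquivOfLe hCN).toEquiv
  have h4 : Nat.card N ≤ Nat.card M * p := by
    rw [h2, h3]
    exact Nat.mul_le_mul h1 hCcard
  have h5 : Nat.card M * M.relIndex N = Nat.card N := by
    have := Subgroup.relIndex_mul_relIndex ⊥ M N bot_le hMN
    rwa [Subgroup.relIndex_bot_left, Subgroup.relIndex_bot_left] at this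
  have h6 : M.relIndex N ≤ p := by
    rw [← h5] at h4
    exact Nat.le_of_mul_le_mul_left h4 Nat.card_pos
  -- relIndex is a power of p
  have h7 : M.relIndex N ∣ Nat.card N := Subgroup.relIndex_dvd_card M N
  obtain ⟨k, hk⟩ := (hR.to_subgroup N).exists_card_eq
  rw [hk] at h7
  obtain ⟨j, -, hj⟩ := (Nat.dvd_prime_pow hpp).mp h7
  rw [hj] at h6 ⊢
  have hj1 : j ≤ 1 := by
    by_contra hj1
    push Not at hj1
    have : p ^ 2 ≤ p ^ j := Nat.pow_le_pow_right hpp.pos hj1
    have h8 : p ^ 2 ≤ p := this.trans h6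
    have h9 : p * p ≤ p * 1 := by rw [mul_one, ← sq]; exact h8
    have := Nat.le_of_mul_le_mul_left h9 hpp.pos
    exact absurd this (by have := hpp.one_lt; omega)
  calc p ^ j ∣ p ^ 1 := pow_dvd_pow p hj1
    _ = p := pow_one p

end Cfsg.Agent.Lib.Helper27.NarrowA
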