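import Mathlib
import Cfsg.Agent.Lib.Helper27.NarrowC
import Cfsg.Agent.Lib.Helper17.OddAutRank2
import Cfsg.Agent.Lib.Helper1.CritExtra

/-!
# Narrow `p`-groups (B&G Theorem 5.5 (a), (b)), helper27

For a narrow `p`-group `R` of rank at least 3 (`p` odd): the derived subgroup of `Aut R` is a
`p`-group and every `p'`-automorphism has order dividing `p - 1`.

Proof: `D = Ω₁` of a critical subgroup is characteristic of exponent `p` and faithful for
`p'`-automorphisms; the characteristic series `D ⊓ T ⊓ Z_i(R)`, then `D`, has all steps of order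
dividing `p` (fixed-point inequality for an element `a` with `C_R(a) = ⟨a⟩ × cyclic`).
-/

set_option autoImplicit false
set_option linter.style.haveILetI false
set_option linter.unusedSectionVars false

namespace Cfsg.Agent.Lib.Helper27.NarrowA

open Cfsg Cfsg.Agent.Lib.Helper17

variable {R : Type*} [Group R]

/-- automorphisms acting trivially on the section `N / M` (both invariant). -/
def trivSub (M N : Subgroup R) (hM : ∀ (β : MulAut R) (x : R), x ∈ M ↔ β x ∈ M)
    (hN : ∀ (β : MulAut R) (x : R), x ∈ N ↔ β x ∈ N) : Subgroup (MulAut R) where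
  carrier := {β | ∀ n ∈ N, n⁻¹ * β n ∈ M}
  one_mem' := by
    intro n _
    simp
  mul_mem' := by
    intro β γ hβ hγ n hn
    have h1 := hγ n hn
    have h2 := hβ n hn
    have h3 : β (n⁻¹ * γ n) ∈ M := (hM β _).mp h1
    have e : n⁻¹ * (β * γ) n = n⁻¹ * β n * β (n⁻¹ * γ n) := by
      rw [MulAut.mul_apply, map_mul, map_inv]
      group
    rw [e]
    exact M.mul_mem h2 h3
  inv_mem' := by
    intro β hβ n hn
    have hn' : β⁻¹ n ∈ N := by
      rw [hN β, MulAut.apply_inv_self]; exact hn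
    have h1 := hβ _ hn'
    rw [MulAut.apply_inv_self] at h1
    have h2 := M.inv_mem h1
    have e : ((β⁻¹ n)⁻¹ * n)⁻¹ = n⁻¹ * β⁻¹ n := by group
    rwa [e] at h2

theorem mem_trivSub {M N : Subgroup R} {hM : ∀ (β : MulAut R) (x : R), x ∈ M ↔ β x ∈ M}
    {hN : ∀ (β : MulAut R) (x : R), x ∈ N ↔ β x ∈ N} {β : MulAut R} :
    β ∈ trivSub M N hM hN ↔ ∀ n ∈ N, n⁻¹ * β n ∈ M := Iff.rfl

theorem char_inv {H : Subgroup R} (hH : H.Characteristic) (β : MulAut R) (x : R) :
    x ∈ H ↔ β x ∈ H := by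
  have h := Subgroup.characteristic_iff_comap_eq.mp hH β
  constructor
  · intro hx
    rw [← h] at hx
    exact hx
  · intro hx
    rw [← h]
    exact hx

variable [Finite R] {p : ℕ} [hp : Fact p.Prime]

/-- **B&G Theorem 5.5 (a), (b)** for the full automorphism group. -/
theorem narrow_aut (hp2 : p ≠ 2) (hR : IsPGroup p R) (hr : ¬ Cfsg.PRankLE p 2 R)
    (hn : Cfsg.IsNarrow p R) :
    (∀ β ∈ commutator (MulAut R), ∃ k : ℕ, β ^ (p ^ k) = 1) ∧
      (∀ β : MulAut R, (orderOf β).Coprime p → β ^ (p - 1) = 1) := by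
  classical
  have hpp : p.Prime := hp.out
  rcases hn with hn | ⟨R₀, R₁, h0, h1, h2, h3, h4⟩
  · exact absurd hn hr
  have h : NData p R₀ R₁ := ⟨h0, h1, h2, h3, h4⟩
  obtain ⟨T, hT⟩ : ∃ T : Subgroup R, T = tSub p R := ⟨_, rfl⟩
  obtain ⟨hET, hTchar, hTidx⟩ := h.tSub_spec hp2 hR hr
  rw [← hT] at hET hTchar hTidx
  haveI hTn : T.Normal := Subgroup.normal_of_characteristic T
  obtain ⟨D, hDinv, hDexp, -, hDfaith⟩ := exists_omega_critical p hp2 hR
  haveI hDn : D.Normal := by
    refine ⟨fun n hn g => ?_⟩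
    have := (hDinv (MulAut.conj g) n).mp hn
    simpa [MulAut.conj_apply] using this
  -- a generator of `R₀`
  have hnt : Nontrivial R₀ := by
    rw [← Finite.one_lt_card_iff_nontrivial, h0]
    exact hpp.one_lt
  obtain ⟨a, ha⟩ := exists_ne (1 : R₀)
  have hgen : ∀ r : R₀, r ∈ Subgroup.zpowers a := fun r => mem_zpowers_of_prime_card h0 ha
  have hsmall : ∀ X : Subgroup R, X ≤ T → (∀ x ∈ X, x * (a : R) = (a : R) * x) →
      (∀ x ∈ X, x ^ p = 1) → Nat.card X ≤ p := by
    intro X hXT hXa hXp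
    apply h.card_le_of_le_tSub hp2 hR hr X (hT ▸ hXT) _ hXp
    intro x hx
    rw [Subgroup.mem_centralizer_iff]
    intro r hr'
    obtain ⟨k, hk⟩ := Subgroup.mem_zpowers_iff.mp (hgen ⟨r, hr'⟩)
    have hk' : (a : R) ^ k = r := by
      have := congrArg Subtype.val hk
      simpa using this
    rw [← hk']
    have hc : Commute x (a : R) := hXa x hx
    exact (hc.zpow_right k).eq.symm
  -- invariance
  have hTinv : ∀ (β : MulAut R) (x : R), x ∈ T ↔ β x ∈ T := char_inv hTchar
  have hUinv : ∀ (i : ℕ) (β : MulAut R) (x : R), x ∈ uSer D T i ↔ β x ∈ uSer D T i := by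
    intro i β x
    unfold uSer
    rw [Subgroup.mem_inf, Subgroup.mem_inf, Subgroup.mem_inf, Subgroup.mem_inf, ← hDinv β x,
      ← hTinv β x, ← char_inv (inferInstance : (Subgroup.upperCentralSeries R i).Characteristic) β x]
  have hDTinv : ∀ (β : MulAut R) (x : R), x ∈ D ⊓ T ↔ β x ∈ D ⊓ T := by
    intro β x
    rw [Subgroup.mem_inf, Subgroup.mem_inf, ← hDinv β x, ← hTinv β x]
  have hDinv' : ∀ (β : MulAut R) (x : R), x ∈ D ↔ β x ∈ D := fun β x => hDinv β x
  -- the steps
  have hstep : ∀ i, CycStep p (uSer D T i) (uSer D T (i + 1)) := fun i =>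
    cycStep_of_relIndex_dvd (uSer_mono D T i)
      (uSer_relIndex_dvd hR D T hDexp (a : R) hsmall i)
  have hlast : CycStep p (D ⊓ T) D := by
    apply cycStep_of_relIndex_dvd inf_le_left
    rw [Subgroup.inf_relIndex_left, ← hTidx]
    exact Subgroup.relIndex_dvd_index_of_normal T D
  have hpres : ∀ (i : ℕ) (β : MulAut R), β ∈ presSub (uSer D T (i + 1)) (uSer D T i) :=
    fun i β => ⟨hUinv (i + 1) β, hUinv i β⟩
  have hpres' : ∀ β : MulAut R, β ∈ presSub D (D ⊓ T) := fun β => ⟨hDinv' β, hDTinv β⟩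
  -- the subgroup acting trivially on all steps
  obtain ⟨K, hK⟩ : ∃ K : Subgroup (MulAut R),
      K = (⨅ i, trivSub (uSer D T i) (uSer D T (i + 1)) (fun β x => hUinv i β x)
        (fun β x => hUinv (i + 1) β x)) ⊓ trivSub (D ⊓ T) D hDTinv hDinv' := ⟨_, rfl⟩
  have hKmem : ∀ β : MulAut R, β ∈ K ↔
      (∀ i, ∀ n ∈ uSer D T (i + 1), n⁻¹ * β n ∈ uSer D T i) ∧ ∀ n ∈ D, n⁻¹ * β n ∈ D ⊓ T := by
    intro β
    rw [hK, Subgroup.mem_inf, Subgroup.mem_iInf]
    rfl
  -- elements of `K` of order prime to `p` are trivial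
  have hKtriv : ∀ β ∈ K, (orderOf β).Coprime p → β = 1 := by
    intro β hβK hβ
    obtain ⟨hβ1, hβ2⟩ := (hKmem β).mp hβK
    have hA : ∀ i, ∀ x ∈ uSer D T i, β x = x := by
      intro i
      induction i with
      | zero =>
        intro x hx
        rw [uSer_zero, Subgroup.mem_bot] at hx
        rw [hx, map_one]
      | succ i ih =>
        intro x hx
        have hm := hβ1 i x hx
        have hfix := ih _ hm
        have h5 := Cfsg.Agent.Lib.Helper1.CritExtra.eq_one_of_fixed_of_coprime hR β hβ x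
          (x⁻¹ * β x) (by group) hfix
        exact (inv_mul_eq_one.mp h5).symm
    have hB : ∀ x ∈ D ⊓ T, β x = x := by
      intro x hx
      obtain ⟨c, hc⟩ := (hR.isNilpotent).nilpotent
      apply hA c
      unfold uSer
      rw [hc, inf_top_eq]
      exact hx
    apply hDfaith β hβ
    intro x hx
    have hm := hβ2 x hx
    have hfix := hB _ hm
    have h5 := Cfsg.Agent.Lib.Helper1.CritExtra.eq_one_of_fixed_of_coprime hR β hβ x
      (x⁻¹ * β x) (by group) hfix
    exact (inv_mul_eq_one.mp h5).symm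
  have hfinAut : Finite (MulAut R) :=
    Finite.of_injective (fun α : MulAut R => (α : R → R)) DFunLike.coe_injective
  refine ⟨?_, ?_⟩
  · -- commutators
    have hcomm : commutator (MulAut R) ≤ K := by
      rw [commutator_def, Subgroup.commutator_le]
      intro u _ v _
      rw [hKmem, commutatorElement_def]
      refine ⟨fun i => ?_, ?_⟩
      · exact commutator_triv_of_cycStep (hstep i) (hpres i u) (hpres i v)
      · exact commutator_triv_of_cycStep hlast (hpres' u) (hpres' v)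
    intro β hβ
    obtain ⟨k, m, hm, hn'⟩ := Nat.exists_eq_pow_mul_and_not_dvd (orderOf_pos β).ne' p hpp.ne_one
    refine ⟨k, ?_⟩
    have hcop : Nat.Coprime m p := ((Nat.Prime.coprime_iff_not_dvd hpp).mpr hm).symm
    have hγm : (β ^ (p ^ k)) ^ m = 1 := by rw [← pow_mul, ← hn', pow_orderOf_eq_one]
    have hγcop : (orderOf (β ^ (p ^ k))).Coprime p :=
      Nat.Coprime.coprime_dvd_left (orderOf_dvd_of_pow_eq_one hγm) hcop
    exact hKtriv _ (K.pow_mem (hcomm hβ) _) hγcop
  · intro β hβ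
    have hmem : β ^ (p - 1) ∈ K := by
      rw [hKmem]
      refine ⟨fun i => ?_, ?_⟩
      · exact pow_pred_triv_of_cycStep hpp (hstep i) (hpres i β)
      · exact pow_pred_triv_of_cycStep hpp hlast (hpres' β)
    apply hKtriv _ hmem
    exact Nat.Coprime.coprime_dvd_left (orderOf_pow_dvd (p - 1)) hβ

end Cfsg.Agent.Lib.Helper27.NarrowA
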