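import Mathlib
import Cfsg.Agent.Lib.Helper27.NilpCover

/-!
Symmetric and alternating groups have no nilpotent minimal cover (helper27).
-/

set_option autoImplicit false

namespace Cfsg.Agent.Lib.Helper27.NilpCoverSym

open Subgroup Equiv Equiv.Perm
open Cfsg.Agent.Lib.Helper27.NilpCover
open scoped Pointwise

/-- abstract criterion -/
theorem no_cover_of_pair {G : Type*} [Group G] [Finite G] (hZ : center G = ⊥) {p : ℕ}
    [Fact p.Prime] (hval : ¬ p ^ 2 ∣ Nat.card G)
    {x x' : G} (hx : x ^ p = 1) (hx' : x' ^ p = 1) (hx1 : x ≠ 1) (hx'1 : x' ≠ 1)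
    (hnc : x * x' ≠ x' * x)
    {H : Subgroup G} (hH : H ≠ ⊤) (hC : ∀ g : G, g * x = x * g → g ∈ H)
    (hC' : ∀ g : G, g * x' = x' * g → g ∈ H)
    (𝓐 : Finset (Subgroup G)) (hmin : IsMinCover 𝓐) (hnil : ∀ A ∈ 𝓐, Group.IsNilpotent ↥A) :
    False := by
  have hp : p.Prime := Fact.out
  have hab : ∀ Q : Sylow p G, ∀ a ∈ Q, ∀ b ∈ Q, a * b = b * a := by
    intro Q
    obtain ⟨k, hk⟩ := IsPGroup.iff_card.mp Q.2
    have hdvd : p ^ k ∣ Nat.card G := hk ▸ Subgroup.card_subgroup_dvd_card (Q : Subgroup G)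
    have hk1 : k ≤ 1 := by
      by_contra hk2
      exact hval ((pow_dvd_pow p (by omega : 2 ≤ k)).trans hdvd)
    have hcyc : IsCyclic (Q : Subgroup G) := by
      interval_cases k
      · haveI : Subsingleton (Q : Subgroup G) :=
          (Nat.card_eq_one_iff_unique.mp (by simpa using hk)).1
        infer_instance
      · exact isCyclic_of_prime_card (p := p) (by simpa using hk)
    intro a ha b hb
    haveI := hcyc
    have := (IsCyclic.commGroup (α := (Q : Subgroup G))).mul_comm ⟨a, ha⟩ ⟨b, hb⟩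
    exact congrArg Subtype.val this
  have h : Hyp 𝓐 p := ⟨hmin, hnil, hZ, hab⟩
  obtain ⟨A, hA, hxA⟩ := hmin.1.2 x
  obtain ⟨A', hA', hxA'⟩ := hmin.1.2 x'
  have hxp : ∃ k : ℕ, x ^ p ^ k = 1 := ⟨1, by simpa using hx⟩
  have hxp' : ∃ k : ℕ, x' ^ p ^ k = 1 := ⟨1, by simpa using hx'⟩
  have h1 : A ≤ H := fun a ha => hC a (by
    have := le_centralizer h hA hxA hxp ha
    rw [Subgroup.mem_centralizer_iff] at this
    exact (this x rfl).symm)
  have h2 : A' ≤ H := fun a ha => hC' a (by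
    have := le_centralizer h hA' hxA' hxp' ha
    rw [Subgroup.mem_centralizer_iff] at this
    exact (this x' rfl).symm)
  have hAA' : A = A' := replace_one hmin hH hA hA' h1 h2
  have := le_centralizer h hA hxA hxp (hAA' ▸ hxA')
  rw [Subgroup.mem_centralizer_iff] at this
  exact hnc (this x rfl)

/-- the centre of the symmetric group of degree at least 3 is trivial -/
theorem center_perm_eq_bot {n : ℕ} (hn : 3 ≤ n) : center (Perm (Fin n)) = ⊥ := by
  rw [eq_bot_iff]
  intro z hz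
  rw [Subgroup.mem_bot]
  by_contra hz1
  obtain ⟨a, ha⟩ : ∃ a, z a ≠ a := by
    by_contra hall
    apply hz1
    ext b
    by_contra hb
    exact hall ⟨b, fun h => hb (by rw [h]; rfl)⟩
  obtain ⟨c, hca, hcb⟩ : ∃ c : Fin n, c ≠ a ∧ c ≠ z a := by
    by_contra hall
    have hall' : ∀ c : Fin n, c ≠ a → c = z a := fun c hc => by
      by_contra h; exact hall ⟨c, hc, h⟩
    have : Fintype.card (Fin n) ≤ 2 := by
      calc Fintype.card (Fin n) = (Finset.univ : Finset (Fin n)).card := rfl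
        _ ≤ ({a, z a} : Finset (Fin n)).card := Finset.card_le_card (fun c _ => by
            by_cases h : c = a
            · simp [h]
            · simp [hall' c h])
        _ ≤ 2 := Finset.card_le_two
    simp at this; omega
  have hcomm := Subgroup.mem_center_iff.mp hz (swap (z a) c)
  have := congrArg (fun f => f a) hcomm
  simp only [Perm.mul_apply] at this
  rw [swap_apply_left, swap_apply_of_ne_of_ne (Ne.symm ha) (Ne.symm hca)] at this
  exact hcb this

section Cyc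

/-- the `p`-cycle `(0 1 ... p-1)` in `Perm (Fin n)` -/
def cyc (n p : ℕ) (hpn : p < n) : Perm (Fin n) := Fin.cycleRange ⟨p - 1, by omega⟩

/-- the swap of `0` and `1` -/
def tau (n p : ℕ) (hpn : p < n) (h5 : 5 ≤ p) : Perm (Fin n) :=
  swap ⟨0, by omega⟩ ⟨1, by omega⟩

/-- a second `p`-cycle with the same support -/
def cyc' (n p : ℕ) (hpn : p < n) (h5 : 5 ≤ p) : Perm (Fin n) :=
  tau n p hpn h5 * cyc n p hpn * (tau n p hpn h5)⁻¹

theorem cyc_apply_lt {n p : ℕ} (hpn : p < n) (k : ℕ) (hk : k < p - 1) :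
    cyc n p hpn ⟨k, by omega⟩ = ⟨k + 1, by omega⟩ := by
  apply Fin.ext
  rw [cyc, Fin.coe_cycleRange_of_lt (Fin.mk_lt_mk.mpr hk)]

theorem cyc_apply_gt {n p : ℕ} (hpn : p < n) (k : ℕ) (hk : p - 1 < k) (hkn : k < n) :
    cyc n p hpn ⟨k, hkn⟩ = ⟨k, hkn⟩ :=
  Fin.cycleRange_of_gt (Fin.mk_lt_mk.mpr hk)

theorem orderOf_cyc {n p : ℕ} (hpn : p < n) (h5 : 5 ≤ p) : orderOf (cyc n p hpn) = p := by
  haveI : NeZero n := ⟨by omega⟩
  have h0 : (⟨p - 1, by omega⟩ : Fin n) ≠ 0 := by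
    intro h
    have := congrArg Fin.val h
    simp at this
    omega
  rw [← Equiv.Perm.lcm_cycleType, cyc, Fin.cycleType_cycleRange h0, Multiset.lcm_singleton,
    normalize_eq]
  simp only
  omega

theorem cyc_pow {n p : ℕ} (hpn : p < n) (h5 : 5 ≤ p) : cyc n p hpn ^ p = 1 := by
  have := pow_orderOf_eq_one (cyc n p hpn)
  rwa [orderOf_cyc hpn h5] at this

theorem cyc'_pow {n p : ℕ} (hpn : p < n) (h5 : 5 ≤ p) : cyc' n p hpn h5 ^ p = 1 := by
  rw [cyc', conj_pow, cyc_pow hpn h5]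
  group

theorem cyc_ne_one {n p : ℕ} (hpn : p < n) (h5 : 5 ≤ p) : cyc n p hpn ≠ 1 := by
  intro h
  have := cyc_apply_lt hpn 0 (by omega)
  rw [h] at this
  have := congrArg Fin.val this
  simp at this

theorem cyc'_ne_one {n p : ℕ} (hpn : p < n) (h5 : 5 ≤ p) : cyc' n p hpn h5 ≠ 1 := by
  intro h
  apply cyc_ne_one hpn h5
  have : cyc n p hpn = (tau n p hpn h5)⁻¹ * cyc' n p hpn h5 * tau n p hpn h5 := by
    rw [cyc']; group
  rw [this, h]; group

theorem not_commute {n p : ℕ} (hpn : p < n) (h5 : 5 ≤ p) :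
    cyc n p hpn * cyc' n p hpn h5 ≠ cyc' n p hpn h5 * cyc n p hpn := by
  intro h
  have h0 := cyc_apply_lt hpn 0 (by omega)
  have h1 := cyc_apply_lt hpn 1 (by omega)
  have h2 := cyc_apply_lt hpn 2 (by omega)
  have := congrArg (fun f => f (⟨0, by omega⟩ : Fin n)) h
  simp only [Perm.mul_apply, cyc', tau, swap_inv] at this
  rw [swap_apply_left, h1, h0, swap_apply_right,
    swap_apply_of_ne_of_ne (by simp [Fin.ext_iff]) (by simp [Fin.ext_iff]), h2, h0,
    swap_apply_right] at this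
  have := congrArg Fin.val this
  simp at this

/-- the setwise stabilizer of the support -/
def stab (n p : ℕ) (hpn : p < n) : Subgroup (Perm (Fin n)) :=
  MulAction.stabilizer (Perm (Fin n)) ((cyc n p hpn).support : Set (Fin n))

theorem mem_stab_iff {n p : ℕ} (hpn : p < n) (σ : Perm (Fin n)) :
    σ ∈ stab n p hpn ↔ ∀ b, σ b ∈ (cyc n p hpn).support ↔ b ∈ (cyc n p hpn).support := by
  rw [stab, MulAction.mem_stabilizer_set]
  simp

theorem mem_support_of_lt {n p : ℕ} (hpn : p < n) (k : ℕ) (hk : k < p - 1) :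
    (⟨k, by omega⟩ : Fin n) ∈ (cyc n p hpn).support := by
  rw [Equiv.Perm.mem_support, cyc_apply_lt hpn k hk]
  simp [Fin.ext_iff]

theorem not_mem_support_p {n p : ℕ} (hpn : p < n) (h5 : 5 ≤ p) :
    (⟨p, hpn⟩ : Fin n) ∉ (cyc n p hpn).support := by
  rw [Equiv.Perm.mem_support, cyc_apply_gt hpn p (by omega) hpn]
  simp

theorem tau_mem_stab {n p : ℕ} (hpn : p < n) (h5 : 5 ≤ p) : tau n p hpn h5 ∈ stab n p hpn := by
  rw [mem_stab_iff]
  intro b
  have m0 := mem_support_of_lt hpn 0 (by omega)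
  have m1 := mem_support_of_lt hpn 1 (by omega)
  by_cases hb0 : b = ⟨0, by omega⟩
  · subst hb0
    rw [tau, swap_apply_left]
    exact ⟨fun _ => m0, fun _ => m1⟩
  by_cases hb1 : b = ⟨1, by omega⟩
  · subst hb1
    rw [tau, swap_apply_right]
    exact ⟨fun _ => m1, fun _ => m0⟩
  rw [tau, swap_apply_of_ne_of_ne hb0 hb1]

theorem support_cyc' {n p : ℕ} (hpn : p < n) (h5 : 5 ≤ p) :
    (cyc' n p hpn h5).support = (cyc n p hpn).support := by
  ext b
  have ht := (mem_stab_iff hpn _).mp (tau_mem_stab hpn h5)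
  have hti : (tau n p hpn h5)⁻¹ = tau n p hpn h5 := by rw [tau, swap_inv]
  rw [Equiv.Perm.mem_support, cyc', hti, Perm.mul_apply, Perm.mul_apply, ← ht b,
    Equiv.Perm.mem_support]
  constructor
  · intro h1 h2
    apply h1
    rw [h2, tau, swap_apply_self]
  · intro h1 h2
    apply h1
    have := congrArg (tau n p hpn h5) h2
    rwa [tau, swap_apply_self] at this

theorem commute_cyc_mem {n p : ℕ} (hpn : p < n) (σ : Perm (Fin n))
    (h : σ * cyc n p hpn = cyc n p hpn * σ) : σ ∈ stab n p hpn := by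
  rw [mem_stab_iff]
  exact fun b => Equiv.Perm.mem_support_iff_of_commute (show Commute σ _ from h) b

theorem commute_cyc'_mem {n p : ℕ} (hpn : p < n) (h5 : 5 ≤ p) (σ : Perm (Fin n))
    (h : σ * cyc' n p hpn h5 = cyc' n p hpn h5 * σ) : σ ∈ stab n p hpn := by
  rw [mem_stab_iff, ← support_cyc' hpn h5]
  exact fun b => Equiv.Perm.mem_support_iff_of_commute (show Commute σ _ from h) b

theorem swap_not_mem_stab {n p : ℕ} (hpn : p < n) (h5 : 5 ≤ p) :
    swap (⟨0, by omega⟩ : Fin n) ⟨p, hpn⟩ ∉ stab n p hpn := by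
  intro h
  have := (mem_stab_iff hpn _).mp h ⟨0, by omega⟩
  rw [swap_apply_left] at this
  exact not_mem_support_p hpn h5 (this.mpr (mem_support_of_lt hpn 0 (by omega)))

/-- an even permutation outside the stabilizer -/
theorem even_not_mem_stab {n p : ℕ} (hpn : p < n) (h5 : 5 ≤ p) :
    swap (⟨0, by omega⟩ : Fin n) ⟨p, hpn⟩ * swap ⟨1, by omega⟩ ⟨2, by omega⟩ ∉ stab n p hpn := by
  intro h
  have := (mem_stab_iff hpn _).mp h ⟨0, by omega⟩
  have e : (swap (⟨1, by omega⟩ : Fin n) ⟨2, by omega⟩) ⟨0, by omega⟩ = ⟨0, by omega⟩ :=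
    swap_apply_of_ne_of_ne (by simp [Fin.ext_iff]) (by simp [Fin.ext_iff])
  rw [Perm.mul_apply, e, swap_apply_left] at this
  exact not_mem_support_p hpn h5 (this.mpr (mem_support_of_lt hpn 0 (by omega)))

theorem sign_cyc {n p : ℕ} (hpn : p < n) (hodd : Odd p) : Perm.sign (cyc n p hpn) = 1 := by
  rw [cyc, Fin.sign_cycleRange]
  simp only
  obtain ⟨k, hk⟩ := hodd
  have : p - 1 = 2 * k := by omega
  rw [this, pow_mul]
  simp

theorem sign_cyc' {n p : ℕ} (hpn : p < n) (h5 : 5 ≤ p) (hodd : Odd p) :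
    Perm.sign (cyc' n p hpn h5) = 1 := by
  rw [cyc', Perm.sign_mul, Perm.sign_mul, Perm.sign_inv, sign_cyc hpn hodd]
  simp [← sq, Int.units_sq]

end Cyc

/-- `p² ∤ n!` when `p ≤ n < 2p`, `3 ≤ p`. -/
theorem not_sq_dvd_factorial {n p : ℕ} (hp : p.Prime) (h3 : 3 ≤ p) (hpn : p ≤ n) (hn2 : n < 2 * p) :
    ¬ p ^ 2 ∣ n.factorial := by
  rw [hp.pow_dvd_iff_le_factorization (Nat.factorial_ne_zero n)]
  have hlog : Nat.log p n < 2 := by
    apply Nat.log_lt_of_lt_pow (by omega)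
    nlinarith
  rw [Nat.factorization_factorial hp hlog]
  have : Finset.Ico 1 2 = {1} := by decide
  rw [this, Finset.sum_singleton, pow_one]
  have : n / p = 1 := by
    apply Nat.div_eq_of_lt_le
    · rw [one_mul]; exact hpn
    · omega
  omega

/-- a prime `p` with `5 ≤ p < n < 2p` for `6 ≤ n` -/
theorem exists_prime {n : ℕ} (hn : 6 ≤ n) : ∃ p : ℕ, p.Prime ∧ 5 ≤ p ∧ p < n ∧ n < 2 * p := by
  obtain ⟨p, hp, hlt, hle⟩ := Nat.exists_prime_lt_and_le_two_mul (n / 2) (by omega)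
  refine ⟨p, hp, ?_, ?_, ?_⟩
  · by_contra h
    have h4 : p = 4 := by omega
    rw [h4] at hp
    norm_num at hp
  · rcases Nat.lt_or_ge p n with h | h
    · exact h
    · exfalso
      have hpn : p = n := by omega
      have h2 : 2 ∣ p := by omega
      have := (Nat.prime_dvd_prime_iff_eq Nat.prime_two hp).mp h2
      omega
  · omega

/-- **`S_n`, `n ≥ 6`.** -/
theorem no_cover_perm {n : ℕ} (hn : 6 ≤ n) (𝓐 : Finset (Subgroup (Perm (Fin n))))
    (hmin : IsMinCover 𝓐) (hnil : ∀ A ∈ 𝓐, Group.IsNilpotent ↥A) : False := by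
  obtain ⟨p, hp, h5, hpn, hn2⟩ := exists_prime hn
  haveI := Fact.mk hp
  have hcard : Nat.card (Perm (Fin n)) = n.factorial := by
    rw [Nat.card_eq_fintype_card, Fintype.card_perm, Fintype.card_fin]
  refine no_cover_of_pair (p := p) (center_perm_eq_bot (by omega)) ?_ (cyc_pow hpn h5)
    (cyc'_pow hpn h5) (cyc_ne_one hpn h5) (cyc'_ne_one hpn h5) (not_commute hpn h5)
    (H := stab n p hpn) ?_ (commute_cyc_mem hpn) (commute_cyc'_mem hpn h5) 𝓐 hmin hnil
  · rw [hcard]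
    exact not_sq_dvd_factorial hp (by omega) hpn.le hn2
  · intro htop
    exact swap_not_mem_stab hpn h5 (htop ▸ Subgroup.mem_top _)

/-- **`A_n`, `n ≥ 6`.** -/
theorem no_cover_alt {n : ℕ} (hn : 6 ≤ n) (𝓐 : Finset (Subgroup ↥(alternatingGroup (Fin n))))
    (hmin : IsMinCover 𝓐) (hnil : ∀ A ∈ 𝓐, Group.IsNilpotent ↥A) : False := by
  obtain ⟨p, hp, h5, hpn, hn2⟩ := exists_prime hn
  haveI := Fact.mk hp
  haveI : Nontrivial (Fin n) := Fin.nontrivial_iff_two_le.mpr (by omega)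
  have hodd : Odd p := hp.odd_of_ne_two (by omega)
  have hcard : Nat.card ↥(alternatingGroup (Fin n)) = n.factorial / 2 := by
    rw [nat_card_alternatingGroup, Nat.card_eq_fintype_card, Fintype.card_fin]
  have hc : cyc n p hpn ∈ alternatingGroup (Fin n) := Equiv.Perm.mem_alternatingGroup.mpr (sign_cyc hpn hodd)
  have hc' : cyc' n p hpn h5 ∈ alternatingGroup (Fin n) :=
    Equiv.Perm.mem_alternatingGroup.mpr (sign_cyc' hpn h5 hodd)
  have hZ : center ↥(alternatingGroup (Fin n)) = ⊥ :=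
    alternatingGroup.center_eq_bot (by rw [Nat.card_eq_fintype_card, Fintype.card_fin]; omega)
  refine no_cover_of_pair (p := p) hZ ?_ (x := ⟨_, hc⟩) (x' := ⟨_, hc'⟩) ?_ ?_ ?_ ?_ ?_
    (H := (stab n p hpn).comap (alternatingGroup (Fin n)).subtype) ?_ ?_ ?_ 𝓐 hmin hnil
  · rw [hcard]
    intro hd
    exact not_sq_dvd_factorial hp (by omega) hpn.le hn2 (hd.trans (Nat.div_dvd_of_dvd (by
      apply Nat.dvd_factorial <;> omega)))
  · exact Subtype.ext (by simpa using cyc_pow hpn h5)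
  · exact Subtype.ext (by simpa using cyc'_pow hpn h5)
  · intro h; exact cyc_ne_one hpn h5 (congrArg Subtype.val h)
  · intro h; exact cyc'_ne_one hpn h5 (congrArg Subtype.val h)
  · intro h; exact not_commute hpn h5 (congrArg Subtype.val h)
  · intro htop
    have hev : swap (⟨0, by omega⟩ : Fin n) ⟨p, hpn⟩ * swap ⟨1, by omega⟩ ⟨2, by omega⟩ ∈
        alternatingGroup (Fin n) := by
      rw [Equiv.Perm.mem_alternatingGroup, Perm.sign_mul, Perm.sign_swap, Perm.sign_swap]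
      · simp
      · simp [Fin.ext_iff]
      · simp [Fin.ext_iff]; omega
    have : (⟨_, hev⟩ : ↥(alternatingGroup (Fin n))) ∈
        (stab n p hpn).comap (alternatingGroup (Fin n)).subtype := htop ▸ Subgroup.mem_top _
    exact even_not_mem_stab hpn h5 (Subgroup.mem_comap.mp this)
  · intro g hg
    rw [Subgroup.mem_comap]
    exact commute_cyc_mem hpn _ (congrArg Subtype.val hg)
  · intro g hg
    rw [Subgroup.mem_comap]
    exact commute_cyc'_mem hpn h5 _ (congrArg Subtype.val hg)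

section Small

set_option maxRecDepth 1000000 in
theorem centralizer4_a : ∀ σ : Perm (Fin 4), σ * c[0,1,2] = c[0,1,2] * σ → Perm.sign σ = 1 := by
  decide +kernel

set_option maxRecDepth 1000000 in
theorem centralizer4_b : ∀ σ : Perm (Fin 4), σ * c[0,1,3] = c[0,1,3] * σ → Perm.sign σ = 1 := by
  decide +kernel

set_option maxRecDepth 1000000 in
theorem centralizer5_a :
    ∀ σ : Perm (Fin 5), σ * c[0,1,2,3,4] = c[0,1,2,3,4] * σ → Perm.sign σ = 1 := by
  decide +kernel

set_option maxRecDepth 1000000 in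
theorem centralizer5_b :
    ∀ σ : Perm (Fin 5), σ * c[0,1,2,4,3] = c[0,1,2,4,3] * σ → Perm.sign σ = 1 := by
  decide +kernel

set_option maxRecDepth 1000000 in
theorem centralizerA5_a :
    ∀ σ : Perm (Fin 5), Perm.sign σ = 1 → σ * c[0,1,2] = c[0,1,2] * σ → σ 4 = 4 := by
  decide +kernel

set_option maxRecDepth 1000000 in
theorem centralizerA5_b :
    ∀ σ : Perm (Fin 5), Perm.sign σ = 1 → σ * c[0,1,3] = c[0,1,3] * σ → σ 4 = 4 := by
  decide +kernel

set_option maxRecDepth 1000000 in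
theorem no_cover_perm4 (𝓐 : Finset (Subgroup (Perm (Fin 4))))
    (hmin : IsMinCover 𝓐) (hnil : ∀ A ∈ 𝓐, Group.IsNilpotent ↥A) : False := by
  haveI : Fact (Nat.Prime 3) := ⟨by norm_num⟩
  have e1 : (c[0,1,2] : Perm (Fin 4)) ^ 3 = 1 := by decide +kernel
  have e2 : (c[0,1,3] : Perm (Fin 4)) ^ 3 = 1 := by decide +kernel
  have e3 : (c[0,1,2] : Perm (Fin 4)) ≠ 1 := by decide +kernel
  have e4 : (c[0,1,3] : Perm (Fin 4)) ≠ 1 := by decide +kernel
  have e5 : (c[0,1,2] : Perm (Fin 4)) * c[0,1,3] ≠ c[0,1,3] * c[0,1,2] := by decide +kernel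
  have e6 : Perm.sign (swap (0 : Fin 4) 1) ≠ 1 := by decide +kernel
  refine no_cover_of_pair (p := 3) (center_perm_eq_bot (by norm_num)) ?_
    (x := c[0,1,2]) (x' := c[0,1,3]) e1 e2 e3 e4 e5
    (H := alternatingGroup (Fin 4)) ?_ ?_ ?_ 𝓐 hmin hnil
  · rw [Nat.card_eq_fintype_card, Fintype.card_perm, Fintype.card_fin]
    decide
  · intro htop
    have : swap (0 : Fin 4) 1 ∈ alternatingGroup (Fin 4) := htop ▸ Subgroup.mem_top _
    exact e6 (Equiv.Perm.mem_alternatingGroup.mp this)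
  · intro g hg
    exact Equiv.Perm.mem_alternatingGroup.mpr (centralizer4_a g hg)
  · intro g hg
    exact Equiv.Perm.mem_alternatingGroup.mpr (centralizer4_b g hg)

set_option maxRecDepth 1000000 in
theorem no_cover_perm5 (𝓐 : Finset (Subgroup (Perm (Fin 5))))
    (hmin : IsMinCover 𝓐) (hnil : ∀ A ∈ 𝓐, Group.IsNilpotent ↥A) : False := by
  haveI : Fact (Nat.Prime 5) := ⟨by norm_num⟩
  have e1 : (c[0,1,2,3,4] : Perm (Fin 5)) ^ 5 = 1 := by decide +kernel
  have e2 : (c[0,1,2,4,3] : Perm (Fin 5)) ^ 5 = 1 := by decide +kernel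
  have e3 : (c[0,1,2,3,4] : Perm (Fin 5)) ≠ 1 := by decide +kernel
  have e4 : (c[0,1,2,4,3] : Perm (Fin 5)) ≠ 1 := by decide +kernel
  have e5 : (c[0,1,2,3,4] : Perm (Fin 5)) * c[0,1,2,4,3] ≠ c[0,1,2,4,3] * c[0,1,2,3,4] := by
    decide +kernel
  have e6 : Perm.sign (swap (0 : Fin 5) 1) ≠ 1 := by decide +kernel
  refine no_cover_of_pair (p := 5) (center_perm_eq_bot (by norm_num)) ?_
    (x := c[0,1,2,3,4]) (x' := c[0,1,2,4,3]) e1 e2 e3 e4 e5
    (H := alternatingGroup (Fin 5)) ?_ ?_ ?_ 𝓐 hmin hnil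
  · rw [Nat.card_eq_fintype_card, Fintype.card_perm, Fintype.card_fin]
    decide
  · intro htop
    have : swap (0 : Fin 5) 1 ∈ alternatingGroup (Fin 5) := htop ▸ Subgroup.mem_top _
    exact e6 (Equiv.Perm.mem_alternatingGroup.mp this)
  · intro g hg
    exact Equiv.Perm.mem_alternatingGroup.mpr (centralizer5_a g hg)
  · intro g hg
    exact Equiv.Perm.mem_alternatingGroup.mpr (centralizer5_b g hg)

set_option maxRecDepth 1000000 in
theorem no_cover_alt5 (𝓐 : Finset (Subgroup ↥(alternatingGroup (Fin 5))))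
    (hmin : IsMinCover 𝓐) (hnil : ∀ A ∈ 𝓐, Group.IsNilpotent ↥A) : False := by
  haveI : Fact (Nat.Prime 3) := ⟨by norm_num⟩
  have hZ : center ↥(alternatingGroup (Fin 5)) = ⊥ :=
    alternatingGroup.center_eq_bot (by rw [Nat.card_eq_fintype_card, Fintype.card_fin]; norm_num)
  have e1 : (c[0,1,2] : Perm (Fin 5)) ^ 3 = 1 := by decide +kernel
  have e2 : (c[0,1,3] : Perm (Fin 5)) ^ 3 = 1 := by decide +kernel
  have e3 : (c[0,1,2] : Perm (Fin 5)) ≠ 1 := by decide +kernel
  have e4 : (c[0,1,3] : Perm (Fin 5)) ≠ 1 := by decide +kernel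
  have e5 : (c[0,1,2] : Perm (Fin 5)) * c[0,1,3] ≠ c[0,1,3] * c[0,1,2] := by decide +kernel
  have e6 : (c[0,1,4] : Perm (Fin 5)) 4 ≠ 4 := by decide +kernel
  have hca : (c[0,1,2] : Perm (Fin 5)) ∈ alternatingGroup (Fin 5) :=
    Equiv.Perm.mem_alternatingGroup.mpr (by decide +kernel)
  have hcb : (c[0,1,3] : Perm (Fin 5)) ∈ alternatingGroup (Fin 5) :=
    Equiv.Perm.mem_alternatingGroup.mpr (by decide +kernel)
  have hcc : (c[0,1,4] : Perm (Fin 5)) ∈ alternatingGroup (Fin 5) :=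
    Equiv.Perm.mem_alternatingGroup.mpr (by decide +kernel)
  refine no_cover_of_pair (p := 3) hZ ?_ (x := ⟨_, hca⟩) (x' := ⟨_, hcb⟩) ?_ ?_ ?_ ?_ ?_
    (H := (MulAction.stabilizer (Perm (Fin 5)) (4 : Fin 5)).comap
      (alternatingGroup (Fin 5)).subtype) ?_ ?_ ?_ 𝓐 hmin hnil
  · rw [nat_card_alternatingGroup, Nat.card_eq_fintype_card, Fintype.card_fin]
    decide
  · exact Subtype.ext (by simpa using e1)
  · exact Subtype.ext (by simpa using e2)
  · intro h
    exact e3 (congrArg Subtype.val h)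
  · intro h
    exact e4 (congrArg Subtype.val h)
  · intro h
    exact e5 (congrArg Subtype.val h)
  · intro htop
    have : (⟨_, hcc⟩ : ↥(alternatingGroup (Fin 5))) ∈
        (MulAction.stabilizer (Perm (Fin 5)) (4 : Fin 5)).comap
          (alternatingGroup (Fin 5)).subtype := htop ▸ Subgroup.mem_top _
    exact e6 (MulAction.mem_stabilizer_iff.mp (Subgroup.mem_comap.mp this))
  · intro g hg
    rw [Subgroup.mem_comap, MulAction.mem_stabilizer_iff]
    exact centralizerA5_a g.1 (Equiv.Perm.mem_alternatingGroup.mp g.2) (congrArg Subtype.val hg)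
  · intro g hg
    rw [Subgroup.mem_comap, MulAction.mem_stabilizer_iff]
    exact centralizerA5_b g.1 (Equiv.Perm.mem_alternatingGroup.mp g.2) (congrArg Subtype.val hg)

end Small

end Cfsg.Agent.Lib.Helper27.NilpCoverSym
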