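import Mathlib

/-!
# Counting `{a | N a = 1 ∧ N (2 - a) = 1}` in a finite field via Jacobi sums
-/

set_option autoImplicit false

namespace Cfsg.Agent.Lib.Helper27.NormCount

open Finset

variable {p : ℕ} [Fact p.Prime] {L : Type*} [Field L] [Fintype L] [Algebra (ZMod p) L]

/-- `χ ∘ N` as a multiplicative character of `L` -/
noncomputable def normChar (χ : MulChar (ZMod p) ℂ) : MulChar L ℂ where
  toFun a := χ (Algebra.norm (ZMod p) a)
  map_one' := by simp
  map_mul' a b := by simp [map_mul]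
  map_nonunit' a ha := by
    have h0 : a = 0 := by
      by_contra h
      exact ha (isUnit_iff_ne_zero.mpr h)
    subst h0
    rw [Algebra.norm_zero]
    exact χ.map_zero

@[simp] theorem normChar_apply (χ : MulChar (ZMod p) ℂ) (a : L) :
    normChar χ a = χ (Algebra.norm (ZMod p) a) := rfl

theorem norm_ne_zero {a : L} (ha : a ≠ 0) : Algebra.norm (ZMod p) a ≠ 0 := by
  intro h
  exact ha (Algebra.norm_eq_zero_iff.mp h)

theorem normChar_one : normChar (1 : MulChar (ZMod p) ℂ) = (1 : MulChar L ℂ) := by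
  ext a
  rw [normChar_apply, MulChar.one_apply_coe, MulChar.one_apply]
  exact isUnit_iff_ne_zero.mpr (norm_ne_zero a.ne_zero)

theorem normChar_mul (χ φ : MulChar (ZMod p) ℂ) :
    (normChar (χ * φ) : MulChar L ℂ) = normChar χ * normChar φ := by
  ext a
  simp [MulChar.mul_apply]

theorem normChar_inv (χ : MulChar (ZMod p) ℂ) :
    (normChar χ⁻¹ : MulChar L ℂ) = (normChar χ)⁻¹ := by
  refine eq_inv_of_mul_eq_one_left ?_
  rw [← normChar_mul, inv_mul_cancel, normChar_one]

theorem normChar_eq_one_iff (χ : MulChar (ZMod p) ℂ) :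
    (normChar χ : MulChar L ℂ) = 1 ↔ χ = 1 := by
  constructor
  · intro h
    ext c
    obtain ⟨a, ha⟩ := FiniteField.norm_surjective (ZMod p) L (c : ZMod p)
    have ha0 : a ≠ 0 := by
      rintro rfl
      rw [Algebra.norm_zero] at ha
      exact c.ne_zero ha.symm
    have := congrArg (fun ψ : MulChar L ℂ => ψ a) h
    simp only [normChar_apply, ha] at this
    rw [this, MulChar.one_apply (isUnit_iff_ne_zero.mpr ha0), MulChar.one_apply_coe]
  · rintro rfl
    exact normChar_one

/-- the inner sum -/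
noncomputable def innerSum (L : Type*) [Field L] [Fintype L] [Algebra (ZMod p) L]
    (χ φ : DirichletCharacter ℂ p) : ℂ :=
  ∑ a : L, χ (Algebra.norm (ZMod p) a) * φ (Algebra.norm (ZMod p) (2 - a))

theorem innerSum_eq (hp : p ≠ 2) (χ φ : DirichletCharacter ℂ p) :
    (innerSum L χ φ : ℂ) = χ (Algebra.norm (ZMod p) (2 : L)) * φ (Algebra.norm (ZMod p) (2 : L)) *
      jacobiSum (normChar χ : MulChar L ℂ) (normChar φ) := by
  haveI : CharP L p := charP_of_injective_algebraMap' (ZMod p) p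
  have h2 : (2 : L) ≠ 0 := by
    intro h
    have h' : ((2 : ℕ) : L) = 0 := by exact_mod_cast h
    rw [CharP.cast_eq_zero_iff L p] at h'
    have := (Nat.prime_dvd_prime_iff_eq (Fact.out : p.Prime) Nat.prime_two).mp h'
    exact hp this
  unfold innerSum jacobiSum
  rw [← Equiv.sum_comp (Equiv.mulLeft₀ (2 : L) h2), Finset.mul_sum]
  refine Finset.sum_congr rfl (fun b _ => ?_)
  simp only [Equiv.mulLeft₀_apply, normChar_apply]
  have e : (2 : L) - 2 * b = 2 * (1 - b) := by ring
  rw [e, map_mul, map_mul, map_mul, map_mul]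
  ring

theorem norm_innerSum_le (hp : p ≠ 2) (χ φ : DirichletCharacter ℂ p) (h : ¬ (χ = 1 ∧ φ = 1)) :
    ‖(innerSum L χ φ : ℂ)‖ ≤ Real.sqrt (Fintype.card L) := by
  classical
  rw [innerSum_eq hp, norm_mul, norm_mul]
  have h1 : ‖χ (Algebra.norm (ZMod p) (2 : L))‖ ≤ 1 := DirichletCharacter.norm_le_one χ _
  have h2 : ‖φ (Algebra.norm (ZMod p) (2 : L))‖ ≤ 1 := DirichletCharacter.norm_le_one φ _
  have hcard1 : (1 : ℝ) ≤ Real.sqrt (Fintype.card L) := by
    rw [Real.one_le_sqrt]
    exact_mod_cast Fintype.card_pos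
  have hJ : ‖jacobiSum (normChar χ : MulChar L ℂ) (normChar φ)‖ ≤ Real.sqrt (Fintype.card L) := by
    by_cases hχ : χ = 1
    · have hφ : φ ≠ 1 := fun hφ => h ⟨hχ, hφ⟩
      have hφ' : (normChar φ : MulChar L ℂ) ≠ 1 := fun e => hφ ((normChar_eq_one_iff φ).mp e)
      rw [hχ, normChar_one, jacobiSum_one_nontrivial hφ', norm_neg, norm_one]
      exact hcard1
    · have hχ' : (normChar χ : MulChar L ℂ) ≠ 1 := fun e => hχ ((normChar_eq_one_iff χ).mp e)
      by_cases hφ : φ = 1
      · rw [hφ, normChar_one, jacobiSum_comm, jacobiSum_one_nontrivial hχ', norm_neg, norm_one]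
        exact hcard1
      · have hφ' : (normChar φ : MulChar L ℂ) ≠ 1 := fun e => hφ ((normChar_eq_one_iff φ).mp e)
        by_cases hprod : χ * φ = 1
        · have e : φ = χ⁻¹ := eq_inv_of_mul_eq_one_right hprod
          rw [e, normChar_inv, jacobiSum_nontrivial_inv hχ', norm_neg, normChar_apply]
          exact le_trans (DirichletCharacter.norm_le_one χ _) hcard1
        · have hprod' : (normChar χ : MulChar L ℂ) * normChar φ ≠ 1 := by
            rw [← normChar_mul]
            exact fun e => hprod ((normChar_eq_one_iff _).mp e)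
          have hchar : ringChar ℂ ≠ ringChar L := by
            haveI : CharP L p := charP_of_injective_algebraMap' (ZMod p) p
            rw [ringChar.eq ℂ 0, ringChar.eq L p]
            exact (Fact.out : p.Prime).ne_zero.symm
          have key := jacobiSum_mul_jacobiSum_inv hchar hχ' hφ' hprod'
          have hconj : jacobiSum (normChar χ : MulChar L ℂ)⁻¹ (normChar φ)⁻¹ =
              (starRingEnd ℂ) (jacobiSum (normChar χ : MulChar L ℂ) (normChar φ)) := by
            unfold jacobiSum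
            rw [map_sum]
            refine Finset.sum_congr rfl (fun x _ => ?_)
            rw [map_mul, ← MulChar.star_apply', ← MulChar.star_apply']
            rfl
          rw [hconj, Complex.mul_conj, Complex.normSq_eq_norm_sq] at key
          have key' : ‖jacobiSum (normChar χ : MulChar L ℂ) (normChar φ)‖ ^ 2 = (Fintype.card L : ℝ) := by
            exact_mod_cast key
          rw [← key', Real.sqrt_sq (norm_nonneg _)]
  calc ‖χ (Algebra.norm (ZMod p) (2 : L))‖ * ‖φ (Algebra.norm (ZMod p) (2 : L))‖ *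
        ‖jacobiSum (normChar χ : MulChar L ℂ) (normChar φ)‖
      ≤ 1 * 1 * Real.sqrt (Fintype.card L) := by
        gcongr
    _ = Real.sqrt (Fintype.card L) := by ring

theorem count_identity (E : Finset L)
    (hE : ∀ a, a ∈ E ↔ Algebra.norm (ZMod p) a = 1 ∧ Algebra.norm (ZMod p) (2 - a) = 1) :
    (((p - 1 : ℕ) : ℂ)) ^ 2 * (E.card : ℂ) =
      ∑ χ : DirichletCharacter ℂ p, ∑ φ : DirichletCharacter ℂ p, innerSum L χ φ := by
  classical
  have hp : (Fact.out : p.Prime) = (Fact.out : p.Prime) := rfl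
  haveI : NeZero p := ⟨(Fact.out : p.Prime).ne_zero⟩
  have htot : (p.totient : ℂ) = ((p - 1 : ℕ) : ℂ) := by
    rw [Nat.totient_prime (Fact.out : p.Prime)]
  unfold innerSum
  have h1 : ∑ χ : DirichletCharacter ℂ p, ∑ φ : DirichletCharacter ℂ p,
      ∑ a : L, χ (Algebra.norm (ZMod p) a) * φ (Algebra.norm (ZMod p) (2 - a)) =
      ∑ a : L, (∑ χ : DirichletCharacter ℂ p, χ (Algebra.norm (ZMod p) a)) *
        (∑ φ : DirichletCharacter ℂ p, φ (Algebra.norm (ZMod p) (2 - a))) := by
    symm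
    calc ∑ a : L, (∑ χ : DirichletCharacter ℂ p, χ (Algebra.norm (ZMod p) a)) *
          (∑ φ : DirichletCharacter ℂ p, φ (Algebra.norm (ZMod p) (2 - a)))
        = ∑ a : L, ∑ χ : DirichletCharacter ℂ p, ∑ φ : DirichletCharacter ℂ p,
            χ (Algebra.norm (ZMod p) a) * φ (Algebra.norm (ZMod p) (2 - a)) := by
          refine Finset.sum_congr rfl (fun a _ => ?_)
          rw [Finset.sum_mul_sum]
      _ = ∑ χ : DirichletCharacter ℂ p, ∑ a : L, ∑ φ : DirichletCharacter ℂ p,
            χ (Algebra.norm (ZMod p) a) * φ (Algebra.norm (ZMod p) (2 - a)) := Finset.sum_comm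
      _ = ∑ χ : DirichletCharacter ℂ p, ∑ φ : DirichletCharacter ℂ p, ∑ a : L,
            χ (Algebra.norm (ZMod p) a) * φ (Algebra.norm (ZMod p) (2 - a)) := by
          refine Finset.sum_congr rfl (fun χ _ => Finset.sum_comm)
  rw [h1]
  simp_rw [DirichletCharacter.sum_characters_eq, htot]
  have h2 : ∀ a : L, ((if Algebra.norm (ZMod p) a = 1 then (((p - 1 : ℕ) : ℂ)) else 0) *
      (if Algebra.norm (ZMod p) (2 - a) = 1 then (((p - 1 : ℕ) : ℂ)) else 0)) =
      if a ∈ E then (((p - 1 : ℕ) : ℂ)) ^ 2 else 0 := by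
    intro a
    by_cases ha1 : Algebra.norm (ZMod p) a = 1
    · by_cases ha2 : Algebra.norm (ZMod p) (2 - a) = 1
      · rw [if_pos ha1, if_pos ha2, if_pos ((hE a).mpr ⟨ha1, ha2⟩)]; ring
      · rw [if_neg ha2, if_neg (fun h => ha2 ((hE a).mp h).2), mul_zero]
    · rw [if_neg ha1, if_neg (fun h => ha1 ((hE a).mp h).1), zero_mul]
  simp_rw [h2]
  rw [Finset.sum_ite_mem, Finset.univ_inter, Finset.sum_const, nsmul_eq_mul, mul_comm]

theorem innerSum_one_one (hp : p ≠ 2) :
    (innerSum L (1 : DirichletCharacter ℂ p) 1 : ℂ) = (Fintype.card L : ℂ) - 2 := by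
  haveI : CharP L p := charP_of_injective_algebraMap' (ZMod p) p
  have h2 : (2 : L) ≠ 0 := by
    intro h
    have h' : ((2 : ℕ) : L) = 0 := by exact_mod_cast h
    rw [CharP.cast_eq_zero_iff L p] at h'
    have := (Nat.prime_dvd_prime_iff_eq (Fact.out : p.Prime) Nat.prime_two).mp h'
    exact hp this
  rw [innerSum_eq hp, normChar_one, jacobiSum_one_one,
    MulChar.one_apply (isUnit_iff_ne_zero.mpr (norm_ne_zero h2))]
  ring

theorem two_le_card (hp : p ≠ 2) {q : ℕ} (hq : 4 ≤ q) (hcard : Fintype.card L = p ^ q)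
    (E : Finset L)
    (hE : ∀ a, a ∈ E ↔ Algebra.norm (ZMod p) a = 1 ∧ Algebra.norm (ZMod p) (2 - a) = 1) :
    2 ≤ E.card := by
  classical
  haveI : NeZero p := ⟨(Fact.out : p.Prime).ne_zero⟩
  by_contra hcon
  have hE1 : E.card ≤ 1 := by omega
  have hp3 : 3 ≤ p := by
    have := (Fact.out : p.Prime).two_le
    omega
  -- the character group has p - 1 elements
  have hX : Fintype.card (DirichletCharacter ℂ p) = p - 1 := by
    rw [Fintype.card_eq_nat_card, DirichletCharacter.card_eq_totient_of_hasEnoughRootsOfUnity,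
      Nat.totient_prime (Fact.out : p.Prime)]
  set s : ℝ := Real.sqrt (Fintype.card L) with hs
  have hid := count_identity (L := L) E hE
  -- split off the trivial pair
  have hsplit : ∑ χ : DirichletCharacter ℂ p, ∑ φ : DirichletCharacter ℂ p, innerSum L χ φ =
      innerSum L (1 : DirichletCharacter ℂ p) 1 +
        ∑ x ∈ (Finset.univ ×ˢ Finset.univ : Finset (DirichletCharacter ℂ p × DirichletCharacter ℂ p)).erase (1, 1),
          innerSum L x.1 x.2 := by
    rw [← Finset.sum_product']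
    exact (Finset.add_sum_erase _ (fun x : DirichletCharacter ℂ p × DirichletCharacter ℂ p =>
      innerSum L x.1 x.2) (a := ((1 : DirichletCharacter ℂ p), (1 : DirichletCharacter ℂ p)))
      (Finset.mem_product.mpr ⟨Finset.mem_univ _, Finset.mem_univ _⟩)).symm
  have hbound : ‖∑ x ∈ (Finset.univ ×ˢ Finset.univ : Finset (DirichletCharacter ℂ p × DirichletCharacter ℂ p)).erase (1, 1),
          innerSum L x.1 x.2‖ ≤ (((p - 1) * (p - 1) - 1 : ℕ) : ℝ) * s := by
    refine le_trans (norm_sum_le _ _) ?_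
    have hc : ((Finset.univ ×ˢ Finset.univ : Finset (DirichletCharacter ℂ p × DirichletCharacter ℂ p)).erase (1, 1)).card
        = (p - 1) * (p - 1) - 1 := by
      rw [Finset.card_erase_of_mem (Finset.mem_product.mpr ⟨Finset.mem_univ _, Finset.mem_univ _⟩),
        Finset.card_product, Finset.card_univ, hX]
    rw [← hc, ← nsmul_eq_mul]
    refine Finset.sum_le_card_nsmul _ _ _ (fun x hx => ?_)
    apply norm_innerSum_le hp
    rintro ⟨h1, h2⟩
    apply (Finset.mem_erase.mp hx).1
    exact Prod.ext h1 h2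
  rw [hsplit, innerSum_one_one hp] at hid
  -- real inequality
  have hreal : ((Fintype.card L : ℝ) - 2) - (((p - 1 : ℕ) : ℝ)) ^ 2 * (E.card : ℝ) ≤
      (((p - 1) * (p - 1) - 1 : ℕ) : ℝ) * s := by
    refine le_trans ?_ hbound
    have e : (∑ x ∈ (Finset.univ ×ˢ Finset.univ : Finset (DirichletCharacter ℂ p × DirichletCharacter ℂ p)).erase (1, 1),
          innerSum L x.1 x.2) =
        (((((p - 1 : ℕ) : ℝ)) ^ 2 * (E.card : ℝ) - ((Fintype.card L : ℝ) - 2) : ℝ) : ℂ) := by
      push_cast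
      rw [hid]
      ring
    rw [e, Complex.norm_real, Real.norm_eq_abs]
    have := neg_abs_le ((((p - 1 : ℕ) : ℝ)) ^ 2 * (E.card : ℝ) - ((Fintype.card L : ℝ) - 2))
    linarith
  -- numerics
  have hcardR : (Fintype.card L : ℝ) = (p : ℝ) ^ q := by rw [hcard]; push_cast; rfl
  have hss : s * s = (p : ℝ) ^ q := by
    rw [hs, Real.mul_self_sqrt (by positivity), hcardR]
  have hs0 : 0 ≤ s := Real.sqrt_nonneg _
  have hpR : (3 : ℝ) ≤ (p : ℝ) := by exact_mod_cast hp3
  have hsp : (p : ℝ) ^ 2 ≤ s := by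
    rw [hs, hcardR]
    apply Real.le_sqrt_of_sq_le
    rw [← pow_mul]
    exact pow_le_pow_right₀ (by linarith) (by omega)
  have hcast1 : (((p - 1 : ℕ) : ℝ)) = (p : ℝ) - 1 := by
    rw [Nat.cast_sub (by omega)]; simp
  have hcast2 : (((p - 1) * (p - 1) - 1 : ℕ) : ℝ) = ((p : ℝ) - 1) * ((p : ℝ) - 1) - 1 := by
    have h1 : 1 ≤ (p - 1) * (p - 1) := Nat.one_le_iff_ne_zero.mpr (by
      have : 2 ≤ p - 1 := by omega
      positivity)
    rw [Nat.cast_sub h1, Nat.cast_mul, hcast1]; simp
  have hEc : (E.card : ℝ) ≤ 1 := by exact_mod_cast hE1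
  rw [hcast1, hcast2, hcardR, ← hss] at hreal
  have hE0 : (0 : ℝ) ≤ (E.card : ℝ) := by positivity
  nlinarith [mul_nonneg hs0 hs0, mul_le_mul_of_nonneg_right hsp hs0, sq_nonneg ((p : ℝ) - 1),
    mul_le_mul_of_nonneg_left hEc (sq_nonneg ((p : ℝ) - 1))]

end Cfsg.Agent.Lib.Helper27.NormCount
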