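import Mathlib

/-!
# Norm-one pairs in a cubic extension of `ZMod p`: an element `a ≠ 1` with `N a = N (2 - a) = 1`
-/

set_option autoImplicit false

namespace Cfsg.Agent.Lib.Helper27.NormCubic

open Polynomial

variable {p : ℕ} [Fact p.Prime] {L : Type*} [Field L] [Finite L] [Algebra (ZMod p) L]

/-- norm of `algebraMap t - v` is the value at `t` of a monic irreducible polynomial of full degree
having `v` as a root -/
theorem norm_algebraMap_sub {v : L} {g : (ZMod p)[X]} (hg : Irreducible g) (hgm : g.Monic)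
    (hdeg : g.natDegree = Module.finrank (ZMod p) L) (hroot : aeval v g = 0) (t : ZMod p) :
    Algebra.norm (ZMod p) (algebraMap (ZMod p) L t - v) = g.eval t := by
  have hmin : g = minpoly (ZMod p) v := minpoly.eq_of_irreducible_of_monic hg hroot hgm
  set f : L →ₗ[ZMod p] L := Algebra.lmul (ZMod p) L v with hf
  have hminf : minpoly (ZMod p) f = minpoly (ZMod p) v :=
    minpoly.algHom_eq (Algebra.lmul (ZMod p) L) Algebra.lmul_injective v
  have hdvd : g ∣ f.charpoly := by
    rw [hmin, ← hminf]; exact LinearMap.minpoly_dvd_charpoly f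
  have hcp : f.charpoly = g := by
    apply Polynomial.eq_of_monic_of_dvd_of_natDegree_le hgm f.charpoly_monic hdvd
    rw [LinearMap.charpoly_natDegree, hdeg]
  rw [← hcp, LinearMap.eval_charpoly, Algebra.norm_apply]
  congr 1
  ext x
  simp [hf, Algebra.smul_def, sub_mul]

/-- a cubic `X^3 - X + c` without roots -/
theorem exists_no_root : ∃ c : ZMod p, ∀ t : ZMod p, t ^ 3 - t + c ≠ 0 := by
  have hninj : ¬ Function.Injective (fun t : ZMod p => t - t ^ 3) := by
    intro h
    have : (0 : ZMod p) = 1 := h (by simp)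
    exact zero_ne_one this
  have hnsurj : ¬ Function.Surjective (fun t : ZMod p => t - t ^ 3) :=
    fun h => hninj (Finite.injective_iff_surjective.mpr h)
  simp only [Function.Surjective, not_forall, not_exists] at hnsurj
  obtain ⟨c, hc⟩ := hnsurj
  refine ⟨c, fun t h => hc t ?_⟩
  linear_combination (-1 : ZMod p) * h

theorem exists_root_cubic (hrank : Module.finrank (ZMod p) L = 3) (c : ZMod p)
    (hc : ∀ t : ZMod p, t ^ 3 - t + c ≠ 0) :
    ∃ (g : (ZMod p)[X]) (v : L), Irreducible g ∧ g.Monic ∧ g.natDegree = 3 ∧ aeval v g = 0 ∧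
      ∀ t : ZMod p, g.eval t = t ^ 3 - t + c := by
  classical
  set g : (ZMod p)[X] := X ^ 3 - X + C c with hgdef
  have heval : ∀ t : ZMod p, g.eval t = t ^ 3 - t + c := by
    intro t; simp [hgdef]
  have hdeg : g.natDegree = 3 := by
    rw [hgdef, sub_add]
    have : (X - C c : (ZMod p)[X]).degree < ((X : (ZMod p)[X]) ^ 3).degree := by
      rw [degree_X_pow, degree_X_sub_C]; norm_num
    rw [natDegree_sub_eq_left_of_natDegree_lt, natDegree_X_pow]
    rw [natDegree_X_pow, natDegree_X_sub_C]; norm_num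
  have hmonic : g.Monic := by
    rw [hgdef, sub_add]
    apply Polynomial.Monic.sub_of_left (monic_X_pow 3)
    rw [degree_X_pow, degree_X_sub_C]; norm_num
  have hirr : Irreducible g := by
    rw [Polynomial.Monic.irreducible_iff_roots_eq_zero_of_degree_le_three hmonic (by omega) (by omega)]
    rw [Multiset.eq_zero_iff_forall_notMem]
    intro t ht
    rw [mem_roots hmonic.ne_zero, IsRoot.def, heval] at ht
    exact hc t ht
  haveI : Fact (Irreducible g) := ⟨hirr⟩
  -- `AdjoinRoot g` is a field with `p ^ 3` elements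
  haveI : Module.Finite (ZMod p) (AdjoinRoot g) := (AdjoinRoot.powerBasis hmonic.ne_zero).finite
  haveI : Finite (AdjoinRoot g) := Module.finite_of_finite (ZMod p)
  have hfr : Module.finrank (ZMod p) (AdjoinRoot g) = 3 := by
    rw [(AdjoinRoot.powerBasis hmonic.ne_zero).finrank, AdjoinRoot.powerBasis_dim, hdeg]
  haveI := Fintype.ofFinite L
  haveI := Fintype.ofFinite (AdjoinRoot g)
  have hcard : Fintype.card (AdjoinRoot g) = Fintype.card L := by
    rw [Module.card_eq_pow_finrank (K := ZMod p) (V := AdjoinRoot g),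
      Module.card_eq_pow_finrank (K := ZMod p) (V := L), hfr, hrank]
  let e : AdjoinRoot g ≃ₐ[ZMod p] L := FiniteField.algEquivOfCardEq p hcard
  refine ⟨g, e (AdjoinRoot.root g), hirr, hmonic, hdeg, ?_, heval⟩
  rw [← AlgEquiv.coe_algHom, aeval_algHom_apply, AdjoinRoot.aeval_eq, AdjoinRoot.mk_self, map_zero]

/-- in a cubic extension of `ZMod p` (`p` odd) there is `a ≠ 1` with `N a = N (2 - a) = 1` -/
theorem exists_ne_one (hrank : Module.finrank (ZMod p) L = 3) :
    ∃ a : L, a ≠ 1 ∧ Algebra.norm (ZMod p) a = 1 ∧ Algebra.norm (ZMod p) (2 - a) = 1 := by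
  obtain ⟨c, hc⟩ := exists_no_root (p := p)
  obtain ⟨g, v, hirr, hmonic, hdeg, hroot, heval⟩ := exists_root_cubic (L := L) hrank c hc
  have hN : ∀ t : ZMod p, Algebra.norm (ZMod p) (algebraMap (ZMod p) L t - v) = t ^ 3 - t + c := by
    intro t
    rw [norm_algebraMap_sub hirr hmonic (by rw [hdeg, hrank]) hroot, heval]
  have hc0 : c ≠ 0 := by
    have := hc 0
    simpa using this
  have h0 : Algebra.norm (ZMod p) (-v) = c := by
    have := hN 0
    simpa using this
  have h1 : Algebra.norm (ZMod p) (1 - v) = c := by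
    have := hN 1
    simpa using this
  have hm1 : Algebra.norm (ZMod p) (-1 - v) = c := by
    have := hN (-1)
    have e : ((-1 : ZMod p)) ^ 3 - (-1) + c = c := by ring
    rw [e] at this
    simpa using this
  have hv0 : v ≠ 0 := by
    rintro rfl
    rw [neg_zero, Algebra.norm_zero] at h0
    exact hc0 h0.symm
  -- a = (v + 1) / v = (-1 - v) / (-v),  2 - a = (v - 1)/v = (1 - v)/(-v)
  refine ⟨(-1 - v) / (-v), ?_, ?_, ?_⟩
  · intro h
    rw [div_eq_one_iff_eq (neg_ne_zero.mpr hv0)] at h
    have : (-1 : L) = 0 := by linear_combination h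
    exact one_ne_zero (neg_eq_zero.mp this)
  · have e : (-1 - v) / (-v) * (-v) = -1 - v := div_mul_cancel₀ _ (neg_ne_zero.mpr hv0)
    have := congrArg (Algebra.norm (ZMod p)) e
    rw [map_mul, h0, hm1] at this
    exact mul_right_cancel₀ hc0 (by rw [this, one_mul])
  · have e : (2 - (-1 - v) / (-v)) * (-v) = 1 - v := by
      field_simp
      ring
    have := congrArg (Algebra.norm (ZMod p)) e
    rw [map_mul, h0, h1] at this
    exact mul_right_cancel₀ hc0 (by rw [this, one_mul])

end Cfsg.Agent.Lib.Helper27.NormCubic
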