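import Mathlib

/-!
# The "norm polynomial" argument of Peterfalvi (B&G Appendix C, final step)

For a finite field `L` of degree `q` over `ZMod p`: if the set
`E = {a | N a = 1 ∧ N (2 - a) = 1}` is closed under inversion and contains some `a ≠ 1`,
then `p ≤ q`.
-/

set_option autoImplicit false

namespace Cfsg.Agent.Lib.Helper27.NormPoly

open Polynomial

variable {p : ℕ} [Fact p.Prime] {L : Type*} [Field L] [Finite L] [Algebra (ZMod p) L]

/-- the set `E` -/
def eSet (p : ℕ) [Fact p.Prime] (L : Type*) [Field L] [Algebra (ZMod p) L] : Set L :=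
  {a : L | Algebra.norm (ZMod p) a = 1 ∧ Algebra.norm (ZMod p) (2 - a) = 1}

theorem two_sub_mem {a : L} (ha : a ∈ eSet p L) : 2 - a ∈ eSet p L := by
  refine ⟨ha.2, ?_⟩
  have : (2 : L) - (2 - a) = a := by ring
  rw [this]; exact ha.1

theorem ne_zero_of_mem {a : L} (ha : a ∈ eSet p L) : a ≠ 0 := by
  rintro rfl
  have := ha.1
  rw [Algebra.norm_zero] at this
  exact zero_ne_one this

/-- the arithmetic progression `h k = (1 - a) k + 1` -/
def hseq (a : L) (k : ℕ) : L := (1 - a) * (k : L) + 1

theorem hseq_ratio_mem (hinv : ∀ a ∈ eSet p L, a⁻¹ ∈ eSet p L) {a : L} (ha : a ∈ eSet p L) (k : ℕ) :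
    hseq a k / hseq a (k + 1) ∈ eSet p L := by
  induction k with
  | zero =>
    have h0 : hseq a 0 = 1 := by simp [hseq]
    have h1 : hseq a (0 + 1) = 2 - a := by simp [hseq]; ring
    rw [h0, h1, one_div]
    exact hinv _ (two_sub_mem ha)
  | succ k ih =>
    have hne : hseq a k / hseq a (k + 1) ≠ 0 := ne_zero_of_mem ih
    have hk1 : hseq a (k + 1) ≠ 0 := by
      intro h0; apply hne; rw [h0, div_zero]
    have h2 := hinv _ (two_sub_mem ih)
    have e : (2 - hseq a k / hseq a (k + 1))⁻¹ = hseq a (k + 1) / hseq a (k + 1 + 1) := by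
      rw [show hseq a (k + 1) / hseq a (k + 1 + 1) = (hseq a (k + 1 + 1) / hseq a (k + 1))⁻¹ from
        (inv_div _ _).symm]
      congr 1
      rw [eq_div_iff hk1, sub_mul, div_mul_cancel₀ _ hk1]
      simp only [hseq]
      push_cast
      ring
    rw [e] at h2
    exact h2

theorem norm_hseq (hinv : ∀ a ∈ eSet p L, a⁻¹ ∈ eSet p L) {a : L} (ha : a ∈ eSet p L) (k : ℕ) :
    Algebra.norm (ZMod p) (hseq a k) = 1 := by
  induction k with
  | zero => simp [hseq]
  | succ k ih =>
    have hm := hseq_ratio_mem hinv ha k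
    have h := hm.1
    have hk1 : hseq a (k + 1) ≠ 0 := by
      intro h0; apply ne_zero_of_mem hm; rw [h0, div_zero]
    have e : hseq a k = hseq a k / hseq a (k + 1) * hseq a (k + 1) := (div_mul_cancel₀ _ hk1).symm
    rw [e, map_mul, h, one_mul] at ih
    exact ih

theorem norm_line (hinv : ∀ a ∈ eSet p L, a⁻¹ ∈ eSet p L) {a : L} (ha : a ∈ eSet p L) (c : ZMod p) :
    Algebra.norm (ZMod p) ((1 - a) * algebraMap (ZMod p) L c + 1) = 1 := by
  have := norm_hseq hinv ha c.val
  unfold hseq at this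
  have e : ((c.val : ℕ) : L) = algebraMap (ZMod p) L c := by
    rw [← map_natCast (algebraMap (ZMod p) L), ZMod.natCast_zmod_val]
  rw [e] at this
  exact this

/-- the polynomial `∏ i < q, ((1-a)^(p^i) X + 1)` -/
noncomputable def normPoly (p q : ℕ) (a : L) : L[X] :=
  ∏ i ∈ Finset.range q, (C ((1 - a) ^ (p ^ i)) * X + C 1)

theorem natDegree_normPoly (q : ℕ) {a : L} (ha : a ≠ 1) : (normPoly p q a).natDegree = q := by
  have hne : (1 : L) - a ≠ 0 := sub_ne_zero.mpr (Ne.symm ha)
  unfold normPoly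
  rw [natDegree_prod]
  · rw [Finset.sum_congr rfl (fun i _ => natDegree_linear (pow_ne_zero _ hne))]
    simp
  · intro i _ h0
    have := natDegree_linear (a := (1 - a) ^ (p ^ i)) (b := (1 : L)) (pow_ne_zero _ hne)
    rw [h0] at this
    simp at this

theorem eval_normPoly {q : ℕ} (hrank : Module.finrank (ZMod p) L = q) (a : L) (c : ZMod p) :
    (normPoly p q a).eval (algebraMap (ZMod p) L c) =
      algebraMap (ZMod p) L (Algebra.norm (ZMod p) ((1 - a) * algebraMap (ZMod p) L c + 1)) := by
  haveI : CharP L p := charP_of_injective_algebraMap' (ZMod p) p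
  rw [FiniteField.algebraMap_norm_eq_prod_pow, hrank]
  unfold normPoly
  rw [eval_prod]
  refine Finset.prod_congr rfl (fun i _ => ?_)
  simp only [eval_add, eval_mul, eval_C, eval_X]
  rw [Nat.card_zmod, add_pow_char_pow, mul_pow, one_pow, ← map_pow, ZMod.pow_card_pow]

theorem p_le_of_inv_closed {q : ℕ} (hq : 0 < q) (hrank : Module.finrank (ZMod p) L = q)
    (hinv : ∀ a ∈ eSet p L, a⁻¹ ∈ eSet p L) {a : L} (ha : a ∈ eSet p L) (ha1 : a ≠ 1) : p ≤ q := by
  classical
  set P := normPoly p q a - C 1 with hP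
  have hdeg : P.natDegree = q := by
    rw [hP, natDegree_sub_C, natDegree_normPoly q ha1]
  have hP0 : P ≠ 0 := by
    intro h0; rw [h0, natDegree_zero] at hdeg; omega
  have hinj : Function.Injective (algebraMap (ZMod p) L) := FaithfulSMul.algebraMap_injective _ _
  let Z : Finset L := Finset.univ.image (algebraMap (ZMod p) L)
  have hZ : Z.card = p := by
    rw [Finset.card_image_of_injective _ hinj, Finset.card_univ, ZMod.card]
  have hsub : Z.val ⊆ P.roots := by
    intro x hx
    rw [Finset.mem_val, Finset.mem_image] at hx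
    obtain ⟨c, -, rfl⟩ := hx
    rw [mem_roots hP0, IsRoot.def, hP, eval_sub, eval_C, eval_normPoly hrank, norm_line hinv ha,
      map_one, sub_self]
  have := card_le_degree_of_subset_roots hsub
  rw [hZ, hdeg] at this
  exact this

end Cfsg.Agent.Lib.Helper27.NormPoly
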