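import Cfsg.Agent.Lib.Helper27.OPMinStageDefs
import Cfsg.Agent.Lib.Helper16.OPMinS1
import Cfsg.Agent.Lib.Helper16.OPMinS3
import Cfsg.Agent.Lib.Helper5.OPMinS2
import Cfsg.Agent.Lib.Helper5.OPMinS4
import Cfsg.Agent.Lib.Helper13.SLMinW

/-!
# S2345: assembly of the stage lemma (helper27)
-/

set_option autoImplicit false
set_option linter.unusedSectionVars false
set_option linter.unusedVariables false

namespace Cfsg.Agent.Lib.Helper27.OPMin

open Matrix Module Cfsg.Agent.Lib.Helper16.SLMin

section stage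

variable {F : Type*} [Field F] [Fintype F] [DecidableEq F] {n : ℕ} {H : Type*} [Group H]
  {M : Type*} [AddCommGroup M] [Module ℂ M] [FiniteDimensional ℂ M]
  (D : Siegel F n H) (ρ : Representation ℂ H M)

theorem smul_wedge (δ : F) (a b : Fin n → F) : δ • wedge a b = wedge (δ • a) b := by
  ext i j
  rw [Matrix.smul_apply, wedge_apply, wedge_apply]
  simp only [Pi.smul_apply, smul_eq_mul]
  ring

theorem indep_single {a b : Fin n} (hab : a ≠ b) {δ : F} (hδ : δ ≠ 0) :
    LinearIndependent F ![δ • (Pi.single a (1 : F) : Fin n → F), Pi.single b (1 : F)] := by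
  rw [LinearIndependent.pair_iff]
  intro s t hst
  have ha := congrFun hst a
  have hb := congrFun hst b
  simp only [Pi.add_apply, Pi.smul_apply, Pi.single_eq_same, Pi.single_eq_of_ne hab,
    Pi.single_eq_of_ne hab.symm, smul_eq_mul, mul_one, mul_zero, add_zero, zero_add,
    Pi.zero_apply] at ha hb
  refine ⟨?_, hb⟩
  rcases mul_eq_zero.mp ha with h | h
  · exact h
  · exact absurd h hδ

/-- the conjugate `w (rad R) w⁻¹`, `R a b = 0 = R b a`, fixes every vector fixed by the radical part off `a, b`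
and by the group `U` -/
theorem conj_fix (a b : Fin n) (hab : a ≠ b) (m : M)
    (h1 : ∀ R : Matrix (Fin n) (Fin n) F, (∀ i j, R i j ≠ 0 → i ≠ a ∧ i ≠ b ∧ j ≠ a ∧ j ≠ b) →
      ρ (D.rad R) m = m)
    (h2 : ∀ (i j : Fin n) (hij : i ≠ j), i ≠ a → i ≠ b → (j = a ∨ j = b) → ∀ t : F,
      ρ (D.levi (SpecialLinearGroup.transvection hij t)) m = m)
    (R : Matrix (Fin n) (Fin n) F) (hR1 : R a b = 0) (hR2 : R b a = 0) :
    ρ (D.w a b * D.rad R * (D.w a b)⁻¹) m = m := by
  -- additivity
  have hadd : ∀ R S : Matrix (Fin n) (Fin n) F, ρ (D.w a b * D.rad R * (D.w a b)⁻¹) m = m →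
      ρ (D.w a b * D.rad S * (D.w a b)⁻¹) m = m →
      ρ (D.w a b * D.rad (R + S) * (D.w a b)⁻¹) m = m := by
    intro R S hR hS
    have e : D.w a b * D.rad (R + S) * (D.w a b)⁻¹ =
        (D.w a b * D.rad R * (D.w a b)⁻¹) * (D.w a b * D.rad S * (D.w a b)⁻¹) := by
      rw [D.rad_add]; group
    rw [e, map_mul, Module.End.mul_apply, hS, hR]
  have hzero : ρ (D.w a b * D.rad (0 : Matrix (Fin n) (Fin n) F) * (D.w a b)⁻¹) m = m := by
    rw [D.rad_zero, mul_one, mul_inv_cancel, map_one, Module.End.one_apply]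
  -- the transvection cases
  have hcol : ∀ (i j : Fin n), i ≠ a → i ≠ b → (j = a ∨ j = b) → ∀ c : F,
      ρ (D.w a b * D.rad (Matrix.single i j c) * (D.w a b)⁻¹) m = m := by
    intro i j hia hib hj c
    rcases hj with rfl | rfl
    · rw [D.w_rad_single_left j b i hab hia hib c]
      exact h2 i j hia hia hib (Or.inl rfl) c
    · rw [D.w_rad_single_right a j i hab hia hib c]
      exact h2 i j hib hia hib (Or.inr rfl) c
  have hsingle : ∀ (i j : Fin n) (c : F), ((i = a ∧ j = b) ∨ (i = b ∧ j = a) → c = 0) →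
      ρ (D.w a b * D.rad (Matrix.single i j c) * (D.w a b)⁻¹) m = m := by
    intro i j c hc
    by_cases hi : i = a ∨ i = b
    · by_cases hj : j = a ∨ j = b
      · -- both in {a,b}
        by_cases hijeq : i = j
        · subst hijeq
          have hs : D.rad (Matrix.single i i c) = 1 := by
            apply D.rad_of_symm
            rw [Matrix.transpose_single]
          rw [hs, mul_one, mul_inv_cancel, map_one, Module.End.one_apply]
        · have hc0 : c = 0 := by
            apply hc
            rcases hi with rfl | rfl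
            · rcases hj with rfl | rfl
              · exact absurd rfl hijeq
              · exact Or.inl ⟨rfl, rfl⟩
            · rcases hj with rfl | rfl
              · exact Or.inr ⟨rfl, rfl⟩
              · exact absurd rfl hijeq
          rw [hc0, Matrix.single_zero]
          exact hzero
      · -- i ∈ {a,b}, j ∉ {a,b}: transpose
        push Not at hj
        have hs : D.rad (Matrix.single i j c) = D.rad (Matrix.single j i (-c)) := by
          have e1 : (Matrix.single i j c : Matrix (Fin n) (Fin n) F) = (Matrix.single j i c)ᵀ := by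
            rw [Matrix.transpose_single]
          have e2 : (Matrix.single j i (-c) : Matrix (Fin n) (Fin n) F) = -(Matrix.single j i c) := by
            rw [Matrix.single_neg]
          rw [e1, D.rad_transpose, e2, D.rad_neg]
        rw [hs]
        exact hcol j i hj.1 hj.2 hi (-c)
    · push Not at hi
      by_cases hj : j = a ∨ j = b
      · exact hcol i j hi.1 hi.2 hj c
      · push Not at hj
        have hcomm : D.w a b * D.rad (Matrix.single i j c) * (D.w a b)⁻¹ =
            D.rad (Matrix.single i j c) := by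
          rw [D.w_rad_comm a b (Matrix.single i j c), mul_inv_cancel_right]
          intro i' j' hne
          rw [Matrix.single_apply] at hne
          have : i = i' ∧ j = j' := by
            by_contra hcon
            exact hne (if_neg hcon)
          obtain ⟨rfl, rfl⟩ := this
          exact ⟨hi.1, hi.2, hj.1, hj.2⟩
        rw [hcomm]
        apply h1
        intro i' j' hne
        rw [Matrix.single_apply] at hne
        have : i = i' ∧ j = j' := by
          by_contra hcon
          exact hne (if_neg hcon)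
        obtain ⟨rfl, rfl⟩ := this
        exact ⟨hi.1, hi.2, hj.1, hj.2⟩
  -- decompose `R`
  have hdec := Matrix.matrix_eq_sum_single R
  rw [hdec]
  refine Finset.sum_induction _ (fun S => ρ (D.w a b * D.rad S * (D.w a b)⁻¹) m = m) hadd hzero ?_
  intro i _
  refine Finset.sum_induction _ (fun S => ρ (D.w a b * D.rad S * (D.w a b)⁻¹) m = m) hadd hzero ?_
  intro j _
  apply hsingle
  rintro (⟨rfl, rfl⟩ | ⟨rfl, rfl⟩)
  · exact hR1
  · exact hR2

/-- membership in `ρ(w) N` -/
theorem mem_map_w_fixN (a b : Fin n) (m : M) :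
    m ∈ Submodule.map (ρ (D.w a b)) (fixN D ρ a b) ↔
      ∀ R : Matrix (Fin n) (Fin n) F, R a b = 0 → R b a = 0 →
        ρ (D.w a b * D.rad R * (D.w a b)⁻¹) m = m := by
  constructor
  · rintro ⟨m', hm', rfl⟩ R h1 h2
    rw [map_mul, map_mul, Module.End.mul_apply, Module.End.mul_apply, ← Module.End.mul_apply (ρ (D.w a b)⁻¹),
      ← map_mul, inv_mul_cancel, map_one, Module.End.one_apply, hm' R h1 h2]
  · intro h
    refine ⟨ρ (D.w a b)⁻¹ m, ?_, ?_⟩
    · intro R h1 h2
      have := h R h1 h2
      rw [map_mul, map_mul, Module.End.mul_apply, Module.End.mul_apply] at this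
      have h3 := congrArg (ρ (D.w a b)⁻¹) this
      rw [← Module.End.mul_apply (ρ (D.w a b)⁻¹), ← map_mul, inv_mul_cancel, map_one,
        Module.End.one_apply] at h3
      exact h3
    · rw [← Module.End.mul_apply, ← map_mul, mul_inv_cancel, map_one, Module.End.one_apply]

/-- S: the stage lemma -/
theorem stage (hn : 4 ≤ n) (hq : 3 < Fintype.card F)
    (hm2 : ∀ a b : Fin n → F, LinearIndependent F ![a, b] →
      finrank ℂ ↥(wt ρ D.radv (ofM (wedge a b))) = 1)
    (htriv : ∀ g : SpecialLinearGroup (Fin n) F, ∀ m ∈ wt ρ D.radv 0, ρ (D.levi g) m = m) : False := by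
  -- three distinct indices
  let a : Fin n := ⟨0, by omega⟩
  let b : Fin n := ⟨1, by omega⟩
  let i₀ : Fin n := ⟨2, by omega⟩
  have hab : a ≠ b := by
    intro h; have := congrArg Fin.val h; simp [a, b] at this
  have hi₀a : i₀ ≠ a := by
    intro h; have := congrArg Fin.val h; simp [a, i₀] at this
  have hi₀b : i₀ ≠ b := by
    intro h; have := congrArg Fin.val h; simp [b, i₀] at this
  -- the weights `Wd`
  have hWd0 : Wd (F := F) a b 0 = 0 := by
    unfold Wd
    rw [zero_smul]
    rfl
  have hWd1 : ∀ δ : F, δ ≠ 0 → finrank ℂ ↥(wt ρ D.radv (Wd a b δ)) ≤ 1 := by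
    intro δ hδ
    unfold Wd
    rw [smul_wedge, hm2 _ _ (indep_single hab hδ)]
  -- `U` fixes `N`
  have hUN : ∀ (i j : Fin n) (hij : i ≠ j), i ≠ a → i ≠ b → (j = a ∨ j = b) → ∀ t : F,
      ∀ m ∈ fixN D ρ a b, ρ (D.levi (SpecialLinearGroup.transvection hij t)) m = m := by
    intro i j hij hia hib hj t m hm
    rw [Cfsg.Agent.Lib.Helper16.OPMin.fixN_eq_iSup D ρ a b hab] at hm
    induction hm using Submodule.iSup_induction' with
    | mem δ x hx =>
      by_cases hδ : δ = 0
      · subst hδ
        rw [hWd0] at hx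
        exact htriv _ x hx
      · exact Cfsg.Agent.Lib.Helper5.OPMin.levi_transvection_fix_Wd D ρ hn a b i j hab hia hib hj hij t δ (hWd1 δ hδ) x hx
    | zero => rw [map_zero]
    | add x y _ _ hx hy => rw [map_add, hx, hy]
  -- `N ≤ ρ(w) N`
  have hle : fixN D ρ a b ≤ Submodule.map (ρ (D.w a b)) (fixN D ρ a b) := by
    intro m hm
    rw [mem_map_w_fixN]
    intro R h1 h2
    refine conj_fix D ρ a b hab m ?_ ?_ R h1 h2
    · intro R' hR'
      apply hm R'
      · by_contra hne
        exact (hR' a b hne).1 rfl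
      · by_contra hne
        exact (hR' b a hne).2.1 rfl
    · intro i j hij hia hib hj t
      exact hUN i j hij hia hib hj t m hm
  have heq : fixN D ρ a b = Submodule.map (ρ (D.w a b)) (fixN D ρ a b) :=
    Submodule.eq_of_le_of_finrank_eq hle
      (Cfsg.Agent.Lib.Helper13.SLMin.finrank_map_rho ρ (D.w a b) (fixN D ρ a b)).symm
  -- the vector `ξ`
  have hV0 : V0 (F := F) i₀ a b 0 = ofM (wedge (Pi.single i₀ (1 : F)) (Pi.single a (1 : F))) := by
    unfold V0
    rw [zero_smul, add_zero]
  have hind : LinearIndependent F ![(Pi.single i₀ (1 : F) : Fin n → F), Pi.single a (1 : F)] := by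
    have := indep_single (F := F) hi₀a (one_ne_zero)
    rwa [one_smul] at this
  have hfr : finrank ℂ ↥(wt ρ D.radv (V0 i₀ a b 0)) = 1 := by
    rw [hV0]
    exact hm2 _ _ hind
  have hV : wt ρ D.radv (V0 i₀ a b 0) ≠ ⊥ := by
    intro h
    rw [h, finrank_bot] at hfr
    exact zero_ne_one hfr
  obtain ⟨ξ, hξ0, hξ1, hξ2, hξ3⟩ := Cfsg.Agent.Lib.Helper5.OPMin.exists_xi D ρ i₀ a b hab hi₀a hi₀b hV
    (fun i j hij hia hib hj hne t m hm =>
      Cfsg.Agent.Lib.Helper16.OPMin.levi_transvection_fix_V0 D ρ hq i₀ a b i j hab hi₀a hi₀b hia hib hj hij hne t hfr.le m hm)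
  have hξN : ξ ∈ fixN D ρ a b := by
    rw [heq, mem_map_w_fixN]
    intro R h1 h2
    exact conj_fix D ρ a b hab ξ hξ1 hξ2 R h1 h2
  -- a non-trivial value of `eps`
  obtain ⟨r, hr⟩ : ∃ r : F, eps F r ≠ 1 := by
    by_contra hcon
    push Not at hcon
    have h1 : (eps F) = 1 := by
      ext x
      rw [hcon x]
      rfl
    have h2 := eps_prim F (one_ne_zero)
    rw [AddChar.mulShift_one] at h2
    exact h2 h1
  have h5 := hξ3 r
  have h6 : ρ (D.rad (Matrix.single i₀ a r)) ξ = ξ := by
    apply hξN
    · rw [Matrix.single_apply]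
      rw [if_neg]
      rintro ⟨h, _⟩
      exact hi₀a h
    · rw [Matrix.single_apply]
      rw [if_neg]
      rintro ⟨h, _⟩
      exact hi₀b h
  rw [h6] at h5
  have h7 : ((eps F r : ℂ) - 1) • ξ = 0 := by
    rw [sub_smul, one_smul, ← h5, sub_self]
  rcases smul_eq_zero.mp h7 with h | h
  · exact hr (sub_eq_zero.mp h)
  · exact hξ0 h

end stage

end Cfsg.Agent.Lib.Helper27.OPMin
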