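import Mathlib
import Cfsg.Prelude.Def_ClassicalGeometry
import Cfsg.Prelude.Def_GeometricClasses
import Cfsg.Agent.Lib.Helper5.TSMax
import Cfsg.Agent.Lib.Helper19.OSubDefs
import Cfsg.Agent.Lib.Helper19.OSubBasic
import Cfsg.Agent.Lib.Helper19.OSubDescent
import Cfsg.Agent.Lib.Helper9.OSubT12
import Cfsg.Agent.Lib.Helper18.OSubF12
import Cfsg.Agent.Lib.Helper27.OSubC2
import Cfsg.Agent.Lib.Helper27.OSubC1core

/-!
helper27: S5683 / S5702 leaf C1 (`nr`), exact signature of `notes/S5683_leaves.lean`.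
-/

set_option autoImplicit false
set_option linter.unusedSectionVars false
set_option linter.unusedVariables false

namespace Cfsg.Agent.Lib.Helper27.OSubLeaf
open Cfsg Matrix QuadraticMap Module Cfsg.Agent.Lib.Helper25.Siegel Cfsg.Agent.Lib.Helper19.OSub
open scoped commutatorElement

variable {ι : Type} [Fintype ι] [DecidableEq ι] {F : Type*} [Field F] [Fintype F]
  {F₀ : Subfield F} {Q : QuadraticForm F (ι → F)} {M : Subgroup (GL ι F)}

theorem t2Stmt (h : QCtx F₀ Q) : Cfsg.Agent.Lib.Helper27.OSubCore.T2Stmt F₀ Q :=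
  fun ha hv ha' hv' hQa hQv hQa' hQv' hav hav' hi hi' =>
    Cfsg.Agent.Lib.Helper9.OSubLeaf19.exists_H0_map_pair h ha hv ha' hv' hQa hQv hQa' hQv' hav hav'
      hi hi'

/-- C1 (nr): coefficients of rational root elements of `M` lie in `F₀` -/
theorem nr (h : Ctx F₀ Q M) {u v : ι → F} (hu : RatV F₀ u) (hv : RatV F₀ v) (hQu : Q u = 0)
    (hQv : Q v = 0) (huv : polar Q u v = 0) (hi : LinearIndependent F ![u, v]) {c : F}
    (hc : rt Q u v c ∈ M) : c ∈ F₀ := by
  obtain ⟨fr⟩ := Cfsg.Agent.Lib.Helper18.OSubLeaf.exists_frame h.toQCtx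
  exact Cfsg.Agent.Lib.Helper27.OSubCore.nr_of spStmt decStmt (t2Stmt h.toQCtx) h fr hu hv hQu hQv
    huv hi hc

end Cfsg.Agent.Lib.Helper27.OSubLeaf
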