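import Mathlib

/-!
# Odd order automorphisms of doubly transitive groups: arithmetic and matrix part (helper27)

`arith_main`: the diophantine core.  `matrix_main`: an integer matrix `M` with
`Mᵀ M = c I + λ J`, constant column sums `k` and `M ^ m = a I + b J` satisfies
`a ^ 2 = c ^ m` and `k ^ m = a + n b`.
-/

set_option autoImplicit false
set_option linter.unusedSectionVars false

namespace Cfsg.Agent.Lib.Helper27.OddAut

/-- If `a ^ 2 = c ^ m` with `m` odd and `0 ≤ c`, then `c` is a square. -/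
theorem exists_sq_of_sq_eq_pow_odd (a c : ℤ) (m : ℕ) (hm : Odd m) (hc : 0 ≤ c)
    (h : a ^ 2 = c ^ m) : ∃ s : ℤ, 0 ≤ s ∧ c = s ^ 2 := by
  obtain ⟨j, rfl⟩ := hm
  rcases hc.eq_or_lt with h0 | hpos
  · exact ⟨0, le_refl 0, by rw [← h0]; ring⟩
  · set t : ℤ := c ^ j with ht
    have htpos : 0 < t := pow_pos hpos j
    have h1 : a ^ 2 = c * t ^ 2 := by
      rw [h, ht]; ring
    have hdvd : t ^ 2 ∣ a ^ 2 := ⟨c, by rw [h1]; ring⟩
    have hdvd' : t ∣ a := (Int.pow_dvd_pow_iff (by norm_num)).mp hdvd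
    obtain ⟨u, hu⟩ := hdvd'
    have h2 : t ^ 2 * u ^ 2 = t ^ 2 * c := by
      have : a ^ 2 = t ^ 2 * u ^ 2 := by rw [hu]; ring
      rw [← this, h1]; ring
    have ht2 : (t ^ 2) ≠ 0 := by positivity
    have h3 : u ^ 2 = c := mul_left_cancel₀ ht2 h2
    refine ⟨|u|, abs_nonneg u, ?_⟩
    rw [sq_abs, h3]

/-- The diophantine core. -/
theorem arith_main (n k lam a b : ℤ) (m : ℕ) (hm : Odd m) (hk1 : 1 ≤ k) (hkn : k < n)
    (hcop : IsCoprime k n) (hl0 : 0 ≤ lam) (hlk : lam ≤ k)
    (h1 : k ^ 2 = (k - lam) + lam * n) (h2 : a ^ 2 = (k - lam) ^ m)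
    (h3 : k ^ m = a + n * b) : k = 1 ∨ k = n - 1 := by
  have hc0 : 0 ≤ k - lam := by linarith
  obtain ⟨s, hs0, hcs⟩ := exists_sq_of_sq_eq_pow_odd a (k - lam) m hm hc0 h2
  obtain ⟨j, hj⟩ := hm
  -- `a = ± s ^ m`
  have ha : a = s ^ m ∨ a = -(s ^ m) := by
    have : a ^ 2 = (s ^ m) ^ 2 := by
      rw [h2, hcs]; ring
    exact sq_eq_sq_iff_eq_or_eq_neg.mp this
  -- `s` coprime to `n`
  have hsn : IsCoprime s n := by
    have hk2 : IsCoprime (k ^ 2) n := hcop.pow_left
    have h1' : k ^ 2 = s ^ 2 + lam * n := by rw [h1, hcs]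
    rw [h1'] at hk2
    have : IsCoprime (s ^ 2) n := by
      have := hk2
      rwa [IsCoprime.add_mul_right_left_iff] at this
    exact (IsCoprime.pow_left_iff (by norm_num)).mp this
  have hs2j : IsCoprime (s ^ (2 * j)) n := hsn.pow_left
  -- congruence
  have hmod : k ^ 2 ≡ s ^ 2 [ZMOD n] := by
    have h1' : k ^ 2 = s ^ 2 + lam * n := by rw [h1, hcs]
    rw [h1']
    exact (Int.modEq_iff_dvd.mpr ⟨-lam, by ring⟩)
  have hmodj : (k ^ 2) ^ j ≡ (s ^ 2) ^ j [ZMOD n] := hmod.pow j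
  have hkm : k ^ m ≡ k * s ^ (2 * j) [ZMOD n] := by
    have e1 : k ^ m = k * (k ^ 2) ^ j := by rw [hj]; ring
    have e2 : k * s ^ (2 * j) = k * (s ^ 2) ^ j := by ring
    rw [e1, e2]
    exact hmodj.mul_left k
  have hka : k ^ m ≡ a [ZMOD n] := by
    rw [h3]
    exact (Int.modEq_iff_dvd.mpr ⟨-b, by ring⟩)
  have hsle : s ≤ k := by
    by_contra hcon
    push Not at hcon
    nlinarith
  have hdvd : n ∣ (k - s) ∨ n ∣ (k + s) := by
    rcases ha with ha | ha
    · left
      have hc : k * s ^ (2 * j) ≡ s ^ m [ZMOD n] := by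
        rw [← ha]; exact hkm.symm.trans hka
      have hd : n ∣ (k - s) * s ^ (2 * j) := by
        have := (Int.modEq_iff_dvd.mp hc.symm)
        have e : k * s ^ (2 * j) - s ^ m = (k - s) * s ^ (2 * j) := by rw [hj]; ring
        rwa [e] at this
      exact hs2j.symm.dvd_of_dvd_mul_right hd
    · right
      have hc : k * s ^ (2 * j) ≡ -(s ^ m) [ZMOD n] := by
        rw [← ha]; exact hkm.symm.trans hka
      have hd : n ∣ (k + s) * s ^ (2 * j) := by
        have := (Int.modEq_iff_dvd.mp hc.symm)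
        have e : k * s ^ (2 * j) - -(s ^ m) = (k + s) * s ^ (2 * j) := by rw [hj]; ring
        rwa [e] at this
      exact hs2j.symm.dvd_of_dvd_mul_right hd
  rcases hdvd with hd | hd
  · left
    have h0 : k - s = 0 := by
      apply Int.eq_zero_of_abs_lt_dvd hd
      rw [abs_of_nonneg (by linarith)]
      linarith
    have hks : k = s := by linarith
    rw [← hks] at hcs
    nlinarith
  · right
    obtain ⟨q, hq⟩ := hd
    have hnpos : 0 < n := by linarith
    have hq1 : q = 1 := by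
      have hqpos : 0 < q := by
        by_contra hcon
        push Not at hcon
        have : n * q ≤ 0 := mul_nonpos_of_nonneg_of_nonpos hnpos.le hcon
        linarith
      have hq2 : q < 2 := by
        by_contra hcon
        push Not at hcon
        have : n * 2 ≤ n * q := mul_le_mul_of_nonneg_left hcon hnpos.le
        linarith
      linarith
    rw [hq1, mul_one] at hq
    -- k + s = n
    have hlam : lam * n = (k - s) * n := by
      have : lam * n = k ^ 2 - s ^ 2 := by rw [h1, hcs]; ring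
      rw [this, ← hq]; ring
    have hlam' : lam = k - s := mul_right_cancel₀ hnpos.ne' hlam
    have hss : s ^ 2 = s := by rw [← hcs, hlam']; ring
    have hs01 : s = 0 ∨ s = 1 := by
      have : s * (s - 1) = 0 := by ring_nf; ring_nf at hss; linarith
      rcases mul_eq_zero.mp this with h | h
      · left; exact h
      · right; linarith
    rcases hs01 with h | h
    · exfalso; rw [h] at hq; linarith
    · rw [h] at hq; linarith

open Matrix in
/-- The all-ones matrix. -/
def allOnes (Ω : Type*) : Matrix Ω Ω ℤ := Matrix.of fun _ _ => 1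

section Mat

variable {Ω : Type*} [Fintype Ω] [DecidableEq Ω]

open Matrix

theorem allOnes_apply (x y : Ω) : allOnes Ω x y = 1 := rfl

theorem allOnes_transpose : (allOnes Ω)ᵀ = allOnes Ω := by
  ext x y; rfl

theorem allOnes_mul_allOnes : allOnes Ω * allOnes Ω = (Fintype.card Ω : ℤ) • allOnes Ω := by
  ext x y
  simp [Matrix.mul_apply, allOnes_apply]

theorem allOnes_mul (M : Matrix Ω Ω ℤ) (k : ℤ) (hcol : ∀ y, ∑ x, M x y = k) :
    allOnes Ω * M = k • allOnes Ω := by
  ext x y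
  simp [Matrix.mul_apply, allOnes_apply, hcol]

theorem transpose_mul_allOnes (M : Matrix Ω Ω ℤ) (k : ℤ) (hcol : ∀ y, ∑ x, M x y = k) :
    Mᵀ * allOnes Ω = k • allOnes Ω := by
  ext x y
  simp [Matrix.mul_apply, allOnes_apply, hcol]

theorem allOnes_mul_pow (M : Matrix Ω Ω ℤ) (k : ℤ) (hcol : ∀ y, ∑ x, M x y = k) (j : ℕ) :
    allOnes Ω * M ^ j = k ^ j • allOnes Ω := by
  induction j with
  | zero => simp
  | succ j ih =>
    rw [pow_succ, ← Matrix.mul_assoc, ih, Matrix.smul_mul, allOnes_mul M k hcol, smul_smul,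
      pow_succ]

theorem transpose_pow_mul_pow (M : Matrix Ω Ω ℤ) (k c lam : ℤ) (hcol : ∀ y, ∑ x, M x y = k)
    (h1 : Mᵀ * M = c • (1 : Matrix Ω Ω ℤ) + lam • allOnes Ω) (j : ℕ) :
    ∃ β : ℤ, (Mᵀ) ^ j * M ^ j = c ^ j • (1 : Matrix Ω Ω ℤ) + β • allOnes Ω := by
  induction j with
  | zero => exact ⟨0, by simp⟩
  | succ j ih =>
    obtain ⟨β, hβ⟩ := ih
    refine ⟨c ^ j * lam + β * k ^ 2, ?_⟩
    have e : (Mᵀ) ^ (j + 1) * M ^ (j + 1) = Mᵀ * ((Mᵀ) ^ j * M ^ j) * M := by
      rw [pow_succ' (Mᵀ), pow_succ M]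
      simp only [Matrix.mul_assoc]
    rw [e, hβ, Matrix.mul_add, Matrix.add_mul, Matrix.mul_smul, Matrix.smul_mul, Matrix.mul_one,
      h1, Matrix.mul_smul, Matrix.smul_mul, transpose_mul_allOnes M k hcol, Matrix.smul_mul,
      allOnes_mul M k hcol]
    simp only [smul_add, smul_smul, pow_succ]
    rw [add_assoc, ← add_smul]
    congr 2
    ring

/-- The matrix core. -/
theorem matrix_main (hn : 2 ≤ Fintype.card Ω) (M : Matrix Ω Ω ℤ) (k c lam a b : ℤ) (m : ℕ)
    (hcol : ∀ y, ∑ x, M x y = k)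
    (h1 : Mᵀ * M = c • (1 : Matrix Ω Ω ℤ) + lam • allOnes Ω)
    (hpow : M ^ m = a • (1 : Matrix Ω Ω ℤ) + b • allOnes Ω) :
    a ^ 2 = c ^ m ∧ k ^ m = a + (Fintype.card Ω : ℤ) * b := by
  obtain ⟨x₀, y₀, hxy⟩ : ∃ x y : Ω, x ≠ y := by
    have : 1 < Fintype.card Ω := by omega
    exact Fintype.exists_pair_of_one_lt_card this
  constructor
  · obtain ⟨β, hβ⟩ := transpose_pow_mul_pow M k c lam hcol h1 m
    have e : (Mᵀ) ^ m * M ^ m
        = (a ^ 2) • (1 : Matrix Ω Ω ℤ) + (2 * a * b + b ^ 2 * (Fintype.card Ω : ℤ)) • allOnes Ω := by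
      rw [← Matrix.transpose_pow, hpow, Matrix.transpose_add, Matrix.transpose_smul,
        Matrix.transpose_smul, Matrix.transpose_one, allOnes_transpose]
      rw [Matrix.mul_add, Matrix.add_mul, Matrix.add_mul]
      simp only [Matrix.smul_mul, Matrix.mul_smul, Matrix.mul_one, Matrix.one_mul,
        allOnes_mul_allOnes, smul_smul]
      rw [add_add_add_comm]
      simp only [← add_smul, add_assoc]
      congr 2 <;> ring
    rw [hβ] at e
    have ed := congrFun (congrFun e x₀) x₀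
    have eo := congrFun (congrFun e x₀) y₀
    simp only [Matrix.add_apply, Matrix.smul_apply, Matrix.one_apply_eq, Matrix.one_apply_ne hxy,
      allOnes_apply, smul_eq_mul, mul_one, mul_zero, zero_add] at ed eo
    linarith
  · have e := allOnes_mul_pow M k hcol m
    rw [hpow, Matrix.mul_add, Matrix.mul_smul, Matrix.mul_smul, Matrix.mul_one,
      allOnes_mul_allOnes, smul_smul, ← add_smul] at e
    have e' := congrFun (congrFun e x₀) x₀
    simp only [Matrix.smul_apply, allOnes_apply, smul_eq_mul, mul_one] at e'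
    linarith

end Mat

end Cfsg.Agent.Lib.Helper27.OddAut
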