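import Cfsg.Agent.Lib.Helper27.OddAutA

/-!
# Odd order automorphisms of doubly transitive groups: group part (helper27)
-/

set_option autoImplicit false
set_option linter.unusedSectionVars false

namespace Cfsg.Agent.Lib.Helper27.OddAut

open MulAction

variable {Ω : Type*} [Fintype Ω] [DecidableEq Ω] (G : Subgroup (Equiv.Perm Ω))

/-- `A` intertwines the `β`-twisted action on rows with the action on columns. -/
def Equi (β : MulAut G) (A : Matrix Ω Ω ℤ) : Prop :=
  ∀ (g : G) (x y : Ω), A (β g • x) (g • y) = A x y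

variable {G}

theorem Equi.mul {β γ : MulAut G} {A B : Matrix Ω Ω ℤ} (hA : Equi G β A) (hB : Equi G γ B) :
    Equi G (β * γ) (A * B) := by
  intro g x y
  rw [Matrix.mul_apply, Matrix.mul_apply]
  rw [← Equiv.sum_comp (MulAction.toPerm (γ g))]
  apply Finset.sum_congr rfl
  intro z _
  rw [MulAut.mul_apply, MulAction.toPerm_apply, hA (γ g) x z, hB g z y]

theorem Equi.one : Equi G (1 : MulAut G) (1 : Matrix Ω Ω ℤ) := by
  intro g x y
  rw [MulAut.one_apply]
  by_cases h : x = y
  · subst h; simp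
  · rw [Matrix.one_apply_ne h, Matrix.one_apply_ne]
    intro h'
    exact h (smul_left_cancel g h')

theorem Equi.pow {α : MulAut G} {M : Matrix Ω Ω ℤ} (hM : Equi G α M) (j : ℕ) :
    Equi G (α ^ j) (M ^ j) := by
  induction j with
  | zero => simpa using Equi.one
  | succ j ih =>
    rw [pow_succ, pow_succ]
    exact ih.mul hM

theorem Equi.transpose_mul {α : MulAut G} {M : Matrix Ω Ω ℤ} (hM : Equi G α M) :
    Equi G (1 : MulAut G) (M.transpose * M) := by
  intro g x y
  rw [MulAut.one_apply, Matrix.mul_apply, Matrix.mul_apply]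
  rw [← Equiv.sum_comp (MulAction.toPerm (α g))]
  apply Finset.sum_congr rfl
  intro z _
  rw [Matrix.transpose_apply, Matrix.transpose_apply, MulAction.toPerm_apply, hM g z x, hM g z y]

/-- Commutant of a doubly transitive group. -/
theorem Equi.eq_of_two_trans (h2 : IsMultiplyPretransitive G Ω 2) {A : Matrix Ω Ω ℤ}
    (hA : Equi G (1 : MulAut G) A) (x₀ y₀ : Ω) (hxy : x₀ ≠ y₀) :
    A = (A x₀ x₀ - A x₀ y₀) • (1 : Matrix Ω Ω ℤ) + (A x₀ y₀) • allOnes Ω := by
  have htr : IsPretransitive G Ω := isPretransitive_of_is_two_pretransitive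
  rw [is_two_pretransitive_iff] at h2
  ext x y
  simp only [Matrix.add_apply, Matrix.smul_apply, allOnes_apply, smul_eq_mul, mul_one]
  by_cases h : x = y
  · subst h
    obtain ⟨g, hg⟩ := exists_smul_eq G x₀ x
    have := hA g x₀ x₀
    rw [MulAut.one_apply, hg] at this
    rw [Matrix.one_apply_eq, this]; ring
  · obtain ⟨g, hg1, hg2⟩ := h2 hxy h
    have := hA g x₀ y₀
    rw [MulAut.one_apply, hg1, hg2] at this
    rw [Matrix.one_apply_ne h, this]; ring

variable (G)

open Classical in
/-- The incidence function between `Ω` and its `α`-twist. -/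
noncomputable def incF (α : MulAut G) (o ω : Ω) : Ω → Ω → ℤ :=
  fun x y => if ∃ h : G, α h • ω = x ∧ h • o = y then 1 else 0

/-- The incidence matrix between `Ω` and its `α`-twist. -/
noncomputable def incM (α : MulAut G) (o ω : Ω) : Matrix Ω Ω ℤ :=
  Matrix.of (incF G α o ω)

variable {G}

theorem incM_apply' (α : MulAut G) (o ω x y : Ω) : incM G α o ω x y = incF G α o ω x y := rfl

theorem incF_apply (α : MulAut G) (o ω x y : Ω) [Decidable (∃ h : G, α h • ω = x ∧ h • o = y)] :
    incF G α o ω x y = if ∃ h : G, α h • ω = x ∧ h • o = y then 1 else 0 := by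
  unfold incF
  congr

theorem incF_equi (α : MulAut G) (o ω : Ω) (g : G) (x y : Ω) :
    incF G α o ω (α g • x) (g • y) = incF G α o ω x y := by
  classical
  rw [incF_apply, incF_apply]
  have : (∃ h : G, α h • ω = α g • x ∧ h • o = g • y) ↔ (∃ h : G, α h • ω = x ∧ h • o = y) := by
    constructor
    · rintro ⟨h, h1, h2⟩
      refine ⟨g⁻¹ * h, ?_, ?_⟩
      · rw [map_mul, map_inv, mul_smul, h1, inv_smul_smul]
      · rw [mul_smul, h2, inv_smul_smul]
    · rintro ⟨h, h1, h2⟩
      refine ⟨g * h, ?_, ?_⟩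
      · rw [map_mul, mul_smul, h1]
      · rw [mul_smul, h2]
  simp only [this]

theorem incM_equi (α : MulAut G) (o ω : Ω) : Equi G α (incM G α o ω) := by
  intro g x y
  exact incF_equi α o ω g x y

theorem incF_mul_self (α : MulAut G) (o ω x y : Ω) :
    incF G α o ω x y * incF G α o ω x y = incF G α o ω x y := by
  classical
  rw [incF_apply]
  split_ifs <;> simp

theorem incF_nonneg (α : MulAut G) (o ω x y : Ω) : 0 ≤ incF G α o ω x y := by
  classical
  rw [incF_apply]
  split_ifs <;> simp

theorem incF_le_one (α : MulAut G) (o ω x y : Ω) : incF G α o ω x y ≤ 1 := by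
  classical
  rw [incF_apply]
  split_ifs <;> simp

/-- The subgroup `K = α(G_o)`. -/
abbrev KK (α : MulAut G) (o : Ω) : Subgroup G := (stabilizer G o).map α.toMonoidHom

theorem mem_orbit_KK_iff (α : MulAut G) (o ω x : Ω) :
    x ∈ orbit (KK α o) ω ↔ ∃ h : G, α h • ω = x ∧ h • o = o := by
  constructor
  · rintro ⟨⟨κ, h, hh, rfl⟩, rfl⟩
    exact ⟨h, rfl, hh⟩
  · rintro ⟨h, rfl, hh⟩
    exact ⟨⟨α h, h, hh, rfl⟩, rfl⟩

theorem incF_col_base (α : MulAut G) (o ω : Ω) :
    ∑ x, incF G α o ω x o = (Nat.card (orbit (KK α o) ω) : ℤ) := by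
  classical
  have e : ∀ x, incF G α o ω x o = if x ∈ orbit (KK α o) ω then 1 else 0 := by
    intro x
    rw [incF_apply]
    simp only [mem_orbit_KK_iff]
  simp only [e]
  rw [Finset.sum_boole]
  congr 1
  rw [Nat.card_eq_fintype_card, Fintype.card_subtype]

theorem incF_col (htr : IsPretransitive G Ω) (α : MulAut G) (o ω y : Ω) :
    ∑ x, incF G α o ω x y = (Nat.card (orbit (KK α o) ω) : ℤ) := by
  obtain ⟨g, rfl⟩ := exists_smul_eq G o y
  rw [← incF_col_base α o ω]
  calc ∑ x, incF G α o ω x (g • o)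
      = ∑ x, incF G α o ω ((MulAction.toPerm (α g)) x) (g • o) :=
        (Equiv.sum_comp (MulAction.toPerm (α g)) (fun x => incF G α o ω x (g • o))).symm
    _ = ∑ x, incF G α o ω x o := by
        apply Finset.sum_congr rfl
        intro x _
        rw [MulAction.toPerm_apply, incF_equi α o ω g x o]

theorem incF_row (htr : IsPretransitive G Ω) (α : MulAut G) (o ω x : Ω) :
    ∑ y, incF G α o ω x y = (Nat.card (orbit (KK α o) ω) : ℤ) := by
  classical
  set k : ℤ := (Nat.card (orbit (KK α o) ω) : ℤ) with hk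
  -- row sums are constant
  have hconst : ∀ x x', ∑ y, incF G α o ω x' y = ∑ y, incF G α o ω x y := by
    intro x x'
    obtain ⟨g', hg'⟩ := exists_smul_eq G x x'
    obtain ⟨g, rfl⟩ : ∃ g, α g = g' := α.surjective g'
    rw [← hg']
    calc ∑ y, incF G α o ω (α g • x) y
        = ∑ y, incF G α o ω (α g • x) ((MulAction.toPerm g) y) :=
          (Equiv.sum_comp (MulAction.toPerm g) (fun y => incF G α o ω (α g • x) y)).symm
      _ = ∑ y, incF G α o ω x y := by
          apply Finset.sum_congr rfl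
          intro y _
          rw [MulAction.toPerm_apply, incF_equi α o ω g x y]
  have htot : ∑ x', ∑ y, incF G α o ω x' y = (Fintype.card Ω : ℤ) * k := by
    rw [Finset.sum_comm]
    simp only [incF_col htr α o ω]
    simp [hk]
  have htot' : ∑ x', ∑ y, incF G α o ω x' y = (Fintype.card Ω : ℤ) * ∑ y, incF G α o ω x y := by
    rw [Finset.sum_congr rfl (fun x' _ => hconst x x')]
    simp
  have hpos : (Fintype.card Ω : ℤ) ≠ 0 := by
    have : 0 < Fintype.card Ω := Fintype.card_pos_iff.mpr ⟨x⟩
    exact_mod_cast this.ne'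
  exact mul_left_cancel₀ hpos (htot'.symm.trans htot)

end Cfsg.Agent.Lib.Helper27.OddAut
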