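import Cfsg.Agent.Lib.Helper27.OddAutB

/-!
# Odd order automorphisms of doubly transitive groups: the orbit length (helper27)
-/

set_option autoImplicit false
set_option linter.unusedSectionVars false

namespace Cfsg.Agent.Lib.Helper27.OddAut

open MulAction

variable {Ω : Type*} [Fintype Ω] [DecidableEq Ω] {G : Subgroup (Equiv.Perm Ω)}

theorem card_orbit_pos (α : MulAut G) (o ω : Ω) : 1 ≤ Nat.card (orbit (KK α o) ω) := by
  have : Nonempty (orbit (KK α o) ω) := ⟨⟨ω, mem_orbit_self ω⟩⟩
  exact Nat.card_pos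

theorem card_orbit_le (α : MulAut G) (o ω : Ω) :
    Nat.card (orbit (KK α o) ω) ≤ Fintype.card Ω := by
  rw [← Nat.card_eq_fintype_card]
  exact Nat.card_le_card_of_injective Subtype.val Subtype.val_injective

theorem key (h2 : IsMultiplyPretransitive G Ω 2) (o : Ω) (α : MulAut G)
    (hα : Odd (orderOf α)) (ω : Ω)
    (hcop : (Nat.card (orbit (KK α o) ω)).Coprime (Fintype.card Ω)) :
    Nat.card (orbit (KK α o) ω) = 1 ∨ Nat.card (orbit (KK α o) ω) = Fintype.card Ω - 1 := by
  classical
  have hk1 := card_orbit_pos α o ω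
  have hkn := card_orbit_le α o ω
  set k := Nat.card (orbit (KK α o) ω) with hkdef
  set n := Fintype.card Ω with hndef
  by_cases hn : n ≤ 1
  · left; omega
  push Not at hn
  have hn2 : 2 ≤ n := hn
  have hklt : k < n := by
    rcases hkn.eq_or_lt with h | h
    · exfalso
      rw [h, Nat.coprime_self] at hcop
      omega
    · exact h
  have htr : IsPretransitive G Ω := isPretransitive_of_is_two_pretransitive
  obtain ⟨x₀, y₀, hxy⟩ : ∃ x y : Ω, x ≠ y :=
    Fintype.exists_pair_of_one_lt_card (by omega)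
  set M := incM G α o ω with hM
  have hcol : ∀ y, ∑ x, M x y = (k : ℤ) := fun y => incF_col htr α o ω y
  have hrow : ∀ x, ∑ y, M x y = (k : ℤ) := fun x => incF_row htr α o ω x
  -- `Mᵀ M`
  have hE := (incM_equi α o ω).transpose_mul
  have h1 := Equi.eq_of_two_trans h2 hE x₀ y₀ hxy
  have hdiag : (M.transpose * M) x₀ x₀ = (k : ℤ) := by
    rw [Matrix.mul_apply, ← hcol x₀]
    apply Finset.sum_congr rfl
    intro x _
    rw [Matrix.transpose_apply]
    exact incF_mul_self α o ω x x₀
  set lam : ℤ := (M.transpose * M) x₀ y₀ with hlam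
  have hlam_eq : lam = ∑ x, M x x₀ * M x y₀ := by
    rw [hlam, Matrix.mul_apply]
    apply Finset.sum_congr rfl
    intro x _
    rw [Matrix.transpose_apply]
  have hl0 : 0 ≤ lam := by
    rw [hlam_eq]
    apply Finset.sum_nonneg
    intro x _
    exact mul_nonneg (incF_nonneg α o ω x x₀) (incF_nonneg α o ω x y₀)
  have hlk : lam ≤ (k : ℤ) := by
    rw [hlam_eq, ← hcol x₀]
    apply Finset.sum_le_sum
    intro x _
    have h1 := incF_le_one α o ω x y₀
    have h0 := incF_nonneg α o ω x x₀
    change incF G α o ω x x₀ * incF G α o ω x y₀ ≤ incF G α o ω x x₀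
    nlinarith
  rw [hdiag] at h1
  -- the relation `k^2 = (k - lam) + lam * n`
  have hrel : (k : ℤ) ^ 2 = ((k : ℤ) - lam) + lam * (n : ℤ) := by
    have e1 : ∑ y, (M.transpose * M) x₀ y = (k : ℤ) ^ 2 := by
      have : ∀ y, (M.transpose * M) x₀ y = ∑ x, M x x₀ * M x y := by
        intro y
        rw [Matrix.mul_apply]
        apply Finset.sum_congr rfl
        intro x _
        rw [Matrix.transpose_apply]
      simp only [this]
      rw [Finset.sum_comm]
      simp only [← Finset.mul_sum, hrow]
      rw [← Finset.sum_mul, hcol x₀]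
      ring
    have e2 : ∑ y, (M.transpose * M) x₀ y = ((k : ℤ) - lam) + lam * (n : ℤ) := by
      rw [h1]
      simp only [Matrix.add_apply, Matrix.smul_apply, allOnes_apply, smul_eq_mul, mul_one,
        Matrix.one_apply]
      rw [Finset.sum_add_distrib]
      simp [hndef, mul_comm]
    rw [← e1, e2]
  -- `M ^ m`
  set m := orderOf α with hm
  have hP : Equi G (1 : MulAut G) (M ^ m) := by
    have := (incM_equi α o ω).pow m
    rwa [hm, pow_orderOf_eq_one] at this
  have h3 := Equi.eq_of_two_trans h2 hP x₀ y₀ hxy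
  obtain ⟨ha, hb⟩ := matrix_main (by omega) M (k : ℤ) ((k : ℤ) - lam) lam _ _ m hcol h1 h3
  have := arith_main (n : ℤ) (k : ℤ) lam _ _ m hα (by exact_mod_cast hk1) (by exact_mod_cast hklt)
    (Nat.isCoprime_iff_coprime.mpr hcop) hl0 hlk hrel ha hb
  rcases this with h | h
  · left; exact_mod_cast h
  · right
    have : (k : ℤ) + 1 = (n : ℤ) := by linarith
    have : k + 1 = n := by exact_mod_cast this
    omega

end Cfsg.Agent.Lib.Helper27.OddAut
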