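import Cfsg.Agent.Lib.Helper27.OddAutC

/-!
# Odd order automorphisms of doubly transitive groups: the inducing permutation (helper27)
-/

set_option autoImplicit false
set_option linter.unusedSectionVars false

namespace Cfsg.Agent.Lib.Helper27.OddAut

open MulAction

variable {Ω : Type*} [Fintype Ω] [DecidableEq Ω] {G : Subgroup (Equiv.Perm Ω)}

theorem exists_fixed (α : MulAut G) (o ω : Ω)
    (h : Nat.card (orbit (KK α o) ω) = 1 ∨ Nat.card (orbit (KK α o) ω) = Fintype.card Ω - 1) :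
    ∃ ω' : Ω, KK α o ≤ stabilizer G ω' := by
  classical
  rcases h with h | h
  · refine ⟨ω, ?_⟩
    intro κ hκ
    rw [mem_stabilizer_iff]
    have hsub : Subsingleton (orbit (KK α o) ω) := by
      have := (Nat.card_eq_one_iff_unique.mp h).1
      exact this
    have h1 : (⟨κ, hκ⟩ : KK α o) • ω ∈ orbit (KK α o) ω := mem_orbit _ _
    have h2 : ω ∈ orbit (KK α o) ω := mem_orbit_self ω
    have := Subsingleton.elim (⟨_, h1⟩ : orbit (KK α o) ω) ⟨_, h2⟩
    exact congrArg Subtype.val this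
  · have hpos := card_orbit_pos α o ω
    have hc : Fintype.card ((orbit (KK α o) ω)ᶜ : Set Ω) = 1 := by
      rw [Fintype.card_compl_set, ← Nat.card_eq_fintype_card (α := orbit (KK α o) ω), h]
      omega
    obtain ⟨⟨ω', hω'⟩, huniq⟩ := Fintype.card_eq_one_iff.mp hc
    refine ⟨ω', ?_⟩
    intro κ hκ
    rw [mem_stabilizer_iff]
    have hmem : κ • ω' ∈ ((orbit (KK α o) ω)ᶜ : Set Ω) := by
      intro hin
      apply hω'
      obtain ⟨κ₁, hκ₁⟩ := hin
      refine ⟨(⟨κ, hκ⟩ : KK α o)⁻¹ * κ₁, ?_⟩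
      have hκ₁' : κ₁ • ω = (⟨κ, hκ⟩ : KK α o) • ω' := hκ₁
      change ((⟨κ, hκ⟩ : KK α o)⁻¹ * κ₁) • ω = ω'
      rw [mul_smul, hκ₁', inv_smul_smul]
    have := huniq ⟨_, hmem⟩
    exact congrArg Subtype.val this

theorem card_stabilizer_eq (htr : IsPretransitive G Ω) (x y : Ω) :
    Nat.card (stabilizer G x) = Nat.card (stabilizer G y) := by
  have h1 := (stabilizer G x).card_mul_index
  have h2 := (stabilizer G y).card_mul_index
  rw [index_stabilizer_of_transitive] at h1 h2
  have hpos : 0 < Nat.card Ω := Nat.card_pos_iff.mpr ⟨⟨x⟩, inferInstance⟩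
  exact Nat.eq_of_mul_eq_mul_right hpos (h1.trans h2.symm)

theorem KK_eq_stabilizer (htr : IsPretransitive G Ω) (α : MulAut G) (o ω' : Ω)
    (h : KK α o ≤ stabilizer G ω') : KK α o = stabilizer G ω' := by
  apply Subgroup.eq_of_le_of_card_ge h
  rw [← card_stabilizer_eq htr o ω']
  exact (Subgroup.card_map_of_injective α.injective).ge

theorem exists_perm (htr : IsPretransitive G Ω) (α : MulAut G) (o ω' : Ω)
    (hK : KK α o = stabilizer G ω') :
    ∃ σ : Equiv.Perm Ω, σ ∈ Subgroup.normalizer (G : Set (Equiv.Perm Ω)) ∧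
      ∀ g : G, ((α g : G) : Equiv.Perm Ω) = σ * (g : Equiv.Perm Ω) * σ⁻¹ := by
  classical
  -- membership in `K`
  have hmemK : ∀ g : G, α g • ω' = ω' ↔ g • o = o := by
    intro g
    constructor
    · intro hg
      have : α g ∈ KK α o := by rw [hK]; exact hg
      obtain ⟨h, hh, hhg⟩ := this
      have : h = g := α.injective hhg
      rw [← this]; exact hh
    · intro hg
      have : α g ∈ KK α o := ⟨g, hg, rfl⟩
      rw [hK] at this
      exact this
  let f : Ω → Ω := fun x => α (Classical.choose (exists_smul_eq G o x)) • ω'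
  have hf : ∀ g : G, f (g • o) = α g • ω' := by
    intro g
    have hc := Classical.choose_spec (exists_smul_eq G o (g • o))
    set g₀ := Classical.choose (exists_smul_eq G o (g • o)) with hg₀
    change α g₀ • ω' = α g • ω'
    have h1 : (g⁻¹ * g₀) • o = o := by rw [mul_smul, hc, inv_smul_smul]
    have h2 := (hmemK _).mpr h1
    rw [map_mul, map_inv, mul_smul, inv_smul_eq_iff] at h2
    exact h2
  have hfe : ∀ (g : G) (x : Ω), f (g • x) = α g • f x := by
    intro g x
    obtain ⟨g', rfl⟩ := exists_smul_eq G o x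
    rw [← mul_smul, hf, hf, map_mul, mul_smul]
  have hinj : Function.Injective f := by
    intro x y hxy
    obtain ⟨g, rfl⟩ := exists_smul_eq G o x
    obtain ⟨g', rfl⟩ := exists_smul_eq G o y
    rw [hf, hf] at hxy
    have h1 : α (g⁻¹ * g') • ω' = ω' := by
      rw [map_mul, map_inv, mul_smul, ← hxy, inv_smul_smul]
    have h2 := (hmemK _).mp h1
    rw [mul_smul, inv_smul_eq_iff] at h2
    exact h2.symm
  have hbij : Function.Bijective f := hinj.bijective_of_finite
  let σ : Equiv.Perm Ω := Equiv.ofBijective f hbij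
  have hσ : ∀ g : G, ((α g : G) : Equiv.Perm Ω) = σ * (g : Equiv.Perm Ω) * σ⁻¹ := by
    intro g
    ext z
    have h1 : (σ * (g : Equiv.Perm Ω) * σ⁻¹) z = f (g • (σ⁻¹ z)) := rfl
    rw [h1, hfe]
    have h2 : f (σ⁻¹ z) = z := by
      change σ (σ⁻¹ z) = z
      simp
    rw [h2]
    rfl
  refine ⟨σ, ?_, hσ⟩
  rw [Subgroup.mem_set_normalizer_iff]
  intro h
  constructor
  · intro hh
    have := hσ ⟨h, hh⟩
    change σ * h * σ⁻¹ ∈ G
    rw [← this]
    exact (α ⟨h, hh⟩).2
  · intro hh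
    obtain ⟨g, hg⟩ := α.surjective ⟨σ * h * σ⁻¹, hh⟩
    have h1 := hσ g
    rw [hg] at h1
    have h2 : h = (g : Equiv.Perm Ω) := by
      have : σ * h * σ⁻¹ = σ * (g : Equiv.Perm Ω) * σ⁻¹ := h1
      have := mul_right_cancel this
      exact mul_left_cancel this
    rw [h2]
    exact g.2

/-- Main theorem (S4276 in lib form). -/
theorem main (h2 : IsMultiplyPretransitive G Ω 2) (o : Ω) (α : MulAut G)
    (hα : Odd (orderOf α)) (ω : Ω)
    (hcop : (Nat.card (orbit (KK α o) ω)).Coprime (Fintype.card Ω)) :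
    (∃ σ : Equiv.Perm Ω, σ ∈ Subgroup.normalizer (G : Set (Equiv.Perm Ω)) ∧
      ∀ g : G, ((α g : G) : Equiv.Perm Ω) = σ * (g : Equiv.Perm Ω) * σ⁻¹) ∧
    (Nat.card (orbit (KK α o) ω) = 1 ∨ Nat.card (orbit (KK α o) ω) = Fintype.card Ω - 1) := by
  have hkey := key h2 o α hα ω hcop
  have htr : IsPretransitive G Ω := isPretransitive_of_is_two_pretransitive
  obtain ⟨ω', hω'⟩ := exists_fixed α o ω hkey
  exact ⟨exists_perm htr α o ω' (KK_eq_stabilizer htr α o ω' hω'), hkey⟩

end Cfsg.Agent.Lib.Helper27.OddAut
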