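import Cfsg.Agent.Lib.Helper27.OddAutD

/-!
# Towards the Schreier conjecture for groups with a subgroup of prime index (helper27)
General lemmas: solvability from odd-order elements, centralizer of a `p`-cycle in `Sym(p)`.
-/

set_option autoImplicit false
set_option linter.unusedSectionVars false

namespace Cfsg.Agent.Lib.Helper27.OddAut

/-- If all elements of odd order of a finite group lie in an abelian normal subgroup,
the group is solvable. -/
theorem isSolvable_of_odd_mem {C : Type*} [Group C] [Finite C] (Q : Subgroup C) [Q.Normal]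
    (hQ : ∀ a ∈ Q, ∀ b ∈ Q, a * b = b * a) (h : ∀ c : C, Odd (orderOf c) → c ∈ Q) :
    Group.IsSolvable C := by
  have hP : IsPGroup 2 (C ⧸ Q) := by
    intro x
    induction x using QuotientGroup.induction_on with
    | H c =>
      have hc0 : orderOf c ≠ 0 := (orderOf_pos c).ne'
      obtain ⟨k, m, hm, hkm⟩ := Nat.exists_eq_two_pow_mul_odd hc0
      refine ⟨k, ?_⟩
      have hord : orderOf (c ^ 2 ^ k) = m := by
        rw [orderOf_pow_of_dvd (by positivity) ⟨m, hkm⟩, hkm]
        exact Nat.mul_div_cancel_left m (by positivity)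
      have : c ^ 2 ^ k ∈ Q := h _ (hord ▸ hm)
      rw [← QuotientGroup.mk_pow]
      exact (QuotientGroup.eq_one_iff _).mpr this
  have : Fact (Nat.Prime 2) := ⟨Nat.prime_two⟩
  have : Group.IsNilpotent (C ⧸ Q) := hP.isNilpotent
  have : Group.IsSolvable (C ⧸ Q) := inferInstance
  have : Group.IsSolvable Q := Group.isSolvable_of_comm (fun a b => Subtype.ext (hQ a a.2 b b.2))
  exact Group.isSolvable_of_ker_le_range Q.subtype (QuotientGroup.mk' Q)
    (by rw [QuotientGroup.ker_mk', Subgroup.range_subtype])

/-- In the symmetric group of prime degree `p`, the centralizer of an element of order `p`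
is the cyclic group it generates. -/
theorem mem_zpowers_of_commute {Ω : Type*} [Fintype Ω] [DecidableEq Ω]
    (hp : (Fintype.card Ω).Prime) (τ σ : Equiv.Perm Ω) (hτ : τ ≠ 1)
    (hτp : τ ^ Fintype.card Ω = 1) (hc : Commute σ τ) : σ ∈ Subgroup.zpowers τ := by
  set p := Fintype.card Ω with hpdef
  have hord : orderOf τ = p := by
    have := orderOf_dvd_of_pow_eq_one hτp
    rcases (Nat.dvd_prime hp).mp this with h | h
    · exact absurd (orderOf_eq_one_iff.mp h) hτ
    · exact h
  obtain ⟨o, ho⟩ : ∃ o, τ o ≠ o := by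
    by_contra hcon
    push Not at hcon
    exact hτ (Equiv.ext hcon)
  have horb : MulAction.orbit (Subgroup.zpowers τ) o = Set.univ := by
    rw [Set.eq_univ_iff_ncard, Nat.card_eq_fintype_card]
    have hdvd : (MulAction.orbit (Subgroup.zpowers τ) o).ncard ∣ p := by
      rw [← MulAction.index_stabilizer, ← hord, ← Nat.card_zpowers]
      exact Subgroup.index_dvd_card _
    rcases (Nat.dvd_prime hp).mp hdvd with h | h
    · exfalso
      rw [Set.ncard_eq_one] at h
      obtain ⟨a, ha⟩ := h
      have h1 : o ∈ MulAction.orbit (Subgroup.zpowers τ) o := MulAction.mem_orbit_self o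
      have h2 : τ o ∈ MulAction.orbit (Subgroup.zpowers τ) o :=
        ⟨⟨τ, Subgroup.mem_zpowers τ⟩, rfl⟩
      rw [ha] at h1 h2
      exact ho (h2.trans h1.symm)
    · exact h
  have hσo : σ o ∈ MulAction.orbit (Subgroup.zpowers τ) o := by rw [horb]; trivial
  obtain ⟨⟨ρ, hρ⟩, hρo⟩ := hσo
  have hρo' : ρ o = σ o := hρo
  have hρc : Commute ρ τ := by
    obtain ⟨j, rfl⟩ := hρ
    exact (Commute.refl τ).zpow_left j
  have hσρ : σ = ρ := by
    ext z
    have hz : z ∈ MulAction.orbit (Subgroup.zpowers τ) o := by rw [horb]; trivial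
    obtain ⟨⟨π, hπ⟩, hπz⟩ := hz
    have hπz' : π o = z := hπz
    have hπσ : Commute σ π := by
      obtain ⟨i, rfl⟩ := hπ
      exact hc.zpow_right i
    have hπρ : Commute ρ π := by
      obtain ⟨i, rfl⟩ := hπ
      exact hρc.zpow_right i
    rw [← hπz']
    calc σ (π o) = (σ * π) o := rfl
      _ = (π * σ) o := by rw [hπσ.eq]
      _ = π (σ o) := rfl
      _ = π (ρ o) := by rw [hρo']
      _ = (π * ρ) o := rfl
      _ = (ρ * π) o := by rw [hπρ.eq]
      _ = ρ (π o) := rfl
  rw [hσρ]
  exact hρ

/-- The automorphism group of a cyclic group is commutative. -/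
theorem mulAut_comm_of_isCyclic {P : Type*} [Group P] [IsCyclic P] (a b : MulAut P) :
    a * b = b * a := by
  apply (IsCyclic.mulAutMulEquiv P).injective
  rw [map_mul, map_mul, mul_comm]

end Cfsg.Agent.Lib.Helper27.OddAut
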