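import Cfsg.Agent.Lib.Helper27.OddAutE
import Cfsg.Agent.S0675

/-!
# The Schreier conjecture for simple groups with a subgroup of prime index (helper27)

`exists_solvable_supplement`: for a finite simple group `G` with a subgroup of prime index there
is a solvable subgroup `S` of `Aut G` with `Aut G = Inn G · S`.
-/

set_option autoImplicit false
set_option linter.unusedSectionVars false

namespace Cfsg.Agent.Lib.Helper27.OddAut

open MulAction
open scoped commutatorElement

section Sch

variable {G : Type*} [Group G]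

/-- automorphisms stabilizing the subgroup `P` -/
def stabSub (P : Subgroup G) : Subgroup (MulAut G) where
  carrier := {β | ∀ y, y ∈ P ↔ β y ∈ P}
  one_mem' := fun _ => Iff.rfl
  mul_mem' := by
    intro β γ hβ hγ y
    rw [MulAut.mul_apply]
    exact (hγ y).trans (hβ (γ y))
  inv_mem' := by
    intro β hβ y
    have := hβ (β⁻¹ y)
    rw [MulAut.apply_inv_self] at this
    exact this.symm

/-- automorphisms fixing the subgroup `P` pointwise -/
def fixSub (P : Subgroup G) : Subgroup (MulAut G) where
  carrier := {β | ∀ y ∈ P, β y = y}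
  one_mem' := fun _ _ => rfl
  mul_mem' := by
    intro β γ hβ hγ y hy
    rw [MulAut.mul_apply, hγ y hy, hβ y hy]
  inv_mem' := by
    intro β hβ y hy
    have := hβ y hy
    calc β⁻¹ y = β⁻¹ (β y) := by rw [this]
      _ = y := MulAut.inv_apply_self _ β y

theorem mem_stabSub {P : Subgroup G} {β : MulAut G} :
    β ∈ stabSub P ↔ ∀ y, y ∈ P ↔ β y ∈ P := Iff.rfl

theorem mem_fixSub {P : Subgroup G} {β : MulAut G} :
    β ∈ fixSub P ↔ ∀ y ∈ P, β y = y := Iff.rfl

theorem fixSub_le_stabSub (P : Subgroup G) : fixSub P ≤ stabSub P := by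
  intro β hβ y
  constructor
  · intro hy; rw [hβ y hy]; exact hy
  · intro hy
    have h1 := hβ (β y) hy
    have h2 : β y = y := β.injective h1
    rw [← h2]; exact hy

theorem commutator_mem_fixSub (x : G) (β γ : MulAut G) (hβ : β ∈ stabSub (Subgroup.zpowers x))
    (hγ : γ ∈ stabSub (Subgroup.zpowers x)) : ⁅β, γ⁆ ∈ fixSub (Subgroup.zpowers x) := by
  obtain ⟨i, hi⟩ := (hβ x).mp (Subgroup.mem_zpowers x)
  obtain ⟨j, hj⟩ := (hγ x).mp (Subgroup.mem_zpowers x)
  have hi' : β x = x ^ i := hi.symm
  have hj' : γ x = x ^ j := hj.symm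
  have hcomm : ∀ u ∈ Subgroup.zpowers x, β (γ u) = γ (β u) := by
    rintro u ⟨k, rfl⟩
    change β (γ (x ^ k)) = γ (β (x ^ k))
    have e1 : β (γ x) = γ (β x) := by
      rw [hj', hi', map_zpow, map_zpow, hi', hj', ← zpow_mul, ← zpow_mul, mul_comm]
    rw [map_zpow, map_zpow, map_zpow, map_zpow, e1]
  intro y hy
  rw [commutatorElement_def]
  simp only [MulAut.mul_apply]
  have hu : β⁻¹ (γ⁻¹ y) ∈ Subgroup.zpowers x := by
    have h1 : γ⁻¹ y ∈ Subgroup.zpowers x := ((stabSub _).inv_mem hγ y).mp hy
    exact ((stabSub _).inv_mem hβ _).mp h1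
  rw [hcomm _ hu, MulAut.apply_inv_self, MulAut.apply_inv_self]

theorem isSolvable_stabSub (x : G) (h : Group.IsSolvable (fixSub (Subgroup.zpowers x))) :
    Group.IsSolvable (stabSub (Subgroup.zpowers x)) := by
  refine Group.isSolvable_of_ker_le_range
    (Subgroup.inclusion (fixSub_le_stabSub (Subgroup.zpowers x)))
    (Abelianization.of (G := stabSub (Subgroup.zpowers x))) ?_
  rw [Abelianization.ker_of, commutator_eq_closure, Subgroup.closure_le]
  rintro _ ⟨β, γ, rfl⟩
  refine ⟨⟨(⁅β, γ⁆ : stabSub (Subgroup.zpowers x)), ?_⟩, Subtype.ext rfl⟩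
  have := commutator_mem_fixSub x β γ β.2 γ.2
  have e : ((⁅β, γ⁆ : stabSub (Subgroup.zpowers x)) : MulAut G)
      = ⁅(β : MulAut G), (γ : MulAut G)⁆ := by
    simp [commutatorElement_def]
  rw [e]
  exact this

theorem conj_mem_fixSub (P : Subgroup G) (hP : ∀ a ∈ P, ∀ b ∈ P, a * b = b * a) (y : G)
    (hy : y ∈ P) : MulAut.conj y ∈ fixSub P := by
  intro z hz
  rw [MulAut.conj_apply, hP y hy z hz, mul_inv_cancel_right]

theorem conj_apply_comm (c : MulAut G) (y : G) : c * MulAut.conj y * c⁻¹ = MulAut.conj (c y) := by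
  ext z
  simp [MulAut.mul_apply, MulAut.conj_apply]

end Sch

section Main

variable {G : Type*} [Group G] [Finite G] [IsSimpleGroup G]

theorem toPermHom_injective (H : Subgroup G) (hH : H ≠ ⊤) :
    Function.Injective (MulAction.toPermHom G (G ⧸ H)) := by
  rw [← MonoidHom.ker_eq_bot_iff]
  rcases (MulAction.toPermHom G (G ⧸ H)).normal_ker.eq_bot_or_eq_top with h | h
  · exact h
  · exfalso
    apply hH
    rw [eq_top_iff]
    intro g _
    have hg : g ∈ (MulAction.toPermHom G (G ⧸ H)).ker := by rw [h]; trivial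
    rw [MonoidHom.mem_ker] at hg
    have h1 : MulAction.toPermHom G (G ⧸ H) g ((1 : G) : G ⧸ H) = ((1 : G) : G ⧸ H) := by
      rw [hg]; rfl
    have h2 : ((g * 1 : G) : G ⧸ H) = ((1 : G) : G ⧸ H) := h1
    rw [mul_one, QuotientGroup.eq] at h2
    simpa using H.inv_mem h2

/-- Automorphisms of odd order are induced by permutations of the cosets. -/
theorem exists_perm_of_odd (hnc : ¬ ∀ a b : G, a * b = b * a) (H : Subgroup G)
    (hH : H.index.Prime) [Fintype (G ⧸ H)] [DecidableEq (G ⧸ H)] (α : MulAut G)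
    (hα : Odd (orderOf α)) :
    ∃ σ : Equiv.Perm (G ⧸ H), ∀ g, MulAction.toPermHom G (G ⧸ H) (α g)
      = σ * MulAction.toPermHom G (G ⧸ H) g * σ⁻¹ := by
  set Ω := G ⧸ H with hΩ
  set φ := MulAction.toPermHom G Ω with hφdef
  have hHtop : H ≠ ⊤ := by
    rintro rfl
    rw [Subgroup.index_top] at hH
    exact Nat.not_prime_one hH
  have hφ : Function.Injective φ := toPermHom_injective H hHtop
  have hcard : Fintype.card Ω = H.index := by
    rw [← Nat.card_eq_fintype_card]; exact (Subgroup.index_eq_card H).symm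
  set p := H.index with hp
  let e : G ≃* φ.range := MonoidHom.ofInjective hφ
  have hcoe : ∀ g : G, ((e g : φ.range) : Equiv.Perm Ω) = φ g := fun g => rfl
  -- transitivity
  have htr : IsPretransitive φ.range Ω := by
    constructor
    intro a b
    obtain ⟨g, hg⟩ := MulAction.exists_smul_eq G a b
    exact ⟨e g, hg⟩
  -- double transitivity
  have h2 : IsMultiplyPretransitive φ.range Ω 2 := by
    rcases Cfsg.Agent.S0675.burnside (hcard ▸ hH) φ.range with h | h
    · exfalso
      apply hnc
      have : Group.IsSolvable G := Group.isSolvable_of_isSolvable_injective (f := e.toMonoidHom) e.injective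
      exact IsSimpleGroup.comm_iff_isSolvable.mpr this
    · exact h
  -- Hall condition
  set o : Ω := ((1 : G) : G ⧸ H) with ho
  have hidx : (stabilizer φ.range o).index = p := by
    rw [index_stabilizer_of_transitive, Nat.card_eq_fintype_card, hcard]
  have hHall : (Nat.card (stabilizer φ.range o)).Coprime (stabilizer φ.range o).index := by
    rw [hidx]
    apply Nat.Coprime.symm
    rw [Nat.Prime.coprime_iff_not_dvd hH]
    intro hdvd
    have h1 : p * p ∣ Nat.card φ.range := by
      rw [← (stabilizer φ.range o).card_mul_index, hidx]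
      exact Nat.mul_dvd_mul_right hdvd p
    have h3 : Nat.card φ.range ∣ (Fintype.card Ω).factorial := by
      rw [← Fintype.card_perm, ← Nat.card_eq_fintype_card]
      exact Subgroup.card_subgroup_dvd_card _
    rw [hcard] at h3
    have h4 : p * p ∣ p.factorial := h1.trans h3
    have hp1 : p = (p - 1) + 1 := by have := hH.pos; omega
    rw [hp1, Nat.factorial_succ, ← hp1] at h4
    have h5 : p ∣ (p - 1).factorial := (Nat.mul_dvd_mul_iff_left hH.pos).mp h4
    have h6 := (Nat.Prime.dvd_factorial hH).mp h5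
    have := hH.pos
    omega
  -- transport `α`
  set α' : MulAut φ.range := MulAut.congr e α with hα'
  have hordα' : orderOf α' = orderOf α := MulEquiv.orderOf_eq (MulAut.congr e) α
  have hα'odd : Odd (orderOf α') := hordα' ▸ hα
  have hα'app : ∀ g : G, α' (e g) = e (α g) := by
    intro g
    simp [hα', MulAut.congr]
  have hdvd : Nat.card (orbit (KK α' o) o) ∣ Nat.card (KK α' o) := by
    rw [Nat.card_coe_set_eq, ← MulAction.index_stabilizer]
    exact Subgroup.index_dvd_card _
  have hcardK : Nat.card (KK α' o) = Nat.card (stabilizer φ.range o) :=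
    Subgroup.card_map_of_injective α'.injective
  have hcop : (Nat.card (orbit (KK α' o) o)).Coprime (Fintype.card Ω) := by
    rw [hcard, ← hidx]
    rw [hcardK] at hdvd
    exact Nat.Coprime.coprime_dvd_left hdvd hHall
  obtain ⟨σ, -, hσ⟩ := (main h2 o α' hα'odd o hcop).1
  refine ⟨σ, fun g => ?_⟩
  have := hσ (e g)
  rw [hα'app, hcoe, hcoe] at this
  exact this

end Main

end Cfsg.Agent.Lib.Helper27.OddAut
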