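import Cfsg.Agent.Lib.Helper27.OddAutF

/-!
# The Schreier conjecture for simple groups with a subgroup of prime index: assembly (helper27)
-/

set_option autoImplicit false
set_option linter.unusedSectionVars false

namespace Cfsg.Agent.Lib.Helper27.OddAut

open MulAction
open scoped Pointwise

variable {G : Type*} [Group G] [Finite G] [IsSimpleGroup G]

theorem card_dvd_factorial_of_index (H : Subgroup G) (hH : H ≠ ⊤) :
    Nat.card G ∣ H.index.factorial := by
  classical
  have : Fintype (G ⧸ H) := Fintype.ofFinite _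
  have hφ := toPermHom_injective H hH
  have hcard : Fintype.card (G ⧸ H) = H.index := by
    rw [← Nat.card_eq_fintype_card]; exact (Subgroup.index_eq_card H).symm
  rw [← hcard, ← Fintype.card_perm, ← Nat.card_eq_fintype_card]
  rw [Nat.card_congr (MonoidHom.ofInjective hφ).toEquiv]
  exact Subgroup.card_subgroup_dvd_card _

theorem factorization_eq_one (H : Subgroup G) (hH : H.index.Prime) :
    (Nat.card G).factorization H.index = 1 := by
  set p := H.index with hp
  have hHtop : H ≠ ⊤ := by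
    rintro rfl
    rw [hp, Subgroup.index_top] at hH
    exact Nat.not_prime_one hH
  have h1 : p ∣ Nat.card G := Subgroup.index_dvd_card H
  have hG0 : Nat.card G ≠ 0 := Nat.card_pos.ne'
  have hge : 1 ≤ (Nat.card G).factorization p :=
    (hH.dvd_iff_one_le_factorization hG0).mp h1
  have hlt : ¬ 2 ≤ (Nat.card G).factorization p := by
    intro h2
    have h3 : p ^ 2 ∣ Nat.card G := (hH.pow_dvd_iff_le_factorization hG0).mpr h2
    have h4 : p ^ 2 ∣ p.factorial := h3.trans (card_dvd_factorial_of_index H hHtop)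
    have hp1 : p = (p - 1) + 1 := by have := hH.pos; omega
    rw [hp1, Nat.factorial_succ, ← hp1, pow_two] at h4
    have h5 : p ∣ (p - 1).factorial := (Nat.mul_dvd_mul_iff_left hH.pos).mp h4
    have h6 := (Nat.Prime.dvd_factorial hH).mp h5
    have := hH.pos
    omega
  omega

/-- Frattini argument for a subgroup of order `p`. -/
theorem exists_conj_mul_stab (H : Subgroup G) (hH : H.index.Prime) (x : G)
    (hx : orderOf x = H.index) (α : MulAut G) :
    ∃ g : G, ∃ β ∈ stabSub (Subgroup.zpowers x), α = MulAut.conj g * β := by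
  classical
  set p := H.index with hp
  have : Fact p.Prime := ⟨hH⟩
  set P := Subgroup.zpowers x with hP
  have hfac := factorization_eq_one H hH
  have hcardP : Nat.card P = p := by rw [hP, Nat.card_zpowers, hx]
  set R := P.map α.toMonoidHom with hR
  have hcardR : Nat.card R = p := by
    rw [hR, Subgroup.card_map_of_injective α.injective, hcardP]
  have hPp : IsPGroup p P := IsPGroup.of_card (n := 1) (by rw [hcardP, pow_one])
  have hRp : IsPGroup p R := IsPGroup.of_card (n := 1) (by rw [hcardR, pow_one])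
  obtain ⟨Q₁, hQ₁⟩ := hPp.exists_le_sylow
  obtain ⟨Q₂, hQ₂⟩ := hRp.exists_le_sylow
  have hcQ : ∀ Q : Sylow p G, Nat.card Q = p := by
    intro Q
    rw [Q.card_eq_multiplicity, hfac, pow_one]
  have hPQ : P = (Q₁ : Subgroup G) :=
    Subgroup.eq_of_le_of_card_ge hQ₁ (by rw [hcQ Q₁, hcardP])
  have hRQ : R = (Q₂ : Subgroup G) :=
    Subgroup.eq_of_le_of_card_ge hQ₂ (by rw [hcQ Q₂, hcardR])
  obtain ⟨g, hg⟩ := MulAction.exists_smul_eq G Q₁ Q₂
  have hg' : MulAut.conj g • P = R := by
    rw [hPQ, hRQ, ← hg]; rfl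
  refine ⟨g, (MulAut.conj g)⁻¹ * α, ?_, by rw [mul_inv_cancel_left]⟩
  intro y
  rw [MulAut.mul_apply]
  have h1 : y ∈ P ↔ α y ∈ R := by
    rw [hR]
    exact (Subgroup.mem_map_iff_mem α.injective).symm
  rw [h1, ← hg', Subgroup.mem_pointwise_smul_iff_inv_smul_mem]
  rfl

theorem isSolvable_fixSub (hnc : ¬ ∀ a b : G, a * b = b * a) (H : Subgroup G)
    (hH : H.index.Prime) (x : G) (hx : orderOf x = H.index) :
    Group.IsSolvable (fixSub (Subgroup.zpowers x)) := by
  classical
  have : Fintype (G ⧸ H) := Fintype.ofFinite _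
  set p := H.index with hp
  set P := Subgroup.zpowers x with hP
  have hHtop : H ≠ ⊤ := by
    rintro rfl
    rw [hp, Subgroup.index_top] at hH
    exact Nat.not_prime_one hH
  have hφ := toPermHom_injective H hHtop
  have hcard : Fintype.card (G ⧸ H) = p := by
    rw [← Nat.card_eq_fintype_card]; exact (Subgroup.index_eq_card H).symm
  have hPcomm : ∀ a ∈ P, ∀ b ∈ P, a * b = b * a := by
    rintro _ ⟨i, rfl⟩ _ ⟨j, rfl⟩
    exact (Commute.refl x).zpow_zpow i j |>.eq
  set C := fixSub P with hC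
  set Q : Subgroup C := (P.map (MulAut.conj : G →* MulAut G)).subgroupOf C with hQ
  have hQn : Q.Normal := by
    constructor
    rintro ⟨q, hqC⟩ hq ⟨c, hcC⟩
    rw [hQ, Subgroup.mem_subgroupOf] at hq ⊢
    obtain ⟨y, hy, hyq⟩ := hq
    have hyq' : MulAut.conj y = q := hyq
    change c * q * c⁻¹ ∈ _
    rw [← hyq', conj_apply_comm, hcC y hy]
    exact ⟨y, hy, rfl⟩
  have hQc : ∀ a ∈ Q, ∀ b ∈ Q, a * b = b * a := by
    rintro ⟨a, haC⟩ ha ⟨b, hbC⟩ hb
    rw [hQ, Subgroup.mem_subgroupOf] at ha hb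
    obtain ⟨y, hy, rfl⟩ := ha
    obtain ⟨z, hz, rfl⟩ := hb
    apply Subtype.ext
    change MulAut.conj y * MulAut.conj z = MulAut.conj z * MulAut.conj y
    rw [← map_mul, ← map_mul, hPcomm y hy z hz]
  refine isSolvable_of_odd_mem Q hQc ?_
  rintro ⟨c, hcC⟩ hodd
  have hodd' : Odd (orderOf c) := by
    have : orderOf (⟨c, hcC⟩ : C) = orderOf c := (Subgroup.orderOf_coe (⟨c, hcC⟩ : C)).symm
    rw [← this]; exact hodd
  obtain ⟨σ, hσ⟩ := exists_perm_of_odd hnc H hH c hodd'
  set φ := MulAction.toPermHom G (G ⧸ H) with hφdef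
  have hxP : x ∈ P := Subgroup.mem_zpowers x
  have hcx : c x = x := hcC x hxP
  have hcomm : Commute σ (φ x) := by
    have := hσ x
    rw [hcx] at this
    -- φ x = σ φ x σ⁻¹
    have h2 : φ x * σ = σ * φ x := by
      calc φ x * σ = (σ * φ x * σ⁻¹) * σ := by rw [← this]
        _ = σ * φ x := by group
    exact h2.symm
  have hx1 : x ≠ 1 := by
    intro h
    rw [h, orderOf_one] at hx
    exact Nat.not_prime_one (hx ▸ hH)
  have hφx1 : φ x ≠ 1 := by
    intro h
    exact hx1 (hφ (h.trans (map_one φ).symm))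
  have hφxp : φ x ^ Fintype.card (G ⧸ H) = 1 := by
    rw [hcard, ← map_pow, ← hx, pow_orderOf_eq_one, map_one]
  obtain ⟨j, hj⟩ := mem_zpowers_of_commute (hcard ▸ hH) (φ x) σ hφx1 hφxp hcomm
  have hj' : σ = φ (x ^ j) := by rw [map_zpow]; exact hj.symm
  have hceq : c = MulAut.conj (x ^ j) := by
    ext g
    apply hφ
    rw [hσ g, hj', MulAut.conj_apply, map_mul, map_mul, map_inv]
  rw [hQ, Subgroup.mem_subgroupOf]
  exact ⟨x ^ j, Subgroup.zpow_mem _ hxP j, hceq.symm⟩

/-- Main theorem: a solvable supplement to `Inn G` in `Aut G`. -/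
theorem exists_solvable_supplement (H : Subgroup G) (hH : H.index.Prime) :
    ∃ S : Subgroup (MulAut G), Group.IsSolvable S ∧
      ∀ α : MulAut G, ∃ g : G, ∃ β ∈ S, α = MulAut.conj g * β := by
  classical
  by_cases hcomm : ∀ a b : G, a * b = b * a
  · have hcyc : IsCyclic G := by
      let _ : CommGroup G := { (inferInstance : Group G) with mul_comm := hcomm }
      infer_instance
    have : Group.IsSolvable (MulAut G) := Group.isSolvable_of_comm mulAut_comm_of_isCyclic
    exact ⟨⊤, inferInstance, fun α => ⟨1, α, Subgroup.mem_top _, by simp⟩⟩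
  · set p := H.index with hp
    have hpdvd : p ∣ Nat.card G := Subgroup.index_dvd_card H
    have : Fact p.Prime := ⟨hH⟩
    obtain ⟨x, hx⟩ := exists_prime_orderOf_dvd_card' p hpdvd
    exact ⟨stabSub (Subgroup.zpowers x),
      isSolvable_stabSub x (isSolvable_fixSub hcomm H hH x hx),
      exists_conj_mul_stab H hH x hx⟩

end Cfsg.Agent.Lib.Helper27.OddAut
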