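/-
helper27: S2146 (OM2 market), geometry for leaf I4: in the plus-type space of dimension 8 over F_2 there is a totally
singular line ⟨x, y⟩ and a hyperbolic basis a, a', b, b' of a complement of it in its perp (flip count 136 → 72 → 40 → 24).
-/
import Mathlib
import Cfsg.Agent.Lib.Helper11.Om2Tools
import Cfsg.Agent.Lib.Helper13.Om2GC

set_option autoImplicit false

open Cfsg.Agent.Lib.Helper11.Om2 MulAction
open scoped Pointwise

namespace Cfsg.Agent.Lib.Helper27.Om2Geo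

open Cfsg.Agent.Lib.Helper13.Om2Leaf (card_split card_split')

variable {F V G : Type*} [Field F] [AddCommGroup V] [Module F V] [Group G] [DistribMulAction G V]
  (S : Setting F V G)

/-- the flip count: `P` a subgroup-like predicate, `z` singular with `P`-translations, `w₀` with
`B z w₀ = 1`. -/
theorem flip_count [Finite V] (P : V → Prop) {z w₀ : V} (hz : S.Q z = 0)
    (hPz : ∀ w, P w → P (w + z)) (hPw₀ : ∀ w, P w → P (w + w₀)) (hzw₀ : S.B z w₀ = 1) :
    Nat.card {w : V // P w} = 2 * Nat.card {w : V // P w ∧ S.B z w = 0} ∧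
    2 * Nat.card {w : V // P w ∧ S.Q w = 0} =
      2 * Nat.card {w : V // (P w ∧ S.B z w = 0) ∧ S.Q w = 0} +
        Nat.card {w : V // P w ∧ S.B z w = 0} := by
  have h2 := S.one_add_one
  -- A0 = A1
  have hA : Nat.card {w : V // P w ∧ S.B z w = 0} = Nat.card {w : V // P w ∧ ¬ S.B z w = 0} := by
    refine Nat.card_congr
      { toFun := fun w => ⟨w.1 + w₀, hPw₀ _ w.2.1, by
          rw [S.Badd_right, w.2.2, hzw₀, zero_add]; exact one_ne_zero⟩
        invFun := fun w => ⟨w.1 + w₀, hPw₀ _ w.2.1, by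
          rw [S.Badd_right, S.eq_one_of_ne_zero w.2.2, hzw₀]; exact h2⟩
        left_inv := fun w => Subtype.ext (S.vadd_cancel_right w.1 w₀)
        right_inv := fun w => Subtype.ext (S.vadd_cancel_right w.1 w₀) }
  have hsp := card_split P (fun w => S.B z w = 0)
  -- S1 = N1
  have hSN : Nat.card {w : V // (P w ∧ ¬ S.B z w = 0) ∧ S.Q w = 0} =
      Nat.card {w : V // (P w ∧ ¬ S.B z w = 0) ∧ ¬ S.Q w = 0} := by
    have hB : ∀ w, S.B z (w + z) = S.B z w := fun w => S.B_add_self_right z w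
    have hQ : ∀ w, ¬ S.B z w = 0 → S.Q (w + z) = S.Q w + 1 := by
      intro w hw
      rw [S.Q_add, hz, add_zero, S.B_symm w z, S.eq_one_of_ne_zero hw]
    refine Nat.card_congr
      { toFun := fun w => ⟨w.1 + z, ⟨hPz _ w.2.1.1, by rw [hB]; exact w.2.1.2⟩, by
          rw [hQ _ w.2.1.2, w.2.2, zero_add]; exact one_ne_zero⟩
        invFun := fun w => ⟨w.1 + z, ⟨hPz _ w.2.1.1, by rw [hB]; exact w.2.1.2⟩, by
          rw [hQ _ w.2.1.2, S.eq_one_of_ne_zero w.2.2]; exact h2⟩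
        left_inv := fun w => Subtype.ext (S.vadd_cancel_right w.1 z)
        right_inv := fun w => Subtype.ext (S.vadd_cancel_right w.1 z) }
  have hsp1 := card_split (fun w => P w ∧ ¬ S.B z w = 0) (fun w => S.Q w = 0)
  have hsp2 := card_split (fun w => P w ∧ S.Q w = 0) (fun w => S.B z w = 0)
  have hre1 : Nat.card {w : V // (P w ∧ S.Q w = 0) ∧ S.B z w = 0} =
      Nat.card {w : V // (P w ∧ S.B z w = 0) ∧ S.Q w = 0} :=
    Nat.card_congr (Equiv.subtypeEquivRight (fun w => by tauto))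
  have hre2 : Nat.card {w : V // (P w ∧ S.Q w = 0) ∧ ¬ S.B z w = 0} =
      Nat.card {w : V // (P w ∧ ¬ S.B z w = 0) ∧ S.Q w = 0} :=
    Nat.card_congr (Equiv.subtypeEquivRight (fun w => by tauto))
  constructor
  · omega
  · omega

/-- picking a vector with a property outside a short explicit list -/
theorem exists_not_mem_of_card_lt [Finite V] (p : V → Prop) (l : List V)
    (hl : l.length < Nat.card {w : V // p w}) : ∃ w, p w ∧ w ∉ l := by
  classical
  by_contra hcon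
  have hsub : ∀ w, p w → w ∈ l := by
    intro w hw
    by_contra hwl
    exact hcon ⟨w, hw, hwl⟩
  have h1 : Nat.card {w : V // p w} ≤ Nat.card {w : V // w ∈ l.toFinset} :=
    Nat.card_le_card_of_injective (fun w => ⟨w.1, List.mem_toFinset.mpr (hsub w.1 w.2)⟩)
      (fun a b hab => Subtype.ext (by
        have := congrArg (fun t : {w : V // w ∈ l.toFinset} => t.1) hab
        exact this))
  have h2 : Nat.card {w : V // w ∈ l.toFinset} = l.toFinset.card := by
    rw [Nat.card_eq_fintype_card, Fintype.card_coe]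
  have h3 := List.toFinset_card_le l
  omega

/-- membership in the orthogonal of a span -/
theorem mem_orthogonal_span_iff (s : Set V) (z : V) :
    z ∈ S.B.orthogonal (Submodule.span F s) ↔ ∀ u ∈ s, S.B u z = 0 := by
  rw [S.mem_orthogonal]
  constructor
  · intro h u hu
    exact h u (Submodule.subset_span hu)
  · intro h u hu
    induction hu using Submodule.span_induction with
    | mem u hu => exact h u hu
    | zero => exact S.Bzero_left z
    | add u v _ _ hu hv => rw [S.Badd_left, hu, hv, add_zero]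
    | smul c u _ hu => rw [S.Bsmul_left, hu, mul_zero]

/-- a vector outside a subspace is detected by a vector perpendicular to the subspace -/
theorem exists_perp_of_not_mem [Finite V] (U : Submodule F V) {t : V} (ht : t ∉ U) :
    ∃ c, (∀ u ∈ U, S.B u c = 0) ∧ S.B c t = 1 := by
  by_contra hcon
  apply ht
  rw [← S.orthogonal_orthogonal_eq U, S.mem_orthogonal]
  intro c hc
  by_contra h1
  exact hcon ⟨c, S.mem_orthogonal.mp hc, S.eq_one_of_ne_zero h1⟩

theorem mem_span3 {x y a t : V} (ht : t ∈ Submodule.span F ({x, y, a} : Set V)) :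
    ∃ c₁ c₂ c₃ : F, t = c₁ • x + c₂ • y + c₃ • a := by
  rw [Submodule.mem_span_insert] at ht
  obtain ⟨c₁, t', ht', rfl⟩ := ht
  rw [Submodule.mem_span_pair] at ht'
  obtain ⟨c₂, c₃, rfl⟩ := ht'
  exact ⟨c₁, c₂, c₃, by rw [add_assoc]⟩

theorem mem_span4 {x y a b t : V} (ht : t ∈ Submodule.span F ({x, y, a, b} : Set V)) :
    ∃ c₁ c₂ c₃ c₄ : F, t = c₁ • x + c₂ • y + c₃ • a + c₄ • b := by
  rw [Submodule.mem_span_insert] at ht
  obtain ⟨c₁, t', ht', rfl⟩ := ht
  obtain ⟨c₂, c₃, c₄, rfl⟩ := mem_span3 ht'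
  exact ⟨c₁, c₂, c₃, c₄, by simp only [add_assoc]⟩

/-- the eight vectors of `⟨x, y, a⟩` -/
theorem combo3_mem (h01 : ∀ a : F, a = 0 ∨ a = 1) (x y a : V) (c₁ c₂ c₃ : F) :
    c₁ • x + c₂ • y + c₃ • a ∈ [0, x, y, x + y, a, a + x, a + y, a + (x + y)] := by
  rcases h01 c₁ with rfl | rfl <;> rcases h01 c₂ with rfl | rfl <;>
    rcases h01 c₃ with rfl | rfl <;>
    simp only [zero_smul, one_smul, zero_add, add_zero, List.mem_cons, List.mem_nil_iff,
      or_false] <;> simp [add_comm, add_left_comm]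

/-- a totally singular line `⟨x, y⟩` and a hyperbolic basis `a, a', b, b'` of a complement of it
in its perpendicular space, in the plus-type space of dimension 8. -/
theorem exists_frame [Finite V] (hV : Nat.card V = 2 ^ (2 * 4))
    (hs : Nat.card {v : V // S.Q v = 0} = 2 ^ (2 * 4 - 1) + 2 ^ (4 - 1)) :
    ∃ x y a a' b b' : V, x ≠ 0 ∧ y ≠ 0 ∧ x ≠ y ∧ S.Q x = 0 ∧ S.Q y = 0 ∧ S.B x y = 0 ∧
      (S.Q a = 0 ∧ S.Q a' = 0 ∧ S.Q b = 0 ∧ S.Q b' = 0) ∧
      ((S.B x a = 0 ∧ S.B y a = 0) ∧ (S.B x a' = 0 ∧ S.B y a' = 0) ∧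
        (S.B x b = 0 ∧ S.B y b = 0) ∧ (S.B x b' = 0 ∧ S.B y b' = 0)) ∧
      (S.B a a' = 1 ∧ S.B b b' = 1 ∧ S.B a b = 0 ∧ S.B a b' = 0 ∧ S.B a' b = 0 ∧ S.B a' b' = 0) ∧
      ∀ z, S.B x z = 0 → S.B y z = 0 → S.B a z = 0 → S.B a' z = 0 → S.B b z = 0 → S.B b' z = 0 →
        (z = 0 ∨ z = x ∨ z = y ∨ z = x + y) := by
  classical
  have h2 := S.one_add_one
  -- x
  obtain ⟨x, hx, hxl⟩ := exists_not_mem_of_card_lt (fun v : V => S.Q v = 0) [0]
    (by rw [hs]; norm_num)
  have hx0 : x ≠ 0 := by simpa using hxl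
  -- y
  obtain ⟨c72, -⟩ := Cfsg.Agent.Lib.Helper13.Om2Leaf.counts S hV hs (by norm_num) hx0 hx
  obtain ⟨y, ⟨hxy, hy⟩, hyl⟩ := exists_not_mem_of_card_lt
    (fun w : V => S.B x w = 0 ∧ S.Q w = 0) [0, x] (by rw [c72]; norm_num)
  have hy0 : y ≠ 0 := by
    intro h; apply hyl; simp [h]
  have hyx : y ≠ x := by
    intro h; apply hyl; simp [h]
  have hyx' : S.B y x = 0 := by rw [S.B_symm]; exact hxy
  -- level 1
  obtain ⟨w₀, hw₀x, hw₀y⟩ : ∃ w₀, S.B x w₀ = 0 ∧ S.B y w₀ = 1 := by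
    by_contra hcon
    rcases S.eq_zero_or_eq_of_perp (v := x) (u := y) (fun z hz => by
      by_contra h1
      exact hcon ⟨z, hz, by rw [S.B_symm]; exact S.eq_one_of_ne_zero h1⟩) with h | h
    · exact hy0 h
    · exact hyx h
  obtain ⟨f1a, f1b⟩ := flip_count S (fun w : V => S.B x w = 0) (z := y) (w₀ := w₀) hy
    (fun w hw => by rw [S.Badd_right, hw, hxy, add_zero])
    (fun w hw => by rw [S.Badd_right, hw, hw₀x, add_zero]) hw₀y
  have c128 := S.two_mul_card_perp hx0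
  rw [hV] at c128
  have c64 : Nat.card {w : V // S.B x w = 0 ∧ S.B y w = 0} = 64 := by
    norm_num at c128 f1a ⊢; omega
  have c40 : Nat.card {w : V // (S.B x w = 0 ∧ S.B y w = 0) ∧ S.Q w = 0} = 40 := by
    rw [c72, c64] at f1b
    norm_num at f1b; omega
  -- a
  obtain ⟨a, ⟨⟨hxa, hya⟩, ha⟩, hal⟩ := exists_not_mem_of_card_lt
    (fun w : V => (S.B x w = 0 ∧ S.B y w = 0) ∧ S.Q w = 0) [0, x, y, x + y]
    (by rw [c40]; norm_num)
  have hal' : ∀ c₁ c₂ : F, a ≠ c₁ • x + c₂ • y := by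
    intro c₁ c₂ h
    apply hal
    rw [h]
    rcases S.h01 c₁ with rfl | rfl <;> rcases S.h01 c₂ with rfl | rfl <;> simp
  -- level 2
  obtain ⟨w₁, hw₁, hw₁a⟩ := exists_perp_of_not_mem S (Submodule.span F ({x, y} : Set V)) (t := a)
    (by
      intro h
      rw [Submodule.mem_span_pair] at h
      obtain ⟨c₁, c₂, h⟩ := h
      exact hal' c₁ c₂ h.symm)
  have hw₁x : S.B x w₁ = 0 := hw₁ x (Submodule.subset_span (by simp))
  have hw₁y : S.B y w₁ = 0 := hw₁ y (Submodule.subset_span (by simp))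
  have haw₁ : S.B a w₁ = 1 := by rw [S.B_symm]; exact hw₁a
  obtain ⟨f2a, f2b⟩ := flip_count S (fun w : V => S.B x w = 0 ∧ S.B y w = 0) (z := a) (w₀ := w₁) ha
    (fun w hw => ⟨by rw [S.Badd_right, hw.1, hxa, add_zero],
      by rw [S.Badd_right, hw.2, hya, add_zero]⟩)
    (fun w hw => ⟨by rw [S.Badd_right, hw.1, hw₁x, add_zero],
      by rw [S.Badd_right, hw.2, hw₁y, add_zero]⟩) haw₁
  have c32 : Nat.card {w : V // (S.B x w = 0 ∧ S.B y w = 0) ∧ S.B a w = 0} = 32 := by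
    rw [c64] at f2a; omega
  have c24 : Nat.card {w : V // ((S.B x w = 0 ∧ S.B y w = 0) ∧ S.B a w = 0) ∧ S.Q w = 0} = 24 := by
    rw [c40, c32] at f2b; omega
  -- b
  obtain ⟨b, ⟨⟨⟨hxb, hyb⟩, hab⟩, hb⟩, hbl⟩ := exists_not_mem_of_card_lt
    (fun w : V => ((S.B x w = 0 ∧ S.B y w = 0) ∧ S.B a w = 0) ∧ S.Q w = 0)
    [0, x, y, x + y, a, a + x, a + y, a + (x + y)] (by rw [c24]; norm_num)
  have hbl' : ∀ c₁ c₂ c₃ : F, b ≠ c₁ • x + c₂ • y + c₃ • a := by
    intro c₁ c₂ c₃ h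
    apply hbl
    rw [h]
    exact combo3_mem S.h01 x y a c₁ c₂ c₃
  have hax : S.B a x = 0 := by rw [S.B_symm]; exact hxa
  have hay : S.B a y = 0 := by rw [S.B_symm]; exact hya
  have hbx : S.B b x = 0 := by rw [S.B_symm]; exact hxb
  have hby : S.B b y = 0 := by rw [S.B_symm]; exact hyb
  have hba : S.B b a = 0 := by rw [S.B_symm]; exact hab
  -- level 3 (cardinality only)
  obtain ⟨w₂, hw₂, hw₂b⟩ := exists_perp_of_not_mem S (Submodule.span F ({x, y, a} : Set V)) (t := b)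
    (by
      intro h
      obtain ⟨c₁, c₂, c₃, h⟩ := mem_span3 h
      exact hbl' c₁ c₂ c₃ h)
  have hw₂x : S.B x w₂ = 0 := hw₂ x (Submodule.subset_span (by simp))
  have hw₂y : S.B y w₂ = 0 := hw₂ y (Submodule.subset_span (by simp))
  have hw₂a : S.B a w₂ = 0 := hw₂ a (Submodule.subset_span (by simp))
  have hbw₂ : S.B b w₂ = 1 := by rw [S.B_symm]; exact hw₂b
  obtain ⟨f3a, -⟩ := flip_count S (fun w : V => (S.B x w = 0 ∧ S.B y w = 0) ∧ S.B a w = 0)
    (z := b) (w₀ := w₂) hb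
    (fun w hw => ⟨⟨by rw [S.Badd_right, hw.1.1, hxb, add_zero],
      by rw [S.Badd_right, hw.1.2, hyb, add_zero]⟩, by rw [S.Badd_right, hw.2, hab, add_zero]⟩)
    (fun w hw => ⟨⟨by rw [S.Badd_right, hw.1.1, hw₂x, add_zero],
      by rw [S.Badd_right, hw.1.2, hw₂y, add_zero]⟩, by rw [S.Badd_right, hw.2, hw₂a, add_zero]⟩)
    hbw₂
  have c16 : Nat.card {w : V // ((S.B x w = 0 ∧ S.B y w = 0) ∧ S.B a w = 0) ∧ S.B b w = 0} = 16 := by
    rw [c32] at f3a; omega
  -- the maximal totally singular subspace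
  set U : Submodule F V := Submodule.span F ({x, y, a, b} : Set V) with hU
  have hmemU : ∀ z, z ∈ S.B.orthogonal U ↔
      ((S.B x z = 0 ∧ S.B y z = 0) ∧ S.B a z = 0) ∧ S.B b z = 0 := by
    intro z
    rw [hU, mem_orthogonal_span_iff]
    constructor
    · intro h
      exact ⟨⟨⟨h x (by simp), h y (by simp)⟩, h a (by simp)⟩, h b (by simp)⟩
    · rintro ⟨⟨⟨h1, h2⟩, h3⟩, h4⟩ u hu
      simp only [Set.mem_insert_iff, Set.mem_singleton_iff] at hu
      rcases hu with rfl | rfl | rfl | rfl <;> assumption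
  have cU' : Nat.card (S.B.orthogonal U) = 16 := by
    rw [← c16]
    exact Nat.card_congr (Equiv.subtypeEquivRight hmemU)
  have hUle : U ≤ S.B.orthogonal U := by
    rw [hU, Submodule.span_le]
    intro u hu
    simp only [Set.mem_insert_iff, Set.mem_singleton_iff] at hu
    rw [SetLike.mem_coe, ← hU, hmemU]
    rcases hu with rfl | rfl | rfl | rfl
    · exact ⟨⟨⟨S.alt _, hyx'⟩, hax⟩, hbx⟩
    · exact ⟨⟨⟨hxy, S.alt _⟩, hay⟩, hby⟩
    · exact ⟨⟨⟨hxa, hya⟩, S.alt _⟩, hba⟩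
    · exact ⟨⟨⟨hxb, hyb⟩, hab⟩, S.alt _⟩
  have cU : Nat.card U = 16 := by
    have := S.card_mul_card_orthogonal U
    rw [cU', hV] at this
    norm_num at this
    omega
  have hUeq : ∀ z, z ∈ S.B.orthogonal U → z ∈ U := by
    intro z hz
    have hset : (U : Set V) = (S.B.orthogonal U : Set V) := by
      apply Set.eq_of_subset_of_ncard_le hUle _ (Set.toFinite _)
      rw [← Nat.card_coe_set_eq, ← Nat.card_coe_set_eq]
      exact le_of_eq (cU'.trans cU.symm)
    have : z ∈ (S.B.orthogonal U : Set V) := hz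
    rw [← hset] at this
    exact this
  -- a'
  obtain ⟨c, hc, hca⟩ := exists_perp_of_not_mem S (Submodule.span F ({x, y, b} : Set V)) (t := a)
    (by
      intro h
      obtain ⟨c₁, c₂, c₃, h⟩ := mem_span3 h
      rcases S.h01 c₃ with rfl | rfl
      · rw [zero_smul, add_zero] at h
        exact hal' c₁ c₂ h
      · apply hbl' c₁ c₂ 1
        rw [h, one_smul, one_smul]
        exact (S.vadd_cancel_left _ _).symm)
  have hcx : S.B x c = 0 := hc x (Submodule.subset_span (by simp))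
  have hcy : S.B y c = 0 := hc y (Submodule.subset_span (by simp))
  have hcb : S.B b c = 0 := hc b (Submodule.subset_span (by simp))
  have hac : S.B a c = 1 := by rw [S.B_symm]; exact hca
  obtain ⟨a', ha', hxa', hya', hba', haa'⟩ : ∃ a', S.Q a' = 0 ∧ S.B x a' = 0 ∧ S.B y a' = 0 ∧
      S.B b a' = 0 ∧ S.B a a' = 1 := by
    rcases S.h01 (S.Q c) with hq | hq
    · exact ⟨c, hq, hcx, hcy, hcb, hac⟩
    · refine ⟨c + a, ?_, ?_, ?_, ?_, ?_⟩
      · rw [S.Q_add, hq, ha, hca, add_zero]; exact h2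
      · rw [S.Badd_right, hcx, hxa, add_zero]
      · rw [S.Badd_right, hcy, hya, add_zero]
      · rw [S.Badd_right, hcb, hba, add_zero]
      · rw [S.Badd_right, hac, S.alt, add_zero]
  have ha'x : S.B a' x = 0 := by rw [S.B_symm]; exact hxa'
  have ha'y : S.B a' y = 0 := by rw [S.B_symm]; exact hya'
  have ha'b : S.B a' b = 0 := by rw [S.B_symm]; exact hba'
  have ha'a : S.B a' a = 1 := by rw [S.B_symm]; exact haa'
  -- b'
  obtain ⟨c', hc', hc'b⟩ := exists_perp_of_not_mem S (Submodule.span F ({x, y, a, a'} : Set V))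
    (t := b) (by
      intro h
      obtain ⟨c₁, c₂, c₃, c₄, h⟩ := mem_span4 h
      have h4 : c₄ = 0 := by
        have := hab
        rw [h, S.Badd_right, S.Badd_right, S.Badd_right, S.Bsmul_right, S.Bsmul_right,
          S.Bsmul_right, S.Bsmul_right, hax, hay, S.alt, haa'] at this
        simpa using this
      rw [h4, zero_smul, add_zero] at h
      exact hbl' c₁ c₂ c₃ h)
  have hc'x : S.B x c' = 0 := hc' x (Submodule.subset_span (by simp))
  have hc'y : S.B y c' = 0 := hc' y (Submodule.subset_span (by simp))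
  have hc'a : S.B a c' = 0 := hc' a (Submodule.subset_span (by simp))
  have hc'a' : S.B a' c' = 0 := hc' a' (Submodule.subset_span (by simp))
  have hbc' : S.B b c' = 1 := by rw [S.B_symm]; exact hc'b
  obtain ⟨b', hb', hxb', hyb', hab', ha'b', hbb'⟩ : ∃ b', S.Q b' = 0 ∧ S.B x b' = 0 ∧
      S.B y b' = 0 ∧ S.B a b' = 0 ∧ S.B a' b' = 0 ∧ S.B b b' = 1 := by
    rcases S.h01 (S.Q c') with hq | hq
    · exact ⟨c', hq, hc'x, hc'y, hc'a, hc'a', hbc'⟩
    · refine ⟨c' + b, ?_, ?_, ?_, ?_, ?_, ?_⟩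
      · rw [S.Q_add, hq, hb, hc'b, add_zero]; exact h2
      · rw [S.Badd_right, hc'x, hxb, add_zero]
      · rw [S.Badd_right, hc'y, hyb, add_zero]
      · rw [S.Badd_right, hc'a, hab, add_zero]
      · rw [S.Badd_right, hc'a', ha'b, add_zero]
      · rw [S.Badd_right, hbc', S.alt, add_zero]
  have hb'x : S.B b' x = 0 := by rw [S.B_symm]; exact hxb'
  have hb'y : S.B b' y = 0 := by rw [S.B_symm]; exact hyb'
  have hb'a : S.B b' a = 0 := by rw [S.B_symm]; exact hab'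
  have hb'b : S.B b' b = 1 := by rw [S.B_symm]; exact hbb'
  refine ⟨x, y, a, a', b, b', hx0, hy0, fun h => hyx h.symm, hx, hy, hxy, ⟨ha, ha', hb, hb'⟩,
    ⟨⟨hxa, hya⟩, ⟨hxa', hya'⟩, ⟨hxb, hyb⟩, ⟨hxb', hyb'⟩⟩,
    ⟨haa', hbb', hab, hab', ha'b, ha'b'⟩, ?_⟩
  intro z hzx hzy hza hza' hzb hzb'
  have hzU : z ∈ U := hUeq z ((hmemU z).mpr ⟨⟨⟨hzx, hzy⟩, hza⟩, hzb⟩)
  obtain ⟨c₁, c₂, c₃, c₄, h⟩ := mem_span4 hzU
  have h3 : c₃ = 0 := by
    have := hza'
    rw [h, S.Badd_right, S.Badd_right, S.Badd_right, S.Bsmul_right, S.Bsmul_right,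
      S.Bsmul_right, S.Bsmul_right, ha'x, ha'y, ha'a, ha'b] at this
    simpa using this
  have h4 : c₄ = 0 := by
    have := hzb'
    rw [h, S.Badd_right, S.Badd_right, S.Badd_right, S.Bsmul_right, S.Bsmul_right,
      S.Bsmul_right, S.Bsmul_right, hb'x, hb'y, hb'a, hb'b] at this
    simpa using this
  rw [h3, h4, zero_smul, zero_smul, add_zero, add_zero] at h
  rw [h]
  rcases S.h01 c₁ with rfl | rfl <;> rcases S.h01 c₂ with rfl | rfl <;> simp

end Cfsg.Agent.Lib.Helper27.Om2Geo
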