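/-
helper27: S2146 (OM2 market), leaf I4 `not_forall_isA_four` (twin): for m = 4 not all singular points are of type A.
Over helper5's `Om2IR` (R1-R7).  β(w, w') := B(a_w, w') (`beta`, `beta_eq`) is an alternating bilinear form on L = l^⊥,
invariant on perpendicular pairs under the lifts of the long root elements of L (`beta_shear`); the four lifts
sg a' b', sg a b, sg a b', sg b a' give β(a,b) = β(a',b') = β(a,b') = β(a',b) = β(a,a') + β(b,b'); then
a_{a+a'} + β(a,a')(a+a') ∈ L is perpendicular to a, a', b, b', hence lies in l, against R5a / R5b.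
-/
import Mathlib
import Cfsg.Agent.Lib.Helper11.Om2Tools
import Cfsg.Agent.Lib.Helper5.Om2IR
import Cfsg.Agent.Lib.Helper27.Om2I4Geo

set_option autoImplicit false

open Cfsg.Agent.Lib.Helper11.Om2 MulAction
open scoped Pointwise

namespace Cfsg.Agent.Lib.Helper27.Om2Leaf

open Cfsg.Agent.Lib.Helper5.Om2Leaf

variable {F V G : Type*} [Field F] [AddCommGroup V] [Module F V] [Group G] [DistribMulAction G V]
  (S : Setting F V G)

/-- `β(w, w') = B(a_w, w')` for any `a_w` with `Rel w a_w` (choice-free wrapper). -/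
noncomputable def beta (H : Subgroup G) (x y w w' : V) : F := by
  classical
  exact if hw : ∃ a, Helper5.Om2Leaf.Rel S H x y w a then S.B (Classical.choose hw) w' else 0

variable {H : Subgroup G} {x y : V}

theorem beta_eq (h : LineA S H x y) {w a w' : V} (hr : Helper5.Om2Leaf.Rel S H x y w a)
    (hw' : InL S x y w') : beta S H x y w w' = S.B a w' := by
  classical
  have hw : ∃ a, Helper5.Om2Leaf.Rel S H x y w a := ⟨a, hr⟩
  unfold beta
  rw [dif_pos hw]
  rcases R2 S h hr (Classical.choose_spec hw) with h1 | h1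
  · rw [h1]
  · rw [h1, S.Badd_left, hw'.1, add_zero]

theorem beta_add_left (h : LineA S H x y) {w₁ w₂ w' : V} (h₁ : InL S x y w₁) (h₂ : InL S x y w₂)
    (hw' : InL S x y w') :
    beta S H x y (w₁ + w₂) w' = beta S H x y w₁ w' + beta S H x y w₂ w' := by
  obtain ⟨a₁, hr₁⟩ := R1 S h h₁
  obtain ⟨a₂, hr₂⟩ := R1 S h h₂
  have hr := R4 S h hr₁ hr₂
  rw [beta_eq S h hr hw', beta_eq S h hr₁ hw', beta_eq S h hr₂ hw', S.Badd_left, S.Badd_left,
    S.Bsmul_left, hw'.2, mul_zero, add_zero]

theorem beta_add_right (h : LineA S H x y) {w w₁ w₂ : V} (hw : InL S x y w) (h₁ : InL S x y w₁)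
    (h₂ : InL S x y w₂) :
    beta S H x y w (w₁ + w₂) = beta S H x y w w₁ + beta S H x y w w₂ := by
  obtain ⟨a, hr⟩ := R1 S h hw
  rw [beta_eq S h hr (h₁.add h₂), beta_eq S h hr h₁, beta_eq S h hr h₂, S.Badd_right]

theorem beta_self (h : LineA S H x y) {w : V} (hw : InL S x y w) : beta S H x y w w = 0 := by
  obtain ⟨a, hr⟩ := R1 S h hw
  rw [beta_eq S h hr hw]
  exact R3 S h hr

theorem beta_symm (h : LineA S H x y) {w w' : V} (hw : InL S x y w) (hw' : InL S x y w') :
    beta S H x y w w' = beta S H x y w' w := by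
  have h0 := beta_self S h (hw.add hw')
  rw [beta_add_left S h hw hw' (hw.add hw'), beta_add_right S h hw hw hw',
    beta_add_right S h hw' hw hw', beta_self S h hw, beta_self S h hw', zero_add, add_zero] at h0
  exact S.fadd_eq_zero_iff.mp h0

theorem beta_x_right (h : LineA S H x y) {w : V} (hw : InL S x y w) : beta S H x y w x = 0 := by
  obtain ⟨a, hr⟩ := R1 S h hw
  rw [beta_eq S h hr h.inL_x, S.B_symm]
  exact hr.2.1.1

theorem beta_x_left (h : LineA S H x y) {w : V} (hw : InL S x y w) : beta S H x y x w = 0 := by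
  rw [beta_symm S h h.inL_x hw]
  exact beta_x_right S h hw

/-- invariance of `β` on perpendicular pairs under the elements of `H` stabilising the line -/
theorem beta_lift (h : LineA S H x y) {g : G} (hg : g ∈ H) (hgx : g • x = x)
    (hgy : g • y = y ∨ g • y = x + y) {u v : V} (hu : InL S x y u) (hv : InL S x y v)
    (huv : S.B u v = 0) : beta S H x y (g • u) (g • v) = beta S H x y u v := by
  obtain ⟨c, hr⟩ := R1 S h hu
  rcases hgy with hgy | hgy
  · have hr' := R6a S h hg hgx hgy hr
    rw [beta_eq S h hr' (hv.smul hgx hgy), beta_eq S h hr hv, S.iso]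
  · have hr' := R6b S h hg hgx hgy hr
    have hgv := hv.smul' hgx hgy
    rw [beta_eq S h hr' hgv, beta_eq S h hr hv, S.Badd_left, S.Badd_left, S.iso, S.iso, huv,
      S.Bsmul_left, hgv.2, mul_zero, zero_add, add_zero]

theorem beta_add_x_left (h : LineA S H x y) {w w' : V} (hw : InL S x y w) (hw' : InL S x y w') :
    beta S H x y (w + x) w' = beta S H x y w w' := by
  rw [beta_add_left S h hw h.inL_x hw', beta_x_left S h hw', add_zero]

theorem beta_add_x_right (h : LineA S H x y) {w w' : V} (hw : InL S x y w) (hw' : InL S x y w') :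
    beta S H x y w (w' + x) = beta S H x y w w' := by
  rw [beta_add_right S h hw hw' h.inL_x, beta_x_right S h hw, add_zero]

/-- the action of a long root element `sg u v` (`u, v` singular, perpendicular) on `L`. -/
def shear (u v t : V) : V := t + S.B t v • u + S.B t u • v

theorem shear_inL {u v t : V} (hu : InL S x y u) (hv : InL S x y v) (ht : InL S x y t) :
    InL S x y (shear S u v t) :=
  (ht.add (hu.fsmul _)).add (hv.fsmul _)

theorem sg_smul_eq_shear {u v : V} (hu : S.Q u = 0) (hv : S.Q v = 0) (huv : S.B u v = 0) (t : V) :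
    S.sg u v • t = shear S u v t := by
  rw [S.sg_smul' hu huv, hv, zero_mul, zero_smul, add_zero]
  rfl

/-- `β` is invariant under the shears on perpendicular pairs. -/
theorem beta_shear (h : LineA S H x y) {u v w w' : V} (hu : S.Q u = 0) (huL : InL S x y u)
    (hv : S.Q v = 0) (hvL : InL S x y v) (huv : S.B u v = 0) (hw : InL S x y w)
    (hw' : InL S x y w') (hww' : S.B w w' = 0) :
    beta S H x y (shear S u v w) (shear S u v w') = beta S H x y w w' := by
  obtain ⟨g, hg, hgx, hgy, hall⟩ := R7 S h hu huL hvL huv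
  have hl := beta_lift S h hg hgx hgy hw hw' hww'
  have hs := shear_inL S huL hvL hw
  have hs' := shear_inL S huL hvL hw'
  rw [← hl]
  rcases hall w hw with e1 | e1 <;> rcases hall w' hw' with e2 | e2 <;>
    rw [e1, e2, sg_smul_eq_shear S hu hv huv, sg_smul_eq_shear S hu hv huv]
  · rw [beta_add_x_right S h hs hs']
  · rw [beta_add_x_left S h hs hs']
  · rw [beta_add_x_left S h hs (hs'.add h.inL_x), beta_add_x_right S h hs hs']

theorem beta_add_add (h : LineA S H x y) {w₁ w₂ w₃ w₄ : V} (h₁ : InL S x y w₁) (h₂ : InL S x y w₂)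
    (h₃ : InL S x y w₃) (h₄ : InL S x y w₄) :
    beta S H x y (w₁ + w₂) (w₃ + w₄) = beta S H x y w₁ w₃ + beta S H x y w₁ w₄ +
      beta S H x y w₂ w₃ + beta S H x y w₂ w₄ := by
  rw [beta_add_left S h h₁ h₂ (h₃.add h₄), beta_add_right S h h₁ h₃ h₄,
    beta_add_right S h h₂ h₃ h₄]
  ring

/-- the contradiction from a hyperbolic basis `a, a', b, b'` of a complement of `l` in `L`. -/
theorem core_false (h : LineA S H x y) {a a' b b' : V}
    (ha : S.Q a = 0) (ha' : S.Q a' = 0) (hb : S.Q b = 0) (hb' : S.Q b' = 0)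
    (haL : InL S x y a) (ha'L : InL S x y a') (hbL : InL S x y b) (hb'L : InL S x y b')
    (haa' : S.B a a' = 1) (hbb' : S.B b b' = 1) (hab : S.B a b = 0) (hab' : S.B a b' = 0)
    (ha'b : S.B a' b = 0) (ha'b' : S.B a' b' = 0)
    (hspan : ∀ z, InL S x y z → S.B a z = 0 → S.B a' z = 0 → S.B b z = 0 → S.B b' z = 0 →
      InLn x y z) : False := by
  have ha'a : S.B a' a = 1 := by rw [S.B_symm]; exact haa'
  have hb'b : S.B b' b = 1 := by rw [S.B_symm]; exact hbb'
  have hba : S.B b a = 0 := by rw [S.B_symm]; exact hab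
  have hb'a : S.B b' a = 0 := by rw [S.B_symm]; exact hab'
  have hba' : S.B b a' = 0 := by rw [S.B_symm]; exact ha'b
  have hb'a' : S.B b' a' = 0 := by rw [S.B_symm]; exact ha'b'
  set σ := beta S H x y a a' with hσ
  set τ := beta S H x y b b' with hτ
  set p := beta S H x y a b with hp
  set p' := beta S H x y a' b' with hp'
  set q := beta S H x y a b' with hq
  set q' := beta S H x y a' b with hq'
  have s1 : beta S H x y a' a = σ := beta_symm S h ha'L haL
  have s2 : beta S H x y b' b = τ := beta_symm S h hb'L hbL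
  have s3 : beta S H x y b a = p := beta_symm S h hbL haL
  have s4 : beta S H x y b' a' = p' := beta_symm S h hb'L ha'L
  have s5 : beta S H x y b' a = q := beta_symm S h hb'L haL
  have s6 : beta S H x y b a' = q' := beta_symm S h hbL ha'L
  -- the four lifts
  have e1 : p + σ + τ + p' = p := by
    have hk := beta_shear S h ha' ha'L hb' hb'L ha'b' haL hbL hab
    have ea : shear S a' b' a = a + b' := by
      show a + S.B a b' • a' + S.B a a' • b' = a + b'
      rw [hab', haa', zero_smul, one_smul, add_zero]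
    have eb : shear S a' b' b = b + a' := by
      show b + S.B b b' • a' + S.B b a' • b' = b + a'
      rw [hbb', hba', zero_smul, one_smul, add_zero]
    rw [ea, eb, beta_add_add S h haL hb'L hbL ha'L, s2, s4] at hk
    exact hk
  have e2 : p' + σ + τ + p = p' := by
    have hk := beta_shear S h ha haL hb hbL hab ha'L hb'L ha'b'
    have ea : shear S a b a' = a' + b := by
      show a' + S.B a' b • a + S.B a' a • b = a' + b
      rw [ha'b, ha'a, zero_smul, one_smul, add_zero]
    have eb : shear S a b b' = b' + a := by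
      show b' + S.B b' b • a + S.B b' a • b = b' + a
      rw [hb'b, hb'a, zero_smul, one_smul, add_zero]
    rw [ea, eb, beta_add_add S h ha'L hbL hb'L haL, s1, s3] at hk
    exact hk
  have e3 : q' + σ + τ + q = q' := by
    have hk := beta_shear S h ha haL hb' hb'L hab' ha'L hbL ha'b
    have ea : shear S a b' a' = a' + b' := by
      show a' + S.B a' b' • a + S.B a' a • b' = a' + b'
      rw [ha'b', ha'a, zero_smul, one_smul, add_zero]
    have eb : shear S a b' b = b + a := by
      show b + S.B b b' • a + S.B b a • b' = b + a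
      rw [hbb', hba, zero_smul, one_smul, add_zero]
    rw [ea, eb, beta_add_add S h ha'L hb'L hbL haL, s1, s2, s5] at hk
    exact hk
  have e4 : q + σ + τ + q' = q := by
    have hk := beta_shear S h hb hbL ha' ha'L hba' haL hb'L hab'
    have ea : shear S b a' a = a + b := by
      show a + S.B a a' • b + S.B a b • a' = a + b
      rw [haa', hab, zero_smul, one_smul, add_zero]
    have eb : shear S b a' b' = b' + a' := by
      show b' + S.B b' a' • b + S.B b' b • a' = b' + a'
      rw [hb'a', hb'b, zero_smul, one_smul, add_zero]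
    rw [ea, eb, beta_add_add S h haL hbL hb'L ha'L, s6] at hk
    exact hk
  have h2 := S.one_add_one
  have ep' : p' = σ + τ := by linear_combination e1 - (σ + τ) * h2
  have ep : p = σ + τ := by linear_combination e2 - (σ + τ) * h2
  have eq : q = σ + τ := by linear_combination e3 - (σ + τ) * h2
  have eq' : q' = σ + τ := by linear_combination e4 - (σ + τ) * h2
  -- the vector `a + a'`
  have hwL : InL S x y (a + a') := haL.add ha'L
  obtain ⟨c, hr⟩ := R1 S h hwL
  have hcL : InL S x y c := hr.2.1
  have bc : ∀ {t : V}, InL S x y t → S.B t c = beta S H x y a t + beta S H x y a' t := by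
    intro t ht
    rw [S.B_symm, ← beta_eq S h hr ht, beta_add_left S h haL ha'L ht]
  have hzL : InL S x y (c + σ • (a + a')) := hcL.add (hwL.fsmul σ)
  have hz := hspan (c + σ • (a + a')) hzL
    (by rw [S.Badd_right, S.Bsmul_right, S.Badd_right, S.alt, haa', bc haL, beta_self S h haL, s1]
        linear_combination σ * h2)
    (by rw [S.Badd_right, S.Bsmul_right, S.Badd_right, S.alt, ha'a, bc ha'L,
          beta_self S h ha'L]
        linear_combination σ * h2)
    (by rw [S.Badd_right, S.Bsmul_right, S.Badd_right, hba, hba', bc hbL]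
        linear_combination ep + eq' + (σ + τ) * h2)
    (by rw [S.Badd_right, S.Bsmul_right, S.Badd_right, hb'a, hb'a', bc hb'L]
        linear_combination eq + ep' + (σ + τ) * h2)
  have hw : InLn x y (a + a') := by
    rcases S.h01 σ with h0 | h1
    · rw [h0, zero_smul, add_zero] at hz
      exact R5a S h hr hz
    · rw [h1, one_smul] at hz
      exact R5b S h hr hz
  have hB : S.B a (a + a') = 1 := by rw [S.Badd_right, S.alt, haa', zero_add]
  have hax : S.B a x = 0 := by rw [S.B_symm]; exact haL.1
  have hay : S.B a y = 0 := by rw [S.B_symm]; exact haL.2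
  rcases hw with e | e | e | e <;> rw [e] at hB
  · rw [S.Bzero_right] at hB; exact zero_ne_one hB
  · rw [hax] at hB; exact zero_ne_one hB
  · rw [hay] at hB; exact zero_ne_one hB
  · rw [S.Badd_right, hax, hay, add_zero] at hB; exact zero_ne_one hB

/-- I4 -/
theorem not_forall_isA_four [Finite V] (hV : Nat.card V = 2 ^ (2 * 4))
    (hs : Nat.card {v : V // S.Q v = 0} = 2 ^ (2 * 4 - 1) + 2 ^ (4 - 1))
    (H : Subgroup G) : ¬ ∀ x, x ≠ 0 → S.Q x = 0 → S.IsA H x := by
  intro hA
  obtain ⟨x, y, a, a', b, b', hx0, hy0, hxy, hx, hy, hBxy, ⟨ha, ha', hb, hb'⟩,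
    ⟨haL, ha'L, hbL, hb'L⟩, ⟨haa', hbb', hab, hab', ha'b, ha'b'⟩, hspan⟩ :=
    Cfsg.Agent.Lib.Helper27.Om2Geo.exists_frame S hV hs
  have hs0 : x + y ≠ 0 := fun h => hxy (S.vadd_eq_zero_iff.mp h)
  have hsQ : S.Q (x + y) = 0 := by rw [S.Q_add_of_perp hBxy, hx, hy, add_zero]
  have hl : LineA S H x y := ⟨hBxy, hxy, hA x hx0 hx, hA y hy0 hy, hA _ hs0 hsQ⟩
  exact core_false S hl ha ha' hb hb' haL ha'L hbL hb'L haa' hbb' hab hab' ha'b ha'b'
    (fun z hz h1 h2 h3 h4 => hspan z hz.1 hz.2 h1 h2 h3 h4)

end Cfsg.Agent.Lib.Helper27.Om2Leaf
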