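import Mathlib
import Cfsg.Prelude.Def_ClassicalGeometry
import Cfsg.Prelude.Def_GeometricClasses
import Cfsg.Agent.Lib.Helper5.LSubC
import Cfsg.Agent.Lib.Helper20.Om7S.Wrap
import Cfsg.Agent.Lib.Helper20.Om7S.KDefs
import Cfsg.Agent.Lib.Helper20.Om7S.EDefs
import Cfsg.Agent.Lib.Helper23.Om7SL0
import Cfsg.Agent.Lib.Helper22.Om7SL0cd
import Cfsg.Agent.Lib.Helper1.Om7K1a
import Cfsg.Agent.Lib.Helper7.Om7SK2
import Cfsg.Agent.Lib.Helper11.Om7SK7
import Cfsg.Agent.Lib.Helper23.Om7EE0

set_option linter.dupNamespace false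
set_option linter.ambiguousOpen false

namespace Cfsg.Agent.Lib.Helper20.Om7S

set_option autoImplicit false
set_option linter.unusedSectionVars false
set_option linter.unusedVariables false

open Cfsg Matrix QuadraticMap Module Cfsg.Agent.Lib.Helper25.Siegel Cfsg.Agent.Lib.Helper19.OSub
open _root_.Cfsg _root_.Cfsg.Agent.Lib.Helper25.Siegel
open Cfsg.Agent.Lib.Helper26.OSubLeaf
open S7
open Cfsg.Agent.Lib.Helper23.Om7SLeaf Cfsg.Agent.Lib.Helper22.Om7SLeaf Cfsg.Agent.Lib.Helper1.Om7Leaf
open Cfsg.Agent.Lib.Helper7.Om7SLeaf Cfsg.Agent.Lib.Helper11.Om7SLeaf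

namespace Cfsg.Agent.Lib.Helper27.Om7ELeaf

variable {ι : Type} [Fintype ι] [DecidableEq ι] {F : Type*} [Field F] [Fintype F]
  {F₀ : Subfield F} {Q : QuadraticForm F (ι → F)} {M : Subgroup (GL ι F)}

/-- a non-zero vector is not orthogonal to some rational vector -/
theorem e4_exists_rat_ne (hnd : (polarBilin Q).Nondegenerate) {a : ι → F} (ha : a ≠ 0) :
    ∃ x, RatV F₀ x ∧ polar Q a x ≠ 0 := by
  by_contra hcon
  push Not at hcon
  apply ha
  apply hnd.1
  intro y
  rw [polarBilin_apply_apply]
  exact polar_zero_of_rat (F₀ := F₀) hcon y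

/-- E4 [M]: (char 2) a root involution in the subfield group has a rational line. -/
theorem rat_line_of_rt_mem (h : QCtx F₀ Q) (hc2 : (2 : F) = 0) {p p' : ι → F} (hts : TS Q p p')
    (hz : rt Q p p' 1 ∈ Cfsg.Geo.subfieldSubgroup F₀ (1 : GL ι F)) :
    ∃ u'' v'' : ι → F, RatV F₀ u'' ∧ RatV F₀ v'' ∧ TS Q u'' v'' ∧ InSpan u'' v'' p ∧
      InSpan u'' v'' p' := by
  have hrat := Cfsg.Agent.Lib.Helper23.Om7ELeaf.ratact_of_mem h hc2 hz (rt_mem_iso p p' 1)
  have hmv : ∀ x, mv (rt Q p p' 1) x - x = polar Q p x • p' - polar Q p' x • p := by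
    intro x
    rw [mv_rt hts.Qu hts.Qv hts.uv, one_smul]
    abel
  have hli := LinearIndependent.pair_iff.mp hts.li
  have hp0 : p ≠ 0 := by
    intro h0
    have := hli 1 0 (by rw [h0]; simp)
    exact one_ne_zero this.1
  -- a rational `x` with `φ x ≠ 0`
  obtain ⟨x, hx, hφx⟩ := e4_exists_rat_ne (F₀ := F₀) h.nd hp0
  -- `χ = φ(x) ψ - ψ(x) φ = B(φ(x) p' - ψ(x) p, ·)`
  have hχ0 : polar Q p x • p' - polar Q p' x • p ≠ 0 := by
    intro h0
    have := hli (-polar Q p' x) (polar Q p x) (by rw [← h0, neg_smul]; abel)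
    exact hφx this.2
  obtain ⟨y, hy, hχy⟩ := e4_exists_rat_ne (F₀ := F₀) h.nd hχ0
  rw [polar_sub_left, polar_smul_left, polar_smul_left, smul_eq_mul, smul_eq_mul] at hχy
  -- the determinant
  set D : F := polar Q p x * polar Q p' y - polar Q p' x * polar Q p y with hD
  have hD0 : D ≠ 0 := hχy
  have pp : polar Q p p = 0 := polar_self_sing hts.Qu
  have pp' : polar Q p' p' = 0 := polar_self_sing hts.Qv
  have p'p : polar Q p' p = 0 := by rw [polar_comm]; exact hts.uv
  have hQlin : ∀ s t : F, Q (s • p' - t • p) = 0 := by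
    intro s t
    rw [sub_eq_add_neg, ← neg_smul, QuadraticMap.map_add Q, QuadraticMap.map_smul,
      QuadraticMap.map_smul, hts.Qu, hts.Qv, polar_smul_left, polar_smul_right, p'p]
    simp
  have hpol : ∀ s t s' t' : F, polar Q (s • p' - t • p) (s' • p' - t' • p) = 0 := by
    intro s t s' t'
    simp only [polar_sub_left, polar_sub_right, polar_smul_left, polar_smul_right, pp, pp', p'p,
      hts.uv, smul_zero, sub_zero]
  refine ⟨mv (rt Q p p' 1) x - x, mv (rt Q p p' 1) y - y, ratV_sub (hrat x hx) hx,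
    ratV_sub (hrat y hy) hy, ?_, ?_, ?_⟩
  · rw [hmv, hmv]
    refine ⟨hQlin _ _, hQlin _ _, hpol _ _ _ _, ?_⟩
    rw [LinearIndependent.pair_iff]
    intro s t hst
    have h1 : (-(s * polar Q p' x + t * polar Q p' y)) • p
        + (s * polar Q p x + t * polar Q p y) • p' = 0 := by
      rw [← hst]
      simp only [smul_sub, smul_smul, neg_smul, add_smul]
      abel
    obtain ⟨e1, e2⟩ := hli _ _ h1
    have e1' : s * polar Q p' x + t * polar Q p' y = 0 := neg_eq_zero.mp e1
    constructor
    · have : s * D = 0 := by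
        rw [hD]
        linear_combination polar Q p' y * e2 - polar Q p y * e1'
      exact (mul_eq_zero.mp this).resolve_right hD0
    · have : t * D = 0 := by
        rw [hD]
        linear_combination polar Q p x * e1' - polar Q p' x * e2
      exact (mul_eq_zero.mp this).resolve_right hD0
  · refine ⟨polar Q p y / D, -(polar Q p x / D), ?_⟩
    rw [hmv, hmv]
    have hcoef : p = ((polar Q p y / D) * polar Q p x + -(polar Q p x / D) * polar Q p y) • p'
        - ((polar Q p y / D) * polar Q p' x + -(polar Q p x / D) * polar Q p' y) • p := by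
      have c1 : (polar Q p y / D) * polar Q p x + -(polar Q p x / D) * polar Q p y = 0 := by
        field_simp
        ring
      have c2 : (polar Q p y / D) * polar Q p' x + -(polar Q p x / D) * polar Q p' y = -1 := by
        field_simp
        rw [hD]
        ring
      rw [c1, c2]
      simp
    conv_lhs => rw [hcoef]
    simp only [smul_sub, smul_smul, add_smul]
    abel
  · refine ⟨polar Q p' y / D, -(polar Q p' x / D), ?_⟩
    rw [hmv, hmv]
    have hcoef : p' = ((polar Q p' y / D) * polar Q p x + -(polar Q p' x / D) * polar Q p y) • p'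
        - ((polar Q p' y / D) * polar Q p' x + -(polar Q p' x / D) * polar Q p' y) • p := by
      have c1 : (polar Q p' y / D) * polar Q p x + -(polar Q p' x / D) * polar Q p y = 1 := by
        field_simp
        rw [hD]
        ring
      have c2 : (polar Q p' y / D) * polar Q p' x + -(polar Q p' x / D) * polar Q p' y = 0 := by
        field_simp
        ring
      rw [c1, c2]
      simp
    conv_lhs => rw [hcoef]
    simp only [smul_sub, smul_smul, add_smul]
    abel

end Cfsg.Agent.Lib.Helper27.Om7ELeaf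

end Cfsg.Agent.Lib.Helper20.Om7S
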