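import Mathlib
import Cfsg.Agent.Lib.Helper7.SimpleTools

set_option autoImplicit false

/-!
# A group of order 150 has a normal Sylow 5-subgroup

If `n₅ = 6` then `N(P) = P` is abelian, so by Burnside there is a normal complement `K` of order 6;
`P` permutes the elements of order 2 of `K` and the elements of order 3 of `K`, at most 4 of each,
hence centralizes them all, so `P` centralizes `K` and `P` is normal after all.
-/

namespace Cfsg.Agent.Lib.Helper27.Ord150

open Subgroup

/-- A `p`-subgroup `P` normalizing a finite set `S` of fewer than `p` elements (closed under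
conjugation by `P`) centralizes every member. -/
theorem conj_eq_of_card_lt {L : Type*} [Group L] {p : ℕ} [Fact p.Prime] (P : Subgroup L)
    (hP : IsPGroup p P) (S : Set L) [Finite S] (hS : ∀ x ∈ P, ∀ k ∈ S, x * k * x⁻¹ ∈ S)
    (hcard : Nat.card S < p) (x : L) (hx : x ∈ P) (k : L) (hk : k ∈ S) : x * k * x⁻¹ = k := by
  letI : MulAction ↥P ↥S :=
    { smul := fun y s => ⟨(y : L) * s * (y : L)⁻¹, hS y y.2 s s.2⟩
      one_smul := by
        intro s
        apply Subtype.ext
        change ((1 : ↥P) : L) * s * ((1 : ↥P) : L)⁻¹ = s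
        simp
      mul_smul := by
        intro y z s
        apply Subtype.ext
        change ((y * z : ↥P) : L) * s * ((y * z : ↥P) : L)⁻¹ =
          (y : L) * ((z : L) * s * (z : L)⁻¹) * (y : L)⁻¹
        rw [Subgroup.coe_mul]
        group }
  obtain ⟨n, hn⟩ := hP.card_orbit (α := ↥S) (⟨k, hk⟩ : ↥S)
  have hle : Nat.card (MulAction.orbit ↥P (⟨k, hk⟩ : ↥S)) ≤ Nat.card ↥S :=
    Nat.card_le_card_of_injective _ Subtype.val_injective
  have hn0 : n = 0 := by
    by_contra h
    have h1 : p ≤ p ^ n := by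
      calc p = p ^ 1 := (pow_one p).symm
        _ ≤ p ^ n := Nat.pow_le_pow_right (Fact.out : p.Prime).pos (by omega)
    omega
  rw [hn0, pow_zero] at hn
  have hsub : Subsingleton (MulAction.orbit ↥P (⟨k, hk⟩ : ↥S)) :=
    (Nat.card_eq_one_iff_unique.mp hn).1
  have h1 : (⟨x, hx⟩ : ↥P) • (⟨k, hk⟩ : ↥S) ∈ MulAction.orbit ↥P (⟨k, hk⟩ : ↥S) :=
    MulAction.mem_orbit _ _
  have h2 : (⟨k, hk⟩ : ↥S) ∈ MulAction.orbit ↥P (⟨k, hk⟩ : ↥S) := MulAction.mem_orbit_self _
  have h3 := hsub.elim ⟨_, h1⟩ ⟨_, h2⟩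
  have h4 : (⟨x, hx⟩ : ↥P) • (⟨k, hk⟩ : ↥S) = (⟨k, hk⟩ : ↥S) := congrArg Subtype.val h3
  exact congrArg Subtype.val h4

theorem card_sylow_five {L : Type*} [Group L] [Finite L] (hL : Nat.card L = 150) :
    Nat.card (Sylow 5 L) = 1 := by
  classical
  have hp5 : Nat.Prime 5 := by norm_num
  have : Fact (Nat.Prime 5) := ⟨hp5⟩
  have hn : Nat.card L = 5 ^ 2 * 6 := by rw [hL]; norm_num
  obtain ⟨P⟩ : Nonempty (Sylow 5 L) := inferInstance
  obtain ⟨hP, hidx⟩ := Cfsg.Agent.Lib.Helper7.sylow_card_index_of_pow hn (by norm_num) P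
  have hab := Cfsg.Agent.Lib.Helper7.comm_of_card_prime_sq (P : Subgroup L) hP
  have hdvd : Nat.card (Sylow 5 L) ∣ 6 := by rw [← hidx]; exact P.card_dvd_index
  have hmod : Nat.card (Sylow 5 L) ≡ 1 [MOD 5] := card_sylow_modEq_one 5 L
  have hle : Nat.card (Sylow 5 L) ≤ 6 := Nat.le_of_dvd (by norm_num) hdvd
  by_contra hne
  have h6 : Nat.card (Sylow 5 L) = 6 := by
    unfold Nat.ModEq at hmod
    have hpos : 0 < Nat.card (Sylow 5 L) := Nat.card_pos
    interval_cases (Nat.card (Sylow 5 L)) <;> simp_all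
  -- `N(P) = P`
  have hNcard := Cfsg.Agent.Lib.Helper7.card_sylow_mul_card_normalizer P
  rw [h6, hL] at hNcard
  have hN : Nat.card ↥(normalizer ((P : Subgroup L) : Set L)) = 25 := by omega
  have hNP : normalizer ((P : Subgroup L) : Set L) = (P : Subgroup L) := by
    symm
    apply Subgroup.eq_of_le_of_card_ge Subgroup.le_normalizer
    rw [hN, hP]; norm_num
  have hNC : normalizer ((P : Subgroup L) : Set L) ≤ centralizer ((P : Subgroup L) : Set L) := by
    rw [hNP]
    intro x hx
    rw [Subgroup.mem_centralizer_iff]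
    intro y hy
    exact hab y hy x hx
  -- Burnside
  set K : Subgroup L := (MonoidHom.transferSylow P hNC).ker with hKdef
  have hK : IsComplement' K (P : Subgroup L) := MonoidHom.ker_transferSylow_isComplement' P hNC
  have hKn : K.Normal := by rw [hKdef]; infer_instance
  have hKcard : Nat.card ↥K = 6 := by
    have := hK.card_mul_card
    rw [hP, hL] at this
    omega
  -- elements of order 2 and 3 of `K`
  have : Fact (Nat.Prime 2) := ⟨Nat.prime_two⟩
  have : Fact (Nat.Prime 3) := ⟨Nat.prime_three⟩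
  obtain ⟨a0, ha0⟩ := exists_prime_orderOf_dvd_card' (G := ↥K) 2 (by rw [hKcard]; norm_num)
  obtain ⟨b0, hb0⟩ := exists_prime_orderOf_dvd_card' (G := ↥K) 3 (by rw [hKcard]; norm_num)
  have hao : orderOf (a0 : L) = 2 := by rw [Subgroup.orderOf_coe]; exact ha0
  have hbo : orderOf (b0 : L) = 3 := by rw [Subgroup.orderOf_coe]; exact hb0
  let A : ℕ → Set L := fun m => {k : L | k ∈ K ∧ orderOf k = m}
  have hAfin : ∀ m, Finite (A m) := fun m => Set.Finite.subset (Set.toFinite (K : Set L))
    (fun k hk => hk.1)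
  have hconj : ∀ m, ∀ x ∈ (P : Subgroup L), ∀ k ∈ A m, x * k * x⁻¹ ∈ A m := by
    intro m x _ k hk
    refine ⟨hKn.conj_mem k hk.1 x, ?_⟩
    rw [← hk.2]
    have : SemiconjBy x k (x * k * x⁻¹) := by unfold SemiconjBy; group
    exact this.orderOf_eq.symm
  -- the sets `A 2`, `A 3`, `{1}` are disjoint subsets of `K`
  have hsum : Nat.card (A 2) + Nat.card (A 3) + 1 ≤ 6 := by
    have : Fintype ↥K := Fintype.ofFinite _
    have hKc' : (Finset.univ : Finset ↥K).card = 6 := by
      rw [Finset.card_univ, ← Nat.card_eq_fintype_card, hKcard]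
    rw [← hKc']
    let F2 : Finset ↥K := Finset.univ.filter fun k => orderOf (k : L) = 2
    let F3 : Finset ↥K := Finset.univ.filter fun k => orderOf (k : L) = 3
    have e2 : Nat.card (A 2) = F2.card := by
      rw [← Nat.card_eq_finsetCard]
      apply Nat.card_congr
      exact
        { toFun := fun k => ⟨⟨k.1, k.2.1⟩, Finset.mem_filter.mpr ⟨Finset.mem_univ _, k.2.2⟩⟩
          invFun := fun k => ⟨k.1.1, k.1.2, (Finset.mem_filter.mp k.2).2⟩
          left_inv := fun k => rfl
          right_inv := fun k => rfl }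
    have e3 : Nat.card (A 3) = F3.card := by
      rw [← Nat.card_eq_finsetCard]
      apply Nat.card_congr
      exact
        { toFun := fun k => ⟨⟨k.1, k.2.1⟩, Finset.mem_filter.mpr ⟨Finset.mem_univ _, k.2.2⟩⟩
          invFun := fun k => ⟨k.1.1, k.1.2, (Finset.mem_filter.mp k.2).2⟩
          left_inv := fun k => rfl
          right_inv := fun k => rfl }
    rw [e2, e3]
    have hd23 : Disjoint F2 F3 := by
      rw [Finset.disjoint_left]
      intro k h2 h3
      have := (Finset.mem_filter.mp h2).2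
      rw [(Finset.mem_filter.mp h3).2] at this
      omega
    have hd1 : Disjoint (F2 ∪ F3) {(1 : ↥K)} := by
      rw [Finset.disjoint_singleton_right, Finset.mem_union]
      rintro (h | h)
      · have := (Finset.mem_filter.mp h).2
        rw [Subgroup.coe_one, orderOf_one] at this
        omega
      · have := (Finset.mem_filter.mp h).2
        rw [Subgroup.coe_one, orderOf_one] at this
        omega
    calc F2.card + F3.card + 1 = ((F2 ∪ F3) ∪ {(1 : ↥K)}).card := by
          rw [Finset.card_union_of_disjoint hd1, Finset.card_union_of_disjoint hd23,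
            Finset.card_singleton]
      _ ≤ (Finset.univ : Finset ↥K).card := Finset.card_le_card (Finset.subset_univ _)
  have ha2 : (a0 : L) ∈ A 2 := ⟨a0.2, hao⟩
  have hb3 : (b0 : L) ∈ A 3 := ⟨b0.2, hbo⟩
  have hA2pos : 0 < Nat.card (A 2) := by
    have : Nonempty (A 2) := ⟨⟨_, ha2⟩⟩
    exact Nat.card_pos
  have hA3pos : 0 < Nat.card (A 3) := by
    have : Nonempty (A 3) := ⟨⟨_, hb3⟩⟩
    exact Nat.card_pos
  -- `P` centralizes `a0` and `b0`
  have hca : ∀ x ∈ (P : Subgroup L), x * (a0 : L) * x⁻¹ = a0 := fun x hx =>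
    conj_eq_of_card_lt (P : Subgroup L) P.isPGroup' (A 2) (hconj 2) (by omega) x hx _ ha2
  have hcb : ∀ x ∈ (P : Subgroup L), x * (b0 : L) * x⁻¹ = b0 := fun x hx =>
    conj_eq_of_card_lt (P : Subgroup L) P.isPGroup' (A 3) (hconj 3) (by omega) x hx _ hb3
  -- hence all of `K`
  have hKC : K ≤ centralizer ((P : Subgroup L) : Set L) := by
    have hle : K ⊓ centralizer ((P : Subgroup L) : Set L) = K := by
      apply Subgroup.eq_of_le_of_card_ge inf_le_left
      have hmem : ∀ k : L, k ∈ K → (∀ x ∈ (P : Subgroup L), x * k * x⁻¹ = k) →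
          k ∈ K ⊓ centralizer ((P : Subgroup L) : Set L) := by
        intro k hk hc
        refine Subgroup.mem_inf.mpr ⟨hk, ?_⟩
        rw [Subgroup.mem_centralizer_iff]
        intro x hx
        have := hc x hx
        calc x * k = x * k * x⁻¹ * x := by group
          _ = k * x := by rw [this]
      have h2 : 2 ∣ Nat.card ↥(K ⊓ centralizer ((P : Subgroup L) : Set L)) := by
        rw [← hao]
        exact Subgroup.orderOf_dvd_natCard _ (hmem _ a0.2 hca)
      have h3 : 3 ∣ Nat.card ↥(K ⊓ centralizer ((P : Subgroup L) : Set L)) := by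
        rw [← hbo]
        exact Subgroup.orderOf_dvd_natCard _ (hmem _ b0.2 hcb)
      have h6 : 6 ∣ Nat.card ↥(K ⊓ centralizer ((P : Subgroup L) : Set L)) :=
        Nat.Coprime.mul_dvd_of_dvd_of_dvd (by norm_num : Nat.Coprime 2 3) h2 h3
      rw [hKcard]
      exact Nat.le_of_dvd Nat.card_pos h6
    rw [← hle]
    exact inf_le_right
  -- so `P` is normal
  have htop : normalizer ((P : Subgroup L) : Set L) = ⊤ := by
    rw [eq_top_iff]
    intro g _
    obtain ⟨⟨k, x⟩, hkx, -⟩ := hK.existsUnique g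
    change (k : L) * (x : L) = g at hkx
    rw [← hkx]
    apply Subgroup.mul_mem
    · exact Subgroup.centralizer_le_normalizer _ (hKC k.2)
    · exact Subgroup.le_normalizer x.2
  rw [htop, Subgroup.card_top, hL] at hN
  omega

end Cfsg.Agent.Lib.Helper27.Ord150
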