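import Mathlib
import Cfsg.Agent.Lib.Helper27.SylIntC
import Cfsg.Agent.Lib.Helper27.Ord150
import Cfsg.Agent.Lib.Helper27.Ord5880
import Cfsg.Agent.Lib.Helper1.OrdTools

set_option autoImplicit false

/-!
# No simple group of order 4200 = 2³·3·5²·7

`n₅ ∈ {21, 56}`; `P` a Sylow 5-subgroup (abelian of order 25), `D = P ∩ Q` of order 5 for a second
Sylow subgroup `Q`, `s` the number of Sylow 5-subgroups through `D`, `k = |N(P) ∩ N(D)|`,
`|N(D)| = s k`.

* `n₅ = 56`, `|N(P)| = 75`: `(s, k) ∈ {(6, 25), (21, 25)}`; `|N(D)| = 525` has index 8, and a group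
  of order 150 has only one Sylow 5-subgroup.
* `n₅ = 21`, `|N(P)| = 200`: all `s = 6`, four subgroups `D`, `k = 25 c` with `c ∈ {2, 4}` by the
  orbit bound; `c = 4` gives index 7, `c = 2` gives `|N(D)| = 300` of index 14, and an involution
  centralizing a Sylow 7-subgroup moves 0, 7 or 14 of the 14 cosets, against parity.
-/

namespace Cfsg.Agent.Lib.Helper27.SylInt

open Subgroup MulAction
open scoped Pointwise
open Cfsg.Agent.Lib.Helper7 Cfsg.Agent.Lib.Helper8.OrdSieve Cfsg.Agent.Lib.Helper8.SmallSimple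
  Cfsg.Agent.Lib.Helper1.OrdTools

theorem np5_4200 : npList 5 2 168 = [21, 56] := by decide +kernel

theorem np7_4200 : npList 7 1 600 = [15, 50] := by decide +kernel

theorem arith_168 : ∀ s ≤ 56, s ∣ 168 → s % 5 = 1 → 2 ≤ s → s = 6 ∨ s = 21 ∨ s = 56 := by
  decide

theorem arith_56 : ∀ s ≤ 56, s ∣ 56 → s % 5 = 1 → 2 ≤ s → s = 56 := by
  decide

/-- The parity endgame: no subgroup of order 300. -/
theorem no_subgroup_300 {G : Type*} [Group G] [Finite G] [IsSimpleGroup G]
    (h : Nat.card G = 4200) (K : Subgroup G) (hKcard : Nat.card ↥K = 300) : False := by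
  have hnc : ¬ IsMulCommutative G := not_comm_of_card_not_prime (by rw [h]; norm_num)
  have : Fact (Nat.Prime 7) := ⟨by norm_num⟩
  have : Fact (Nat.Prime 2) := ⟨by norm_num⟩
  obtain ⟨n7, k7, hn7, hnk7, d7⟩ := pdata (p := 7) (m := 600) hnc (by rw [h]) (by norm_num)
  have m7 : n7 ∈ npList 7 1 600 := by
    rw [← hn7]
    exact sylow_count_mem hnc (by norm_num) le_rfl (by norm_num) (h.trans (by norm_num))
      (by norm_num)
  rw [np7_4200] at m7
  simp only [List.mem_cons, List.not_mem_nil, or_false] at m7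
  have hKidx : K.index = 14 := by
    have := K.card_mul_index
    rw [hKcard, h] at this
    omega
  have hKtop : K ≠ ⊤ := by
    intro htop
    rw [htop, Subgroup.index_top] at hKidx
    omega
  -- an involution centralizing a Sylow 7-subgroup
  obtain ⟨P7⟩ : Nonempty (Sylow 7 G) := inferInstance
  obtain ⟨hP7, -, c7, r7, hc7, hcr7, hrd7, hr17, -⟩ := d7 P7
  have hr76 : r7 ≤ 6 := Nat.le_of_dvd (by norm_num) hrd7
  have h2 : 2 ∣ Nat.card ↥(Subgroup.centralizer ((P7 : Subgroup G) : Set G)) := by
    rw [hc7]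
    rcases m7 with rfl | rfl
    · have hk7 : k7 = 40 := by omega
      subst hk7
      interval_cases r7 <;> omega
    · have hk7 : k7 = 12 := by omega
      subst hk7
      interval_cases r7 <;> omega
  obtain ⟨t0, ht0⟩ := exists_prime_orderOf_dvd_card'
    (G := ↥(Subgroup.centralizer ((P7 : Subgroup G) : Set G))) 2 h2
  have hto : orderOf (t0 : G) = 2 := by rw [Subgroup.orderOf_coe]; exact ht0
  have ht2 : (t0 : G) ^ 2 = 1 := by rw [← hto]; exact pow_orderOf_eq_one _
  -- parity
  obtain ⟨s, hs4, hs⟩ := four_dvd_moved (by rw [h]; norm_num) K (t0 : G) ht2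
  rw [hKidx] at hs
  -- the fixed points of `t` form a union of regular `P7`-orbits
  have hinv : ∀ y ∈ (P7 : Subgroup G), ∀ a ∈ fixedBy (G ⧸ K) (t0 : G),
      y • a ∈ fixedBy (G ⧸ K) (t0 : G) := by
    intro y hy a ha
    rw [mem_fixedBy] at ha ⊢
    have hcy : (t0 : G) * y = y * (t0 : G) := ((Subgroup.mem_centralizer_iff.mp t0.2) y hy).symm
    rw [smul_smul, hcy, ← smul_smul, ha]
  have h1 := card_invariant_modEq (P7 : Subgroup G) P7.2 (fixedBy (G ⧸ K) (t0 : G)) hinv
  have h0 : Nat.card {a : G ⧸ K // a ∈ fixedBy (G ⧸ K) (t0 : G) ∧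
      ∀ y ∈ (P7 : Subgroup G), y • a = a} = 0 := by
    have hemp : IsEmpty {a : G ⧸ K // a ∈ fixedBy (G ⧸ K) (t0 : G) ∧
        ∀ y ∈ (P7 : Subgroup G), y • a = a} := by
      constructor
      rintro ⟨a, -, ha⟩
      obtain ⟨y0, hy0⟩ := exists_prime_orderOf_dvd_card' (G := ↥(P7 : Subgroup G)) 7 (by rw [hP7])
      have hyo : orderOf (y0 : G) = 7 := by rw [Subgroup.orderOf_coe]; exact hy0
      have hfix := ha (y0 : G) y0.2
      induction a using QuotientGroup.induction_on with
      | H g =>
        rw [Cfsg.Agent.S1018.smul_mk_eq_iff] at hfix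
        have ho : orderOf (g⁻¹ * (y0 : G) * g) = 7 := by
          have : SemiconjBy g⁻¹ (y0 : G) (g⁻¹ * (y0 : G) * g) := by unfold SemiconjBy; group
          rw [← this.orderOf_eq]; exact hyo
        have hdvd : orderOf (g⁻¹ * (y0 : G) * g) ∣ Nat.card ↥K :=
          Subgroup.orderOf_dvd_natCard _ hfix
        rw [ho, hKcard] at hdvd
        norm_num at hdvd
    exact Nat.card_of_isEmpty
  rw [h0] at h1
  have h7 : 7 ∣ Nat.card (fixedBy (G ⧸ K) (t0 : G)) := (Nat.modEq_zero_iff_dvd).mp h1
  have hall : Nat.card (fixedBy (G ⧸ K) (t0 : G)) = Nat.card (G ⧸ K) := by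
    have : Nat.card (G ⧸ K) = 14 := hKidx
    rw [this]
    omega
  have ht1 : (t0 : G) = 1 :=
    eq_one_of_smul_eq K hKtop (t0 : G) (smul_eq_of_card_fixedBy (t0 : G) hall)
  rw [ht1, orderOf_one] at hto
  omega

theorem not_simple_4200 {G : Type*} [Group G] [Finite G] [IsSimpleGroup G] :
    Nat.card G ≠ 4200 := by
  intro hcard
  have hp5 : Nat.Prime 5 := by norm_num
  have : Fact (Nat.Prime 5) := ⟨hp5⟩
  have hG : ¬ IsMulCommutative G :=
    not_comm_of_card_not_prime (by rw [hcard]; norm_num)
  have hn : Nat.card G = 5 ^ 2 * 168 := by rw [hcard]; norm_num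
  have hmem := sylow_count_mem hG hp5 (by norm_num) (by norm_num) hn (by norm_num)
  rw [np5_4200] at hmem
  obtain ⟨P⟩ : Nonempty (Sylow 5 G) := inferInstance
  obtain ⟨hP, -⟩ := sylow_card_index_of_pow hn (by norm_num) P
  have hab : Ab (P : Subgroup G) := comm_of_card_prime_sq (P : Subgroup G) hP
  have hNcard := card_sylow_mul_card_normalizer P
  rw [hcard] at hNcard
  have hcore := normalCore_sylow_eq_bot P (by rw [hP, hcard]; norm_num)
  obtain ⟨T, a, hT1, hT2, hsum⟩ := card_sylow_partition P hP
  -- general facts on a member of `T`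
  have hfacts : ∀ D ∈ T, sCount 5 D % 5 = 1 ∧ 2 ≤ sCount 5 D ∧
      sCount 5 D ≤ Nat.card (Sylow 5 G) ∧ sCount 5 D ≠ Nat.card (Sylow 5 G) ∧
      ∃ c : ℕ, Nat.card ↥(normalizer ((P : Subgroup G) : Set G) ⊓ normalizer (D : Set G)) = 25 * c ∧
        25 * c ∣ Nat.card ↥(normalizer ((P : Subgroup G) : Set G)) ∧
        sCount 5 D * (25 * c) = Nat.card ↥(normalizer (D : Set G)) ∧
        sCount 5 D * (25 * c) ∣ 4200 := by
    intro D hD
    obtain ⟨hDP, hDc, hs⟩ := hT1 D hD
    have hmod := sCount_modEq_one P hab D hDP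
    unfold Nat.ModEq at hmod
    refine ⟨by omega, by omega, sCount_le D, ?_, ?_⟩
    · intro h
      have := le_normalCore_of_sCount_eq P D h
      rw [hcore, le_bot_iff] at this
      rw [this, Subgroup.card_bot] at hDc
      norm_num at hDc
    · have hPle : (P : Subgroup G) ≤
          normalizer ((P : Subgroup G) : Set G) ⊓ normalizer (D : Set G) :=
        le_inf Subgroup.le_normalizer (le_normalizer_of_le P hab D hDP)
      obtain ⟨c, hc⟩ : 25 ∣
          Nat.card ↥(normalizer ((P : Subgroup G) : Set G) ⊓ normalizer (D : Set G)) := by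
        have := Subgroup.card_dvd_of_le hPle
        rw [hP] at this
        exact this
      refine ⟨c, hc, ?_, ?_, ?_⟩
      · rw [← hc]
        exact Subgroup.card_dvd_of_le inf_le_left
      · rw [← hc]
        exact sCount_mul P hab D hDP
      · rw [← hc, sCount_mul P hab D hDP, ← hcard]
        exact Subgroup.card_subgroup_dvd_card _
  simp only [List.mem_cons, List.not_mem_nil, or_false] at hmem
  rcases hmem with h21 | h56
  · -- n₅ = 21
    rw [h21] at hNcard hsum
    have hN : Nat.card ↥(normalizer ((P : Subgroup G) : Set G)) = 200 := by omega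
    have h6 : ∀ D ∈ T, sCount 5 D = 6 := by
      intro D hD
      obtain ⟨h1, h2, h3, h4, c, -, -, -, hdvd⟩ := hfacts D hD
      rw [h21] at h3 h4
      have hs168 : sCount 5 D ∣ 168 := by
        have h5 : sCount 5 D * 25 ∣ 168 * 25 := by
          refine dvd_trans ?_ hdvd
          exact ⟨c, by ring⟩
        exact Nat.dvd_of_mul_dvd_mul_right (by norm_num) h5
      rcases arith_168 _ (by omega) hs168 h1 h2 with h | h | h <;> omega
    rw [Finset.sum_congr rfl (fun D hD => by rw [h6 D hD])] at hsum
    rw [Finset.sum_const, smul_eq_mul] at hsum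
    have hTc : T.card = 4 := by omega
    obtain ⟨D, hD⟩ : T.Nonempty := by
      rw [← Finset.card_pos, hTc]; norm_num
    obtain ⟨hDP, hDc, hs⟩ := hT1 D hD
    obtain ⟨-, -, -, -, c, hk, hkN, hND, hdvd⟩ := hfacts D hD
    rw [h6 D hD] at hND hdvd
    rw [hN] at hkN
    have hle := card_normalizer_le P T D
      (fun n hn => conj_mem_of_mem P T hT2 D hDP hDc hs n hn)
    rw [hN, hTc, hk] at hle
    have hc8 : c ∣ 8 := by
      have : 25 * c ∣ 25 * 8 := hkN
      exact Nat.dvd_of_mul_dvd_mul_left (by norm_num) this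
    have hc28 : c ∣ 28 := by
      have : 150 * c ∣ 150 * 28 := by
        have h1 : 6 * (25 * c) = 150 * c := by ring
        rw [← h1]; exact hdvd
      exact Nat.dvd_of_mul_dvd_mul_left (by norm_num) this
    have hc4 : c ∣ 4 := by
      have := Nat.dvd_gcd hc8 hc28
      have h : Nat.gcd 8 28 = 4 := by norm_num
      rwa [h] at this
    have hcle : c ≤ 4 := Nat.le_of_dvd (by norm_num) hc4
    have hc3 : c ≠ 3 := by
      rintro rfl
      norm_num at hc4
    have hc24 : c = 2 ∨ c = 4 := by omega
    rcases hc24 with rfl | rfl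
    · -- `|N(D)| = 300`
      exact no_subgroup_300 hcard (normalizer (D : Set G)) (by rw [← hND])
    · -- `|N(D)| = 600`, index 7
      have hcardND : Nat.card ↥(normalizer (D : Set G)) = 600 := by rw [← hND]
      have hidx : (normalizer (D : Set G)).index = 7 := by
        have := (normalizer (D : Set G)).card_mul_index
        rw [hcardND, hcard] at this
        omega
      have htop : normalizer (D : Set G) ≠ ⊤ := by
        intro h
        rw [h, Subgroup.index_top] at hidx
        omega
      have := card_dvd_half_factorial hG _ htop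
      rw [hidx, hcard] at this
      norm_num [Nat.factorial] at this
  · -- n₅ = 56
    rw [h56] at hNcard hsum
    have hN : Nat.card ↥(normalizer ((P : Subgroup G) : Set G)) = 75 := by omega
    obtain ⟨D, hD⟩ : T.Nonempty := by
      rw [Finset.nonempty_iff_ne_empty]
      intro h
      rw [h, Finset.sum_empty] at hsum
      omega
    obtain ⟨hDP, hDc, hs⟩ := hT1 D hD
    obtain ⟨h1, h2, h3, h4, c, hk, hkN, hND, hdvd⟩ := hfacts D hD
    rw [h56] at h3 h4
    rw [hN] at hkN
    have hc3 : c ∣ 3 := by
      have : 25 * c ∣ 25 * 3 := hkN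
      exact Nat.dvd_of_mul_dvd_mul_left (by norm_num) this
    have hc13 : c = 1 ∨ c = 3 := (Nat.dvd_prime Nat.prime_three).mp hc3
    rcases hc13 with rfl | rfl
    · have hs168 : sCount 5 D ∣ 168 := by
        have h5 : sCount 5 D * 25 ∣ 168 * 25 := by
          simpa using hdvd
        exact Nat.dvd_of_mul_dvd_mul_right (by norm_num) h5
      rcases arith_168 _ h3 hs168 h1 h2 with h | h | h
      · -- `|N(D)| = 150`
        have hcardND : Nat.card ↥(normalizer (D : Set G)) = 150 := by rw [← hND, h]
        have := Cfsg.Agent.Lib.Helper27.Ord150.card_sylow_five hcardND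
        rw [← sCount_eq_card_sylow P hab D hDP, h] at this
        omega
      · -- `|N(D)| = 525`, index 8
        have hcardND : Nat.card ↥(normalizer (D : Set G)) = 525 := by rw [← hND, h]
        have hidx : (normalizer (D : Set G)).index = 8 := by
          have := (normalizer (D : Set G)).card_mul_index
          rw [hcardND, hcard] at this
          omega
        have htop : normalizer (D : Set G) ≠ ⊤ := by
          intro h
          rw [h, Subgroup.index_top] at hidx
          omega
        have := card_dvd_half_factorial hG _ htop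
        rw [hidx, hcard] at this
        norm_num [Nat.factorial] at this
      · exact h4 h
    · have hs56 : sCount 5 D ∣ 56 := by
        have h5 : sCount 5 D * 75 ∣ 56 * 75 := by
          simpa using hdvd
        exact Nat.dvd_of_mul_dvd_mul_right (by norm_num) h5
      exact h4 (arith_56 _ h3 hs56 h1 h2)

end Cfsg.Agent.Lib.Helper27.SylInt
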