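import Mathlib
import Cfsg.Agent.Lib.Helper6.BNStB

/-!
# The (B,N)-pair of a standard parabolic subgroup

For a (B,N)-pair `P` of `G` and `J ⊆ S`, the parabolic subgroup `P_J = ⟨B, J⟩` carries the
(B,N)-pair `(B, N_J, J)` with `N_J = ⟨J, B ∩ N⟩`; its standard parabolic subgroups are the
`P_K`, `K ⊆ J`.
-/

set_option autoImplicit false

namespace Cfsg.Agent.Lib.Helper27.ParBN

open Cfsg Cfsg.Agent.Lib.Helper3.BN

universe u

variable {G : Type u} [Group G] (P : Cfsg.BNPair G)

/-- `N_J = ⟨J, B ∩ N⟩` -/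
def NJ (J : Set G) : Subgroup G := Subgroup.closure J ⊔ (P.B ⊓ P.N)

theorem closure_le_NJ (J : Set G) : Subgroup.closure J ≤ NJ P J := le_sup_left

theorem H_le_NJ (J : Set G) : P.B ⊓ P.N ≤ NJ P J := le_sup_right

theorem NJ_le_N {J : Set G} (hJ : J ⊆ P.S) : NJ P J ≤ P.N := by
  apply sup_le
  · rw [Subgroup.closure_le]
    exact fun s hs => P.subset (hJ hs)
  · exact inf_le_right

theorem NJ_le_parabolic (J : Set G) : NJ P J ≤ P.parabolic J := by
  apply sup_le
  · exact le_sup_right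
  · exact le_trans inf_le_left le_sup_left

theorem B_le_parabolic (J : Set G) : P.B ≤ P.parabolic J := le_sup_left

theorem B_inf_NJ {J : Set G} (hJ : J ⊆ P.S) : P.B ⊓ NJ P J = P.B ⊓ P.N := by
  apply le_antisymm
  · exact le_inf inf_le_left (le_trans inf_le_right (NJ_le_N P hJ))
  · exact le_inf inf_le_left (H_le_NJ P J)

theorem B_sup_NJ (J : Set G) : P.B ⊔ NJ P J = P.parabolic J := by
  apply le_antisymm
  · exact sup_le (B_le_parabolic P J) (NJ_le_parabolic P J)
  · apply sup_le le_sup_left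
    exact le_trans (closure_le_NJ P J) le_sup_right

/-- two subgroups of a subgroup are equal if their images are -/
theorem eq_of_map_eq {Q : Subgroup G} {A B : Subgroup ↥Q}
    (h : A.map Q.subtype = B.map Q.subtype) : A = B :=
  Subgroup.map_injective Q.subtype_injective h

theorem map_closure_preimage {Q : Subgroup G} {J : Set G} (hJ : J ⊆ (Q : Set G)) :
    (Subgroup.closure {x : ↥Q | (x : G) ∈ J}).map Q.subtype = Subgroup.closure J := by
  rw [MonoidHom.map_closure]
  congr 1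
  ext g
  constructor
  · rintro ⟨x, hx, rfl⟩
    exact hx
  · intro hg
    exact ⟨⟨g, hJ hg⟩, hg, rfl⟩

theorem map_subgroupOf {Q A : Subgroup G} (h : A ≤ Q) : (A.subgroupOf Q).map Q.subtype = A := by
  rw [Subgroup.subgroupOf_map_subtype]
  exact inf_eq_left.2 h

theorem map_inf_subgroupOf {Q A B : Subgroup G} (hA : A ≤ Q) :
    (A.subgroupOf Q ⊓ B.subgroupOf Q).map Q.subtype = A ⊓ B := by
  ext g
  constructor
  · rintro ⟨x, hx, rfl⟩
    rw [SetLike.mem_coe, Subgroup.mem_inf, Subgroup.mem_subgroupOf, Subgroup.mem_subgroupOf] at hx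
    exact Subgroup.mem_inf.2 hx
  · intro hg
    rw [Subgroup.mem_inf] at hg
    refine ⟨⟨g, hA hg.1⟩, ?_, rfl⟩
    rw [SetLike.mem_coe, Subgroup.mem_inf, Subgroup.mem_subgroupOf, Subgroup.mem_subgroupOf]
    exact hg

/-- the (B,N)-pair of the parabolic subgroup `P_J` -/
def parBN (J : Set G) (hJ : J ⊆ P.S) : Cfsg.BNPair ↥(P.parabolic J) where
  B := P.B.subgroupOf (P.parabolic J)
  N := (NJ P J).subgroupOf (P.parabolic J)
  S := {x | (x : G) ∈ J}
  sup_eq_top := by
    rw [← Subgroup.subgroupOf_sup (B_le_parabolic P J) (NJ_le_parabolic P J), B_sup_NJ,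
      Subgroup.subgroupOf_self]
  conj_mem := by
    intro n hn t ht
    rw [Subgroup.mem_inf, Subgroup.mem_subgroupOf, Subgroup.mem_subgroupOf] at ht
    rw [Subgroup.mem_subgroupOf] at hn ⊢
    exact P.conj_mem _ (NJ_le_N P hJ hn) _ ⟨ht.1, NJ_le_N P hJ ht.2⟩
  subset := by
    intro x hx
    rw [SetLike.mem_coe, Subgroup.mem_subgroupOf]
    exact closure_le_NJ P J (Subgroup.subset_closure hx)
  sq_mem := by
    intro s hs
    rw [Subgroup.mem_subgroupOf]
    exact P.sq_mem _ (hJ hs)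
  inj := by
    intro s hs s' hs' h
    rw [Subgroup.mem_subgroupOf] at h
    exact Subtype.ext (P.inj _ (hJ hs) _ (hJ hs') h)
  closure_sup := by
    apply eq_of_map_eq
    have hJQ : J ⊆ (P.parabolic J : Set G) := fun s hs =>
      (le_sup_right : Subgroup.closure J ≤ P.parabolic J) (Subgroup.subset_closure hs)
    rw [Subgroup.map_sup, map_closure_preimage hJQ, map_subgroupOf (NJ_le_parabolic P J),
      map_inf_subgroupOf (B_le_parabolic P J), B_inf_NJ P hJ]
    rfl
  mul_mem_union := by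
    intro s hs n hn b hb
    rw [Subgroup.mem_subgroupOf] at hn hb
    have h := P.mul_mem_union _ (hJ hs) _ (NJ_le_N P hJ hn) _ hb
    rcases h with h | h
    · left
      rw [DoubleCoset.mem_doubleCoset] at h ⊢
      obtain ⟨x, hx, y, hy, he⟩ := h
      refine ⟨⟨x, B_le_parabolic P J hx⟩, ?_, ⟨y, B_le_parabolic P J hy⟩, ?_, ?_⟩
      · rw [SetLike.mem_coe, Subgroup.mem_subgroupOf]; exact hx
      · rw [SetLike.mem_coe, Subgroup.mem_subgroupOf]; exact hy
      · exact Subtype.ext he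
    · right
      rw [DoubleCoset.mem_doubleCoset] at h ⊢
      obtain ⟨x, hx, y, hy, he⟩ := h
      refine ⟨⟨x, B_le_parabolic P J hx⟩, ?_, ⟨y, B_le_parabolic P J hy⟩, ?_, ?_⟩
      · rw [SetLike.mem_coe, Subgroup.mem_subgroupOf]; exact hx
      · rw [SetLike.mem_coe, Subgroup.mem_subgroupOf]; exact hy
      · exact Subtype.ext he
  conj_ne := by
    intro s hs heq
    obtain ⟨b, hb, hnb⟩ := exists_conj_not_mem P (hJ hs)
    have hmem : s * ⟨b, B_le_parabolic P J hb⟩ * s ∈
        ((P.B.subgroupOf (P.parabolic J) : Subgroup ↥(P.parabolic J)) :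
          Set ↥(P.parabolic J)) := by
      rw [← heq]
      refine ⟨⟨b, B_le_parabolic P J hb⟩, ?_, rfl⟩
      rw [SetLike.mem_coe, Subgroup.mem_subgroupOf]
      exact hb
    rw [SetLike.mem_coe, Subgroup.mem_subgroupOf] at hmem
    exact hnb hmem

@[simp] theorem parBN_B (J : Set G) (hJ : J ⊆ P.S) :
    (parBN P J hJ).B = P.B.subgroupOf (P.parabolic J) := rfl

@[simp] theorem parBN_N (J : Set G) (hJ : J ⊆ P.S) :
    (parBN P J hJ).N = (NJ P J).subgroupOf (P.parabolic J) := rfl

@[simp] theorem parBN_S (J : Set G) (hJ : J ⊆ P.S) :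
    (parBN P J hJ).S = {x : ↥(P.parabolic J) | (x : G) ∈ J} := rfl

/-- the standard parabolic subgroups of `P_J` are the `P_K`, `K ⊆ J` -/
theorem parBN_parabolic (J : Set G) (hJ : J ⊆ P.S) (K : Set G) (hK : K ⊆ J) :
    (parBN P J hJ).parabolic {x : ↥(P.parabolic J) | (x : G) ∈ K} =
      (P.parabolic K).subgroupOf (P.parabolic J) := by
  have hKJ : P.parabolic K ≤ P.parabolic J := sup_le_sup_left (Subgroup.closure_mono hK) _
  have hKQ : K ⊆ (P.parabolic J : Set G) := fun s hs =>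
    (le_sup_right : Subgroup.closure J ≤ P.parabolic J) (Subgroup.subset_closure (hK hs))
  apply eq_of_map_eq
  have h : (parBN P J hJ).parabolic {x : ↥(P.parabolic J) | (x : G) ∈ K} =
      (parBN P J hJ).B ⊔ Subgroup.closure {x : ↥(P.parabolic J) | (x : G) ∈ K} := rfl
  rw [h, Subgroup.map_sup, map_closure_preimage hKQ, parBN_B,
    map_subgroupOf (B_le_parabolic P J), map_subgroupOf hKJ]
  rfl

end Cfsg.Agent.Lib.Helper27.ParBN
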