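import Mathlib
import Cfsg.Agent.Lib.Helper29.KInfJ
import Cfsg.Agent.Lib.Helper29.KInfD
import Cfsg.Agent.Lib.Helper2.SL2Quat
import Cfsg.Agent.Lib.Helper13.AbSylow
import Cfsg.Agent.Lib.Helper1.SLFree2
import Cfsg.Agent.Lib.Helper17.Bender4

/-!
# Primitive pairs of characteristic `p` and the upper K-infinity subgroup (helper27)

* `kInfUpper_normal_of_le`: helper29's normality of `K^∞(S)` for a Sylow `p`-subgroup `S`, generalized to
  any `p`-subgroup `S ≥ O_p(G)`.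
* `le_normalizer_kInfUpper`: relative version for a subgroup `M` of `G`.
* `not_abSylow_sl2`: `SL₂(p)`, `p` odd, has nonabelian Sylow `2`-subgroups.
* `false_of_primitive_pair`: the Glauberman-style contradiction for primitive pairs of characteristic `p`
  whose members have abelian Sylow `2`-subgroups.
-/

set_option autoImplicit false
set_option linter.style.haveILetI false
set_option linter.unusedSectionVars false
open scoped commutatorElement

namespace Cfsg.Agent.Lib.Helper27.PrimPairK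

open Cfsg.Agent.Lib.Helper29.KInfN

universe u

section main

variable {G : Type u} [Group G] [Finite G] {p : ℕ} [Fact p.Prime] {A : Subgroup G}

theorem kSeq_le_pCore_of_le (hA : Cfg p A) (hQ : QStab p G) (S : Subgroup G)
    (hHS : Cfsg.pCore p G ≤ S) :
    ∀ n : ℕ, (A ≤ (Cfsg.kSeqOdd ↥S n).map S.subtype ∧
      (Cfsg.kSeqEven ↥S n).map S.subtype ≤ Cfsg.pCore p G) ∧
      (Cfsg.kSeqOdd ↥S (n + 1)).map S.subtype ≤ Cfsg.pCore p G := by
  have hinj := S.subtype_injective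
  have hAS : A ≤ S := hA.le.trans hHS
  have hAmap : (A.subgroupOf S).map S.subtype = A :=
    Subgroup.map_subgroupOf_eq_of_le hAS
  have step1 : ∀ n, A ≤ (Cfsg.kSeqOdd ↥S n).map S.subtype →
      (Cfsg.kSeqEven ↥S n).map S.subtype ≤ Cfsg.pCore p G := by
    intro n hAn
    unfold Cfsg.kSeqEven
    rw [Subgroup.map_le_iff_le_comap]
    apply sSup_le
    intro B hB
    rw [← Subgroup.map_le_iff_le_comap]
    exact lowerStar_le_pCore hA hQ hAn
      ((Cfsg.Agent.Lib.Helper12.lowerStar_map_iff _ hinj B _).mpr hB)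
  have step2 : ∀ n, (Cfsg.kSeqEven ↥S n).map S.subtype ≤
      Cfsg.pCore p G →
      A ≤ (Cfsg.kSeqOdd ↥S (n + 1)).map S.subtype := by
    intro n hn
    have hmem : A.subgroupOf S ∈ Cfsg.kUpperStarFamily (Cfsg.kSeqEven ↥S n) := by
      rw [← Cfsg.Agent.Lib.Helper12.upperStar_map_iff _ hinj, hAmap]
      exact ⟨hA.cls, (Subgroup.commutator_mono le_rfl hn).trans hA.comm⟩
    have h1 : A.subgroupOf S ≤ Cfsg.kSeqOdd ↥S (n + 1) := le_sSup hmem
    rw [← hAmap]
    exact Subgroup.map_mono h1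
  have step3 : ∀ n, (Cfsg.kSeqOdd ↥S (n + 1)).map S.subtype ≤
      Cfsg.pCore p G := by
    intro n
    have hmem : A.subgroupOf S ∈ Cfsg.kLowerStarFamily (Cfsg.kSeqOdd ↥S n) := by
      rw [← Cfsg.Agent.Lib.Helper12.lowerStar_map_iff _ hinj, hAmap]
      exact mem_lowerStar hA hQ _
    have hAE : A ≤ (Cfsg.kSeqEven ↥S n).map S.subtype := by
      rw [← hAmap]
      exact Subgroup.map_mono (le_sSup hmem)
    show (sSup (Cfsg.kUpperStarFamily (Cfsg.kSeqEven ↥S n))).map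
      S.subtype ≤ _
    rw [Subgroup.map_le_iff_le_comap]
    apply sSup_le
    intro B hB
    rw [← Subgroup.map_le_iff_le_comap]
    have hB' := (Cfsg.Agent.Lib.Helper12.upperStar_map_iff _ hinj B _).mpr hB
    exact upperStar_le_pCore hA hQ hAE hB'.2
  intro n
  induction n with
  | zero =>
    have h0 : A ≤ (Cfsg.kSeqOdd ↥S 0).map S.subtype := by
      show A ≤ (⊤ : Subgroup ↥S).map S.subtype
      rw [← MonoidHom.range_eq_map, Subgroup.range_subtype]
      exact hAS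
    exact ⟨⟨h0, step1 0 h0⟩, step3 0⟩
  | succ n ih =>
    have h1 := step2 n ih.1.2
    exact ⟨⟨h1, step1 (n + 1) h1⟩, step3 (n + 1)⟩

/-- **Normality of the upper K-infinity subgroup** of any `p`-subgroup containing `O_p(G)`. -/
theorem kInfUpper_normal_of_le (hA : Cfg p A) (hQ : QStab p G) (S : Subgroup G)
    (hP : IsPGroup p ↥S) (hHS : Cfsg.pCore p G ≤ S) :
    (Cfsg.inducedFunctor Cfsg.kInfUpper S).Normal := by
  have hHp : IsPGroup p (Cfsg.pCore p G) := Cfsg.Agent.Lib.Helper16.pCore_isPGroup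
  have hseq := kSeq_le_pCore_of_le hA hQ S hHS
  have hQ' : ∀ n, Cfsg.kSeqEven ↥S n ≤ (Cfsg.pCore p G).subgroupOf S ∧
      Cfsg.kSeqOdd ↥S (n + 1) ≤ (Cfsg.pCore p G).subgroupOf S := by
    intro n
    exact ⟨Subgroup.map_le_iff_le_comap.mp (hseq n).1.2,
      Subgroup.map_le_iff_le_comap.mp (hseq n).2⟩
  have h79 := (Cfsg.Agent.S1979.result hP _ hQ').2
  have hW := isCharPFunctor_kInfUpper.{u} p
  have he := hW.2 _ _ (hHp.comap_subtype (K := S))
    (Subgroup.subgroupOfEquivOfLe hHS)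
  have heq : Cfsg.inducedFunctor Cfsg.kInfUpper S =
      Cfsg.inducedFunctor Cfsg.kInfUpper (Cfsg.pCore p G) := by
    unfold Cfsg.inducedFunctor
    rw [← h79, ← he, Subgroup.map_map, Subgroup.map_map]
    congr 1
  rw [heq]
  have h1 := Cfsg.Agent.Lib.Helper12.normalizer_le_normalizer_inducedFunctor Cfsg.kInfUpper hW
    (Cfsg.pCore p G) hHp
  rw [← Subgroup.normalizer_eq_top_iff, eq_top_iff]
  refine le_trans ?_ h1
  rw [Subgroup.normalizer_eq_top]

theorem kInfUpper_normal_of_not_involves_qd_of_le (hp : p ≠ 2)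
    (hfree : ¬ Cfsg.Involves ↥(Cfsg.qd p) G)
    (hc : Subgroup.centralizer ((Cfsg.pCore p G : Subgroup G) : Set G) ≤ Cfsg.pCore p G)
    (S : Subgroup G) (hP : IsPGroup p ↥S) (hHS : Cfsg.pCore p G ≤ S) :
    (Cfsg.inducedFunctor Cfsg.kInfUpper S).Normal := by
  obtain ⟨A, hA⟩ := exists_cfg hc
  exact kInfUpper_normal_of_le hA (qStab_of_not_involves_qd hp hfree) S hP hHS

/-- Relative version: if `M ≤ G` has characteristic `p`, is `Qd(p)`-free (`p` odd), and `S ≤ M` is a `p`-subgroup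
containing `O_p(M)`, then `M` normalizes `K^∞(S)`. -/
theorem le_normalizer_kInfUpper (hp : p ≠ 2) (M S : Subgroup G)
    (hfree : ¬ Cfsg.Involves ↥(Cfsg.qd p) ↥M)
    (hc : Subgroup.centralizer (Cfsg.pCore p ↥M : Set ↥M) ≤ Cfsg.pCore p ↥M)
    (hS : IsPGroup p ↥S) (hSM : S ≤ M) (hO : (Cfsg.pCore p ↥M).map M.subtype ≤ S) :
    M ≤ Subgroup.normalizer ((Cfsg.inducedFunctor Cfsg.kInfUpper S : Subgroup G) : Set G) := by
  have hS' : IsPGroup p ↥(S.subgroupOf M) := hS.comap_subtype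
  have hO' : Cfsg.pCore p ↥M ≤ S.subgroupOf M := by
    intro x hx
    rw [Subgroup.mem_subgroupOf]
    exact hO ⟨x, hx, rfl⟩
  haveI hn := kInfUpper_normal_of_not_involves_qd_of_le hp hfree hc (S.subgroupOf M) hS' hO'
  have h1 := Cfsg.Agent.Lib.Helper17.le_normalizer_map_subtype M
    (Cfsg.inducedFunctor Cfsg.kInfUpper (S.subgroupOf M))
  have heq : (Cfsg.inducedFunctor Cfsg.kInfUpper (S.subgroupOf M)).map M.subtype =
      Cfsg.inducedFunctor Cfsg.kInfUpper S := by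
    unfold Cfsg.inducedFunctor
    have hW := isCharPFunctor_kInfUpper.{u} p
    have he := hW.2 _ _ hS' (Subgroup.subgroupOfEquivOfLe hSM)
    rw [← he, Subgroup.map_map, Subgroup.map_map]
    congr 1
  rw [heq] at h1
  exact h1

theorem inducedFunctor_kInfUpper_le (S : Subgroup G) :
    Cfsg.inducedFunctor Cfsg.kInfUpper S ≤ S := by
  unfold Cfsg.inducedFunctor
  exact Subgroup.map_subtype_le _

theorem inducedFunctor_kInfUpper_ne_bot (S : Subgroup G) (hS : IsPGroup p ↥S) (hne : S ≠ ⊥) :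
    Cfsg.inducedFunctor Cfsg.kInfUpper S ≠ ⊥ := by
  have hW := isCharPFunctor_kInfUpper.{u} p
  have hnt : Nontrivial ↥S := (Subgroup.nontrivial_iff_ne_bot S).mpr hne
  have h1 := hW.1 ↥S hS hnt
  intro hb
  apply h1
  unfold Cfsg.inducedFunctor at hb
  exact (Subgroup.map_eq_bot_iff_of_injective _ S.subtype_injective).mp hb

end main

/-- `SL₂(p)`, `p` odd, has nonabelian Sylow `2`-subgroups. -/
theorem not_abSylow_sl2 {p : ℕ} [Fact p.Prime] (hp : p ≠ 2) :
    ¬ Cfsg.Agent.Lib.Helper13.AbSylow 2 (Matrix.SpecialLinearGroup (Fin 2) (ZMod p)) := by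
  intro h
  have hodd : Odd (Fintype.card (ZMod p)) := by
    rw [ZMod.card]
    exact (Fact.out : p.Prime).odd_of_ne_two hp
  obtain ⟨k, H, hk, ⟨e⟩, hcard⟩ :=
    Cfsg.Agent.Lib.Helper2.sl2_exists_sylow_quaternion (F := ZMod p) hodd
  have hH : IsPGroup 2 ↥H := IsPGroup.of_card hcard
  have hcomm : ∀ a b : ↥H, a * b = b * a := by
    intro a b
    exact Subtype.ext (h.comm_of_isPGroup H hH a.2 b.2)
  have h1 := hcomm (e.symm (QuaternionGroup.a 1)) (e.symm (QuaternionGroup.xa 0))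
  rw [← map_mul, ← map_mul] at h1
  have h2 := e.symm.injective h1
  rw [QuaternionGroup.a_mul_xa, QuaternionGroup.xa_mul_a] at h2
  have h3 : (0 - 1 : ZMod (2 * 2 ^ k)) = 0 + 1 := by
    injection h2
  have h4 : ((2 : ℕ) : ZMod (2 * 2 ^ k)) = 0 := by
    have : (2 : ZMod (2 * 2 ^ k)) = 0 := by
      have h5 : (0 + 1 : ZMod (2 * 2 ^ k)) - (0 - 1) = 0 := by rw [h3]; ring
      have h6 : (0 + 1 : ZMod (2 * 2 ^ k)) - (0 - 1) = 2 := by ring
      rw [← h6, h5]
    exact_mod_cast this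
  rw [ZMod.natCast_eq_zero_iff] at h4
  have h5 : 2 * 2 ^ k ≤ 2 := Nat.le_of_dvd (by norm_num) h4
  have h6 : 2 ^ 1 ≤ 2 ^ k := Nat.pow_le_pow_right (by norm_num) hk
  omega

/-- abelian Sylow `2`-subgroups make a group `Qd(p)`-free for odd `p` -/
theorem not_involves_qd_of_abSylow {M : Type*} [Group M] [Finite M] {p : ℕ} [Fact p.Prime]
    (hp : p ≠ 2) (h : Cfsg.Agent.Lib.Helper13.AbSylow 2 M) : ¬ Cfsg.Involves ↥(Cfsg.qd p) M := by
  intro hinv
  have h1 := Cfsg.Agent.Lib.Helper1.SLFree.involves_sl2_of_involves_qd hinv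
  exact not_abSylow_sl2 hp (h.of_involves h1)

/-- in a group of characteristic `p` with abelian Sylow `p`-subgroups, every `p`-subgroup lies in `O_p` -/
theorem le_pCore_of_abSylow {M : Type*} [Group M] [Finite M] {p : ℕ} [Fact p.Prime]
    (h : Cfsg.Agent.Lib.Helper13.AbSylow p M)
    (hc : Subgroup.centralizer (Cfsg.pCore p M : Set M) ≤ Cfsg.pCore p M) (T : Subgroup M)
    (hT : IsPGroup p ↥T) : T ≤ Cfsg.pCore p M := by
  obtain ⟨P, hP⟩ := hT.exists_le_sylow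
  have hOP : Cfsg.pCore p M ≤ P := Cfsg.Agent.Lib.Helper16.pCore_le_sylow P
  refine hP.trans (le_trans ?_ hc)
  intro x hx
  rw [Subgroup.mem_centralizer_iff]
  intro y hy
  exact h P y (hOP hy) x hx

/-- a group of characteristic `p` with trivial `O_p` is trivial -/
theorem eq_bot_of_pCore_map_eq_bot {G : Type*} [Group G] {p : ℕ} (M : Subgroup G)
    (hc : Subgroup.centralizer (Cfsg.pCore p ↥M : Set ↥M) ≤ Cfsg.pCore p ↥M)
    (hb : (Cfsg.pCore p ↥M).map M.subtype = ⊥) : M = ⊥ := by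
  have hb' : Cfsg.pCore p ↥M = ⊥ :=
    (Subgroup.map_eq_bot_iff_of_injective _ M.subtype_injective).mp hb
  rw [eq_bot_iff]
  intro x hx
  have h1 : (⟨x, hx⟩ : ↥M) ∈ Subgroup.centralizer (Cfsg.pCore p ↥M : Set ↥M) := by
    rw [Subgroup.mem_centralizer_iff]
    intro y hy
    rw [hb'] at hy
    rw [SetLike.mem_coe, Subgroup.mem_bot] at hy
    rw [hy, one_mul, mul_one]
  have h2 := hc h1
  rw [hb', Subgroup.mem_bot] at h2
  rw [Subgroup.mem_bot]
  exact congrArg Subtype.val h2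

section pair

variable {G : Type u} [Group G] [Finite G] {p : ℕ} [Fact p.Prime]

open Cfsg.Agent.Lib.Helper17 in
/-- **No primitive pair of characteristic `p` with both members having abelian Sylow `2`-subgroups.** -/
theorem false_of_primitive_pair (M₁ M₂ : Subgroup G) (hne : M₁ ≠ M₂)
    (h12 : PrimDir M₁ M₂) (h21 : PrimDir M₂ M₁)
    (hc₁ : Subgroup.centralizer (Cfsg.pCore p ↥M₁ : Set ↥M₁) ≤ Cfsg.pCore p ↥M₁)
    (hc₂ : Subgroup.centralizer (Cfsg.pCore p ↥M₂ : Set ↥M₂) ≤ Cfsg.pCore p ↥M₂)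
    (hO : (Cfsg.pCore p ↥M₁).map M₁.subtype ⊔ (Cfsg.pCore p ↥M₂).map M₂.subtype ≤ M₁ ⊓ M₂)
    (ha₁ : Cfsg.Agent.Lib.Helper13.AbSylow 2 ↥M₁) (ha₂ : Cfsg.Agent.Lib.Helper13.AbSylow 2 ↥M₂) :
    False := by
  have hQ₁p : IsPGroup p ↥((Cfsg.pCore p ↥M₁).map M₁.subtype) :=
    (Cfsg.Agent.Lib.Helper17.pCore_isPGroup p ↥M₁).map _
  have hQ₂p : IsPGroup p ↥((Cfsg.pCore p ↥M₂).map M₂.subtype) :=
    (Cfsg.Agent.Lib.Helper17.pCore_isPGroup p ↥M₂).map _
  have hQ₁D : (Cfsg.pCore p ↥M₁).map M₁.subtype ≤ M₁ ⊓ M₂ := le_sup_left.trans hO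
  have hQ₂D : (Cfsg.pCore p ↥M₂).map M₂.subtype ≤ M₁ ⊓ M₂ := le_sup_right.trans hO
  haveI := Cfsg.Agent.Lib.Helper17.pCore_normal p ↥M₁
  haveI := Cfsg.Agent.Lib.Helper17.pCore_normal p ↥M₂
  have hN₁ : M₁ ≤ Subgroup.normalizer (((Cfsg.pCore p ↥M₁).map M₁.subtype : Subgroup G) : Set G) :=
    le_normalizer_map_subtype M₁ _
  have hN₂ : M₂ ≤ Subgroup.normalizer (((Cfsg.pCore p ↥M₂).map M₂.subtype : Subgroup G) : Set G) :=
    le_normalizer_map_subtype M₂ _
  by_cases hp : p = 2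
  · subst hp
    have key : ∀ (M : Subgroup G), Cfsg.Agent.Lib.Helper13.AbSylow 2 ↥M →
        Subgroup.centralizer (Cfsg.pCore 2 ↥M : Set ↥M) ≤ Cfsg.pCore 2 ↥M →
        ∀ Q : Subgroup G, IsPGroup 2 ↥Q → Q ≤ M → Q ≤ (Cfsg.pCore 2 ↥M).map M.subtype := by
      intro M ha hc Q hQ hQM
      have h1 := le_pCore_of_abSylow ha hc (Q.subgroupOf M) hQ.comap_subtype
      intro x hx
      have hx1 : x ∈ M := hQM hx
      have h2 : (⟨x, hx1⟩ : ↥M) ∈ Q.subgroupOf M := by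
        rw [Subgroup.mem_subgroupOf]; exact hx
      exact ⟨⟨x, hx1⟩, h1 h2, rfl⟩
    have h21' := key M₁ ha₁ hc₁ _ hQ₂p (hQ₂D.trans inf_le_left)
    have h12' := key M₂ ha₂ hc₂ _ hQ₁p (hQ₁D.trans inf_le_right)
    have heq : (Cfsg.pCore 2 ↥M₁).map M₁.subtype = (Cfsg.pCore 2 ↥M₂).map M₂.subtype :=
      le_antisymm h12' h21'
    by_cases hb : (Cfsg.pCore 2 ↥M₁).map M₁.subtype = ⊥
    · have hb2 : (Cfsg.pCore 2 ↥M₂).map M₂.subtype = ⊥ := by rw [← heq]; exact hb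
      exact hne ((eq_bot_of_pCore_map_eq_bot M₁ hc₁ hb).trans
        (eq_bot_of_pCore_map_eq_bot M₂ hc₂ hb2).symm)
    · refine false_of_common_normal h12 h21 hne hb hQ₁D hN₁ ?_
      rw [heq]; exact hN₂
  · have hSp : IsPGroup p ↥((Cfsg.pCore p ↥M₁).map M₁.subtype ⊔ (Cfsg.pCore p ↥M₂).map M₂.subtype) :=
      IsPGroup.to_sup_of_normal_right' hQ₁p hQ₂p (hQ₁D.trans (inf_le_right.trans hN₂))
    have hW₁ := le_normalizer_kInfUpper hp M₁ _ (not_involves_qd_of_abSylow hp ha₁) hc₁ hSp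
      (hO.trans inf_le_left) le_sup_left
    have hW₂ := le_normalizer_kInfUpper hp M₂ _ (not_involves_qd_of_abSylow hp ha₂) hc₂ hSp
      (hO.trans inf_le_right) le_sup_right
    by_cases hb : (Cfsg.pCore p ↥M₁).map M₁.subtype ⊔ (Cfsg.pCore p ↥M₂).map M₂.subtype = ⊥
    · have hb1 : (Cfsg.pCore p ↥M₁).map M₁.subtype = ⊥ := by
        rw [eq_bot_iff, ← hb]; exact le_sup_left
      have hb2 : (Cfsg.pCore p ↥M₂).map M₂.subtype = ⊥ := by
        rw [eq_bot_iff, ← hb]; exact le_sup_right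
      exact hne ((eq_bot_of_pCore_map_eq_bot M₁ hc₁ hb1).trans
        (eq_bot_of_pCore_map_eq_bot M₂ hc₂ hb2).symm)
    · exact false_of_common_normal h12 h21 hne (inducedFunctor_kInfUpper_ne_bot _ hSp hb)
        ((inducedFunctor_kInfUpper_le _).trans hO) hW₁ hW₂

end pair

end Cfsg.Agent.Lib.Helper27.PrimPairK
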