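import Cfsg.Agent.Lib.Helper27.QdNatural
import Cfsg.Agent.Lib.Helper27.SectionLift
import Cfsg.Agent.Lib.Helper27.FMNorm

/-!
helper27: a subgroup `Y` of a finite group that normalizes a subgroup `W ≤ Y` and acts on a quotient
`W / W₀ ≅ (ZMod p)²` as the full `SL₂(p)` involves `Qd(p)` (`p` odd).
-/

set_option autoImplicit false
set_option linter.unusedSectionVars false
set_option linter.unusedVariables false
set_option linter.style.haveILetI false

namespace Cfsg.Agent.Lib.Helper27.QdAction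

open Matrix Cfsg.Agent.Lib.Helper27.QdNatural Cfsg.Agent.Lib.Helper27.FM

universe u

variable {p : ℕ} [hpF : Fact p.Prime]

theorem vecAut_injective' {A B : SpecialLinearGroup (Fin 2) (ZMod p)}
    (h : ∀ v : Vec p, vecAut A v = vecAut B v) : A = B := by
  apply Subtype.ext
  rw [Matrix.ext_iff_mulVec]
  intro v
  have := h (Multiplicative.ofAdd v)
  rw [vecAut_apply, vecAut_apply] at this
  exact Multiplicative.ofAdd.injective this

variable {G : Type u} [Group G]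

theorem involves_qd_of_action [Finite G] (hp : p ≠ 2) (Y W : Subgroup G) (hWY : W ≤ Y)
    (π : ↥W →* Vec p) (hπ : Function.Surjective π)
    (hact : ∀ y ∈ Y, ∃ A : SpecialLinearGroup (Fin 2) (ZMod p), ∀ w ∈ W,
      y * w * y⁻¹ ∈ W ∧ ext1 π (y * w * y⁻¹) = vecAut A (ext1 π w))
    (hsurj : ∀ A : SpecialLinearGroup (Fin 2) (ZMod p), ∃ y ∈ Y, ∀ w ∈ W,
      ext1 π (y * w * y⁻¹) = vecAut A (ext1 π w)) :
    Cfsg.Involves ↥(Cfsg.qd p) ↥Y := by
  classical
  -- uniqueness of the matrix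
  have huniq : ∀ (y : G) (A B : SpecialLinearGroup (Fin 2) (ZMod p)),
      (∀ w ∈ W, ext1 π (y * w * y⁻¹) = vecAut A (ext1 π w)) →
      (∀ w ∈ W, ext1 π (y * w * y⁻¹) = vecAut B (ext1 π w)) → A = B := by
    intro y A B hA hB
    apply vecAut_injective'
    intro v
    obtain ⟨w, rfl⟩ := hπ v
    rw [← ext1_coe π w, ← hA w w.2, ← hB w w.2]
  let ρf : ↥Y → SpecialLinearGroup (Fin 2) (ZMod p) := fun y => (hact y y.2).choose
  have hρf : ∀ (y : ↥Y), ∀ w ∈ W, (y : G) * w * (y : G)⁻¹ ∈ W ∧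
      ext1 π ((y : G) * w * (y : G)⁻¹) = vecAut (ρf y) (ext1 π w) := fun y => (hact y y.2).choose_spec
  have hρf_eq : ∀ (y : ↥Y) (A : SpecialLinearGroup (Fin 2) (ZMod p)),
      (∀ w ∈ W, ext1 π ((y : G) * w * (y : G)⁻¹) = vecAut A (ext1 π w)) → ρf y = A := by
    intro y A hA
    exact huniq y _ _ (fun w hw => (hρf y w hw).2) hA
  let ρ : ↥Y →* SpecialLinearGroup (Fin 2) (ZMod p) := MonoidHom.mk' ρf (by
    intro y₁ y₂
    apply hρf_eq
    intro w hw
    obtain ⟨h2m, h2⟩ := hρf y₂ w hw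
    obtain ⟨h1m, h1⟩ := hρf y₁ _ h2m
    have e : ((y₁ * y₂ : ↥Y) : G) * w * ((y₁ * y₂ : ↥Y) : G)⁻¹ =
        (y₁ : G) * ((y₂ : G) * w * (y₂ : G)⁻¹) * (y₁ : G)⁻¹ := by
      rw [Subgroup.coe_mul]; group
    rw [e, h1, h2, map_mul]
    rfl)
  have hρ_apply : ∀ y : ↥Y, ρ y = ρf y := fun _ => rfl
  have hρ_surj : Function.Surjective ρ := by
    intro A
    obtain ⟨y, hy, hA⟩ := hsurj A
    exact ⟨⟨y, hy⟩, hρf_eq ⟨y, hy⟩ A hA⟩
  -- action of `Y` on `W` through `π`
  have hπconj : ∀ (y : ↥Y) (w : ↥W), ∃ hm : (y : G) * w * (y : G)⁻¹ ∈ W,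
      π ⟨(y : G) * w * (y : G)⁻¹, hm⟩ = vecAut (ρ y) (π w) := by
    intro y w
    obtain ⟨hm, h⟩ := hρf y w w.2
    refine ⟨hm, ?_⟩
    rw [ext1_apply π hm, ext1_coe] at h
    exact h
  set incl : ↥W →* ↥Y := Subgroup.inclusion hWY with hincl
  have hincl_inj : Function.Injective incl := Subgroup.inclusion_injective hWY
  -- `ρ` is trivial on `W`
  have hρW : ∀ w : ↥W, ρ (incl w) = 1 := by
    intro w
    apply hρf_eq
    intro w' hw'
    have e : ((incl w : ↥Y) : G) = (w : G) := rfl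
    rw [e, ext1_conj π w.2 hw', map_one, MulAut.one_apply]
    rw [mul_comm (ext1 π (w : G)), mul_inv_cancel_right]
  set K : Subgroup ↥Y := (π.ker).map incl with hK
  have hKmem : ∀ k : ↥Y, k ∈ K ↔ ∃ w : ↥W, π w = 1 ∧ incl w = k := by
    intro k
    rw [hK, Subgroup.mem_map]
    constructor
    · rintro ⟨w, hw, rfl⟩
      exact ⟨w, MonoidHom.mem_ker.mp hw, rfl⟩
    · rintro ⟨w, hw, rfl⟩
      exact ⟨w, MonoidHom.mem_ker.mpr hw, rfl⟩
  haveI hKn : K.Normal := by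
    refine ⟨fun k hk y => ?_⟩
    obtain ⟨w, hw, rfl⟩ := (hKmem k).mp hk
    obtain ⟨hm, h⟩ := hπconj y w
    rw [hKmem]
    refine ⟨⟨(y : G) * w * (y : G)⁻¹, hm⟩, ?_, ?_⟩
    · rw [h, hw, map_one]
    · apply Subtype.ext
      rfl
  have hKρ : K ≤ ρ.ker := by
    intro k hk
    obtain ⟨w, hw, rfl⟩ := (hKmem k).mp hk
    exact MonoidHom.mem_ker.mpr (hρW w)
  let fbar : (↥Y ⧸ K) →* SpecialLinearGroup (Fin 2) (ZMod p) := QuotientGroup.lift K ρ hKρ
  have hfbar : ∀ y : ↥Y, fbar (QuotientGroup.mk y) = ρ y := fun y => rfl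
  have hfbar_surj : Function.Surjective fbar := by
    intro A
    obtain ⟨y, hy⟩ := hρ_surj A
    exact ⟨QuotientGroup.mk y, hy⟩
  let e : (↥W ⧸ π.ker) ≃* Vec p := QuotientGroup.quotientKerEquivOfSurjective π hπ
  have he : ∀ w : ↥W, e (QuotientGroup.mk w) = π w := fun w => rfl
  have hle : π.ker ≤ K.comap incl := by
    intro w hw
    exact Subgroup.mem_map_of_mem incl hw
  let ι : Vec p →* (↥Y ⧸ K) := (QuotientGroup.map (π.ker) K incl hle).comp e.symm.toMonoidHom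
  have hι : ∀ w : ↥W, ι (π w) = QuotientGroup.mk (incl w) := by
    intro w
    have h1 : e.symm (π w) = QuotientGroup.mk w := by
      rw [MulEquiv.symm_apply_eq, he]
    show (QuotientGroup.map (π.ker) K incl hle) (e.symm (π w)) = _
    rw [h1]
    rfl
  have hι_inj : Function.Injective ι := by
    rw [injective_iff_map_eq_one]
    intro v hv
    obtain ⟨w, rfl⟩ := hπ v
    rw [hι, QuotientGroup.eq_one_iff, hKmem] at hv
    obtain ⟨w', hw', hww⟩ := hv
    rw [← hincl_inj hww, hw']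
  have hconj : ∀ (x : ↥Y ⧸ K) (v : Vec p), x * ι v * x⁻¹ = ι (vecAut (fbar x) v) := by
    intro x v
    obtain ⟨y, rfl⟩ := QuotientGroup.mk_surjective x
    obtain ⟨w, rfl⟩ := hπ v
    obtain ⟨hm, h⟩ := hπconj y w
    rw [hfbar, ← h, hι, hι]
    rfl
  haveI : Finite (↥Y ⧸ K) := inferInstance
  have hinv := involves_qd_of_natural hp fbar hfbar_surj ι hι_inj hconj
  exact Cfsg.Agent.Lib.Helper27.SectionLift.involves_of_surjective (QuotientGroup.mk' K)
    (QuotientGroup.mk'_surjective K) hinv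

end Cfsg.Agent.Lib.Helper27.QdAction
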