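import Mathlib
import Cfsg.Prelude.Def_LocalEven
import Cfsg.Agent.Lib.Helper17.GTClosed
import Cfsg.Agent.Lib.Helper17.FusionClosed
import Cfsg.Agent.Lib.Helper27.H12.FamilyFusionSections
import Cfsg.Agent.Lib.Helper27.H12.FusionConvert
import Cfsg.Agent.Lib.Helper29.QdTheoremQ
import Cfsg.Agent.Lib.Helper27.ZJFun
import Cfsg.Agent.Lib.Helper27.Involves
import Cfsg.Agent.S0653

/-!
# Control of strong fusion by `N_G(W(D))`, `D` strongly closed, in `Qd(p)`-free groups (helper27)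

Glauberman's local-to-global induction, carried out for a fixed strongly closed subgroup `D` of a
Sylow `p`-subgroup of a `Qd(p)`-free group (`p` odd): `N_G(W(D))` controls strong fusion, for
`W = Z(J)` (abelian version) and `W = Ω₁ Z(J_e)`.
-/

set_option autoImplicit false
set_option linter.style.haveILetI false
set_option linter.unusedSectionVars false

namespace Cfsg.Agent.Lib.Helper27.QdClosed

open Cfsg.Agent.Lib.Helper12 Cfsg.Agent.Lib.Helper17 Cfsg.Agent.Lib.Helper27 Cfsg.Agent.Lib.Helper27.H12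

universe u

section ctl

variable {G : Type*} [Group G]

/-- conjugation by `x` on `A` is induced by an element of `N` -/
def Ctl (N : Subgroup G) (A : Set G) (x : G) : Prop :=
  ∃ n ∈ N, ∀ a ∈ A, n * a * n⁻¹ = x * a * x⁻¹

theorem Ctl.one (N : Subgroup G) (A : Set G) : Ctl N A 1 := ⟨1, N.one_mem, fun _ _ => rfl⟩

theorem Ctl.of_mem {N : Subgroup G} {x : G} (hx : x ∈ N) (A : Set G) : Ctl N A x :=
  ⟨x, hx, fun _ _ => rfl⟩

theorem Ctl.mono {N : Subgroup G} {A B : Set G} {x : G} (h : Ctl N A x) (hBA : B ⊆ A) :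
    Ctl N B x := by
  obtain ⟨n, hn, hna⟩ := h
  exact ⟨n, hn, fun a ha => hna a (hBA ha)⟩

theorem Ctl.congr {N : Subgroup G} {A : Set G} {x y : G} (h : Ctl N A x)
    (hxy : ∀ a ∈ A, y * a * y⁻¹ = x * a * x⁻¹) : Ctl N A y := by
  obtain ⟨n, hn, hna⟩ := h
  exact ⟨n, hn, fun a ha => (hna a ha).trans (hxy a ha).symm⟩

theorem Ctl.trans {N : Subgroup G} {A : Set G} {x y : G} (h₁ : Ctl N A x)
    (h₂ : Ctl N (lcj x A) y) : Ctl N A (y * x) := by
  obtain ⟨n, hn, hna⟩ := h₁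
  obtain ⟨m, hm, hma⟩ := h₂
  refine ⟨m * n, N.mul_mem hm hn, fun a ha => ?_⟩
  have h1 := hma (x * a * x⁻¹) (mem_lcj_of_mem ha)
  calc m * n * a * (m * n)⁻¹ = m * (n * a * n⁻¹) * m⁻¹ := by group
    _ = m * (x * a * x⁻¹) * m⁻¹ := by rw [hna a ha]
    _ = y * (x * a * x⁻¹) * y⁻¹ := h1
    _ = y * x * a * (y * x)⁻¹ := by group

/-- along a chain of subgroups containing the normal subgroup `P₀`, conjugation is controlled,
provided each member containing `P₀` satisfies the local claim -/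
theorem ctl_of_chain (N P₀ : Subgroup G) [hPn : P₀.Normal] (𝓕 : Set (Subgroup G))
    (hclaim : ∀ T ∈ 𝓕, P₀ ≤ T → ∀ x ∈ Subgroup.normalizer ((T : Subgroup G) : Set G),
      Ctl N (T : Set G) x) (l : List (Subgroup G × G)) :
    ∀ A : Set G, (P₀ : Set G) ⊆ A → Chain 𝓕 A l → Ctl N A (prodOf l)⁻¹ := by
  induction l with
  | nil =>
    intro A _ _
    rw [prodOf_nil, inv_one]
    exact Ctl.one N A
  | cons q l ih =>
    obtain ⟨T, x⟩ := q
    rintro A hPA ⟨hT, hx, hA, hl⟩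
    have h1 : Ctl N (T : Set G) x⁻¹ := hclaim T hT (hPA.trans hA) x⁻¹ (inv_mem hx)
    have h1' : Ctl N A x⁻¹ := h1.mono hA
    rw [cjs_eq_lcj] at hl
    have hPA' : (P₀ : Set G) ⊆ lcj x⁻¹ A := by
      intro y hy
      rw [mem_lcj]
      apply hPA
      have := hPn.conj_mem y hy x⁻¹⁻¹
      simpa using this
    have h2 := ih _ hPA' hl
    rw [prodOf_cons, mul_inv_rev]
    exact h1'.trans h2

end ctl

section zj

variable {p : ℕ} [hpF : Fact p.Prime]

/-- sections of `Qd(p)`-free groups are `Qd(p)`-free -/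
theorem not_involves_section {G : Type u} [Group G] (hfree : ¬ Cfsg.Involves ↥(Cfsg.qd p) G)
    (K R : Subgroup G) [hR : (R.subgroupOf K).Normal] :
    ¬ Cfsg.Involves ↥(Cfsg.qd p) (↥K ⧸ R.subgroupOf K) := by
  intro h
  apply hfree
  have h1 : Cfsg.Involves ↥(Cfsg.qd p) ↥K :=
    Cfsg.Agent.Lib.Helper8.ThTwo.involves_of_quotient (R.subgroupOf K) h
  exact Cfsg.Agent.Lib.Helper27.involves_of_injective K.subtype K.subtype_injective h1

/-- **`N_X(Z(J(T)))` controls strong fusion in a `Qd(p)`-free group `X`**, for every Sylow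
`p`-subgroup `T`. -/
theorem zj_ctl (hp : p ≠ 2) (X : Type u) [Group X] [Finite X]
    (hfree : ¬ Cfsg.Involves ↥(Cfsg.qd p) X) (T : Sylow p X) (A : Set X) (x : X)
    (hA : A ⊆ (T : Subgroup X)) (hAx : lcj x A ⊆ (T : Subgroup X)) :
    Ctl (Subgroup.normalizer ((Cfsg.centerThompsonAOf (T : Subgroup X) : Subgroup X) : Set X))
      A x := by
  classical
  set W : ∀ (Q : Type u) [Group Q], Subgroup Q :=
    fun (Q : Type u) [Group Q] => Cfsg.Agent.Lib.Helper27.ZJFun.zjA Q with hWdef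
  have hW : Cfsg.IsCharPFunctor.{u} p W := Cfsg.Agent.Lib.Helper27.ZJFun.isCharPFunctor_zjA p
  set 𝓦 : Set (∀ (Q : Type u) [Group Q], Subgroup Q) := {W} with h𝓦def
  have h𝓦 : ∀ W' ∈ 𝓦, Cfsg.IsCharPFunctor.{u} p W' := by
    intro W' hW'
    have : W' = W := hW'
    rw [this]
    exact hW
  have hgood : AllSections (fun Q _ => Finite Q → FamFusHyp p 𝓦 Q) X := by
    intro K' R' _ _ hC
    obtain ⟨T'⟩ : Nonempty (Sylow p (↥K' ⧸ R'.subgroupOf K')) := inferInstance
    apply familyControlsStrongFusionIn_top_of_fctl _ T'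
    intro A x hA hAx
    have hfree' := not_involves_section hfree K' R'
    have hn : (Cfsg.inducedFunctor (G := (↥K' ⧸ R'.subgroupOf K')) W
        (T' : Subgroup (↥K' ⧸ R'.subgroupOf K'))).Normal := by
      rw [hWdef, Cfsg.Agent.Lib.Helper27.ZJFun.inducedFunctor_zjA]
      haveI := Cfsg.Agent.S0653.result hp hC (fun P _ hP =>
        Cfsg.Agent.Lib.Helper29.Qd.isPStableOn_of_not_involves_qd_pGroup hp hfree' P hP) T'
      exact Subgroup.normal_of_characteristic _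
    refine FCtl.single (Cfsg.inducedFunctor W) ⟨W, rfl, rfl⟩
      (Subgroup.mem_inf.mpr ⟨Subgroup.mem_top _, ?_⟩) hA hAx
    rw [Subgroup.normalizer_eq_top_iff.mpr hn]
    trivial
  have hmain := familyControlsStrongFusionIn_top_of_famFusHyp 𝓦 h𝓦 _ X rfl hgood
  have hfam := isConjugacyFunctor_inducedFamily 𝓦 h𝓦 X
  have hidx : ¬ p ∣ (T : Subgroup X).relIndex ⊤ := by
    rw [Subgroup.relIndex_top_right]; exact T.not_dvd_index
  obtain ⟨c, hc, hag⟩ := familyControlsStrongFusionIn_sylow _ hfam hmain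
    le_top T.2 hidx A x (Subgroup.mem_top _) hA hAx
  refine ⟨c, FReach.mem_of_normalizer_le hc _ ?_, hag⟩
  intro W'' hW''
  obtain ⟨W', hW', hWW⟩ := hW''
  have e : W' = W := hW'
  rw [← hWW, e, hWdef]
  show ⊤ ⊓ Subgroup.normalizer ((Cfsg.inducedFunctor
    (fun (Q : Type u) [Group Q] => Cfsg.Agent.Lib.Helper27.ZJFun.zjA Q) (T : Subgroup X) :
      Subgroup X) : Set X) ≤ _
  rw [Cfsg.Agent.Lib.Helper27.ZJFun.inducedFunctor_zjA]
  exact inf_le_right

end zj

section steps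

variable {p : ℕ} [hpF : Fact p.Prime] (𝔛 : ∀ (Y : Type u) [Group Y], Subgroup Y → Prop)

/-- the statement proved by induction on the order of the group -/
def Stmt (p : ℕ) [Fact p.Prime] (𝔛 : ∀ (Y : Type u) [Group Y], Subgroup Y → Prop)
    (G : Type u) [Group G] : Prop :=
  ∀ (P : Sylow p G) (D : Subgroup G), Cfsg.IsStronglyClosed D (P : Subgroup G) →
    ∀ (A : Set G) (x : G), A ⊆ (P : Subgroup G) → lcj x A ⊆ (P : Subgroup G) →
      Ctl (Subgroup.normalizer ((wSub (𝔛 G) D : Subgroup G) : Set G)) A x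

/-- control inside a subgroup containing the Sylow subgroup gives control in the group -/
theorem ctl_of_subgroup (h𝔛 : GoodFamily.{u} p 𝔛) {G : Type u} [Group G] [Finite G]
    (P : Sylow p G) (D : Subgroup G) (hD : Cfsg.IsStronglyClosed D (P : Subgroup G))
    (H : Subgroup G) (hPH : (P : Subgroup G) ≤ H) (hH : Stmt p 𝔛 ↥H)
    (B : Set G) (x : G) (hx : x ∈ H) (hB : B ⊆ (P : Subgroup G))
    (hBx : lcj x B ⊆ (P : Subgroup G)) :
    Ctl (Subgroup.normalizer ((wSub (𝔛 G) D : Subgroup G) : Set G)) B x := by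
  obtain ⟨P', hP'⟩ := Cfsg.Agent.Lib.Helper16.exists_sylow_of_relIndex (P : Subgroup G) H P.2
    (sylow_not_dvd_relIndex P H hPH)
  have hD' : Cfsg.IsStronglyClosed (D.subgroupOf H) (P' : Subgroup ↥H) := by
    rw [hP']; exact stronglyClosed_subgroupOf hD H
  have hB' : {y : ↥H | (y : G) ∈ B} ⊆ ((P' : Subgroup ↥H) : Set ↥H) := by
    intro y hy
    rw [hP']
    exact Subgroup.mem_subgroupOf.mpr (hB hy)
  have hBx' : lcj (⟨x, hx⟩ : ↥H) {y : ↥H | (y : G) ∈ B} ⊆ ((P' : Subgroup ↥H) : Set ↥H) := by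
    rintro _ ⟨y, hy, rfl⟩
    rw [hP']
    apply Subgroup.mem_subgroupOf.mpr
    exact hBx ⟨(y : G), hy, rfl⟩
  obtain ⟨n, hn, hna⟩ := hH P' (D.subgroupOf H) hD' _ ⟨x, hx⟩ hB' hBx'
  refine ⟨(n : G), ?_, ?_⟩
  · rw [← wSub_subgroupOf_map 𝔛 h𝔛 H D (hD.1.trans hPH)]
    exact Subgroup.le_normalizer_map H.subtype ⟨n, hn, rfl⟩
  · intro a ha
    have h1 := hna ⟨a, hPH (hB ha)⟩ ha
    have h2 := congrArg Subtype.val h1
    simpa using h2

/-- control lifts from the quotient by a normal `p'`-subgroup -/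
theorem stmt_of_coprime_quotient (h𝔛 : GoodFamily.{u} p 𝔛) {G : Type u} [Group G] [Finite G]
    (K : Subgroup G) [hKn : K.Normal] (hK : (Nat.card K).Coprime p)
    (hq : Stmt p 𝔛 (G ⧸ K)) : Stmt p 𝔛 G := by
  intro P D hD A x hA hAx
  set π := QuotientGroup.mk' K with hπ
  have hπs : Function.Surjective π := QuotientGroup.mk'_surjective K
  set W := wSub (𝔛 G) D with hW
  have hDp : IsPGroup p D := P.2.to_le hD.1
  have hWD : W ≤ D := wSub_le D
  have hWp : IsPGroup p W := hDp.to_le hWD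
  have hPN : (P : Subgroup G) ≤ Subgroup.normalizer (W : Set G) :=
    (stronglyClosed_le_normalizer hD).trans (normalizer_le_normalizer_wSub (h𝔛.good G) _)
  have hPK : (P : Subgroup G) ⊓ K = ⊥ := by
    apply Subgroup.inf_eq_bot_of_coprime
    obtain ⟨k, hk⟩ := IsPGroup.iff_card.mp P.2
    rw [hk]
    exact Nat.Coprime.pow_left k hK.symm
  have hinjP : ∀ u ∈ (P : Subgroup G), ∀ v ∈ (P : Subgroup G), π u = π v → u = v := by
    intro u hu v hv huv
    have h1 : u⁻¹ * v ∈ K := QuotientGroup.eq.mp huv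
    have h2 : u⁻¹ * v ∈ (P : Subgroup G) ⊓ K :=
      ⟨(P : Subgroup G).mul_mem ((P : Subgroup G).inv_mem hu) hv, h1⟩
    rw [hPK, Subgroup.mem_bot] at h2
    exact inv_mul_eq_one.mp h2
  have hinjD : ∀ d ∈ D, π d = 1 → d = 1 := by
    intro d hd hd1
    have := hinjP d (hD.1 hd) 1 (Subgroup.one_mem _) (by rw [hd1, map_one])
    exact this
  -- the quotient data
  have hDb : Cfsg.IsStronglyClosed (D.map π) ((P.mapSurjective hπs : Sylow p (G ⧸ K)) :
      Subgroup (G ⧸ K)) := stronglyClosed_map_mk P hD K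
  have hAb : π '' A ⊆ (((P.mapSurjective hπs : Sylow p (G ⧸ K)) : Subgroup (G ⧸ K)) :
      Set (G ⧸ K)) := by
    rintro _ ⟨a, ha, rfl⟩
    exact ⟨a, hA ha, rfl⟩
  have hAxb : lcj (π x) (π '' A) ⊆ (((P.mapSurjective hπs : Sylow p (G ⧸ K)) :
      Subgroup (G ⧸ K)) : Set (G ⧸ K)) := by
    rw [lcj_image_hom]
    rintro _ ⟨a, ha, rfl⟩
    exact ⟨a, hAx ha, rfl⟩
  obtain ⟨nb, hnb, hnba⟩ := hq (P.mapSurjective hπs) (D.map π) hDb (π '' A) (π x) hAb hAxb
  have hWmap : wSub (𝔛 (G ⧸ K)) (D.map π) = W.map π :=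
    wSub_map_of_injOn (𝔛 G) (𝔛 (G ⧸ K)) π D hinjD
      (fun B hB => h𝔛.map G (G ⧸ K) π D hinjD B hB)
  rw [hWmap] at hnb
  obtain ⟨y', rfl⟩ := hπs nb
  -- step a: adjust `y'` by an element of `K` to normalize `W`
  obtain ⟨y₀, hy₀N, hy₀⟩ : ∃ y₀ ∈ Subgroup.normalizer (W : Set G), π y₀ = π y' := by
    set W' : Subgroup G := cj y' W with hW'
    have hW'p : IsPGroup p W' := hWp.map _
    have hW'le : W' ≤ W ⊔ K := by
      rintro _ ⟨w, hw, rfl⟩
      have h1 : π (y' * w * y'⁻¹) ∈ W.map π := by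
        have := (Subgroup.mem_normalizer_iff.mp hnb (π w)).mp ⟨w, hw, rfl⟩
        simpa using this
      obtain ⟨w₁, hw₁, hw₁e⟩ := h1
      have h2 : w₁⁻¹ * (y' * w * y'⁻¹) ∈ K := QuotientGroup.eq.mp hw₁e
      have e : (MulAut.conj y').toMonoidHom w = w₁ * (w₁⁻¹ * (y' * w * y'⁻¹)) := by
        show y' * w * y'⁻¹ = _
        group
      rw [e]
      exact Subgroup.mul_mem _ (Subgroup.mem_sup_left hw₁) (Subgroup.mem_sup_right h2)
    obtain ⟨h, hh, hhW⟩ := exists_conj_mem_of_relIndex W (W ⊔ K) W' hWp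
      (not_dvd_relIndex_sup W K hK) hW'le hW'p
    obtain ⟨w, hw, k, hk, rfl⟩ := Subgroup.mem_sup_of_normal_right.mp hh
    refine ⟨k * y', ?_, ?_⟩
    · apply Subgroup.mem_normalizer_fintype
      intro v hv
      have h1 : y' * v * y'⁻¹ ∈ W' := ⟨v, hv, rfl⟩
      have h2 := hhW _ h1
      have e : k * y' * v * (k * y')⁻¹ = w⁻¹ * (w * k * (y' * v * y'⁻¹) * (w * k)⁻¹) * w := by
        group
      rw [e]
      exact W.mul_mem (W.mul_mem (W.inv_mem hw) h2) hw
    · rw [map_mul]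
      have : π k = 1 := (QuotientGroup.eq_one_iff k).mpr hk
      rw [this, one_mul]
  -- the equation on the closure of `A`
  set B : Subgroup G := Subgroup.closure A with hB
  have hBP : B ≤ (P : Subgroup G) := (Subgroup.closure_le _).mpr hA
  have hBx : ∀ b ∈ B, x * b * x⁻¹ ∈ (P : Subgroup G) := by
    have : cj x B ≤ (P : Subgroup G) := by
      rw [cj_def, hB, MonoidHom.map_closure, Subgroup.closure_le]
      rintro _ ⟨a, ha, rfl⟩
      exact hAx ⟨a, ha, rfl⟩
    intro b hb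
    exact this ⟨b, hb, rfl⟩
  have heqB : ∀ b ∈ B, π (y₀ * b * y₀⁻¹) = π (x * b * x⁻¹) := by
    intro b hb
    induction hb using Subgroup.closure_induction with
    | mem a ha =>
      have := hnba (π a) ⟨a, ha, rfl⟩
      rw [map_mul, map_mul, map_inv, hy₀, map_mul, map_mul, map_inv]
      exact this
    | one => simp
    | mul a b _ _ iha ihb =>
      have e1 : y₀ * (a * b) * y₀⁻¹ = (y₀ * a * y₀⁻¹) * (y₀ * b * y₀⁻¹) := by group
      have e2 : x * (a * b) * x⁻¹ = (x * a * x⁻¹) * (x * b * x⁻¹) := by group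
      rw [e1, e2, map_mul π (y₀ * a * y₀⁻¹), map_mul π (x * a * x⁻¹), iha, ihb]
    | inv a _ iha =>
      have e1 : y₀ * a⁻¹ * y₀⁻¹ = (y₀ * a * y₀⁻¹)⁻¹ := by group
      have e2 : x * a⁻¹ * x⁻¹ = (x * a * x⁻¹)⁻¹ := by group
      rw [e1, e2, map_inv, map_inv, iha]
  -- step b: adjust by an element of `K ∩ N(W)` to move `y₀ B y₀⁻¹` into `P`
  set Y : Subgroup G := Subgroup.normalizer (W : Set G) ⊓ ((P : Subgroup G) ⊔ K) with hY
  have hPY : (P : Subgroup G) ≤ Y := le_inf hPN le_sup_left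
  set B₁ : Subgroup G := cj y₀ B with hB₁
  have hB₁p : IsPGroup p B₁ := (P.2.to_le hBP).map _
  have hB₁Y : B₁ ≤ Y := by
    rintro _ ⟨b, hb, rfl⟩
    refine ⟨?_, ?_⟩
    · exact Subgroup.mul_mem _ (Subgroup.mul_mem _ hy₀N (hPN (hBP hb))) (Subgroup.inv_mem _ hy₀N)
    · have h1 := heqB b hb
      have h2 : (x * b * x⁻¹)⁻¹ * (y₀ * b * y₀⁻¹) ∈ K := QuotientGroup.eq.mp h1.symm
      have e : (MulAut.conj y₀).toMonoidHom b =
          (x * b * x⁻¹) * ((x * b * x⁻¹)⁻¹ * (y₀ * b * y₀⁻¹)) := by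
        show y₀ * b * y₀⁻¹ = _
        group
      rw [e]
      exact Subgroup.mul_mem _ (Subgroup.mem_sup_left (hBx b hb)) (Subgroup.mem_sup_right h2)
  obtain ⟨g, hgY, hg⟩ := exists_conj_mem_of_relIndex (P : Subgroup G) Y B₁ P.2
    (sylow_not_dvd_relIndex P Y hPY) hB₁Y hB₁p
  obtain ⟨s, hs, k, hk, hsk⟩ := Subgroup.mem_sup_of_normal_right.mp (Subgroup.mem_inf.mp hgY).2
  have hkN : k ∈ Subgroup.normalizer (W : Set G) := by
    have e : k = s⁻¹ * g := by rw [← hsk]; group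
    rw [e]
    exact Subgroup.mul_mem _ (Subgroup.inv_mem _ (hPN hs)) (Subgroup.mem_inf.mp hgY).1
  have hkB : ∀ b ∈ B, k * (y₀ * b * y₀⁻¹) * k⁻¹ ∈ (P : Subgroup G) := by
    intro b hb
    have h1 := hg (y₀ * b * y₀⁻¹) ⟨b, hb, rfl⟩
    have e : k * (y₀ * b * y₀⁻¹) * k⁻¹ = s⁻¹ * (g * (y₀ * b * y₀⁻¹) * g⁻¹) * s := by
      rw [← hsk]; group
    rw [e]
    exact (P : Subgroup G).mul_mem ((P : Subgroup G).mul_mem ((P : Subgroup G).inv_mem hs) h1) hs
  refine ⟨k * y₀, Subgroup.mul_mem _ hkN hy₀N, fun a ha => ?_⟩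
  have haB : a ∈ B := Subgroup.subset_closure ha
  have e : k * y₀ * a * (k * y₀)⁻¹ = k * (y₀ * a * y₀⁻¹) * k⁻¹ := by group
  rw [e]
  apply hinjP _ (hkB a haB) _ (hBx a haB)
  have hk1 : π k = 1 := (QuotientGroup.eq_one_iff k).mpr hk
  rw [map_mul, map_mul, map_inv, hk1, one_mul, inv_one, mul_one]
  exact heqB a haB

/-- **Main induction**: in a `Qd(p)`-free group, `N_G(W(D))` controls strong fusion for every
strongly closed `D`. -/
theorem stmt_all (hp : p ≠ 2) (h𝔛 : GoodFamily.{u} p 𝔛) :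
    ∀ (n : ℕ) (G : Type u) [Group G] [Finite G], Nat.card G = n →
      ¬ Cfsg.Involves ↥(Cfsg.qd p) G → Stmt p 𝔛 G := by
  intro n
  induction n using Nat.strong_induction_on with
  | _ n ih =>
  intro G _ _ hcard hfree
  have ihsub : ∀ H : Subgroup G, H ≠ ⊤ → Stmt p 𝔛 ↥H := by
    intro H hne
    apply ih (Nat.card H) _ ↥H rfl
    · intro h
      exact hfree (Cfsg.Agent.Lib.Helper27.involves_of_injective H.subtype H.subtype_injective h)
    · rw [← hcard]
      exact lt_of_le_of_ne (Subgroup.card_le_card_group H)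
        (fun h => hne ((Subgroup.card_eq_iff_eq_top H).mp h))
  have ihquot : ∀ (Z : Subgroup G) [Z.Normal], Z ≠ ⊥ → Stmt p 𝔛 (G ⧸ Z) := by
    intro Z _ hne
    apply ih (Nat.card (G ⧸ Z)) _ (G ⧸ Z) rfl
    · intro h
      exact hfree (Cfsg.Agent.Lib.Helper8.ThTwo.involves_of_quotient Z h)
    · rw [← hcard, ← Subgroup.index_eq_card, ← Z.index_mul_card]
      have h1 : 1 < Nat.card Z := (Subgroup.one_lt_card_iff_ne_bot Z).mpr hne
      have h0 : 0 < Z.index := Nat.pos_of_ne_zero Subgroup.index_ne_zero_of_finite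
      nlinarith
  by_cases hK : Cfsg.pPrimeCore p G = ⊥
  swap
  · haveI := Cfsg.Agent.Lib.Helper1.pPrimeCore_normal p G
    exact stmt_of_coprime_quotient 𝔛 h𝔛 _ (pPrimeCore_coprime p) (ihquot _ hK)
  intro P D hD
  have hDp : IsPGroup p D := P.2.to_le hD.1
  set W := wSub (𝔛 G) D with hW
  set N := Subgroup.normalizer (W : Set G) with hN
  have hPN : (P : Subgroup G) ≤ N :=
    (stronglyClosed_le_normalizer hD).trans (normalizer_le_normalizer_wSub (h𝔛.good G) _)
  have hsub : ∀ H : Subgroup G, H ≠ ⊤ → (P : Subgroup G) ≤ H → ∀ (B : Set G) (x : G), x ∈ H →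
      B ⊆ (P : Subgroup G) → lcj x B ⊆ (P : Subgroup G) → Ctl N B x :=
    fun H hne hPH B x hx hB hBx =>
      ctl_of_subgroup 𝔛 h𝔛 P D hD H hPH (ihsub H hne) B x hx hB hBx
  have hst : Cfsg.IsNormalizerPStable p G :=
    Cfsg.Agent.Lib.Helper29.Qd.isNormalizerPStable_of_not_involves_qd hp hfree
  by_cases hC : Subgroup.centralizer ((Cfsg.pCore p G : Subgroup G) : Set G) ≤ Cfsg.pCore p G
  · haveI hWn : W.Normal := wSubD_normal (h𝔛.good G) P D hD (h𝔛.repl G D hDp) hC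
      (quadHyp_of_isNormalizerPStable hst (P : Subgroup G))
    intro A x _ _
    refine Ctl.of_mem ?_ A
    rw [hN, Subgroup.normalizer_eq_top_iff.mpr hWn]
    trivial
  -- the non-constrained case
  set Q := Cfsg.pCore p G with hQdef
  haveI hQn : Q.Normal := Cfsg.Agent.Lib.Helper1.pCore_normal p G
  have hQp : IsPGroup p Q := Cfsg.Agent.Lib.Helper1.pCore_isPGroup p G
  have hQP : Q ≤ (P : Subgroup G) := Cfsg.Agent.Lib.Helper1.pCore_le_sylow P
  set C := Subgroup.centralizer (Q : Set G) with hCdef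
  haveI hCn : C.Normal := Subgroup.normal_centralizer
  have hCS : ¬ ((P : Subgroup G) ⊓ C ≤ Q) := fun h =>
    hC (centralizer_pCore_le_of_sylow_inf P hK h)
  have hPQ : (P : Subgroup G) ≠ Q := by
    intro h
    apply hCS
    rw [h]
    exact inf_le_left
  set N₁ := Q ⊔ C with hN₁
  haveI hN₁n : N₁.Normal := inferInstance
  obtain ⟨R₀, hR₀⟩ := Cfsg.Agent.Lib.Helper16.exists_sylow_of_normal_inf P N₁
  have hfr := Sylow.normalizer_sup_eq_top R₀
  rw [hR₀] at hfr
  set R := (P : Subgroup G) ⊓ N₁ with hR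
  set N₂ := Subgroup.normalizer (R : Set G) with hN₂
  have hQR : Q ≤ R := le_inf hQP le_sup_left
  have hPN₂ : (P : Subgroup G) ≤ N₂ := by
    intro s hs
    rw [hN₂, Subgroup.mem_normalizer_iff]
    intro y
    constructor
    · rintro ⟨hyS, hyN⟩
      exact ⟨(P : Subgroup G).mul_mem ((P : Subgroup G).mul_mem hs hyS)
        ((P : Subgroup G).inv_mem hs), hN₁n.conj_mem y hyN s⟩
    · rintro ⟨h1, h2⟩
      refine ⟨?_, ?_⟩
      · have e : y = s⁻¹ * (s * y * s⁻¹) * s := by group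
        rw [e]
        exact (P : Subgroup G).mul_mem ((P : Subgroup G).mul_mem
          ((P : Subgroup G).inv_mem hs) h1) hs
      · have := hN₁n.conj_mem _ h2 s⁻¹
        have e : y = s⁻¹ * (s * y * s⁻¹) * s⁻¹⁻¹ := by group
        rw [e]; exact this
  have hN₂ne : N₂ ≠ ⊤ := by
    intro htop
    have hRn : R.Normal := Subgroup.normalizer_eq_top_iff.mp htop
    have hRQ : R ≤ Q := Cfsg.Agent.Lib.Helper1.le_pCore hRn (P.2.to_le inf_le_left)
    exact hCS ((inf_le_inf_left _ le_sup_right).trans hRQ)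
  have hN₂C : C ⊔ N₂ = ⊤ := by
    rw [eq_top_iff, ← hfr]
    exact sup_le le_sup_right
      (sup_le ((hQR.trans Subgroup.le_normalizer).trans le_sup_right) le_sup_left)
  by_cases hPC : (P : Subgroup G) ⊔ C = ⊤
  · -- `G / C` is a `p`-group
    have hpow : ∀ k : G, ∃ m : ℕ, k ^ p ^ m ∈ C := by
      intro k
      have hk : k ∈ (P : Subgroup G) ⊔ C := by rw [hPC]; trivial
      rw [Subgroup.mem_sup_of_normal_right] at hk
      obtain ⟨s, hs, c, hc, rfl⟩ := hk
      obtain ⟨m, hm⟩ := P.2 ⟨s, hs⟩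
      have hm' : s ^ p ^ m = 1 := by simpa using congrArg Subtype.val hm
      refine ⟨m, ?_⟩
      rw [← QuotientGroup.eq_one_iff, QuotientGroup.mk_pow, QuotientGroup.mk_mul]
      have : ((c : G) : G ⧸ C) = 1 := (QuotientGroup.eq_one_iff c).mpr hc
      rw [this, mul_one, ← QuotientGroup.mk_pow, hm', QuotientGroup.mk_one]
    set π := QuotientGroup.mk' Q with hπ
    have hπs : Function.Surjective π := QuotientGroup.mk'_surjective Q
    have hfreeq : ¬ Cfsg.Involves ↥(Cfsg.qd p) (G ⧸ Q) := fun h =>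
      hfree (Cfsg.Agent.Lib.Helper8.ThTwo.involves_of_quotient Q h)
    set L : Subgroup G := (Subgroup.normalizer ((Cfsg.centerThompsonAOf
      ((P : Subgroup G).map π) : Subgroup (G ⧸ Q)) : Set (G ⧸ Q))).comap π with hL
    have hLne : L ≠ ⊤ := by
      have h0 := comap_normalizer_ne_top
        (fun (Y : Type u) [Group Y] => Cfsg.Agent.Lib.Helper27.ZJFun.zjA Y)
        (Cfsg.Agent.Lib.Helper27.ZJFun.isCharPFunctor_zjA p) Q rfl P hPQ
      rwa [Cfsg.Agent.Lib.Helper27.ZJFun.inducedFunctor_zjA] at h0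
    have hPL : (P : Subgroup G) ≤ L := by
      have h0 := sylow_le_comap_normalizer
        (fun (Y : Type u) [Group Y] => Cfsg.Agent.Lib.Helper27.ZJFun.zjA Y)
        (Cfsg.Agent.Lib.Helper27.ZJFun.isCharPFunctor_zjA p) Q P
      rwa [Cfsg.Agent.Lib.Helper27.ZJFun.inducedFunctor_zjA] at h0
    have hclaim : ∀ T ∈ tameFamily P, Q ≤ T →
        ∀ x ∈ Subgroup.normalizer ((T : Subgroup G) : Set G), Ctl N (T : Set G) x := by
      intro T htame hQT x hx
      have hTb : π '' (T : Set G) ⊆ (((P.mapSurjective hπs : Sylow p (G ⧸ Q)) :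
          Subgroup (G ⧸ Q)) : Set (G ⧸ Q)) := by
        rintro _ ⟨t, ht, rfl⟩
        exact ⟨t, htame.1 ht, rfl⟩
      have hxT : lcj x (T : Set G) ⊆ (T : Set G) := lcj_subset_of_mem_normalizer hx le_rfl
      have hTxb : lcj (π x) (π '' (T : Set G)) ⊆ (((P.mapSurjective hπs : Sylow p (G ⧸ Q)) :
          Subgroup (G ⧸ Q)) : Set (G ⧸ Q)) := by
        rw [lcj_image_hom]
        rintro _ ⟨t, ht, rfl⟩
        exact ⟨t, htame.1 (hxT ht), rfl⟩
      obtain ⟨nb, hnb, hnba⟩ := zj_ctl hp (G ⧸ Q) hfreeq (P.mapSurjective hπs)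
        (π '' (T : Set G)) (π x) hTb hTxb
      obtain ⟨l, rfl⟩ := hπs nb
      have hlL : l ∈ L := hnb
      have hmod : ∀ t ∈ T, (x * t * x⁻¹)⁻¹ * (l * t * l⁻¹) ∈ Q := by
        intro t ht
        apply QuotientGroup.eq.mp
        have := hnba (π t) ⟨t, ht, rfl⟩
        show π (x * t * x⁻¹) = π (l * t * l⁻¹)
        rw [map_mul, map_mul, map_inv, map_mul, map_mul, map_inv]
        exact this.symm
      have hlT : cj l T ≤ T := by
        rintro _ ⟨t, ht, rfl⟩
        have e : (MulAut.conj l).toMonoidHom t =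
            (x * t * x⁻¹) * ((x * t * x⁻¹)⁻¹ * (l * t * l⁻¹)) := by
          show l * t * l⁻¹ = _
          group
        rw [e]
        exact T.mul_mem (hxT (mem_lcj_of_mem ht)) (hQT (hmod t ht))
      have hlN : l ∈ Subgroup.normalizer ((T : Subgroup G) : Set G) :=
        mem_normalizer_of_cj_eq (cj_eq_of_le hlT)
      have hlT' : lcj l (T : Set G) ⊆ (T : Set G) := by
        rw [lcj_coe]; exact hlT
      have hFl : Ctl N (T : Set G) l :=
        hsub L hLne hPL (T : Set G) l hlL htame.1 (hlT'.trans htame.1)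
      have hzN : x * l⁻¹ ∈ Subgroup.normalizer ((T : Subgroup G) : Set G) :=
        Subgroup.mul_mem _ hx (Subgroup.inv_mem _ hlN)
      have hzP : ∀ t ∈ T, (x * l⁻¹) * t * (x * l⁻¹)⁻¹ * t⁻¹ ∈ Q := by
        intro t ht
        have ht' : l⁻¹ * t * l ∈ T := by
          have := (Subgroup.mem_normalizer_iff.mp (Subgroup.inv_mem _ hlN) t).mp ht
          simpa using this
        have h1 := hmod _ ht'
        have h2 := hQn.conj_mem _ (Q.inv_mem h1) (x * (l⁻¹ * t * l) * x⁻¹)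
        have e : (x * l⁻¹) * t * (x * l⁻¹)⁻¹ * t⁻¹ =
            (x * (l⁻¹ * t * l) * x⁻¹) *
              ((x * (l⁻¹ * t * l) * x⁻¹)⁻¹ * (l * (l⁻¹ * t * l) * l⁻¹))⁻¹ *
              (x * (l⁻¹ * t * l) * x⁻¹)⁻¹ := by group
        rw [e]
        exact h2
      obtain ⟨s, hs, hsz⟩ := exists_sylow_conj_of_trivial_mod P Q T hQp hpow htame.2 (x * l⁻¹)
        hzN hzP
      have hFz : Ctl N (lcj l (T : Set G)) (x * l⁻¹) :=
        Ctl.mono ⟨s, hPN hs.1, fun t ht => (hsz t ht).symm⟩ hlT'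
      have h3 := hFl.trans hFz
      have e : x * l⁻¹ * l = x := by group
      rwa [e] at h3
    intro A x hA hAx
    set A₂ := Subgroup.closure A ⊔ Q with hA₂
    have hclA : Subgroup.closure A ≤ (P : Subgroup G) := (Subgroup.closure_le _).mpr hA
    have hA₂S : A₂ ≤ (P : Subgroup G) := sup_le hclA hQP
    have hxA₂ : cj x⁻¹⁻¹ A₂ ≤ (P : Subgroup G) := by
      rw [inv_inv, hA₂, cj_def, Subgroup.map_sup, MonoidHom.map_closure]
      apply sup_le
      · rw [Subgroup.closure_le]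
        rintro _ ⟨a, ha, rfl⟩
        apply hAx
        exact ⟨a, ha, by simp [MulAut.conj_apply]⟩
      · rintro _ ⟨y, hy, rfl⟩
        apply hQP
        simpa [MulAut.conj_apply] using hQn.conj_mem y hy x
    obtain ⟨l, hl, hprod⟩ := reach_tame P A₂ hA₂S x⁻¹ hxA₂
    have h1 := ctl_of_chain N Q (tameFamily P) hclaim l (A₂ : Set G)
      (show (Q : Set G) ⊆ A₂ from (le_sup_right : Q ≤ A₂)) hl
    rw [hprod, inv_inv] at h1
    exact h1.mono (Subgroup.subset_closure.trans (le_sup_left : Subgroup.closure A ≤ A₂))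
  · intro A x hA hAx
    have hx : x ∈ C ⊔ N₂ := by rw [hN₂C]; trivial
    rw [Subgroup.mem_sup_of_normal_left] at hx
    obtain ⟨c, hc, n', hn', rfl⟩ := hx
    have hclA : Subgroup.closure A ≤ (P : Subgroup G) := (Subgroup.closure_le _).mpr hA
    set B₁ := cj n' (Subgroup.closure A) with hB₁
    have hB₁p : IsPGroup p B₁ := (P.2.to_le hclA).map _
    have hxcl : ∀ a ∈ Subgroup.closure A, (c * n') * a * (c * n')⁻¹ ∈ (P : Subgroup G) := by
      have : cj (c * n') (Subgroup.closure A) ≤ (P : Subgroup G) := by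
        rw [cj_def, MonoidHom.map_closure, Subgroup.closure_le]
        rintro _ ⟨a, ha, rfl⟩
        apply hAx
        exact ⟨a, ha, rfl⟩
      intro a ha
      exact this ⟨a, ha, rfl⟩
    have hB₁N₂ : B₁ ≤ N₂ := by
      have h1 : cj n' N₂ = N₂ := cj_self_of_mem hn'
      rw [← h1]
      exact cj_mono n' (hclA.trans hPN₂)
    have hB₁SC : B₁ ≤ (P : Subgroup G) ⊔ C := by
      rintro _ ⟨a, ha, rfl⟩
      have e : (MulAut.conj n').toMonoidHom a = c⁻¹ * ((c * n') * a * (c * n')⁻¹) * c := by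
        show n' * a * n'⁻¹ = _
        group
      rw [e]
      exact Subgroup.mul_mem _ (Subgroup.mul_mem _ (Subgroup.mem_sup_right (C.inv_mem hc))
        (Subgroup.mem_sup_left (hxcl a ha))) (Subgroup.mem_sup_right hc)
    set Y := N₂ ⊓ ((P : Subgroup G) ⊔ C) with hY
    have hSY : (P : Subgroup G) ≤ Y := le_inf hPN₂ le_sup_left
    have hidx : ¬ p ∣ (P : Subgroup G).relIndex Y := sylow_not_dvd_relIndex P Y hSY
    obtain ⟨k, hkY, hk⟩ := exists_conj_mem_of_relIndex (P : Subgroup G) Y B₁ P.2 hidx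
      (le_inf hB₁N₂ hB₁SC) hB₁p
    have hk2 := (Subgroup.mem_inf.mp hkY).2
    rw [Subgroup.mem_sup_of_normal_right] at hk2
    obtain ⟨s, hs, c₀, hc₀, hsc⟩ := hk2
    have hc₀N : c₀ ∈ N₂ := by
      have e : c₀ = s⁻¹ * k := by rw [← hsc]; group
      rw [e]
      exact N₂.mul_mem (N₂.inv_mem (hPN₂ hs)) (Subgroup.mem_inf.mp hkY).1
    have hc₀B : ∀ b ∈ B₁, c₀ * b * c₀⁻¹ ∈ (P : Subgroup G) := by
      intro b hb
      have e : c₀ * b * c₀⁻¹ = s⁻¹ * (k * b * k⁻¹) * s := by rw [← hsc]; group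
      rw [e]
      exact (P : Subgroup G).mul_mem ((P : Subgroup G).mul_mem ((P : Subgroup G).inv_mem hs)
        (hk b hb)) hs
    have hn'A : lcj (c₀ * n') A ⊆ (P : Subgroup G) := by
      rintro _ ⟨a, ha, rfl⟩
      have hb : n' * a * n'⁻¹ ∈ B₁ :=
        ⟨a, Subgroup.subset_closure ha, by simp [MulAut.conj_apply]⟩
      have := hc₀B _ hb
      have e : c₀ * n' * a * (c₀ * n')⁻¹ = c₀ * (n' * a * n'⁻¹) * c₀⁻¹ := by group
      show c₀ * n' * a * (c₀ * n')⁻¹ ∈ (P : Subgroup G)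
      rw [e]; exact this
    have h1 := hsub N₂ hN₂ne hPN₂ A (c₀ * n') (N₂.mul_mem hc₀N hn') hA hn'A
    have e : c * n' = (c * c₀⁻¹) * (c₀ * n') := by group
    have h2 := hsub ((P : Subgroup G) ⊔ C) hPC le_sup_left (lcj (c₀ * n') A) (c * c₀⁻¹)
      (Subgroup.mem_sup_right (C.mul_mem hc (C.inv_mem hc₀))) hn'A
      (by rw [← lcj_mul, ← e]; exact hAx)
    rw [e]
    exact h1.trans h2

end steps

end Cfsg.Agent.Lib.Helper27.QdClosed
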