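import Cfsg.Agent.Lib.Helper27.QdGroup1
import Cfsg.Agent.Lib.Helper27.QuotCent

/-!
helper27: if `Qd(p)` is involved in a finite group `G` (`p` odd) then there is a subgroup `Q` of a Sylow `p`-subgroup
`P`, with `N_P(Q)` Sylow in `N_G(Q)` and `C_P(Q) ≤ Q`, such that `Qd(p)` is involved in `N_G(Q)`.
-/

set_option autoImplicit false
set_option linter.unusedSectionVars false
set_option linter.unusedVariables false
set_option linter.style.haveILetI false

namespace Cfsg.Agent.Lib.Helper27.QdGroup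

open Matrix Cfsg Cfsg.FusionSystem Cfsg.Agent.Lib.Helper27.QdNatural Cfsg.Agent.Lib.Helper27.QdFusion
  Cfsg.Agent.Lib.Helper27.FM Cfsg.Agent.Lib.Helper26

universe u v

variable {p : ℕ} [hpF : Fact p.Prime]

/-- `Qd(p)` has no nontrivial normal `p'`-subgroup. -/
theorem normal_coprime_qd_eq_bot (M : Subgroup ↥(qd p)) [hMn : M.Normal] (hM : (Nat.card M).Coprime p) :
    M = ⊥ := by
  have hdis : Disjoint M (Vt p) := by
    rw [Subgroup.disjoint_def]
    intro x hxM hxV
    exact Cfsg.Agent.Lib.Helper27.QuotCent.inf_eq_bot_of_coprime Vt_isPGroup hM hxV hxM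
  have hle : M ≤ Vt p := by
    refine le_trans ?_ centralizer_Vt_le
    intro x hx
    rw [Subgroup.mem_centralizer_iff]
    intro v hv
    exact (Subgroup.commute_of_normal_of_disjoint M (Vt p) hMn inferInstance hdis x v hx hv).eq.symm
  rw [eq_bot_iff]
  intro x hx
  exact Subgroup.mem_bot.mpr
    (Cfsg.Agent.Lib.Helper27.QuotCent.inf_eq_bot_of_coprime Vt_isPGroup hM (hle hx) hx)

/-- Dividing by a normal `p'`-subgroup keeps `Qd(p)` involved. -/
theorem involves_qd_quotient_of_coprime {X : Type u} [Group X] [Finite X] (K : Subgroup X) [hKn : K.Normal]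
    (hK : (Nat.card K).Coprime p) (h : Involves ↥(qd p) X) : Involves ↥(qd p) (X ⧸ K) := by
  obtain ⟨K₀, R₀, hn, ⟨e⟩⟩ := h
  let f : ↥K₀ →* ↥(qd p) := e.toMonoidHom.comp (QuotientGroup.mk' (R₀.subgroupOf K₀))
  have hf : Function.Surjective f := by
    intro A
    obtain ⟨x, hx⟩ := QuotientGroup.mk'_surjective (R₀.subgroupOf K₀) (e.symm A)
    refine ⟨x, ?_⟩
    show e ((QuotientGroup.mk' (R₀.subgroupOf K₀)) x) = A
    rw [hx, MulEquiv.apply_symm_apply]
  set M : Subgroup ↥(qd p) := (K.subgroupOf K₀).map f with hM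
  haveI hKsn : (K.subgroupOf K₀).Normal := Subgroup.Normal.subgroupOf hKn K₀
  haveI hMn : M.Normal := Subgroup.Normal.map hKsn f hf
  have hMc : (Nat.card M).Coprime p := by
    refine Nat.Coprime.coprime_dvd_left ?_ hK
    exact (Subgroup.card_map_dvd _ f).trans
      (Subgroup.card_comap_dvd_of_injective K K₀.subtype K₀.subtype_injective)
  have hMbot := normal_coprime_qd_eq_bot M hMc
  let φ : ↥K₀ →* ↥(K₀.map (QuotientGroup.mk' K)) := (QuotientGroup.mk' K).subgroupMap K₀
  have hφ : Function.Surjective φ := MonoidHom.subgroupMap_surjective _ _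
  have hker : φ.ker ≤ f.ker := by
    intro x hx
    rw [MonoidHom.mem_ker] at hx ⊢
    have h1 : (QuotientGroup.mk' K) (x : X) = 1 := congrArg Subtype.val hx
    rw [QuotientGroup.mk'_apply, QuotientGroup.eq_one_iff] at h1
    have h2 : f x ∈ M := ⟨x, Subgroup.mem_subgroupOf.mpr h1, rfl⟩
    rw [hMbot] at h2
    exact Subgroup.mem_bot.mp h2
  let fq : ↥K₀ ⧸ φ.ker →* ↥(qd p) := QuotientGroup.lift φ.ker f hker
  let eq : ↥K₀ ⧸ φ.ker ≃* ↥(K₀.map (QuotientGroup.mk' K)) :=
    QuotientGroup.quotientKerEquivOfSurjective φ hφ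
  refine Cfsg.Agent.Lib.Helper27.involves_of_surjective_on_subgroup (K₀.map (QuotientGroup.mk' K))
    (fq.comp eq.symm.toMonoidHom) ?_
  intro g
  obtain ⟨x, hx⟩ := hf g
  refine ⟨φ x, ?_⟩
  show fq (eq.symm (φ x)) = g
  have h3 : eq.symm (φ x) = QuotientGroup.mk x := by
    rw [MulEquiv.symm_apply_eq]; rfl
  rw [h3]
  exact hx

variable {G : Type u} [Group G]

/-- In the fusion system of a group: `N_P(Q)` Sylow in `N_G(Q)` and `C_P(Q) ≤ Q` make `Q` centric. -/
theorem groupFS_isCentric_of_centralizerIn_le [Finite G] (P : Sylow p G) {Q : Subgroup G}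
    (hQP : Q ≤ (P : Subgroup G))
    (hN : ∃ R : Sylow p ↥(Subgroup.normalizer (Q : Set G)),
      (R : Subgroup ↥(Subgroup.normalizer (Q : Set G))) =
        (normalizerIn (P : Subgroup G) Q).subgroupOf (Subgroup.normalizer (Q : Set G)))
    (hcen : centralizerIn (P : Subgroup G) Q ≤ Q) :
    (groupFusionSystem (P : Subgroup G)).IsCentric Q := by
  refine ⟨hQP, fun R hR => ?_⟩
  obtain ⟨-, hRP, g, rfl⟩ := (groupFS_isConj_iff _ _ _).mp hR
  have hS := sylow_centralizer_of_sylow_normalizer P Q hN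
  set B : Subgroup G := (centralizerIn (P : Subgroup G) (Q.map (MulAut.conj g).toMonoidHom)).map
    (MulAut.conj g⁻¹).toMonoidHom with hB
  have hBC : B ≤ Subgroup.centralizer (Q : Set G) := by
    have := map_conj_mono (inf_le_right : centralizerIn (P : Subgroup G) (Q.map (MulAut.conj g).toMonoidHom) ≤
      Subgroup.centralizer ((Q.map (MulAut.conj g).toMonoidHom : Subgroup G) : Set G)) g⁻¹
    rwa [map_conj_centralizer, map_conj_inv_map_conj] at this
  have hBp : IsPGroup p B := isPGroup_map_conj (P.isPGroup'.to_le inf_le_left) _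
  obtain ⟨c, hc, hcB⟩ := exists_conj_le_of_sylowIn hS hBC hBp
  intro x hx
  have h1 : c * (g⁻¹ * x * g⁻¹⁻¹) * c⁻¹ ∈ Q := hcen (hcB ⟨_, ⟨x, hx, rfl⟩, rfl⟩)
  have hcN : c ∈ Subgroup.normalizer (Q : Set G) := Subgroup.centralizer_le_normalizer _ hc
  have h2 : g⁻¹ * x * g ∈ Q := by
    apply (Subgroup.mem_normalizer_iff.mp hcN (g⁻¹ * x * g)).mpr
    simpa using h1
  rw [mem_map_conj]
  exact h2

/-- The key reduction: some `p`-centric, fully normalized subgroup of `P` has `Qd(p)` involved in its normalizer. -/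
theorem exists_centric_involves [Finite G] (hp : p ≠ 2) (P : Sylow p G) :
    ∀ (n : ℕ) (Q : Subgroup G), IsPGroup p Q → Nat.card G - Nat.card Q = n →
      Involves ↥(qd p) ↥(Subgroup.normalizer (Q : Set G)) →
      ∃ Q' : Subgroup G, Q' ≤ (P : Subgroup G) ∧
        (∃ R : Sylow p ↥(Subgroup.normalizer (Q' : Set G)),
          (R : Subgroup ↥(Subgroup.normalizer (Q' : Set G))) =
            (normalizerIn (P : Subgroup G) Q').subgroupOf (Subgroup.normalizer (Q' : Set G))) ∧
        centralizerIn (P : Subgroup G) Q' ≤ Q' ∧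
        Involves ↥(qd p) ↥(Subgroup.normalizer (Q' : Set G)) := by
  intro n
  induction n using Nat.strong_induction_on with
  | _ n ih =>
  intro Q hQp hn hQ
  obtain ⟨g₁, hg₁⟩ := exists_conj_le_sylow P hQp
  obtain ⟨g₂, hg₂P, hg₂N⟩ := groupFS_exists_conj_sylow_normalizer P hg₁
  set Q₁ : Subgroup G := (Q.map (MulAut.conj g₁).toMonoidHom).map (MulAut.conj g₂).toMonoidHom with hQ₁
  have hQ₁card : Nat.card Q₁ = Nat.card Q := by rw [card_map_conj, card_map_conj]
  have hQ₁inv : Involves ↥(qd p) ↥(Subgroup.normalizer (Q₁ : Set G)) :=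
    involves_normalizer_map_conj g₂ (involves_normalizer_map_conj g₁ hQ)
  by_cases hcen : centralizerIn (P : Subgroup G) Q₁ ≤ Q₁
  · exact ⟨Q₁, hg₂P, hg₂N, hcen, hQ₁inv⟩
  obtain ⟨H, f, hHN, hf⟩ := exists_surj_of_involves _ hQ₁inv
  obtain ⟨W, hWH, hWp, hWV, hWsurj, hWn⟩ := exists_lift_Vt H f hf
  have hQ₁p : IsPGroup p Q₁ := P.isPGroup'.to_le hg₂P
  have key : ∀ Q' : Subgroup G, IsPGroup p Q' → Q₁ ≤ Q' → ¬ Q' ≤ Q₁ →
      Involves ↥(qd p) ↥(Subgroup.normalizer (Q' : Set G)) →
      ∃ Q' : Subgroup G, Q' ≤ (P : Subgroup G) ∧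
        (∃ R : Sylow p ↥(Subgroup.normalizer (Q' : Set G)),
          (R : Subgroup ↥(Subgroup.normalizer (Q' : Set G))) =
            (normalizerIn (P : Subgroup G) Q').subgroupOf (Subgroup.normalizer (Q' : Set G))) ∧
        centralizerIn (P : Subgroup G) Q' ≤ Q' ∧
        Involves ↥(qd p) ↥(Subgroup.normalizer (Q' : Set G)) := by
    intro Q' hp' hle hnle hinv
    have hlt : Nat.card Q₁ < Nat.card Q' := by
      by_contra hge
      rw [not_lt] at hge
      exact hnle (Subgroup.eq_of_le_of_card_ge hle hge).ge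
    have hleG : Nat.card Q' ≤ Nat.card G := Subgroup.card_le_card_group _
    exact ih (Nat.card G - Nat.card Q') (by omega) Q' hp' rfl hinv
  by_cases hWQ : W ≤ Q₁
  · -- `W ≤ Q₁`: enlarge by `C_P(Q₁)`
    set C : Subgroup G := Subgroup.centralizer (Q₁ : Set G) with hC
    set T : Subgroup G := centralizerIn (P : Subgroup G) Q₁ with hT
    have hTC : T ≤ C := inf_le_right
    have hTP : T ≤ (P : Subgroup G) := inf_le_left
    have hTp : IsPGroup p T := P.isPGroup'.to_le hTP
    have hTS := sylow_centralizer_of_sylow_normalizer P Q₁ hg₂N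
    set H₁ : Subgroup G := H ⊓ Subgroup.normalizer (W : Set G) with hH₁
    have hH₁N : H₁ ≤ Subgroup.normalizer (Q₁ : Set G) := inf_le_left.trans hHN
    have hH₁C : H₁ ≤ Subgroup.normalizer (C : Set G) :=
      hH₁N.trans (normalizer_le_normalizer_centralizer Q₁)
    set Y : Subgroup G := (H₁ ⊔ C) ⊓ Subgroup.normalizer (T : Set G) with hY
    apply key (Q₁ ⊔ T) (P.isPGroup'.to_le (sup_le hg₂P hTP)) le_sup_left
      (fun h => hcen (le_sup_right.trans h))
    have hYle : Y ≤ Subgroup.normalizer ((Q₁ ⊔ T : Subgroup G) : Set G) := by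
      refine le_trans (le_inf (inf_le_left.trans (sup_le hH₁N (Subgroup.centralizer_le_normalizer _))) inf_le_right)
        (normalizer_inf_le_normalizer_sup Q₁ T)
    apply involves_mono hYle
    have hfW : ∀ w : ↥W, (f.comp (Subgroup.inclusion hWH)) w ∈ Vt p := by
      intro w
      have := hWV w w.2
      rwa [ext1_apply f (hWH w.2)] at this
    let eV : Vec p ≃* ↥(Vt p) := MonoidHom.ofInjective transl_injective
    let π : ↥W →* Vec p :=
      eV.symm.toMonoidHom.comp ((f.comp (Subgroup.inclusion hWH)).codRestrict (Vt p) hfW)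
    have hπ : ∀ w : ↥W, transl (π w) = f ⟨w, hWH w.2⟩ := by
      intro w
      have h1 : eV (π w) = ⟨f ⟨w, hWH w.2⟩, hfW w⟩ := MulEquiv.apply_symm_apply eV _
      exact congrArg Subtype.val h1
    have hπ' : ∀ w ∈ W, transl (ext1 π w) = ext1 f w := by
      intro w hw
      rw [ext1_apply π hw, ext1_apply f (hWH hw)]
      exact hπ ⟨w, hw⟩
    have hπsurj : Function.Surjective π := by
      intro v
      obtain ⟨w, hw, hwv⟩ := hWsurj v
      refine ⟨⟨w, hw⟩, transl_injective ?_⟩
      rw [hπ, ← hwv, ext1_apply f (hWH hw)]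
    have hactH : ∀ h ∈ H₁, ∀ (A : SpecialLinearGroup (Fin 2) (ZMod p)) (u : Fin 2 → ZMod p),
        (ext1 f h).1 = affSL A u → ∀ w ∈ W, h * w * h⁻¹ ∈ W ∧
          ext1 π (h * w * h⁻¹) = vecAut A (ext1 π w) := by
      intro h hh A u hA w hw
      have hm : h * w * h⁻¹ ∈ W := (Subgroup.mem_normalizer_iff.mp hh.2 w).mp hw
      refine ⟨hm, transl_injective ?_⟩
      rw [hπ' _ hm, ext1_conj f hh.1 (hWH hw), ← hπ' w hw, conj_transl _ A u hA]
    have hCW : ∀ c ∈ C, ∀ w ∈ W, c * w * c⁻¹ = w := by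
      intro c hc w hw
      have := Subgroup.mem_centralizer_iff.mp hc w (hWQ hw)
      rw [← this, mul_inv_cancel_right]
    apply Cfsg.Agent.Lib.Helper27.QdAction.involves_qd_of_action hp Y W ?_ π hπsurj ?_ ?_
    · refine le_inf ((le_inf hWH Subgroup.le_normalizer).trans le_sup_left) ?_
      intro w hw
      apply Subgroup.centralizer_le_normalizer
      rw [Subgroup.mem_centralizer_iff]
      intro t ht
      exact (Subgroup.mem_centralizer_iff.mp (hTC ht) w (hWQ hw)).symm
    · intro y hy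
      have hy1 : y ∈ ((H₁ ⊔ C : Subgroup G) : Set G) := hy.1
      rw [Subgroup.coe_mul_of_left_le_normalizer_right H₁ C hH₁C] at hy1
      obtain ⟨h, hh, c, hc, rfl⟩ := hy1
      obtain ⟨A, u, hA⟩ := exists_rep (ext1 f h)
      refine ⟨A, fun w hw => ?_⟩
      have e : h * c * w * (h * c)⁻¹ = h * (c * w * c⁻¹) * h⁻¹ := by group
      rw [e, hCW c hc w hw]
      exact hactH h hh A u hA w hw
    · intro A
      obtain ⟨h, hhH, hhW, hfh⟩ := hWn ⟨affSL A 0, affSL_mem_qd _ _⟩
      have hh : h ∈ H₁ := ⟨hhH, hhW⟩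
      have hBC : T.map (MulAut.conj h).toMonoidHom ≤ C := by
        have := map_conj_mono hTC h
        rwa [map_conj_of_mem_normalizer (hH₁C hh)] at this
      obtain ⟨c, hc, hcT⟩ := exists_conj_le_of_sylowIn hTS hBC (isPGroup_map_conj hTp h)
      rw [map_conj_map_conj] at hcT
      have hchN : c * h ∈ Subgroup.normalizer (T : Set G) := by
        apply mem_normalizer_of_conj_mem_finite
        intro t ht
        exact hcT ⟨t, ht, rfl⟩
      refine ⟨c * h, ⟨?_, hchN⟩, fun w hw => ?_⟩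
      · exact Subgroup.mul_mem _ (Subgroup.mem_sup_right hc) (Subgroup.mem_sup_left hh)
      · have hA : (ext1 f h).1 = affSL A 0 := by rw [hfh]
        obtain ⟨hm, h1⟩ := hactH h hh A 0 hA w hw
        have e : c * h * w * (c * h)⁻¹ = c * (h * w * h⁻¹) * c⁻¹ := by group
        rw [e, hCW c hc _ hm]
        exact h1
  · -- `W ≰ Q₁`: enlarge by `W`
    apply key (Q₁ ⊔ W)
    · rw [sup_comm]
      exact IsPGroup.to_sup_of_normal_right' hWp hQ₁p (hWH.trans hHN)
    · exact le_sup_left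
    · intro h
      exact hWQ (le_sup_right.trans h)
    · have hle : H ⊓ Subgroup.normalizer (W : Set G) ≤
          Subgroup.normalizer ((Q₁ ⊔ W : Subgroup G) : Set G) :=
        (inf_le_inf_right _ hHN).trans (normalizer_inf_le_normalizer_sup Q₁ W)
      apply involves_of_surj hle (f.comp (Subgroup.inclusion inf_le_left))
      intro g
      obtain ⟨h, hh, hhW, hfg⟩ := hWn g
      refine ⟨⟨h, hh, hhW⟩, ?_⟩
      show f ⟨h, _⟩ = g
      rw [← hfg, ext1_apply f hh]

end Cfsg.Agent.Lib.Helper27.QdGroup
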