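import Mathlib
import Cfsg.Prelude.Def_LocalEven
import Cfsg.Agent.Lib.Helper27.QdFusion
import Cfsg.Agent.S1969
import Cfsg.Agent.S0653

/-!
# `Qd(p)`-freeness and control of strong fusion by `Z(J)` in all sections (helper27)

`zj_iff_of_stable`: the equivalence of S2794, assuming that `Qd(p)`-free sections act `p`-stably on
their normal `p`-subgroups (supplied by helper29's Theorem Q).
-/

set_option autoImplicit false
set_option linter.style.haveILetI false
set_option linter.unusedSectionVars false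

namespace Cfsg.Agent.Lib.Helper27.QdZJ

universe u

variable {p : ℕ} [hpF : Fact p.Prime]

theorem zj_controls_of_stable {G : Type u} [Group G] [Finite G] (hp : p ≠ 2)
    (hQ : ∀ (K R : Subgroup G) [hR : (R.subgroupOf K).Normal]
      (P : Subgroup (↥K ⧸ R.subgroupOf K)) [P.Normal], IsPGroup p P → Cfsg.IsPStableOn p P) :
    ∀ (K R : Subgroup G) [hR : (R.subgroupOf K).Normal], ∀ T : Sylow p (↥K ⧸ R.subgroupOf K),
      Cfsg.ControlsStrongFusion p
        (Cfsg.centerThompsonAOf (T : Subgroup (↥K ⧸ R.subgroupOf K))) := by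
  intro K R hR T
  have h := Cfsg.Agent.S1969.result (G := G) (p := p)
    (fun (Q : Type u) [Group Q] => Cfsg.Agent.Lib.Helper27.ZJFun.zjA Q)
    (Cfsg.Agent.Lib.Helper27.ZJFun.isCharPFunctor_zjA p) (by
      intro K' R' hR' hC T'
      rw [Cfsg.Agent.Lib.Helper27.ZJFun.inducedFunctor_zjA]
      haveI := Cfsg.Agent.S0653.result hp hC (fun P _ hP => hQ K' R' P hP) T'
      exact Subgroup.normal_of_characteristic _) K R T
  rw [Cfsg.Agent.Lib.Helper27.ZJFun.inducedFunctor_zjA] at h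
  exact h

theorem not_involves_of_zj_controls {G : Type u} [Group G] [Finite G]
    (h : ∀ (K R : Subgroup G) [hR : (R.subgroupOf K).Normal], ∀ T : Sylow p (↥K ⧸ R.subgroupOf K),
      Cfsg.ControlsStrongFusion p
        (Cfsg.centerThompsonAOf (T : Subgroup (↥K ⧸ R.subgroupOf K)))) :
    ¬ Cfsg.Involves ↥(Cfsg.qd p) G := by
  rintro ⟨K, R, hR, ⟨e⟩⟩
  obtain ⟨T⟩ : Nonempty (Sylow p (↥K ⧸ R.subgroupOf K)) := inferInstance
  have h1 := Cfsg.Agent.Lib.Helper27.QdFusion.controlsStrongFusion_map_equiv e _ (h K R T)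
  rw [← Cfsg.Agent.Lib.Helper27.QdFusion.centerThompsonAOf_map_equiv] at h1
  have hes : Function.Surjective e.toMonoidHom := e.surjective
  have h2 : ((T.mapSurjective hes : Sylow p ↥(Cfsg.qd p)) : Subgroup ↥(Cfsg.qd p)) =
      (T : Subgroup (↥K ⧸ R.subgroupOf K)).map e.toMonoidHom := Sylow.coe_mapSurjective hes T
  rw [← h2] at h1
  exact Cfsg.Agent.Lib.Helper27.QdFusion.not_controlsStrongFusion_qd _ h1

theorem zj_iff_of_stable {G : Type u} [Group G] [Finite G] (hp : p ≠ 2)
    (hQ : ¬ Cfsg.Involves ↥(Cfsg.qd p) G → ∀ (K R : Subgroup G) [hR : (R.subgroupOf K).Normal]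
      (P : Subgroup (↥K ⧸ R.subgroupOf K)) [P.Normal], IsPGroup p P → Cfsg.IsPStableOn p P) :
    ¬ Cfsg.Involves ↥(Cfsg.qd p) G ↔
      ∀ (K R : Subgroup G) [hR : (R.subgroupOf K).Normal], ∀ T : Sylow p (↥K ⧸ R.subgroupOf K),
        Cfsg.ControlsStrongFusion p
          (Cfsg.centerThompsonAOf (T : Subgroup (↥K ⧸ R.subgroupOf K))) :=
  ⟨fun hfree => zj_controls_of_stable hp (hQ hfree), not_involves_of_zj_controls⟩

end Cfsg.Agent.Lib.Helper27.QdZJ
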