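/-
helper27: S4581 leaf (F8) (planner helper5): an odd-degree irreducible character of `G` over an
odd-degree irreducible character of a subgroup of odd index.
-/
import Mathlib
import Cfsg.Prelude.Def_Blocks
import Cfsg.Agent.Lib.Helper6.Clifford
import Cfsg.Agent.Lib.Helper6.CharExtra
import Cfsg.Agent.Lib.Helper24.IrrFacts
import Cfsg.Agent.Lib.Helper5.RODefs

set_option autoImplicit false

namespace Cfsg.Agent.Lib.Helper27.RO

open Cfsg Cfsg.Agent.Lib.Helper6 Cfsg.Agent.Lib.Helper5.RO Cfsg.Agent.CharLib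
open scoped ComplexConjugate

universe u

/-- (F8) an odd-degree irreducible character of `G` over an odd-degree irreducible character of a
subgroup of odd index (a constituent of `μ^G`, whose degree is odd). -/
theorem exists_odd_over_of_odd_index {G : Type u} [Group G] [Finite G] (H : Subgroup G)
    (hH : Odd H.index) (μ : IrrCharacter H) (hμ : Odd (charDegree (μ : H → ℂ))) :
    ∃ χ : IrrCharacter G, Odd (charDegree (χ : G → ℂ)) ∧
      haveI := Fintype.ofFinite H
      classInner (resFun H (χ : G → ℂ)) (μ : H → ℂ) ≠ 0 := by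
  classical
  let _ : Fintype G := Fintype.ofFinite G
  let _ : Fintype H := Fintype.ofFinite H
  let _ := fintypeIrr G
  have hΦ : IsCharacter G (indFun H (μ : H → ℂ)) :=
    IsCharacter.indFun H (IsIrrCharacter.isCharacter μ.2)
  obtain ⟨m, hm, hcoef⟩ := IsCharacter.exists_decomp_sum hΦ
  -- degrees
  have hdeg : (H.index * charDegree (μ : H → ℂ) : ℕ) =
      ∑ ψ : IrrCharacter G, m ψ * charDegree (ψ : G → ℂ) := by
    have h1 := congrFun hm 1
    rw [Helper6.indFun_apply_one, Finset.sum_apply] at h1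
    have h2 : (Nat.card H : ℂ)⁻¹ * (Nat.card G : ℂ) = (H.index : ℂ) := by
      have hH0 : (Nat.card H : ℂ) ≠ 0 := Nat.cast_ne_zero.mpr Nat.card_pos.ne'
      rw [← H.card_mul_index]
      push_cast
      field_simp
    rw [h2, Helper24.irr_apply_one μ] at h1
    have h3 : ∀ ψ : IrrCharacter G, (m ψ • (ψ : G → ℂ)) 1 =
        ((m ψ * charDegree (ψ : G → ℂ) : ℕ) : ℂ) := by
      intro ψ
      rw [Pi.smul_apply, Helper24.irr_apply_one ψ, nsmul_eq_mul]
      push_cast
      rfl
    rw [Finset.sum_congr rfl (fun ψ _ => h3 ψ), ← Nat.cast_sum, ← Nat.cast_mul] at h1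
    exact_mod_cast h1
  have hoddsum : Odd (∑ ψ : IrrCharacter G, m ψ * charDegree (ψ : G → ℂ)) := by
    rw [← hdeg]
    exact hH.mul hμ
  -- some term is odd
  have hex : ∃ ψ : IrrCharacter G, Odd (m ψ * charDegree (ψ : G → ℂ)) := by
    by_contra hcon
    push Not at hcon
    have : Even (∑ ψ : IrrCharacter G, m ψ * charDegree (ψ : G → ℂ)) := by
      apply Finset.even_sum
      intro ψ _
      exact Nat.not_odd_iff_even.mp (hcon ψ)
    exact (Nat.not_odd_iff_even.mpr this) hoddsum
  obtain ⟨ψ, hψ⟩ := hex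
  rw [Nat.odd_mul] at hψ
  refine ⟨ψ, hψ.2, ?_⟩
  show classInner (resFun H (ψ : G → ℂ)) (μ : H → ℂ) ≠ 0
  have hfr := frobenius_reciprocity H (μ : H → ℂ)
    (IsCharacter.isClassFunction (IsIrrCharacter.isCharacter ψ.2))
  rw [hcoef ψ] at hfr
  have hm0 : (m ψ : ℂ) ≠ 0 := by
    have : m ψ ≠ 0 := by
      intro h0
      rw [h0] at hψ
      exact absurd hψ.1 (by simp)
    exact_mod_cast this
  intro h0
  apply hm0
  rw [hfr, ← classInner_conj_symm]
  have : classInner (fun h : H => (ψ : G → ℂ) h) (μ : H → ℂ) = 0 := h0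
  rw [this, map_zero]

end Cfsg.Agent.Lib.Helper27.RO
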