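/-
helper27: S4581 leaf (T4A) core (planner helper5): step for a normal 2-subgroup `Q` with nontrivial
squares; the cited leaves (SEP) and (KERB) enter as hypotheses, (F8) is imported.
-/
import Mathlib
import Cfsg.Prelude.Def_Blocks
import Cfsg.Agent.Lib.Helper6.Clifford
import Cfsg.Agent.Lib.Helper6.LinChar
import Cfsg.Agent.Lib.Helper25.Inflate
import Cfsg.Agent.Lib.Helper5.RODefs
import Cfsg.Agent.Lib.Helper27.ROF8

set_option autoImplicit false

namespace Cfsg.Agent.Lib.Helper27.RO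

open Cfsg Cfsg.Agent.Lib.Helper6 Cfsg.Agent.Lib.Helper5.RO Cfsg.Agent.CharLib
open scoped ComplexConjugate

universe u

/-- a linear constituent `μ` of the restriction of `χ` to `H` is trivial on the elements `k` of `H`
with `χ (k * h) = χ h` for all `h`. -/
theorem linear_constituent_apply_eq_one {G : Type u} [Group G] [Finite G] (H : Subgroup G)
    (χ : G → ℂ) (μ : IrrCharacter H) (hμ1 : (μ : H → ℂ) 1 = 1) (k : H)
    (htr : ∀ h : G, χ ((k : G) * h) = χ h)
    (hne : haveI := Fintype.ofFinite H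
      classInner (resFun H χ) (μ : H → ℂ) ≠ 0) : (μ : H → ℂ) k = 1 := by
  classical
  let _ : Fintype H := Fintype.ofFinite H
  have hne' : classInner (resFun H χ) (μ : H → ℂ) ≠ 0 := hne
  set φ : H →* ℂˣ := linCharUnitsHom (IsIrrCharacter.isCharacter μ.2) hμ1 with hφ
  have hφa : ∀ h : H, ((φ h : ℂˣ) : ℂ) = (μ : H → ℂ) h := fun h => rfl
  have hmul : ∀ h : H, (μ : H → ℂ) (k * h) = (μ : H → ℂ) k * (μ : H → ℂ) h := by
    intro h
    rw [← hφa, ← hφa, ← hφa, map_mul, Units.val_mul]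
  set S : ℂ := ∑ h : H, resFun H χ h * conj ((μ : H → ℂ) h) with hS
  have hS0 : S ≠ 0 := by
    intro h0
    apply hne'
    unfold classInner
    rw [← hS, h0, mul_zero]
  have hS2 : S = conj ((μ : H → ℂ) k) * S := by
    rw [hS]
    conv_lhs => rw [← Equiv.sum_comp (Equiv.mulLeft k)]
    rw [Finset.mul_sum]
    apply Finset.sum_congr rfl
    intro h _
    rw [Equiv.coe_mulLeft, hmul, map_mul, resFun_apply, resFun_apply, Subgroup.coe_mul, htr]
    ring
  have h1 : conj ((μ : H → ℂ) k) = 1 := by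
    have h2 : (conj ((μ : H → ℂ) k) - 1) * S = 0 := by
      rw [sub_mul, one_mul, ← hS2, sub_self]
    rcases mul_eq_zero.mp h2 with h3 | h3
    · exact sub_eq_zero.mp h3
    · exact absurd h3 hS0
  have := congrArg conj h1
  rw [Complex.conj_conj, map_one] at this
  exact this

/-- (T4A), with the cited leaves (SEP) and (KERB) as hypotheses. -/
theorem sqComm_of_sq_normal_two_core {G : Type u} [Group G] [Finite G] (P : Sylow 2 G)
    (Q : Subgroup G) [Q.Normal] (hQ : IsPGroup 2 Q) (hall : AllOddReal G)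
    (ih : AllSqComm (G ⧸ sqSub Q))
    (hSEP : ∀ x : ↥(P : Subgroup G), x ∉ commutator ↥(P : Subgroup G) →
      ∃ μ : IrrCharacter ↥(P : Subgroup G), (μ : ↥(P : Subgroup G) → ℂ) 1 = 1 ∧
        (μ : ↥(P : Subgroup G) → ℂ) x ≠ 1)
    (hKERB : ∀ χ : IrrCharacter G, (∀ g : G, ((χ : G → ℂ) g).im = 0) →
      Odd (charDegree (χ : G → ℂ)) → ∀ k ∈ sqSub Q, (χ : G → ℂ) k = (χ : G → ℂ) 1) :
    SqComm (P : Subgroup G) := by
  classical
  have hQP : Q ≤ (P : Subgroup G) := hQ.le_sylow_of_normal P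
  -- Step A: the squares of `Q` lie in `P'`
  have hA : sqSub Q ≤ ⁅(P : Subgroup G), (P : Subgroup G)⁆ := by
    unfold sqSub
    rw [Subgroup.closure_le]
    rintro z ⟨y, hy, rfl⟩
    by_contra hcon
    have hyP : y ∈ (P : Subgroup G) := hQP hy
    set k : ↥(P : Subgroup G) := ⟨y ^ 2, Subgroup.pow_mem _ hyP 2⟩ with hk
    have hk' : k ∉ commutator ↥(P : Subgroup G) := by
      intro hmem
      apply hcon
      rw [← Subgroup.map_subtype_commutator]
      exact ⟨k, hmem, rfl⟩
    obtain ⟨μ, hμ1, hμk⟩ := hSEP k hk'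
    have hμodd : Odd (charDegree (μ : ↥(P : Subgroup G) → ℂ)) := by
      unfold charDegree
      rw [hμ1]
      simp
    have hidx : Odd (P : Subgroup G).index := by
      rw [← Nat.not_even_iff_odd, even_iff_two_dvd]
      exact P.not_dvd_index
    obtain ⟨χ, hχodd, hχμ⟩ := exists_odd_over_of_odd_index (P : Subgroup G) hidx μ hμodd
    have hre := hall χ hχodd
    have hker := hKERB χ hre hχodd
    obtain ⟨θ, hθ⟩ := Cfsg.Agent.Lib.Helper25.exists_inflateIrr_eq (sqSub Q) χ hker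
    have htr : ∀ h : G, (χ : G → ℂ) ((k : G) * h) = (χ : G → ℂ) h := by
      intro h
      rw [← hθ, Cfsg.Agent.Lib.Helper25.inflateIrr_apply, Cfsg.Agent.Lib.Helper25.inflateIrr_apply]
      rw [QuotientGroup.mk_mul, (QuotientGroup.eq_one_iff _).mpr (sq_mem_sqSub Q hy), one_mul]
    exact hμk (linear_constituent_apply_eq_one (P : Subgroup G) (χ : G → ℂ) μ hμ1 k htr hχμ)
  -- Step B: descend from the quotient
  intro x hx
  have hsurj := QuotientGroup.mk'_surjective (sqSub Q)
  have h1 := ih (P.mapSurjective hsurj) (QuotientGroup.mk' (sqSub Q) x)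
    (Subgroup.mem_map_of_mem _ hx)
  rw [Sylow.coe_mapSurjective, ← Subgroup.map_commutator] at h1
  obtain ⟨c, hc, hcx⟩ := h1
  have h2 : c⁻¹ * x ^ 2 ∈ sqSub Q := by
    rw [← QuotientGroup.eq]
    rw [QuotientGroup.mk'_apply, QuotientGroup.mk'_apply] at hcx
    rw [hcx, QuotientGroup.mk_pow]
  have h3 : x ^ 2 = c * (c⁻¹ * x ^ 2) := by group
  rw [h3]
  exact Subgroup.mul_mem _ hc (hA h2)

end Cfsg.Agent.Lib.Helper27.RO
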