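/-
helper27: S4581 leaf (T4A) (planner helper5): step for a normal 2-subgroup `Q` with nontrivial
squares.  Glue of `ROT4ACore` with the leaves (SEP) (helper29) and (KERB) (helper22).
-/
import Mathlib
import Cfsg.Prelude.Def_Blocks
import Cfsg.Agent.Lib.Helper6.Clifford
import Cfsg.Agent.Lib.Helper5.RODefs
import Cfsg.Agent.Lib.Helper27.ROT4ACore
import Cfsg.Agent.Lib.Helper29.ROSEP
import Cfsg.Agent.Lib.Helper22.ROKERB

set_option autoImplicit false

namespace Cfsg.Agent.Lib.Helper27.RO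

open Cfsg Cfsg.Agent.Lib.Helper6 Cfsg.Agent.Lib.Helper5.RO

universe u

/-- (T4A) step for a normal 2-subgroup `Q` with nontrivial squares. -/
theorem sqComm_of_sq_normal_two {G : Type u} [Group G] [Finite G] (P : Sylow 2 G)
    (Q : Subgroup G) [Q.Normal] (hQ : IsPGroup 2 Q) (hall : AllOddReal G)
    (ih : AllSqComm (G ⧸ sqSub Q)) : SqComm (P : Subgroup G) :=
  sqComm_of_sq_normal_two_core P Q hQ hall ih
    (fun x hx => Cfsg.Agent.Lib.Helper29.RO.exists_linear_ne_one x hx)
    (fun χ hre hodd => Cfsg.Agent.Lib.Helper22.RO.ker_of_sq_normal_two Q hQ χ hre hodd)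

end Cfsg.Agent.Lib.Helper27.RO
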