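/-
helper27: Schur multiplier of the Suzuki groups `Sz(q)`, `q ≥ 32` (Alperin–Gorenstein).
Part A: field lemmas.  Bi-additive pairings `F × F → Y` invariant under multiplication by `(u, v)` are
trivial for suitable `(u, v)`: the set of "adjoint pairs" is a subring of `F × F`.
-/
import Mathlib

set_option autoImplicit false

namespace Cfsg.Agent.Lib.Helper27.SzMult

universe w

/-- every bi-additive pairing `F × F → Y` with `γ (u a) (v b) = γ a b` is trivial -/
def NoPairing (F : Type*) [Field F] (u v : F) : Prop :=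
  ∀ (Y : Type w) [Group Y] (γ : F → F → Y), (∀ a a' b, γ (a + a') b = γ a b * γ a' b) →
    (∀ a b b', γ a (b + b') = γ a b * γ a b') → (∀ a b, γ (u * a) (v * b) = γ a b) →
    ∀ a b, γ a b = 1

section Adj

variable {F : Type*} [Field F] {Y : Type w} [Group Y] (γ : F → F → Y)

/-- adjoint pairs of a pairing -/
def Adj (c c' : F) : Prop := ∀ a b, γ (c * a) b = γ a (c' * b)

variable {γ}
variable (hl : ∀ a a' b, γ (a + a') b = γ a b * γ a' b) (hr : ∀ a b b', γ a (b + b') = γ a b * γ a b')

include hl in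
theorem zero_left (b : F) : γ 0 b = 1 := by
  have := hl 0 0 b
  rw [add_zero] at this
  exact (mul_eq_left.mp this.symm)

include hr in
theorem zero_right (a : F) : γ a 0 = 1 := by
  have := hr a 0 0
  rw [add_zero] at this
  exact (mul_eq_left.mp this.symm)

include hl hr in
theorem Adj.add {c c' d d' : F} (h1 : Adj γ c c') (h2 : Adj γ d d') : Adj γ (c + d) (c' + d') := by
  intro a b
  rw [add_mul, hl, h1, h2, ← hr, ← add_mul]

theorem Adj.mul {c c' d d' : F} (h1 : Adj γ c c') (h2 : Adj γ d d') : Adj γ (c * d) (c' * d') := by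
  intro a b
  rw [mul_assoc, h1, h2, ← mul_assoc, mul_comm d' c']

theorem Adj.one : Adj γ 1 1 := by
  intro a b
  rw [one_mul, one_mul]

theorem Adj.pow {c c' : F} (h1 : Adj γ c c') (k : ℕ) : Adj γ (c ^ k) (c' ^ k) := by
  induction k with
  | zero => simpa using Adj.one
  | succ k ih => rw [pow_succ, pow_succ]; exact ih.mul h1

include hl in
theorem trivial_of_adj_zero {e : F} (h : Adj γ 0 e) (he : e ≠ 0) (a b : F) : γ a b = 1 := by
  have h1 := h a (e⁻¹ * b)
  rw [zero_mul, zero_left hl, ← mul_assoc, mul_inv_cancel₀ he, one_mul] at h1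
  exact h1.symm

theorem adj_of_invariant {u v : F} (hv : v ≠ 0) (hinv : ∀ a b, γ (u * a) (v * b) = γ a b) :
    Adj γ u v⁻¹ := by
  intro a b
  have := hinv a (v⁻¹ * b)
  rw [← mul_assoc, mul_inv_cancel₀ hv, one_mul] at this
  exact this

end Adj

section Field

variable {F : Type*} [Field F] [Fintype F]

theorem exists_not_mem_of_card_lt [DecidableEq F] (s : Finset F) (h : s.card < Fintype.card F) :
    ∃ c, c ∉ s := by
  by_contra hcon
  push Not at hcon
  have : s = Finset.univ := Finset.eq_univ_iff_forall.mpr hcon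
  rw [this, Finset.card_univ] at h
  exact lt_irrefl _ h

/-- invariant pairings for `(u, u)`, `u` a generator of the multiplicative group -/
theorem noPairing_self (h2 : (2 : F) = 0) (hcard : 5 ≤ Fintype.card F) {u : F} (hu : u ≠ 0)
    (hgen : ∀ c : F, c ≠ 0 → ∃ k : ℕ, c = u ^ k) : NoPairing.{w} F u u := by
  classical
  intro Y _ γ hl hr hinv
  by_contra hne
  push Not at hne
  obtain ⟨a₀, b₀, hab⟩ := hne
  have hadj : ∀ c : F, c ≠ 0 → Adj γ c c⁻¹ := by
    intro c hc
    obtain ⟨k, rfl⟩ := hgen c hc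
    rw [← inv_pow]
    exact (adj_of_invariant hu hinv).pow k
  have hchar : ∀ x : F, x + x = 0 := fun x => by linear_combination x * h2
  have hroot : ∀ c : F, c ≠ 0 → c ≠ 1 → c ^ 2 + c + 1 = 0 := by
    intro c hc0 hc1
    have hc1' : c + 1 ≠ 0 := by
      intro h
      apply hc1
      linear_combination h - hchar 1
    have h1 : Adj γ (c + 1) (c⁻¹ + 1) := (hadj c hc0).add hl hr Adj.one
    have h3 := h1.add hl hr (hadj (c + 1) hc1')
    rw [hchar] at h3
    by_contra hne
    apply hab
    apply trivial_of_adj_zero hl h3 _ a₀ b₀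
    intro he
    apply hne
    field_simp at he
    linear_combination he - c * h2
  obtain ⟨c₁, hc₁⟩ := exists_not_mem_of_card_lt ({0, 1} : Finset F) (by
    have : ({0, 1} : Finset F).card ≤ 2 := Finset.card_insert_le _ _
    omega)
  obtain ⟨c₂, hc₂⟩ := exists_not_mem_of_card_lt ({0, 1, c₁, c₁ + 1} : Finset F) (by
    have : ({0, 1, c₁, c₁ + 1} : Finset F).card ≤ 4 := Finset.card_le_four
    omega)
  simp only [Finset.mem_insert, Finset.mem_singleton, not_or] at hc₁ hc₂
  have e1 := hroot c₁ hc₁.1 hc₁.2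
  have e2 := hroot c₂ hc₂.1 hc₂.2.1
  have e3 : (c₂ + c₁) * (c₂ + c₁ + 1) = 0 := by
    linear_combination e1 + e2 + (c₁ * c₂ - 1) * h2
  rcases mul_eq_zero.mp e3 with h | h
  · apply hc₂.2.2.1
    linear_combination h - hchar c₁
  · apply hc₂.2.2.2
    linear_combination h - hchar (c₁ + 1)

/-- invariant pairings for `(u, u σ(u))`, `σ(x) = x ^ r`, when the field is large -/
theorem noPairing_twist (h2 : (2 : F) = 0) (σ : F →+* F) (r : ℕ) (hr1 : 2 ≤ r)
    (hσ : ∀ x, σ x = x ^ r) (hcard : 2 * r + 4 < Fintype.card F) {u : F} (hu : u ≠ 0)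
    (hgen : ∀ c : F, c ≠ 0 → ∃ k : ℕ, c = u ^ k) : NoPairing.{w} F u (u * σ u) := by
  classical
  intro Y _ γ hl hr hinv
  by_contra hne
  push Not at hne
  obtain ⟨a₀, b₀, hab⟩ := hne
  have hσ0 : ∀ x : F, x ≠ 0 → σ x ≠ 0 := fun x hx h => hx ((map_eq_zero σ).mp h)
  have hadj : ∀ c : F, c ≠ 0 → Adj γ c (c * σ c)⁻¹ := by
    intro c hc
    obtain ⟨k, rfl⟩ := hgen c hc
    rw [map_pow, ← mul_pow, ← inv_pow]
    exact (adj_of_invariant (mul_ne_zero hu (hσ0 u hu)) hinv).pow k
  have hchar : ∀ x : F, x + x = 0 := fun x => by linear_combination x * h2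
  have hroot : ∀ c : F, c ≠ 0 → c ≠ 1 →
      c ^ 2 * σ c ^ 2 + c ^ 2 * σ c + c * σ c ^ 2 + c * σ c + c + σ c + 1 = 0 := by
    intro c hc0 hc1
    have hc1' : c + 1 ≠ 0 := by
      intro h
      apply hc1
      linear_combination h - hchar 1
    have h1 : Adj γ (c + 1) ((c * σ c)⁻¹ + 1) := (hadj c hc0).add hl hr Adj.one
    have h3 := h1.add hl hr (hadj (c + 1) hc1')
    rw [hchar] at h3
    by_contra hne
    apply hab
    apply trivial_of_adj_zero hl h3 _ a₀ b₀
    intro he
    apply hne
    have ht0 := hσ0 c hc0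
    have ht1 : σ c + 1 ≠ 0 := by
      have := hσ0 (c + 1) hc1'
      rwa [map_add, map_one] at this
    rw [map_add, map_one] at he
    field_simp at he
    linear_combination he - (c * σ c) * h2
  -- the polynomial
  let p : Polynomial F := Polynomial.X ^ (2 * r + 2) + Polynomial.X ^ (r + 2) +
    Polynomial.X ^ (2 * r + 1) + Polynomial.X ^ (r + 1) + Polynomial.X + Polynomial.X ^ r + 1
  have hp0 : p ≠ 0 := by
    intro h
    have : Polynomial.eval 0 p = 0 := by rw [h]; simp
    simp only [p, Polynomial.eval_add, Polynomial.eval_pow, Polynomial.eval_X, Polynomial.eval_one] at this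
    rw [zero_pow (by omega), zero_pow (by omega), zero_pow (by omega), zero_pow (by omega),
      zero_pow (by omega)] at this
    simp at this
  have hdeg : p.natDegree ≤ 2 * r + 2 := by
    simp only [p]
    compute_degree
    all_goals omega
  have hsub : (Finset.univ.filter (fun c : F => c ≠ 0 ∧ c ≠ 1)).val ⊆ p.roots := by
    intro c hc
    rw [Finset.mem_val, Finset.mem_filter] at hc
    rw [Polynomial.mem_roots hp0, Polynomial.IsRoot.def]
    simp only [p, Polynomial.eval_add, Polynomial.eval_pow, Polynomial.eval_X, Polynomial.eval_one]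
    have := hroot c hc.2.1 hc.2.2
    rw [hσ] at this
    rw [← this]
    ring
  have hle := Polynomial.card_le_degree_of_subset_roots hsub
  have hcnt : Fintype.card F - 2 ≤ (Finset.univ.filter (fun c : F => c ≠ 0 ∧ c ≠ 1)).card := by
    have h1 : Finset.univ.filter (fun c : F => c ≠ 0 ∧ c ≠ 1) = Finset.univ \ {0, 1} := by
      ext c
      simp [not_or]
    rw [h1, Finset.card_sdiff_of_subset (Finset.subset_univ _), Finset.card_univ]
    have : ({0, 1} : Finset F).card ≤ 2 := Finset.card_insert_le _ _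
    omega
  omega

/-- invariant additive functionals are trivial -/
theorem functional_trivial {Y : Type w} [Group Y] (hcard : 3 ≤ Fintype.card F) {u : F}
    (hgen : ∀ c : F, c ≠ 0 → ∃ k : ℕ, c = u ^ k) (f : F → Y)
    (hadd : ∀ a a', f (a + a') = f a * f a') (hinv : ∀ a, f (u * a) = f a) (a : F) : f a = 1 := by
  classical
  have h0 : f 0 = 1 := by
    have := hadd 0 0
    rw [add_zero] at this
    exact mul_eq_left.mp this.symm
  have hpow : ∀ k : ℕ, ∀ a, f (u ^ k * a) = f a := by
    intro k
    induction k with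
    | zero => intro a; rw [pow_zero, one_mul]
    | succ k ih => intro a; rw [pow_succ, mul_assoc, ih, hinv]
  have hconst : ∀ c : F, c ≠ 0 → f c = f 1 := by
    intro c hc
    obtain ⟨k, rfl⟩ := hgen c hc
    have := hpow k 1
    rwa [mul_one] at this
  obtain ⟨c, hc⟩ := exists_not_mem_of_card_lt ({0, -1} : Finset F) (by
    have : ({0, -1} : Finset F).card ≤ 2 := Finset.card_insert_le _ _
    omega)
  simp only [Finset.mem_insert, Finset.mem_singleton, not_or] at hc
  have hc1 : c + 1 ≠ 0 := fun h => hc.2 (by linear_combination h)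
  have h1 := hadd c 1
  rw [hconst c hc.1, hconst (c + 1) hc1] at h1
  have h11 : f 1 = 1 := mul_eq_left.mp h1.symm
  by_cases ha : a = 0
  · rw [ha, h0]
  · rw [hconst a ha, h11]

end Field

end Cfsg.Agent.Lib.Helper27.SzMult
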