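/-
helper27: Schur multiplier of the Ree groups `²G₂(q)`, `q ≥ 27` (Alperin–Gorenstein).
Part A: the Frobenius criterion.  Over a finite field of characteristic `p`, every bi-additive pairing
invariant under multiplication by `(u, v)` is trivial unless `v⁻¹` is a Galois conjugate of `u`.
-/
import Cfsg.Agent.Lib.Helper27.SzMultA

set_option autoImplicit false

namespace Cfsg.Agent.Lib.Helper27.ReeMult

open Cfsg.Agent.Lib.Helper27.SzMult

universe w

section Adj

variable {F : Type*} [Field F] {Y : Type w} [Group Y] {γ : F → F → Y}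
variable (hl : ∀ a a' b, γ (a + a') b = γ a b * γ a' b) (hr : ∀ a b b', γ a (b + b') = γ a b * γ a b')

include hl hr in
theorem adj_zero : Adj γ 0 0 := by
  intro a b
  rw [zero_mul, zero_mul, zero_left hl, zero_right hr]

include hl hr in
theorem adj_natCast (n : ℕ) : Adj γ (n : F) (n : F) := by
  induction n with
  | zero => simpa using adj_zero hl hr
  | succ n ih =>
    rw [Nat.cast_succ]
    exact ih.add hl hr Adj.one

include hl hr in
theorem adj_aeval (p : ℕ) [Fact p.Prime] [Algebra (ZMod p) F] {c c' : F} (h : Adj γ c c')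
    (P : Polynomial (ZMod p)) :
    Adj γ (Polynomial.aeval c P) (Polynomial.aeval c' P) := by
  induction P using Polynomial.induction_on with
  | C a =>
    rw [Polynomial.aeval_C, Polynomial.aeval_C]
    have : algebraMap (ZMod p) F a = ((a.val : ℕ) : F) := by
      conv_lhs => rw [← ZMod.natCast_zmod_val a]
      rw [map_natCast]
    rw [this]
    exact adj_natCast hl hr _
  | add P Q hP hQ =>
    rw [map_add, map_add]
    exact hP.add hl hr hQ
  | monomial n a ih =>
    rw [pow_succ, ← mul_assoc, map_mul _ (Polynomial.C a * Polynomial.X ^ n),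
      map_mul _ (Polynomial.C a * Polynomial.X ^ n), Polynomial.aeval_X, Polynomial.aeval_X]
    exact ih.mul h

end Adj

section Field

variable {F : Type*} [Field F] [Fintype F]

/-- **Frobenius criterion**: invariant pairings for `(u, v)` are trivial unless `u ^ (p ^ k) * v = 1`
for some `k`. -/
theorem noPairing_of_frobenius (p : ℕ) [Fact p.Prime] [CharP F p] {u v : F} (hv : v ≠ 0)
    (h : ∀ k : ℕ, u ^ (p ^ k) * v ≠ 1) : NoPairing.{w} F u v := by
  classical
  intro Y _ γ hl hr hinv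
  by_contra hne
  push Not at hne
  obtain ⟨a₀, b₀, hab⟩ := hne
  have hadj : Adj γ u v⁻¹ := adj_of_invariant hv hinv
  let _ : Algebra (ZMod p) F := ZMod.algebra F p
  have hint : IsIntegral (ZMod p) u := Algebra.IsIntegral.isIntegral u
  have h1 := adj_aeval hl hr p hadj (minpoly (ZMod p) u)
  rw [minpoly.aeval] at h1
  have hroot : Polynomial.aeval v⁻¹ (minpoly (ZMod p) u) = 0 := by
    by_contra hne
    exact hab (trivial_of_adj_zero hl h1 hne a₀ b₀)
  haveI : Normal (ZMod p) F := IsGalois.to_normal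
  obtain ⟨σ, hσ⟩ := minpoly.exists_algEquiv_of_root' hint.isAlgebraic hroot
  obtain ⟨⟨n, hn⟩, hn'⟩ := (FiniteField.bijective_frobeniusAlgEquivOfAlgebraic_pow (ZMod p) F).2 σ
  simp only at hn'
  have h2 : σ u = u ^ (p ^ n) := by
    rw [← hn', AlgEquiv.coe_pow, FiniteField.coe_frobeniusAlgEquivOfAlgebraic_iterate, ZMod.card]
  apply h n
  rw [← h2, hσ, inv_mul_cancel₀ hv]

/-- the Frobenius criterion, with the exponents below the degree of the field -/
theorem noPairing_of_frobenius_lt (p : ℕ) [Fact p.Prime] [CharP F p] (n : ℕ)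
    (hcard : Fintype.card F = p ^ n) {u v : F} (hv : v ≠ 0)
    (h : ∀ k < n, u ^ (p ^ k) * v ≠ 1) : NoPairing.{w} F u v := by
  have hp : 1 < p := (Fact.out : p.Prime).one_lt
  have hn : 0 < n := by
    rcases Nat.eq_zero_or_pos n with h0 | h0
    · rw [h0, pow_zero] at hcard
      have := Fintype.one_lt_card (α := F)
      omega
    · exact h0
  apply noPairing_of_frobenius p hv
  intro k
  have hk : u ^ (p ^ k) = u ^ (p ^ (k % n)) := by
    have e1 : p ^ k = (Fintype.card F) ^ (k / n) * p ^ (k % n) := by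
      rw [hcard, ← pow_mul, ← pow_add, Nat.div_add_mod]
    rw [e1, pow_mul, FiniteField.pow_card_pow]
  rw [hk]
  exact h _ (Nat.mod_lt k hn)

/-- invariant pairings for powers of a generator of the multiplicative group -/
theorem noPairing_pow (p : ℕ) [Fact p.Prime] [CharP F p] (n : ℕ)
    (hcard : Fintype.card F = p ^ n) {g : F} (hg : orderOf g = Fintype.card F - 1) (x y : ℕ)
    (h : ∀ k < n, ¬ (Fintype.card F - 1) ∣ x * p ^ k + y) : NoPairing.{w} F (g ^ x) (g ^ y) := by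
  have hg0 : g ≠ 0 := by
    rintro rfl
    have h1 : (0 : F) ^ (Fintype.card F - 1) = 1 := by rw [← hg]; exact pow_orderOf_eq_one _
    have h2 := Fintype.one_lt_card (α := F)
    rw [zero_pow (by omega)] at h1
    exact zero_ne_one h1
  apply noPairing_of_frobenius_lt p n hcard (pow_ne_zero _ hg0)
  intro k hk h1
  apply h k hk
  rw [← hg]
  apply orderOf_dvd_of_pow_eq_one
  rw [pow_add, pow_mul]
  exact h1

end Field

section Arith

variable {Q s T : ℕ}

theorem arith1 (hs : s * s = 3 * (Q + 1)) (h9 : 9 ≤ s) (hT : 3 * T ≤ Q + 1) : ¬ Q ∣ 1 * T + 1 := by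
  have h1 : 81 ≤ s * s := Nat.mul_le_mul h9 h9
  apply Nat.not_dvd_of_pos_of_lt <;> omega

theorem arith_le (hs : s * s = 3 * (Q + 1)) (h9 : 9 ≤ s) : 3 * s ≤ Q + 1 := by
  have h1 : 9 * s ≤ s * s := Nat.mul_le_mul_right s h9
  omega

theorem arith2 (hs : s * s = 3 * (Q + 1)) (h9 : 9 ≤ s) (hT : 3 * T ≤ Q + 1) :
    ¬ Q ∣ 1 * T + (s + 1) := by
  have h1 : 81 ≤ s * s := Nat.mul_le_mul h9 h9
  have h2 := arith_le hs h9
  apply Nat.not_dvd_of_pos_of_lt <;> omega

theorem arith3 (hs : s * s = 3 * (Q + 1)) (h9 : 9 ≤ s) (hT : 3 * T ≤ Q + 1) :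
    ¬ Q ∣ 1 * T + (s + 2) := by
  have h1 : 81 ≤ s * s := Nat.mul_le_mul h9 h9
  have h2 := arith_le hs h9
  apply Nat.not_dvd_of_pos_of_lt <;> omega

theorem arith4 (hs : s * s = 3 * (Q + 1)) (h9 : 9 ≤ s) (hT : 3 * T ≤ Q + 1) :
    ¬ Q ∣ (s + 1) * T + (s + 1) := by
  intro hd
  obtain ⟨r, rfl⟩ : ∃ r, s = r + 1 := ⟨s - 1, by omega⟩
  have h1 : 81 ≤ (r + 1) * (r + 1) := Nat.mul_le_mul h9 h9
  have e : r * ((r + 1 + 1) * T + (r + 1 + 1)) = Q * (3 * (T + 1)) + 2 * (T + 1) := by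
    have : r * (r + 1 + 1) = 3 * Q + 2 := by
      have : (r + 1) * (r + 1) = r * (r + 1 + 1) + 1 := by ring
      omega
    calc r * ((r + 1 + 1) * T + (r + 1 + 1)) = (r * (r + 1 + 1)) * (T + 1) := by ring
      _ = (3 * Q + 2) * (T + 1) := by rw [this]
      _ = Q * (3 * (T + 1)) + 2 * (T + 1) := by ring
  have h2 : Q ∣ r * ((r + 1 + 1) * T + (r + 1 + 1)) := Dvd.dvd.mul_left hd r
  rw [e] at h2
  have h3 : Q ∣ 2 * (T + 1) := (Nat.dvd_add_right (Dvd.intro _ rfl)).mp h2
  revert h3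
  apply Nat.not_dvd_of_pos_of_lt <;> omega

theorem arith5 (hs : s * s = 3 * (Q + 1)) (h9 : 9 ≤ s) (hT : 3 * T ≤ Q + 1) :
    ¬ Q ∣ (s + 2) * T + (s + 2) := by
  intro hd
  obtain ⟨r, rfl⟩ : ∃ r, s = r + 2 := ⟨s - 2, by omega⟩
  have h1 : 81 ≤ (r + 2) * (r + 2) := Nat.mul_le_mul h9 h9
  have e : r * ((r + 2 + 2) * T + (r + 2 + 2)) + (T + 1) = Q * (3 * (T + 1)) := by
    have : r * (r + 2 + 2) + 1 = 3 * Q := by
      have : (r + 2) * (r + 2) = r * (r + 2 + 2) + 4 := by ring
      omega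
    calc r * ((r + 2 + 2) * T + (r + 2 + 2)) + (T + 1) = (r * (r + 2 + 2) + 1) * (T + 1) := by ring
      _ = (3 * Q) * (T + 1) := by rw [this]
      _ = Q * (3 * (T + 1)) := by ring
  have h2 : Q ∣ r * ((r + 2 + 2) * T + (r + 2 + 2)) := Dvd.dvd.mul_left hd r
  have h3 : Q ∣ T + 1 := (Nat.dvd_add_right h2).mp (e ▸ Dvd.intro _ rfl)
  have h4 := arith1 hs h9 hT
  rw [one_mul] at h4
  exact h4 h3

end Arith

end Cfsg.Agent.Lib.Helper27.ReeMult
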