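/-
helper27: Schur multiplier of the Ree groups `²G₂(q)`, `q ≥ 27` (Alperin–Gorenstein).
Part B: the abstract local theorem.  A central extension `E` of the Ree 3-group (given by three
field coordinates `τ υ ν` with the multiplication law of `U¹`) by a central subgroup `Z` of exponent 3,
with automorphisms acting like a generator of the torus and like the involution of the torus,
satisfies `Z ∩ E' = 1`.
-/
import Cfsg.Agent.Lib.Helper27.SzMultC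

set_option autoImplicit false

namespace Cfsg.Agent.Lib.Helper27.ReeMult

open Cfsg.Agent.Lib.Helper27.SzMult
open scoped commutatorElement

universe w

/-- coordinates on a central extension of the Ree 3-group -/
structure Coords {F : Type*} [Field F] {E : Type w} [Group E] (τ υ ν : E → F) (σ₀ : F → F)
    (Z : Subgroup E) : Prop where
  σ0 : σ₀ 0 = 0
  τ_mul : ∀ x y, τ (x * y) = τ x + τ y
  υ_mul : ∀ x y, υ (x * y) = υ x + υ y - σ₀ (τ y) * τ x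
  ν_mul : ∀ x y, ν (x * y) = ν x + ν y - τ y * υ x + σ₀ (τ y) * τ x * τ y - σ₀ (τ y) * τ x ^ 2
  mem_Z : ∀ x, x ∈ Z ↔ τ x = 0 ∧ υ x = 0 ∧ ν x = 0

section Main

variable {F : Type*} [Field F] {E : Type w} [Group E] {τ υ ν : E → F} {σ₀ : F → F} {Z : Subgroup E}
  (h : Coords τ υ ν σ₀ Z)

include h

theorem Coords.τ_one : τ 1 = 0 := ((h.mem_Z 1).mp Z.one_mem).1

theorem Coords.υ_one : υ 1 = 0 := ((h.mem_Z 1).mp Z.one_mem).2.1

theorem Coords.ν_one : ν 1 = 0 := ((h.mem_Z 1).mp Z.one_mem).2.2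

theorem Coords.τ_inv (x : E) : τ x⁻¹ = - τ x := by
  have := h.τ_mul x x⁻¹
  rw [mul_inv_cancel, h.τ_one] at this
  linear_combination -this

theorem Coords.υ_mul' (x : E) {y : E} (hy : τ y = 0) : υ (x * y) = υ x + υ y := by
  rw [h.υ_mul, hy, h.σ0, zero_mul, sub_zero]

theorem Coords.ν_mul' (x : E) {y : E} (hy : τ y = 0) : ν (x * y) = ν x + ν y := by
  rw [h.ν_mul, hy, h.σ0]
  ring

theorem Coords.υ_inv {x : E} (hx : τ x = 0) : υ x⁻¹ = - υ x := by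
  have := h.υ_mul' x⁻¹ hx
  rw [inv_mul_cancel, h.υ_one] at this
  linear_combination -this

theorem Coords.ν_inv {x : E} (hx : τ x = 0) : ν x⁻¹ = - ν x := by
  have := h.ν_mul' x⁻¹ hx
  rw [inv_mul_cancel, h.ν_one] at this
  linear_combination -this

/-- preimage of the derived subgroup `{(0, u, v)}` -/
def Coords.W1 : Subgroup E where
  carrier := {x | τ x = 0}
  mul_mem' := by
    intro x y hx hy
    simp only [Set.mem_ofPred_eq] at *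
    rw [h.τ_mul, hx, hy, add_zero]
  one_mem' := h.τ_one
  inv_mem' := by
    intro x hx
    simp only [Set.mem_ofPred_eq] at *
    rw [h.τ_inv, hx, neg_zero]

theorem Coords.mem_W1 {x : E} : x ∈ h.W1 ↔ τ x = 0 := Iff.rfl

/-- preimage of the centre `{(0, 0, v)}` -/
def Coords.W2 : Subgroup E where
  carrier := {x | τ x = 0 ∧ υ x = 0}
  mul_mem' := by
    rintro x y ⟨hx, hx'⟩ ⟨hy, hy'⟩
    refine ⟨h.W1.mul_mem hx hy, ?_⟩
    rw [h.υ_mul' x hy, hx', hy', add_zero]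
  one_mem' := ⟨h.τ_one, h.υ_one⟩
  inv_mem' := by
    rintro x ⟨hx, hx'⟩
    refine ⟨h.W1.inv_mem hx, ?_⟩
    rw [h.υ_inv hx, hx', neg_zero]

theorem Coords.mem_W2 {x : E} : x ∈ h.W2 ↔ τ x = 0 ∧ υ x = 0 := Iff.rfl

theorem Coords.W2_le_W1 : h.W2 ≤ h.W1 := fun _ hx => hx.1

theorem Coords.Z_le_W2 : Z ≤ h.W2 := fun x hx =>
  ⟨((h.mem_Z x).mp hx).1, ((h.mem_Z x).mp hx).2.1⟩

/-- the coordinates of a commutator with an element of `W1` -/
theorem Coords.comm_coords (x : E) {w : E} (hw : τ w = 0) :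
    τ ⁅x, w⁆ = 0 ∧ υ ⁅x, w⁆ = 0 ∧ ν ⁅x, w⁆ = τ x * υ w := by
  have e : ⁅x, w⁆ * (w * x) = x * w := by rw [commutatorElement_def]; group
  have h1 : τ ⁅x, w⁆ = 0 := by
    have := congrArg τ e
    rw [h.τ_mul, h.τ_mul, h.τ_mul] at this
    linear_combination this
  have h2 : υ ⁅x, w⁆ = 0 := by
    have := congrArg υ e
    rw [h.υ_mul, h.υ_mul, h.υ_mul, h.τ_mul, h1, hw, h.σ0] at this
    linear_combination this
  refine ⟨h1, h2, ?_⟩
  have := congrArg ν e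
  rw [h.ν_mul, h.ν_mul, h.ν_mul, h.τ_mul, h1, h2, hw, h.σ0] at this
  linear_combination this

theorem Coords.comm_mem_W1 (x y : E) : ⁅x, y⁆ ∈ h.W1 := by
  rw [h.mem_W1]
  have e : ⁅x, y⁆ * (y * x) = x * y := by rw [commutatorElement_def]; group
  have := congrArg τ e
  rw [h.τ_mul, h.τ_mul, h.τ_mul] at this
  linear_combination this

theorem Coords.comm_mem_W2 (x : E) {w : E} (hw : w ∈ h.W1) : ⁅x, w⁆ ∈ h.W2 :=
  ⟨(h.comm_coords x hw).1, (h.comm_coords x hw).2.1⟩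

theorem Coords.comm_mem_W2' {w : E} (hw : w ∈ h.W1) (x : E) : ⁅w, x⁆ ∈ h.W2 := by
  rw [← commutatorElement_inv]
  exact Subgroup.inv_mem _ (h.comm_mem_W2 x hw)

theorem Coords.comm_mem_Z (x : E) {w : E} (hw : w ∈ h.W2) : ⁅x, w⁆ ∈ Z := by
  obtain ⟨h1, h2, h3⟩ := h.comm_coords x hw.1
  rw [h.mem_Z]
  refine ⟨h1, h2, ?_⟩
  rw [h3, hw.2, mul_zero]

theorem Coords.comm_mem_Z' {w : E} (hw : w ∈ h.W2) (x : E) : ⁅w, x⁆ ∈ Z := by
  rw [← commutatorElement_inv]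
  exact Subgroup.inv_mem _ (h.comm_mem_Z x hw)

theorem Coords.comm_mem_Z_of_W1 {x w : E} (hx : x ∈ h.W1) (hw : w ∈ h.W1) : ⁅x, w⁆ ∈ Z := by
  obtain ⟨h1, h2, h3⟩ := h.comm_coords x hw
  rw [h.mem_Z]
  refine ⟨h1, h2, ?_⟩
  rw [h3, h.mem_W1.mp hx, zero_mul]

theorem Coords.mem_Z_of_W2 {x : E} (hx : x ∈ h.W2) (hν : ν x = 0) : x ∈ Z :=
  (h.mem_Z x).mpr ⟨hx.1, hx.2, hν⟩

theorem Coords.mem_W2_of_W1 {x : E} (hx : x ∈ h.W1) (hυ : υ x = 0) : x ∈ h.W2 := ⟨hx, hυ⟩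

end Main

section Theorem

variable {F : Type*} [Field F] {E : Type w} [Group E] {τ υ ν : E → F} {σ₀ : F → F} {Z : Subgroup E}

theorem comm_mul_left_general (x x' y : E) : ⁅x * x', y⁆ = x * ⁅x', y⁆ * x⁻¹ * ⁅x, y⁆ := by
  simp only [commutatorElement_def]; group

theorem comm_mul_right_general (x y y' : E) : ⁅x, y * y'⁆ = ⁅x, y⁆ * (y * ⁅x, y'⁆ * y⁻¹) := by
  simp only [commutatorElement_def]; group

theorem conj_eq_comm_mul (x w : E) : x * w * x⁻¹ = ⁅x, w⁆ * w := by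
  simp only [commutatorElement_def]; group

/-- **Abstract local theorem for the Ree 3-group.** -/
theorem ker_inf_commutator_ree (h : Coords τ υ ν σ₀ Z)
    (hsurj : ∀ t u v : F, ∃ x, τ x = t ∧ υ x = u ∧ ν x = v)
    (hZc : Z ≤ Subgroup.center E) (hZ3 : ∀ z ∈ Z, z ^ 3 = 1)
    (φ : E →* E) (c ca cb : F) (hφτ : ∀ x, τ (φ x) = c * τ x) (hφυ : ∀ x, υ (φ x) = ca * υ x)
    (hφν : ∀ x, ν (φ x) = cb * ν x) (hφZ : ∀ z ∈ Z, φ z = z) (k : ℕ) (hk : Nat.Coprime k 3)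
    (hφk : ∀ x, φ^[k] x = x)
    (ψ : E →* E) (hψτ : ∀ x, τ (ψ x) = -τ x) (hψυ : ∀ x, υ (ψ x) = υ x)
    (hψν : ∀ x, ν (ψ x) = -ν x) (hψZ : ∀ z ∈ Z, ψ z = z)
    (n1 : NoPairing.{w} F cb cb) (n2 : NoPairing.{w} F 1 (-1)) (n3 : NoPairing.{w} F ca ca)
    (n4 : NoPairing.{w} F c cb) (n5 : NoPairing.{w} F c ca) (n6 : NoPairing.{w} F c c) :
    ∀ z ∈ Z, z ∈ commutator E → z = 1 := by
  set W₁ := h.W1 with hW₁
  set W₂ := h.W2 with hW₂
  have hφW₁ : ∀ w ∈ W₁, φ w ∈ W₁ := by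
    intro w hw
    rw [hW₁, h.mem_W1] at hw ⊢
    rw [hφτ, hw, mul_zero]
  have hφW₂ : ∀ w ∈ W₂, φ w ∈ W₂ := by
    intro w hw
    rw [hW₂, h.mem_W2] at hw ⊢
    rw [hφτ, hφυ, hw.1, hw.2, mul_zero, mul_zero]
    exact ⟨rfl, rfl⟩
  have hψW₁ : ∀ w ∈ W₁, ψ w ∈ W₁ := by
    intro w hw
    rw [hW₁, h.mem_W1] at hw ⊢
    rw [hψτ, hw, neg_zero]
  have hψW₂ : ∀ w ∈ W₂, ψ w ∈ W₂ := by
    intro w hw
    rw [hW₂, h.mem_W2] at hw ⊢
    rw [hψτ, hψυ, hw.1, hw.2, neg_zero]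
    exact ⟨rfl, rfl⟩
  have hτE : ∀ x ∈ (⊤ : Subgroup E), ∀ x' ∈ (⊤ : Subgroup E), τ (x * x') = τ x + τ x' :=
    fun x _ x' _ => h.τ_mul x x'
  have hτs : ∀ a : F, ∃ x ∈ (⊤ : Subgroup E), τ x = a := by
    intro a
    obtain ⟨x, hx, -, -⟩ := hsurj a 0 0
    exact ⟨x, Subgroup.mem_top x, hx⟩
  have hυW : ∀ x ∈ W₁, ∀ x' ∈ W₁, υ (x * x') = υ x + υ x' := fun x _ x' hx' => h.υ_mul' x hx'
  have hυs : ∀ a : F, ∃ x ∈ W₁, υ x = a := by
    intro a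
    obtain ⟨x, hx, hx', -⟩ := hsurj 0 a 0
    exact ⟨x, hx, hx'⟩
  have hνW : ∀ x ∈ W₂, ∀ x' ∈ W₂, ν (x * x') = ν x + ν x' := fun x _ x' hx' => h.ν_mul' x hx'.1
  have hνs : ∀ a : F, ∃ x ∈ W₂, ν x = a := by
    intro a
    obtain ⟨x, hx, hx', hx''⟩ := hsurj 0 0 a
    exact ⟨x, ⟨hx, hx'⟩, hx''⟩
  -- Step 1a: W₂ is abelian
  have step1a : ∀ x ∈ W₂, ∀ y ∈ W₂, ⁅x, y⁆ = 1 := by
    apply pairing_trivial W₂ W₂ ν ν hνW hνs hνW hνs (fun x y => ⁅x, y⁆) ?_ ?_ ?_ ?_ φ hφW₂ hφW₂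
      cb cb (fun x _ => hφν x) (fun x _ => hφν x) ?_ n1
    · intro x _ x' hx' y _
      exact comm_mul_left_of_central (hZc (h.comm_mem_Z' hx' y))
    · intro x _ y _ y' hy'
      exact comm_mul_right_of_central (hZc (h.comm_mem_Z x hy'))
    · intro x hx y _ hb
      exact comm_eq_one_of_central_left (hZc (h.mem_Z_of_W2 hx hb))
    · intro x _ y hy hb
      exact comm_eq_one_of_central_right (hZc (h.mem_Z_of_W2 hy hb))
    · intro x _ y hy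
      show ⁅φ x, φ y⁆ = ⁅x, y⁆
      rw [← map_commutatorElement, hφZ _ (h.comm_mem_Z x hy)]
  -- Step 1b: W₂ centralizes W₁
  have step1b : ∀ x ∈ W₁, ∀ y ∈ W₂, ⁅x, y⁆ = 1 := by
    apply pairing_trivial W₁ W₂ υ ν hυW hυs hνW hνs (fun x y => ⁅x, y⁆) ?_ ?_ ?_ ?_ ψ hψW₁ hψW₂
      1 (-1) (fun x _ => by rw [hψυ, one_mul]) (fun x _ => by rw [hψν, neg_one_mul]) ?_ n2
    · intro x _ x' _ y hy
      exact comm_mul_left_of_central (hZc (h.comm_mem_Z x' hy))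
    · intro x _ y _ y' hy'
      exact comm_mul_right_of_central (hZc (h.comm_mem_Z x hy'))
    · intro x hx y hy ha
      exact step1a x (h.mem_W2_of_W1 hx ha) y hy
    · intro x _ y hy hb
      exact comm_eq_one_of_central_right (hZc (h.mem_Z_of_W2 hy hb))
    · intro x _ y hy
      show ⁅ψ x, ψ y⁆ = ⁅x, y⁆
      rw [← map_commutatorElement, hψZ _ (h.comm_mem_Z x hy)]
  -- Step 1c: W₁ is abelian
  have step1 : ∀ x ∈ W₁, ∀ y ∈ W₁, ⁅x, y⁆ = 1 := by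
    apply pairing_trivial W₁ W₁ υ υ hυW hυs hυW hυs (fun x y => ⁅x, y⁆) ?_ ?_ ?_ ?_ φ hφW₁ hφW₁
      ca ca (fun x _ => hφυ x) (fun x _ => hφυ x) ?_ n3
    · intro x _ x' hx' y hy
      exact comm_mul_left_of_central (hZc (h.comm_mem_Z_of_W1 hx' hy))
    · intro x hx y _ y' hy'
      exact comm_mul_right_of_central (hZc (h.comm_mem_Z_of_W1 hx hy'))
    · intro x hx y hy ha
      have := step1b y hy x (h.mem_W2_of_W1 hx ha)
      rw [← commutatorElement_inv, this, inv_one]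
    · intro x hx y hy hb
      exact step1b x hx y (h.mem_W2_of_W1 hy hb)
    · intro x hx y hy
      show ⁅φ x, φ y⁆ = ⁅x, y⁆
      rw [← map_commutatorElement, hφZ _ (h.comm_mem_Z_of_W1 hx hy)]
  have hcommW : ∀ w ∈ W₁, ∀ w' ∈ W₁, w * w' = w' * w := fun w hw w' hw' =>
    commutatorElement_eq_one_iff_mul_comm.mp (step1 w hw w' hw')
  -- Step 2: W₂ is central
  have step2 : ∀ x ∈ (⊤ : Subgroup E), ∀ w ∈ W₂, ⁅x, w⁆ = 1 := by
    apply pairing_trivial ⊤ W₂ τ ν hτE hτs hνW hνs (fun x y => ⁅x, y⁆) ?_ ?_ ?_ ?_ φ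
      (fun x _ => Subgroup.mem_top _) hφW₂ c cb (fun x _ => hφτ x) (fun x _ => hφν x) ?_ n4
    · intro x _ x' _ y hy
      exact comm_mul_left_of_central (hZc (h.comm_mem_Z x' hy))
    · intro x _ y _ y' hy'
      exact comm_mul_right_of_central (hZc (h.comm_mem_Z x hy'))
    · intro x _ y hy ha
      exact step1b x ha y hy
    · intro x _ y hy hb
      exact comm_eq_one_of_central_right (hZc (h.mem_Z_of_W2 hy hb))
    · intro x _ y hy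
      show ⁅φ x, φ y⁆ = ⁅x, y⁆
      rw [← map_commutatorElement, hφZ _ (h.comm_mem_Z x hy)]
  have hW₂c : W₂ ≤ Subgroup.center E := by
    intro w hw
    rw [Subgroup.mem_center_iff]
    intro x
    exact commutatorElement_eq_one_iff_mul_comm.mp (step2 x (Subgroup.mem_top x) w hw)
  have hN1 : nrm φ k (1 : E) = 1 := by rw [nrm_fixed φ k (map_one φ), one_pow]
  have hNinv : ∀ w ∈ W₁, nrm φ k w⁻¹ = (nrm φ k w)⁻¹ := by
    intro w hw
    have := nrm_mul φ W₁ hφW₁ hcommW k hw (W₁.inv_mem hw)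
    rw [mul_inv_cancel, hN1] at this
    exact eq_inv_of_mul_eq_one_right this.symm
  -- Step 3: the norm kills [E, W₁]
  have step3 : ∀ x ∈ (⊤ : Subgroup E), ∀ w ∈ W₁, nrm φ k ⁅x, w⁆ = 1 := by
    apply pairing_trivial ⊤ W₁ τ υ hτE hτs hυW hυs (fun x y => nrm φ k ⁅x, y⁆) ?_ ?_ ?_ ?_ φ
      (fun x _ => Subgroup.mem_top _) hφW₁ c ca (fun x _ => hφτ x) (fun x _ => hφυ x) ?_ n5
    · intro x _ x' _ y hy
      show nrm φ k ⁅x * x', y⁆ = nrm φ k ⁅x, y⁆ * nrm φ k ⁅x', y⁆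
      rw [comm_mul_left_of_central (hW₂c (h.comm_mem_W2 x' hy)),
        nrm_mul φ W₁ hφW₁ hcommW k (h.comm_mem_W1 x y) (h.comm_mem_W1 x' y)]
    · intro x _ y _ y' hy'
      show nrm φ k ⁅x, y * y'⁆ = nrm φ k ⁅x, y⁆ * nrm φ k ⁅x, y'⁆
      rw [comm_mul_right_of_central (hW₂c (h.comm_mem_W2 x hy')),
        nrm_mul φ W₁ hφW₁ hcommW k (h.comm_mem_W1 x y) (h.comm_mem_W1 x y')]
    · intro x _ y hy ha
      show nrm φ k ⁅x, y⁆ = 1
      rw [step1 x ha y hy, hN1]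
    · intro x _ y hy hb
      show nrm φ k ⁅x, y⁆ = 1
      rw [comm_eq_one_of_central_right (hW₂c (h.mem_W2_of_W1 hy hb)), hN1]
    · intro x _ y _
      show nrm φ k ⁅φ x, φ y⁆ = nrm φ k ⁅x, y⁆
      rw [← map_commutatorElement, nrm_map_eq φ W₁ hφW₁ hcommW k hφk (h.comm_mem_W1 x y)]
  have hconjW : ∀ (x : E), ∀ w ∈ W₁, x * w * x⁻¹ ∈ W₁ := by
    intro x w hw
    rw [conj_eq_comm_mul]
    exact W₁.mul_mem (h.comm_mem_W1 x w) hw
  have hNconj : ∀ (x : E), ∀ w ∈ W₁, nrm φ k (x * w * x⁻¹) = nrm φ k w := by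
    intro x w hw
    rw [conj_eq_comm_mul, nrm_mul φ W₁ hφW₁ hcommW k (h.comm_mem_W1 x w) hw,
      step3 x (Subgroup.mem_top x) w hw, one_mul]
  -- Step 4: the norm kills all commutators
  have step4 : ∀ x ∈ (⊤ : Subgroup E), ∀ y ∈ (⊤ : Subgroup E), nrm φ k ⁅x, y⁆ = 1 := by
    apply pairing_trivial ⊤ ⊤ τ τ hτE hτs hτE hτs (fun x y => nrm φ k ⁅x, y⁆) ?_ ?_ ?_ ?_ φ
      (fun x _ => Subgroup.mem_top _) (fun x _ => Subgroup.mem_top _) c c (fun x _ => hφτ x)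
      (fun x _ => hφτ x) ?_ n6
    · intro x _ x' _ y _
      show nrm φ k ⁅x * x', y⁆ = nrm φ k ⁅x, y⁆ * nrm φ k ⁅x', y⁆
      rw [comm_mul_left_general,
        nrm_mul φ W₁ hφW₁ hcommW k (hconjW x _ (h.comm_mem_W1 x' y)) (h.comm_mem_W1 x y),
        hNconj x _ (h.comm_mem_W1 x' y)]
      exact hcommW _ (nrm_mem φ W₁ hφW₁ k (h.comm_mem_W1 x' y)) _
        (nrm_mem φ W₁ hφW₁ k (h.comm_mem_W1 x y))
    · intro x _ y _ y' _
      show nrm φ k ⁅x, y * y'⁆ = nrm φ k ⁅x, y⁆ * nrm φ k ⁅x, y'⁆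
      rw [comm_mul_right_general,
        nrm_mul φ W₁ hφW₁ hcommW k (h.comm_mem_W1 x y) (hconjW y _ (h.comm_mem_W1 x y')),
        hNconj y _ (h.comm_mem_W1 x y')]
    · intro x _ y _ ha
      show nrm φ k ⁅x, y⁆ = 1
      rw [← commutatorElement_inv, hNinv _ (h.comm_mem_W1 y x), step3 y (Subgroup.mem_top y) x ha,
        inv_one]
    · intro x _ y _ ha
      exact step3 x (Subgroup.mem_top x) y ha
    · intro x _ y _
      show nrm φ k ⁅φ x, φ y⁆ = nrm φ k ⁅x, y⁆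
      rw [← map_commutatorElement, nrm_map_eq φ W₁ hφW₁ hcommW k hφk (h.comm_mem_W1 x y)]
  -- Step 5
  let K : Subgroup E :=
    { carrier := {w | w ∈ W₁ ∧ nrm φ k w = 1}
      mul_mem' := by
        rintro a b ⟨ha, ha1⟩ ⟨hb, hb1⟩
        exact ⟨W₁.mul_mem ha hb, by rw [nrm_mul φ W₁ hφW₁ hcommW k ha hb, ha1, hb1, one_mul]⟩
      one_mem' := ⟨W₁.one_mem, hN1⟩
      inv_mem' := by
        rintro a ⟨ha, ha1⟩
        exact ⟨W₁.inv_mem ha, by rw [hNinv a ha, ha1, inv_one]⟩ }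
  have hK : commutator E ≤ K := by
    rw [commutator_eq_closure, Subgroup.closure_le]
    rintro _ ⟨x, y, rfl⟩
    exact ⟨h.comm_mem_W1 x y, step4 x (Subgroup.mem_top x) y (Subgroup.mem_top y)⟩
  intro z hz hzc
  have h1 : nrm φ k z = 1 := (hK hzc).2
  rw [nrm_fixed φ k (hφZ z hz)] at h1
  exact (pow_eq_one_iff_of_coprime hk).mp ⟨h1, hZ3 z hz⟩

end Theorem

end Cfsg.Agent.Lib.Helper27.ReeMult
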