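/-
helper27: Schur multiplier of the Suzuki groups `Sz(q)`, `q ≥ 32` (Alperin–Gorenstein).
Part B: group level pairings with field coordinates; the norm map of an endomorphism on an abelian subgroup.
-/
import Cfsg.Agent.Lib.Helper27.SzMultA

set_option autoImplicit false

namespace Cfsg.Agent.Lib.Helper27.SzMult

universe w

section Pairing

variable {F : Type*} [Field F] {E : Type*} [Group E] {Y : Type w} [Group Y]

theorem coord_one (A : Subgroup E) (α : E → F) (hα : ∀ x ∈ A, ∀ x' ∈ A, α (x * x') = α x + α x') :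
    α 1 = 0 := by
  have := hα 1 A.one_mem 1 A.one_mem
  rw [mul_one] at this
  exact left_eq_add.mp this

theorem coord_inv (A : Subgroup E) (α : E → F) (hα : ∀ x ∈ A, ∀ x' ∈ A, α (x * x') = α x + α x')
    {x : E} (hx : x ∈ A) : α x⁻¹ = -α x := by
  have := hα x hx x⁻¹ (A.inv_mem hx)
  rw [mul_inv_cancel, coord_one A α hα] at this
  linear_combination -this

/-- a bimultiplicative pairing on `A × B` which factors through field coordinates and is invariant
under `φ`, acting on the coordinates by `(u, v)`, is trivial when `NoPairing u v`. -/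
theorem pairing_trivial (A B : Subgroup E) (α β : E → F)
    (hα : ∀ x ∈ A, ∀ x' ∈ A, α (x * x') = α x + α x') (hαs : ∀ a, ∃ x ∈ A, α x = a)
    (hβ : ∀ y ∈ B, ∀ y' ∈ B, β (y * y') = β y + β y') (hβs : ∀ b, ∃ y ∈ B, β y = b)
    (c : E → E → Y)
    (c_left : ∀ x ∈ A, ∀ x' ∈ A, ∀ y ∈ B, c (x * x') y = c x y * c x' y)
    (c_right : ∀ x ∈ A, ∀ y ∈ B, ∀ y' ∈ B, c x (y * y') = c x y * c x y')
    (c_kerl : ∀ x ∈ A, ∀ y ∈ B, α x = 0 → c x y = 1)
    (c_kerr : ∀ x ∈ A, ∀ y ∈ B, β y = 0 → c x y = 1)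
    (φ : E → E) (hφA : ∀ x ∈ A, φ x ∈ A) (hφB : ∀ y ∈ B, φ y ∈ B)
    (u v : F) (hφα : ∀ x ∈ A, α (φ x) = u * α x) (hφβ : ∀ y ∈ B, β (φ y) = v * β y)
    (hinv : ∀ x ∈ A, ∀ y ∈ B, c (φ x) (φ y) = c x y)
    (hbad : NoPairing.{w} F u v) : ∀ x ∈ A, ∀ y ∈ B, c x y = 1 := by
  have key1 : ∀ x ∈ A, ∀ x' ∈ A, ∀ y ∈ B, α x = α x' → c x y = c x' y := by
    intro x hx x' hx' y hy h
    have h1 : x = x' * (x'⁻¹ * x) := by group
    have hk : x'⁻¹ * x ∈ A := A.mul_mem (A.inv_mem hx') hx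
    have hk0 : α (x'⁻¹ * x) = 0 := by
      rw [hα _ (A.inv_mem hx') _ hx, coord_inv A α hα hx', h]; ring
    rw [h1, c_left x' hx' _ hk y hy, c_kerl _ hk y hy hk0, mul_one]
  have key2 : ∀ x ∈ A, ∀ y ∈ B, ∀ y' ∈ B, β y = β y' → c x y = c x y' := by
    intro x hx y hy y' hy' h
    have h1 : y = y' * (y'⁻¹ * y) := by group
    have hk : y'⁻¹ * y ∈ B := B.mul_mem (B.inv_mem hy') hy
    have hk0 : β (y'⁻¹ * y) = 0 := by
      rw [hβ _ (B.inv_mem hy') _ hy, coord_inv B β hβ hy', h]; ring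
    rw [h1, c_right x hx y' hy' _ hk, c_kerr x hx _ hk hk0, mul_one]
  choose sA hsA hsA' using hαs
  choose sB hsB hsB' using hβs
  have hγ := hbad Y (fun a b => c (sA a) (sB b)) ?_ ?_ ?_
  · intro x hx y hy
    have := hγ (α x) (β y)
    rw [key1 x hx (sA (α x)) (hsA _) y hy (hsA' _).symm,
      key2 (sA (α x)) (hsA _) y hy (sB (β y)) (hsB _) (hsB' _).symm]
    exact this
  · intro a a' b
    show c (sA (a + a')) (sB b) = c (sA a) (sB b) * c (sA a') (sB b)
    rw [← c_left _ (hsA a) _ (hsA a') _ (hsB b)]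
    apply key1 _ (hsA _) _ (A.mul_mem (hsA a) (hsA a')) _ (hsB b)
    rw [hα _ (hsA a) _ (hsA a'), hsA', hsA', hsA']
  · intro a b b'
    show c (sA a) (sB (b + b')) = c (sA a) (sB b) * c (sA a) (sB b')
    rw [← c_right _ (hsA a) _ (hsB b) _ (hsB b')]
    apply key2 _ (hsA _) _ (hsB _) _ (B.mul_mem (hsB b) (hsB b'))
    rw [hβ _ (hsB b) _ (hsB b'), hsB', hsB', hsB']
  · intro a b
    show c (sA (u * a)) (sB (v * b)) = c (sA a) (sB b)
    rw [← hinv _ (hsA a) _ (hsB b)]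
    rw [key1 (sA (u * a)) (hsA _) (φ (sA a)) (hφA _ (hsA a)) _ (hsB _) (by rw [hsA', hφα _ (hsA a), hsA']),
      key2 _ (hφA _ (hsA a)) (sB (v * b)) (hsB _) (φ (sB b)) (hφB _ (hsB b))
        (by rw [hsB', hφβ _ (hsB b), hsB'])]

/-- an invariant multiplicative functional factoring through a field coordinate is trivial -/
theorem functional_trivial' [Fintype F] (hcard : 3 ≤ Fintype.card F) (A : Subgroup E) (α : E → F)
    (hα : ∀ x ∈ A, ∀ x' ∈ A, α (x * x') = α x + α x') (hαs : ∀ a, ∃ x ∈ A, α x = a)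
    (f : E → Y) (f_mul : ∀ x ∈ A, ∀ x' ∈ A, f (x * x') = f x * f x')
    (f_ker : ∀ x ∈ A, α x = 0 → f x = 1)
    (φ : E → E) (hφA : ∀ x ∈ A, φ x ∈ A) (u : F) (hφα : ∀ x ∈ A, α (φ x) = u * α x)
    (hinv : ∀ x ∈ A, f (φ x) = f x) (hgen : ∀ c : F, c ≠ 0 → ∃ k : ℕ, c = u ^ k) :
    ∀ x ∈ A, f x = 1 := by
  have key1 : ∀ x ∈ A, ∀ x' ∈ A, α x = α x' → f x = f x' := by
    intro x hx x' hx' h
    have h1 : x = x' * (x'⁻¹ * x) := by group
    have hk : x'⁻¹ * x ∈ A := A.mul_mem (A.inv_mem hx') hx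
    have hk0 : α (x'⁻¹ * x) = 0 := by
      rw [hα _ (A.inv_mem hx') _ hx, coord_inv A α hα hx', h]; ring
    rw [h1, f_mul x' hx' _ hk, f_ker _ hk hk0, mul_one]
  choose sA hsA hsA' using hαs
  have hγ := functional_trivial hcard hgen (fun a => f (sA a)) ?_ ?_
  · intro x hx
    rw [key1 x hx (sA (α x)) (hsA _) (hsA' _).symm]
    exact hγ (α x)
  · intro a a'
    show f (sA (a + a')) = f (sA a) * f (sA a')
    rw [← f_mul _ (hsA a) _ (hsA a')]
    apply key1 _ (hsA _) _ (A.mul_mem (hsA a) (hsA a'))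
    rw [hα _ (hsA a) _ (hsA a'), hsA', hsA', hsA']
  · intro a
    show f (sA (u * a)) = f (sA a)
    rw [← hinv _ (hsA a)]
    apply key1 _ (hsA _) _ (hφA _ (hsA a))
    rw [hsA', hφα _ (hsA a), hsA']

end Pairing

section Norm

variable {E : Type*} [Group E] (φ : E →* E)

/-- partial norm `w * φ w * ... * φ^(j-1) w` -/
def nrm : ℕ → E → E
  | 0, _ => 1
  | j + 1, w => nrm j w * φ^[j] w

theorem nrm_zero (w : E) : nrm φ 0 w = 1 := rfl

theorem nrm_succ (j : ℕ) (w : E) : nrm φ (j + 1) w = nrm φ j w * φ^[j] w := rfl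

theorem iterate_mem (W : Subgroup E) (hφW : ∀ w ∈ W, φ w ∈ W) (j : ℕ) {w : E} (hw : w ∈ W) :
    φ^[j] w ∈ W := by
  induction j generalizing w with
  | zero => exact hw
  | succ j ih => rw [Function.iterate_succ_apply]; exact ih (hφW w hw)

theorem iterate_mul (j : ℕ) (x y : E) : φ^[j] (x * y) = φ^[j] x * φ^[j] y := by
  induction j generalizing x y with
  | zero => rfl
  | succ j ih => rw [Function.iterate_succ_apply, Function.iterate_succ_apply,
      Function.iterate_succ_apply, map_mul, ih]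

theorem nrm_mem (W : Subgroup E) (hφW : ∀ w ∈ W, φ w ∈ W) (j : ℕ) {w : E} (hw : w ∈ W) :
    nrm φ j w ∈ W := by
  induction j with
  | zero => exact W.one_mem
  | succ j ih => rw [nrm_succ]; exact W.mul_mem ih (iterate_mem φ W hφW j hw)

theorem nrm_mul (W : Subgroup E) (hφW : ∀ w ∈ W, φ w ∈ W)
    (hcomm : ∀ w ∈ W, ∀ w' ∈ W, w * w' = w' * w) (j : ℕ) {w w' : E} (hw : w ∈ W) (hw' : w' ∈ W) :
    nrm φ j (w * w') = nrm φ j w * nrm φ j w' := by
  induction j with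
  | zero => simp [nrm_zero]
  | succ j ih =>
    rw [nrm_succ, nrm_succ, nrm_succ, ih, iterate_mul]
    have h1 := hcomm _ (iterate_mem φ W hφW j hw) _ (nrm_mem φ W hφW j hw')
    calc nrm φ j w * nrm φ j w' * (φ^[j] w * φ^[j] w')
        = nrm φ j w * (nrm φ j w' * φ^[j] w) * φ^[j] w' := by group
      _ = nrm φ j w * (φ^[j] w * nrm φ j w') * φ^[j] w' := by rw [h1]
      _ = nrm φ j w * φ^[j] w * (nrm φ j w' * φ^[j] w') := by group

theorem map_nrm (j : ℕ) (w : E) : φ (nrm φ j w) = nrm φ j (φ w) := by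
  induction j with
  | zero => simp [nrm_zero]
  | succ j ih =>
    rw [nrm_succ, nrm_succ, map_mul, ih, ← Function.iterate_succ_apply' φ j w,
      Function.iterate_succ_apply]

theorem nrm_succ' (W : Subgroup E) (hφW : ∀ w ∈ W, φ w ∈ W)
    (hcomm : ∀ w ∈ W, ∀ w' ∈ W, w * w' = w' * w) (j : ℕ) {w : E} (hw : w ∈ W) :
    nrm φ (j + 1) w = w * nrm φ j (φ w) := by
  induction j with
  | zero => simp [nrm_succ, nrm_zero]
  | succ j ih =>
    rw [nrm_succ, ih, nrm_succ, Function.iterate_succ_apply, mul_assoc]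

/-- the norm is invariant under `φ` when `φ^k = 1` -/
theorem nrm_map_eq (W : Subgroup E) (hφW : ∀ w ∈ W, φ w ∈ W)
    (hcomm : ∀ w ∈ W, ∀ w' ∈ W, w * w' = w' * w) (k : ℕ) (hk : ∀ x, φ^[k] x = x) {w : E}
    (hw : w ∈ W) : nrm φ k (φ w) = nrm φ k w := by
  have h1 := nrm_succ' φ W hφW hcomm k hw
  rw [nrm_succ, hk] at h1
  have h2 := hcomm _ (nrm_mem φ W hφW k hw) _ hw
  rw [h2] at h1
  exact (mul_left_cancel h1).symm

theorem nrm_fixed (j : ℕ) {z : E} (hz : φ z = z) : nrm φ j z = z ^ j := by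
  induction j with
  | zero => simp [nrm_zero]
  | succ j ih =>
    rw [nrm_succ, ih, pow_succ, Function.iterate_fixed hz]

end Norm

end Cfsg.Agent.Lib.Helper27.SzMult
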