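/-
helper27: Schur multiplier of the Ree groups `²G₂(q)`, `q ≥ 27` (Alperin–Gorenstein).
Part C: the 2-part.  An elementary abelian subgroup `S` of order 8 normalized, but not centralized, by an
element of order 7 lies in a Frobenius group `2^3 : 7`, which satisfies the local condition at 2
(helper3, `localTriv_frob7`).
-/
import Cfsg.Agent.Lib.Helper3.Schur.Frob
import Cfsg.Agent.Lib.Helper27.SzMultB

set_option autoImplicit false

namespace Cfsg.Agent.Lib.Helper27.ReeMult

open Cfsg.Agent.Lib.Helper3.SchurM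

universe u

section Frob

variable {G : Type*} [Group G]

theorem conj_iterate (x : G) (k : ℕ) (s : G) :
    (fun t => x * t * x⁻¹)^[k] s = x ^ k * s * (x ^ k)⁻¹ := by
  induction k with
  | zero => simp
  | succ k ih =>
    rw [Function.iterate_succ_apply', ih, pow_succ']
    group

theorem conj_iterate_mul (x : G) (k : ℕ) (s t : G) :
    (fun t => x * t * x⁻¹)^[k] (s * t) =
      (fun t => x * t * x⁻¹)^[k] s * (fun t => x * t * x⁻¹)^[k] t := by
  rw [conj_iterate, conj_iterate, conj_iterate]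
  group

/-- the orbit structure and the relation of a Frobenius group `2^3 : 7` -/
theorem exists_frob7 (S : Subgroup G) (hcard : Nat.card S = 8) (hexp : ∀ s ∈ S, s * s = 1)
    (x : G) (hx7 : x ^ 7 = 1) (hxS : ∀ s ∈ S, x * s * x⁻¹ ∈ S) (hxn : ∃ s ∈ S, x * s * x⁻¹ ≠ s) :
    ∃ a y : G, y ^ 7 = 1 ∧ a * (y * a * y⁻¹) = y * a * y⁻¹ * a ∧
      a * (y * (y * a * y⁻¹) * y⁻¹) = y * (y * a * y⁻¹) * y⁻¹ * a ∧
      y * (y * (y * a * y⁻¹) * y⁻¹) * y⁻¹ = a * (y * a * y⁻¹) ∧
      S ≤ Subgroup.closure {a, y} := by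
  obtain ⟨a, haS, hxa⟩ := hxn
  set f : G → G := fun t => x * t * x⁻¹ with hf
  have hinvS : ∀ s ∈ S, s⁻¹ = s := fun s hs => inv_eq_of_mul_eq_one_left (hexp s hs)
  have hcomm : ∀ s ∈ S, ∀ t ∈ S, s * t = t * s := by
    intro s hs t ht
    calc s * t = (s * t)⁻¹ := (hinvS _ (S.mul_mem hs ht)).symm
      _ = t⁻¹ * s⁻¹ := mul_inv_rev s t
      _ = t * s := by rw [hinvS s hs, hinvS t ht]
  have ha1 : a ≠ 1 := by
    rintro rfl
    apply hxa
    group
  -- the orbit
  have hA_mem : ∀ k, f^[k] a ∈ S := by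
    intro k
    induction k with
    | zero => exact haS
    | succ k ih => rw [Function.iterate_succ_apply']; exact hxS _ ih
  have hA7 : ∀ k, f^[k + 7] a = f^[k] a := by
    intro k
    rw [Function.iterate_add_apply, hf, conj_iterate x 7, hx7]
    simp
  have hA_add : ∀ i k, f^[i] (f^[k] a) = f^[i + k] a := fun i k =>
    (Function.iterate_add_apply f i k a).symm
  have hper : Function.minimalPeriod f a = 7 := by
    have h1 : Function.IsPeriodicPt f 7 a := by
      show f^[7] a = a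
      exact hA7 0
    have h2 := h1.minimalPeriod_dvd
    rcases (Nat.dvd_prime (by norm_num : Nat.Prime 7)).mp h2 with h3 | h3
    · exfalso
      apply hxa
      exact Function.minimalPeriod_eq_one_iff_isFixedPt.mp h3
    · exact h3
  have hinj : ∀ i < 7, ∀ j < 7, f^[i] a = f^[j] a → i = j := by
    intro i hi j hj hij
    have := Function.iterate_injOn_Iio_minimalPeriod (f := f) (x := a)
    rw [hper] at this
    exact this hi hj hij
  have hA_ne : ∀ k, f^[k] a ≠ 1 := by
    intro k hk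
    apply ha1
    rw [hf, conj_iterate] at hk
    have : a = (x ^ k)⁻¹ * (x ^ k * a * (x ^ k)⁻¹) * x ^ k := by group
    rw [this, hk]
    group
  have hcover : ∀ s ∈ S, s ≠ 1 → ∃ k < 7, s = f^[k] a := by
    have hfin : Finite ↥S := Nat.finite_of_card_ne_zero (by rw [hcard]; norm_num)
    have hSfin : (S : Set G).Finite := Set.toFinite _
    have h1 : ((fun k => f^[k] a) '' Set.Iio 7) ⊆ (S : Set G) \ {1} := by
      rintro _ ⟨k, _, rfl⟩
      exact ⟨hA_mem k, hA_ne k⟩
    have h2 : ((fun k => f^[k] a) '' Set.Iio 7).ncard = 7 := by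
      rw [Set.InjOn.ncard_image]
      · rw [← Nat.card_coe_set_eq]
        simp
      · intro i hi j hj hij
        exact hinj i hi j hj hij
    have h3 : ((S : Set G) \ {1}).ncard = 7 := by
      rw [Set.ncard_sdiff_singleton_of_mem S.one_mem, ← Nat.card_coe_set_eq]
      show Nat.card ↥S - 1 = 7
      rw [hcard]
    have h4 := Set.eq_of_subset_of_ncard_le h1 (by rw [h2, h3]) (hSfin.subset Set.sdiff_subset)
    intro s hs hs1
    have : s ∈ (S : Set G) \ {1} := ⟨hs, hs1⟩
    rw [← h4] at this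
    obtain ⟨k, hk, rfl⟩ := this
    exact ⟨k, hk, rfl⟩
  -- the relation
  have h01 : a * f a ≠ 1 := by
    intro h
    apply hxa
    have h1 : f a = a⁻¹ := eq_inv_of_mul_eq_one_right h
    rw [hinvS a haS] at h1
    exact h1
  obtain ⟨j, hj, hrel⟩ := hcover _ (S.mul_mem haS (hxS a haS)) h01
  have hmulf : ∀ (i : ℕ) (s t : G), f^[i] (s * t) = f^[i] s * f^[i] t :=
    fun i s t => conj_iterate_mul x i s t
  have hrel' : ∀ i, f^[i] a * f^[i + 1] a = f^[i + j] a := by
    intro i
    have := congrArg (f^[i]) hrel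
    rw [hmulf, hA_add, ← Function.iterate_succ_apply] at this
    exact this
  have hsq : ∀ k, f^[k] a * f^[k] a = 1 := fun k => hexp _ (hA_mem k)
  have hc : ∀ i k, f^[i] a * f^[k] a = f^[k] a * f^[i] a := fun i k =>
    hcomm _ (hA_mem i) _ (hA_mem k)
  have hclos : ∀ y : G, x ∈ Subgroup.closure {a, y} → S ≤ Subgroup.closure {a, y} := by
    intro y hy s hs
    by_cases hs1 : s = 1
    · rw [hs1]; exact Subgroup.one_mem _
    · obtain ⟨k, -, rfl⟩ := hcover s hs hs1
      rw [hf, conj_iterate]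
      have ha : a ∈ Subgroup.closure {a, y} := Subgroup.subset_closure (by simp)
      exact Subgroup.mul_mem _ (Subgroup.mul_mem _ (Subgroup.pow_mem _ hy k) ha)
        (Subgroup.inv_mem _ (Subgroup.pow_mem _ hy k))
  have e1 : f^[1] a = x * a * x⁻¹ := rfl
  have e2 : f^[2] a = x * (x * a * x⁻¹) * x⁻¹ := rfl
  have e3 : f^[3] a = x * (x * (x * a * x⁻¹) * x⁻¹) * x⁻¹ := rfl
  have e0 : f^[0] a = a := rfl
  interval_cases j
  · -- j = 0
    exfalso
    apply hA_ne 1
    have := hrel' 0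
    rw [e0] at this
    exact mul_eq_left.mp this
  · -- j = 1
    exfalso
    apply ha1
    have := hrel' 0
    rw [e0] at this
    exact mul_eq_right.mp this
  · -- j = 2
    exfalso
    have h0 : f^[0] a * f^[1] a = f^[2] a := hrel' 0
    have h1 : f^[1] a * f^[2] a = f^[3] a := hrel' 1
    have : f^[3] a = f^[0] a := by
      calc f^[3] a = f^[1] a * f^[2] a := h1.symm
        _ = f^[1] a * (f^[0] a * f^[1] a) := by rw [← h0]
        _ = f^[0] a * (f^[1] a * f^[1] a) := by rw [← mul_assoc, hc 1 0, mul_assoc]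
        _ = f^[0] a := by rw [hsq, mul_one]
    have := hinj 3 (by norm_num) 0 (by norm_num) this
    omega
  · -- j = 3
    refine ⟨a, x, hx7, ?_, ?_, ?_, hclos x (Subgroup.subset_closure (by simp))⟩
    · rw [← e1]; exact hc 0 1
    · rw [← e2]; exact hc 0 2
    · rw [← e3, ← e1]; exact (hrel' 0).symm
  · -- j = 4
    exfalso
    have h0 : f^[0] a * f^[1] a = f^[4] a := hrel' 0
    have h3 : f^[3] a * f^[4] a = f^[0] a := (hrel' 3).trans (hA7 0)
    have : f^[3] a = f^[1] a := by
      calc f^[3] a = f^[3] a * (f^[4] a * f^[4] a) := by rw [hsq, mul_one]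
        _ = f^[0] a * f^[4] a := by rw [← mul_assoc, h3]
        _ = f^[0] a * (f^[0] a * f^[1] a) := by rw [← h0]
        _ = f^[1] a := by rw [← mul_assoc, hsq, one_mul]
    have := hinj 3 (by norm_num) 1 (by norm_num) this
    omega
  · -- j = 5
    have hx6 : x⁻¹ = x ^ 6 := by
      have : x ^ 6 * x = 1 := by rw [← pow_succ]; exact hx7
      exact (eq_inv_of_mul_eq_one_left this).symm
    have hy : ∀ s, x⁻¹ * s * x⁻¹⁻¹ = f^[6] s := by
      intro s
      rw [hf, conj_iterate, ← hx6]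
    have h6 : f^[6] a * f^[0] a = f^[4] a :=
      ((congrArg (fun t => f^[6] a * t) (hA7 0)).symm.trans (hrel' 6)).trans (hA7 4)
    have k1 : x⁻¹ * a * x⁻¹⁻¹ = f^[6] a := hy a
    have k2 : x⁻¹ * (x⁻¹ * a * x⁻¹⁻¹) * x⁻¹⁻¹ = f^[5] a := by
      rw [k1, hy, hA_add]; exact hA7 5
    have k3 : x⁻¹ * (x⁻¹ * (x⁻¹ * a * x⁻¹⁻¹) * x⁻¹⁻¹) * x⁻¹⁻¹ = f^[4] a := by
      rw [k2, hy, hA_add]; exact hA7 4
    refine ⟨a, x⁻¹, ?_, ?_, ?_, ?_, hclos x⁻¹ ?_⟩
    · rw [inv_pow, hx7, inv_one]
    · rw [k1]; exact hc 0 6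
    · rw [k2]; exact hc 0 5
    · rw [k3, k1, ← h6]; exact hc 6 0
    · have : x = x⁻¹⁻¹ := (inv_inv x).symm
      rw [this]
      exact Subgroup.inv_mem _ (Subgroup.subset_closure (by simp))
  · -- j = 6
    exfalso
    have h0 : f^[0] a * f^[1] a = f^[6] a := hrel' 0
    have h1 : f^[1] a * f^[2] a = f^[0] a := (hrel' 1).trans (hA7 0)
    have : f^[2] a = f^[6] a := by
      calc f^[2] a = (f^[1] a * f^[1] a) * f^[2] a := by rw [hsq, one_mul]
        _ = f^[1] a * f^[0] a := by rw [mul_assoc, h1]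
        _ = f^[0] a * f^[1] a := hc 1 0
        _ = f^[6] a := h0
    have := hinj 2 (by norm_num) 6 (by norm_num) this
    omega

end Frob

section Sylow

variable {G : Type u} [Group G] [Finite G]

/-- a Sylow 2-subgroup `S`, elementary abelian of order 8, with `C(S) = S` and `|N(S)| = 168`, lies
in a subgroup satisfying the local condition at 2 -/
theorem exists_localTriv_two (S : Sylow 2 G) (hcard : Nat.card S = 8) (hexp : ∀ x ∈ S, x * x = 1)
    (hC : Subgroup.centralizer ((S : Subgroup G) : Set G) = S)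
    (hN : Nat.card (Subgroup.normalizer ((S : Subgroup G) : Set G)) = 168) :
    ∃ P : Subgroup G, ¬ 2 ∣ P.index ∧ LocalTriv 2 P := by
  haveI : Fact (Nat.Prime 7) := ⟨by norm_num⟩
  obtain ⟨x', hx'⟩ := exists_prime_orderOf_dvd_card' (G := ↥(Subgroup.normalizer ((S : Subgroup G) : Set G)))
    7 (by rw [hN]; norm_num)
  set x : G := (x' : G) with hx
  have hxo : orderOf x = 7 := by rw [hx, Subgroup.orderOf_coe, hx']
  have hx7 : x ^ 7 = 1 := by rw [← hxo]; exact pow_orderOf_eq_one x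
  have hxN : x ∈ Subgroup.normalizer ((S : Subgroup G) : Set G) := x'.2
  rw [Subgroup.mem_set_normalizer_iff] at hxN
  have hxS : ∀ s ∈ (S : Subgroup G), x * s * x⁻¹ ∈ (S : Subgroup G) := fun s hs => (hxN s).mp hs
  have hxn : ∃ s ∈ (S : Subgroup G), x * s * x⁻¹ ≠ s := by
    by_contra hcon
    push Not at hcon
    have hxC : x ∈ Subgroup.centralizer ((S : Subgroup G) : Set G) := by
      rw [Subgroup.mem_centralizer_iff]
      intro s hs
      have := hcon s hs
      calc s * x = (x * s * x⁻¹) * x := by rw [this]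
        _ = x * s := by group
    rw [hC] at hxC
    have h2 : x ^ 2 = 1 := by rw [pow_two]; exact hexp x hxC
    have h1 : x = 1 := by
      calc x = x ^ 7 * (x ^ 2)⁻¹ ^ 3 := by group
        _ = 1 := by rw [hx7, h2]; simp
    rw [h1, orderOf_one] at hxo
    norm_num at hxo
  obtain ⟨a, y, hy7, h1, h2, hr, hle⟩ := exists_frob7 (S : Subgroup G) hcard hexp x hx7 hxS hxn
  refine ⟨Subgroup.closure {a, y}, ?_, localTriv_frob7 2 (by norm_num) a y hy7 h1 h2 hr⟩
  intro hdvd
  exact Sylow.not_dvd_index S (dvd_trans hdvd (Subgroup.index_dvd_of_le hle))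

end Sylow

end Cfsg.Agent.Lib.Helper27.ReeMult
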