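/-
helper27: Schur multiplier of the Ree groups `²G₂(q)`, `q ≥ 27` (Alperin–Gorenstein).
Part D: the 3-part, for the Ree group realised as the fixed points of the twisting automorphism
(helper7's model).
-/
import Cfsg.Agent.Lib.Helper27.ReeMultA
import Cfsg.Agent.Lib.Helper27.ReeMultB
import Cfsg.Agent.Lib.Helper7.G2Tw21
import Cfsg.Agent.Lib.Helper7.G2Tw15

set_option autoImplicit false

namespace Cfsg.Agent.Lib.Helper27.ReeMult

open Cfsg Cfsg.Lie Matrix Cfsg.Agent.Lib.Helper7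
open Cfsg.Agent.Lib.Helper27.SzMult
open scoped commutatorElement

section Coord

variable {F : Type*} [Field F]

/-- the coordinates of an element of `U¹` -/
noncomputable def reeCoord (θ : ℕ) (g : GL chevG2.Idx F) : F × F × F := by
  classical
  exact if h : ∃ p : F × F × F, g = reeU θ p.1 p.2.1 p.2.2 then h.choose else 0

theorem reeCoord_reeU (θ : ℕ) (t u v : F) : reeCoord θ (reeU θ t u v) = (t, u, v) := by
  unfold reeCoord
  have h : ∃ p : F × F × F, reeU θ t u v = reeU θ p.1 p.2.1 p.2.2 := ⟨(t, u, v), rfl⟩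
  rw [dif_pos h]
  obtain ⟨h1, h2, h3⟩ := reeU_inj θ _ _ _ _ _ _ h.choose_spec
  exact Prod.ext h1.symm (Prod.ext h2.symm h3.symm)

end Coord

section Three

variable {K : Type*} [Field K] [Fintype K] {m : ℕ}
variable {τ : ↥(chevG2.group K) ≃* ↥(chevG2.group K)}

theorem ree_arith (hm : 1 ≤ m) (hK : Fintype.card K = 3 ^ (2 * m + 1)) :
    (3 * 3 ^ m) * (3 * 3 ^ m) = 3 * (Fintype.card K - 1 + 1) ∧ 9 ≤ 3 * 3 ^ m ∧
      ∀ k < 2 * m + 1, 3 * 3 ^ k ≤ Fintype.card K - 1 + 1 := by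
  have h1 : 1 ≤ Fintype.card K := Fintype.card_pos
  have h2 : Fintype.card K - 1 + 1 = 3 ^ (2 * m + 1) := by omega
  rw [h2]
  refine ⟨?_, ?_, ?_⟩
  · have : 2 * m + 1 = m + m + 1 := by ring
    rw [this, pow_succ, pow_add]
    ring
  · have : 3 ^ 1 ≤ 3 ^ m := Nat.pow_le_pow_right (by norm_num) hm
    omega
  · intro k hk
    rw [← pow_succ']
    exact Nat.pow_le_pow_right (by norm_num) (by omega)

/-- **the 3-part**: the kernel of a central extension of `²G₂(q)`, `q ≥ 27`, with kernel of exponent 3,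
meets the derived group of the preimage of the Sylow 3-subgroup trivially. -/
theorem ker_inf_comm_three (hm : 1 ≤ m) (hK : Fintype.card K = 3 ^ (2 * m + 1))
    (hτ : TauData K τ (3 ^ m)) {Γ : Type*} [Group Γ] (σ : Γ →* ↥(fixTau K τ))
    (hσs : Function.Surjective σ) (hc : σ.ker ≤ Subgroup.center Γ)
    (hexp : ∀ a ∈ σ.ker, a ^ 3 = 1) :
    ∀ a ∈ σ.ker, a ∈ ⁅(fixU K τ).comap σ, (fixU K τ).comap σ⁆ → a = 1 := by
  classical
  have hsq := sq_dichotomy_of_card hK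
  haveI : CharP K 3 := charP3_of_card hK
  haveI : Fact (Nat.Prime 3) := ⟨Nat.prime_three⟩
  set θ : ℕ := 3 ^ m with hθ
  have hθ0 : θ ≠ 0 := (theta_pos hτ).ne'
  set V : Subgroup Γ := (fixU K τ).comap σ with hV
  -- coordinates
  have hcoord : ∀ x : ↥V, ∃ t u v : K, ((σ (x : Γ) : ↥(fixTau K τ)) : GL chevG2.Idx K) = reeU θ t u v := by
    intro x
    have h1 : σ (x : Γ) ∈ fixU K τ := x.2
    rw [mem_fixU] at h1
    exact (posUnipotent_inf_fixTau hτ _).mp (Subgroup.mem_inf.mpr ⟨h1, (σ (x : Γ)).2⟩)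
  let cT : ↥V → K := fun x => (reeCoord θ ((σ (x : Γ) : ↥(fixTau K τ)) : GL chevG2.Idx K)).1
  let cU : ↥V → K := fun x => (reeCoord θ ((σ (x : Γ) : ↥(fixTau K τ)) : GL chevG2.Idx K)).2.1
  let cN : ↥V → K := fun x => (reeCoord θ ((σ (x : Γ) : ↥(fixTau K τ)) : GL chevG2.Idx K)).2.2
  have key : ∀ (x : ↥V) (t u v : K), ((σ (x : Γ) : ↥(fixTau K τ)) : GL chevG2.Idx K) = reeU θ t u v →
      cT x = t ∧ cU x = u ∧ cN x = v := by
    intro x t u v h
    show (reeCoord θ _).1 = t ∧ (reeCoord θ _).2.1 = u ∧ (reeCoord θ _).2.2 = v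
    rw [h, reeCoord_reeU]
    exact ⟨rfl, rfl, rfl⟩
  have hrep : ∀ x : ↥V, ((σ (x : Γ) : ↥(fixTau K τ)) : GL chevG2.Idx K) = reeU θ (cT x) (cU x) (cN x) := by
    intro x
    obtain ⟨t, u, v, h⟩ := hcoord x
    obtain ⟨h1, h2, h3⟩ := key x t u v h
    rw [h1, h2, h3]
    exact h
  let Z : Subgroup ↥V := (σ.ker).subgroupOf V
  have hZmem : ∀ x : ↥V, x ∈ Z ↔ (x : Γ) ∈ σ.ker := fun x => Subgroup.mem_subgroupOf
  have hmul : ∀ x y : ↥V, ((σ ((x * y : ↥V) : Γ) : ↥(fixTau K τ)) : GL chevG2.Idx K) =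
      reeU θ (cT x + cT y) (cU x + cU y - (cT y ^ θ) ^ 3 * cT x)
        (cN x + cN y - cT y * cU x + (cT y ^ θ) ^ 3 * cT x * cT y - (cT y ^ θ) ^ 3 * cT x ^ 2) := by
    intro x y
    rw [← reeU_mul hτ, ← hrep x, ← hrep y]
    simp
  have hC : Coords cT cU cN (fun t => (t ^ θ) ^ 3) Z := by
    refine ⟨?_, ?_, ?_, ?_, ?_⟩
    · show ((0 : K) ^ θ) ^ 3 = 0
      rw [zero_pow hθ0, zero_pow (by norm_num)]
    · intro x y
      exact (key _ _ _ _ (hmul x y)).1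
    · intro x y
      exact (key _ _ _ _ (hmul x y)).2.1
    · intro x y
      exact (key _ _ _ _ (hmul x y)).2.2
    · intro x
      rw [hZmem, MonoidHom.mem_ker]
      constructor
      · intro h
        have h1 : ((σ (x : Γ) : ↥(fixTau K τ)) : GL chevG2.Idx K) = 1 := by rw [h]; rfl
        rw [hrep x, reeU_eq_one_iff hτ] at h1
        exact h1
      · rintro ⟨h1, h2, h3⟩
        apply Subtype.ext
        rw [hrep x, h1, h2, h3, reeU_000 hτ]
        rfl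
  have hsurj : ∀ t u v : K, ∃ x : ↥V, cT x = t ∧ cU x = u ∧ cN x = v := by
    intro t u v
    obtain ⟨x, hx⟩ := hσs ⟨reeU θ t u v, reeU_mem_fixTau hτ t u v⟩
    have hxV : x ∈ V := by
      show σ x ∈ fixU K τ
      rw [mem_fixU, hx]
      exact reeU_mem_posUnipotent θ t u v
    refine ⟨⟨x, hxV⟩, key ⟨x, hxV⟩ t u v ?_⟩
    show ((σ x : ↥(fixTau K τ)) : GL chevG2.Idx K) = _
    rw [hx]
  have hZc : Z ≤ Subgroup.center ↥V := by
    intro z hz
    have h1 := hc ((hZmem z).mp hz)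
    rw [Subgroup.mem_center_iff] at h1 ⊢
    intro g
    exact Subtype.ext (h1 g)
  have hZ3 : ∀ z ∈ Z, z ^ 3 = 1 := by
    intro z hz
    apply Subtype.ext
    exact hexp _ ((hZmem z).mp hz)
  -- automorphisms from the torus
  have hcardT : ∀ h : GL chevG2.Idx K, h ∈ chevG2.diagonalSubgroup K ⊓ fixTau K τ →
      h ^ (Fintype.card K - 1) = 1 := by
    intro h hh
    have h1 : (⟨h, hh⟩ : ↥(chevG2.diagonalSubgroup K ⊓ fixTau K τ)) ^
        Nat.card ↥(chevG2.diagonalSubgroup K ⊓ fixTau K τ) = 1 := pow_card_eq_one'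
    rw [card_fixH hτ hsq, Nat.card_eq_fintype_card] at h1
    exact congrArg Subtype.val h1
  have haut : ∀ (h : GL chevG2.Idx K) (hh : h ∈ chevG2.diagonalSubgroup K ⊓ fixTau K τ)
      (χ : ℕ → K), ChainChar chevG2 K χ →
      (h : Matrix chevG2.Idx chevG2.Idx K) = diagChar chevG2 K χ →
      ∃ φ : ↥V →* ↥V, (∀ x, cT (φ x) = χ 6 * cT x) ∧ (∀ x, cU (φ x) = χ 10 * cU x) ∧
        (∀ x, cN (φ x) = χ 11 * cN x) ∧ (∀ z ∈ Z, φ z = z) ∧
        (∀ x, φ^[Fintype.card K - 1] x = x) := by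
    intro h hh χ hχ e
    obtain ⟨ĥ, hĥ⟩ := hσs ⟨h, (Subgroup.mem_inf.mp hh).2⟩
    have hconj : ∀ x : ↥V, ((σ (ĥ * (x : Γ) * ĥ⁻¹) : ↥(fixTau K τ)) : GL chevG2.Idx K) =
        reeU θ (χ 6 * cT x) (χ 10 * cU x) (χ 11 * cN x) := by
      intro x
      rw [← reeU_conj hτ h hh χ hχ e, ← hrep x, map_mul, map_mul, map_inv, hĥ]
      simp
    have hconj_mem : ∀ x : ↥V, ĥ * (x : Γ) * ĥ⁻¹ ∈ V := by
      intro x
      show σ (ĥ * (x : Γ) * ĥ⁻¹) ∈ fixU K τ
      rw [mem_fixU, hconj x]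
      exact reeU_mem_posUnipotent θ _ _ _
    let φ : ↥V →* ↥V :=
      { toFun := fun x => ⟨ĥ * (x : Γ) * ĥ⁻¹, hconj_mem x⟩
        map_one' := Subtype.ext (by simp)
        map_mul' := fun x y => Subtype.ext (by
          show ĥ * ((x : Γ) * (y : Γ)) * ĥ⁻¹ = ĥ * (x : Γ) * ĥ⁻¹ * (ĥ * (y : Γ) * ĥ⁻¹)
          group) }
    have hφ_coe : ∀ x : ↥V, ((φ x : ↥V) : Γ) = ĥ * (x : Γ) * ĥ⁻¹ := fun x => rfl
    have hφk_coe : ∀ (j : ℕ) (x : ↥V), ((φ^[j] x : ↥V) : Γ) = ĥ ^ j * (x : Γ) * (ĥ ^ j)⁻¹ := by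
      intro j
      induction j with
      | zero => intro x; simp
      | succ j ih =>
        intro x
        rw [Function.iterate_succ_apply', hφ_coe, ih, pow_succ']
        group
    have hĥk : ĥ ^ (Fintype.card K - 1) ∈ Subgroup.center Γ := by
      apply hc
      rw [MonoidHom.mem_ker, map_pow, hĥ]
      apply Subtype.ext
      show h ^ (Fintype.card K - 1) = 1
      exact hcardT h hh
    have hk3 := fun x => key (φ x) _ _ _ (hconj x)
    refine ⟨φ, fun x => (hk3 x).1, fun x => (hk3 x).2.1, fun x => (hk3 x).2.2, ?_, ?_⟩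
    · intro z hz
      apply Subtype.ext
      rw [hφ_coe]
      have := Subgroup.mem_center_iff.mp (hc ((hZmem z).mp hz)) ĥ
      rw [this, mul_inv_cancel_right]
    · intro x
      apply Subtype.ext
      rw [hφk_coe]
      have := Subgroup.mem_center_iff.mp hĥk (x : Γ)
      rw [← this, mul_inv_cancel_right]
  -- the generator
  obtain ⟨μ₀, hμ₀⟩ := IsCyclic.exists_generator (α := Kˣ)
  have hgord : orderOf (μ₀ : K) = Fintype.card K - 1 := by
    rw [orderOf_units, orderOf_eq_card_of_forall_mem_zpowers hμ₀, Nat.card_eq_fintype_card,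
      Fintype.card_units]
  obtain ⟨h₁, hh₁, χ₁, hχ₁, e₁, h6₁⟩ := exists_torus_chi6 hτ hsq (μ₀ : K) μ₀.ne_zero
  obtain ⟨h10₁, h11₁, -⟩ := torus_chars hτ h₁ hh₁ χ₁ hχ₁ e₁
  obtain ⟨φ, hφT, hφU, hφN, hφZ, hφk⟩ := haut h₁ hh₁ χ₁ hχ₁ e₁
  rw [h6₁] at h10₁ h11₁
  rw [h6₁] at hφT
  rw [h10₁] at hφU
  rw [h11₁] at hφN
  -- the involution
  have hneg1 : (-1 : K) ≠ 0 := neg_ne_zero.mpr one_ne_zero
  obtain ⟨h₂, hh₂, χ₂, hχ₂, e₂, h6₂⟩ := exists_torus_chi6 hτ hsq (-1 : K) hneg1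
  obtain ⟨h10₂, h11₂, -⟩ := torus_chars hτ h₂ hh₂ χ₂ hχ₂ e₂
  obtain ⟨ψ, hψT, hψU, hψN, hψZ, -⟩ := haut h₂ hh₂ χ₂ hχ₂ e₂
  have hodd : Odd θ := hτ.odd
  have heven : Even (3 * θ + 1) := by
    obtain ⟨j, hj⟩ := hodd
    exact ⟨3 * j + 2, by omega⟩
  have hodd2 : Odd (3 * θ + 2) := by
    obtain ⟨j, hj⟩ := hodd
    exact ⟨3 * j + 2, by omega⟩
  rw [h6₂, heven.neg_one_pow] at h10₂
  rw [h6₂, hodd2.neg_one_pow] at h11₂
  rw [h6₂] at hψT
  rw [h10₂] at hψU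
  rw [h11₂] at hψN
  -- arithmetic
  obtain ⟨hs, h9, hT⟩ := ree_arith hm hK
  have hcop : Nat.Coprime (Fintype.card K - 1) 3 := by
    have h1 : Fintype.card K = 3 * 3 ^ (2 * m) := by rw [hK, pow_succ]; ring
    have h2 : 0 < 3 ^ (2 * m) := by positivity
    rw [Nat.coprime_comm, Nat.Prime.coprime_iff_not_dvd Nat.prime_three]
    omega
  have n6 := noPairing_pow (F := K) 3 (2 * m + 1) hK hgord 1 1 (fun k hk => arith1 hs h9 (hT k hk))
  have n5 := noPairing_pow (F := K) 3 (2 * m + 1) hK hgord 1 (3 * θ + 1)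
    (fun k hk => arith2 hs h9 (hT k hk))
  have n4 := noPairing_pow (F := K) 3 (2 * m + 1) hK hgord 1 (3 * θ + 2)
    (fun k hk => arith3 hs h9 (hT k hk))
  have n3 := noPairing_pow (F := K) 3 (2 * m + 1) hK hgord (3 * θ + 1) (3 * θ + 1)
    (fun k hk => arith4 hs h9 (hT k hk))
  have n1 := noPairing_pow (F := K) 3 (2 * m + 1) hK hgord (3 * θ + 2) (3 * θ + 2)
    (fun k hk => arith5 hs h9 (hT k hk))
  rw [pow_one] at n4 n5 n6
  have n2 : NoPairing K (1 : K) (-1) := by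
    apply noPairing_of_frobenius 3 hneg1
    intro k h
    rw [one_pow, one_mul] at h
    have h3 : (3 : K) = 0 := hτ.three
    have : (1 : K) = 0 := by linear_combination h3 + h
    exact one_ne_zero this
  have hmain := ker_inf_commutator_ree hC hsurj hZc hZ3 φ (μ₀ : K) ((μ₀ : K) ^ (3 * θ + 1))
    ((μ₀ : K) ^ (3 * θ + 2)) hφT hφU hφN hφZ (Fintype.card K - 1) hcop hφk ψ
    (fun x => by rw [hψT, neg_one_mul]) (fun x => by rw [hψU, one_mul])
    (fun x => by rw [hψN, neg_one_mul]) hψZ n1 n2 n3 n4 n5 n6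
  intro a ha hac
  rw [← Subgroup.map_subtype_commutator] at hac
  obtain ⟨a', ha', rfl⟩ := hac
  have := hmain a' ((hZmem a').mpr ha) ha'
  rw [this]; rfl

end Three

end Cfsg.Agent.Lib.Helper27.ReeMult
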