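/-
helper27: Schur multiplier of the Ree groups `²G₂(q)`, `q ≥ 27` (Alperin–Gorenstein).
Part E: assembly.  2-part from the structure of the Sylow 2-subgroups (helper7, S1152 and S1157),
3-part from Part D, the other primes from cyclic Sylow subgroups.
-/
import Cfsg.Agent.Lib.Helper27.ReeMultC
import Cfsg.Agent.Lib.Helper27.ReeMultD
import Cfsg.Agent.Lib.Helper7.ReeSyl3
import Cfsg.Agent.Lib.Helper28.SchurFoxA

set_option autoImplicit false

namespace Cfsg.Agent.Lib.Helper27.ReeMult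

open Cfsg Cfsg.Lie Matrix Cfsg.Agent.Lib.Helper7
open Cfsg.Agent.Lib.Helper28.SchurFox
open Cfsg.Agent.Lib.Helper3.SchurM
open scoped commutatorElement

/-- **cyclic subgroups**: the preimage of a cyclic subgroup in a central extension is abelian -/
theorem ker_inf_comm_cyclic {G : Type*} [Group G] {Γ : Type*} [Group Γ] (σ : Γ →* G)
    (hc : σ.ker ≤ Subgroup.center Γ) (P : Subgroup G) [IsCyclic ↥P] :
    ∀ a ∈ σ.ker, a ∈ ⁅P.comap σ, P.comap σ⁆ → a = 1 := by
  have hcomm : ∀ x y : ↥(P.comap σ), x * y = y * x := by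
    apply commutative_of_cyclic_center_quotient (σ.subgroupComap P)
    intro z hz
    have hz' : (z : Γ) ∈ σ.ker := by
      rw [MonoidHom.mem_ker] at hz ⊢
      exact congrArg Subtype.val hz
    have h1 := hc hz'
    rw [Subgroup.mem_center_iff] at h1 ⊢
    intro g
    exact Subtype.ext (h1 g)
  have hbot : ⁅P.comap σ, P.comap σ⁆ = ⊥ := by
    rw [Subgroup.commutator_eq_bot_iff_le_centralizer]
    intro x hx y hy
    exact congrArg Subtype.val (hcomm ⟨y, hy⟩ ⟨x, hx⟩)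
  intro a _ hac
  rw [hbot] at hac
  exact hac

section Ree

variable {K : Type*} [Field K] [Fintype K] {m : ℕ}

/-- the 3-part, for any subgroup equal to the group of fixed points -/
theorem ker_eq_bot_three (hm : 1 ≤ m) (hK : Fintype.card K = 3 ^ (2 * m + 1))
    {τ : ↥(chevG2.group K) ≃* ↥(chevG2.group K)} (hτ : TauData K τ (3 ^ m))
    (H : Subgroup (GL chevG2.Idx K)) (hH : H = fixTau K τ) {Γ : Type*} [Group Γ] [Finite Γ]
    (σ : Γ →* ↥H) (hσ : Cfsg.IsStemExtension σ) (hexp : ∀ a ∈ σ.ker, a ^ 3 = 1) : σ.ker = ⊥ := by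
  subst hH
  have hsq := sq_dichotomy_of_card hK
  haveI : Fact (Nat.Prime 3) := ⟨Nat.prime_three⟩
  haveI : Finite ↥(fixTau K τ) := Finite.of_surjective σ hσ.1
  obtain ⟨q, hq⟩ : ∃ q, q = 3 ^ (2 * m + 1) := ⟨_, rfl⟩
  have hq3 : q % 3 = 0 := by
    rw [hq, pow_succ]
    exact Nat.mul_mod_left _ _
  have hqpos : 0 < q := by rw [hq]; positivity
  have hcardG : Nat.card ↥(fixTau K τ) = 3 ^ (3 * (2 * m + 1)) * ((q - 1) * (q ^ 3 + 1)) := by
    rw [card_fixTau hτ, card_fixBorel hτ, card_fixH hτ hsq, card_posUnipotent_inf_fixTau hτ,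
      Nat.card_eq_fintype_card, hK, ← hq]
    have : 3 ^ (3 * (2 * m + 1)) = q ^ 3 := by rw [hq, ← pow_mul, mul_comm]
    rw [this]
    ring
  have hr : ¬ 3 ∣ (q - 1) * (q ^ 3 + 1) := by
    rw [Nat.dvd_iff_mod_eq_zero, Nat.mul_mod]
    have h1 : (q - 1) % 3 = 2 := by omega
    have h2 : (q ^ 3 + 1) % 3 = 1 := by
      rw [Nat.add_mod, Nat.pow_mod, hq3]
    rw [h1, h2]
    norm_num
  have hcardU : Nat.card ↥(fixU K τ) = 3 ^ (Nat.card ↥(fixTau K τ)).factorization 3 := by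
    rw [hcardG, factorization_three _ _ hr, card_fixU, card_posUnipotent_inf_fixTau hτ,
      Nat.card_eq_fintype_card, hK, ← pow_mul, mul_comm]
  apply ker_eq_bot_of_transfer σ hσ 3 hexp ((fixU K τ).comap σ) ?_
    (ker_inf_comm_three hm hK hτ σ hσ.1 hσ.2.1 hexp)
  rw [Subgroup.index_comap_of_surjective _ hσ.1, ← Sylow.coe_ofCard (fixU K τ) hcardU,
    Nat.coprime_comm, Nat.Prime.coprime_iff_not_dvd Nat.prime_three]
  exact Sylow.not_dvd_index _

/-- **The Schur multiplier of `²G₂(q)` is trivial for `q ≥ 27`**, given that the Sylow `p`-subgroups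
are cyclic for `p > 3`. -/
theorem trivMult_ree (hm : 1 ≤ m) (hK : Fintype.card K = 3 ^ (2 * m + 1))
    (hcyc : ∀ (p : ℕ) [Fact p.Prime], 3 < p → ∀ P : Sylow p ↥(twistedG2 K (3 ^ m)),
      IsCyclic ↥(P : Subgroup ↥(twistedG2 K (3 ^ m)))) :
    TrivMult ↥(twistedG2 K (3 ^ m)) := by
  apply trivMult_of_exp
  intro p hp Γ _ _ σ hσ hexp
  haveI : Fact p.Prime := ⟨hp⟩
  haveI : Finite ↥(twistedG2 K (3 ^ m)) := Finite.of_surjective σ hσ.1
  by_cases hp2 : p = 2
  · subst hp2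
    obtain ⟨S⟩ : Nonempty (Sylow 2 ↥(twistedG2 K (3 ^ m))) := inferInstance
    obtain ⟨a, haH, ha1, ha2⟩ := ReeSyl.exists_torus_involution hK
    obtain ⟨-, hsyl⟩ := Cfsg.Agent.S1152.result hK a haH ha1 ha2
    obtain ⟨hC, hN⟩ := ReeSyl.ree_sylow_two hK hm S
    obtain ⟨P, hidx, hloc⟩ := exists_localTriv_two S (hsyl S).1 (hsyl S).2 hC hN
    apply ker_eq_bot_of_transfer σ hσ 2 hexp (P.comap σ) ?_
      (fun a ha hac => hloc Γ σ hσ.1 hσ.2.1 a ha hac (hexp a ha))
    rw [Subgroup.index_comap_of_surjective _ hσ.1, Nat.coprime_comm,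
      Nat.Prime.coprime_iff_not_dvd Nat.prime_two]
    exact hidx
  by_cases hp3 : p = 3
  · subst hp3
    obtain ⟨τ, hτ⟩ := exists_tauData hK
    exact ker_eq_bot_three hm hK hτ _ (twistedG2_eq_fixTau hτ (sq_dichotomy_of_card hK)) σ hσ hexp
  · have hp5 : 3 < p := by
      have := hp.two_le
      rcases Nat.lt_or_ge 3 p with h | h
      · exact h
      · interval_cases p
        · exact absurd rfl hp2
        · exact absurd rfl hp3
    obtain ⟨P⟩ : Nonempty (Sylow p ↥(twistedG2 K (3 ^ m))) := inferInstance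
    haveI : IsCyclic ↥(P : Subgroup ↥(twistedG2 K (3 ^ m))) := hcyc p hp5 P
    apply ker_eq_bot_of_transfer σ hσ p hexp ((P : Subgroup ↥(twistedG2 K (3 ^ m))).comap σ) ?_
      (ker_inf_comm_cyclic σ hσ.2.1 (P : Subgroup ↥(twistedG2 K (3 ^ m))))
    rw [Subgroup.index_comap_of_surjective _ hσ.1]
    rw [Nat.coprime_comm, Nat.Prime.coprime_iff_not_dvd hp]
    exact Sylow.not_dvd_index P

/-- **`M(²G₂(q)) = 1` for `q ≥ 27`**, given cyclic Sylow `p`-subgroups for `p > 3`. -/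
theorem hasCyclicSchurMultiplier_ree (hm : 1 ≤ m) (hK : Fintype.card K = 3 ^ (2 * m + 1))
    (hcyc : ∀ (p : ℕ) [Fact p.Prime], 3 < p → ∀ P : Sylow p ↥(twistedG2 K (3 ^ m)),
      IsCyclic ↥(P : Subgroup ↥(twistedG2 K (3 ^ m)))) :
    Cfsg.HasCyclicSchurMultiplier ↥(twistedG2 K (3 ^ m)) 1 := by
  haveI : Finite ↥(twistedG2 K (3 ^ m)) := by
    haveI : Finite (GL chevG2.Idx K) := inferInstance
    exact Subtype.finite
  exact hasCyclic_of_trivMult (trivMult_ree hm hK hcyc)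

end Ree

end Cfsg.Agent.Lib.Helper27.ReeMult
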