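/-
helper27: solvable subgroups of a finite group `G` with elementary abelian Sylow 2-subgroups of order 8,
TI Sylow 3-subgroups, cyclic Sylow `r`-subgroups for `r > 3`: every solvable subgroup normalizes a
Sylow 2-subgroup, a Sylow 3-subgroup or a subgroup of prime order `r > 3`.
Part A: a 3-element normalizing a subgroup `Q` whose centralizer has order prime to 3 and contains a
Sylow 2-subgroup normalizes a Sylow 2-subgroup inside `C(Q)`.
-/
import Mathlib

set_option autoImplicit false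

namespace Cfsg.Agent.Lib.Helper27.ReeSolv

open Subgroup
open scoped Pointwise

section FixA

variable {G : Type*} [Group G] [Finite G]

/-- in a finite group, an element conjugating a subgroup into itself normalizes it -/
theorem mem_normalizer_of_conj_mem (H : Subgroup G) (x : G) (h : ∀ u ∈ H, x * u * x⁻¹ ∈ H) :
    x ∈ Subgroup.normalizer (H : Set G) := by
  rw [Subgroup.mem_normalizer_iff]
  intro u
  refine ⟨h u, ?_⟩
  intro hu
  let f : H → H := fun v => ⟨x * v * x⁻¹, h v v.2⟩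
  have hf : Function.Injective f := by
    intro a b hab
    have := congrArg Subtype.val hab
    simp only [f, mul_left_inj, mul_right_inj] at this
    exact Subtype.ext this
  have hs := Finite.injective_iff_surjective.mp hf
  obtain ⟨v, hv⟩ := hs ⟨x * u * x⁻¹, hu⟩
  have := congrArg Subtype.val hv
  simp only [f, mul_left_inj, mul_right_inj] at this
  rw [← this]
  exact v.2

/-- the normalizer of a subgroup normalizes its centralizer -/
theorem conj_mem_centralizer (Q : Subgroup G) (x : G) (hx : x ∈ Subgroup.normalizer (Q : Set G))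
    (c : G) (hc : c ∈ Subgroup.centralizer (Q : Set G)) :
    x * c * x⁻¹ ∈ Subgroup.centralizer (Q : Set G) := by
  rw [Subgroup.mem_centralizer_iff] at hc ⊢
  intro u hu
  have hu' : x⁻¹ * u * x⁻¹⁻¹ ∈ Q :=
    (Subgroup.mem_normalizer_iff.mp (Subgroup.inv_mem _ hx) u).mp hu
  rw [inv_inv] at hu'
  have h1 := hc _ hu'
  calc u * (x * c * x⁻¹) = x * ((x⁻¹ * u * x) * c) * x⁻¹ := by group
    _ = x * (c * (x⁻¹ * u * x)) * x⁻¹ := by rw [h1]
    _ = x * c * x⁻¹ * u := by group

theorem exists_sylow_two_normalized (Q : Subgroup G) (x : G)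
    (hxQ : x ∈ Subgroup.normalizer (Q : Set G)) (hx3 : x ^ 3 = 1)
    (h3 : ¬ 3 ∣ Nat.card (Subgroup.centralizer (Q : Set G)))
    (P₀ : Sylow 2 G) (hP₀ : (P₀ : Subgroup G) ≤ Subgroup.centralizer (Q : Set G)) :
    ∃ P : Sylow 2 G, (P : Subgroup G) ≤ Subgroup.centralizer (Q : Set G) ∧
      x ∈ Subgroup.normalizer ((P : Subgroup G) : Set G) := by
  classical
  have : Fact (Nat.Prime 2) := ⟨Nat.prime_two⟩
  have : Fact (Nat.Prime 3) := ⟨Nat.prime_three⟩
  obtain ⟨C, hC⟩ : ∃ C : Subgroup G, C = Subgroup.centralizer (Q : Set G) := ⟨_, rfl⟩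
  rw [← hC] at h3 hP₀ ⊢
  have hxC : ∀ c ∈ C, x * c * x⁻¹ ∈ C := by
    intro c hc
    rw [hC] at hc ⊢
    exact conj_mem_centralizer Q x hxQ c hc
  have hxC' : ∀ c ∈ C, x⁻¹ * c * x ∈ C := by
    intro c hc
    rw [hC] at hc ⊢
    have := conj_mem_centralizer Q x⁻¹ (Subgroup.inv_mem _ hxQ) c hc
    rwa [inv_inv] at this
  let ψ : MulAut ↥C :=
    { toFun := fun c => ⟨x * c * x⁻¹, hxC c c.2⟩
      invFun := fun c => ⟨x⁻¹ * c * x, hxC' c c.2⟩
      left_inv := fun c => Subtype.ext (by simp [mul_assoc])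
      right_inv := fun c => Subtype.ext (by simp [mul_assoc])
      map_mul' := fun a b => Subtype.ext (by simp [mul_assoc]) }
  have hψ : ∀ c : ↥C, ((ψ c : ↥C) : G) = x * c * x⁻¹ := fun c => rfl
  have hψ3 : ψ ^ 3 = 1 := by
    ext c
    have e3 : ψ ^ 3 = ψ * ψ * ψ := by rw [pow_succ, pow_two]
    rw [e3, MulAut.mul_apply, MulAut.mul_apply, hψ, hψ, hψ, MulAut.one_apply]
    have e4 : x ^ 3 = x * x * x := by rw [pow_succ, pow_two]
    have : x * (x * (x * (c : G) * x⁻¹) * x⁻¹) * x⁻¹ = (x * x * x) * c * (x * x * x)⁻¹ := by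
      simp [mul_assoc]
    rw [this, ← e4, hx3]
    simp
  let X : Subgroup (MulAut ↥C) := Subgroup.zpowers ψ
  have hX : IsPGroup 3 X := by
    intro g
    obtain ⟨k, hk⟩ := Subgroup.mem_zpowers_iff.mp g.2
    refine ⟨1, ?_⟩
    apply Subtype.ext
    rw [Subgroup.coe_pow, Subgroup.coe_one, ← hk, pow_one, ← zpow_natCast, ← zpow_mul, mul_comm,
      zpow_mul, zpow_natCast, hψ3, one_zpow]
  have hcard3 : ¬ 3 ∣ Nat.card (Sylow 2 ↥C) := by
    intro h
    obtain ⟨P⟩ : Nonempty (Sylow 2 ↥C) := inferInstance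
    exact h3 (dvd_trans (dvd_trans h P.card_dvd_index) (Subgroup.index_dvd_card _))
  obtain ⟨P₁, hP₁⟩ := hX.nonempty_fixed_point_of_prime_not_dvd_card (Sylow 2 ↥C) hcard3
  have hfix : ψ • P₁ = P₁ := hP₁ ⟨ψ, Subgroup.mem_zpowers ψ⟩
  have hmem : ∀ c : ↥C, c ∈ (P₁ : Subgroup ↥C) → ψ c ∈ (P₁ : Subgroup ↥C) := by
    intro c hc
    have h1 : ψ • c ∈ ψ • (P₁ : Subgroup ↥C) := Subgroup.smul_mem_pointwise_smul c ψ _ hc
    rw [← Sylow.pointwise_smul_def, hfix] at h1
    exact h1
  -- the order of `P₁`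
  have hfac : (Nat.card ↥C).factorization 2 = (Nat.card G).factorization 2 := by
    apply le_antisymm
    · exact (Nat.factorization_le_iff_dvd Nat.card_pos.ne' Nat.card_pos.ne').mpr
        (Subgroup.card_subgroup_dvd_card C) 2
    · have h1 : 2 ^ (Nat.card G).factorization 2 ∣ Nat.card ↥C := by
        rw [← P₀.card_eq_multiplicity]
        exact Subgroup.card_dvd_of_le hP₀
      exact (Nat.Prime.pow_dvd_iff_le_factorization Nat.prime_two Nat.card_pos.ne').mp h1
  let P : Subgroup G := (P₁ : Subgroup ↥C).map C.subtype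
  have hPcard : Nat.card P = 2 ^ (Nat.card G).factorization 2 := by
    rw [Subgroup.card_map_of_injective C.subtype_injective, P₁.card_eq_multiplicity, hfac]
  refine ⟨Sylow.ofCard P hPcard, ?_, ?_⟩
  · rw [Sylow.coe_ofCard]
    exact Subgroup.map_subtype_le _
  · rw [Sylow.coe_ofCard]
    apply mem_normalizer_of_conj_mem
    rintro _ ⟨c, hc, rfl⟩
    exact ⟨ψ c, hmem c hc, rfl⟩

end FixA

end Cfsg.Agent.Lib.Helper27.ReeSolv
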