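/-
helper27: the normalizer of the cyclic subgroup of order `(q+1)/4` of the Ree group `²G₂(q)`.
Part B: the abstract theorem: from a four-group `{1,u₁,u₂,u₁u₂}` with centralizer of order `8n`
(`n` odd), an element of order 3 permuting its involutions cyclically, "no transpositions",
commutative centralizers of order `4n` for elements of prime order `p ∣ n`, and cyclic `s`-subgroups for
`s ∣ n`, we get a cyclic subgroup `A` of order `n` with `|N(A)| = 24n`.
-/
import Mathlib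
import Cfsg.Agent.Lib.Helper27.ReeCentG
import Cfsg.Agent.Lib.Helper27.ReeSolvA

set_option autoImplicit false

namespace Cfsg.Agent.Lib.Helper27.ReePlus

open Subgroup Cfsg.Agent.Lib.Helper27.ReeCent Cfsg.Agent.Lib.Helper27.ReeSolv

section Small

/-- a set with at most four elements containing four distinct elements consists of these -/
theorem mem_of_card_le_four {α : Type*} (T : Set α) [Finite T] (hT : Nat.card T ≤ 4) (a b c d : α)
    (hab : a ≠ b) (hac : a ≠ c) (had : a ≠ d) (hbc : b ≠ c) (hbd : b ≠ d) (hcd : c ≠ d)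
    (ha : a ∈ T) (hb : b ∈ T) (hc : c ∈ T) (hd : d ∈ T) (v : α) (hv : v ∈ T) :
    v = a ∨ v = b ∨ v = c ∨ v = d := by
  classical
  by_contra hcon
  push Not at hcon
  obtain ⟨hva, hvb, hvc, hvd⟩ := hcon
  have hsub : (((({v, a, b, c, d} : Finset α)) : Finset α) : Set α) ⊆ T := by
    intro z hz
    simp only [Finset.coe_insert, Finset.coe_singleton, Set.mem_insert_iff,
      Set.mem_singleton_iff] at hz
    rcases hz with rfl | rfl | rfl | rfl | rfl <;> assumption
  have hcard : ({v, a, b, c, d} : Finset α).card = 5 := by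
    rw [Finset.card_insert_of_notMem, Finset.card_insert_of_notMem, Finset.card_insert_of_notMem,
      Finset.card_insert_of_notMem, Finset.card_singleton]
    · simpa using hcd
    · simp only [Finset.mem_insert, Finset.mem_singleton, not_or]; exact ⟨hbc, hbd⟩
    · simp only [Finset.mem_insert, Finset.mem_singleton, not_or]; exact ⟨hab, hac, had⟩
    · simp only [Finset.mem_insert, Finset.mem_singleton, not_or]; exact ⟨hva, hvb, hvc, hvd⟩
  have h1 := Set.ncard_le_ncard hsub (Set.toFinite T)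
  rw [Set.ncard_coe_finset, hcard, ← Nat.card_coe_set_eq] at h1
  omega

variable {G : Type*} [Group G] [Finite G]

/-- a commutative subgroup `C` is cyclic if the `s`-subgroups of `G` are cyclic for all primes
`s ∣ |C|` (copy of `ReeCent.isCyclic_of_comm_of_cyclic_sylow`, to keep this file light) -/
theorem isCyclic_of_comm_of_cyclic_sylow' (C : Subgroup G) (hC : ∀ a ∈ C, ∀ b ∈ C, a * b = b * a)
    (hsyl : ∀ s : ℕ, s.Prime → s ∣ Nat.card C → ∀ Q : Subgroup G, IsPGroup s Q → IsCyclic Q) :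
    IsCyclic C := by
  let _inst : CommGroup ↥C :=
    { (inferInstance : Group ↥C) with mul_comm := fun a b => Subtype.ext (hC a a.2 b b.2) }
  rw [IsCyclic.iff_exponent_eq_card]
  apply Nat.dvd_antisymm Group.exponent_dvd_nat_card
  have hd : Monoid.exponent ↥C ≠ 0 := Monoid.exponent_ne_zero_of_finite
  apply card_dvd_of_exponent_of_cyclic _ hd ?_ C ?_
  · intro s hs hsd
    exact hsyl s hs (dvd_trans hsd Group.exponent_dvd_nat_card)
  · intro x hx
    have h1 := Monoid.pow_exponent_eq_one (⟨x, hx⟩ : ↥C)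
    have h2 := congrArg Subtype.val h1
    simpa using h2

end Small

section Abstract

variable {G : Type*} [Group G] [Finite G]

theorem exists_cyclic_normalizer (n : ℕ) (hn1 : 1 < n) (hnodd : Odd n)
    (u₁ u₂ x : G) (hu₁ : u₁ * u₁ = 1) (hu₁1 : u₁ ≠ 1) (hu₂ : x * u₁ * x⁻¹ = u₂)
    (hcomm : u₁ * u₂ = u₂ * u₁) (hne : u₁ ≠ u₂)
    (hxu₂ : x * u₂ * x⁻¹ = u₁ * u₂)
    (hD : Nat.card ↥(Subgroup.centralizer ({u₁} : Set G) ⊓ Subgroup.centralizer ({u₂} : Set G)) =
      8 * n)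
    (hnt : ∀ g : G, g * u₁ * g⁻¹ = u₁ → g * u₂ * g⁻¹ ≠ u₁ * u₂)
    (hcent : ∀ (y : G) (p : ℕ), p.Prime → p ∣ n → orderOf y = p →
      (∀ a ∈ Subgroup.centralizer ({y} : Set G), ∀ b ∈ Subgroup.centralizer ({y} : Set G),
        a * b = b * a) ∧ Nat.card ↥(Subgroup.centralizer ({y} : Set G)) = 4 * n)
    (hsyl : ∀ s : ℕ, s.Prime → s ∣ n → ∀ Q : Subgroup G, IsPGroup s Q → IsCyclic Q) :
    ∃ A : Subgroup G, IsCyclic A ∧ Nat.card A = n ∧
      Nat.card ↥(Subgroup.normalizer (A : Set G)) = 24 * n ∧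
      ∀ A₀ : Subgroup G, A₀ ≤ A → A₀ ≠ ⊥ →
        Subgroup.normalizer (A₀ : Set G) = Subgroup.normalizer (A : Set G) := by
  classical
  have hn0 : n ≠ 0 := by omega
  -- the involutions
  have hu₂sq : u₂ * u₂ = 1 := by
    rw [← hu₂]
    have : x * u₁ * x⁻¹ * (x * u₁ * x⁻¹) = x * (u₁ * u₁) * x⁻¹ := by group
    rw [this, hu₁]; group
  have hu₂1 : u₂ ≠ 1 := by
    intro h
    rw [h] at hu₂
    apply hu₁1
    have : u₁ = x⁻¹ * (x * u₁ * x⁻¹) * x := by group
    rw [this, hu₂]; group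
  obtain ⟨u₃, hu₃⟩ : ∃ u₃ : G, u₃ = u₁ * u₂ := ⟨_, rfl⟩
  have hu₃sq : u₃ * u₃ = 1 := by
    rw [hu₃]
    calc u₁ * u₂ * (u₁ * u₂) = u₁ * (u₂ * u₁) * u₂ := by group
      _ = u₁ * (u₁ * u₂) * u₂ := by rw [hcomm]
      _ = (u₁ * u₁) * (u₂ * u₂) := by group
      _ = 1 := by rw [hu₁, hu₂sq, one_mul]
  have hu₁inv : u₁⁻¹ = u₁ := inv_eq_of_mul_eq_one_right hu₁
  have hu₂inv : u₂⁻¹ = u₂ := inv_eq_of_mul_eq_one_right hu₂sq
  have hu₃1 : u₃ ≠ 1 := by
    intro h
    rw [hu₃] at h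
    apply hne
    have : u₁ = u₂⁻¹ := eq_inv_of_mul_eq_one_left h
    rw [this, hu₂inv]
  have h13 : u₁ ≠ u₃ := by
    intro h
    apply hu₂1
    have : u₁ * 1 = u₁ * u₂ := by rw [mul_one, ← hu₃, ← h]
    exact (mul_left_cancel this).symm
  have h23 : u₂ ≠ u₃ := by
    intro h
    apply hu₁1
    have : 1 * u₂ = u₁ * u₂ := by rw [one_mul, ← hu₃, ← h]
    exact (mul_right_cancel this).symm
  have hxu₃ : x * u₃ * x⁻¹ = u₁ := by
    rw [hu₃]
    calc x * (u₁ * u₂) * x⁻¹ = (x * u₁ * x⁻¹) * (x * u₂ * x⁻¹) := by group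
      _ = u₂ * (u₁ * u₂) := by rw [hu₂, hxu₂]
      _ = u₂ * (u₂ * u₁) := by rw [hcomm]
      _ = (u₂ * u₂) * u₁ := by group
      _ = u₁ := by rw [hu₂sq, one_mul]
  -- the group `D = C(u₁) ∩ C(u₂)`
  obtain ⟨D, hDdef⟩ : ∃ D : Subgroup G,
      D = Subgroup.centralizer ({u₁} : Set G) ⊓ Subgroup.centralizer ({u₂} : Set G) := ⟨_, rfl⟩
  rw [← hDdef] at hD
  have hmemD : ∀ g : G, g ∈ D ↔ g * u₁ = u₁ * g ∧ g * u₂ = u₂ * g := by
    intro g
    rw [hDdef, Subgroup.mem_inf, Subgroup.mem_centralizer_singleton_iff,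
      Subgroup.mem_centralizer_singleton_iff]
  have hD3 : ∀ g ∈ D, g * u₃ = u₃ * g := by
    intro g hg
    obtain ⟨h1, h2⟩ := (hmemD g).mp hg
    rw [hu₃]
    calc g * (u₁ * u₂) = (g * u₁) * u₂ := by group
      _ = u₁ * (g * u₂) := by rw [h1]; group
      _ = u₁ * u₂ * g := by rw [h2]; group
  -- an element of prime order `p ∣ n` in `D`
  have hp : n.minFac.Prime := Nat.minFac_prime (by omega)
  have hpn : n.minFac ∣ n := Nat.minFac_dvd n
  obtain ⟨p, hpdef⟩ : ∃ p : ℕ, p = n.minFac := ⟨_, rfl⟩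
  rw [← hpdef] at hp hpn
  have : Fact p.Prime := ⟨hp⟩
  have hpD : p ∣ Nat.card D := by rw [hD]; exact dvd_mul_of_dvd_right hpn 8
  obtain ⟨y', hy'⟩ := exists_prime_orderOf_dvd_card' p hpD
  obtain ⟨y, hydef⟩ : ∃ y : G, y = (y' : G) := ⟨_, rfl⟩
  have hy : orderOf y = p := by rw [hydef, Subgroup.orderOf_coe]; exact hy'
  have hyD : y ∈ D := by rw [hydef]; exact y'.2
  obtain ⟨hCcomm, hCcard⟩ := hcent y p hp hpn hy
  obtain ⟨C, hCdef⟩ : ∃ C : Subgroup G, C = Subgroup.centralizer ({y} : Set G) := ⟨_, rfl⟩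
  rw [← hCdef] at hCcomm hCcard
  have hmemC : ∀ g : G, g ∈ C ↔ g * y = y * g := by
    intro g
    rw [hCdef, Subgroup.mem_centralizer_singleton_iff]
  have hyC : y ∈ C := (hmemC y).mpr rfl
  have hu₁C : u₁ ∈ C := (hmemC u₁).mpr ((hmemD y).mp hyD).1.symm
  have hu₂C : u₂ ∈ C := (hmemC u₂).mpr ((hmemD y).mp hyD).2.symm
  have hu₃C : u₃ ∈ C := by rw [hu₃]; exact C.mul_mem hu₁C hu₂C
  have hCD : C ≤ D := by
    intro c hc
    rw [hmemD]
    exact ⟨hCcomm c hc u₁ hu₁C, hCcomm c hc u₂ hu₂C⟩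
  -- the subgroup `A`
  let A : Subgroup G :=
    { carrier := {a | a ∈ C ∧ a ^ n = 1}
      mul_mem' := by
        rintro a b ⟨ha, ha'⟩ ⟨hb, hb'⟩
        refine ⟨C.mul_mem ha hb, ?_⟩
        rw [(show Commute a b from hCcomm a ha b hb).mul_pow, ha', hb', one_mul]
      one_mem' := ⟨C.one_mem, one_pow _⟩
      inv_mem' := by
        rintro a ⟨ha, ha'⟩
        exact ⟨C.inv_mem ha, by rw [inv_pow, ha', inv_one]⟩ }
  have hmemA : ∀ a : G, a ∈ A ↔ a ∈ C ∧ a ^ n = 1 := fun a => Iff.rfl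
  have hAC : A ≤ C := fun a ha => ha.1
  have hAcomm : ∀ a ∈ A, ∀ b ∈ A, a * b = b * a := fun a ha b hb => hCcomm a ha.1 b hb.1
  have hAcard : Nat.card A = n := by
    apply Nat.dvd_antisymm
    · exact card_dvd_of_exponent_of_cyclic n hn0 hsyl A (fun a ha => ha.2)
    · rw [Nat.dvd_iff_prime_pow_dvd_dvd]
      intro s k hs hsk
      have : Fact s.Prime := ⟨hs⟩
      have hsC : s ^ k ∣ Nat.card ↥C := by
        rw [hCcard]; exact dvd_mul_of_dvd_right hsk 4
      obtain ⟨Q, hQ⟩ := Sylow.exists_subgroup_card_pow_prime s hsC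
      have hQA : Q.map C.subtype ≤ A := by
        rintro _ ⟨q, hq, rfl⟩
        refine ⟨q.2, ?_⟩
        have h1 : (⟨q, hq⟩ : ↥Q) ^ Nat.card ↥Q = 1 := pow_card_eq_one'
        rw [hQ] at h1
        have h2 : (q : G) ^ (s ^ k) = 1 := by
          have := congrArg (fun z : ↥Q => ((z : ↥C) : G)) h1
          simpa using this
        obtain ⟨e, he⟩ := hsk
        rw [he, pow_mul]
        show ((q : G) ^ s ^ k) ^ e = 1
        rw [h2, one_pow]
      have := Subgroup.card_dvd_of_le hQA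
      rwa [Subgroup.card_map_of_injective C.subtype_injective, hQ] at this
  have hAcyc : IsCyclic A := by
    apply isCyclic_of_comm_of_cyclic_sylow' A hAcomm
    intro s hs hsd
    rw [hAcard] at hsd
    exact hsyl s hs hsd
  have hyA : y ∈ A := by
    refine ⟨hyC, ?_⟩
    obtain ⟨e, he⟩ := hpn
    rw [he, pow_mul, ← hy, pow_orderOf_eq_one, one_pow]
  -- `A` is the set of elements of `D` with `z ^ n = 1`
  have hAD : ∀ z ∈ D, z ^ n = 1 → z ∈ A := by
    intro z hz hzn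
    refine ⟨?_, hzn⟩
    have hidx : (C.subgroupOf D).index = 2 := by
      have h1 := Subgroup.card_mul_index (C.subgroupOf D)
      have h2 : Nat.card ↥(C.subgroupOf D) = 4 * n := by
        rw [Nat.card_congr (Subgroup.subgroupOfEquivOfLe hCD).toEquiv, hCcard]
      rw [h2, hD] at h1
      have : 4 * n * (C.subgroupOf D).index = 4 * n * 2 := by rw [h1]; ring
      exact Nat.eq_of_mul_eq_mul_left (by omega) this
    have hsq := Subgroup.sq_mem_of_index_two hidx (⟨z, hz⟩ : ↥D)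
    rw [Subgroup.mem_subgroupOf] at hsq
    have hsq' : z ^ 2 ∈ C := by simpa using hsq
    obtain ⟨k, hk⟩ := hnodd
    have : z = (z ^ 2) ^ (k + 1) := by
      rw [← pow_mul]
      have : 2 * (k + 1) = n + 1 := by omega
      rw [this, pow_succ, hzn, one_mul]
    rw [this]
    exact C.pow_mem hsq' _
  -- the normalizer
  obtain ⟨N, hNdef⟩ : ∃ N : Subgroup G, N = Subgroup.normalizer (A : Set G) := ⟨_, rfl⟩
  have hconjA : ∀ g ∈ N, ∀ a ∈ A, g * a * g⁻¹ ∈ A := by
    intro g hg a ha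
    rw [hNdef] at hg
    exact (Subgroup.mem_normalizer_iff.mp hg a).mp ha
  -- `N` normalizes `C`
  have hNC : ∀ g ∈ N, ∀ c ∈ C, g * c * g⁻¹ ∈ C := by
    intro g hg c hc
    rw [hmemC]
    have hy'A : g⁻¹ * y * g⁻¹⁻¹ ∈ A := hconjA g⁻¹ (N.inv_mem hg) y hyA
    rw [inv_inv] at hy'A
    have h1 := hCcomm c hc _ (hAC hy'A)
    calc g * c * g⁻¹ * y = g * (c * (g⁻¹ * y * g)) * g⁻¹ := by group
      _ = g * ((g⁻¹ * y * g) * c) * g⁻¹ := by rw [h1]
      _ = y * (g * c * g⁻¹) := by group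
  -- the involutions of `C`
  have hinvC : ∀ v ∈ C, v * v = 1 → v = 1 ∨ v = u₁ ∨ v = u₂ ∨ v = u₃ := by
    let E₂ : Subgroup G :=
      { carrier := {c | c ∈ C ∧ c * c = 1}
        mul_mem' := by
          rintro a b ⟨ha, ha'⟩ ⟨hb, hb'⟩
          refine ⟨C.mul_mem ha hb, ?_⟩
          calc a * b * (a * b) = a * (b * a) * b := by group
            _ = a * (a * b) * b := by rw [hCcomm b hb a ha]
            _ = (a * a) * (b * b) := by group
            _ = 1 := by rw [ha', hb', one_mul]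
        one_mem' := ⟨C.one_mem, one_mul 1⟩
        inv_mem' := by
          rintro a ⟨ha, ha'⟩
          refine ⟨C.inv_mem ha, ?_⟩
          rw [← mul_inv_rev, ha', inv_one] }
    have hE₂p : IsPGroup 2 E₂ := by
      intro c
      refine ⟨1, ?_⟩
      apply Subtype.ext
      rw [pow_one, pow_two]
      exact c.2.2
    obtain ⟨j, hj⟩ := IsPGroup.iff_card.mp hE₂p
    have hE₂C : E₂ ≤ C := fun c hc => hc.1
    have h1 : Nat.card E₂ ∣ 4 * n := hCcard ▸ Subgroup.card_dvd_of_le hE₂C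
    have h2 : Nat.card E₂ ∣ 4 := by
      apply Nat.Coprime.dvd_of_dvd_mul_right _ h1
      rw [hj]
      apply Nat.Coprime.pow_left
      rw [Nat.coprime_two_left]
      exact hnodd
    have h3 : Nat.card (E₂ : Set G) ≤ 4 := Nat.le_of_dvd (by norm_num) h2
    intro v hvC hv
    exact mem_of_card_le_four (E₂ : Set G) h3 1 u₁ u₂ u₃ (Ne.symm hu₁1) (Ne.symm hu₂1) (Ne.symm hu₃1)
      hne h13 h23 E₂.one_mem ⟨hu₁C, hu₁⟩ ⟨hu₂C, hu₂sq⟩ ⟨hu₃C, hu₃sq⟩ v ⟨hvC, hv⟩
  -- `N` permutes the three involutions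
  have hNinv : ∀ g ∈ N, ∀ v : G, v ∈ C → v * v = 1 → v ≠ 1 →
      g * v * g⁻¹ = u₁ ∨ g * v * g⁻¹ = u₂ ∨ g * v * g⁻¹ = u₃ := by
    intro g hg v hvC hv hv1
    have h1 : g * v * g⁻¹ ∈ C := hNC g hg v hvC
    have h2 : g * v * g⁻¹ * (g * v * g⁻¹) = 1 := by
      have : g * v * g⁻¹ * (g * v * g⁻¹) = g * (v * v) * g⁻¹ := by group
      rw [this, hv]; group
    rcases hinvC _ h1 h2 with h | h | h | h
    · exfalso
      apply hv1
      have : v = g⁻¹ * (g * v * g⁻¹) * g := by group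
      rw [this, h]; group
    · exact Or.inl h
    · exact Or.inr (Or.inl h)
    · exact Or.inr (Or.inr h)
  -- `D ≤ N`
  have hDN : D ≤ N := by
    intro d hd
    rw [hNdef]
    apply mem_normalizer_of_conj_mem
    intro a ha
    apply hAD
    · exact D.mul_mem (D.mul_mem hd (hCD (hAC ha))) (D.inv_mem hd)
    · have : (d * a * d⁻¹) ^ n = d * a ^ n * d⁻¹ := by
        have h : ∀ z : G, d * z * d⁻¹ = MulAut.conj d z := fun z => rfl
        rw [h, h, map_pow]
      rw [this, ha.2]; group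
  -- `x ∈ N`
  have hxD : ∀ d ∈ D, x * d * x⁻¹ ∈ D := by
    intro d hd
    obtain ⟨h1, h2⟩ := (hmemD d).mp hd
    have h3 := hD3 d hd
    rw [hmemD]
    constructor
    · -- commutes with `u₁ = x u₃ x⁻¹`
      rw [← hxu₃]
      calc x * d * x⁻¹ * (x * u₃ * x⁻¹) = x * (d * u₃) * x⁻¹ := by group
        _ = x * (u₃ * d) * x⁻¹ := by rw [h3]
        _ = x * u₃ * x⁻¹ * (x * d * x⁻¹) := by group
    · rw [← hu₂]
      calc x * d * x⁻¹ * (x * u₁ * x⁻¹) = x * (d * u₁) * x⁻¹ := by group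
        _ = x * (u₁ * d) * x⁻¹ := by rw [h1]
        _ = x * u₁ * x⁻¹ * (x * d * x⁻¹) := by group
  have hxN : x ∈ N := by
    rw [hNdef]
    apply mem_normalizer_of_conj_mem
    intro a ha
    apply hAD
    · exact hxD a (hCD (hAC ha))
    · have : (x * a * x⁻¹) ^ n = x * a ^ n * x⁻¹ := by
        have h : ∀ z : G, x * z * x⁻¹ = MulAut.conj x z := fun z => rfl
        rw [h, h, map_pow]
      rw [this, ha.2]; group
  -- the stabilizer of `u₁` in `N` is `D`
  have hstab : ∀ g ∈ N, g * u₁ * g⁻¹ = u₁ → g ∈ D := by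
    intro g hg h1
    rw [hmemD]
    have hgu₁ : g * u₁ = u₁ * g := by
      calc g * u₁ = (g * u₁ * g⁻¹) * g := by group
        _ = u₁ * g := by rw [h1]
    refine ⟨hgu₁, ?_⟩
    rcases hNinv g hg u₂ hu₂C hu₂sq hu₂1 with h | h | h
    · exfalso
      apply hne
      have : g * u₁ * g⁻¹ = g * u₂ * g⁻¹ := by rw [h1, h]
      have h5 : u₁ = g⁻¹ * (g * u₁ * g⁻¹) * g := by group
      rw [h5, this]; group
    · calc g * u₂ = (g * u₂ * g⁻¹) * g := by group
        _ = u₂ * g := by rw [h]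
    · exfalso
      rw [hu₃] at h
      exact hnt g h1 h
  -- counting
  letI act : MulAction ↥N G := MulAction.compHom G ((MulAut.conj).comp N.subtype)
  have hsmul : ∀ (g : ↥N) (v : G), g • v = (g : G) * v * (g : G)⁻¹ := fun g v => rfl
  have horb : MulAction.orbit ↥N u₁ = {u₁, u₂, u₃} := by
    ext v
    constructor
    · rintro ⟨g, rfl⟩
      show g • u₁ ∈ ({u₁, u₂, u₃} : Set G)
      rw [hsmul]
      rcases hNinv g g.2 u₁ hu₁C hu₁ hu₁1 with h | h | h
      · rw [h]; exact Set.mem_insert _ _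
      · rw [h]; exact Set.mem_insert_of_mem _ (Set.mem_insert _ _)
      · rw [h]; exact Set.mem_insert_of_mem _ (Set.mem_insert_of_mem _ rfl)
    · intro hv
      rcases hv with rfl | rfl | rfl
      · exact ⟨1, by show (1 : ↥N) • v = v; rw [one_smul]⟩
      · exact ⟨⟨x, hxN⟩, by show (⟨x, hxN⟩ : ↥N) • u₁ = v; rw [hsmul]; exact hu₂⟩
      · refine ⟨⟨x * x, N.mul_mem hxN hxN⟩, ?_⟩
        show (⟨x * x, N.mul_mem hxN hxN⟩ : ↥N) • u₁ = v
        rw [hsmul]
        show x * x * u₁ * (x * x)⁻¹ = v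
        calc x * x * u₁ * (x * x)⁻¹ = x * (x * u₁ * x⁻¹) * x⁻¹ := by group
          _ = v := by rw [hu₂, hxu₂, ← hu₃]
  have horbcard : (MulAction.orbit ↥N u₁).ncard = 3 := by
    rw [horb]
    rw [Set.ncard_insert_of_notMem, Set.ncard_pair h23]
    simp only [Set.mem_insert_iff, Set.mem_singleton_iff, not_or]
    exact ⟨hne, h13⟩
  have hstabeq : MulAction.stabilizer ↥N u₁ = D.subgroupOf N := by
    ext g
    rw [MulAction.mem_stabilizer_iff, Subgroup.mem_subgroupOf, hsmul]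
    constructor
    · intro h
      exact hstab g g.2 h
    · intro h
      have := ((hmemD g).mp h).1
      rw [this]; group
  have hcount := Subgroup.card_mul_index (MulAction.stabilizer ↥N u₁)
  rw [MulAction.index_stabilizer, horbcard, hstabeq,
    Nat.card_congr (Subgroup.subgroupOfEquivOfLe hDN).toEquiv, hD] at hcount
  refine ⟨A, hAcyc, hAcard, ?_, ?_⟩
  · rw [← hNdef, ← hcount]
    ring
  · -- `N(A₀) = N(A)` for nontrivial `A₀ ≤ A`
    -- elements of prime order of `A` have centralizer `C`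
    have hkey : ∀ z ∈ A, (orderOf z).Prime → Subgroup.centralizer ({z} : Set G) = C := by
      intro z hz hzp
      have hzn : orderOf z ∣ n := orderOf_dvd_of_pow_eq_one hz.2
      obtain ⟨hzcomm, hzcard⟩ := hcent z _ hzp hzn rfl
      have hle : C ≤ Subgroup.centralizer ({z} : Set G) := by
        intro c hc
        rw [Subgroup.mem_centralizer_singleton_iff]
        exact hCcomm c hc z hz.1
      exact (Subgroup.eq_of_le_of_card_ge hle (by rw [hzcard, hCcard])).symm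
    intro A₀ hA₀ hA₀ne
    obtain ⟨a, ha1⟩ := (Subgroup.ne_bot_iff_exists_ne_one).mp hA₀ne
    have ha1' : (a : G) ≠ 1 := fun h => ha1 (Subtype.ext h)
    -- an element of prime order in `A₀`
    have hao1 : orderOf (a : G) ≠ 1 := fun h => ha1' (orderOf_eq_one_iff.mp h)
    obtain ⟨p', hp', hp'd⟩ := Nat.exists_prime_and_dvd hao1
    obtain ⟨e', he'⟩ := hp'd
    have he'0 : e' ≠ 0 := by
      rintro rfl
      rw [mul_zero] at he'
      exact (orderOf_pos (a : G)).ne' he'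
    have hy'ord : orderOf ((a : G) ^ e') = p' := by
      rw [orderOf_pow_of_dvd he'0 (by rw [he']; exact dvd_mul_left e' p'), he']
      exact Nat.mul_div_cancel _ (Nat.pos_of_ne_zero he'0)
    have hy'A₀ : (a : G) ^ e' ∈ A₀ := A₀.pow_mem a.2 _
    apply le_antisymm
    · -- `N(A₀) ≤ N(A)`
      intro g hg
      apply mem_normalizer_of_conj_mem
      have hzA₀ : g * (a : G) ^ e' * g⁻¹ ∈ A₀ := (Subgroup.mem_normalizer_iff.mp hg _).mp hy'A₀
      have hzord : orderOf (g * (a : G) ^ e' * g⁻¹) = p' := by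
        have : g * (a : G) ^ e' * g⁻¹ = MulAut.conj g ((a : G) ^ e') := rfl
        rw [this, MulEquiv.orderOf_eq, hy'ord]
      have hC1 := hkey _ (hA₀ hy'A₀) (by rw [hy'ord]; exact hp')
      have hC2 := hkey _ (hA₀ hzA₀) (by rw [hzord]; exact hp')
      have hgC : ∀ c ∈ C, g * c * g⁻¹ ∈ C := by
        intro c hc
        rw [← hC2, Subgroup.mem_centralizer_singleton_iff]
        rw [← hC1, Subgroup.mem_centralizer_singleton_iff] at hc
        calc g * c * g⁻¹ * (g * (a : G) ^ e' * g⁻¹) = g * (c * (a : G) ^ e') * g⁻¹ := by group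
          _ = g * ((a : G) ^ e' * c) * g⁻¹ := by rw [hc]
          _ = g * (a : G) ^ e' * g⁻¹ * (g * c * g⁻¹) := by group
      intro a' ha'
      refine ⟨hgC a' ha'.1, ?_⟩
      have : (g * a' * g⁻¹) ^ n = g * a' ^ n * g⁻¹ := by
        have h : ∀ z : G, g * z * g⁻¹ = MulAut.conj g z := fun z => rfl
        rw [h, h, map_pow]
      rw [this, ha'.2]; group
    · -- `N(A) ≤ N(A₀)`
      intro g hg
      apply mem_normalizer_of_conj_mem
      have hd : Nat.card A₀ ∣ n := hAcard ▸ Subgroup.card_dvd_of_le hA₀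
      have heq : A₀.map (MulAut.conj g).toMonoidHom = A₀ := by
        apply eq_of_card_eq_of_comm (Nat.card A₀)
          (fun s hs hsd Q hQ => hsyl s hs (dvd_trans hsd hd) Q hQ) A hAcomm
        · rintro _ ⟨a', ha', rfl⟩
          exact (Subgroup.mem_normalizer_iff.mp hg a').mp (hA₀ ha')
        · exact hA₀
        · exact Subgroup.card_map_of_injective (MulAut.conj g).injective
        · rfl
      intro a' ha'
      rw [← heq]
      exact ⟨a', ha', rfl⟩

end Abstract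

end Cfsg.Agent.Lib.Helper27.ReePlus
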