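/-
helper27: solvable subgroups of a finite group `G` with elementary abelian Sylow 2-subgroups of order 8,
TI Sylow 3-subgroups, cyclic `r`-subgroups for `r > 3`, and no element of order 3 centralizing a
four-group: every solvable subgroup normalizes a Sylow 2-subgroup, a Sylow 3-subgroup or a subgroup of
prime order `r > 3`.  Part B: the main abstract theorem.
-/
import Cfsg.Agent.Lib.Helper27.ReeSolvA
import Cfsg.Agent.Lib.Helper27.ReeCentG
import Cfsg.Agent.Lib.Helper1.Fitting
import Cfsg.Agent.S0044

set_option autoImplicit false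

namespace Cfsg.Agent.Lib.Helper27.ReeSolv

open Subgroup Cfsg.Agent.Lib.Helper1 Cfsg.Agent.Lib.Helper27.ReeCent
open scoped Pointwise

section Main

variable {G : Type*} [Group G] [Finite G]

/-- images of normal subgroups are normalized by the image -/
theorem map_normalized {H : Type*} [Group H] (ι : H →* G) (N : Subgroup H) [hN : N.Normal] (h : H) :
    ι h ∈ Subgroup.normalizer ((N.map ι : Subgroup G) : Set G) := by
  apply mem_normalizer_of_conj_mem
  rintro _ ⟨n, hn, rfl⟩
  exact ⟨h * n * h⁻¹, hN.conj_mem n hn h, by simp⟩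

/-- a nontrivial 3-subgroup lies in a unique Sylow 3-subgroup, if these are TI -/
theorem case_three [Fact (Nat.Prime 3)]
    (h3 : ∀ P P' : Sylow 3 G, P ≠ P' → (P : Subgroup G) ⊓ (P' : Subgroup G) = ⊥)
    (N : Subgroup G) (hN : IsPGroup 3 N) (hN1 : N ≠ ⊥) :
    ∃ P : Sylow 3 G, Subgroup.normalizer (N : Set G) ≤
      Subgroup.normalizer ((P : Subgroup G) : Set G) := by
  obtain ⟨P, hP⟩ := hN.exists_le_sylow
  refine ⟨P, ?_⟩
  intro g hg
  refine (Sylow.smul_eq_iff_mem_normalizer (P := P)).mp ?_
  by_contra hne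
  have h1 := h3 (g • P) P hne
  have h2 : N ≤ ((g • P : Sylow 3 G) : Subgroup G) := by
    intro n hn
    rw [Sylow.coe_subgroup_smul, Subgroup.mem_smul_pointwise_iff_exists]
    refine ⟨g⁻¹ * n * g, hP ?_, ?_⟩
    · have := (Subgroup.mem_normalizer_iff.mp (Subgroup.inv_mem _ hg) n).mp hn
      simpa using this
    · simp [MulAut.smul_def, MulAut.conj_apply, mul_assoc]
  have h4 : N ≤ ⊥ := h1 ▸ le_inf h2 hP
  exact hN1 (le_bot_iff.mp h4)

/-- a nontrivial cyclic `r`-subgroup has a subgroup of order `r` normalized by its normalizer -/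
theorem case_gt_three (r : ℕ) (hr : r.Prime) (N : Subgroup G) (hN : IsPGroup r N) (hN1 : N ≠ ⊥)
    (hcyc : ∀ Q : Subgroup G, IsPGroup r Q → IsCyclic Q) :
    ∃ y : G, orderOf y = r ∧ Subgroup.normalizer (N : Set G) ≤
      Subgroup.normalizer ((Subgroup.zpowers y : Subgroup G) : Set G) := by
  have : Fact r.Prime := ⟨hr⟩
  obtain ⟨k, hk⟩ := IsPGroup.iff_card.mp hN
  have hk0 : k ≠ 0 := by
    rintro rfl
    rw [pow_zero] at hk
    exact hN1 (Subgroup.card_eq_one.mp hk)
  have hdvd : r ∣ Nat.card N := by rw [hk]; exact dvd_pow_self r hk0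
  obtain ⟨y', hy'⟩ := exists_prime_orderOf_dvd_card' r hdvd
  refine ⟨(y' : G), by rw [Subgroup.orderOf_coe]; exact hy', ?_⟩
  have hyo : orderOf (y' : G) = r := by rw [Subgroup.orderOf_coe]; exact hy'
  have hNc : IsCyclic N := hcyc N hN
  have hNcomm : ∀ a ∈ N, ∀ b ∈ N, a * b = b * a := by
    intro a ha b hb
    have hmc : IsMulCommutative ↥N := IsCyclic.isMulCommutative
    exact congrArg Subtype.val (hmc.is_comm.comm ⟨a, ha⟩ ⟨b, hb⟩)
  intro g hg
  apply mem_normalizer_of_conj_mem
  have hconj : g * (y' : G) * g⁻¹ ∈ N := (Subgroup.mem_normalizer_iff.mp hg _).mp y'.2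
  have heq : Subgroup.zpowers (g * (y' : G) * g⁻¹) = Subgroup.zpowers (y' : G) := by
    apply eq_of_card_eq_of_comm r
      (fun s hs hsr Q hQ => by
        have : s = r := (Nat.prime_dvd_prime_iff_eq hs hr).1 hsr
        subst this
        exact hcyc Q hQ) N hNcomm
    · rw [Subgroup.zpowers_le]; exact hconj
    · rw [Subgroup.zpowers_le]; exact y'.2
    · rw [Nat.card_zpowers]
      have : g * (y' : G) * g⁻¹ = MulAut.conj g (y' : G) := rfl
      rw [this, MulEquiv.orderOf_eq, hyo]
    · rw [Nat.card_zpowers, hyo]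
  intro u hu
  obtain ⟨n, rfl⟩ := Subgroup.mem_zpowers_iff.mp hu
  have h1 : g * (y' : G) ^ n * g⁻¹ = (g * (y' : G) * g⁻¹) ^ n := by
    have : ∀ z : G, g * z * g⁻¹ = MulAut.conj g z := fun z => rfl
    rw [this, this, map_zpow]
  rw [h1, ← heq]
  exact Subgroup.zpow_mem _ (Subgroup.mem_zpowers _) n

/-- **Solvable subgroups**: abstract form. `Good` is any property of subgroups enjoyed by the
Sylow 2-subgroups, the Sylow 3-subgroups, and by a subgroup normalized by `N(⟨y⟩)` for each `y` of
prime order `r > 3`. -/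
theorem solvable_le_normalizer (Good : Subgroup G → Prop)
    (h2 : ∀ P : Sylow 2 G, Nat.card P = 8 ∧ ∀ x ∈ P, x * x = 1)
    (hg2 : ∀ P : Sylow 2 G, Good P)
    (h3 : ∀ P P' : Sylow 3 G, P ≠ P' → (P : Subgroup G) ⊓ (P' : Subgroup G) = ⊥)
    (hg3 : ∀ P : Sylow 3 G, Good P)
    (hcyc : ∀ r : ℕ, r.Prime → 3 < r → ∀ N : Subgroup G, IsPGroup r N → IsCyclic N)
    (hgr : ∀ (r : ℕ) (y : G), r.Prime → 3 < r → orderOf y = r →
      ∃ A : Subgroup G, Good A ∧
        Subgroup.normalizer ((Subgroup.zpowers y : Subgroup G) : Set G) ≤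
          Subgroup.normalizer (A : Set G))
    (h43 : ∀ z : G, orderOf z = 3 → ¬ 4 ∣ Nat.card (Subgroup.centralizer ({z} : Set G)))
    {H : Type*} [Group H] [Finite H] [Group.IsSolvable H] (ι : H →* G)
    (hι : Function.Injective ι) :
    ∃ A : Subgroup G, Good A ∧ ∀ h : H, ι h ∈ Subgroup.normalizer (A : Set G) := by
  classical
  have : Fact (Nat.Prime 2) := ⟨Nat.prime_two⟩
  have : Fact (Nat.Prime 3) := ⟨Nat.prime_three⟩
  by_cases hodd : ∃ r : ℕ, r.Prime ∧ r ≠ 2 ∧ Cfsg.pCore r H ≠ ⊥
  · -- Case A: a nontrivial normal `r`-subgroup, `r` odd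
    obtain ⟨r, hr, hr2, hne⟩ := hodd
    have : Fact r.Prime := ⟨hr⟩
    have hnorm : (Cfsg.pCore r H).Normal := pCore_normal r H
    obtain ⟨N, hNdef⟩ : ∃ N : Subgroup G, N = (Cfsg.pCore r H).map ι := ⟨_, rfl⟩
    have hNp : IsPGroup r N := by rw [hNdef]; exact (pCore_isPGroup r H).map ι
    have hN1 : N ≠ ⊥ := by
      intro h
      apply hne
      rwa [hNdef, Subgroup.map_eq_bot_iff_of_injective _ hι] at h
    have hHN : ∀ h : H, ι h ∈ Subgroup.normalizer (N : Set G) := by
      intro h; rw [hNdef]; exact map_normalized ι _ h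
    by_cases hr3 : r = 3
    · subst hr3
      obtain ⟨P, hP⟩ := case_three h3 N hNp hN1
      exact ⟨P, hg3 P, fun h => hP (hHN h)⟩
    · have hr3' : 3 < r := by
        by_contra hle
        have := hr.two_le
        have : r = 2 ∨ r = 3 := by omega
        rcases this with h | h
        · exact hr2 h
        · exact hr3 h
      obtain ⟨y, hy, hyN⟩ := case_gt_three r hr N hNp hN1 (hcyc r hr hr3')
      obtain ⟨A, hA, hAN⟩ := hgr r y hr hr3' hy
      exact ⟨A, hA, fun h => hAN (hyN (hHN h))⟩
  · -- Case B: `F(H) = O_2(H)`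
    push Not at hodd
    have hF : Cfsg.fittingSubgroup H = Cfsg.pCore 2 H := by
      rw [fittingSubgroup_eq_iSup_pCore]
      apply le_antisymm
      · apply iSup_le
        intro p
        by_cases hp2 : (p : ℕ) = 2
        · rw [hp2]
        · rw [hodd p p.2 hp2]; exact bot_le
      · exact le_iSup_of_le (⟨2, Nat.prime_two⟩ : Nat.Primes) le_rfl
    obtain ⟨Q, hQdef⟩ : ∃ Q : Subgroup H, Q = Cfsg.pCore 2 H := ⟨_, rfl⟩
    have hcent : Subgroup.centralizer (Q : Set H) ≤ Q := by
      have := Cfsg.Agent.S0044.result (G := H)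
      rwa [hF, ← hQdef] at this
    have hQn : Q.Normal := by rw [hQdef]; exact pCore_normal 2 H
    have hQp : IsPGroup 2 Q := by rw [hQdef]; exact pCore_isPGroup 2 H
    obtain ⟨Q', hQ'def⟩ : ∃ Q' : Subgroup G, Q' = Q.map ι := ⟨_, rfl⟩
    have hQ'p : IsPGroup 2 Q' := by rw [hQ'def]; exact hQp.map ι
    have hmemQ' : ∀ h : H, h ∈ Q → ι h ∈ Q' := by
      intro h hh; rw [hQ'def]; exact Subgroup.mem_map_of_mem ι hh
    obtain ⟨P₀, hP₀⟩ := hQ'p.exists_le_sylow
    obtain ⟨hP₀card, hP₀exp⟩ := h2 P₀
    have hB0 : (∀ h : H, ι h ∈ (P₀ : Subgroup G)) →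
        ∃ A : Subgroup G, Good A ∧ ∀ h : H, ι h ∈ Subgroup.normalizer (A : Set G) := by
      intro hle
      exact ⟨P₀, hg2 P₀, fun h => Subgroup.le_normalizer (hle h)⟩
    have hQcard : Nat.card Q' ∣ 8 := by
      rw [← hP₀card]; exact Subgroup.card_dvd_of_le hP₀
    have hQQ' : Nat.card Q' = Nat.card Q := by
      rw [hQ'def]; exact Subgroup.card_map_of_injective hι
    have hHQ' : ∀ h : H, ι h ∈ Subgroup.normalizer (Q' : Set G) := by
      intro h; rw [hQ'def]; exact map_normalized ι _ h
    have h8 : Nat.card Q = 1 ∨ Nat.card Q = 2 ∨ Nat.card Q = 4 ∨ Nat.card Q = 8 := by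
      rw [← hQQ']
      have hle : Nat.card Q' ≤ 8 := Nat.le_of_dvd (by norm_num) hQcard
      obtain ⟨n, hn⟩ : ∃ n, Nat.card Q' = n := ⟨_, rfl⟩
      rw [hn] at hle hQcard ⊢
      clear hn
      interval_cases n <;> first | exact Or.inl rfl | exact Or.inr (Or.inl rfl) |
        exact Or.inr (Or.inr (Or.inl rfl)) | exact Or.inr (Or.inr (Or.inr rfl)) |
        exact absurd hQcard (by decide)
    -- exponent 2 groups are commutative
    have hexp_comm : ∀ P : Sylow 2 G, ∀ a ∈ (P : Subgroup G), ∀ b ∈ (P : Subgroup G), a * b = b * a := by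
      intro P a ha b hb
      have hPe := (h2 P).2
      have h1 := hPe a ha
      have h2' := hPe b hb
      have h3' := hPe (a * b) (Subgroup.mul_mem _ ha hb)
      have ea : a⁻¹ = a := inv_eq_of_mul_eq_one_right h1
      have eb : b⁻¹ = b := inv_eq_of_mul_eq_one_right h2'
      have : (a * b)⁻¹ = a * b := inv_eq_of_mul_eq_one_right h3'
      rw [mul_inv_rev, ea, eb] at this
      exact this.symm
    rcases h8 with hc1 | hc2 | hc4 | hc8
    · -- `Q = 1`, so `H = 1`
      apply hB0
      intro h
      have hQbot : Q = ⊥ := Subgroup.card_eq_one.mp hc1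
      have h1 : h ∈ Subgroup.centralizer (Q : Set H) := by
        rw [Subgroup.mem_centralizer_iff]
        intro u hu
        rw [SetLike.mem_coe, hQbot, Subgroup.mem_bot] at hu
        rw [hu, one_mul, mul_one]
      have h2' := hcent h1
      rw [hQbot, Subgroup.mem_bot] at h2'
      rw [h2', map_one]
      exact Subgroup.one_mem _
    · -- `|Q| = 2`: `Q` is central, `H = Q`
      apply hB0
      intro h
      obtain ⟨t, ht, htu⟩ := (Nat.card_eq_two_iff' (1 : ↥Q)).mp hc2
      have h1 : h ∈ Subgroup.centralizer (Q : Set H) := by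
        rw [Subgroup.mem_centralizer_iff]
        intro u hu
        by_cases hu1 : u = 1
        · rw [hu1, one_mul, mul_one]
        · have e1 : (⟨u, hu⟩ : ↥Q) = t := htu _ (fun h => hu1 (congrArg Subtype.val h))
          have hconj : h * u * h⁻¹ ∈ Q := hQn.conj_mem u hu h
          have e2 : (⟨h * u * h⁻¹, hconj⟩ : ↥Q) = t := by
            apply htu
            intro h'
            apply hu1
            have := congrArg Subtype.val h'
            simp only [Subgroup.coe_one] at this
            have h5 : u = h⁻¹ * (h * u * h⁻¹) * h := by group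
            rw [h5, this]; group
          have := congrArg Subtype.val (e2.trans e1.symm)
          simp only at this
          calc u * h = (h * u * h⁻¹) * h := by rw [this]
            _ = h * u := by group
      exact hP₀ (hmemQ' h (hcent h1))
    · -- `|Q| = 4`
      -- the Sylow 2-subgroups of `H` are equal to `Q`
      obtain ⟨T⟩ : Nonempty (Sylow 2 H) := inferInstance
      have hQT : Q ≤ (T : Subgroup H) := by rw [hQdef]; exact pCore_le_sylow T
      have hTcomm : ∀ a ∈ (T : Subgroup H), ∀ b ∈ (T : Subgroup H), a * b = b * a := by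
        intro a ha b hb
        have hTp : IsPGroup 2 ((T : Subgroup H).map ι) := T.isPGroup'.map ι
        obtain ⟨P₁, hP₁⟩ := hTp.exists_le_sylow
        apply hι
        rw [map_mul, map_mul]
        exact hexp_comm P₁ _ (hP₁ (Subgroup.mem_map_of_mem ι ha)) _
          (hP₁ (Subgroup.mem_map_of_mem ι hb))
      have hTQ : (T : Subgroup H) ≤ Q := by
        intro a ha
        apply hcent
        rw [Subgroup.mem_centralizer_iff]
        intro u hu
        exact hTcomm u (hQT hu) a ha
      have hTeq : (T : Subgroup H) = Q := le_antisymm hTQ hQT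
      have hTcard : 2 ^ (Nat.card H).factorization 2 = 4 := by
        rw [← T.card_eq_multiplicity, hTeq, hc4]
      -- the conjugation action on `Q`
      let φ : H →* Equiv.Perm ↥Q := (MulAut.toPerm ↥Q).comp (MulAut.conjNormal (H := Q))
      have hker : φ.ker ≤ Q := by
        intro h hh
        apply hcent
        rw [Subgroup.mem_centralizer_iff]
        intro u hu
        have h1 : φ h ⟨u, hu⟩ = ⟨u, hu⟩ := by
          rw [MonoidHom.mem_ker.mp hh]; rfl
        have h2' : ((φ h ⟨u, hu⟩ : ↥Q) : H) = h * u * h⁻¹ := rfl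
        rw [h1] at h2'
        simp only at h2'
        calc u * h = (h * u * h⁻¹) * h := by rw [← h2']
          _ = h * u := by group
      have hcardH : Nat.card H ∣ 96 := by
        have h1 : Nat.card H = Nat.card φ.ker * Nat.card φ.range := by
          rw [← Subgroup.card_mul_index φ.ker, Subgroup.index_ker]
        have h2' : Nat.card φ.ker ∣ 4 := by
          rw [← hc4]; exact Subgroup.card_dvd_of_le hker
        have h3' : Nat.card φ.range ∣ 24 := by
          have h4 := Subgroup.card_subgroup_dvd_card φ.range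
          have h5 : Nat.card (Equiv.Perm ↥Q) = 24 := by
            rw [Nat.card_perm, hc4]; rfl
          rwa [h5] at h4
        rw [h1]
        exact mul_dvd_mul h2' h3'
      have hcard12 : Nat.card H = 4 ∨ Nat.card H = 12 := by
        have h1 := Nat.ordProj_mul_ordCompl_eq_self (Nat.card H) 2
        have h2' : ¬ 2 ∣ Nat.card H / 2 ^ (Nat.card H).factorization 2 :=
          Nat.not_dvd_ordCompl Nat.prime_two Nat.card_pos.ne'
        rw [hTcard] at h1 h2'
        obtain ⟨k, hk⟩ : ∃ k, Nat.card H / 4 = k := ⟨_, rfl⟩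
        rw [hk] at h1 h2'
        rw [← h1] at hcardH ⊢
        have hk24 : k ∣ 24 := by
          have : 4 * k ∣ 4 * 24 := hcardH
          exact (Nat.mul_dvd_mul_iff_left (by norm_num)).mp this
        have hkle : k ≤ 24 := Nat.le_of_dvd (by norm_num) hk24
        have hk' : k = 1 ∨ k = 3 := by
          interval_cases k <;> first | exact Or.inl rfl | exact Or.inr rfl |
            exact absurd (by decide) h2' | exact absurd hk24 (by decide)
        rcases hk' with rfl | rfl
        · left; rfl
        · right; rfl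
      rcases hcard12 with hH4 | hH12
      · apply hB0
        intro h
        have hQtop : Q = ⊤ := by
          apply Subgroup.eq_top_of_card_eq
          rw [hc4, hH4]
        exact hP₀ (hmemQ' h (hQtop ▸ Subgroup.mem_top h))
      · -- `|H| = 12`
        have h3H : 3 ∣ Nat.card H := by rw [hH12]; norm_num
        obtain ⟨x, hx⟩ := exists_prime_orderOf_dvd_card' 3 h3H
        have hx3 : (ι x) ^ 3 = 1 := by
          rw [← map_pow, ← hx, pow_orderOf_eq_one, map_one]
        have hP₀C : (P₀ : Subgroup G) ≤ Subgroup.centralizer (Q' : Set G) := by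
          intro a ha
          rw [Subgroup.mem_centralizer_iff]
          intro u hu
          exact hexp_comm P₀ u (hP₀ hu) a ha
        have h3C : ¬ 3 ∣ Nat.card (Subgroup.centralizer (Q' : Set G)) := by
          intro h
          obtain ⟨z, hz⟩ := exists_prime_orderOf_dvd_card' 3 h
          have hz' : orderOf (z : G) = 3 := by rw [Subgroup.orderOf_coe]; exact hz
          apply h43 (z : G) hz'
          have hle : Q' ≤ Subgroup.centralizer ({(z : G)} : Set G) := by
            intro u hu
            rw [Subgroup.mem_centralizer_iff]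
            intro w hw
            rw [Set.mem_singleton_iff] at hw
            subst hw
            have := z.2
            rw [Subgroup.mem_centralizer_iff] at this
            exact (this u hu).symm
          have := Subgroup.card_dvd_of_le hle
          rwa [hQQ', hc4] at this
        obtain ⟨P, hPC, hxP⟩ := exists_sylow_two_normalized Q' (ι x) (hHQ' x) hx3 h3C P₀ hP₀C
        have hQ'P : Q' ≤ Subgroup.normalizer ((P : Subgroup G) : Set G) := by
          intro u hu
          apply mem_normalizer_of_conj_mem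
          intro p hp
          have := hPC hp
          rw [Subgroup.mem_centralizer_iff] at this
          have e := this u hu
          have : u * p * u⁻¹ = p := by rw [e]; group
          rw [this]; exact hp
        let L : Subgroup H := (Subgroup.normalizer ((P : Subgroup G) : Set G)).comap ι
        have hQL : Q ≤ L := fun u hu => hQ'P (hmemQ' u hu)
        have hxL : x ∈ L := hxP
        have h4L : 4 ∣ Nat.card L := by rw [← hc4]; exact Subgroup.card_dvd_of_le hQL
        have h3L : 3 ∣ Nat.card L := by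
          rw [← hx]; exact Subgroup.orderOf_dvd_natCard L hxL
        have h12L : 12 ∣ Nat.card L :=
          Nat.Coprime.mul_dvd_of_dvd_of_dvd (by norm_num : Nat.Coprime 4 3) h4L h3L
        have hLtop : L = ⊤ := by
          apply Subgroup.eq_top_of_le_card
          rw [hH12]
          exact Nat.le_of_dvd Nat.card_pos h12L
        refine ⟨P, hg2 P, fun h => ?_⟩
        have : h ∈ L := hLtop ▸ Subgroup.mem_top h
        exact this
    · -- `|Q| = 8`: `Q'` is a Sylow 2-subgroup
      have hQ'P₀ : Q' = (P₀ : Subgroup G) := by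
        apply Subgroup.eq_of_le_of_card_ge hP₀
        rw [hP₀card, hQQ', hc8]
      refine ⟨P₀, hg2 P₀, fun h => ?_⟩
      rw [← hQ'P₀]
      exact hHQ' h

end Main

end Cfsg.Agent.Lib.Helper27.ReeSolv
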