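/-
helper27: solvable subgroups of the Ree groups `²G₂(q)` (statement S2361), assuming the existence of
the four classes of cyclic tori with `N(A₀) = N(A)` (statement S1158, as a hypothesis).
-/
import Cfsg.Agent.Lib.Helper27.ReeSolvB
import Cfsg.Agent.Lib.Helper27.ReeCentJ
import Cfsg.Agent.S1155

set_option autoImplicit false

namespace Cfsg.Agent.Lib.Helper27.ReeSolv

open Cfsg Cfsg.Lie Matrix Cfsg.Agent.Lib.Helper7 Cfsg.Agent.Lib.Helper27.ReeCent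

section Arith

/-- a prime `s > 3` dividing `|²G₂(q)|` divides one of the four torus orders -/
theorem ree_prime_cases (m s : ℕ) (hs : s.Prime) (hs3 : 3 < s)
    (hdvd : s ∣ (3 ^ (2 * m + 1)) ^ 3 * (3 ^ (2 * m + 1) - 1) * ((3 ^ (2 * m + 1)) ^ 3 + 1)) :
    s ∣ (3 ^ (2 * m + 1) - 1) / 2 ∨ s ∣ (3 ^ (2 * m + 1) + 1) / 4 ∨
      s ∣ 3 ^ (2 * m + 1) - 3 ^ (m + 1) + 1 ∨ s ∣ 3 ^ (2 * m + 1) + 3 ^ (m + 1) + 1 := by
  obtain ⟨k, hk⟩ := three_pow_mod_eight m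
  have hcop : Nat.Coprime s 2 := by
    rw [Nat.coprime_primes hs Nat.prime_two]; omega
  have hle : 3 ^ (2 * m + 1) ≤ (3 ^ (2 * m + 1)) ^ 2 := by
    have : 1 ≤ 3 ^ (2 * m + 1) := Nat.one_le_pow _ _ (by norm_num)
    nlinarith
  have e4 : (3 ^ (2 * m + 1)) ^ 3 + 1 =
      (3 ^ (2 * m + 1) + 1) * ((3 ^ (2 * m + 1)) ^ 2 - 3 ^ (2 * m + 1) + 1) := by
    zify [hle]
    ring
  rcases (Nat.Prime.dvd_mul hs).mp hdvd with h | h
  · rcases (Nat.Prime.dvd_mul hs).mp h with h | h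
    · exfalso
      have h1 : s ∣ 3 := hs.dvd_of_dvd_pow (hs.dvd_of_dvd_pow h)
      have := (Nat.prime_dvd_prime_iff_eq hs Nat.prime_three).mp h1
      omega
    · left
      have h1 : 3 ^ (2 * m + 1) - 1 = 2 * ((3 ^ (2 * m + 1) - 1) / 2) := by omega
      rw [h1] at h
      exact hcop.dvd_of_dvd_mul_left h
  · rw [e4] at h
    rcases (Nat.Prime.dvd_mul hs).mp h with h | h
    · right; left
      have h1 : 3 ^ (2 * m + 1) + 1 = 2 * (2 * ((3 ^ (2 * m + 1) + 1) / 4)) := by omega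
      rw [h1] at h
      exact hcop.dvd_of_dvd_mul_left (hcop.dvd_of_dvd_mul_left h)
    · rw [← ree_pi_factor m] at h
      rcases (Nat.Prime.dvd_mul hs).mp h with h | h
      · right; right; left; exact h
      · right; right; right; exact h

end Arith

section Ree

variable {K : Type*} [Field K] [Fintype K] {m : ℕ}

/-- **S2361** from S1158 (as hypothesis `hTori`). -/
theorem ree_solvable_le_normalizer (hm : 1 ≤ m) (hK : Fintype.card K = 3 ^ (2 * m + 1))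
    (hTori : ∀ kn ∈ ({((3 ^ (2 * m + 1) - 1) / 2, 2 * (3 ^ (2 * m + 1) - 1)),
        ((3 ^ (2 * m + 1) + 1) / 4, 6 * (3 ^ (2 * m + 1) + 1)),
        (3 ^ (2 * m + 1) - 3 ^ (m + 1) + 1, 6 * (3 ^ (2 * m + 1) - 3 ^ (m + 1) + 1)),
        (3 ^ (2 * m + 1) + 3 ^ (m + 1) + 1, 6 * (3 ^ (2 * m + 1) + 3 ^ (m + 1) + 1))} : Set (ℕ × ℕ)),
      ∃ A : Subgroup ↥(twistedG2 K (3 ^ m)), IsCyclic A ∧ Nat.card A = kn.1 ∧
        Nat.card (Subgroup.normalizer (A : Set ↥(twistedG2 K (3 ^ m)))) = kn.2 ∧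
        ∀ A₀ : Subgroup ↥(twistedG2 K (3 ^ m)), A₀ ≤ A → A₀ ≠ ⊥ →
          Subgroup.normalizer (A₀ : Set ↥(twistedG2 K (3 ^ m))) =
            Subgroup.normalizer (A : Set ↥(twistedG2 K (3 ^ m))))
    (S : Subgroup ↥(twistedG2 K (3 ^ m))) (hS : Group.IsSolvable S) :
    ∃ A : Subgroup ↥(twistedG2 K (3 ^ m)),
      S ≤ Subgroup.normalizer (A : Set ↥(twistedG2 K (3 ^ m))) ∧
      ((∃ P : Sylow 2 ↥(twistedG2 K (3 ^ m)), A = P) ∨
       (∃ P : Sylow 3 ↥(twistedG2 K (3 ^ m)), A = P) ∨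
       (IsCyclic A ∧ (Nat.card A = (3 ^ (2 * m + 1) - 1) / 2 ∨
          Nat.card A = (3 ^ (2 * m + 1) + 1) / 4 ∨
          Nat.card A = 3 ^ (2 * m + 1) - 3 ^ (m + 1) + 1 ∨
          Nat.card A = 3 ^ (2 * m + 1) + 3 ^ (m + 1) + 1))) := by
  obtain ⟨k, hk⟩ := three_pow_mod_eight m
  obtain ⟨a₀, ha₀H, ha₀1, ha₀2⟩ := ReeSyl.exists_torus_involution hK
  have hsylG := (Cfsg.Agent.S1152.result hK a₀ ha₀H ha₀1 ha₀2).2
  have hcardG := Cfsg.Agent.S1069.result hK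
  have hsylcyc : ∀ r : ℕ, r.Prime → 3 < r → ∀ N : Subgroup ↥(twistedG2 K (3 ^ m)),
      IsPGroup r N → IsCyclic N := by
    intro r hr hr3 N hN
    have : Fact r.Prime := ⟨hr⟩
    exact isCyclic_of_isPGroup_of_sylow
      (fun P => Cfsg.Agent.Lib.Helper13.ReeCyc.ree_sylow_cyclic hK hr3 P) N hN
  have hgr : ∀ (r : ℕ) (y : ↥(twistedG2 K (3 ^ m))), r.Prime → 3 < r → orderOf y = r →
      ∃ A : Subgroup ↥(twistedG2 K (3 ^ m)),
        ((∃ P : Sylow 2 ↥(twistedG2 K (3 ^ m)), A = P) ∨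
         (∃ P : Sylow 3 ↥(twistedG2 K (3 ^ m)), A = P) ∨
         (IsCyclic A ∧ (Nat.card A = (3 ^ (2 * m + 1) - 1) / 2 ∨
            Nat.card A = (3 ^ (2 * m + 1) + 1) / 4 ∨
            Nat.card A = 3 ^ (2 * m + 1) - 3 ^ (m + 1) + 1 ∨
            Nat.card A = 3 ^ (2 * m + 1) + 3 ^ (m + 1) + 1))) ∧
        Subgroup.normalizer ((Subgroup.zpowers y : Subgroup ↥(twistedG2 K (3 ^ m))) :
          Set ↥(twistedG2 K (3 ^ m))) ≤ Subgroup.normalizer (A : Set ↥(twistedG2 K (3 ^ m))) := by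
    intro r y hr hr3 hy
    have hrG : r ∣ Nat.card ↥(twistedG2 K (3 ^ m)) := by
      rw [← hy]; exact orderOf_dvd_natCard y
    rw [hcardG] at hrG
    -- the torus
    have key : ∀ kn ∈ ({((3 ^ (2 * m + 1) - 1) / 2, 2 * (3 ^ (2 * m + 1) - 1)),
        ((3 ^ (2 * m + 1) + 1) / 4, 6 * (3 ^ (2 * m + 1) + 1)),
        (3 ^ (2 * m + 1) - 3 ^ (m + 1) + 1, 6 * (3 ^ (2 * m + 1) - 3 ^ (m + 1) + 1)),
        (3 ^ (2 * m + 1) + 3 ^ (m + 1) + 1, 6 * (3 ^ (2 * m + 1) + 3 ^ (m + 1) + 1))} :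
          Set (ℕ × ℕ)), r ∣ kn.1 →
        ∃ A : Subgroup ↥(twistedG2 K (3 ^ m)), (IsCyclic A ∧ Nat.card A = kn.1) ∧
          Subgroup.normalizer ((Subgroup.zpowers y : Subgroup ↥(twistedG2 K (3 ^ m))) :
            Set ↥(twistedG2 K (3 ^ m))) ≤ Subgroup.normalizer (A : Set ↥(twistedG2 K (3 ^ m))) := by
      intro kn hkn hrk
      obtain ⟨A, hAc, hAk, -, hAN⟩ := hTori kn hkn
      have : Fact r.Prime := ⟨hr⟩
      have hrA : r ∣ Nat.card A := by rw [hAk]; exact hrk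
      obtain ⟨a, ha⟩ := exists_prime_orderOf_dvd_card' r hrA
      have ha' : orderOf (a : ↥(twistedG2 K (3 ^ m))) = r := by
        rw [Subgroup.orderOf_coe]; exact ha
      obtain ⟨g, hg⟩ := exists_conj_zpowers_eq r hr (hsylcyc r hr hr3)
        (a : ↥(twistedG2 K (3 ^ m))) y ha' hy
      have hle : Subgroup.zpowers (a : ↥(twistedG2 K (3 ^ m))) ≤ A := by
        rw [Subgroup.zpowers_le]; exact a.2
      have hne : Subgroup.zpowers (a : ↥(twistedG2 K (3 ^ m))) ≠ ⊥ := by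
        intro h
        rw [Subgroup.zpowers_eq_bot] at h
        rw [h, orderOf_one] at ha'
        exact hr.one_lt.ne ha'
      have hN := hAN _ hle hne
      refine ⟨A.map (MulAut.conj g).toMonoidHom, ⟨?_, ?_⟩, ?_⟩
      · have e : A ≃* A.map (MulAut.conj g).toMonoidHom :=
          A.equivMapOfInjective _ (MulAut.conj g).injective
        exact isCyclic_of_surjective e e.surjective
      · rw [Subgroup.card_map_of_injective (MulAut.conj g).injective, hAk]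
      · rw [← hg, ← map_conj_zpowers, ← Subgroup.map_equiv_normalizer_eq,
          ← Subgroup.map_equiv_normalizer_eq, hN]
    rcases ree_prime_cases m r hr hr3 hrG with h | h | h | h
    · obtain ⟨A, ⟨hAc, hAk⟩, hAN⟩ := key ((3 ^ (2 * m + 1) - 1) / 2, 2 * (3 ^ (2 * m + 1) - 1))
        (Set.mem_insert _ _) h
      exact ⟨A, Or.inr (Or.inr ⟨hAc, Or.inl hAk⟩), hAN⟩
    · obtain ⟨A, ⟨hAc, hAk⟩, hAN⟩ := key ((3 ^ (2 * m + 1) + 1) / 4, 6 * (3 ^ (2 * m + 1) + 1))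
        (Set.mem_insert_of_mem _ (Set.mem_insert _ _)) h
      exact ⟨A, Or.inr (Or.inr ⟨hAc, Or.inr (Or.inl hAk)⟩), hAN⟩
    · obtain ⟨A, ⟨hAc, hAk⟩, hAN⟩ := key (3 ^ (2 * m + 1) - 3 ^ (m + 1) + 1, 6 * (3 ^ (2 * m + 1) - 3 ^ (m + 1) + 1))
        (Set.mem_insert_of_mem _ (Set.mem_insert_of_mem _ (Set.mem_insert _ _))) h
      exact ⟨A, Or.inr (Or.inr ⟨hAc, Or.inr (Or.inr (Or.inl hAk))⟩), hAN⟩
    · obtain ⟨A, ⟨hAc, hAk⟩, hAN⟩ := key (3 ^ (2 * m + 1) + 3 ^ (m + 1) + 1, 6 * (3 ^ (2 * m + 1) + 3 ^ (m + 1) + 1))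
        (Set.mem_insert_of_mem _ (Set.mem_insert_of_mem _ (Set.mem_insert_of_mem _ (Set.mem_singleton _)))) h
      exact ⟨A, Or.inr (Or.inr ⟨hAc, Or.inr (Or.inr (Or.inr hAk))⟩), hAN⟩
  have h43 : ∀ z : ↥(twistedG2 K (3 ^ m)), orderOf z = 3 →
      ¬ 4 ∣ Nat.card (Subgroup.centralizer ({z} : Set ↥(twistedG2 K (3 ^ m)))) := by
    intro z hz h4
    have h1 := dvd_trans h4 (ree_card_cent_three hK z hz)
    have hodd : Nat.Coprime 4 ((3 ^ (2 * m + 1)) ^ 3) := by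
      apply Nat.Coprime.pow_right
      apply Nat.Coprime.pow_right
      norm_num
    have h2 : 4 ∣ 3 ^ (2 * m + 1) - 1 := hodd.dvd_of_dvd_mul_right h1
    omega
  obtain ⟨A, hGood, hA⟩ := solvable_le_normalizer
    (G := ↥(twistedG2 K (3 ^ m)))
    (fun A => (∃ P : Sylow 2 ↥(twistedG2 K (3 ^ m)), A = P) ∨
       (∃ P : Sylow 3 ↥(twistedG2 K (3 ^ m)), A = P) ∨
       (IsCyclic A ∧ (Nat.card A = (3 ^ (2 * m + 1) - 1) / 2 ∨
          Nat.card A = (3 ^ (2 * m + 1) + 1) / 4 ∨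
          Nat.card A = 3 ^ (2 * m + 1) - 3 ^ (m + 1) + 1 ∨
          Nat.card A = 3 ^ (2 * m + 1) + 3 ^ (m + 1) + 1)))
    hsylG (fun P => Or.inl ⟨P, rfl⟩)
    (fun P P' hPP' => Cfsg.Agent.S1155.result hm hK P P' hPP')
    (fun P => Or.inr (Or.inl ⟨P, rfl⟩))
    hsylcyc hgr h43 S.subtype S.subtype_injective
  exact ⟨A, fun s hs => hA ⟨s, hs⟩, hGood⟩

end Ree

end Cfsg.Agent.Lib.Helper27.ReeSolv
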