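import Cfsg.Agent.Lib.Helper26.ZStarFusion

/-!
A consequence of the `Z*`-theorem (for isolated `2`-elements): if `X = H A` with `H` normal, `A` a `2`-subgroup
with `A ∩ H = 1`, `H` has no nontrivial `X`-normal odd-order subgroups, and `X`-conjugates of elements of `A`
lying in a Sylow `2`-subgroup `T ≥ A` lie in `A`, then `A` centralizes `H`.
-/

set_option autoImplicit false
universe u

namespace Cfsg.Agent.Lib.Helper27.SCCentral

open Cfsg
open Cfsg.Agent.Lib.Helper29.ZStar (ZStarStmt)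
open Cfsg.Agent.Lib.Helper26 (IsolatedIn)

variable {X : Type u} [Group X]

/-- `C_A(H)` as a subgroup. -/
def cent (H A : Subgroup X) : Subgroup X := A ⊓ Subgroup.centralizer (H : Set X)

theorem mem_cent {H A : Subgroup X} {b : X} : b ∈ cent H A ↔ b ∈ A ∧ ∀ h ∈ H, h * b = b * h := by
  unfold cent
  rw [Subgroup.mem_inf, Subgroup.mem_centralizer_iff]
  rfl

theorem cent_normal (H A : Subgroup X) [hHn : H.Normal] (hX : H ⊔ A = ⊤) : (cent H A).Normal := by
  rw [← Subgroup.normalizer_eq_top_iff, eq_top_iff, ← hX]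
  apply sup_le
  · intro h hh
    rw [Subgroup.mem_normalizer_iff]
    intro b
    have key : ∀ b ∈ cent H A, ∀ k ∈ H, k * b * k⁻¹ = b := by
      intro b hb k hk
      have := (mem_cent.mp hb).2 k hk
      rw [this]; group
    constructor
    · intro hb
      rw [key b hb h hh]; exact hb
    · intro hb
      have := key _ hb h⁻¹ (H.inv_mem hh)
      have h2 : h⁻¹ * (h * b * h⁻¹) * h⁻¹⁻¹ = b := by group
      rw [h2] at this
      rw [← this] at hb
      exact hb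
  · intro a ha
    rw [Subgroup.mem_normalizer_iff]
    have key : ∀ a ∈ A, ∀ b ∈ cent H A, a * b * a⁻¹ ∈ cent H A := by
      intro a ha b hb
      obtain ⟨hbA, hbc⟩ := mem_cent.mp hb
      refine mem_cent.mpr ⟨A.mul_mem (A.mul_mem ha hbA) (A.inv_mem ha), fun h hh => ?_⟩
      have h1 : a⁻¹ * h * a ∈ H := by
        have := hHn.conj_mem h hh a⁻¹
        simpa using this
      have h2 := hbc _ h1
      calc h * (a * b * a⁻¹) = a * ((a⁻¹ * h * a) * b) * a⁻¹ := by group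
        _ = a * (b * (a⁻¹ * h * a)) * a⁻¹ := by rw [h2]
        _ = a * b * a⁻¹ * h := by group
    intro b
    constructor
    · exact key a ha b
    · intro hb
      have := key a⁻¹ (A.inv_mem ha) _ hb
      have h2 : a⁻¹ * (a * b * a⁻¹) * a⁻¹⁻¹ = b := by group
      rwa [h2] at this

theorem core (hZ : ZStarStmt.{u}) [Finite X] (H A : Subgroup X) [hHn : H.Normal] (hX : H ⊔ A = ⊤)
    (hdisj : A ⊓ H = ⊥)
    (hO : ∀ K : Subgroup X, K.Normal → K ≤ H → Odd (Nat.card K) → K = ⊥)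
    (T : Sylow 2 X) (hAT : A ≤ (T : Subgroup X))
    (hsc : ∀ a ∈ A, ∀ x : X, x * a * x⁻¹ ∈ (T : Subgroup X) → x * a * x⁻¹ ∈ A) :
    ∀ a ∈ A, ∀ h ∈ H, h * a = a * h := by
  have : Fact (Nat.Prime 2) := ⟨Nat.prime_two⟩
  obtain ⟨B, hB⟩ : ∃ B, B = cent H A := ⟨_, rfl⟩
  haveI hBn : B.Normal := hB ▸ cent_normal H A hX
  have hBA : B ≤ A := by rw [hB]; exact inf_le_left
  -- conjugates in T are A-conjugates
  have hconj : ∀ a ∈ A, ∀ x : X, x * a * x⁻¹ ∈ (T : Subgroup X) →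
      ∃ a' ∈ A, x * a * x⁻¹ = a' * a * a'⁻¹ := by
    intro a ha x hx
    have hy := hsc a ha x hx
    have hxm : x ∈ H ⊔ A := by rw [hX]; trivial
    obtain ⟨h, hh, a', ha', rfl⟩ := Subgroup.mem_sup_of_normal_left.mp hxm
    refine ⟨a', ha', ?_⟩
    obtain ⟨b, hb⟩ : ∃ b, b = a' * a * a'⁻¹ := ⟨_, rfl⟩
    have hbA : b ∈ A := by rw [hb]; exact A.mul_mem (A.mul_mem ha' ha) (A.inv_mem ha')
    have h1 : (h * a' * a * (h * a')⁻¹) * b⁻¹ ∈ A ⊓ H := by
      refine ⟨A.mul_mem hy (A.inv_mem hbA), ?_⟩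
      have e : h * a' * a * (h * a')⁻¹ * b⁻¹ = h * (b * h⁻¹ * b⁻¹) := by rw [hb]; group
      rw [e]; exact H.mul_mem hh (hHn.conj_mem _ (H.inv_mem hh) b)
    rw [hdisj, Subgroup.mem_bot] at h1
    rw [← hb]
    exact mul_inv_eq_one.mp h1
  by_contra hcon
  push_neg at hcon
  obtain ⟨a0, ha0, h0, hh0, hne⟩ := hcon
  have hBlt : ¬ A ≤ B := fun hle => hne ((mem_cent.mp (hB ▸ hle ha0)).2 h0 hh0)
  have hA2 : IsPGroup 2 A := T.2.to_le hAT
  -- an element of `A` outside `B`, central modulo `B`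
  obtain ⟨a, haA, haB, hac⟩ : ∃ a ∈ A, a ∉ B ∧ ∀ a' ∈ A, a' * a * a'⁻¹ * a⁻¹ ∈ B := by
    haveI hBn' : (B.subgroupOf A).Normal := hBn.subgroupOf A
    have hQ2 : IsPGroup 2 (↥A ⧸ B.subgroupOf A) := hA2.to_quotient (B.subgroupOf A)
    haveI : Nontrivial (↥A ⧸ B.subgroupOf A) := by
      rw [← not_subsingleton_iff_nontrivial]
      intro hss
      have := QuotientGroup.subgroup_eq_top_of_subsingleton _ hss
      rw [Subgroup.subgroupOf_eq_top] at this
      exact hBlt this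
    haveI := hQ2.center_nontrivial
    obtain ⟨⟨z, hz⟩, hz1⟩ := exists_ne (1 : Subgroup.center (↥A ⧸ B.subgroupOf A))
    obtain ⟨⟨a, haA⟩, rfl⟩ := QuotientGroup.mk_surjective z
    refine ⟨a, haA, ?_, ?_⟩
    · intro haB
      apply hz1
      apply Subtype.ext
      show ((⟨a, haA⟩ : ↥A) : ↥A ⧸ B.subgroupOf A) = 1
      rw [QuotientGroup.eq_one_iff]
      exact haB
    · intro a' ha'
      have h1 := (Subgroup.mem_center_iff.mp hz) ((⟨a', ha'⟩ : ↥A) : ↥A ⧸ B.subgroupOf A)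
      have h2 : (((⟨a', ha'⟩ * ⟨a, haA⟩ * ⟨a', ha'⟩⁻¹ * ⟨a, haA⟩⁻¹ : ↥A)) : ↥A ⧸ B.subgroupOf A) = 1 := by
        rw [QuotientGroup.mk_mul, QuotientGroup.mk_mul, QuotientGroup.mk_mul, QuotientGroup.mk_inv,
          QuotientGroup.mk_inv, h1]
        group
      rw [QuotientGroup.eq_one_iff] at h2
      exact h2
  -- isolation in the quotient
  have hIso : IsolatedIn ((T.mapSurjective (QuotientGroup.mk'_surjective B) : Sylow 2 (X ⧸ B)) :
      Subgroup (X ⧸ B)) (QuotientGroup.mk' B a) := by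
    refine ⟨⟨a, hAT haA, rfl⟩, fun gb hgb => ?_⟩
    obtain ⟨g, rfl⟩ := QuotientGroup.mk'_surjective B gb
    rw [← map_inv, ← map_mul, ← map_mul] at hgb ⊢
    obtain ⟨s, hs, hsy⟩ := hgb
    have h1 : s⁻¹ * (g * a * g⁻¹) ∈ B := QuotientGroup.eq.mp hsy
    have h2 : g * a * g⁻¹ ∈ (T : Subgroup X) := by
      have e : g * a * g⁻¹ = s * (s⁻¹ * (g * a * g⁻¹)) := by group
      rw [e]
      exact Subgroup.mul_mem _ hs (hAT (hBA h1))
    obtain ⟨a', ha', he⟩ := hconj a haA g h2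
    rw [he]
    have h3 := hac a' ha'
    show ((a' * a * a'⁻¹ : X) : X ⧸ B) = ((a : X) : X ⧸ B)
    rw [QuotientGroup.eq]
    have e : (a' * a * a'⁻¹)⁻¹ * a = a⁻¹ * (a' * a * a'⁻¹ * a⁻¹)⁻¹ * a := by group
    rw [e]
    have := hBn.conj_mem _ (B.inv_mem h3) a⁻¹
    simpa using this
  have hcomm := fun gb => hIso.comm_mem_oddCore hZ _ gb
  -- the normal subgroup `N`
  obtain ⟨N, hN⟩ : ∃ N, N = (Cfsg.oddCore (X ⧸ B)).comap (QuotientGroup.mk' B) ⊓ H := ⟨_, rfl⟩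
  haveI hOn : (Cfsg.oddCore (X ⧸ B)).Normal := Cfsg.Agent.Lib.Helper12.pPrimeCore_normal' 2
  have hNn : N.Normal := by
    rw [hN]; exact Subgroup.normal_inf_normal _ _
  have hNH : N ≤ H := by rw [hN]; exact inf_le_right
  have hNodd : Odd (Nat.card N) := by
    let f : ↥N →* X ⧸ B := (QuotientGroup.mk' B).comp N.subtype
    have hf : Function.Injective f := by
      rw [injective_iff_map_eq_one]
      rintro ⟨n, hn⟩ h1
      have h2 : n ∈ B := (QuotientGroup.eq_one_iff n).mp h1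
      have h3 : n ∈ A ⊓ H := ⟨hBA h2, hNH hn⟩
      rw [hdisj, Subgroup.mem_bot] at h3
      exact Subtype.ext h3
    have hle : f.range ≤ Cfsg.oddCore (X ⧸ B) := by
      rintro _ ⟨⟨n, hn⟩, rfl⟩
      rw [hN] at hn
      exact hn.1
    have hc : Nat.card N = Nat.card f.range := Nat.card_congr (MonoidHom.ofInjective hf).toEquiv
    have hd := Subgroup.card_dvd_of_le hle
    have hcop : (Nat.card (Cfsg.oddCore (X ⧸ B))).Coprime 2 := Cfsg.Agent.Lib.Helper12.pPrimeCore_coprime 2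
    rw [hc]
    exact Nat.coprime_two_right.mp (Nat.Coprime.coprime_dvd_left hd hcop)
  have hNbot := hO N hNn hNH hNodd
  apply haB
  rw [hB]
  refine mem_cent.mpr ⟨haA, fun h hh => ?_⟩
  have h1 := hcomm (QuotientGroup.mk' B h)
  have h2 : a * h * a⁻¹ * h⁻¹ ∈ N := by
    rw [hN]
    refine Subgroup.mem_inf.mpr ⟨?_, ?_⟩
    · rw [Subgroup.mem_comap]
      simpa using h1
    · exact H.mul_mem (hHn.conj_mem h hh a) (H.inv_mem hh)
  rw [hNbot, Subgroup.mem_bot] at h2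
  calc h * a = (a * h * a⁻¹ * h⁻¹)⁻¹ * a * h := by group
    _ = a * h := by rw [h2]; group

end Cfsg.Agent.Lib.Helper27.SCCentral
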