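import Mathlib
import Cfsg.Agent.Lib.Helper18.SimsQ
import Cfsg.Agent.Lib.Helper27.Basic

set_option autoImplicit false

/-!
Helper27 library: leaf SIMS3-SETUP2 of helper18's S2772 market (twin): the core in `A` of a Sylow
2-subgroup of `A` is `O₂(A)` (in ambient form).
-/

namespace Cfsg.Agent.Lib.Helper27.SIMS3SETUP2

open Cfsg Cfsg.Agent.Lib.Helper29.TWPair Cfsg.Agent.Lib.Helper18.Sims3 Cfsg.Agent.Lib.Helper18.SimsQ
  MulAction

variable {G : Type*} [Group G]

/-- a normal `p`-subgroup lies in every Sylow `p`-subgroup. -/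
theorem normal_pGroup_le_sylow {M : Type*} [Group M] [Finite M] {p : ℕ} [Fact p.Prime]
    (N : Subgroup M) [hN : N.Normal] (hp : IsPGroup p ↥N) (S : Sylow p M) :
    N ≤ (S : Subgroup M) := by
  obtain ⟨Q, hQ⟩ := hp.exists_le_sylow
  obtain ⟨g, hg⟩ := MulAction.exists_smul_eq M Q S
  intro x hx
  rw [← hg]
  show x ∈ ((g • Q : Sylow p M) : Subgroup M)
  rw [Sylow.coe_subgroup_smul, Subgroup.mem_pointwise_smul_iff_inv_smul_mem]
  apply hQ
  have : (MulAut.conj g)⁻¹ • x = g⁻¹ * x * g⁻¹⁻¹ := by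
    rw [← map_inv]; rfl
  rw [this]
  exact hN.conj_mem x hx g⁻¹

/-- LEAF SETUP2 (the core of a Sylow 2-subgroup is `O₂`). -/
theorem coreIn_sylow_eq [Finite G] (A : Subgroup G) (S : Sylow 2 ↥A) :
    coreIn A ((S : Subgroup ↥A).map A.subtype) = (Cfsg.pCore 2 ↥A).map A.subtype := by
  have : Fact (Nat.Prime 2) := ⟨Nat.prime_two⟩
  have hOn : (Cfsg.pCore 2 ↥A).Normal := Cfsg.Agent.Lib.Helper27.pCore_normal 2 ↥A
  have hOp : IsPGroup 2 ↥(Cfsg.pCore 2 ↥A) := Cfsg.Agent.Lib.Helper27.pCore_isPGroup 2 ↥A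
  apply le_antisymm
  · -- the core is a normal 2-subgroup of `A`
    unfold coreIn
    apply Subgroup.map_mono
    have hS : ((S : Subgroup ↥A).map A.subtype).subgroupOf A = (S : Subgroup ↥A) := by
      ext y
      rw [Subgroup.mem_subgroupOf]
      constructor
      · rintro ⟨z, hz, hzy⟩
        have : z = y := Subtype.ext hzy
        rw [← this]; exact hz
      · intro hy
        exact ⟨y, hy, rfl⟩
    rw [hS]
    apply Cfsg.Agent.Lib.Helper27.le_pCore (Subgroup.normalCore_normal _)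
    exact S.isPGroup'.to_le (Subgroup.normalCore_le _)
  · apply le_coreIn
    · rintro _ ⟨y, _, rfl⟩
      exact y.2
    · exact Subgroup.map_mono (normal_pGroup_le_sylow _ hOp S)
    · intro a ha
      rw [Subgroup.mem_normalizer_iff]
      intro x
      constructor
      · rintro ⟨y, hy, rfl⟩
        refine ⟨⟨a, ha⟩ * y * ⟨a, ha⟩⁻¹, hOn.conj_mem y hy _, ?_⟩
        simp
      · rintro ⟨z, hz, hzx⟩
        have hxA : x ∈ A := by
          have h1 : a * x * a⁻¹ ∈ A := by rw [← hzx]; exact z.2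
          have h2 := A.mul_mem (A.mul_mem (A.inv_mem ha) h1) ha
          have e : a⁻¹ * (a * x * a⁻¹) * a = x := by group
          rw [e] at h2; exact h2
        refine ⟨⟨x, hxA⟩, ?_, rfl⟩
        have h3 := hOn.conj_mem z hz (⟨a, ha⟩ : ↥A)⁻¹
        have e : (⟨a, ha⟩ : ↥A)⁻¹ * z * (⟨a, ha⟩ : ↥A)⁻¹⁻¹ = ⟨x, hxA⟩ := by
          apply Subtype.ext
          simp only [Subgroup.coe_mul, Subgroup.coe_inv, inv_inv]
          have : (z : G) = a * x * a⁻¹ := hzx
          rw [this]; group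
        rw [e] at h3; exact h3

end Cfsg.Agent.Lib.Helper27.SIMS3SETUP2
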