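/-
helper27: blocks of defect zero or full defect from a centralizer condition on radical `p`-subgroups
(towards S4538): if every `p`-regular element centralizing a nontrivial radical `p`-subgroup is central,
then every `p`-block has defect `0` or full defect (Green's theorem + radicality of defect groups).
-/
import Mathlib
import Cfsg.Agent.S0906
import Cfsg.Agent.S0908
import Cfsg.Agent.S0955
import Cfsg.Agent.S0956

set_option autoImplicit false

namespace Cfsg.Agent.Lib.Helper27.SLDich

open Cfsg

/-- every block has a defect group -/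
theorem exists_defectGroup {G : Type*} [Group G] [Finite G] (p : ℕ) [Fact p.Prime]
    (M : Ideal Cfsg.AlgInt) (hM : Cfsg.IsPModular p M) (B : Set (Cfsg.IrrCharacter G))
    (hB : Cfsg.IsPBlock M B) : ∃ D : Subgroup G, Cfsg.IsDefectGroup p M B D ∧ IsPGroup p D := by
  obtain ⟨g, hg⟩ := Cfsg.Agent.S0906.result p M hM B hB
  let P0 : Sylow p (Subgroup.centralizer ({g} : Set G)) := default
  refine ⟨(P0 : Subgroup (Subgroup.centralizer ({g} : Set G))).map
    (Subgroup.centralizer ({g} : Set G)).subtype, ⟨g, hg, P0, rfl⟩, ?_⟩
  exact P0.isPGroup'.map _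

/-- **defect zero or full defect** from the centralizer condition on radical `p`-subgroups -/
theorem defect_zero_or_full {G : Type*} [Group G] [Finite G] (p : ℕ) [Fact p.Prime]
    (hkey : ∀ D : Subgroup G, IsPGroup p D → D ≠ ⊥ →
      (Cfsg.pCore p (Subgroup.normalizer (D : Set G))).map
        (Subgroup.normalizer (D : Set G)).subtype = D →
      ∀ x ∈ Subgroup.centralizer (D : Set G), ¬ p ∣ orderOf x → x ∈ Subgroup.center G)
    (M : Ideal Cfsg.AlgInt) (hM : Cfsg.IsPModular p M) (B : Set (Cfsg.IrrCharacter G))
    (hB : Cfsg.IsPBlock M B) :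
    Cfsg.blockDefect p B = 0 ∨ Cfsg.blockDefect p B = (Nat.card G).factorization p := by
  classical
  have hp := (Fact.out : p.Prime)
  obtain ⟨D, hD, hDp⟩ := exists_defectGroup p M hM B hB
  have hcard := Cfsg.Agent.S0908.result p M hM B hB D hD
  by_cases hbot : D = ⊥
  · left
    rw [hbot, Subgroup.card_bot] at hcard
    by_contra h0
    have : 1 < p ^ Cfsg.blockDefect p B := Nat.one_lt_pow h0 hp.one_lt
    omega
  · right
    obtain ⟨P, hDP⟩ := hDp.exists_le_sylow
    obtain ⟨x, hreg, ⟨S, hS⟩, hint⟩ := Cfsg.Agent.S0956.result p M hM B hB D hD P hDP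
    have hrad := Cfsg.Agent.S0955.result p M hM B hB D hD
    have hxc : x ∈ Subgroup.centralizer (D : Set G) := by
      rw [Subgroup.mem_centralizer_iff]
      intro d hd
      rw [← hS] at hd
      obtain ⟨c, _, rfl⟩ := hd
      have := c.2
      rw [Subgroup.mem_centralizer_iff] at this
      exact (this x (Set.mem_singleton x)).symm
    have hxz := hkey D hDp hbot hrad x hxc hreg
    have hPx : (P : Subgroup G).map (MulAut.conj x).toMonoidHom = (P : Subgroup G) := by
      ext y
      constructor
      · rintro ⟨z, hz, rfl⟩
        have : (MulAut.conj x).toMonoidHom z = z := by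
          simp only [MulEquiv.coe_toMonoidHom, MulAut.conj_apply]
          rw [Subgroup.mem_center_iff] at hxz
          rw [← hxz z, mul_inv_cancel_right]
        rw [this]; exact hz
      · intro hy
        refine ⟨y, hy, ?_⟩
        simp only [MulEquiv.coe_toMonoidHom, MulAut.conj_apply]
        rw [Subgroup.mem_center_iff] at hxz
        rw [← hxz y, mul_inv_cancel_right]
    rw [hPx, inf_idem] at hint
    have hcP : Nat.card P = p ^ (Nat.card G).factorization p := P.card_eq_multiplicity
    have : Nat.card D = Nat.card P := by rw [← hint]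
    rw [hcard, hcP] at this
    exact Nat.pow_right_injective hp.two_le this

end Cfsg.Agent.Lib.Helper27.SLDich
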