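/-
helper27 (towards S4538): the canonical flag of a `p`-subgroup `D` of `SL_n(F)` (`F` finite of
characteristic `p`): the chain `Vc D i` of iterated fixed spaces on `F^n`, the subgroup `Rsub D` acting
trivially on the successive quotients; `Rsub D` is a `p`-group containing `D` and normalized by `N_G(D)`.
-/
import Mathlib

set_option autoImplicit false

namespace Cfsg.Agent.Lib.Helper27.SLFlag

open Matrix

variable {F : Type*} [Field F] {n : ℕ}

/-- the ascending chain of iterated fixed spaces of a subgroup `D` of `SL_n(F)` on `F^n` -/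
def Vc (D : Subgroup (Matrix.SpecialLinearGroup (Fin n) F)) : ℕ → Submodule F (Fin n → F)
  | 0 => ⊥
  | (i + 1) =>
    { carrier := {v | ∀ g ∈ D, (g : Matrix (Fin n) (Fin n) F) *ᵥ v - v ∈ Vc D i}
      add_mem' := by
        intro a b ha hb g hg
        have : (g : Matrix (Fin n) (Fin n) F) *ᵥ (a + b) - (a + b) =
            ((g : Matrix (Fin n) (Fin n) F) *ᵥ a - a) + ((g : Matrix (Fin n) (Fin n) F) *ᵥ b - b) := by
          rw [Matrix.mulVec_add]; abel
        rw [this]
        exact (Vc D i).add_mem (ha g hg) (hb g hg)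
      zero_mem' := by
        intro g _
        rw [Matrix.mulVec_zero, sub_zero]
        exact (Vc D i).zero_mem
      smul_mem' := by
        intro c a ha g hg
        have : (g : Matrix (Fin n) (Fin n) F) *ᵥ (c • a) - c • a =
            c • ((g : Matrix (Fin n) (Fin n) F) *ᵥ a - a) := by
          rw [Matrix.mulVec_smul, smul_sub]
        rw [this]
        exact (Vc D i).smul_mem c (ha g hg) }

variable (D : Subgroup (Matrix.SpecialLinearGroup (Fin n) F))

theorem mem_Vc_succ {i : ℕ} {v : Fin n → F} :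
    v ∈ Vc D (i + 1) ↔ ∀ g ∈ D, (g : Matrix (Fin n) (Fin n) F) *ᵥ v - v ∈ Vc D i := Iff.rfl

theorem Vc_zero : Vc D 0 = ⊥ := rfl

theorem Vc_le_succ (i : ℕ) : Vc D i ≤ Vc D (i + 1) := by
  induction i with
  | zero => rw [Vc_zero]; exact bot_le
  | succ i ih =>
    intro v hv g hg
    exact ih (hv g hg)

theorem Vc_mono {i j : ℕ} (h : i ≤ j) : Vc D i ≤ Vc D j := by
  induction h with
  | refl => exact le_rfl
  | step _ ih => exact ih.trans (Vc_le_succ D _)

/-- the subgroup of elements acting trivially on the successive quotients of the chain -/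
def Rsub : Subgroup (Matrix.SpecialLinearGroup (Fin n) F) where
  carrier := {g | ∀ i, ∀ v ∈ Vc D (i + 1), (g : Matrix (Fin n) (Fin n) F) *ᵥ v - v ∈ Vc D i}
  one_mem' := by
    intro i v _
    rw [Matrix.SpecialLinearGroup.coe_one, Matrix.one_mulVec, sub_self]
    exact (Vc D i).zero_mem
  mul_mem' := by
    intro g h hg hh i v hv
    -- g preserves Vc i
    have hpres : ∀ j, ∀ w ∈ Vc D j, (g : Matrix (Fin n) (Fin n) F) *ᵥ w ∈ Vc D j := by
      intro j w hw
      cases j with
      | zero =>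
        rw [Vc_zero, Submodule.mem_bot] at hw
        rw [hw, Matrix.mulVec_zero]; exact (Vc D 0).zero_mem
      | succ j =>
        have := hg j w hw
        have h2 : (g : Matrix (Fin n) (Fin n) F) *ᵥ w =
            ((g : Matrix (Fin n) (Fin n) F) *ᵥ w - w) + w := by abel
        rw [h2]
        exact (Vc D (j + 1)).add_mem (Vc_le_succ D j this) hw
    have h1 := hh i v hv
    have h2 := hg i v hv
    have : ((g * h : Matrix.SpecialLinearGroup (Fin n) F) : Matrix (Fin n) (Fin n) F) *ᵥ v - v =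
        (g : Matrix (Fin n) (Fin n) F) *ᵥ ((h : Matrix (Fin n) (Fin n) F) *ᵥ v - v) +
          ((g : Matrix (Fin n) (Fin n) F) *ᵥ v - v) := by
      rw [Matrix.SpecialLinearGroup.coe_mul, ← Matrix.mulVec_mulVec, Matrix.mulVec_sub]; abel
    rw [this]
    exact (Vc D i).add_mem (hpres i _ h1) h2
  inv_mem' := by
    intro g hg
    -- g⁻¹ preserves Vc j
    have hpres : ∀ j, ∀ w ∈ Vc D j,
        ((g⁻¹ : Matrix.SpecialLinearGroup (Fin n) F) : Matrix (Fin n) (Fin n) F) *ᵥ w ∈ Vc D j := by
      intro j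
      induction j with
      | zero =>
        intro w hw
        rw [Vc_zero, Submodule.mem_bot] at hw
        rw [hw, Matrix.mulVec_zero]; exact (Vc D 0).zero_mem
      | succ j ih =>
        intro w hw
        have h1 := hg j w hw
        have h2 := ih _ h1
        have h3 : ((g⁻¹ : Matrix.SpecialLinearGroup (Fin n) F) : Matrix (Fin n) (Fin n) F) *ᵥ w =
            w - ((g⁻¹ : Matrix.SpecialLinearGroup (Fin n) F) : Matrix (Fin n) (Fin n) F) *ᵥ
              ((g : Matrix (Fin n) (Fin n) F) *ᵥ w - w) := by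
          rw [Matrix.mulVec_sub, Matrix.mulVec_mulVec, ← Matrix.SpecialLinearGroup.coe_mul,
            inv_mul_cancel, Matrix.SpecialLinearGroup.coe_one, Matrix.one_mulVec]
          abel
        rw [h3]
        exact (Vc D (j + 1)).sub_mem hw (Vc_le_succ D j h2)
    intro i v hv
    have h1 := hg i v hv
    have h3 : ((g⁻¹ : Matrix.SpecialLinearGroup (Fin n) F) : Matrix (Fin n) (Fin n) F) *ᵥ v - v =
        - (((g⁻¹ : Matrix.SpecialLinearGroup (Fin n) F) : Matrix (Fin n) (Fin n) F) *ᵥ
          ((g : Matrix (Fin n) (Fin n) F) *ᵥ v - v)) := by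
      rw [Matrix.mulVec_sub, Matrix.mulVec_mulVec, ← Matrix.SpecialLinearGroup.coe_mul,
        inv_mul_cancel, Matrix.SpecialLinearGroup.coe_one, Matrix.one_mulVec]
      abel
    rw [h3]
    exact (Vc D i).neg_mem (hpres i _ h1)

theorem mem_Rsub {g : Matrix.SpecialLinearGroup (Fin n) F} :
    g ∈ Rsub D ↔ ∀ i, ∀ v ∈ Vc D (i + 1), (g : Matrix (Fin n) (Fin n) F) *ᵥ v - v ∈ Vc D i :=
  Iff.rfl

theorem le_Rsub : D ≤ Rsub D := fun g hg i _ hv => hv g hg

/-- elements of `Rsub` preserve the chain -/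
theorem Rsub_pres {g : Matrix.SpecialLinearGroup (Fin n) F} (hg : g ∈ Rsub D) (j : ℕ)
    {w : Fin n → F} (hw : w ∈ Vc D j) : (g : Matrix (Fin n) (Fin n) F) *ᵥ w ∈ Vc D j := by
  cases j with
  | zero =>
    rw [Vc_zero, Submodule.mem_bot] at hw
    rw [hw, Matrix.mulVec_zero]; exact (Vc D 0).zero_mem
  | succ j =>
    have := hg j w hw
    have h2 : (g : Matrix (Fin n) (Fin n) F) *ᵥ w =
        ((g : Matrix (Fin n) (Fin n) F) *ᵥ w - w) + w := by abel
    rw [h2]
    exact (Vc D (j + 1)).add_mem (Vc_le_succ D j this) hw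

/-- the normalizer of `D` preserves the chain -/
theorem normalizer_pres {h : Matrix.SpecialLinearGroup (Fin n) F}
    (hh : h ∈ Subgroup.normalizer (D : Set (Matrix.SpecialLinearGroup (Fin n) F))) (j : ℕ) :
    ∀ w ∈ Vc D j, (h : Matrix (Fin n) (Fin n) F) *ᵥ w ∈ Vc D j := by
  induction j with
  | zero =>
    intro w hw
    rw [Vc_zero, Submodule.mem_bot] at hw
    rw [hw, Matrix.mulVec_zero]; exact (Vc D 0).zero_mem
  | succ j ih =>
    intro w hw g hg
    have hc : h⁻¹ * g * h ∈ D := (Subgroup.mem_normalizer_iff''.mp hh g).mp hg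
    have h1 := hw _ hc
    have h2 := ih _ h1
    have h3 : (g : Matrix (Fin n) (Fin n) F) *ᵥ ((h : Matrix (Fin n) (Fin n) F) *ᵥ w) -
        (h : Matrix (Fin n) (Fin n) F) *ᵥ w =
        (h : Matrix (Fin n) (Fin n) F) *ᵥ
          (((h⁻¹ * g * h : Matrix.SpecialLinearGroup (Fin n) F) : Matrix (Fin n) (Fin n) F) *ᵥ w - w) := by
      have e : h * (h⁻¹ * g * h) = g * h := by rw [mul_assoc, mul_inv_cancel_left]
      rw [Matrix.mulVec_sub, Matrix.mulVec_mulVec, Matrix.mulVec_mulVec,
        ← Matrix.SpecialLinearGroup.coe_mul, ← Matrix.SpecialLinearGroup.coe_mul, e]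
    rw [h3]
    exact h2

/-- the normalizer of `D` normalizes `Rsub D` -/
theorem normalizer_conj_Rsub {h g : Matrix.SpecialLinearGroup (Fin n) F}
    (hh : h ∈ Subgroup.normalizer (D : Set (Matrix.SpecialLinearGroup (Fin n) F)))
    (hg : g ∈ Rsub D) : h * g * h⁻¹ ∈ Rsub D := by
  intro i v hv
  have hh' : h⁻¹ ∈ Subgroup.normalizer (D : Set (Matrix.SpecialLinearGroup (Fin n) F)) :=
    Subgroup.inv_mem _ hh
  have h1 := normalizer_pres D hh' (i + 1) v hv
  have h2 := hg i _ h1
  have h3 := normalizer_pres D hh i _ h2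
  have h4 : ((h * g * h⁻¹ : Matrix.SpecialLinearGroup (Fin n) F) : Matrix (Fin n) (Fin n) F) *ᵥ v - v =
      (h : Matrix (Fin n) (Fin n) F) *ᵥ ((g : Matrix (Fin n) (Fin n) F) *ᵥ
        (((h⁻¹ : Matrix.SpecialLinearGroup (Fin n) F) : Matrix (Fin n) (Fin n) F) *ᵥ v) -
        ((h⁻¹ : Matrix.SpecialLinearGroup (Fin n) F) : Matrix (Fin n) (Fin n) F) *ᵥ v) := by
    rw [Matrix.mulVec_sub, Matrix.mulVec_mulVec, Matrix.mulVec_mulVec, Matrix.mulVec_mulVec,
      ← Matrix.SpecialLinearGroup.coe_mul, ← Matrix.SpecialLinearGroup.coe_mul,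
      ← Matrix.SpecialLinearGroup.coe_mul, mul_inv_cancel, Matrix.SpecialLinearGroup.coe_one,
      Matrix.one_mulVec, mul_assoc]
  rw [h4]
  exact h3


section finite

variable [Fintype F] (p : ℕ) [Fact p.Prime] [CharP F p]

/-- the chain increases strictly until it reaches the whole space -/
theorem exists_succ_of_ne_top (hD : IsPGroup p D) (i : ℕ) (hi : Vc D i ≠ ⊤) :
    ∃ v ∈ Vc D (i + 1), v ∉ Vc D i := by
  classical
  set W := Vc D i with hWdef
  have hW : ∀ g : D, W ≤ W.comap (Matrix.toLin' ((g : Matrix.SpecialLinearGroup (Fin n) F) :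
      Matrix (Fin n) (Fin n) F)) := by
    intro g w hw
    rw [Submodule.mem_comap, Matrix.toLin'_apply]
    exact Rsub_pres D (le_Rsub D g.2) i hw
  let _ : MulAction D ((Fin n → F) ⧸ W) :=
    { smul := fun g q => W.mapQ W (Matrix.toLin' ((g : Matrix.SpecialLinearGroup (Fin n) F) :
        Matrix (Fin n) (Fin n) F)) (hW g) q
      one_smul := by
        intro q
        induction q using Submodule.Quotient.induction_on with
        | _ v =>
          show W.mapQ W _ _ (Submodule.Quotient.mk v) = _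
          rw [Submodule.mapQ_apply, Matrix.toLin'_apply]
          simp
      mul_smul := by
        intro g h q
        induction q using Submodule.Quotient.induction_on with
        | _ v =>
          show W.mapQ W _ _ (Submodule.Quotient.mk v) =
            W.mapQ W _ _ (W.mapQ W _ _ (Submodule.Quotient.mk v))
          rw [Submodule.mapQ_apply, Submodule.mapQ_apply, Submodule.mapQ_apply,
            Matrix.toLin'_apply, Matrix.toLin'_apply, Matrix.toLin'_apply, Matrix.mulVec_mulVec]
          simp }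
  have hsmul : ∀ (g : D) (v : Fin n → F), g • (Submodule.Quotient.mk v : (Fin n → F) ⧸ W) =
      Submodule.Quotient.mk (((g : Matrix.SpecialLinearGroup (Fin n) F) :
        Matrix (Fin n) (Fin n) F) *ᵥ v) := by
    intro g v
    show W.mapQ W _ _ (Submodule.Quotient.mk v) = _
    rw [Submodule.mapQ_apply, Matrix.toLin'_apply]
  have hmod := hD.card_modEq_card_fixedPoints ((Fin n → F) ⧸ W)
  -- `p` divides the cardinality of the quotient
  have hdvd : p ∣ Nat.card ((Fin n → F) ⧸ W) := by
    have : Fintype ((Fin n → F) ⧸ W) := Fintype.ofFinite _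
    rw [Nat.card_eq_fintype_card, Module.card_eq_pow_finrank (K := F)]
    obtain ⟨k, hk⟩ := FiniteField.card F p
    have hpos : 0 < Module.finrank F ((Fin n → F) ⧸ W) := by
      rw [Module.finrank_pos_iff]
      exact Submodule.Quotient.nontrivial_iff.mpr hi
    rw [hk.2]
    exact dvd_pow (dvd_pow_self p k.ne_zero) hpos.ne'
  have hdvd2 : p ∣ Nat.card (MulAction.fixedPoints D ((Fin n → F) ⧸ W)) :=
    (Nat.modEq_zero_iff_dvd.mp ((hmod.symm).trans (Nat.modEq_zero_iff_dvd.mpr hdvd)))
  -- a nonzero fixed point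
  have hex : ∃ q : (Fin n → F) ⧸ W, q ∈ MulAction.fixedPoints D ((Fin n → F) ⧸ W) ∧ q ≠ 0 := by
    by_contra hno
    push Not at hno
    have hss : Subsingleton (MulAction.fixedPoints D ((Fin n → F) ⧸ W)) :=
      ⟨fun a b => Subtype.ext ((hno a.1 a.2).trans (hno b.1 b.2).symm)⟩
    have h0 : (0 : (Fin n → F) ⧸ W) ∈ MulAction.fixedPoints D ((Fin n → F) ⧸ W) := by
      intro g
      have := hsmul g 0
      rw [Matrix.mulVec_zero] at this
      exact this
    have hne : Nonempty (MulAction.fixedPoints D ((Fin n → F) ⧸ W)) := ⟨⟨0, h0⟩⟩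
    have hc1 : Nat.card (MulAction.fixedPoints D ((Fin n → F) ⧸ W)) = 1 :=
      Nat.card_eq_one_iff_unique.mpr ⟨hss, hne⟩
    rw [hc1] at hdvd2
    exact (Fact.out : p.Prime).one_lt.ne' (Nat.dvd_one.mp hdvd2)
  obtain ⟨q, hq, hq0⟩ := hex
  induction q using Submodule.Quotient.induction_on with
  | _ v =>
    refine ⟨v, ?_, ?_⟩
    · intro g hg
      have := hq ⟨g, hg⟩
      rw [hsmul] at this
      exact (Submodule.Quotient.eq W).mp this
    · intro hv
      exact hq0 ((Submodule.Quotient.mk_eq_zero W).mpr hv)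

/-- the chain reaches the whole space -/
theorem exists_Vc_eq_top (hD : IsPGroup p D) : ∃ k, Vc D k = ⊤ := by
  have key : ∀ i, Vc D i = ⊤ ∨ i ≤ Module.finrank F (Vc D i) := by
    intro i
    induction i with
    | zero => right; exact Nat.zero_le _
    | succ i ih =>
      rcases ih with h | h
      · left
        exact top_le_iff.mp (h ▸ Vc_le_succ D i)
      · by_cases ht : Vc D i = ⊤
        · left
          exact top_le_iff.mp (ht ▸ Vc_le_succ D i)
        · right
          obtain ⟨v, hv1, hv2⟩ := exists_succ_of_ne_top D p hD i ht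
          have hlt : Vc D i < Vc D (i + 1) :=
            lt_of_le_of_ne (Vc_le_succ D i) (fun heq => hv2 (heq ▸ hv1))
          have := Submodule.finrank_lt_finrank_of_lt hlt
          omega
  rcases key (n + 1) with h | h
  · exact ⟨n + 1, h⟩
  · exfalso
    have h1 := Submodule.finrank_le (Vc D (n + 1))
    rw [Module.finrank_fin_fun] at h1
    omega

/-- `Rsub D` is a `p`-group -/
theorem isPGroup_Rsub (hD : IsPGroup p D) : IsPGroup p (Rsub D) := by
  classical
  obtain ⟨K, hK⟩ := exists_Vc_eq_top D p hD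
  rcases Nat.eq_zero_or_pos n with hn | hn
  · subst hn
    intro g
    exact ⟨0, Subsingleton.elim _ _⟩
  have : Nonempty (Fin n) := ⟨⟨0, hn⟩⟩
  intro g
  refine ⟨K, ?_⟩
  set N : Matrix (Fin n) (Fin n) F :=
    ((g : Matrix.SpecialLinearGroup (Fin n) F) : Matrix (Fin n) (Fin n) F) - 1 with hN
  have hNv : ∀ v, N *ᵥ v = ((g : Matrix.SpecialLinearGroup (Fin n) F) :
      Matrix (Fin n) (Fin n) F) *ᵥ v - v := by
    intro v; rw [hN, Matrix.sub_mulVec, Matrix.one_mulVec]
  have hpow : ∀ k j, ∀ v ∈ Vc D (j + k), (N ^ k) *ᵥ v ∈ Vc D j := by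
    intro k
    induction k with
    | zero => intro j v hv; rw [pow_zero, Matrix.one_mulVec]; exact hv
    | succ k ih =>
      intro j v hv
      have h1 : N *ᵥ v ∈ Vc D (j + k) := by
        rw [hNv]
        exact g.2 (j + k) v hv
      have h2 := ih j _ h1
      rw [Matrix.mulVec_mulVec, ← pow_succ] at h2
      exact h2
  have hNK : N ^ K = 0 := by
    apply Matrix.mulVec_injective
    funext v
    have := hpow K 0 v (by rw [zero_add, hK]; exact Submodule.mem_top)
    rw [Vc_zero, Submodule.mem_bot] at this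
    rw [this, Matrix.zero_mulVec]
  have hNp : N ^ (p ^ K) = 0 := by
    have hle : K ≤ p ^ K := (Nat.lt_pow_self (Fact.out : p.Prime).one_lt).le
    rw [← Nat.sub_add_cancel hle, pow_add, hNK, mul_zero]
  have hcomm : Commute ((g : Matrix.SpecialLinearGroup (Fin n) F) : Matrix (Fin n) (Fin n) F) 1 :=
    Commute.one_right _
  have hsub := sub_pow_char_pow_of_commute p K hcomm
  rw [← hN, hNp, one_pow] at hsub
  have hg1 : ((g : Matrix.SpecialLinearGroup (Fin n) F) : Matrix (Fin n) (Fin n) F) ^ (p ^ K) = 1 :=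
    (sub_eq_zero.mp hsub.symm)
  apply Subtype.ext
  apply Subtype.ext
  rw [Subgroup.coe_pow, Matrix.SpecialLinearGroup.coe_pow, hg1]
  rfl

end finite

end Cfsg.Agent.Lib.Helper27.SLFlag
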