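/-
helper27 (towards S4538): a `p`-subgroup `R ⊇ D` normalized by `N_G(D)` equals `D` when `D` is radical.
-/
import Mathlib
import Cfsg.Prelude.Def_Solvable

set_option autoImplicit false

namespace Cfsg.Agent.Lib.Helper27.SLFlagB

/-- a `p`-subgroup `R ⊇ D` normalized by `N_G(D)` equals `D` when `D = O_p(N_G(D))` -/
theorem eq_of_radical {G : Type*} [Group G] [Finite G] (p : ℕ) [Fact p.Prime] (D R : Subgroup G)
    (hDR : D ≤ R) (hR : IsPGroup p R)
    (hnorm : ∀ h ∈ Subgroup.normalizer (D : Set G), ∀ g ∈ R, h * g * h⁻¹ ∈ R)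
    (hrad : (Cfsg.pCore p (Subgroup.normalizer (D : Set G))).map
      (Subgroup.normalizer (D : Set G)).subtype = D) : R = D := by
  classical
  set N := Subgroup.normalizer (D : Set G) with hN
  -- `R ⊓ N ≤ D`
  have hRN : R ⊓ N ≤ D := by
    set Q : Subgroup N := (R ⊓ N).subgroupOf N with hQ
    have hQn : Q.Normal := by
      constructor
      intro g hg h
      rw [hQ, Subgroup.mem_subgroupOf] at hg ⊢
      refine ⟨?_, (h * g * h⁻¹).2⟩
      have := hnorm h.1 h.2 g.1 hg.1
      simpa using this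
    have hQp : IsPGroup p Q := by
      have h1 : IsPGroup p (R ⊓ N : Subgroup G) := hR.to_le inf_le_left
      exact h1.comap_subtype
    have hle : Q ≤ Cfsg.pCore p N := le_sSup ⟨hQn, hQp⟩
    intro g hg
    rw [← hrad]
    refine ⟨⟨g, hg.2⟩, hle ?_, rfl⟩
    rw [hQ, Subgroup.mem_subgroupOf]
    exact hg
  by_contra hne
  have hlt : D.subgroupOf R < ⊤ := by
    rw [lt_top_iff_ne_top]
    intro htop
    apply hne
    apply le_antisymm _ hDR
    intro g hg
    have : (⟨g, hg⟩ : R) ∈ D.subgroupOf R := by rw [htop]; exact Subgroup.mem_top _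
    exact Subgroup.mem_subgroupOf.mp this
  have : Group.IsNilpotent R := hR.isNilpotent
  have hnc := Group.normalizerCondition_of_isNilpotent (G := R) (D.subgroupOf R) hlt
  obtain ⟨y, hy1, hy2⟩ := SetLike.exists_of_lt hnc
  apply hy2
  rw [Subgroup.mem_subgroupOf]
  apply hRN
  refine ⟨y.2, ?_⟩
  show (y : G) ∈ Subgroup.normalizer (D : Set G)
  rw [Subgroup.mem_normalizer_iff]
  intro h
  rw [Subgroup.mem_normalizer_iff] at hy1
  constructor
  · intro hh
    have := (hy1 ⟨h, hDR hh⟩).mp (Subgroup.mem_subgroupOf.mpr hh)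
    rw [Subgroup.mem_subgroupOf] at this
    simpa using this
  · intro hh
    have hhR : h ∈ R := by
      have h1 : (y : G)⁻¹ * ((y : G) * h * (y : G)⁻¹) * (y : G) ∈ R :=
        R.mul_mem (R.mul_mem (R.inv_mem y.2) (hDR hh)) y.2
      have h2 : (y : G)⁻¹ * ((y : G) * h * (y : G)⁻¹) * (y : G) = h := by group
      rwa [h2] at h1
    have := (hy1 ⟨h, hhR⟩).mpr (by rw [Subgroup.mem_subgroupOf]; simpa using hh)
    exact Subgroup.mem_subgroupOf.mp this

end Cfsg.Agent.Lib.Helper27.SLFlagB
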