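/-
helper27 (towards S4538): in `SL_n(F)` (`F` finite of characteristic `p`) a `p`-regular element
centralizing a nontrivial radical `p`-subgroup is a scalar matrix; hence every `p`-block of `SL_n(F)` has
defect zero or full defect.
-/
import Mathlib
import Cfsg.Agent.Lib.Helper27.SLFlagA
import Cfsg.Agent.Lib.Helper27.SLFlagB
import Cfsg.Agent.Lib.Helper27.SLDich

set_option autoImplicit false

namespace Cfsg.Agent.Lib.Helper27.SLFlag

open Matrix

variable {F : Type*} [Field F] [Fintype F] {n : ℕ} (p : ℕ) [Fact p.Prime] [CharP F p]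
variable (D : Subgroup (Matrix.SpecialLinearGroup (Fin n) F))

/-- the transvection-like element `1 + v cᵀ` of `SL_n` for `c ⬝ v = 0` -/
noncomputable def tvec (v c : Fin n → F) (h : c ⬝ᵥ v = 0) : Matrix.SpecialLinearGroup (Fin n) F :=
  ⟨1 + Matrix.vecMulVec v c, by
    rw [Matrix.vecMulVec_eq Unit, Matrix.det_one_add_replicateCol_mul_replicateRow, h, add_zero]⟩

theorem tvec_mulVec (v c : Fin n → F) (h : c ⬝ᵥ v = 0) (w : Fin n → F) :
    ((tvec v c h : Matrix.SpecialLinearGroup (Fin n) F) : Matrix (Fin n) (Fin n) F) *ᵥ w =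
      w + (c ⬝ᵥ w) • v := by
  show (1 + Matrix.vecMulVec v c) *ᵥ w = _
  rw [Matrix.add_mulVec, Matrix.one_mulVec, Matrix.vecMulVec_mulVec, op_smul_eq_smul]

/-- `1 + v cᵀ ∈ Rsub D` for `v` in the first fixed space and `c` killing it -/
theorem tvec_mem_Rsub (v c : Fin n → F) (hv : v ∈ Vc D 1) (hc : ∀ w ∈ Vc D 1, c ⬝ᵥ w = 0) :
    tvec v c (hc v hv) ∈ Rsub D := by
  intro i w hw
  rw [tvec_mulVec, add_sub_cancel_left]
  cases i with
  | zero =>
    rw [hc w hw, zero_smul]
    exact (Vc D 0).zero_mem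
  | succ i =>
    exact (Vc D (i + 1)).smul_mem _ (Vc_mono D (Nat.succ_le_succ (Nat.zero_le i)) hv)

/-- a `p`-regular element centralizing a nontrivial `p`-subgroup `D` with `Rsub D = D` is central -/
theorem central_of_centralizes (hD : IsPGroup p D) (hne : D ≠ ⊥) (hRD : Rsub D = D)
    (x : Matrix.SpecialLinearGroup (Fin n) F)
    (hx : x ∈ Subgroup.centralizer (D : Set (Matrix.SpecialLinearGroup (Fin n) F)))
    (hreg : ¬ p ∣ orderOf x) : x ∈ Subgroup.center (Matrix.SpecialLinearGroup (Fin n) F) := by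
  classical
  have hp := (Fact.out : p.Prime)
  -- `n > 0`
  have hn : 0 < n := by
    rcases Nat.eq_zero_or_pos n with h0 | h0
    · subst h0
      exfalso
      apply hne
      rw [eq_bot_iff]
      intro g _
      rw [Subgroup.mem_bot]
      exact Subsingleton.elim _ _
    · exact h0
  have : Nonempty (Fin n) := ⟨⟨0, hn⟩⟩
  -- a nonzero vector in `Vc D 1`
  have hbt : Vc D 0 ≠ ⊤ := by
    rw [Vc_zero]
    exact bot_ne_top
  obtain ⟨v0, hv0, hv0'⟩ := exists_succ_of_ne_top D p hD 0 hbt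
  have hv0ne : v0 ≠ 0 := by
    intro h
    apply hv0'
    rw [h]; exact (Vc D 0).zero_mem
  -- `Vc D 1 ≠ ⊤`
  have h1t : Vc D 1 ≠ ⊤ := by
    intro htop
    apply hne
    rw [eq_bot_iff]
    intro g hg
    rw [Subgroup.mem_bot]
    apply Subtype.ext
    apply Matrix.mulVec_injective
    funext v
    have hv : v ∈ Vc D 1 := by rw [htop]; exact Submodule.mem_top
    have := hv g hg
    rw [Vc_zero, Submodule.mem_bot, sub_eq_zero] at this
    rw [this, Matrix.SpecialLinearGroup.coe_one, Matrix.one_mulVec]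
  -- functionals as vectors
  have hfun : ∀ f : (Fin n → F) →ₗ[F] F, ∃ c : Fin n → F, ∀ w, f w = c ⬝ᵥ w := by
    intro f
    refine ⟨fun i => f (fun j => if i = j then 1 else 0), fun w => ?_⟩
    rw [LinearMap.pi_apply_eq_sum_univ f w, dotProduct]
    apply Finset.sum_congr rfl
    intro i _
    rw [smul_eq_mul, mul_comm]
  -- the commutation relation
  have hcomm : ∀ (v c : Fin n → F) (hv : v ∈ Vc D 1) (hc : ∀ w ∈ Vc D 1, c ⬝ᵥ w = 0) (w : Fin n → F),
      (c ⬝ᵥ w) • ((x : Matrix (Fin n) (Fin n) F) *ᵥ v) =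
        (c ⬝ᵥ ((x : Matrix (Fin n) (Fin n) F) *ᵥ w)) • v := by
    intro v c hv hc w
    have hT : tvec v c (hc v hv) ∈ D := by
      rw [← hRD]; exact tvec_mem_Rsub D v c hv hc
    have h1 := (Subgroup.mem_centralizer_iff.mp hx) _ hT
    have h2 : ((tvec v c (hc v hv) * x : Matrix.SpecialLinearGroup (Fin n) F) :
        Matrix (Fin n) (Fin n) F) *ᵥ w =
        ((x * tvec v c (hc v hv) : Matrix.SpecialLinearGroup (Fin n) F) :
          Matrix (Fin n) (Fin n) F) *ᵥ w := by rw [h1]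
    rw [Matrix.SpecialLinearGroup.coe_mul, Matrix.SpecialLinearGroup.coe_mul,
      ← Matrix.mulVec_mulVec, ← Matrix.mulVec_mulVec, tvec_mulVec, tvec_mulVec,
      Matrix.mulVec_add, Matrix.mulVec_smul] at h2
    exact (add_left_cancel h2).symm
  -- a functional killing `Vc D 1`
  obtain ⟨f, hf0, hfk⟩ := Submodule.exists_le_ker_of_lt_top (Vc D 1) (lt_top_iff_ne_top.mpr h1t)
  obtain ⟨c, hc⟩ := hfun f
  have hck : ∀ w ∈ Vc D 1, c ⬝ᵥ w = 0 := by
    intro w hw
    rw [← hc]
    exact hfk hw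
  obtain ⟨w1, hw1⟩ : ∃ w1, c ⬝ᵥ w1 ≠ 0 := by
    by_contra hno
    push Not at hno
    apply hf0
    refine LinearMap.ext fun w => ?_
    rw [hc, hno w]
    rfl
  set a := c ⬝ᵥ w1 with ha
  set lam : F := (c ⬝ᵥ ((x : Matrix (Fin n) (Fin n) F) *ᵥ w1)) / a with hlam
  -- (1) `x` acts as `lam` on `Vc D 1`
  have h1 : ∀ v ∈ Vc D 1, (x : Matrix (Fin n) (Fin n) F) *ᵥ v = lam • v := by
    intro v hv
    have := hcomm v c hv hck w1
    rw [← ha] at this
    have h2 : (x : Matrix (Fin n) (Fin n) F) *ᵥ v =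
        a⁻¹ • (a • ((x : Matrix (Fin n) (Fin n) F) *ᵥ v)) := by
      rw [smul_smul, inv_mul_cancel₀ hw1, one_smul]
    rw [h2, this, smul_smul, hlam, div_eq_inv_mul]
  -- (2) `x w - lam w ∈ Vc D 1`
  have h2 : ∀ w, (x : Matrix (Fin n) (Fin n) F) *ᵥ w - lam • w ∈ Vc D 1 := by
    intro w
    by_contra hnot
    obtain ⟨f', hf'1, hf'2⟩ := Submodule.exists_le_ker_of_notMem hnot
    obtain ⟨c', hc'⟩ := hfun f'
    have hck' : ∀ w ∈ Vc D 1, c' ⬝ᵥ w = 0 := by
      intro w hw
      rw [← hc']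
      exact hf'2 hw
    have := hcomm v0 c' hv0 hck' w
    rw [h1 v0 hv0, smul_smul, ← sub_eq_zero, ← sub_smul] at this
    rcases smul_eq_zero.mp this with h3 | h3
    · apply hf'1
      have h4 : c' ⬝ᵥ ((x : Matrix (Fin n) (Fin n) F) *ᵥ w) = c' ⬝ᵥ w * lam := (sub_eq_zero.mp h3).symm
      rw [hc', dotProduct_sub, dotProduct_smul, smul_eq_mul, h4]
      ring
    · exact hv0ne h3
  -- `lam ≠ 0` and `lam ^ m = 1`
  set m := orderOf x with hm
  have hmpos : 0 < m := orderOf_pos x
  have hxm : (x : Matrix (Fin n) (Fin n) F) ^ m = 1 := by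
    rw [← Matrix.SpecialLinearGroup.coe_pow, hm, pow_orderOf_eq_one, Matrix.SpecialLinearGroup.coe_one]
  have hpowv : ∀ k : ℕ, ((x : Matrix (Fin n) (Fin n) F) ^ k) *ᵥ v0 = lam ^ k • v0 := by
    intro k
    induction k with
    | zero => rw [pow_zero, pow_zero, Matrix.one_mulVec, one_smul]
    | succ k ih =>
      rw [pow_succ, ← Matrix.mulVec_mulVec, h1 v0 hv0, Matrix.mulVec_smul, ih, smul_smul, pow_succ,
        mul_comm]
  have hlm : lam ^ m = 1 := by
    have := hpowv m
    rw [hxm, Matrix.one_mulVec] at this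
    have h3 : (lam ^ m - 1) • v0 = 0 := by rw [sub_smul, one_smul, ← this, sub_self]
    rcases smul_eq_zero.mp h3 with h4 | h4
    · exact sub_eq_zero.mp h4
    · exact absurd h4 hv0ne
  have hl0 : lam ≠ 0 := by
    intro h
    rw [h, zero_pow hmpos.ne'] at hlm
    exact zero_ne_one hlm
  -- powers of `x` on arbitrary vectors
  have hpsi : ∀ w, (x : Matrix (Fin n) (Fin n) F) *ᵥ
      ((x : Matrix (Fin n) (Fin n) F) *ᵥ w - lam • w) =
      lam • ((x : Matrix (Fin n) (Fin n) F) *ᵥ w - lam • w) := fun w => h1 _ (h2 w)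
  have hpoww : ∀ (k : ℕ) (w : Fin n → F), lam • (((x : Matrix (Fin n) (Fin n) F) ^ k) *ᵥ w) =
      lam ^ (k + 1) • w + ((k : F) * lam ^ k) •
        ((x : Matrix (Fin n) (Fin n) F) *ᵥ w - lam • w) := by
    intro k
    induction k with
    | zero => intro w; simp
    | succ k ih =>
      intro w
      set u := (x : Matrix (Fin n) (Fin n) F) *ᵥ w - lam • w with hu
      have e1 : (x : Matrix (Fin n) (Fin n) F) *ᵥ w = lam • w + u := by rw [hu]; abel
      have e2 : (x : Matrix (Fin n) (Fin n) F) *ᵥ u = lam • u := hpsi w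
      rw [pow_succ', ← Matrix.mulVec_mulVec, ← Matrix.mulVec_smul, ih w, ← hu, Matrix.mulVec_add,
        Matrix.mulVec_smul, Matrix.mulVec_smul, e1, e2]
      push_cast
      module
  have hpsi0 : ∀ w, (x : Matrix (Fin n) (Fin n) F) *ᵥ w = lam • w := by
    intro w
    have := hpoww m w
    rw [hxm, Matrix.one_mulVec, pow_succ, hlm, one_mul, mul_one] at this
    have h3 : (m : F) • ((x : Matrix (Fin n) (Fin n) F) *ᵥ w - lam • w) = 0 := by
      have h4 := this
      rw [left_eq_add] at h4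
      exact h4
    have hm0 : (m : F) ≠ 0 := by
      rw [Ne, CharP.cast_eq_zero_iff F p]
      exact hreg
    rcases smul_eq_zero.mp h3 with h4 | h4
    · exact absurd h4 hm0
    · exact sub_eq_zero.mp h4
  have hxs : (x : Matrix (Fin n) (Fin n) F) = lam • (1 : Matrix (Fin n) (Fin n) F) := by
    apply Matrix.mulVec_injective
    funext w
    rw [hpsi0 w, Matrix.smul_mulVec, Matrix.one_mulVec]
  rw [Subgroup.mem_center_iff]
  intro g
  apply Subtype.ext
  rw [Matrix.SpecialLinearGroup.coe_mul, Matrix.SpecialLinearGroup.coe_mul, hxs]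
  rw [Matrix.mul_smul, Matrix.smul_mul, Matrix.mul_one, Matrix.one_mul]

/-- **the centralizer condition for `SL_n(F)`**: a `p`-regular element centralizing a nontrivial radical
`p`-subgroup is central -/
theorem sl_key (D : Subgroup (Matrix.SpecialLinearGroup (Fin n) F)) (hD : IsPGroup p D) (hne : D ≠ ⊥)
    (hrad : (Cfsg.pCore p (Subgroup.normalizer (D : Set (Matrix.SpecialLinearGroup (Fin n) F)))).map
      (Subgroup.normalizer (D : Set (Matrix.SpecialLinearGroup (Fin n) F))).subtype = D)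
    (x : Matrix.SpecialLinearGroup (Fin n) F)
    (hx : x ∈ Subgroup.centralizer (D : Set (Matrix.SpecialLinearGroup (Fin n) F)))
    (hreg : ¬ p ∣ orderOf x) : x ∈ Subgroup.center (Matrix.SpecialLinearGroup (Fin n) F) := by
  have hRD : Rsub D = D :=
    Cfsg.Agent.Lib.Helper27.SLFlagB.eq_of_radical p D (Rsub D) (le_Rsub D) (isPGroup_Rsub D p hD)
      (fun h hh g hg => normalizer_conj_Rsub D hh hg) hrad
  exact central_of_centralizes p D hD hne hRD x hx hreg

/-- every `p`-block of `SL_n(F)`, `F` finite of characteristic `p`, has defect zero or full defect -/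
theorem sl_defect_zero_or_full (M : Ideal Cfsg.AlgInt) (hM : Cfsg.IsPModular p M)
    (B : Set (Cfsg.IrrCharacter (Matrix.SpecialLinearGroup (Fin n) F))) (hB : Cfsg.IsPBlock M B) :
    Cfsg.blockDefect p B = 0 ∨
      Cfsg.blockDefect p B = (Nat.card (Matrix.SpecialLinearGroup (Fin n) F)).factorization p :=
  Cfsg.Agent.Lib.Helper27.SLDich.defect_zero_or_full p
    (fun D hD hne hrad x hx hreg => sl_key p D hD hne hrad x hx hreg) M hM B hB

end Cfsg.Agent.Lib.Helper27.SLFlag
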