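/-
helper27 (S4538): assembly.  Given the split (B,N)-pair record of `SL_n(F)` (helper28's `slBN`, helper18's
`unitri`) and a linear character of `unitri` nontrivial on all fundamental root subgroups, `SL_n(F)` has
exactly one `p`-block of defect zero, and every other block has full defect.
-/
import Mathlib
import Cfsg.Agent.S2544
import Cfsg.Agent.Lib.Helper27.GGAsm
import Cfsg.Agent.Lib.Helper27.SLFlagC
import Cfsg.Agent.Lib.Helper28.SLBNU
import Cfsg.Agent.Lib.Helper17.BlkDefZero
import Cfsg.Agent.Lib.Helper23.DefectZeroIrr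
import Cfsg.Agent.Lib.Helper24.IrrFacts

set_option autoImplicit false

namespace Cfsg.Agent.Lib.Helper27.SLAsm

open Cfsg Matrix Cfsg.Agent.Lib.Helper6.GLBN Cfsg.Agent.Lib.Helper6.GLSt
open Cfsg.Agent.Lib.Helper18.PSLnAut Cfsg.Agent.Lib.Helper28.SLBN
open Cfsg.Agent.Lib.Helper6.BNSt Cfsg.Agent.Lib.Helper27.GG

variable {F : Type*} [Field F] [Fintype F] {n : ℕ} (p : ℕ) [Fact p.Prime] [CharP F p]

/-- the restriction of the Steinberg character of `GL_n(F)` to `SL_n(F)` -/
noncomputable def stSL (hn : 1 ≤ n) : IrrCharacter (SpecialLinearGroup (Fin n) F) :=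
  ⟨fun s => stGL n F (SpecialLinearGroup.toGL s), by
    classical
    exact isIrrCharacter_stFun_hom (glBN n F) SpecialLinearGroup.toGL Cfsg.Agent.S2544.toGL_conj
      (Cfsg.Agent.S2544.GL_eq_SL_mul_diag hn) (SfinGL n F) coe_SfinGL⟩

theorem card_unitri_eq (hn : 1 ≤ n) :
    Nat.card (unitri n F) = p ^ (Nat.card (SpecialLinearGroup (Fin n) F)).factorization p := by
  rw [← coe_sylowUni (F := F) p hn]
  exact (sylowUni (F := F) p hn).card_eq_multiplicity

theorem charDegree_stSL (hn : 1 ≤ n) :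
    charDegree ((stSL (F := F) hn : IrrCharacter (SpecialLinearGroup (Fin n) F)) :
      SpecialLinearGroup (Fin n) F → ℂ) = Nat.card (unitri n F) := by
  have h1 := Cfsg.Agent.Lib.Helper24.irr_apply_one (stSL (F := F) hn)
  have h2 : ((stSL (F := F) hn : IrrCharacter (SpecialLinearGroup (Fin n) F)) :
      SpecialLinearGroup (Fin n) F → ℂ) 1 = (Nat.card (unitri n F) : ℂ) := by
    show stGL n F (SpecialLinearGroup.toGL 1) = _
    rw [map_one, stGL_one]
  rw [h2] at h1
  exact_mod_cast h1.symm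

/-- a character of `p`-defect zero vanishes on the non-identity unitriangular matrices -/
theorem vanish_unitri (χ : IrrCharacter (SpecialLinearGroup (Fin n) F))
    (hχ : (Nat.card (SpecialLinearGroup (Fin n) F)).factorization p ≤
      (charDegree (χ : SpecialLinearGroup (Fin n) F → ℂ)).factorization p) :
    ∀ u ∈ unitri n F, u ≠ 1 → (χ : SpecialLinearGroup (Fin n) F → ℂ) u = 0 := by
  intro u hu hu1
  have hp := (Fact.out : p.Prime)
  have hd0 : charDegree (χ : SpecialLinearGroup (Fin n) F → ℂ) ≠ 0 :=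
    (Cfsg.Agent.Lib.Helper24.irr_charDegree_pos χ).ne'
  have hdvd : p ^ (Nat.card (SpecialLinearGroup (Fin n) F)).factorization p ∣
      charDegree (χ : SpecialLinearGroup (Fin n) F → ℂ) :=
    (hp.pow_dvd_iff_le_factorization hd0).mpr hχ
  have hpu : p ∣ orderOf u := by
    obtain ⟨k, hk⟩ := (isPGroup_unitri (n := n) (F := F) p) ⟨u, hu⟩
    have h2 : orderOf (⟨u, hu⟩ : unitri n F) ∣ p ^ k := orderOf_dvd_of_pow_eq_one hk
    rw [Subgroup.orderOf_mk] at h2
    obtain ⟨j, hj, hoj⟩ := (Nat.dvd_prime_pow hp).mp h2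
    rcases Nat.eq_zero_or_pos j with rfl | hjpos
    · rw [pow_zero, orderOf_eq_one_iff] at hoj
      exact absurd hoj hu1
    · rw [hoj]
      exact dvd_pow_self p hjpos.ne'
  exact Cfsg.Agent.Lib.Helper23.irr_eq_zero_of_defect_zero χ p hp hdvd u hpu

/-- **S4538 from the split record** -/
theorem s4538_of_split (hn : 2 ≤ n)
    (R : SplitBN (slBN (F := F) (n := n) (by omega)) (unitri n F) (Fintype.card F))
    (ψ : unitri n F →* ℂˣ)
    (hψ : ∀ i, ∃ x : unitri n F, (x : SpecialLinearGroup (Fin n) F) ∈ R.X i ∧ ψ x ≠ 1)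
    (M : Ideal Cfsg.AlgInt) (hM : Cfsg.IsPModular p M) :
    Nat.card {B : Set (Cfsg.IrrCharacter (Matrix.SpecialLinearGroup (Fin n) F)) //
      Cfsg.IsPBlock M B ∧ Cfsg.blockDefect p B = 0} = 1 ∧
    ∀ B : Set (Cfsg.IrrCharacter (Matrix.SpecialLinearGroup (Fin n) F)), Cfsg.IsPBlock M B →
      Cfsg.blockDefect p B = 0 ∨ Cfsg.blockDefect p B =
        (Nat.card (Matrix.SpecialLinearGroup (Fin n) F)).factorization p := by
  classical
  have hn1 : 1 ≤ n := by omega
  refine ⟨?_, fun B hB => Cfsg.Agent.Lib.Helper27.SLFlag.sl_defect_zero_or_full p M hM B hB⟩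
  apply Cfsg.Agent.Lib.Helper17.BlkDefZero.card_eq_one_of_existsUnique p M hM
  -- the finite set of distinguished generators
  have hfin : ((slBN (F := F) (n := n) (by omega)).S).Finite := Set.toFinite _
  set Sfin : Finset (SpecialLinearGroup (Fin n) F) := hfin.toFinset with hSfin
  have hcoe : (Sfin : Set (SpecialLinearGroup (Fin n) F)) = (slBN (F := F) (n := n) (by omega)).S :=
    hfin.coe_toFinset
  have key : ∀ χ : IrrCharacter (SpecialLinearGroup (Fin n) F),
      (Nat.card (SpecialLinearGroup (Fin n) F)).factorization p ≤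
        (charDegree (χ : SpecialLinearGroup (Fin n) F → ℂ)).factorization p →
      (χ : SpecialLinearGroup (Fin n) F → ℂ) = stFun (slBN (F := F) (n := n) (by omega)) Sfin :=
    fun χ hχ => Cfsg.Agent.Lib.Helper27.GGAsm.eq_stFun R ψ hψ Sfin hcoe _ χ.2
      (vanish_unitri p χ hχ)
  have hSt : (Nat.card (SpecialLinearGroup (Fin n) F)).factorization p ≤
      (charDegree ((stSL (F := F) hn1 : IrrCharacter (SpecialLinearGroup (Fin n) F)) :
        SpecialLinearGroup (Fin n) F → ℂ)).factorization p := by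
    rw [charDegree_stSL, card_unitri_eq p hn1, Nat.Prime.factorization_pow Fact.out]
    simp
  refine ⟨stSL (F := F) hn1, hSt, fun χ hχ => ?_⟩
  apply Subtype.ext
  rw [key χ hχ, key _ hSt]

end Cfsg.Agent.Lib.Helper27.SLAsm
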