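/-
helper27 (S4538, part (B)): `|B s B| = q |B|` for a distinguished generator `s` of a (B,N)-pair with a
"split" structure at `s` (the field `hcardC` of `SplitBN` follows from the other fields):
`B = ⊔_{x ∈ X} x (B ∩ s B s⁻¹)`.
-/
import Mathlib
import Cfsg.Agent.Lib.Helper6.GGC9

set_option autoImplicit false

namespace Cfsg.Agent.Lib.Helper27.SLCardC

open Cfsg Cfsg.Agent.Lib.Helper3.BN Cfsg.Agent.Lib.Helper6.BNSt Cfsg.Agent.Lib.Helper6.CoxRed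
open Cfsg.Agent.Lib.Helper6.GG

variable {G : Type*} [Group G] [Finite G] (P : Cfsg.BNPair G)

/-- **`|B s B| = |X| |B|`** from the split structure at `s` -/
theorem card_C_of_split (U X Us : Subgroup G) (s : G) (hs : s ∈ P.S) (q : ℕ)
    (hUB : U ≤ P.B)
    (hBUH : ∀ b ∈ P.B, ∃ u ∈ U, ∃ h ∈ P.B ⊓ P.N, b = u * h)
    (hX : X ≤ U) (hXU : ∀ u ∈ U, ∃ y ∈ Us, ∃ x ∈ X, u = y * x)
    (hcardX : Nat.card X = q) (hsUs : ∀ y ∈ Us, s * y * s⁻¹ ∈ U)
    (hrank1 : ∀ x ∈ X, x ≠ 1 → ∃ u₁ ∈ U, ∃ h ∈ P.B ⊓ P.N, ∃ u₂ ∈ U,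
      s * x * s⁻¹ = u₁ * h * s * u₂) :
    Nat.card (C P (sb P s hs)) = q * Nat.card P.B := by
  classical
  have hsN : s ∈ P.N := P.subset hs
  have hss : s * s ∈ P.B := P.sq_mem s hs
  have hsB : s ∉ P.B := S_not_mem_B P hs
  -- (i) `s⁻¹ g s ∈ B ↔ s g s⁻¹ ∈ B`
  have hi : ∀ g : G, s⁻¹ * g * s ∈ P.B ↔ s * g * s⁻¹ ∈ P.B := by
    intro g
    have e : s⁻¹ * g * s = (s * s)⁻¹ * (s * g * s⁻¹) * (s * s) := by group
    rw [e]
    constructor
    · intro h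
      have := P.B.mul_mem (P.B.mul_mem hss h) (P.B.inv_mem hss)
      have e2 : s * s * ((s * s)⁻¹ * (s * g * s⁻¹) * (s * s)) * (s * s)⁻¹ = s * g * s⁻¹ := by group
      rwa [e2] at this
    · intro h
      exact P.B.mul_mem (P.B.mul_mem (P.B.inv_mem hss) h) hss
  -- (ii), (iii), (iv)
  have hii : ∀ y ∈ Us, s⁻¹ * y * s ∈ P.B := fun y hy => (hi y).mpr (hUB (hsUs y hy))
  have hiii : ∀ h ∈ P.B ⊓ P.N, s⁻¹ * h * s ∈ P.B := fun h hh => (hi h).mpr (P.conj_mem s hsN h hh)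
  have hiv : ∀ x ∈ X, x ≠ 1 → s⁻¹ * x * s ∉ P.B := by
    intro x hx hx1 hB
    rw [hi] at hB
    obtain ⟨u₁, hu₁, h, hh, u₂, hu₂, he⟩ := hrank1 x hx hx1
    rw [he] at hB
    apply hsB
    have h1 : (u₁ * h)⁻¹ * (u₁ * h * s * u₂) * u₂⁻¹ ∈ P.B :=
      P.B.mul_mem (P.B.mul_mem (P.B.inv_mem (P.B.mul_mem (hUB hu₁) hh.1)) hB)
        (P.B.inv_mem (hUB hu₂))
    have e : (u₁ * h)⁻¹ * (u₁ * h * s * u₂) * u₂⁻¹ = s := by group
    rwa [e] at h1
  -- the bijection `X → B ⧸ BStab`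
  let f : X → P.B ⧸ BStab P s := fun x => QuotientGroup.mk ⟨(x : G), hUB (hX x.2)⟩
  have hf : Function.Bijective f := by
    constructor
    · intro x x' hxx'
      have h1 := QuotientGroup.eq.mp hxx'
      rw [mem_BStab] at h1
      by_contra hne
      have h2 : ((x : G)⁻¹ * (x' : G)) ≠ 1 := by
        intro h
        apply hne
        apply Subtype.ext
        exact inv_mul_eq_one.mp h
      exact hiv _ (X.mul_mem (X.inv_mem x.2) x'.2) h2 (by simpa using h1)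
    · intro z
      obtain ⟨b, rfl⟩ := QuotientGroup.mk_surjective z
      obtain ⟨u, hu, h, hh, hb⟩ := hBUH b b.2
      obtain ⟨y, hy, x, hx, hyx⟩ := hXU u⁻¹ (U.inv_mem hu)
      refine ⟨⟨x⁻¹, X.inv_mem hx⟩, ?_⟩
      apply QuotientGroup.eq.mpr
      rw [mem_BStab]
      have e1 : u = x⁻¹ * y⁻¹ := by
        rw [← inv_inv u, hyx, mul_inv_rev]
      have e2 : s⁻¹ * ((⟨x⁻¹, hUB (hX (X.inv_mem hx))⟩ : P.B)⁻¹ * b : P.B) * s =
          (s⁻¹ * y⁻¹ * s) * (s⁻¹ * h * s) := by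
        rw [Subgroup.coe_mul, Subgroup.coe_inv, hb, e1]
        group
      rw [e2]
      exact P.B.mul_mem (hii _ (Us.inv_mem hy)) (hiii h hh)
  have hidx : (BStab P s).index = q := by
    rw [Subgroup.index, ← hcardX]
    exact (Nat.card_congr (Equiv.ofBijective f hf)).symm
  have hC : C P (sb P s hs) = dc P s := by
    unfold sb
    exact C_mk P hsN
  rw [hC, card_dc_eq P s, hidx]

end Cfsg.Agent.Lib.Helper27.SLCardC
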