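import Mathlib
import Cfsg.Agent.Lib.Helper17.SLMDefs

set_option autoImplicit false
set_option linter.style.haveILetI false
set_option linter.unusedSectionVars false
set_option linter.unusedVariables false

namespace Cfsg.Agent.Lib.Helper27.SLMLeaf

open Cfsg.Geo Matrix Module Cfsg.Agent.Lib.Helper17.SLM

/-- divisibility of `p ^ d - 1` in terms of `ZMod` -/
lemma dvd_pow_sub_one_iff {z p d : ℕ} (hp : 0 < p) : z ∣ p ^ d - 1 ↔ ((p : ZMod z)) ^ d = 1 := by
  have h1 : 1 ≤ p ^ d := Nat.one_le_pow _ _ hp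
  rw [← ZMod.natCast_eq_zero_iff, Nat.cast_sub h1, Nat.cast_pow, Nat.cast_one, sub_eq_zero]

/-- the degree of the minimal field is the order of `p` modulo `z` -/
lemma minfield_orderOf {z p e : ℕ} (hp : 0 < p) (he : 0 < e) (h : z ∣ p ^ e - 1)
    (hmin : ∀ d : ℕ, 0 < d → d < e → ¬ z ∣ p ^ d - 1) : orderOf (p : ZMod z) = e := by
  rw [orderOf_eq_iff he]
  refine ⟨(dvd_pow_sub_one_iff hp).mp h, fun m hm hm0 hcon => ?_⟩
  exact hmin m hm0 hm ((dvd_pow_sub_one_iff hp).mpr hcon)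

/-- for a prime `r ≠ p` the degree of the minimal field divides `r - 1` -/
lemma minfield_dvd {r p e : ℕ} (hr : r.Prime) (hp : p.Prime) (hrp : r ≠ p) (he : 0 < e)
    (h : r ∣ p ^ e - 1) (hmin : ∀ d : ℕ, 0 < d → d < e → ¬ r ∣ p ^ d - 1) : e ∣ r - 1 := by
  haveI : Fact r.Prime := ⟨hr⟩
  rw [← minfield_orderOf hp.pos he h hmin]
  apply orderOf_dvd_of_pow_eq_one
  apply ZMod.pow_card_sub_one_eq_one
  intro h0
  rw [ZMod.natCast_eq_zero_iff] at h0
  exact hrp ((Nat.prime_dvd_prime_iff_eq hr hp).mp h0)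

variable {n : ℕ} {F : Type*} [Field F] [Fintype F]

/-- unpacking the odd case -/
lemma c6_odd_data {r : ℕ} (hr2 : r ≠ 2) {R : Subgroup (GL (Fin n) F)}
    (hR : IsLinearSymplecticTypeData r R) :
    ∃ p e : ℕ, p.Prime ∧ CharP F p ∧ Fintype.card F = p ^ e ∧ Odd e ∧ 0 < e ∧ e ∣ r - 1 ∧
      orderOf (p : ZMod r) = e := by
  obtain ⟨p, e, hrp, ⟨hp, hchar, hcard, hdvd, hmin⟩, hcases⟩ := hR.field
  have hrpr : r.Prime := hR.symplecticType.prime
  rcases hcases with ⟨hodd, hoe, hz, -⟩ | ⟨h2, -⟩ | ⟨h2, -⟩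
  · rw [hz] at hdvd hmin
    have he : 0 < e := hoe.pos
    exact ⟨p, e, hp, hchar, hcard, hoe, he, minfield_dvd hrpr hp hrp he hdvd hmin,
      minfield_orderOf hp.pos he hdvd hmin⟩
  · exact absurd h2 hr2
  · exact absurd h2 hr2

lemma mod_of_orderOf_one {r p : ℕ} (hr : 2 ≤ r) (h : orderOf (p : ZMod r) = 1) : p % r = 1 := by
  rw [orderOf_eq_one_iff] at h
  have h1 : ((p : ℕ) : ZMod r) = ((1 : ℕ) : ZMod r) := by rw [h, Nat.cast_one]
  rw [ZMod.natCast_eq_natCast_iff'] at h1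
  rw [h1, Nat.mod_eq_of_lt hr]

/-- N4a.  `r` odd: `e` is odd and minimal with `r ∣ p^e - 1`. -/
theorem c6_three {R : Subgroup (GL (Fin n) F)} (hn : 3 ≤ n) (hR : IsLinearSymplecticTypeData 3 R) :
    ∃ p : ℕ, p.Prime ∧ Fintype.card F = p ∧ p % 3 = 1 := by
  obtain ⟨p, e, hp, hchar, hcard, hoe, he, hdvd, hord⟩ := c6_odd_data (by norm_num) hR
  have hle : e ≤ 2 := Nat.le_of_dvd (by norm_num) hdvd
  have he1 : e = 1 := by
    interval_cases e
    · rfl
    · exact absurd hoe (by decide)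
  subst he1
  exact ⟨p, hp, by rw [hcard, pow_one], mod_of_orderOf_one (by norm_num) hord⟩

theorem c6_five {R : Subgroup (GL (Fin n) F)} (hn : 3 ≤ n) (hR : IsLinearSymplecticTypeData 5 R) :
    ∃ p : ℕ, p.Prime ∧ Fintype.card F = p ∧ p % 5 = 1 := by
  obtain ⟨p, e, hp, hchar, hcard, hoe, he, hdvd, hord⟩ := c6_odd_data (by norm_num) hR
  have hle : e ≤ 4 := Nat.le_of_dvd (by norm_num) hdvd
  have he1 : e = 1 := by
    interval_cases e
    · rfl
    · exact absurd hoe (by decide)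
    · exact absurd hdvd (by decide)
    · exact absurd hoe (by decide)
  subst he1
  exact ⟨p, hp, by rw [hcard, pow_one], mod_of_orderOf_one (by norm_num) hord⟩

theorem c6_seven {R : Subgroup (GL (Fin n) F)} (hn : 3 ≤ n) (hR : IsLinearSymplecticTypeData 7 R) :
    ∃ p : ℕ, p.Prime ∧ CharP F p ∧ ((Fintype.card F = p ∧ p % 7 = 1) ∨
      (Fintype.card F = p ^ 3 ∧ (p % 7 = 2 ∨ p % 7 = 4))) := by
  obtain ⟨p, e, hp, hchar, hcard, hoe, he, hdvd, hord⟩ := c6_odd_data (by norm_num) hR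
  have hle : e ≤ 6 := Nat.le_of_dvd (by norm_num) hdvd
  refine ⟨p, hp, hchar, ?_⟩
  have hcases : e = 1 ∨ e = 3 := by
    interval_cases e
    · left; rfl
    · exact absurd hoe (by decide)
    · right; rfl
    · exact absurd hoe (by decide)
    · exact absurd hdvd (by decide)
    · exact absurd hoe (by decide)
  rcases hcases with rfl | rfl
  · left
    exact ⟨by rw [hcard, pow_one], mod_of_orderOf_one (by norm_num) hord⟩
  · right
    refine ⟨hcard, ?_⟩
    have h3 : (p : ZMod 7) ^ 3 = 1 := by rw [← hord]; exact pow_orderOf_eq_one _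
    have hne : (p : ZMod 7) ≠ 1 := by
      intro h1
      rw [← orderOf_eq_one_iff, hord] at h1
      norm_num at h1
    have key : ∀ a : ZMod 7, a ^ 3 = 1 → a ≠ 1 → a = 2 ∨ a = 4 := by decide
    rcases key _ h3 hne with h | h
    · left
      have h1 : ((p : ℕ) : ZMod 7) = ((2 : ℕ) : ZMod 7) := by rw [h]; rfl
      rw [ZMod.natCast_eq_natCast_iff'] at h1
      exact h1
    · right
      have h1 : ((p : ℕ) : ZMod 7) = ((4 : ℕ) : ZMod 7) := by rw [h]; rfl
      rw [ZMod.natCast_eq_natCast_iff'] at h1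
      exact h1

theorem c6_eleven {R : Subgroup (GL (Fin n) F)} (hn : 3 ≤ n) (hR : IsLinearSymplecticTypeData 11 R) :
    ∃ p : ℕ, p.Prime ∧ CharP F p ∧ ((Fintype.card F = p ∧ p % 11 = 1) ∨
      (Fintype.card F = p ^ 5 ∧ (p % 11 = 3 ∨ p % 11 = 4 ∨ p % 11 = 5 ∨ p % 11 = 9))) := by
  obtain ⟨p, e, hp, hchar, hcard, hoe, he, hdvd, hord⟩ := c6_odd_data (by norm_num) hR
  have hle : e ≤ 10 := Nat.le_of_dvd (by norm_num) hdvd
  refine ⟨p, hp, hchar, ?_⟩
  have hcases : e = 1 ∨ e = 5 := by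
    interval_cases e
    · left; rfl
    · exact absurd hoe (by decide)
    · exact absurd hdvd (by decide)
    · exact absurd hoe (by decide)
    · right; rfl
    · exact absurd hoe (by decide)
    · exact absurd hdvd (by decide)
    · exact absurd hoe (by decide)
    · exact absurd hdvd (by decide)
    · exact absurd hoe (by decide)
  rcases hcases with rfl | rfl
  · left
    exact ⟨by rw [hcard, pow_one], mod_of_orderOf_one (by norm_num) hord⟩
  · right
    refine ⟨hcard, ?_⟩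
    have h3 : (p : ZMod 11) ^ 5 = 1 := by rw [← hord]; exact pow_orderOf_eq_one _
    have hne : (p : ZMod 11) ≠ 1 := by
      intro h1
      rw [← orderOf_eq_one_iff, hord] at h1
      norm_num at h1
    have key : ∀ a : ZMod 11, a ^ 5 = 1 → a ≠ 1 → a = 3 ∨ a = 4 ∨ a = 5 ∨ a = 9 := by decide
    have conv : ∀ k : ℕ, (p : ZMod 11) = ((k : ℕ) : ZMod 11) → p % 11 = k % 11 := by
      intro k h1
      rw [ZMod.natCast_eq_natCast_iff'] at h1
      exact h1
    rcases key _ h3 hne with h | h | h | h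
    · left; exact conv 3 (by rw [h]; rfl)
    · right; left; exact conv 4 (by rw [h]; rfl)
    · right; right; left; exact conv 5 (by rw [h]; rfl)
    · right; right; right; exact conv 9 (by rw [h]; rfl)

/-- N4b.  `r = 2`, `n ≥ 3`: the second alternative: `e = 1`, `|Z(R)| = 4 ∣ p - 1`. -/
theorem c6_two {R : Subgroup (GL (Fin n) F)} (hn : 3 ≤ n) (hR : IsLinearSymplecticTypeData 2 R) :
    ∃ p : ℕ, p.Prime ∧ Fintype.card F = p ∧ p % 4 = 1 := by
  obtain ⟨p, e, hrp, ⟨hp, hchar, hcard, hdvd, hmin⟩, hcases⟩ := hR.field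
  rcases hcases with ⟨hodd, -⟩ | ⟨-, he, hz, -⟩ | ⟨-, -, hcardι, -⟩
  · exact absurd hodd (by decide)
  · subst he
    rw [hz, pow_one] at hdvd
    refine ⟨p, hp, by rw [hcard, pow_one], ?_⟩
    have hp1 : 1 ≤ p := hp.one_lt.le
    omega
  · rw [Fintype.card_fin] at hcardι
    omega

end Cfsg.Agent.Lib.Helper27.SLMLeaf
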