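/-
helper27 (S4538): the split (B,N)-pair record of `SL_n(F)` (helper28's `slBN`, helper18's `unitri`,
helper12's root subgroups `Xk`, `Usk`) assembled from the team's leaves (helper28 `SLBNU`, helper12
`SLRoot`, helper22 `SLWeyl`/`SLPos`, helper7 `BNCardCs`), and the linear character of `unitri`
that is nontrivial on all fundamental root subgroups (helper14 `SLPsi`).
-/
import Mathlib
import Cfsg.Agent.Lib.Helper27.GGDefs
import Cfsg.Agent.Lib.Helper12.SLRoot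
import Cfsg.Agent.Lib.Helper22.SLPos
import Cfsg.Agent.Lib.Helper7.BNCardCs
import Cfsg.Agent.Lib.Helper14.SLPsi

set_option autoImplicit false

namespace Cfsg.Agent.Lib.Helper27.SLSplit

open Cfsg Matrix Cfsg.Agent.Lib.Helper6.GLBN
open Cfsg.Agent.Lib.Helper18.PSLnAut Cfsg.Agent.Lib.Helper28.SLBN Cfsg.Agent.Lib.Helper12.SLRoot
open Cfsg.Agent.Lib.Helper3.BN Cfsg.Agent.Lib.Helper3.WordLen
open Cfsg.Agent.Lib.Helper6.BNSt Cfsg.Agent.Lib.Helper27.GG

variable {F : Type*} [Field F] [Fintype F] {n : ℕ}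

/-- `|B s_i B| = q |B|` -/
theorem sl_hcardC (hn : 0 < n) (i : Fin (n - 1)) (hs : sOfSL n F i ∈ (slBN (F := F) hn).S) :
    Nat.card (C (slBN (F := F) hn) (sb (slBN (F := F) hn) (sOfSL n F i) hs)) =
      Fintype.card F * Nat.card (slBN (F := F) hn).B := by
  rw [Cfsg.Agent.Lib.Helper7.BNCardCs.card_C_of_split (slBN (F := F) hn) (unitri n F)
    (unitri_le_B hn) (fun b hb => B_eq_unitri_mul_T hn hb) hs (Xk i) (Usk i)
    (Xk_le_unitri i) (unitri_eq_Usk_mul_Xk i) (sOfSL_conj_Usk i) (sl_hrank1 hn i), card_Xk]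

/-- `n⁻¹ X_i n ≤ U` whenever `ℓ(s_i w) > ℓ(w)` -/
theorem sl_hpos (hn : 0 < n) (i : Fin (n - 1)) (hs : sOfSL n F i ∈ (slBN (F := F) hn).S)
    (m : SpecialLinearGroup (Fin n) F) (hm : m ∈ (slBN (F := F) hn).N)
    (hlen : len (Sbar (slBN (F := F) hn)) (mkW (slBN (F := F) hn) m hm) <
      len (Sbar (slBN (F := F) hn))
        (sb (slBN (F := F) hn) (sOfSL n F i) hs * mkW (slBN (F := F) hn) m hm)) :
    ∀ x ∈ Xk (F := F) i, m⁻¹ * x * m ∈ unitri n F := by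
  intro x hx
  obtain ⟨t, rfl⟩ := mem_Xk_iff.mp hx
  exact Cfsg.Agent.Lib.Helper22.SLWeyl.hpos_sOfSL hn i hs m hm hlen (xI i t) t rfl

/-- the split (B,N)-pair record of `SL_n(F)` -/
noncomputable def slSplit (hn : 0 < n) :
    SplitBN (slBN (F := F) (n := n) hn) (unitri n F) (Fintype.card F) where
  hq := Fintype.one_lt_card
  hUB := unitri_le_B hn
  hUn := fun _ hb _ hu => conj_mem_unitri hn hb hu
  hBUH := fun _ hb => B_eq_unitri_mul_T hn hb
  hUH := unitri_inf_T hn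
  hHcomm := fun _ hh _ hh' => T_comm hn hh hh'
  ι := Fin (n - 1)
  sOf := sOfSL n F
  hS := slBN_S_eq_range hn
  X := Xk
  Us := Usk
  hX := Xk_le_unitri
  hUs := Usk_le_unitri
  hXU := unitri_eq_Usk_mul_Xk
  hXUs := Xk_inf_Usk
  hcardX := card_Xk
  hsUs := sOfSL_conj_Usk
  hrank1 := sl_hrank1 hn
  hrank1_one := sl_hrank1_one
  hHgen := sl_hHgen hn
  hpos := sl_hpos hn
  hcardC := sl_hcardC hn
  hcardU := Cfsg.Agent.Lib.Helper22.SLWeyl.card_unitri_eq hn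

/-- a linear character of `unitri` that is nontrivial on every fundamental root subgroup -/
theorem sl_psi : ∃ ψ : unitri n F →* ℂˣ, ∀ i : Fin (n - 1),
    ∃ x : unitri n F, (x : SpecialLinearGroup (Fin n) F) ∈ Xk (F := F) i ∧ ψ x ≠ 1 := by
  obtain ⟨ψ, hψ⟩ := Cfsg.Agent.Lib.Helper14.SLPsi.exists_psi n F
  refine ⟨ψ, fun i => ⟨⟨SpecialLinearGroup.transvection (ne_of_lt (lo_lt_hi i)) 1,
    transvection_mem_unitri (lo_lt_hi i) 1⟩, mem_Xk_iff.mpr ⟨1, ?_⟩,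
    hψ (lo i) (hi i) (hi_val i) (lo_lt_hi i)⟩⟩
  apply Subtype.ext
  rfl

end Cfsg.Agent.Lib.Helper27.SLSplit
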