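import Mathlib
import Cfsg.Agent.Lib.Helper10.SU33Bridge

set_option autoImplicit false
set_option maxRecDepth 1000000
set_option maxHeartbeats 4000000
set_option synthInstance.maxSize 4000
set_option synthInstance.maxHeartbeats 2000000

/-!
# `SO_3(3) = S_4 < L_2(7) < SU_3(3)`: the computational model (orthonormal coordinates)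

On top of helper10's model `Kp`, `Kq = Kp[ι]` (`ι² = 2`), `V3`, `M3` of `GF(9)^3`: the standard hermitian form `hS`, the set `inO`
of the 168 non-zero vectors on the 21 points of an orbit of `L_2(7) = ⟨24 signed permutation matrices of determinant one, gO⟩`
(a bit mask indexed by the base-3 code of a vector), the involution `gO`, a transvection moving the set, and the table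
diagonalising the 468 invertible symmetric matrices over the prime field.
-/

namespace Cfsg.Agent.Lib.Helper27.SU3O

open Cfsg.Agent.Lib.Helper10.SU33

/-- the standard hermitian form of the model -/
def hS (v w : V3) : Kq := V3.dot v (V3.frob w)

/-- the hermitian form of the model with Gram matrix `Γ` -/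
def hGen (Γ : M3) (v w : V3) : Kq := V3.dot v (mv Γ (V3.frob w))

/-- a vector with entries in the prime field -/
def rv (x y z : Kp) : V3 := ⟨⟨x, Kp.e0⟩, ⟨y, Kp.e0⟩, ⟨z, Kp.e0⟩⟩

/-- a scalar multiple of a matrix -/
def scl (k : Kq) (A : M3) : M3 := ⟨V3.smul k A.c0, V3.smul k A.c1, V3.smul k A.c2⟩

/-- a matrix with entries in the prime field (column after column) -/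
structure RM where
  x00 : Kp
  x10 : Kp
  x20 : Kp
  x01 : Kp
  x11 : Kp
  x21 : Kp
  x02 : Kp
  x12 : Kp
  x22 : Kp

def RM.toM3 (B : RM) : M3 := ⟨rv B.x00 B.x10 B.x20, rv B.x01 B.x11 B.x21, rv B.x02 B.x12 B.x22⟩

/-- the symmetric matrix with the given entries -/
def symM (g00 g01 g02 g11 g12 g22 : Kp) : M3 := ⟨rv g00 g01 g02, rv g01 g11 g12, rv g02 g12 g22⟩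

/-- the base-3 code of a vector -/
def code (v : V3) : ℕ :=
  v.a.re.toNat + 3 * v.a.im.toNat + 9 * v.b.re.toNat + 27 * v.b.im.toNat + 81 * v.c.re.toNat + 243 * v.c.im.toNat

/-- the bit mask of the 168 vectors -/
def MASK : ℕ := 38611080761426770622944982939007151625977196793225820386159328786250312972924273603124990597568545510463117119842369184746983388964087592353655417884495222604018874604378672029247666942432285970239815519176175950499838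

/-- membership in the set of the 168 vectors -/
def inO (v : V3) : Bool := Nat.testBit MASK (code v)

/-- representatives of the 21 points -/
def reps : List V3 := [
  ⟨⟨Kp.e0, Kp.e0⟩, ⟨Kp.e0, Kp.e0⟩, ⟨Kp.e1, Kp.e0⟩⟩,
  ⟨⟨Kp.e0, Kp.e0⟩, ⟨Kp.e1, Kp.e0⟩, ⟨Kp.e0, Kp.e0⟩⟩,
  ⟨⟨Kp.e0, Kp.e0⟩, ⟨Kp.e1, Kp.e0⟩, ⟨Kp.e1, Kp.e0⟩⟩,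
  ⟨⟨Kp.e0, Kp.e0⟩, ⟨Kp.e1, Kp.e0⟩, ⟨Kp.e2, Kp.e0⟩⟩,
  ⟨⟨Kp.e1, Kp.e0⟩, ⟨Kp.e0, Kp.e0⟩, ⟨Kp.e0, Kp.e0⟩⟩,
  ⟨⟨Kp.e1, Kp.e0⟩, ⟨Kp.e0, Kp.e0⟩, ⟨Kp.e1, Kp.e0⟩⟩,
  ⟨⟨Kp.e1, Kp.e0⟩, ⟨Kp.e0, Kp.e0⟩, ⟨Kp.e2, Kp.e0⟩⟩,
  ⟨⟨Kp.e1, Kp.e0⟩, ⟨Kp.e1, Kp.e0⟩, ⟨Kp.e0, Kp.e0⟩⟩,
  ⟨⟨Kp.e1, Kp.e0⟩, ⟨Kp.e1, Kp.e0⟩, ⟨Kp.e1, Kp.e2⟩⟩,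
  ⟨⟨Kp.e1, Kp.e0⟩, ⟨Kp.e1, Kp.e0⟩, ⟨Kp.e2, Kp.e1⟩⟩,
  ⟨⟨Kp.e1, Kp.e0⟩, ⟨Kp.e1, Kp.e1⟩, ⟨Kp.e1, Kp.e1⟩⟩,
  ⟨⟨Kp.e1, Kp.e0⟩, ⟨Kp.e1, Kp.e1⟩, ⟨Kp.e2, Kp.e2⟩⟩,
  ⟨⟨Kp.e1, Kp.e0⟩, ⟨Kp.e1, Kp.e2⟩, ⟨Kp.e1, Kp.e0⟩⟩,
  ⟨⟨Kp.e1, Kp.e0⟩, ⟨Kp.e1, Kp.e2⟩, ⟨Kp.e2, Kp.e0⟩⟩,
  ⟨⟨Kp.e1, Kp.e0⟩, ⟨Kp.e2, Kp.e0⟩, ⟨Kp.e0, Kp.e0⟩⟩,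
  ⟨⟨Kp.e1, Kp.e0⟩, ⟨Kp.e2, Kp.e0⟩, ⟨Kp.e1, Kp.e2⟩⟩,
  ⟨⟨Kp.e1, Kp.e0⟩, ⟨Kp.e2, Kp.e0⟩, ⟨Kp.e2, Kp.e1⟩⟩,
  ⟨⟨Kp.e1, Kp.e0⟩, ⟨Kp.e2, Kp.e1⟩, ⟨Kp.e1, Kp.e0⟩⟩,
  ⟨⟨Kp.e1, Kp.e0⟩, ⟨Kp.e2, Kp.e1⟩, ⟨Kp.e2, Kp.e0⟩⟩,
  ⟨⟨Kp.e1, Kp.e0⟩, ⟨Kp.e2, Kp.e2⟩, ⟨Kp.e1, Kp.e1⟩⟩,
  ⟨⟨Kp.e1, Kp.e0⟩, ⟨Kp.e2, Kp.e2⟩, ⟨Kp.e2, Kp.e2⟩⟩]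

/-- a vector of the set is a non-zero multiple of a representative -/
theorem inO_rep : ∀ a0 a1 b0 b1 c0 c1 : Kp, inO ⟨⟨a0, a1⟩, ⟨b0, b1⟩, ⟨c0, c1⟩⟩ = true →
    ∃ r ∈ reps, ∃ k0 k1 : Kp, (⟨k0, k1⟩ : Kq) ≠ Kq.zero ∧
      (⟨⟨a0, a1⟩, ⟨b0, b1⟩, ⟨c0, c1⟩⟩ : V3) = V3.smul ⟨k0, k1⟩ r := by decide +kernel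

/-- the non-zero multiples of the representatives are in the set -/
theorem rep_inO : ∀ r ∈ reps, ∀ k0 k1 : Kp, (⟨k0, k1⟩ : Kq) ≠ Kq.zero → inO (V3.smul ⟨k0, k1⟩ r) = true := by decide +kernel

/-- the extra involution generating `L_2(7)` with the signed permutation matrices -/
def gO : M3 := ⟨⟨⟨Kp.e0, Kp.e0⟩, ⟨Kp.e1, Kp.e1⟩, ⟨Kp.e1, Kp.e1⟩⟩, ⟨⟨Kp.e1, Kp.e2⟩, ⟨Kp.e1, Kp.e0⟩, ⟨Kp.e2, Kp.e0⟩⟩, ⟨⟨Kp.e1, Kp.e2⟩, ⟨Kp.e2, Kp.e0⟩, ⟨Kp.e1, Kp.e0⟩⟩⟩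

theorem det_gO : det3 gO = Kq.one := by decide +kernel
theorem mm_gO_gO : mm gO gO = Id3 := by decide +kernel
theorem unitary_gO : ∀ i j : Fin 3, hS (mv gO (Id3.col i)) (mv gO (Id3.col j)) = hS (Id3.col i) (Id3.col j) := by decide +kernel

theorem orbit_gO : ∀ r ∈ reps, inO (mv gO r) = true := by decide +kernel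

/-- the second column of `gO` is not a multiple of a vector over the prime field -/
theorem gO_col1 : ∀ k0 k1 x0 x1 x2 : Kp, V3.smul ⟨k0, k1⟩ (rv x0 x1 x2) ≠ gO.c1 := by decide +kernel

/-- the norm and the dot product over the prime field -/
def nR (x0 x1 x2 : Kp) : Kp := Kp.add (Kp.add (Kp.mul x0 x0) (Kp.mul x1 x1)) (Kp.mul x2 x2)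
def dR (x0 x1 x2 y0 y1 y2 : Kp) : Kp := Kp.add (Kp.add (Kp.mul x0 y0) (Kp.mul x1 y1)) (Kp.mul x2 y2)

/-- a unitary multiple of a matrix over the prime field: the matrix is orthogonal -/
theorem real_unitary_orth : ∀ k0 k1 x0 x1 x2 : Kp,
    hS (V3.smul ⟨k0, k1⟩ (rv x0 x1 x2)) (V3.smul ⟨k0, k1⟩ (rv x0 x1 x2)) = Kq.one →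
    ∀ y0 y1 y2 : Kp, hS (V3.smul ⟨k0, k1⟩ (rv y0 y1 y2)) (V3.smul ⟨k0, k1⟩ (rv y0 y1 y2)) = Kq.one →
    hS (V3.smul ⟨k0, k1⟩ (rv x0 x1 x2)) (V3.smul ⟨k0, k1⟩ (rv y0 y1 y2)) = Kq.zero →
    ∀ z0 z1 z2 : Kp, hS (V3.smul ⟨k0, k1⟩ (rv z0 z1 z2)) (V3.smul ⟨k0, k1⟩ (rv z0 z1 z2)) = Kq.one →
    hS (V3.smul ⟨k0, k1⟩ (rv x0 x1 x2)) (V3.smul ⟨k0, k1⟩ (rv z0 z1 z2)) = Kq.zero →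
    hS (V3.smul ⟨k0, k1⟩ (rv y0 y1 y2)) (V3.smul ⟨k0, k1⟩ (rv z0 z1 z2)) = Kq.zero →
    (nR x0 x1 x2 = Kp.e1 ∧ nR y0 y1 y2 = Kp.e1 ∧ dR x0 x1 x2 y0 y1 y2 = Kp.e0 ∧ nR z0 z1 z2 = Kp.e1 ∧
      dR x0 x1 x2 z0 z1 z2 = Kp.e0 ∧ dR y0 y1 y2 z0 z1 z2 = Kp.e0) := by decide +kernel

/-- an orthogonal matrix over the prime field preserves the set -/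
theorem real_orth_closed : ∀ x0 x1 x2 : Kp, nR x0 x1 x2 = Kp.e1 →
    ∀ y0 y1 y2 : Kp, nR y0 y1 y2 = Kp.e1 → dR x0 x1 x2 y0 y1 y2 = Kp.e0 →
    ∀ z0 z1 z2 : Kp, nR z0 z1 z2 = Kp.e1 → dR x0 x1 x2 z0 z1 z2 = Kp.e0 → dR y0 y1 y2 z0 z1 z2 = Kp.e0 →
    ∀ r ∈ reps, inO (mv ⟨rv x0 x1 x2, rv y0 y1 y2, rv z0 z1 z2⟩ r) = true := by decide +kernel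

/-- a unitary multiple of a matrix over the prime field: the scalar is not zero -/
theorem real_unitary_ne : ∀ k0 k1 x0 x1 x2 : Kp,
    hS (V3.smul ⟨k0, k1⟩ (rv x0 x1 x2)) (V3.smul ⟨k0, k1⟩ (rv x0 x1 x2)) = Kq.one → (⟨k0, k1⟩ : Kq) ≠ Kq.zero := by
  decide +kernel

/-- centre of a transvection moving the set -/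
def u0 : V3 := ⟨⟨Kp.e0, Kp.e0⟩, ⟨Kp.e0, Kp.e1⟩, ⟨Kp.e1, Kp.e1⟩⟩
def o0 : V3 := ⟨⟨Kp.e0, Kp.e0⟩, ⟨Kp.e1, Kp.e0⟩, ⟨Kp.e1, Kp.e0⟩⟩
theorem u0_isotropic : hS u0 u0 = Kq.zero := by decide +kernel
theorem o0_mem : o0 ∈ reps := by decide +kernel
theorem tv_moves : inO (V3.add o0 (V3.smul (Kq.mul Kq.iota (hS o0 u0)) u0)) = false := by decide +kernel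

/-- selection by an element of the prime field -/
def pick {α : Type} (k : Kp) (a b c : α) : α :=
  match k with
  | Kp.e0 => a
  | Kp.e1 => b
  | Kp.e2 => c

def idRM : RM := ⟨Kp.e1, Kp.e0, Kp.e0, Kp.e0, Kp.e1, Kp.e0, Kp.e0, Kp.e0, Kp.e1⟩

/-- the table: for a symmetric matrix, a matrix `B` over the prime field, its inverse, and a flag -/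
noncomputable def tblEntry (g00 g01 g02 g11 g12 g22 : Kp) : RM × RM × Bool :=
  pick g22 (pick g12 (pick g11 (pick g02 (pick g01 (pick g00 ((⟨Kp.e1, Kp.e0, Kp.e0, Kp.e0, Kp.e1, Kp.e0, Kp.e0, Kp.e0, Kp.e1⟩, ⟨Kp.e1, Kp.e0, Kp.e0, Kp.e0, Kp.e1, Kp.e0, Kp.e0, Kp.e0, Kp.e1⟩, false)) ((⟨Kp.e1, Kp.e0, Kp.e0, Kp.e0, Kp.e1, Kp.e0, Kp.e0, Kp.e0, Kp.e1⟩, ⟨Kp.e1, Kp.e0, Kp.e0, Kp.e0, Kp.e1, Kp.e0, Kp.e0, Kp.e0, Kp.e1⟩, false)) ((⟨Kp.e1, Kp.e0, Kp.e0, Kp.e0, Kp.e1, Kp.e0, Kp.e0, Kp.e0, Kp.e1⟩, ⟨Kp.e1, Kp.e0, Kp.e0, Kp.e0, Kp.e1, Kp.e0, Kp.e0, Kp.e0, Kp.e1⟩, false))) (pick g00 ((⟨Kp.e1, Kp.e0, Kp.e0, Kp.e0, Kp.e1, Kp.e0, Kp.e0, Kp.e0, Kp.e1⟩, ⟨Kp.e1, Kp.e0, Kp.e0, Kp.e0, Kp.e1, Kp.e0, Kp.e0, Kp.e0, Kp.e1⟩, false)) ((⟨Kp.e1, Kp.e0, Kp.e0, Kp.e0, Kp.e1, Kp.e0, Kp.e0, Kp.e0, Kp.e1⟩, ⟨Kp.e1, Kp.e0, Kp.e0, Kp.e0, Kp.e1, Kp.e0, Kp.e0, Kp.e0, Kp.e1⟩, false)) ((⟨Kp.e1, Kp.e0, Kp.e0, Kp.e0, Kp.e1, Kp.e0, Kp.e0, Kp.e0, Kp.e1⟩, ⟨Kp.e1, Kp.e0, Kp.e0, Kp.e0, Kp.e1, Kp.e0, Kp.e0, Kp.e0, Kp.e1⟩, false))) (pick g00 ((⟨Kp.e1, Kp.e0, Kp.e0, Kp.e0, Kp.e1, Kp.e0, Kp.e0, Kp.e0, Kp.e1⟩, ⟨Kp.e1, Kp.e0, Kp.e0, Kp.e0, Kp.e1, Kp.e0, Kp.e0, Kp.e0, Kp.e1⟩, false)) ((⟨Kp.e1, Kp.e0, Kp.e0, Kp.e0, Kp.e1, Kp.e0, Kp.e0, Kp.e0, Kp.e1⟩, ⟨Kp.e1, Kp.e0, Kp.e0, Kp.e0, Kp.e1, Kp.e0, Kp.e0, Kp.e0, Kp.e1⟩, false)) ((⟨Kp.e1, Kp.e0, Kp.e0, Kp.e0, Kp.e1, Kp.e0, Kp.e0, Kp.e0, Kp.e1⟩, ⟨Kp.e1, Kp.e0, Kp.e0, Kp.e0, Kp.e1, Kp.e0, Kp.e0, Kp.e0, Kp.e1⟩, false)))) (pick g01 (pick g00 ((⟨Kp.e1, Kp.e0, Kp.e0, Kp.e0, Kp.e1, Kp.e0, Kp.e0, Kp.e0, Kp.e1⟩, ⟨Kp.e1, Kp.e0, Kp.e0, Kp.e0, Kp.e1, Kp.e0, Kp.e0, Kp.e0, Kp.e1⟩, false)) ((⟨Kp.e1, Kp.e0, Kp.e0, Kp.e0, Kp.e1, Kp.e0, Kp.e0, Kp.e0, Kp.e1⟩, ⟨Kp.e1, Kp.e0, Kp.e0, Kp.e0, Kp.e1, Kp.e0, Kp.e0, Kp.e0, Kp.e1⟩, false)) ((⟨Kp.e1, Kp.e0, Kp.e0, Kp.e0, Kp.e1, Kp.e0, Kp.e0, Kp.e0, Kp.e1⟩, ⟨Kp.e1, Kp.e0, Kp.e0, Kp.e0, Kp.e1, Kp.e0, Kp.e0, Kp.e0, Kp.e1⟩, false))) (pick g00 ((⟨Kp.e1, Kp.e0, Kp.e0, Kp.e0, Kp.e1, Kp.e0, Kp.e0, Kp.e0, Kp.e1⟩, ⟨Kp.e1, Kp.e0, Kp.e0, Kp.e0, Kp.e1, Kp.e0, Kp.e0, Kp.e0, Kp.e1⟩, false)) ((⟨Kp.e1, Kp.e0, Kp.e0, Kp.e0, Kp.e1, Kp.e0, Kp.e0, Kp.e0, Kp.e1⟩, ⟨Kp.e1, Kp.e0, Kp.e0, Kp.e0, Kp.e1, Kp.e0, Kp.e0, Kp.e0, Kp.e1⟩, false)) ((⟨Kp.e1, Kp.e0, Kp.e0, Kp.e0, Kp.e1, Kp.e0, Kp.e0, Kp.e0, Kp.e1⟩, ⟨Kp.e1, Kp.e0, Kp.e0, Kp.e0, Kp.e1, Kp.e0, Kp.e0, Kp.e0, Kp.e1⟩, false))) (pick g00 ((⟨Kp.e1, Kp.e0, Kp.e0, Kp.e0, Kp.e1, Kp.e0, Kp.e0, Kp.e0, Kp.e1⟩, ⟨Kp.e1, Kp.e0, Kp.e0, Kp.e0, Kp.e1, Kp.e0, Kp.e0, Kp.e0, Kp.e1⟩, false)) ((⟨Kp.e1, Kp.e0, Kp.e0, Kp.e0, Kp.e1, Kp.e0, Kp.e0, Kp.e0, Kp.e1⟩, ⟨Kp.e1, Kp.e0, Kp.e0, Kp.e0, Kp.e1, Kp.e0, Kp.e0, Kp.e0, Kp.e1⟩, false)) ((⟨Kp.e1, Kp.e0, Kp.e0, Kp.e0, Kp.e1, Kp.e0, Kp.e0, Kp.e0, Kp.e1⟩, ⟨Kp.e1, Kp.e0, Kp.e0, Kp.e0, Kp.e1, Kp.e0, Kp.e0, Kp.e0, Kp.e1⟩, false)))) (pick g01 (pick g00 ((⟨Kp.e1, Kp.e0, Kp.e0, Kp.e0, Kp.e1, Kp.e0, Kp.e0, Kp.e0, Kp.e1⟩, ⟨Kp.e1, Kp.e0, Kp.e0, Kp.e0, Kp.e1, Kp.e0, Kp.e0, Kp.e0, Kp.e1⟩, false)) ((⟨Kp.e1, Kp.e0, Kp.e0, Kp.e0, Kp.e1, Kp.e0, Kp.e0, Kp.e0, Kp.e1⟩, ⟨Kp.e1, Kp.e0, Kp.e0, Kp.e0, Kp.e1, Kp.e0, Kp.e0, Kp.e0, Kp.e1⟩, false)) ((⟨Kp.e1, Kp.e0, Kp.e0, Kp.e0, Kp.e1, Kp.e0, Kp.e0, Kp.e0, Kp.e1⟩, ⟨Kp.e1, Kp.e0, Kp.e0, Kp.e0, Kp.e1, Kp.e0, Kp.e0, Kp.e0, Kp.e1⟩, false))) (pick g00 ((⟨Kp.e1, Kp.e0, Kp.e0, Kp.e0, Kp.e1, Kp.e0, Kp.e0, Kp.e0, Kp.e1⟩, ⟨Kp.e1, Kp.e0, Kp.e0, Kp.e0, Kp.e1, Kp.e0, Kp.e0, Kp.e0, Kp.e1⟩, false)) ((⟨Kp.e1, Kp.e0, Kp.e0, Kp.e0, Kp.e1, Kp.e0, Kp.e0, Kp.e0, Kp.e1⟩, ⟨Kp.e1, Kp.e0, Kp.e0, Kp.e0, Kp.e1, Kp.e0, Kp.e0, Kp.e0, Kp.e1⟩, false)) ((⟨Kp.e1, Kp.e0, Kp.e0, Kp.e0, Kp.e1, Kp.e0, Kp.e0, Kp.e0, Kp.e1⟩, ⟨Kp.e1, Kp.e0, Kp.e0, Kp.e0, Kp.e1, Kp.e0, Kp.e0, Kp.e0, Kp.e1⟩, false))) (pick g00 ((⟨Kp.e1, Kp.e0, Kp.e0, Kp.e0, Kp.e1, Kp.e0, Kp.e0, Kp.e0, Kp.e1⟩, ⟨Kp.e1, Kp.e0, Kp.e0, Kp.e0, Kp.e1, Kp.e0, Kp.e0, Kp.e0, Kp.e1⟩, false)) ((⟨Kp.e1, Kp.e0, Kp.e0, Kp.e0, Kp.e1, Kp.e0, Kp.e0, Kp.e0, Kp.e1⟩, ⟨Kp.e1, Kp.e0, Kp.e0, Kp.e0, Kp.e1, Kp.e0, Kp.e0, Kp.e0, Kp.e1⟩, false)) ((⟨Kp.e1, Kp.e0, Kp.e0, Kp.e0, Kp.e1, Kp.e0, Kp.e0, Kp.e0, Kp.e1⟩, ⟨Kp.e1, Kp.e0, Kp.e0, Kp.e0, Kp.e1, Kp.e0, Kp.e0, Kp.e0, Kp.e1⟩, false))))) (pick g02 (pick g01 (pick g00 ((⟨Kp.e1, Kp.e0, Kp.e0, Kp.e0, Kp.e1, Kp.e0, Kp.e0, Kp.e0, Kp.e1⟩, ⟨Kp.e1, Kp.e0, Kp.e0, Kp.e0, Kp.e1, Kp.e0, Kp.e0, Kp.e0, Kp.e1⟩, false)) ((⟨Kp.e1, Kp.e0, Kp.e0, Kp.e0, Kp.e1, Kp.e0, Kp.e0, Kp.e0, Kp.e1⟩, ⟨Kp.e1, Kp.e0, Kp.e0, Kp.e0, Kp.e1, Kp.e0, Kp.e0, Kp.e0, Kp.e1⟩, false)) ((⟨Kp.e1, Kp.e0, Kp.e0, Kp.e0, Kp.e1, Kp.e0, Kp.e0, Kp.e0, Kp.e1⟩, ⟨Kp.e1, Kp.e0, Kp.e0, Kp.e0, Kp.e1, Kp.e0, Kp.e0, Kp.e0, Kp.e1⟩, false))) (pick g00 ((⟨Kp.e1, Kp.e0, Kp.e0, Kp.e0, Kp.e1, Kp.e0, Kp.e0, Kp.e0, Kp.e1⟩, ⟨Kp.e1, Kp.e0, Kp.e0, Kp.e0, Kp.e1, Kp.e0, Kp.e0, Kp.e0, Kp.e1⟩, false)) ((⟨Kp.e1, Kp.e0, Kp.e0, Kp.e0, Kp.e1, Kp.e0, Kp.e0, Kp.e0, Kp.e1⟩, ⟨Kp.e1, Kp.e0, Kp.e0, Kp.e0, Kp.e1, Kp.e0, Kp.e0, Kp.e0, Kp.e1⟩, false)) ((⟨Kp.e1, Kp.e0, Kp.e0, Kp.e0, Kp.e1, Kp.e0, Kp.e0, Kp.e0, Kp.e1⟩, ⟨Kp.e1, Kp.e0, Kp.e0, Kp.e0, Kp.e1, Kp.e0, Kp.e0, Kp.e0, Kp.e1⟩, false))) (pick g00 ((⟨Kp.e1, Kp.e0, Kp.e0, Kp.e0, Kp.e1, Kp.e0, Kp.e0, Kp.e0, Kp.e1⟩, ⟨Kp.e1, Kp.e0, Kp.e0, Kp.e0, Kp.e1, Kp.e0, Kp.e0, Kp.e0, Kp.e1⟩, false)) ((⟨Kp.e1, Kp.e0, Kp.e0, Kp.e0, Kp.e1, Kp.e0, Kp.e0, Kp.e0, Kp.e1⟩, ⟨Kp.e1, Kp.e0, Kp.e0, Kp.e0, Kp.e1, Kp.e0, Kp.e0, Kp.e0, Kp.e1⟩, false)) ((⟨Kp.e1, Kp.e0, Kp.e0, Kp.e0, Kp.e1, Kp.e0, Kp.e0, Kp.e0, Kp.e1⟩, ⟨Kp.e1, Kp.e0, Kp.e0, Kp.e0, Kp.e1, Kp.e0, Kp.e0, Kp.e0, Kp.e1⟩, false)))) (pick g01 (pick g00 ((⟨Kp.e1, Kp.e0, Kp.e1, Kp.e1, Kp.e1, Kp.e2, Kp.e1, Kp.e2, Kp.e2⟩, ⟨Kp.e2, Kp.e1, Kp.e1, Kp.e0, Kp.e2, Kp.e1, Kp.e2, Kp.e2, Kp.e2⟩, true)) ((⟨Kp.e1, Kp.e0, Kp.e2, Kp.e1, Kp.e1, Kp.e0, Kp.e1, Kp.e2, Kp.e0⟩, ⟨Kp.e0, Kp.e2, Kp.e2, Kp.e0, Kp.e2, Kp.e1, Kp.e2, Kp.e2, Kp.e2⟩, true)) ((⟨Kp.e1, Kp.e0, Kp.e0, Kp.e1, Kp.e1, Kp.e1, Kp.e1, Kp.e2, Kp.e1⟩, ⟨Kp.e1, Kp.e0, Kp.e0, Kp.e0, Kp.e2, Kp.e1, Kp.e2, Kp.e2, Kp.e2⟩, true))) (pick g00 ((⟨Kp.e1, Kp.e0, Kp.e1, Kp.e1, Kp.e1, Kp.e1, Kp.e1, Kp.e2, Kp.e0⟩, ⟨Kp.e2, Kp.e1, Kp.e1, Kp.e2, Kp.e1, Kp.e0, Kp.e2, Kp.e2, Kp.e2⟩, true)) ((⟨Kp.e1, Kp.e0, Kp.e2, Kp.e1, Kp.e1, Kp.e2, Kp.e1, Kp.e2, Kp.e1⟩, ⟨Kp.e0, Kp.e2, Kp.e2, Kp.e2, Kp.e1, Kp.e0, Kp.e2, Kp.e2, Kp.e2⟩, true)) ((⟨Kp.e1, Kp.e0, Kp.e0, Kp.e1, Kp.e1, Kp.e0, Kp.e1, Kp.e2, Kp.e2⟩, ⟨Kp.e1, Kp.e0, Kp.e0, Kp.e2, Kp.e1, Kp.e0, Kp.e2, Kp.e2, Kp.e2⟩, true))) (pick g00 ((⟨Kp.e1, Kp.e0, Kp.e1, Kp.e1, Kp.e1, Kp.e0, Kp.e1, Kp.e2, Kp.e1⟩, ⟨Kp.e2, Kp.e1, Kp.e1, Kp.e1, Kp.e0, Kp.e2, Kp.e2, Kp.e2, Kp.e2⟩, true)) ((⟨Kp.e1, Kp.e0, Kp.e2, Kp.e1, Kp.e1, Kp.e1, Kp.e1, Kp.e2, Kp.e2⟩, ⟨Kp.e0, Kp.e2, Kp.e2, Kp.e1, Kp.e0, Kp.e2, Kp.e2, Kp.e2, Kp.e2⟩, true)) ((⟨Kp.e1, Kp.e0, Kp.e0, Kp.e1, Kp.e1, Kp.e2, Kp.e1, Kp.e2, Kp.e0⟩, ⟨Kp.e1, Kp.e0, Kp.e0, Kp.e1, Kp.e0, Kp.e2, Kp.e2, Kp.e2, Kp.e2⟩, true)))) (pick g01 (pick g00 ((⟨Kp.e1, Kp.e0, Kp.e2, Kp.e1, Kp.e1, Kp.e1, Kp.e1, Kp.e2, Kp.e1⟩, ⟨Kp.e2, Kp.e1, Kp.e1, Kp.e0, Kp.e2, Kp.e1, Kp.e1, Kp.e1, Kp.e1⟩, true)) ((⟨Kp.e1, Kp.e0, Kp.e1, Kp.e1, Kp.e1, Kp.e0, Kp.e1, Kp.e2, Kp.e0⟩, ⟨Kp.e0, Kp.e2, Kp.e2, Kp.e0, Kp.e2, Kp.e1, Kp.e1, Kp.e1, Kp.e1⟩, true)) ((⟨Kp.e1, Kp.e0, Kp.e0, Kp.e1, Kp.e1, Kp.e2, Kp.e1, Kp.e2, Kp.e2⟩, ⟨Kp.e1, Kp.e0, Kp.e0, Kp.e0, Kp.e2, Kp.e1, Kp.e1, Kp.e1, Kp.e1⟩, true))) (pick g00 ((⟨Kp.e1, Kp.e0, Kp.e2, Kp.e1, Kp.e1, Kp.e2, Kp.e1, Kp.e2, Kp.e0⟩, ⟨Kp.e2, Kp.e1, Kp.e1, Kp.e2, Kp.e1, Kp.e0, Kp.e1, Kp.e1, Kp.e1⟩, true)) ((⟨Kp.e1, Kp.e0, Kp.e1, Kp.e1, Kp.e1, Kp.e1, Kp.e1, Kp.e2, Kp.e2⟩, ⟨Kp.e0, Kp.e2, Kp.e2, Kp.e2, Kp.e1, Kp.e0, Kp.e1, Kp.e1, Kp.e1⟩, true)) ((⟨Kp.e1, Kp.e0, Kp.e0, Kp.e1, Kp.e1, Kp.e0, Kp.e1, Kp.e2, Kp.e1⟩, ⟨Kp.e1, Kp.e0, Kp.e0, Kp.e2, Kp.e1, Kp.e0, Kp.e1, Kp.e1, Kp.e1⟩, true))) (pick g00 ((⟨Kp.e1, Kp.e0, Kp.e2, Kp.e1, Kp.e1, Kp.e0, Kp.e1, Kp.e2, Kp.e2⟩, ⟨Kp.e2, Kp.e1, Kp.e1, Kp.e1, Kp.e0, Kp.e2, Kp.e1, Kp.e1, Kp.e1⟩, true)) ((⟨Kp.e1, Kp.e0, Kp.e1, Kp.e1, Kp.e1, Kp.e2, Kp.e1, Kp.e2, Kp.e1⟩, ⟨Kp.e0, Kp.e2, Kp.e2, Kp.e1, Kp.e0, Kp.e2, Kp.e1, Kp.e1, Kp.e1⟩, true)) ((⟨Kp.e1, Kp.e0, Kp.e0, Kp.e1, Kp.e1, Kp.e1, Kp.e1, Kp.e2, Kp.e0⟩, ⟨Kp.e1, Kp.e0, Kp.e0, Kp.e1, Kp.e0, Kp.e2, Kp.e1, Kp.e1, Kp.e1⟩, true))))) (pick g02 (pick g01 (pick g00 ((⟨Kp.e1, Kp.e0, Kp.e0, Kp.e0, Kp.e1, Kp.e0, Kp.e0, Kp.e0, Kp.e1⟩, ⟨Kp.e1, Kp.e0, Kp.e0, Kp.e0, Kp.e1, Kp.e0, Kp.e0, Kp.e0, Kp.e1⟩, false)) ((⟨Kp.e1, Kp.e0, Kp.e0, Kp.e0, Kp.e1, Kp.e0, Kp.e0, Kp.e0, Kp.e1⟩, ⟨Kp.e1, Kp.e0, Kp.e0, Kp.e0, Kp.e1, Kp.e0, Kp.e0, Kp.e0, Kp.e1⟩, false)) ((⟨Kp.e1, Kp.e0, Kp.e0, Kp.e0, Kp.e1, Kp.e0, Kp.e0, Kp.e0, Kp.e1⟩, ⟨Kp.e1, Kp.e0, Kp.e0, Kp.e0, Kp.e1, Kp.e0, Kp.e0, Kp.e0, Kp.e1⟩, false))) (pick g00 ((⟨Kp.e1, Kp.e0, Kp.e0, Kp.e0, Kp.e1, Kp.e0, Kp.e0, Kp.e0, Kp.e1⟩, ⟨Kp.e1, Kp.e0, Kp.e0, Kp.e0, Kp.e1, Kp.e0, Kp.e0, Kp.e0, Kp.e1⟩, false)) ((⟨Kp.e1, Kp.e0, Kp.e0, Kp.e0, Kp.e1, Kp.e0, Kp.e0, Kp.e0, Kp.e1⟩, ⟨Kp.e1, Kp.e0, Kp.e0, Kp.e0, Kp.e1, Kp.e0, Kp.e0, Kp.e0, Kp.e1⟩, false)) ((⟨Kp.e1, Kp.e0, Kp.e0, Kp.e0, Kp.e1, Kp.e0, Kp.e0, Kp.e0, Kp.e1⟩, ⟨Kp.e1, Kp.e0, Kp.e0, Kp.e0, Kp.e1, Kp.e0, Kp.e0, Kp.e0, Kp.e1⟩, false))) (pick g00 ((⟨Kp.e1, Kp.e0, Kp.e0, Kp.e0, Kp.e1, Kp.e0, Kp.e0, Kp.e0, Kp.e1⟩, ⟨Kp.e1, Kp.e0, Kp.e0, Kp.e0, Kp.e1, Kp.e0, Kp.e0, Kp.e0, Kp.e1⟩, false)) ((⟨Kp.e1, Kp.e0, Kp.e0, Kp.e0, Kp.e1, Kp.e0, Kp.e0, Kp.e0, Kp.e1⟩, ⟨Kp.e1, Kp.e0, Kp.e0, Kp.e0, Kp.e1, Kp.e0, Kp.e0, Kp.e0, Kp.e1⟩, false)) ((⟨Kp.e1, Kp.e0, Kp.e0, Kp.e0, Kp.e1, Kp.e0, Kp.e0, Kp.e0, Kp.e1⟩, ⟨Kp.e1, Kp.e0, Kp.e0, Kp.e0, Kp.e1, Kp.e0, Kp.e0, Kp.e0, Kp.e1⟩, false)))) (pick g01 (pick g00 ((⟨Kp.e1, Kp.e0, Kp.e2, Kp.e1, Kp.e1, Kp.e1, Kp.e1, Kp.e2, Kp.e1⟩, ⟨Kp.e2, Kp.e1, Kp.e1, Kp.e0, Kp.e2, Kp.e1, Kp.e1, Kp.e1, Kp.e1⟩, false)) ((⟨Kp.e1, Kp.e0, Kp.e0, Kp.e1, Kp.e1, Kp.e2, Kp.e1, Kp.e2, Kp.e2⟩, ⟨Kp.e1, Kp.e0, Kp.e0, Kp.e0, Kp.e2, Kp.e1, Kp.e1, Kp.e1, Kp.e1⟩, false)) ((⟨Kp.e1, Kp.e0, Kp.e1, Kp.e1, Kp.e1, Kp.e0, Kp.e1, Kp.e2, Kp.e0⟩, ⟨Kp.e0, Kp.e2, Kp.e2, Kp.e0, Kp.e2, Kp.e1, Kp.e1, Kp.e1, Kp.e1⟩, false))) (pick g00 ((⟨Kp.e1, Kp.e0, Kp.e2, Kp.e1, Kp.e1, Kp.e0, Kp.e1, Kp.e2, Kp.e2⟩, ⟨Kp.e2, Kp.e1, Kp.e1, Kp.e1, Kp.e0, Kp.e2, Kp.e1, Kp.e1, Kp.e1⟩, false)) ((⟨Kp.e1, Kp.e0, Kp.e0, Kp.e1, Kp.e1, Kp.e1, Kp.e1, Kp.e2, Kp.e0⟩, ⟨Kp.e1, Kp.e0, Kp.e0, Kp.e1, Kp.e0, Kp.e2, Kp.e1, Kp.e1, Kp.e1⟩, false)) ((⟨Kp.e1, Kp.e0, Kp.e1, Kp.e1, Kp.e1, Kp.e2, Kp.e1, Kp.e2, Kp.e1⟩, ⟨Kp.e0, Kp.e2, Kp.e2, Kp.e1, Kp.e0, Kp.e2, Kp.e1, Kp.e1, Kp.e1⟩, false))) (pick g00 ((⟨Kp.e1, Kp.e0, Kp.e2, Kp.e1, Kp.e1, Kp.e2, Kp.e1, Kp.e2, Kp.e0⟩, ⟨Kp.e2, Kp.e1, Kp.e1, Kp.e2, Kp.e1, Kp.e0, Kp.e1, Kp.e1, Kp.e1⟩, false)) ((⟨Kp.e1, Kp.e0, Kp.e0, Kp.e1, Kp.e1, Kp.e0, Kp.e1, Kp.e2, Kp.e1⟩, ⟨Kp.e1, Kp.e0, Kp.e0, Kp.e2, Kp.e1, Kp.e0, Kp.e1, Kp.e1, Kp.e1⟩, false)) ((⟨Kp.e1, Kp.e0, Kp.e1, Kp.e1, Kp.e1, Kp.e1, Kp.e1, Kp.e2, Kp.e2⟩, ⟨Kp.e0, Kp.e2, Kp.e2, Kp.e2, Kp.e1, Kp.e0, Kp.e1, Kp.e1, Kp.e1⟩, false)))) (pick g01 (pick g00 ((⟨Kp.e1, Kp.e0, Kp.e1, Kp.e1, Kp.e1, Kp.e2, Kp.e1, Kp.e2, Kp.e2⟩, ⟨Kp.e2, Kp.e1, Kp.e1, Kp.e0, Kp.e2, Kp.e1, Kp.e2, Kp.e2, Kp.e2⟩, false)) ((⟨Kp.e1, Kp.e0, Kp.e0, Kp.e1, Kp.e1, Kp.e1, Kp.e1, Kp.e2, Kp.e1⟩, ⟨Kp.e1, Kp.e0, Kp.e0, Kp.e0, Kp.e2, Kp.e1, Kp.e2, Kp.e2, Kp.e2⟩, false)) ((⟨Kp.e1, Kp.e0, Kp.e2, Kp.e1, Kp.e1, Kp.e0, Kp.e1, Kp.e2, Kp.e0⟩, ⟨Kp.e0, Kp.e2, Kp.e2, Kp.e0, Kp.e2, Kp.e1, Kp.e2, Kp.e2, Kp.e2⟩, false))) (pick g00 ((⟨Kp.e1, Kp.e0, Kp.e1, Kp.e1, Kp.e1, Kp.e0, Kp.e1, Kp.e2, Kp.e1⟩, ⟨Kp.e2, Kp.e1, Kp.e1, Kp.e1, Kp.e0, Kp.e2, Kp.e2, Kp.e2, Kp.e2⟩, false)) ((⟨Kp.e1, Kp.e0, Kp.e0, Kp.e1, Kp.e1, Kp.e2, Kp.e1, Kp.e2, Kp.e0⟩, ⟨Kp.e1, Kp.e0, Kp.e0, Kp.e1, Kp.e0, Kp.e2, Kp.e2, Kp.e2, Kp.e2⟩, false)) ((⟨Kp.e1, Kp.e0, Kp.e2, Kp.e1, Kp.e1, Kp.e1, Kp.e1, Kp.e2, Kp.e2⟩, ⟨Kp.e0, Kp.e2, Kp.e2, Kp.e1, Kp.e0, Kp.e2, Kp.e2, Kp.e2, Kp.e2⟩, false))) (pick g00 ((⟨Kp.e1, Kp.e0, Kp.e1, Kp.e1, Kp.e1, Kp.e1, Kp.e1, Kp.e2, Kp.e0⟩, ⟨Kp.e2, Kp.e1, Kp.e1, Kp.e2, Kp.e1, Kp.e0, Kp.e2, Kp.e2, Kp.e2⟩, false)) ((⟨Kp.e1, Kp.e0, Kp.e0, Kp.e1, Kp.e1, Kp.e0, Kp.e1, Kp.e2, Kp.e2⟩, ⟨Kp.e1, Kp.e0, Kp.e0, Kp.e2, Kp.e1, Kp.e0, Kp.e2, Kp.e2, Kp.e2⟩, false)) ((⟨Kp.e1, Kp.e0, Kp.e2, Kp.e1, Kp.e1, Kp.e2, Kp.e1, Kp.e2, Kp.e1⟩, ⟨Kp.e0, Kp.e2, Kp.e2, Kp.e2, Kp.e1, Kp.e0, Kp.e2, Kp.e2, Kp.e2⟩, false)))))) (pick g11 (pick g02 (pick g01 (pick g00 ((⟨Kp.e1, Kp.e0, Kp.e0, Kp.e0, Kp.e1, Kp.e0, Kp.e0, Kp.e0, Kp.e1⟩, ⟨Kp.e1, Kp.e0, Kp.e0, Kp.e0, Kp.e1, Kp.e0, Kp.e0, Kp.e0, Kp.e1⟩, false)) ((⟨Kp.e0, Kp.e1, Kp.e1, Kp.e1, Kp.e1, Kp.e2, Kp.e1, Kp.e2, Kp.e1⟩, ⟨Kp.e0, Kp.e2, Kp.e2, Kp.e2, Kp.e1, Kp.e2, Kp.e2, Kp.e2, Kp.e1⟩, true)) ((⟨Kp.e0, Kp.e1, Kp.e2, Kp.e1, Kp.e1, Kp.e1, Kp.e1, Kp.e2, Kp.e2⟩, ⟨Kp.e0, Kp.e2, Kp.e2, Kp.e2, Kp.e1, Kp.e2, Kp.e1, Kp.e1, Kp.e2⟩, false))) (pick g00 ((⟨Kp.e1, Kp.e0, Kp.e0, Kp.e0, Kp.e1, Kp.e0, Kp.e0, Kp.e0, Kp.e1⟩, ⟨Kp.e1, Kp.e0, Kp.e0, Kp.e0, Kp.e1, Kp.e0, Kp.e0, Kp.e0, Kp.e1⟩, false)) ((⟨Kp.e0, Kp.e1, Kp.e1, Kp.e1, Kp.e1, Kp.e1, Kp.e1, Kp.e2, Kp.e0⟩, ⟨Kp.e2, Kp.e1, Kp.e0, Kp.e2, Kp.e1, Kp.e2, Kp.e2, Kp.e2, Kp.e1⟩, true)) ((⟨Kp.e0, Kp.e1, Kp.e2, Kp.e1, Kp.e1, Kp.e0, Kp.e1, Kp.e2, Kp.e1⟩, ⟨Kp.e1, Kp.e0, Kp.e1, Kp.e2, Kp.e1, Kp.e2, Kp.e1, Kp.e1, Kp.e2⟩, false))) (pick g00 ((⟨Kp.e1, Kp.e0, Kp.e0, Kp.e0, Kp.e1, Kp.e0, Kp.e0, Kp.e0, Kp.e1⟩, ⟨Kp.e1, Kp.e0, Kp.e0, Kp.e0, Kp.e1, Kp.e0, Kp.e0, Kp.e0, Kp.e1⟩, false)) ((⟨Kp.e0, Kp.e1, Kp.e1, Kp.e1, Kp.e1, Kp.e0, Kp.e1, Kp.e2, Kp.e2⟩, ⟨Kp.e1, Kp.e0, Kp.e1, Kp.e2, Kp.e1, Kp.e2, Kp.e2, Kp.e2, Kp.e1⟩, true)) ((⟨Kp.e0, Kp.e1, Kp.e2, Kp.e1, Kp.e1, Kp.e2, Kp.e1, Kp.e2, Kp.e0⟩, ⟨Kp.e2, Kp.e1, Kp.e0, Kp.e2, Kp.e1, Kp.e2, Kp.e1, Kp.e1, Kp.e2⟩, false)))) (pick g01 (pick g00 ((⟨Kp.e1, Kp.e0, Kp.e0, Kp.e0, Kp.e1, Kp.e0, Kp.e0, Kp.e0, Kp.e1⟩, ⟨Kp.e1, Kp.e0, Kp.e0, Kp.e0, Kp.e1, Kp.e0, Kp.e0, Kp.e0, Kp.e1⟩, false)) ((⟨Kp.e0, Kp.e1, Kp.e1, Kp.e1, Kp.e0, Kp.e2, Kp.e1, Kp.e1, Kp.e1⟩, ⟨Kp.e2, Kp.e0, Kp.e1, Kp.e2, Kp.e1, Kp.e2, Kp.e2, Kp.e2, Kp.e1⟩, true)) ((⟨Kp.e0, Kp.e1, Kp.e2, Kp.e1, Kp.e0, Kp.e1, Kp.e1, Kp.e1, Kp.e2⟩, ⟨Kp.e2, Kp.e0, Kp.e1, Kp.e2, Kp.e1, Kp.e2, Kp.e1, Kp.e1, Kp.e2⟩, false))) (pick g00 ((⟨Kp.e0, Kp.e1, Kp.e1, Kp.e1, Kp.e0, Kp.e1, Kp.e1, Kp.e1, Kp.e0⟩, ⟨Kp.e1, Kp.e2, Kp.e2, Kp.e2, Kp.e1, Kp.e2, Kp.e2, Kp.e2, Kp.e1⟩, true)) ((⟨Kp.e0, Kp.e1, Kp.e2, Kp.e1, Kp.e0, Kp.e0, Kp.e1, Kp.e1, Kp.e1⟩, ⟨Kp.e0, Kp.e1, Kp.e0, Kp.e2, Kp.e1, Kp.e2, Kp.e1, Kp.e1, Kp.e2⟩, false)) ((⟨Kp.e1, Kp.e0, Kp.e0, Kp.e0, Kp.e1, Kp.e0, Kp.e0, Kp.e0, Kp.e1⟩, ⟨Kp.e1, Kp.e0, Kp.e0, Kp.e0, Kp.e1, Kp.e0, Kp.e0, Kp.e0, Kp.e1⟩, false))) (pick g00 ((⟨Kp.e0, Kp.e1, Kp.e2, Kp.e1, Kp.e0, Kp.e2, Kp.e1, Kp.e1, Kp.e0⟩, ⟨Kp.e1, Kp.e2, Kp.e2, Kp.e2, Kp.e1, Kp.e2, Kp.e1, Kp.e1, Kp.e2⟩, false)) ((⟨Kp.e1, Kp.e0, Kp.e0, Kp.e0, Kp.e1, Kp.e0, Kp.e0, Kp.e0, Kp.e1⟩, ⟨Kp.e1, Kp.e0, Kp.e0, Kp.e0, Kp.e1, Kp.e0, Kp.e0, Kp.e0, Kp.e1⟩, false)) ((⟨Kp.e0, Kp.e1, Kp.e1, Kp.e1, Kp.e0, Kp.e0, Kp.e1, Kp.e1, Kp.e2⟩, ⟨Kp.e0, Kp.e1, Kp.e0, Kp.e2, Kp.e1, Kp.e2, Kp.e2, Kp.e2, Kp.e1⟩, true)))) (pick g01 (pick g00 ((⟨Kp.e1, Kp.e0, Kp.e0, Kp.e0, Kp.e1, Kp.e0, Kp.e0, Kp.e0, Kp.e1⟩, ⟨Kp.e1, Kp.e0, Kp.e0, Kp.e0, Kp.e1, Kp.e0, Kp.e0, Kp.e0, Kp.e1⟩, false)) ((⟨Kp.e0, Kp.e1, Kp.e1, Kp.e1, Kp.e0, Kp.e1, Kp.e1, Kp.e2, Kp.e2⟩, ⟨Kp.e1, Kp.e0, Kp.e1, Kp.e2, Kp.e2, Kp.e1, Kp.e2, Kp.e1, Kp.e2⟩, true)) ((⟨Kp.e0, Kp.e1, Kp.e2, Kp.e1, Kp.e0, Kp.e2, Kp.e1, Kp.e2, Kp.e1⟩, ⟨Kp.e1, Kp.e0, Kp.e1, Kp.e2, Kp.e2, Kp.e1, Kp.e1, Kp.e2, Kp.e1⟩, false))) (pick g00 ((⟨Kp.e0, Kp.e1, Kp.e2, Kp.e1, Kp.e0, Kp.e1, Kp.e1, Kp.e2, Kp.e0⟩, ⟨Kp.e2, Kp.e2, Kp.e2, Kp.e2, Kp.e2, Kp.e1, Kp.e1, Kp.e2, Kp.e1⟩, false)) ((⟨Kp.e1, Kp.e0, Kp.e0, Kp.e0, Kp.e1, Kp.e0, Kp.e0, Kp.e0, Kp.e1⟩, ⟨Kp.e1, Kp.e0, Kp.e0, Kp.e0, Kp.e1, Kp.e0, Kp.e0, Kp.e0, Kp.e1⟩, false)) ((⟨Kp.e0, Kp.e1, Kp.e1, Kp.e1, Kp.e0, Kp.e0, Kp.e1, Kp.e2, Kp.e1⟩, ⟨Kp.e0, Kp.e1, Kp.e0, Kp.e2, Kp.e2, Kp.e1, Kp.e2, Kp.e1, Kp.e2⟩, true))) (pick g00 ((⟨Kp.e0, Kp.e1, Kp.e1, Kp.e1, Kp.e0, Kp.e2, Kp.e1, Kp.e2, Kp.e0⟩, ⟨Kp.e2, Kp.e2, Kp.e2, Kp.e2, Kp.e2, Kp.e1, Kp.e2, Kp.e1, Kp.e2⟩, true)) ((⟨Kp.e0, Kp.e1, Kp.e2, Kp.e1, Kp.e0, Kp.e0, Kp.e1, Kp.e2, Kp.e2⟩, ⟨Kp.e0, Kp.e1, Kp.e0, Kp.e2, Kp.e2, Kp.e1, Kp.e1, Kp.e2, Kp.e1⟩, false)) ((⟨Kp.e1, Kp.e0, Kp.e0, Kp.e0, Kp.e1, Kp.e0, Kp.e0, Kp.e0, Kp.e1⟩, ⟨Kp.e1, Kp.e0, Kp.e0, Kp.e0, Kp.e1, Kp.e0, Kp.e0, Kp.e0, Kp.e1⟩, false))))) (pick g02 (pick g01 (pick g00 ((⟨Kp.e1, Kp.e0, Kp.e0, Kp.e0, Kp.e1, Kp.e0, Kp.e0, Kp.e0, Kp.e1⟩, ⟨Kp.e1, Kp.e0, Kp.e0, Kp.e0, Kp.e1, Kp.e0, Kp.e0, Kp.e0, Kp.e1⟩, false)) ((⟨Kp.e0, Kp.e1, Kp.e2, Kp.e1, Kp.e1, Kp.e0, Kp.e1, Kp.e2, Kp.e0⟩, ⟨Kp.e0, Kp.e2, Kp.e2, Kp.e0, Kp.e2, Kp.e1, Kp.e2, Kp.e2, Kp.e1⟩, true)) ((⟨Kp.e0, Kp.e1, Kp.e0, Kp.e1, Kp.e1, Kp.e2, Kp.e1, Kp.e2, Kp.e1⟩, ⟨Kp.e0, Kp.e2, Kp.e2, Kp.e1, Kp.e0, Kp.e0, Kp.e1, Kp.e1, Kp.e2⟩, false))) (pick g00 ((⟨Kp.e1, Kp.e0, Kp.e0, Kp.e0, Kp.e1, Kp.e0, Kp.e0, Kp.e0, Kp.e1⟩, ⟨Kp.e1, Kp.e0, Kp.e0, Kp.e0, Kp.e1, Kp.e0, Kp.e0, Kp.e0, Kp.e1⟩, false)) ((⟨Kp.e0, Kp.e1, Kp.e2, Kp.e1, Kp.e1, Kp.e2, Kp.e1, Kp.e2, Kp.e2⟩, ⟨Kp.e2, Kp.e1, Kp.e0, Kp.e0, Kp.e2, Kp.e1, Kp.e2, Kp.e2, Kp.e1⟩, true)) ((⟨Kp.e0, Kp.e1, Kp.e0, Kp.e1, Kp.e1, Kp.e1, Kp.e1, Kp.e2, Kp.e0⟩, ⟨Kp.e1, Kp.e0, Kp.e1, Kp.e1, Kp.e0, Kp.e0, Kp.e1, Kp.e1, Kp.e2⟩, false))) (pick g00 ((⟨Kp.e1, Kp.e0, Kp.e0, Kp.e0, Kp.e1, Kp.e0, Kp.e0, Kp.e0, Kp.e1⟩, ⟨Kp.e1, Kp.e0, Kp.e0, Kp.e0, Kp.e1, Kp.e0, Kp.e0, Kp.e0, Kp.e1⟩, false)) ((⟨Kp.e0, Kp.e1, Kp.e2, Kp.e1, Kp.e1, Kp.e1, Kp.e1, Kp.e2, Kp.e1⟩, ⟨Kp.e1, Kp.e0, Kp.e1, Kp.e0, Kp.e2, Kp.e1, Kp.e2, Kp.e2, Kp.e1⟩, true)) ((⟨Kp.e0, Kp.e1, Kp.e0, Kp.e1, Kp.e1, Kp.e0, Kp.e1, Kp.e2, Kp.e2⟩, ⟨Kp.e2, Kp.e1, Kp.e0, Kp.e1, Kp.e0, Kp.e0, Kp.e1, Kp.e1, Kp.e2⟩, false)))) (pick g01 (pick g00 ((⟨Kp.e0, Kp.e1, Kp.e2, Kp.e1, Kp.e0, Kp.e1, Kp.e1, Kp.e1, Kp.e1⟩, ⟨Kp.e1, Kp.e2, Kp.e2, Kp.e0, Kp.e2, Kp.e1, Kp.e2, Kp.e2, Kp.e1⟩, true)) ((⟨Kp.e0, Kp.e1, Kp.e0, Kp.e1, Kp.e0, Kp.e0, Kp.e1, Kp.e1, Kp.e2⟩, ⟨Kp.e0, Kp.e1, Kp.e0, Kp.e1, Kp.e0, Kp.e0, Kp.e1, Kp.e1, Kp.e2⟩, false)) ((⟨Kp.e1, Kp.e0, Kp.e0, Kp.e0, Kp.e1, Kp.e0, Kp.e0, Kp.e0, Kp.e1⟩, ⟨Kp.e1, Kp.e0, Kp.e0, Kp.e0, Kp.e1, Kp.e0, Kp.e0, Kp.e0, Kp.e1⟩, false))) (pick g00 ((⟨Kp.e0, Kp.e1, Kp.e0, Kp.e1, Kp.e0, Kp.e2, Kp.e1, Kp.e1, Kp.e1⟩, ⟨Kp.e1, Kp.e2, Kp.e2, Kp.e1, Kp.e0, Kp.e0, Kp.e1, Kp.e1, Kp.e2⟩, false)) ((⟨Kp.e1, Kp.e0, Kp.e0, Kp.e0, Kp.e1, Kp.e0, Kp.e0, Kp.e0, Kp.e1⟩, ⟨Kp.e1, Kp.e0, Kp.e0, Kp.e0, Kp.e1, Kp.e0, Kp.e0, Kp.e0, Kp.e1⟩, false)) ((⟨Kp.e0, Kp.e1, Kp.e2, Kp.e1, Kp.e0, Kp.e0, Kp.e1, Kp.e1, Kp.e0⟩, ⟨Kp.e0, Kp.e1, Kp.e0, Kp.e0, Kp.e2, Kp.e1, Kp.e2, Kp.e2, Kp.e1⟩, true))) (pick g00 ((⟨Kp.e1, Kp.e0, Kp.e0, Kp.e0, Kp.e1, Kp.e0, Kp.e0, Kp.e0, Kp.e1⟩, ⟨Kp.e1, Kp.e0, Kp.e0, Kp.e0, Kp.e1, Kp.e0, Kp.e0, Kp.e0, Kp.e1⟩, false)) ((⟨Kp.e0, Kp.e1, Kp.e2, Kp.e1, Kp.e0, Kp.e2, Kp.e1, Kp.e1, Kp.e2⟩, ⟨Kp.e2, Kp.e0, Kp.e1, Kp.e0, Kp.e2, Kp.e1, Kp.e2, Kp.e2, Kp.e1⟩, true)) ((⟨Kp.e0, Kp.e1, Kp.e0, Kp.e1, Kp.e0, Kp.e1, Kp.e1, Kp.e1, Kp.e0⟩, ⟨Kp.e2, Kp.e0, Kp.e1, Kp.e1, Kp.e0, Kp.e0, Kp.e1, Kp.e1, Kp.e2⟩, false)))) (pick g01 (pick g00 ((⟨Kp.e0, Kp.e1, Kp.e2, Kp.e1, Kp.e0, Kp.e2, Kp.e1, Kp.e2, Kp.e2⟩, ⟨Kp.e2, Kp.e2, Kp.e2, Kp.e0, Kp.e1, Kp.e2, Kp.e2, Kp.e1, Kp.e2⟩, true)) ((⟨Kp.e0, Kp.e1, Kp.e0, Kp.e1, Kp.e0, Kp.e0, Kp.e1, Kp.e2, Kp.e1⟩, ⟨Kp.e0, Kp.e1, Kp.e0, Kp.e1, Kp.e0, Kp.e0, Kp.e1, Kp.e2, Kp.e1⟩, false)) ((⟨Kp.e1, Kp.e0, Kp.e0, Kp.e0, Kp.e1, Kp.e0, Kp.e0, Kp.e0, Kp.e1⟩, ⟨Kp.e1, Kp.e0, Kp.e0, Kp.e0, Kp.e1, Kp.e0, Kp.e0, Kp.e0, Kp.e1⟩, false))) (pick g00 ((⟨Kp.e1, Kp.e0, Kp.e0, Kp.e0, Kp.e1, Kp.e0, Kp.e0, Kp.e0, Kp.e1⟩, ⟨Kp.e1, Kp.e0, Kp.e0, Kp.e0, Kp.e1, Kp.e0, Kp.e0, Kp.e0, Kp.e1⟩, false)) ((⟨Kp.e0, Kp.e1, Kp.e2, Kp.e1, Kp.e0, Kp.e1, Kp.e1, Kp.e2, Kp.e1⟩, ⟨Kp.e1, Kp.e0, Kp.e1, Kp.e0, Kp.e1, Kp.e2, Kp.e2, Kp.e1, Kp.e2⟩, true)) ((⟨Kp.e0, Kp.e1, Kp.e0, Kp.e1, Kp.e0, Kp.e2, Kp.e1, Kp.e2, Kp.e0⟩, ⟨Kp.e1, Kp.e0, Kp.e1, Kp.e1, Kp.e0, Kp.e0, Kp.e1, Kp.e2, Kp.e1⟩, false))) (pick g00 ((⟨Kp.e0, Kp.e1, Kp.e0, Kp.e1, Kp.e0, Kp.e1, Kp.e1, Kp.e2, Kp.e2⟩, ⟨Kp.e2, Kp.e2, Kp.e2, Kp.e1, Kp.e0, Kp.e0, Kp.e1, Kp.e2, Kp.e1⟩, false)) ((⟨Kp.e1, Kp.e0, Kp.e0, Kp.e0, Kp.e1, Kp.e0, Kp.e0, Kp.e0, Kp.e1⟩, ⟨Kp.e1, Kp.e0, Kp.e0, Kp.e0, Kp.e1, Kp.e0, Kp.e0, Kp.e0, Kp.e1⟩, false)) ((⟨Kp.e0, Kp.e1, Kp.e2, Kp.e1, Kp.e0, Kp.e0, Kp.e1, Kp.e2, Kp.e0⟩, ⟨Kp.e0, Kp.e1, Kp.e0, Kp.e0, Kp.e1, Kp.e2, Kp.e2, Kp.e1, Kp.e2⟩, true))))) (pick g02 (pick g01 (pick g00 ((⟨Kp.e1, Kp.e0, Kp.e0, Kp.e0, Kp.e1, Kp.e0, Kp.e0, Kp.e0, Kp.e1⟩, ⟨Kp.e1, Kp.e0, Kp.e0, Kp.e0, Kp.e1, Kp.e0, Kp.e0, Kp.e0, Kp.e1⟩, false)) ((⟨Kp.e0, Kp.e1, Kp.e0, Kp.e1, Kp.e1, Kp.e1, Kp.e1, Kp.e2, Kp.e2⟩, ⟨Kp.e0, Kp.e2, Kp.e2, Kp.e1, Kp.e0, Kp.e0, Kp.e2, Kp.e2, Kp.e1⟩, true)) ((⟨Kp.e0, Kp.e1, Kp.e1, Kp.e1, Kp.e1, Kp.e0, Kp.e1, Kp.e2, Kp.e0⟩, ⟨Kp.e0, Kp.e2, Kp.e2, Kp.e0, Kp.e2, Kp.e1, Kp.e1, Kp.e1, Kp.e2⟩, false))) (pick g00 ((⟨Kp.e1, Kp.e0, Kp.e0, Kp.e0, Kp.e1, Kp.e0, Kp.e0, Kp.e0, Kp.e1⟩, ⟨Kp.e1, Kp.e0, Kp.e0, Kp.e0, Kp.e1, Kp.e0, Kp.e0, Kp.e0, Kp.e1⟩, false)) ((⟨Kp.e0, Kp.e1, Kp.e0, Kp.e1, Kp.e1, Kp.e0, Kp.e1, Kp.e2, Kp.e1⟩, ⟨Kp.e2, Kp.e1, Kp.e0, Kp.e1, Kp.e0, Kp.e0, Kp.e2, Kp.e2, Kp.e1⟩, true)) ((⟨Kp.e0, Kp.e1, Kp.e1, Kp.e1, Kp.e1, Kp.e2, Kp.e1, Kp.e2, Kp.e2⟩, ⟨Kp.e1, Kp.e0, Kp.e1, Kp.e0, Kp.e2, Kp.e1, Kp.e1, Kp.e1, Kp.e2⟩, false))) (pick g00 ((⟨Kp.e1, Kp.e0, Kp.e0, Kp.e0, Kp.e1, Kp.e0, Kp.e0, Kp.e0, Kp.e1⟩, ⟨Kp.e1, Kp.e0, Kp.e0, Kp.e0, Kp.e1, Kp.e0, Kp.e0, Kp.e0, Kp.e1⟩, false)) ((⟨Kp.e0, Kp.e1, Kp.e0, Kp.e1, Kp.e1, Kp.e2, Kp.e1, Kp.e2, Kp.e0⟩, ⟨Kp.e1, Kp.e0, Kp.e1, Kp.e1, Kp.e0, Kp.e0, Kp.e2, Kp.e2, Kp.e1⟩, true)) ((⟨Kp.e0, Kp.e1, Kp.e1, Kp.e1, Kp.e1, Kp.e1, Kp.e1, Kp.e2, Kp.e1⟩, ⟨Kp.e2, Kp.e1, Kp.e0, Kp.e0, Kp.e2, Kp.e1, Kp.e1, Kp.e1, Kp.e2⟩, false)))) (pick g01 (pick g00 ((⟨Kp.e0, Kp.e1, Kp.e1, Kp.e1, Kp.e0, Kp.e2, Kp.e1, Kp.e1, Kp.e2⟩, ⟨Kp.e1, Kp.e2, Kp.e2, Kp.e0, Kp.e2, Kp.e1, Kp.e1, Kp.e1, Kp.e2⟩, false)) ((⟨Kp.e1, Kp.e0, Kp.e0, Kp.e0, Kp.e1, Kp.e0, Kp.e0, Kp.e0, Kp.e1⟩, ⟨Kp.e1, Kp.e0, Kp.e0, Kp.e0, Kp.e1, Kp.e0, Kp.e0, Kp.e0, Kp.e1⟩, false)) ((⟨Kp.e0, Kp.e1, Kp.e0, Kp.e1, Kp.e0, Kp.e0, Kp.e1, Kp.e1, Kp.e1⟩, ⟨Kp.e0, Kp.e1, Kp.e0, Kp.e1, Kp.e0, Kp.e0, Kp.e2, Kp.e2, Kp.e1⟩, true))) (pick g00 ((⟨Kp.e1, Kp.e0, Kp.e0, Kp.e0, Kp.e1, Kp.e0, Kp.e0, Kp.e0, Kp.e1⟩, ⟨Kp.e1, Kp.e0, Kp.e0, Kp.e0, Kp.e1, Kp.e0, Kp.e0, Kp.e0, Kp.e1⟩, false)) ((⟨Kp.e0, Kp.e1, Kp.e0, Kp.e1, Kp.e0, Kp.e2, Kp.e1, Kp.e1, Kp.e0⟩, ⟨Kp.e2, Kp.e0, Kp.e1, Kp.e1, Kp.e0, Kp.e0, Kp.e2, Kp.e2, Kp.e1⟩, true)) ((⟨Kp.e0, Kp.e1, Kp.e1, Kp.e1, Kp.e0, Kp.e1, Kp.e1, Kp.e1, Kp.e1⟩, ⟨Kp.e2, Kp.e0, Kp.e1, Kp.e0, Kp.e2, Kp.e1, Kp.e1, Kp.e1, Kp.e2⟩, false))) (pick g00 ((⟨Kp.e0, Kp.e1, Kp.e0, Kp.e1, Kp.e0, Kp.e1, Kp.e1, Kp.e1, Kp.e2⟩, ⟨Kp.e1, Kp.e2, Kp.e2, Kp.e1, Kp.e0, Kp.e0, Kp.e2, Kp.e2, Kp.e1⟩, true)) ((⟨Kp.e0, Kp.e1, Kp.e1, Kp.e1, Kp.e0, Kp.e0, Kp.e1, Kp.e1, Kp.e0⟩, ⟨Kp.e0, Kp.e1, Kp.e0, Kp.e0, Kp.e2, Kp.e1, Kp.e1, Kp.e1, Kp.e2⟩, false)) ((⟨Kp.e1, Kp.e0, Kp.e0, Kp.e0, Kp.e1, Kp.e0, Kp.e0, Kp.e0, Kp.e1⟩, ⟨Kp.e1, Kp.e0, Kp.e0, Kp.e0, Kp.e1, Kp.e0, Kp.e0, Kp.e0, Kp.e1⟩, false)))) (pick g01 (pick g00 ((⟨Kp.e0, Kp.e1, Kp.e1, Kp.e1, Kp.e0, Kp.e1, Kp.e1, Kp.e2, Kp.e1⟩, ⟨Kp.e2, Kp.e2, Kp.e2, Kp.e0, Kp.e1, Kp.e2, Kp.e1, Kp.e2, Kp.e1⟩, false)) ((⟨Kp.e1, Kp.e0, Kp.e0, Kp.e0, Kp.e1, Kp.e0, Kp.e0, Kp.e0, Kp.e1⟩, ⟨Kp.e1, Kp.e0, Kp.e0, Kp.e0, Kp.e1, Kp.e0, Kp.e0, Kp.e0, Kp.e1⟩, false)) ((⟨Kp.e0, Kp.e1, Kp.e0, Kp.e1, Kp.e0, Kp.e0, Kp.e1, Kp.e2, Kp.e2⟩, ⟨Kp.e0, Kp.e1, Kp.e0, Kp.e1, Kp.e0, Kp.e0, Kp.e2, Kp.e1, Kp.e2⟩, true))) (pick g00 ((⟨Kp.e0, Kp.e1, Kp.e0, Kp.e1, Kp.e0, Kp.e2, Kp.e1, Kp.e2, Kp.e1⟩, ⟨Kp.e2, Kp.e2, Kp.e2, Kp.e1, Kp.e0, Kp.e0, Kp.e2, Kp.e1, Kp.e2⟩, true)) ((⟨Kp.e0, Kp.e1, Kp.e1, Kp.e1, Kp.e0, Kp.e0, Kp.e1, Kp.e2, Kp.e0⟩, ⟨Kp.e0, Kp.e1, Kp.e0, Kp.e0, Kp.e1, Kp.e2, Kp.e1, Kp.e2, Kp.e1⟩, false)) ((⟨Kp.e1, Kp.e0, Kp.e0, Kp.e0, Kp.e1, Kp.e0, Kp.e0, Kp.e0, Kp.e1⟩, ⟨Kp.e1, Kp.e0, Kp.e0, Kp.e0, Kp.e1, Kp.e0, Kp.e0, Kp.e0, Kp.e1⟩, false))) (pick g00 ((⟨Kp.e1, Kp.e0, Kp.e0, Kp.e0, Kp.e1, Kp.e0, Kp.e0, Kp.e0, Kp.e1⟩, ⟨Kp.e1, Kp.e0, Kp.e0, Kp.e0, Kp.e1, Kp.e0, Kp.e0, Kp.e0, Kp.e1⟩, false)) ((⟨Kp.e0, Kp.e1, Kp.e0, Kp.e1, Kp.e0, Kp.e1, Kp.e1, Kp.e2, Kp.e0⟩, ⟨Kp.e1, Kp.e0, Kp.e1, Kp.e1, Kp.e0, Kp.e0, Kp.e2, Kp.e1, Kp.e2⟩, true)) ((⟨Kp.e0, Kp.e1, Kp.e1, Kp.e1, Kp.e0, Kp.e2, Kp.e1, Kp.e2, Kp.e2⟩, ⟨Kp.e1, Kp.e0, Kp.e1, Kp.e0, Kp.e1, Kp.e2, Kp.e1, Kp.e2, Kp.e1⟩, false)))))) (pick g11 (pick g02 (pick g01 (pick g00 ((⟨Kp.e1, Kp.e0, Kp.e0, Kp.e0, Kp.e1, Kp.e0, Kp.e0, Kp.e0, Kp.e1⟩, ⟨Kp.e1, Kp.e0, Kp.e0, Kp.e0, Kp.e1, Kp.e0, Kp.e0, Kp.e0, Kp.e1⟩, false)) ((⟨Kp.e0, Kp.e1, Kp.e2, Kp.e1, Kp.e1, Kp.e1, Kp.e1, Kp.e2, Kp.e2⟩, ⟨Kp.e0, Kp.e2, Kp.e2, Kp.e2, Kp.e1, Kp.e2, Kp.e1, Kp.e1, Kp.e2⟩, true)) ((⟨Kp.e0, Kp.e1, Kp.e1, Kp.e1, Kp.e1, Kp.e2, Kp.e1, Kp.e2, Kp.e1⟩, ⟨Kp.e0, Kp.e2, Kp.e2, Kp.e2, Kp.e1, Kp.e2, Kp.e2, Kp.e2, Kp.e1⟩, false))) (pick g00 ((⟨Kp.e1, Kp.e0, Kp.e0, Kp.e0, Kp.e1, Kp.e0, Kp.e0, Kp.e0, Kp.e1⟩, ⟨Kp.e1, Kp.e0, Kp.e0, Kp.e0, Kp.e1, Kp.e0, Kp.e0, Kp.e0, Kp.e1⟩, false)) ((⟨Kp.e0, Kp.e1, Kp.e2, Kp.e1, Kp.e1, Kp.e2, Kp.e1, Kp.e2, Kp.e0⟩, ⟨Kp.e2, Kp.e1, Kp.e0, Kp.e2, Kp.e1, Kp.e2, Kp.e1, Kp.e1, Kp.e2⟩, true)) ((⟨Kp.e0, Kp.e1, Kp.e1, Kp.e1, Kp.e1, Kp.e0, Kp.e1, Kp.e2, Kp.e2⟩, ⟨Kp.e1, Kp.e0, Kp.e1, Kp.e2, Kp.e1, Kp.e2, Kp.e2, Kp.e2, Kp.e1⟩, false))) (pick g00 ((⟨Kp.e1, Kp.e0, Kp.e0, Kp.e0, Kp.e1, Kp.e0, Kp.e0, Kp.e0, Kp.e1⟩, ⟨Kp.e1, Kp.e0, Kp.e0, Kp.e0, Kp.e1, Kp.e0, Kp.e0, Kp.e0, Kp.e1⟩, false)) ((⟨Kp.e0, Kp.e1, Kp.e2, Kp.e1, Kp.e1, Kp.e0, Kp.e1, Kp.e2, Kp.e1⟩, ⟨Kp.e1, Kp.e0, Kp.e1, Kp.e2, Kp.e1, Kp.e2, Kp.e1, Kp.e1, Kp.e2⟩, true)) ((⟨Kp.e0, Kp.e1, Kp.e1, Kp.e1, Kp.e1, Kp.e1, Kp.e1, Kp.e2, Kp.e0⟩, ⟨Kp.e2, Kp.e1, Kp.e0, Kp.e2, Kp.e1, Kp.e2, Kp.e2, Kp.e2, Kp.e1⟩, false)))) (pick g01 (pick g00 ((⟨Kp.e1, Kp.e0, Kp.e0, Kp.e0, Kp.e1, Kp.e0, Kp.e0, Kp.e0, Kp.e1⟩, ⟨Kp.e1, Kp.e0, Kp.e0, Kp.e0, Kp.e1, Kp.e0, Kp.e0, Kp.e0, Kp.e1⟩, false)) ((⟨Kp.e0, Kp.e1, Kp.e2, Kp.e1, Kp.e0, Kp.e2, Kp.e1, Kp.e2, Kp.e1⟩, ⟨Kp.e1, Kp.e0, Kp.e1, Kp.e2, Kp.e2, Kp.e1, Kp.e1, Kp.e2, Kp.e1⟩, true)) ((⟨Kp.e0, Kp.e1, Kp.e1, Kp.e1, Kp.e0, Kp.e1, Kp.e1, Kp.e2, Kp.e2⟩, ⟨Kp.e1, Kp.e0, Kp.e1, Kp.e2, Kp.e2, Kp.e1, Kp.e2, Kp.e1, Kp.e2⟩, false))) (pick g00 ((⟨Kp.e0, Kp.e1, Kp.e1, Kp.e1, Kp.e0, Kp.e2, Kp.e1, Kp.e2, Kp.e0⟩, ⟨Kp.e2, Kp.e2, Kp.e2, Kp.e2, Kp.e2, Kp.e1, Kp.e2, Kp.e1, Kp.e2⟩, false)) ((⟨Kp.e1, Kp.e0, Kp.e0, Kp.e0, Kp.e1, Kp.e0, Kp.e0, Kp.e0, Kp.e1⟩, ⟨Kp.e1, Kp.e0, Kp.e0, Kp.e0, Kp.e1, Kp.e0, Kp.e0, Kp.e0, Kp.e1⟩, false)) ((⟨Kp.e0, Kp.e1, Kp.e2, Kp.e1, Kp.e0, Kp.e0, Kp.e1, Kp.e2, Kp.e2⟩, ⟨Kp.e0, Kp.e1, Kp.e0, Kp.e2, Kp.e2, Kp.e1, Kp.e1, Kp.e2, Kp.e1⟩, true))) (pick g00 ((⟨Kp.e0, Kp.e1, Kp.e2, Kp.e1, Kp.e0, Kp.e1, Kp.e1, Kp.e2, Kp.e0⟩, ⟨Kp.e2, Kp.e2, Kp.e2, Kp.e2, Kp.e2, Kp.e1, Kp.e1, Kp.e2, Kp.e1⟩, true)) ((⟨Kp.e0, Kp.e1, Kp.e1, Kp.e1, Kp.e0, Kp.e0, Kp.e1, Kp.e2, Kp.e1⟩, ⟨Kp.e0, Kp.e1, Kp.e0, Kp.e2, Kp.e2, Kp.e1, Kp.e2, Kp.e1, Kp.e2⟩, false)) ((⟨Kp.e1, Kp.e0, Kp.e0, Kp.e0, Kp.e1, Kp.e0, Kp.e0, Kp.e0, Kp.e1⟩, ⟨Kp.e1, Kp.e0, Kp.e0, Kp.e0, Kp.e1, Kp.e0, Kp.e0, Kp.e0, Kp.e1⟩, false)))) (pick g01 (pick g00 ((⟨Kp.e1, Kp.e0, Kp.e0, Kp.e0, Kp.e1, Kp.e0, Kp.e0, Kp.e0, Kp.e1⟩, ⟨Kp.e1, Kp.e0, Kp.e0, Kp.e0, Kp.e1, Kp.e0, Kp.e0, Kp.e0, Kp.e1⟩, false)) ((⟨Kp.e0, Kp.e1, Kp.e2, Kp.e1, Kp.e0, Kp.e1, Kp.e1, Kp.e1, Kp.e2⟩, ⟨Kp.e2, Kp.e0, Kp.e1, Kp.e2, Kp.e1, Kp.e2, Kp.e1, Kp.e1, Kp.e2⟩, true)) ((⟨Kp.e0, Kp.e1, Kp.e1, Kp.e1, Kp.e0, Kp.e2, Kp.e1, Kp.e1, Kp.e1⟩, ⟨Kp.e2, Kp.e0, Kp.e1, Kp.e2, Kp.e1, Kp.e2, Kp.e2, Kp.e2, Kp.e1⟩, false))) (pick g00 ((⟨Kp.e0, Kp.e1, Kp.e2, Kp.e1, Kp.e0, Kp.e2, Kp.e1, Kp.e1, Kp.e0⟩, ⟨Kp.e1, Kp.e2, Kp.e2, Kp.e2, Kp.e1, Kp.e2, Kp.e1, Kp.e1, Kp.e2⟩, true)) ((⟨Kp.e0, Kp.e1, Kp.e1, Kp.e1, Kp.e0, Kp.e0, Kp.e1, Kp.e1, Kp.e2⟩, ⟨Kp.e0, Kp.e1, Kp.e0, Kp.e2, Kp.e1, Kp.e2, Kp.e2, Kp.e2, Kp.e1⟩, false)) ((⟨Kp.e1, Kp.e0, Kp.e0, Kp.e0, Kp.e1, Kp.e0, Kp.e0, Kp.e0, Kp.e1⟩, ⟨Kp.e1, Kp.e0, Kp.e0, Kp.e0, Kp.e1, Kp.e0, Kp.e0, Kp.e0, Kp.e1⟩, false))) (pick g00 ((⟨Kp.e0, Kp.e1, Kp.e1, Kp.e1, Kp.e0, Kp.e1, Kp.e1, Kp.e1, Kp.e0⟩, ⟨Kp.e1, Kp.e2, Kp.e2, Kp.e2, Kp.e1, Kp.e2, Kp.e2, Kp.e2, Kp.e1⟩, false)) ((⟨Kp.e1, Kp.e0, Kp.e0, Kp.e0, Kp.e1, Kp.e0, Kp.e0, Kp.e0, Kp.e1⟩, ⟨Kp.e1, Kp.e0, Kp.e0, Kp.e0, Kp.e1, Kp.e0, Kp.e0, Kp.e0, Kp.e1⟩, false)) ((⟨Kp.e0, Kp.e1, Kp.e2, Kp.e1, Kp.e0, Kp.e0, Kp.e1, Kp.e1, Kp.e1⟩, ⟨Kp.e0, Kp.e1, Kp.e0, Kp.e2, Kp.e1, Kp.e2, Kp.e1, Kp.e1, Kp.e2⟩, true))))) (pick g02 (pick g01 (pick g00 ((⟨Kp.e1, Kp.e0, Kp.e0, Kp.e0, Kp.e1, Kp.e0, Kp.e0, Kp.e0, Kp.e1⟩, ⟨Kp.e1, Kp.e0, Kp.e0, Kp.e0, Kp.e1, Kp.e0, Kp.e0, Kp.e0, Kp.e1⟩, false)) ((⟨Kp.e0, Kp.e1, Kp.e1, Kp.e1, Kp.e1, Kp.e0, Kp.e1, Kp.e2, Kp.e0⟩, ⟨Kp.e0, Kp.e2, Kp.e2, Kp.e0, Kp.e2, Kp.e1, Kp.e1, Kp.e1, Kp.e2⟩, true)) ((⟨Kp.e0, Kp.e1, Kp.e0, Kp.e1, Kp.e1, Kp.e1, Kp.e1, Kp.e2, Kp.e2⟩, ⟨Kp.e0, Kp.e2, Kp.e2, Kp.e1, Kp.e0, Kp.e0, Kp.e2, Kp.e2, Kp.e1⟩, false))) (pick g00 ((⟨Kp.e1, Kp.e0, Kp.e0, Kp.e0, Kp.e1, Kp.e0, Kp.e0, Kp.e0, Kp.e1⟩, ⟨Kp.e1, Kp.e0, Kp.e0, Kp.e0, Kp.e1, Kp.e0, Kp.e0, Kp.e0, Kp.e1⟩, false)) ((⟨Kp.e0, Kp.e1, Kp.e1, Kp.e1, Kp.e1, Kp.e1, Kp.e1, Kp.e2, Kp.e1⟩, ⟨Kp.e2, Kp.e1, Kp.e0, Kp.e0, Kp.e2, Kp.e1, Kp.e1, Kp.e1, Kp.e2⟩, true)) ((⟨Kp.e0, Kp.e1, Kp.e0, Kp.e1, Kp.e1, Kp.e2, Kp.e1, Kp.e2, Kp.e0⟩, ⟨Kp.e1, Kp.e0, Kp.e1, Kp.e1, Kp.e0, Kp.e0, Kp.e2, Kp.e2, Kp.e1⟩, false))) (pick g00 ((⟨Kp.e1, Kp.e0, Kp.e0, Kp.e0, Kp.e1, Kp.e0, Kp.e0, Kp.e0, Kp.e1⟩, ⟨Kp.e1, Kp.e0, Kp.e0, Kp.e0, Kp.e1, Kp.e0, Kp.e0, Kp.e0, Kp.e1⟩, false)) ((⟨Kp.e0, Kp.e1, Kp.e1, Kp.e1, Kp.e1, Kp.e2, Kp.e1, Kp.e2, Kp.e2⟩, ⟨Kp.e1, Kp.e0, Kp.e1, Kp.e0, Kp.e2, Kp.e1, Kp.e1, Kp.e1, Kp.e2⟩, true)) ((⟨Kp.e0, Kp.e1, Kp.e0, Kp.e1, Kp.e1, Kp.e0, Kp.e1, Kp.e2, Kp.e1⟩, ⟨Kp.e2, Kp.e1, Kp.e0, Kp.e1, Kp.e0, Kp.e0, Kp.e2, Kp.e2, Kp.e1⟩, false)))) (pick g01 (pick g00 ((⟨Kp.e0, Kp.e1, Kp.e1, Kp.e1, Kp.e0, Kp.e1, Kp.e1, Kp.e2, Kp.e1⟩, ⟨Kp.e2, Kp.e2, Kp.e2, Kp.e0, Kp.e1, Kp.e2, Kp.e1, Kp.e2, Kp.e1⟩, true)) ((⟨Kp.e0, Kp.e1, Kp.e0, Kp.e1, Kp.e0, Kp.e0, Kp.e1, Kp.e2, Kp.e2⟩, ⟨Kp.e0, Kp.e1, Kp.e0, Kp.e1, Kp.e0, Kp.e0, Kp.e2, Kp.e1, Kp.e2⟩, false)) ((⟨Kp.e1, Kp.e0, Kp.e0, Kp.e0, Kp.e1, Kp.e0, Kp.e0, Kp.e0, Kp.e1⟩, ⟨Kp.e1, Kp.e0, Kp.e0, Kp.e0, Kp.e1, Kp.e0, Kp.e0, Kp.e0, Kp.e1⟩, false))) (pick g00 ((⟨Kp.e1, Kp.e0, Kp.e0, Kp.e0, Kp.e1, Kp.e0, Kp.e0, Kp.e0, Kp.e1⟩, ⟨Kp.e1, Kp.e0, Kp.e0, Kp.e0, Kp.e1, Kp.e0, Kp.e0, Kp.e0, Kp.e1⟩, false)) ((⟨Kp.e0, Kp.e1, Kp.e1, Kp.e1, Kp.e0, Kp.e2, Kp.e1, Kp.e2, Kp.e2⟩, ⟨Kp.e1, Kp.e0, Kp.e1, Kp.e0, Kp.e1, Kp.e2, Kp.e1, Kp.e2, Kp.e1⟩, true)) ((⟨Kp.e0, Kp.e1, Kp.e0, Kp.e1, Kp.e0, Kp.e1, Kp.e1, Kp.e2, Kp.e0⟩, ⟨Kp.e1, Kp.e0, Kp.e1, Kp.e1, Kp.e0, Kp.e0, Kp.e2, Kp.e1, Kp.e2⟩, false))) (pick g00 ((⟨Kp.e0, Kp.e1, Kp.e0, Kp.e1, Kp.e0, Kp.e2, Kp.e1, Kp.e2, Kp.e1⟩, ⟨Kp.e2, Kp.e2, Kp.e2, Kp.e1, Kp.e0, Kp.e0, Kp.e2, Kp.e1, Kp.e2⟩, false)) ((⟨Kp.e1, Kp.e0, Kp.e0, Kp.e0, Kp.e1, Kp.e0, Kp.e0, Kp.e0, Kp.e1⟩, ⟨Kp.e1, Kp.e0, Kp.e0, Kp.e0, Kp.e1, Kp.e0, Kp.e0, Kp.e0, Kp.e1⟩, false)) ((⟨Kp.e0, Kp.e1, Kp.e1, Kp.e1, Kp.e0, Kp.e0, Kp.e1, Kp.e2, Kp.e0⟩, ⟨Kp.e0, Kp.e1, Kp.e0, Kp.e0, Kp.e1, Kp.e2, Kp.e1, Kp.e2, Kp.e1⟩, true)))) (pick g01 (pick g00 ((⟨Kp.e0, Kp.e1, Kp.e1, Kp.e1, Kp.e0, Kp.e2, Kp.e1, Kp.e1, Kp.e2⟩, ⟨Kp.e1, Kp.e2, Kp.e2, Kp.e0, Kp.e2, Kp.e1, Kp.e1, Kp.e1, Kp.e2⟩, true)) ((⟨Kp.e0, Kp.e1, Kp.e0, Kp.e1, Kp.e0, Kp.e0, Kp.e1, Kp.e1, Kp.e1⟩, ⟨Kp.e0, Kp.e1, Kp.e0, Kp.e1, Kp.e0, Kp.e0, Kp.e2, Kp.e2, Kp.e1⟩, false)) ((⟨Kp.e1, Kp.e0, Kp.e0, Kp.e0, Kp.e1, Kp.e0, Kp.e0, Kp.e0, Kp.e1⟩, ⟨Kp.e1, Kp.e0, Kp.e0, Kp.e0, Kp.e1, Kp.e0, Kp.e0, Kp.e0, Kp.e1⟩, false))) (pick g00 ((⟨Kp.e0, Kp.e1, Kp.e0, Kp.e1, Kp.e0, Kp.e1, Kp.e1, Kp.e1, Kp.e2⟩, ⟨Kp.e1, Kp.e2, Kp.e2, Kp.e1, Kp.e0, Kp.e0, Kp.e2, Kp.e2, Kp.e1⟩, false)) ((⟨Kp.e1, Kp.e0, Kp.e0, Kp.e0, Kp.e1, Kp.e0, Kp.e0, Kp.e0, Kp.e1⟩, ⟨Kp.e1, Kp.e0, Kp.e0, Kp.e0, Kp.e1, Kp.e0, Kp.e0, Kp.e0, Kp.e1⟩, false)) ((⟨Kp.e0, Kp.e1, Kp.e1, Kp.e1, Kp.e0, Kp.e0, Kp.e1, Kp.e1, Kp.e0⟩, ⟨Kp.e0, Kp.e1, Kp.e0, Kp.e0, Kp.e2, Kp.e1, Kp.e1, Kp.e1, Kp.e2⟩, true))) (pick g00 ((⟨Kp.e1, Kp.e0, Kp.e0, Kp.e0, Kp.e1, Kp.e0, Kp.e0, Kp.e0, Kp.e1⟩, ⟨Kp.e1, Kp.e0, Kp.e0, Kp.e0, Kp.e1, Kp.e0, Kp.e0, Kp.e0, Kp.e1⟩, false)) ((⟨Kp.e0, Kp.e1, Kp.e1, Kp.e1, Kp.e0, Kp.e1, Kp.e1, Kp.e1, Kp.e1⟩, ⟨Kp.e2, Kp.e0, Kp.e1, Kp.e0, Kp.e2, Kp.e1, Kp.e1, Kp.e1, Kp.e2⟩, true)) ((⟨Kp.e0, Kp.e1, Kp.e0, Kp.e1, Kp.e0, Kp.e2, Kp.e1, Kp.e1, Kp.e0⟩, ⟨Kp.e2, Kp.e0, Kp.e1, Kp.e1, Kp.e0, Kp.e0, Kp.e2, Kp.e2, Kp.e1⟩, false))))) (pick g02 (pick g01 (pick g00 ((⟨Kp.e1, Kp.e0, Kp.e0, Kp.e0, Kp.e1, Kp.e0, Kp.e0, Kp.e0, Kp.e1⟩, ⟨Kp.e1, Kp.e0, Kp.e0, Kp.e0, Kp.e1, Kp.e0, Kp.e0, Kp.e0, Kp.e1⟩, false)) ((⟨Kp.e0, Kp.e1, Kp.e0, Kp.e1, Kp.e1, Kp.e2, Kp.e1, Kp.e2, Kp.e1⟩, ⟨Kp.e0, Kp.e2, Kp.e2, Kp.e1, Kp.e0, Kp.e0, Kp.e1, Kp.e1, Kp.e2⟩, true)) ((⟨Kp.e0, Kp.e1, Kp.e2, Kp.e1, Kp.e1, Kp.e0, Kp.e1, Kp.e2, Kp.e0⟩, ⟨Kp.e0, Kp.e2, Kp.e2, Kp.e0, Kp.e2, Kp.e1, Kp.e2, Kp.e2, Kp.e1⟩, false))) (pick g00 ((⟨Kp.e1, Kp.e0, Kp.e0, Kp.e0, Kp.e1, Kp.e0, Kp.e0, Kp.e0, Kp.e1⟩, ⟨Kp.e1, Kp.e0, Kp.e0, Kp.e0, Kp.e1, Kp.e0, Kp.e0, Kp.e0, Kp.e1⟩, false)) ((⟨Kp.e0, Kp.e1, Kp.e0, Kp.e1, Kp.e1, Kp.e0, Kp.e1, Kp.e2, Kp.e2⟩, ⟨Kp.e2, Kp.e1, Kp.e0, Kp.e1, Kp.e0, Kp.e0, Kp.e1, Kp.e1, Kp.e2⟩, true)) ((⟨Kp.e0, Kp.e1, Kp.e2, Kp.e1, Kp.e1, Kp.e1, Kp.e1, Kp.e2, Kp.e1⟩, ⟨Kp.e1, Kp.e0, Kp.e1, Kp.e0, Kp.e2, Kp.e1, Kp.e2, Kp.e2, Kp.e1⟩, false))) (pick g00 ((⟨Kp.e1, Kp.e0, Kp.e0, Kp.e0, Kp.e1, Kp.e0, Kp.e0, Kp.e0, Kp.e1⟩, ⟨Kp.e1, Kp.e0, Kp.e0, Kp.e0, Kp.e1, Kp.e0, Kp.e0, Kp.e0, Kp.e1⟩, false)) ((⟨Kp.e0, Kp.e1, Kp.e0, Kp.e1, Kp.e1, Kp.e1, Kp.e1, Kp.e2, Kp.e0⟩, ⟨Kp.e1, Kp.e0, Kp.e1, Kp.e1, Kp.e0, Kp.e0, Kp.e1, Kp.e1, Kp.e2⟩, true)) ((⟨Kp.e0, Kp.e1, Kp.e2, Kp.e1, Kp.e1, Kp.e2, Kp.e1, Kp.e2, Kp.e2⟩, ⟨Kp.e2, Kp.e1, Kp.e0, Kp.e0, Kp.e2, Kp.e1, Kp.e2, Kp.e2, Kp.e1⟩, false)))) (pick g01 (pick g00 ((⟨Kp.e0, Kp.e1, Kp.e2, Kp.e1, Kp.e0, Kp.e2, Kp.e1, Kp.e2, Kp.e2⟩, ⟨Kp.e2, Kp.e2, Kp.e2, Kp.e0, Kp.e1, Kp.e2, Kp.e2, Kp.e1, Kp.e2⟩, false)) ((⟨Kp.e1, Kp.e0, Kp.e0, Kp.e0, Kp.e1, Kp.e0, Kp.e0, Kp.e0, Kp.e1⟩, ⟨Kp.e1, Kp.e0, Kp.e0, Kp.e0, Kp.e1, Kp.e0, Kp.e0, Kp.e0, Kp.e1⟩, false)) ((⟨Kp.e0, Kp.e1, Kp.e0, Kp.e1, Kp.e0, Kp.e0, Kp.e1, Kp.e2, Kp.e1⟩, ⟨Kp.e0, Kp.e1, Kp.e0, Kp.e1, Kp.e0, Kp.e0, Kp.e1, Kp.e2, Kp.e1⟩, true))) (pick g00 ((⟨Kp.e0, Kp.e1, Kp.e0, Kp.e1, Kp.e0, Kp.e1, Kp.e1, Kp.e2, Kp.e2⟩, ⟨Kp.e2, Kp.e2, Kp.e2, Kp.e1, Kp.e0, Kp.e0, Kp.e1, Kp.e2, Kp.e1⟩, true)) ((⟨Kp.e0, Kp.e1, Kp.e2, Kp.e1, Kp.e0, Kp.e0, Kp.e1, Kp.e2, Kp.e0⟩, ⟨Kp.e0, Kp.e1, Kp.e0, Kp.e0, Kp.e1, Kp.e2, Kp.e2, Kp.e1, Kp.e2⟩, false)) ((⟨Kp.e1, Kp.e0, Kp.e0, Kp.e0, Kp.e1, Kp.e0, Kp.e0, Kp.e0, Kp.e1⟩, ⟨Kp.e1, Kp.e0, Kp.e0, Kp.e0, Kp.e1, Kp.e0, Kp.e0, Kp.e0, Kp.e1⟩, false))) (pick g00 ((⟨Kp.e1, Kp.e0, Kp.e0, Kp.e0, Kp.e1, Kp.e0, Kp.e0, Kp.e0, Kp.e1⟩, ⟨Kp.e1, Kp.e0, Kp.e0, Kp.e0, Kp.e1, Kp.e0, Kp.e0, Kp.e0, Kp.e1⟩, false)) ((⟨Kp.e0, Kp.e1, Kp.e0, Kp.e1, Kp.e0, Kp.e2, Kp.e1, Kp.e2, Kp.e0⟩, ⟨Kp.e1, Kp.e0, Kp.e1, Kp.e1, Kp.e0, Kp.e0, Kp.e1, Kp.e2, Kp.e1⟩, true)) ((⟨Kp.e0, Kp.e1, Kp.e2, Kp.e1, Kp.e0, Kp.e1, Kp.e1, Kp.e2, Kp.e1⟩, ⟨Kp.e1, Kp.e0, Kp.e1, Kp.e0, Kp.e1, Kp.e2, Kp.e2, Kp.e1, Kp.e2⟩, false)))) (pick g01 (pick g00 ((⟨Kp.e0, Kp.e1, Kp.e2, Kp.e1, Kp.e0, Kp.e1, Kp.e1, Kp.e1, Kp.e1⟩, ⟨Kp.e1, Kp.e2, Kp.e2, Kp.e0, Kp.e2, Kp.e1, Kp.e2, Kp.e2, Kp.e1⟩, false)) ((⟨Kp.e1, Kp.e0, Kp.e0, Kp.e0, Kp.e1, Kp.e0, Kp.e0, Kp.e0, Kp.e1⟩, ⟨Kp.e1, Kp.e0, Kp.e0, Kp.e0, Kp.e1, Kp.e0, Kp.e0, Kp.e0, Kp.e1⟩, false)) ((⟨Kp.e0, Kp.e1, Kp.e0, Kp.e1, Kp.e0, Kp.e0, Kp.e1, Kp.e1, Kp.e2⟩, ⟨Kp.e0, Kp.e1, Kp.e0, Kp.e1, Kp.e0, Kp.e0, Kp.e1, Kp.e1, Kp.e2⟩, true))) (pick g00 ((⟨Kp.e1, Kp.e0, Kp.e0, Kp.e0, Kp.e1, Kp.e0, Kp.e0, Kp.e0, Kp.e1⟩, ⟨Kp.e1, Kp.e0, Kp.e0, Kp.e0, Kp.e1, Kp.e0, Kp.e0, Kp.e0, Kp.e1⟩, false)) ((⟨Kp.e0, Kp.e1, Kp.e0, Kp.e1, Kp.e0, Kp.e1, Kp.e1, Kp.e1, Kp.e0⟩, ⟨Kp.e2, Kp.e0, Kp.e1, Kp.e1, Kp.e0, Kp.e0, Kp.e1, Kp.e1, Kp.e2⟩, true)) ((⟨Kp.e0, Kp.e1, Kp.e2, Kp.e1, Kp.e0, Kp.e2, Kp.e1, Kp.e1, Kp.e2⟩, ⟨Kp.e2, Kp.e0, Kp.e1, Kp.e0, Kp.e2, Kp.e1, Kp.e2, Kp.e2, Kp.e1⟩, false))) (pick g00 ((⟨Kp.e0, Kp.e1, Kp.e0, Kp.e1, Kp.e0, Kp.e2, Kp.e1, Kp.e1, Kp.e1⟩, ⟨Kp.e1, Kp.e2, Kp.e2, Kp.e1, Kp.e0, Kp.e0, Kp.e1, Kp.e1, Kp.e2⟩, true)) ((⟨Kp.e0, Kp.e1, Kp.e2, Kp.e1, Kp.e0, Kp.e0, Kp.e1, Kp.e1, Kp.e0⟩, ⟨Kp.e0, Kp.e1, Kp.e0, Kp.e0, Kp.e2, Kp.e1, Kp.e2, Kp.e2, Kp.e1⟩, false)) ((⟨Kp.e1, Kp.e0, Kp.e0, Kp.e0, Kp.e1, Kp.e0, Kp.e0, Kp.e0, Kp.e1⟩, ⟨Kp.e1, Kp.e0, Kp.e0, Kp.e0, Kp.e1, Kp.e0, Kp.e0, Kp.e0, Kp.e1⟩, false))))))) (pick g12 (pick g11 (pick g02 (pick g01 (pick g00 ((⟨Kp.e1, Kp.e0, Kp.e0, Kp.e0, Kp.e1, Kp.e0, Kp.e0, Kp.e0, Kp.e1⟩, ⟨Kp.e1, Kp.e0, Kp.e0, Kp.e0, Kp.e1, Kp.e0, Kp.e0, Kp.e0, Kp.e1⟩, false)) ((⟨Kp.e1, Kp.e0, Kp.e0, Kp.e0, Kp.e1, Kp.e0, Kp.e0, Kp.e0, Kp.e1⟩, ⟨Kp.e1, Kp.e0, Kp.e0, Kp.e0, Kp.e1, Kp.e0, Kp.e0, Kp.e0, Kp.e1⟩, false)) ((⟨Kp.e1, Kp.e0, Kp.e0, Kp.e0, Kp.e1, Kp.e0, Kp.e0, Kp.e0, Kp.e1⟩, ⟨Kp.e1, Kp.e0, Kp.e0, Kp.e0, Kp.e1, Kp.e0, Kp.e0, Kp.e0, Kp.e1⟩, false))) (pick g00 ((⟨Kp.e1, Kp.e1, Kp.e0, Kp.e1, Kp.e2, Kp.e1, Kp.e1, Kp.e2, Kp.e2⟩, ⟨Kp.e2, Kp.e1, Kp.e1, Kp.e2, Kp.e2, Kp.e2, Kp.e0, Kp.e2, Kp.e1⟩, true)) ((⟨Kp.e1, Kp.e0, Kp.e1, Kp.e1, Kp.e0, Kp.e2, Kp.e1, Kp.e2, Kp.e0⟩, ⟨Kp.e2, Kp.e2, Kp.e0, Kp.e2, Kp.e2, Kp.e2, Kp.e2, Kp.e1, Kp.e0⟩, true)) ((⟨Kp.e1, Kp.e0, Kp.e0, Kp.e1, Kp.e1, Kp.e1, Kp.e1, Kp.e1, Kp.e2⟩, ⟨Kp.e1, Kp.e0, Kp.e0, Kp.e2, Kp.e2, Kp.e2, Kp.e0, Kp.e2, Kp.e1⟩, true))) (pick g00 ((⟨Kp.e1, Kp.e1, Kp.e1, Kp.e1, Kp.e1, Kp.e2, Kp.e1, Kp.e2, Kp.e0⟩, ⟨Kp.e1, Kp.e1, Kp.e2, Kp.e1, Kp.e1, Kp.e1, Kp.e2, Kp.e1, Kp.e0⟩, true)) ((⟨Kp.e1, Kp.e0, Kp.e1, Kp.e1, Kp.e0, Kp.e2, Kp.e1, Kp.e1, Kp.e0⟩, ⟨Kp.e2, Kp.e2, Kp.e0, Kp.e1, Kp.e1, Kp.e1, Kp.e2, Kp.e1, Kp.e0⟩, true)) ((⟨Kp.e1, Kp.e0, Kp.e0, Kp.e1, Kp.e2, Kp.e1, Kp.e1, Kp.e2, Kp.e2⟩, ⟨Kp.e1, Kp.e0, Kp.e0, Kp.e1, Kp.e1, Kp.e1, Kp.e0, Kp.e2, Kp.e1⟩, true)))) (pick g01 (pick g00 ((⟨Kp.e1, Kp.e0, Kp.e0, Kp.e0, Kp.e1, Kp.e0, Kp.e0, Kp.e0, Kp.e1⟩, ⟨Kp.e1, Kp.e0, Kp.e0, Kp.e0, Kp.e1, Kp.e0, Kp.e0, Kp.e0, Kp.e1⟩, false)) ((⟨Kp.e1, Kp.e0, Kp.e0, Kp.e0, Kp.e1, Kp.e0, Kp.e0, Kp.e0, Kp.e1⟩, ⟨Kp.e1, Kp.e0, Kp.e0, Kp.e0, Kp.e1, Kp.e0, Kp.e0, Kp.e0, Kp.e1⟩, false)) ((⟨Kp.e1, Kp.e0, Kp.e0, Kp.e0, Kp.e1, Kp.e0, Kp.e0, Kp.e0, Kp.e1⟩, ⟨Kp.e1, Kp.e0, Kp.e0, Kp.e0, Kp.e1, Kp.e0, Kp.e0, Kp.e0, Kp.e1⟩, false))) (pick g00 ((⟨Kp.e1, Kp.e0, Kp.e2, Kp.e1, Kp.e1, Kp.e0, Kp.e1, Kp.e1, Kp.e1⟩, ⟨Kp.e1, Kp.e2, Kp.e1, Kp.e2, Kp.e2, Kp.e2, Kp.e0, Kp.e2, Kp.e1⟩, true)) ((⟨Kp.e1, Kp.e1, Kp.e2, Kp.e1, Kp.e2, Kp.e0, Kp.e1, Kp.e2, Kp.e1⟩, ⟨Kp.e2, Kp.e0, Kp.e2, Kp.e2, Kp.e2, Kp.e2, Kp.e0, Kp.e2, Kp.e1⟩, true)) ((⟨Kp.e1, Kp.e0, Kp.e0, Kp.e1, Kp.e0, Kp.e1, Kp.e1, Kp.e2, Kp.e2⟩, ⟨Kp.e1, Kp.e0, Kp.e0, Kp.e2, Kp.e2, Kp.e2, Kp.e2, Kp.e1, Kp.e0⟩, true))) (pick g00 ((⟨Kp.e1, Kp.e0, Kp.e2, Kp.e1, Kp.e2, Kp.e0, Kp.e1, Kp.e2, Kp.e1⟩, ⟨Kp.e1, Kp.e2, Kp.e1, Kp.e1, Kp.e1, Kp.e1, Kp.e0, Kp.e2, Kp.e1⟩, true)) ((⟨Kp.e1, Kp.e1, Kp.e0, Kp.e1, Kp.e1, Kp.e1, Kp.e1, Kp.e2, Kp.e2⟩, ⟨Kp.e0, Kp.e2, Kp.e2, Kp.e1, Kp.e1, Kp.e1, Kp.e2, Kp.e1, Kp.e0⟩, true)) ((⟨Kp.e1, Kp.e0, Kp.e0, Kp.e1, Kp.e0, Kp.e1, Kp.e1, Kp.e1, Kp.e2⟩, ⟨Kp.e1, Kp.e0, Kp.e0, Kp.e1, Kp.e1, Kp.e1, Kp.e2, Kp.e1, Kp.e0⟩, true)))) (pick g01 (pick g00 ((⟨Kp.e1, Kp.e0, Kp.e0, Kp.e0, Kp.e1, Kp.e0, Kp.e0, Kp.e0, Kp.e1⟩, ⟨Kp.e1, Kp.e0, Kp.e0, Kp.e0, Kp.e1, Kp.e0, Kp.e0, Kp.e0, Kp.e1⟩, false)) ((⟨Kp.e1, Kp.e0, Kp.e0, Kp.e0, Kp.e1, Kp.e0, Kp.e0, Kp.e0, Kp.e1⟩, ⟨Kp.e1, Kp.e0, Kp.e0, Kp.e0, Kp.e1, Kp.e0, Kp.e0, Kp.e0, Kp.e1⟩, false)) ((⟨Kp.e1, Kp.e0, Kp.e0, Kp.e0, Kp.e1, Kp.e0, Kp.e0, Kp.e0, Kp.e1⟩, ⟨Kp.e1, Kp.e0, Kp.e0, Kp.e0, Kp.e1, Kp.e0, Kp.e0, Kp.e0, Kp.e1⟩, false))) (pick g00 ((⟨Kp.e1, Kp.e0, Kp.e1, Kp.e1, Kp.e1, Kp.e0, Kp.e1, Kp.e1, Kp.e2⟩, ⟨Kp.e1, Kp.e2, Kp.e1, Kp.e2, Kp.e2, Kp.e2, Kp.e0, Kp.e1, Kp.e2⟩, true)) ((⟨Kp.e1, Kp.e1, Kp.e1, Kp.e1, Kp.e2, Kp.e0, Kp.e1, Kp.e2, Kp.e2⟩, ⟨Kp.e2, Kp.e0, Kp.e2, Kp.e2, Kp.e2, Kp.e2, Kp.e0, Kp.e1, Kp.e2⟩, true)) ((⟨Kp.e1, Kp.e0, Kp.e0, Kp.e1, Kp.e0, Kp.e2, Kp.e1, Kp.e2, Kp.e1⟩, ⟨Kp.e1, Kp.e0, Kp.e0, Kp.e2, Kp.e2, Kp.e2, Kp.e1, Kp.e2, Kp.e0⟩, true))) (pick g00 ((⟨Kp.e1, Kp.e0, Kp.e1, Kp.e1, Kp.e2, Kp.e0, Kp.e1, Kp.e2, Kp.e2⟩, ⟨Kp.e1, Kp.e2, Kp.e1, Kp.e1, Kp.e1, Kp.e1, Kp.e0, Kp.e1, Kp.e2⟩, true)) ((⟨Kp.e1, Kp.e1, Kp.e0, Kp.e1, Kp.e1, Kp.e2, Kp.e1, Kp.e2, Kp.e1⟩, ⟨Kp.e0, Kp.e2, Kp.e2, Kp.e1, Kp.e1, Kp.e1, Kp.e1, Kp.e2, Kp.e0⟩, true)) ((⟨Kp.e1, Kp.e0, Kp.e0, Kp.e1, Kp.e0, Kp.e2, Kp.e1, Kp.e1, Kp.e1⟩, ⟨Kp.e1, Kp.e0, Kp.e0, Kp.e1, Kp.e1, Kp.e1, Kp.e1, Kp.e2, Kp.e0⟩, true))))) (pick g02 (pick g01 (pick g00 ((⟨Kp.e1, Kp.e0, Kp.e0, Kp.e0, Kp.e1, Kp.e0, Kp.e0, Kp.e0, Kp.e1⟩, ⟨Kp.e1, Kp.e0, Kp.e0, Kp.e0, Kp.e1, Kp.e0, Kp.e0, Kp.e0, Kp.e1⟩, false)) ((⟨Kp.e0, Kp.e0, Kp.e1, Kp.e0, Kp.e1, Kp.e0, Kp.e1, Kp.e0, Kp.e0⟩, ⟨Kp.e0, Kp.e0, Kp.e1, Kp.e0, Kp.e1, Kp.e0, Kp.e1, Kp.e0, Kp.e0⟩, false)) ((⟨Kp.e0, Kp.e1, Kp.e1, Kp.e0, Kp.e1, Kp.e2, Kp.e1, Kp.e0, Kp.e0⟩, ⟨Kp.e0, Kp.e0, Kp.e1, Kp.e2, Kp.e2, Kp.e0, Kp.e2, Kp.e1, Kp.e0⟩, true))) (pick g00 ((⟨Kp.e0, Kp.e1, Kp.e1, Kp.e0, Kp.e1, Kp.e2, Kp.e1, Kp.e2, Kp.e0⟩, ⟨Kp.e2, Kp.e2, Kp.e1, Kp.e2, Kp.e2, Kp.e0, Kp.e2, Kp.e1, Kp.e0⟩, true)) ((⟨Kp.e1, Kp.e0, Kp.e0, Kp.e0, Kp.e1, Kp.e0, Kp.e0, Kp.e0, Kp.e1⟩, ⟨Kp.e1, Kp.e0, Kp.e0, Kp.e0, Kp.e1, Kp.e0, Kp.e0, Kp.e0, Kp.e1⟩, false)) ((⟨Kp.e0, Kp.e0, Kp.e1, Kp.e0, Kp.e1, Kp.e0, Kp.e1, Kp.e2, Kp.e0⟩, ⟨Kp.e0, Kp.e1, Kp.e1, Kp.e0, Kp.e1, Kp.e0, Kp.e1, Kp.e0, Kp.e0⟩, false))) (pick g00 ((⟨Kp.e0, Kp.e1, Kp.e1, Kp.e0, Kp.e1, Kp.e2, Kp.e1, Kp.e1, Kp.e0⟩, ⟨Kp.e1, Kp.e1, Kp.e1, Kp.e2, Kp.e2, Kp.e0, Kp.e2, Kp.e1, Kp.e0⟩, true)) ((⟨Kp.e1, Kp.e0, Kp.e0, Kp.e0, Kp.e1, Kp.e0, Kp.e0, Kp.e0, Kp.e1⟩, ⟨Kp.e1, Kp.e0, Kp.e0, Kp.e0, Kp.e1, Kp.e0, Kp.e0, Kp.e0, Kp.e1⟩, false)) ((⟨Kp.e0, Kp.e0, Kp.e1, Kp.e0, Kp.e1, Kp.e0, Kp.e1, Kp.e1, Kp.e0⟩, ⟨Kp.e0, Kp.e2, Kp.e1, Kp.e0, Kp.e1, Kp.e0, Kp.e1, Kp.e0, Kp.e0⟩, false)))) (pick g01 (pick g00 ((⟨Kp.e0, Kp.e1, Kp.e1, Kp.e0, Kp.e1, Kp.e2, Kp.e1, Kp.e0, Kp.e2⟩, ⟨Kp.e2, Kp.e1, Kp.e1, Kp.e2, Kp.e2, Kp.e0, Kp.e2, Kp.e1, Kp.e0⟩, true)) ((⟨Kp.e1, Kp.e0, Kp.e0, Kp.e0, Kp.e1, Kp.e0, Kp.e0, Kp.e0, Kp.e1⟩, ⟨Kp.e1, Kp.e0, Kp.e0, Kp.e0, Kp.e1, Kp.e0, Kp.e0, Kp.e0, Kp.e1⟩, false)) ((⟨Kp.e0, Kp.e0, Kp.e1, Kp.e0, Kp.e1, Kp.e0, Kp.e1, Kp.e0, Kp.e2⟩, ⟨Kp.e1, Kp.e0, Kp.e1, Kp.e0, Kp.e1, Kp.e0, Kp.e1, Kp.e0, Kp.e0⟩, false))) (pick g00 ((⟨Kp.e0, Kp.e0, Kp.e1, Kp.e0, Kp.e1, Kp.e0, Kp.e1, Kp.e2, Kp.e2⟩, ⟨Kp.e1, Kp.e1, Kp.e1, Kp.e0, Kp.e1, Kp.e0, Kp.e1, Kp.e0, Kp.e0⟩, false)) ((⟨Kp.e0, Kp.e1, Kp.e1, Kp.e0, Kp.e1, Kp.e2, Kp.e1, Kp.e2, Kp.e2⟩, ⟨Kp.e1, Kp.e0, Kp.e1, Kp.e2, Kp.e2, Kp.e0, Kp.e2, Kp.e1, Kp.e0⟩, true)) ((⟨Kp.e1, Kp.e0, Kp.e0, Kp.e0, Kp.e1, Kp.e0, Kp.e0, Kp.e0, Kp.e1⟩, ⟨Kp.e1, Kp.e0, Kp.e0, Kp.e0, Kp.e1, Kp.e0, Kp.e0, Kp.e0, Kp.e1⟩, false))) (pick g00 ((⟨Kp.e0, Kp.e0, Kp.e1, Kp.e0, Kp.e1, Kp.e0, Kp.e1, Kp.e1, Kp.e2⟩, ⟨Kp.e1, Kp.e2, Kp.e1, Kp.e0, Kp.e1, Kp.e0, Kp.e1, Kp.e0, Kp.e0⟩, false)) ((⟨Kp.e0, Kp.e1, Kp.e1, Kp.e0, Kp.e1, Kp.e2, Kp.e1, Kp.e1, Kp.e2⟩, ⟨Kp.e0, Kp.e2, Kp.e1, Kp.e2, Kp.e2, Kp.e0, Kp.e2, Kp.e1, Kp.e0⟩, true)) ((⟨Kp.e1, Kp.e0, Kp.e0, Kp.e0, Kp.e1, Kp.e0, Kp.e0, Kp.e0, Kp.e1⟩, ⟨Kp.e1, Kp.e0, Kp.e0, Kp.e0, Kp.e1, Kp.e0, Kp.e0, Kp.e0, Kp.e1⟩, false)))) (pick g01 (pick g00 ((⟨Kp.e0, Kp.e1, Kp.e1, Kp.e0, Kp.e1, Kp.e2, Kp.e1, Kp.e0, Kp.e1⟩, ⟨Kp.e1, Kp.e2, Kp.e1, Kp.e2, Kp.e2, Kp.e0, Kp.e2, Kp.e1, Kp.e0⟩, true)) ((⟨Kp.e1, Kp.e0, Kp.e0, Kp.e0, Kp.e1, Kp.e0, Kp.e0, Kp.e0, Kp.e1⟩, ⟨Kp.e1, Kp.e0, Kp.e0, Kp.e0, Kp.e1, Kp.e0, Kp.e0, Kp.e0, Kp.e1⟩, false)) ((⟨Kp.e0, Kp.e0, Kp.e1, Kp.e0, Kp.e1, Kp.e0, Kp.e1, Kp.e0, Kp.e1⟩, ⟨Kp.e2, Kp.e0, Kp.e1, Kp.e0, Kp.e1, Kp.e0, Kp.e1, Kp.e0, Kp.e0⟩, false))) (pick g00 ((⟨Kp.e0, Kp.e0, Kp.e1, Kp.e0, Kp.e1, Kp.e0, Kp.e1, Kp.e2, Kp.e1⟩, ⟨Kp.e2, Kp.e1, Kp.e1, Kp.e0, Kp.e1, Kp.e0, Kp.e1, Kp.e0, Kp.e0⟩, false)) ((⟨Kp.e0, Kp.e1, Kp.e1, Kp.e0, Kp.e1, Kp.e2, Kp.e1, Kp.e2, Kp.e1⟩, ⟨Kp.e0, Kp.e1, Kp.e1, Kp.e2, Kp.e2, Kp.e0, Kp.e2, Kp.e1, Kp.e0⟩, true)) ((⟨Kp.e1, Kp.e0, Kp.e0, Kp.e0, Kp.e1, Kp.e0, Kp.e0, Kp.e0, Kp.e1⟩, ⟨Kp.e1, Kp.e0, Kp.e0, Kp.e0, Kp.e1, Kp.e0, Kp.e0, Kp.e0, Kp.e1⟩, false))) (pick g00 ((⟨Kp.e0, Kp.e0, Kp.e1, Kp.e0, Kp.e1, Kp.e0, Kp.e1, Kp.e1, Kp.e1⟩, ⟨Kp.e2, Kp.e2, Kp.e1, Kp.e0, Kp.e1, Kp.e0, Kp.e1, Kp.e0, Kp.e0⟩, false)) ((⟨Kp.e0, Kp.e1, Kp.e1, Kp.e0, Kp.e1, Kp.e2, Kp.e1, Kp.e1, Kp.e1⟩, ⟨Kp.e2, Kp.e0, Kp.e1, Kp.e2, Kp.e2, Kp.e0, Kp.e2, Kp.e1, Kp.e0⟩, true)) ((⟨Kp.e1, Kp.e0, Kp.e0, Kp.e0, Kp.e1, Kp.e0, Kp.e0, Kp.e0, Kp.e1⟩, ⟨Kp.e1, Kp.e0, Kp.e0, Kp.e0, Kp.e1, Kp.e0, Kp.e0, Kp.e0, Kp.e1⟩, false))))) (pick g02 (pick g01 (pick g00 ((⟨Kp.e1, Kp.e0, Kp.e0, Kp.e0, Kp.e1, Kp.e0, Kp.e0, Kp.e0, Kp.e1⟩, ⟨Kp.e1, Kp.e0, Kp.e0, Kp.e0, Kp.e1, Kp.e0, Kp.e0, Kp.e0, Kp.e1⟩, false)) ((⟨Kp.e0, Kp.e1, Kp.e0, Kp.e1, Kp.e0, Kp.e1, Kp.e1, Kp.e0, Kp.e2⟩, ⟨Kp.e0, Kp.e2, Kp.e2, Kp.e1, Kp.e0, Kp.e0, Kp.e0, Kp.e2, Kp.e1⟩, true)) ((⟨Kp.e0, Kp.e0, Kp.e1, Kp.e1, Kp.e1, Kp.e0, Kp.e1, Kp.e2, Kp.e0⟩, ⟨Kp.e0, Kp.e2, Kp.e2, Kp.e0, Kp.e2, Kp.e1, Kp.e1, Kp.e0, Kp.e0⟩, false))) (pick g00 ((⟨Kp.e0, Kp.e1, Kp.e0, Kp.e1, Kp.e1, Kp.e1, Kp.e1, Kp.e1, Kp.e2⟩, ⟨Kp.e2, Kp.e2, Kp.e2, Kp.e1, Kp.e0, Kp.e0, Kp.e0, Kp.e2, Kp.e1⟩, true)) ((⟨Kp.e0, Kp.e0, Kp.e1, Kp.e1, Kp.e0, Kp.e0, Kp.e1, Kp.e2, Kp.e0⟩, ⟨Kp.e0, Kp.e1, Kp.e0, Kp.e0, Kp.e1, Kp.e2, Kp.e1, Kp.e0, Kp.e0⟩, false)) ((⟨Kp.e1, Kp.e0, Kp.e0, Kp.e0, Kp.e1, Kp.e0, Kp.e0, Kp.e0, Kp.e1⟩, ⟨Kp.e1, Kp.e0, Kp.e0, Kp.e0, Kp.e1, Kp.e0, Kp.e0, Kp.e0, Kp.e1⟩, false))) (pick g00 ((⟨Kp.e0, Kp.e1, Kp.e0, Kp.e1, Kp.e2, Kp.e1, Kp.e1, Kp.e2, Kp.e2⟩, ⟨Kp.e1, Kp.e2, Kp.e2, Kp.e1, Kp.e0, Kp.e0, Kp.e0, Kp.e2, Kp.e1⟩, true)) ((⟨Kp.e0, Kp.e0, Kp.e1, Kp.e1, Kp.e0, Kp.e0, Kp.e1, Kp.e1, Kp.e0⟩, ⟨Kp.e0, Kp.e1, Kp.e0, Kp.e0, Kp.e2, Kp.e1, Kp.e1, Kp.e0, Kp.e0⟩, false)) ((⟨Kp.e1, Kp.e0, Kp.e0, Kp.e0, Kp.e1, Kp.e0, Kp.e0, Kp.e0, Kp.e1⟩, ⟨Kp.e1, Kp.e0, Kp.e0, Kp.e0, Kp.e1, Kp.e0, Kp.e0, Kp.e0, Kp.e1⟩, false)))) (pick g01 (pick g00 ((⟨Kp.e0, Kp.e0, Kp.e1, Kp.e1, Kp.e1, Kp.e2, Kp.e1, Kp.e2, Kp.e2⟩, ⟨Kp.e1, Kp.e2, Kp.e2, Kp.e0, Kp.e2, Kp.e1, Kp.e1, Kp.e0, Kp.e0⟩, false)) ((⟨Kp.e1, Kp.e0, Kp.e0, Kp.e0, Kp.e1, Kp.e0, Kp.e0, Kp.e0, Kp.e1⟩, ⟨Kp.e1, Kp.e0, Kp.e0, Kp.e0, Kp.e1, Kp.e0, Kp.e0, Kp.e0, Kp.e1⟩, false)) ((⟨Kp.e0, Kp.e1, Kp.e0, Kp.e1, Kp.e0, Kp.e0, Kp.e1, Kp.e0, Kp.e1⟩, ⟨Kp.e0, Kp.e1, Kp.e0, Kp.e1, Kp.e0, Kp.e0, Kp.e0, Kp.e2, Kp.e1⟩, true))) (pick g00 ((⟨Kp.e1, Kp.e0, Kp.e0, Kp.e0, Kp.e1, Kp.e0, Kp.e0, Kp.e0, Kp.e1⟩, ⟨Kp.e1, Kp.e0, Kp.e0, Kp.e0, Kp.e1, Kp.e0, Kp.e0, Kp.e0, Kp.e1⟩, false)) ((⟨Kp.e0, Kp.e1, Kp.e0, Kp.e1, Kp.e1, Kp.e0, Kp.e1, Kp.e1, Kp.e1⟩, ⟨Kp.e2, Kp.e1, Kp.e0, Kp.e1, Kp.e0, Kp.e0, Kp.e0, Kp.e2, Kp.e1⟩, true)) ((⟨Kp.e0, Kp.e0, Kp.e1, Kp.e1, Kp.e0, Kp.e2, Kp.e1, Kp.e2, Kp.e2⟩, ⟨Kp.e1, Kp.e1, Kp.e0, Kp.e0, Kp.e1, Kp.e2, Kp.e1, Kp.e0, Kp.e0⟩, false))) (pick g00 ((⟨Kp.e1, Kp.e0, Kp.e0, Kp.e0, Kp.e1, Kp.e0, Kp.e0, Kp.e0, Kp.e1⟩, ⟨Kp.e1, Kp.e0, Kp.e0, Kp.e0, Kp.e1, Kp.e0, Kp.e0, Kp.e0, Kp.e1⟩, false)) ((⟨Kp.e0, Kp.e1, Kp.e0, Kp.e1, Kp.e2, Kp.e0, Kp.e1, Kp.e2, Kp.e1⟩, ⟨Kp.e1, Kp.e1, Kp.e0, Kp.e1, Kp.e0, Kp.e0, Kp.e0, Kp.e2, Kp.e1⟩, true)) ((⟨Kp.e0, Kp.e0, Kp.e1, Kp.e1, Kp.e0, Kp.e2, Kp.e1, Kp.e1, Kp.e2⟩, ⟨Kp.e1, Kp.e1, Kp.e0, Kp.e0, Kp.e2, Kp.e1, Kp.e1, Kp.e0, Kp.e0⟩, false)))) (pick g01 (pick g00 ((⟨Kp.e0, Kp.e0, Kp.e1, Kp.e1, Kp.e1, Kp.e1, Kp.e1, Kp.e2, Kp.e1⟩, ⟨Kp.e2, Kp.e2, Kp.e2, Kp.e0, Kp.e2, Kp.e1, Kp.e1, Kp.e0, Kp.e0⟩, false)) ((⟨Kp.e1, Kp.e0, Kp.e0, Kp.e0, Kp.e1, Kp.e0, Kp.e0, Kp.e0, Kp.e1⟩, ⟨Kp.e1, Kp.e0, Kp.e0, Kp.e0, Kp.e1, Kp.e0, Kp.e0, Kp.e0, Kp.e1⟩, false)) ((⟨Kp.e0, Kp.e1, Kp.e0, Kp.e1, Kp.e0, Kp.e0, Kp.e1, Kp.e0, Kp.e2⟩, ⟨Kp.e0, Kp.e1, Kp.e0, Kp.e1, Kp.e0, Kp.e0, Kp.e0, Kp.e1, Kp.e2⟩, true))) (pick g00 ((⟨Kp.e1, Kp.e0, Kp.e0, Kp.e0, Kp.e1, Kp.e0, Kp.e0, Kp.e0, Kp.e1⟩, ⟨Kp.e1, Kp.e0, Kp.e0, Kp.e0, Kp.e1, Kp.e0, Kp.e0, Kp.e0, Kp.e1⟩, false)) ((⟨Kp.e0, Kp.e1, Kp.e0, Kp.e1, Kp.e1, Kp.e0, Kp.e1, Kp.e1, Kp.e2⟩, ⟨Kp.e2, Kp.e1, Kp.e0, Kp.e1, Kp.e0, Kp.e0, Kp.e0, Kp.e1, Kp.e2⟩, true)) ((⟨Kp.e0, Kp.e0, Kp.e1, Kp.e1, Kp.e0, Kp.e1, Kp.e1, Kp.e2, Kp.e1⟩, ⟨Kp.e2, Kp.e1, Kp.e0, Kp.e0, Kp.e1, Kp.e2, Kp.e1, Kp.e0, Kp.e0⟩, false))) (pick g00 ((⟨Kp.e1, Kp.e0, Kp.e0, Kp.e0, Kp.e1, Kp.e0, Kp.e0, Kp.e0, Kp.e1⟩, ⟨Kp.e1, Kp.e0, Kp.e0, Kp.e0, Kp.e1, Kp.e0, Kp.e0, Kp.e0, Kp.e1⟩, false)) ((⟨Kp.e0, Kp.e1, Kp.e0, Kp.e1, Kp.e2, Kp.e0, Kp.e1, Kp.e2, Kp.e2⟩, ⟨Kp.e1, Kp.e1, Kp.e0, Kp.e1, Kp.e0, Kp.e0, Kp.e0, Kp.e1, Kp.e2⟩, true)) ((⟨Kp.e0, Kp.e0, Kp.e1, Kp.e1, Kp.e0, Kp.e1, Kp.e1, Kp.e1, Kp.e1⟩, ⟨Kp.e2, Kp.e1, Kp.e0, Kp.e0, Kp.e2, Kp.e1, Kp.e1, Kp.e0, Kp.e0⟩, false)))))) (pick g11 (pick g02 (pick g01 (pick g00 ((⟨Kp.e1, Kp.e0, Kp.e0, Kp.e0, Kp.e1, Kp.e0, Kp.e0, Kp.e0, Kp.e1⟩, ⟨Kp.e1, Kp.e0, Kp.e0, Kp.e0, Kp.e1, Kp.e0, Kp.e0, Kp.e0, Kp.e1⟩, false)) ((⟨Kp.e0, Kp.e1, Kp.e2, Kp.e1, Kp.e0, Kp.e1, Kp.e1, Kp.e0, Kp.e2⟩, ⟨Kp.e0, Kp.e2, Kp.e2, Kp.e1, Kp.e2, Kp.e1, Kp.e0, Kp.e2, Kp.e1⟩, true)) ((⟨Kp.e0, Kp.e0, Kp.e1, Kp.e1, Kp.e1, Kp.e2, Kp.e1, Kp.e2, Kp.e1⟩, ⟨Kp.e0, Kp.e2, Kp.e2, Kp.e1, Kp.e2, Kp.e1, Kp.e1, Kp.e0, Kp.e0⟩, false))) (pick g00 ((⟨Kp.e0, Kp.e1, Kp.e2, Kp.e1, Kp.e1, Kp.e0, Kp.e1, Kp.e1, Kp.e1⟩, ⟨Kp.e2, Kp.e2, Kp.e2, Kp.e1, Kp.e2, Kp.e1, Kp.e0, Kp.e2, Kp.e1⟩, true)) ((⟨Kp.e0, Kp.e0, Kp.e1, Kp.e1, Kp.e0, Kp.e0, Kp.e1, Kp.e2, Kp.e1⟩, ⟨Kp.e0, Kp.e1, Kp.e0, Kp.e1, Kp.e1, Kp.e2, Kp.e1, Kp.e0, Kp.e0⟩, false)) ((⟨Kp.e1, Kp.e0, Kp.e0, Kp.e0, Kp.e1, Kp.e0, Kp.e0, Kp.e0, Kp.e1⟩, ⟨Kp.e1, Kp.e0, Kp.e0, Kp.e0, Kp.e1, Kp.e0, Kp.e0, Kp.e0, Kp.e1⟩, false))) (pick g00 ((⟨Kp.e0, Kp.e1, Kp.e2, Kp.e1, Kp.e2, Kp.e0, Kp.e1, Kp.e2, Kp.e2⟩, ⟨Kp.e1, Kp.e2, Kp.e2, Kp.e1, Kp.e1, Kp.e2, Kp.e0, Kp.e1, Kp.e2⟩, true)) ((⟨Kp.e0, Kp.e0, Kp.e1, Kp.e1, Kp.e0, Kp.e0, Kp.e1, Kp.e1, Kp.e2⟩, ⟨Kp.e0, Kp.e1, Kp.e0, Kp.e1, Kp.e2, Kp.e1, Kp.e1, Kp.e0, Kp.e0⟩, false)) ((⟨Kp.e1, Kp.e0, Kp.e0, Kp.e0, Kp.e1, Kp.e0, Kp.e0, Kp.e0, Kp.e1⟩, ⟨Kp.e1, Kp.e0, Kp.e0, Kp.e0, Kp.e1, Kp.e0, Kp.e0, Kp.e0, Kp.e1⟩, false)))) (pick g01 (pick g00 ((⟨Kp.e1, Kp.e0, Kp.e0, Kp.e0, Kp.e1, Kp.e0, Kp.e0, Kp.e0, Kp.e1⟩, ⟨Kp.e1, Kp.e0, Kp.e0, Kp.e0, Kp.e1, Kp.e0, Kp.e0, Kp.e0, Kp.e1⟩, false)) ((⟨Kp.e0, Kp.e1, Kp.e2, Kp.e1, Kp.e2, Kp.e1, Kp.e1, Kp.e2, Kp.e2⟩, ⟨Kp.e1, Kp.e1, Kp.e0, Kp.e1, Kp.e2, Kp.e1, Kp.e0, Kp.e2, Kp.e1⟩, true)) ((⟨Kp.e0, Kp.e0, Kp.e1, Kp.e1, Kp.e0, Kp.e2, Kp.e1, Kp.e1, Kp.e1⟩, ⟨Kp.e1, Kp.e1, Kp.e0, Kp.e1, Kp.e2, Kp.e1, Kp.e1, Kp.e0, Kp.e0⟩, false))) (pick g00 ((⟨Kp.e0, Kp.e0, Kp.e1, Kp.e1, Kp.e1, Kp.e1, Kp.e1, Kp.e2, Kp.e0⟩, ⟨Kp.e1, Kp.e2, Kp.e2, Kp.e1, Kp.e2, Kp.e1, Kp.e1, Kp.e0, Kp.e0⟩, false)) ((⟨Kp.e1, Kp.e0, Kp.e0, Kp.e0, Kp.e1, Kp.e0, Kp.e0, Kp.e0, Kp.e1⟩, ⟨Kp.e1, Kp.e0, Kp.e0, Kp.e0, Kp.e1, Kp.e0, Kp.e0, Kp.e0, Kp.e1⟩, false)) ((⟨Kp.e0, Kp.e1, Kp.e2, Kp.e1, Kp.e0, Kp.e0, Kp.e1, Kp.e0, Kp.e1⟩, ⟨Kp.e0, Kp.e1, Kp.e0, Kp.e1, Kp.e2, Kp.e1, Kp.e0, Kp.e2, Kp.e1⟩, true))) (pick g00 ((⟨Kp.e1, Kp.e0, Kp.e0, Kp.e0, Kp.e1, Kp.e0, Kp.e0, Kp.e0, Kp.e1⟩, ⟨Kp.e1, Kp.e0, Kp.e0, Kp.e0, Kp.e1, Kp.e0, Kp.e0, Kp.e0, Kp.e1⟩, false)) ((⟨Kp.e0, Kp.e1, Kp.e2, Kp.e1, Kp.e1, Kp.e0, Kp.e1, Kp.e1, Kp.e2⟩, ⟨Kp.e2, Kp.e0, Kp.e1, Kp.e1, Kp.e1, Kp.e2, Kp.e0, Kp.e1, Kp.e2⟩, true)) ((⟨Kp.e0, Kp.e0, Kp.e1, Kp.e1, Kp.e0, Kp.e2, Kp.e1, Kp.e2, Kp.e0⟩, ⟨Kp.e1, Kp.e1, Kp.e0, Kp.e1, Kp.e1, Kp.e2, Kp.e1, Kp.e0, Kp.e0⟩, false)))) (pick g01 (pick g00 ((⟨Kp.e1, Kp.e0, Kp.e0, Kp.e0, Kp.e1, Kp.e0, Kp.e0, Kp.e0, Kp.e1⟩, ⟨Kp.e1, Kp.e0, Kp.e0, Kp.e0, Kp.e1, Kp.e0, Kp.e0, Kp.e0, Kp.e1⟩, false)) ((⟨Kp.e0, Kp.e1, Kp.e2, Kp.e1, Kp.e1, Kp.e1, Kp.e1, Kp.e1, Kp.e2⟩, ⟨Kp.e2, Kp.e0, Kp.e1, Kp.e1, Kp.e2, Kp.e1, Kp.e0, Kp.e2, Kp.e1⟩, true)) ((⟨Kp.e0, Kp.e0, Kp.e1, Kp.e1, Kp.e0, Kp.e1, Kp.e1, Kp.e2, Kp.e2⟩, ⟨Kp.e2, Kp.e1, Kp.e0, Kp.e1, Kp.e1, Kp.e2, Kp.e1, Kp.e0, Kp.e0⟩, false))) (pick g00 ((⟨Kp.e1, Kp.e0, Kp.e0, Kp.e0, Kp.e1, Kp.e0, Kp.e0, Kp.e0, Kp.e1⟩, ⟨Kp.e1, Kp.e0, Kp.e0, Kp.e0, Kp.e1, Kp.e0, Kp.e0, Kp.e0, Kp.e1⟩, false)) ((⟨Kp.e0, Kp.e1, Kp.e2, Kp.e1, Kp.e2, Kp.e0, Kp.e1, Kp.e2, Kp.e1⟩, ⟨Kp.e1, Kp.e0, Kp.e1, Kp.e1, Kp.e2, Kp.e1, Kp.e0, Kp.e2, Kp.e1⟩, true)) ((⟨Kp.e0, Kp.e0, Kp.e1, Kp.e1, Kp.e0, Kp.e1, Kp.e1, Kp.e1, Kp.e0⟩, ⟨Kp.e2, Kp.e1, Kp.e0, Kp.e1, Kp.e2, Kp.e1, Kp.e1, Kp.e0, Kp.e0⟩, false))) (pick g00 ((⟨Kp.e0, Kp.e0, Kp.e1, Kp.e1, Kp.e1, Kp.e0, Kp.e1, Kp.e2, Kp.e2⟩, ⟨Kp.e2, Kp.e2, Kp.e2, Kp.e1, Kp.e2, Kp.e1, Kp.e1, Kp.e0, Kp.e0⟩, false)) ((⟨Kp.e1, Kp.e0, Kp.e0, Kp.e0, Kp.e1, Kp.e0, Kp.e0, Kp.e0, Kp.e1⟩, ⟨Kp.e1, Kp.e0, Kp.e0, Kp.e0, Kp.e1, Kp.e0, Kp.e0, Kp.e0, Kp.e1⟩, false)) ((⟨Kp.e0, Kp.e1, Kp.e2, Kp.e1, Kp.e0, Kp.e0, Kp.e1, Kp.e0, Kp.e2⟩, ⟨Kp.e0, Kp.e1, Kp.e0, Kp.e1, Kp.e1, Kp.e2, Kp.e0, Kp.e1, Kp.e2⟩, true))))) (pick g02 (pick g01 (pick g00 ((⟨Kp.e1, Kp.e0, Kp.e0, Kp.e0, Kp.e1, Kp.e0, Kp.e0, Kp.e0, Kp.e1⟩, ⟨Kp.e1, Kp.e0, Kp.e0, Kp.e0, Kp.e1, Kp.e0, Kp.e0, Kp.e0, Kp.e1⟩, false)) ((⟨Kp.e1, Kp.e0, Kp.e0, Kp.e0, Kp.e1, Kp.e0, Kp.e0, Kp.e0, Kp.e1⟩, ⟨Kp.e1, Kp.e0, Kp.e0, Kp.e0, Kp.e1, Kp.e0, Kp.e0, Kp.e0, Kp.e1⟩, false)) ((⟨Kp.e1, Kp.e0, Kp.e0, Kp.e0, Kp.e1, Kp.e0, Kp.e0, Kp.e0, Kp.e1⟩, ⟨Kp.e1, Kp.e0, Kp.e0, Kp.e0, Kp.e1, Kp.e0, Kp.e0, Kp.e0, Kp.e1⟩, false))) (pick g00 ((⟨Kp.e1, Kp.e1, Kp.e2, Kp.e1, Kp.e2, Kp.e0, Kp.e1, Kp.e2, Kp.e2⟩, ⟨Kp.e2, Kp.e1, Kp.e1, Kp.e2, Kp.e0, Kp.e1, Kp.e0, Kp.e1, Kp.e2⟩, true)) ((⟨Kp.e1, Kp.e0, Kp.e1, Kp.e1, Kp.e0, Kp.e2, Kp.e1, Kp.e2, Kp.e1⟩, ⟨Kp.e2, Kp.e2, Kp.e0, Kp.e1, Kp.e0, Kp.e2, Kp.e2, Kp.e1, Kp.e0⟩, true)) ((⟨Kp.e1, Kp.e0, Kp.e0, Kp.e1, Kp.e1, Kp.e0, Kp.e1, Kp.e1, Kp.e1⟩, ⟨Kp.e1, Kp.e0, Kp.e0, Kp.e2, Kp.e1, Kp.e0, Kp.e0, Kp.e2, Kp.e1⟩, true))) (pick g00 ((⟨Kp.e1, Kp.e1, Kp.e0, Kp.e1, Kp.e1, Kp.e1, Kp.e1, Kp.e2, Kp.e1⟩, ⟨Kp.e1, Kp.e1, Kp.e2, Kp.e0, Kp.e2, Kp.e1, Kp.e2, Kp.e1, Kp.e0⟩, true)) ((⟨Kp.e1, Kp.e0, Kp.e1, Kp.e1, Kp.e0, Kp.e2, Kp.e1, Kp.e1, Kp.e2⟩, ⟨Kp.e2, Kp.e2, Kp.e0, Kp.e0, Kp.e2, Kp.e1, Kp.e2, Kp.e1, Kp.e0⟩, true)) ((⟨Kp.e1, Kp.e0, Kp.e0, Kp.e1, Kp.e2, Kp.e0, Kp.e1, Kp.e2, Kp.e2⟩, ⟨Kp.e1, Kp.e0, Kp.e0, Kp.e1, Kp.e2, Kp.e0, Kp.e0, Kp.e1, Kp.e2⟩, true)))) (pick g01 (pick g00 ((⟨Kp.e1, Kp.e0, Kp.e2, Kp.e1, Kp.e2, Kp.e1, Kp.e1, Kp.e2, Kp.e2⟩, ⟨Kp.e1, Kp.e2, Kp.e1, Kp.e1, Kp.e0, Kp.e2, Kp.e0, Kp.e2, Kp.e1⟩, true)) ((⟨Kp.e1, Kp.e1, Kp.e0, Kp.e1, Kp.e1, Kp.e2, Kp.e1, Kp.e2, Kp.e0⟩, ⟨Kp.e2, Kp.e0, Kp.e2, Kp.e2, Kp.e0, Kp.e1, Kp.e1, Kp.e2, Kp.e0⟩, true)) ((⟨Kp.e1, Kp.e0, Kp.e0, Kp.e1, Kp.e0, Kp.e1, Kp.e1, Kp.e1, Kp.e1⟩, ⟨Kp.e1, Kp.e0, Kp.e0, Kp.e0, Kp.e2, Kp.e1, Kp.e2, Kp.e1, Kp.e0⟩, true))) (pick g00 ((⟨Kp.e1, Kp.e0, Kp.e0, Kp.e0, Kp.e1, Kp.e0, Kp.e0, Kp.e0, Kp.e1⟩, ⟨Kp.e1, Kp.e0, Kp.e0, Kp.e0, Kp.e1, Kp.e0, Kp.e0, Kp.e0, Kp.e1⟩, false)) ((⟨Kp.e1, Kp.e0, Kp.e0, Kp.e0, Kp.e1, Kp.e0, Kp.e0, Kp.e0, Kp.e1⟩, ⟨Kp.e1, Kp.e0, Kp.e0, Kp.e0, Kp.e1, Kp.e0, Kp.e0, Kp.e0, Kp.e1⟩, false)) ((⟨Kp.e1, Kp.e0, Kp.e0, Kp.e0, Kp.e1, Kp.e0, Kp.e0, Kp.e0, Kp.e1⟩, ⟨Kp.e1, Kp.e0, Kp.e0, Kp.e0, Kp.e1, Kp.e0, Kp.e0, Kp.e0, Kp.e1⟩, false))) (pick g00 ((⟨Kp.e1, Kp.e0, Kp.e2, Kp.e1, Kp.e1, Kp.e0, Kp.e1, Kp.e1, Kp.e2⟩, ⟨Kp.e1, Kp.e1, Kp.e2, Kp.e2, Kp.e0, Kp.e1, Kp.e0, Kp.e1, Kp.e2⟩, true)) ((⟨Kp.e1, Kp.e1, Kp.e1, Kp.e1, Kp.e2, Kp.e1, Kp.e1, Kp.e2, Kp.e2⟩, ⟨Kp.e2, Kp.e0, Kp.e2, Kp.e2, Kp.e1, Kp.e0, Kp.e0, Kp.e2, Kp.e1⟩, true)) ((⟨Kp.e1, Kp.e0, Kp.e0, Kp.e1, Kp.e0, Kp.e1, Kp.e1, Kp.e2, Kp.e0⟩, ⟨Kp.e1, Kp.e0, Kp.e0, Kp.e1, Kp.e0, Kp.e2, Kp.e2, Kp.e1, Kp.e0⟩, true)))) (pick g01 (pick g00 ((⟨Kp.e1, Kp.e0, Kp.e1, Kp.e1, Kp.e1, Kp.e1, Kp.e1, Kp.e1, Kp.e2⟩, ⟨Kp.e1, Kp.e1, Kp.e2, Kp.e2, Kp.e1, Kp.e0, Kp.e0, Kp.e2, Kp.e1⟩, true)) ((⟨Kp.e1, Kp.e1, Kp.e0, Kp.e1, Kp.e2, Kp.e0, Kp.e1, Kp.e2, Kp.e1⟩, ⟨Kp.e2, Kp.e2, Kp.e0, Kp.e2, Kp.e1, Kp.e0, Kp.e0, Kp.e2, Kp.e1⟩, true)) ((⟨Kp.e1, Kp.e0, Kp.e0, Kp.e1, Kp.e0, Kp.e2, Kp.e1, Kp.e2, Kp.e2⟩, ⟨Kp.e1, Kp.e0, Kp.e0, Kp.e0, Kp.e1, Kp.e2, Kp.e1, Kp.e2, Kp.e0⟩, true))) (pick g00 ((⟨Kp.e1, Kp.e0, Kp.e1, Kp.e1, Kp.e2, Kp.e0, Kp.e1, Kp.e2, Kp.e1⟩, ⟨Kp.e1, Kp.e1, Kp.e2, Kp.e1, Kp.e0, Kp.e2, Kp.e0, Kp.e2, Kp.e1⟩, true)) ((⟨Kp.e1, Kp.e1, Kp.e1, Kp.e1, Kp.e1, Kp.e2, Kp.e1, Kp.e2, Kp.e2⟩, ⟨Kp.e2, Kp.e0, Kp.e2, Kp.e0, Kp.e2, Kp.e1, Kp.e2, Kp.e1, Kp.e0⟩, true)) ((⟨Kp.e1, Kp.e0, Kp.e0, Kp.e1, Kp.e0, Kp.e2, Kp.e1, Kp.e1, Kp.e0⟩, ⟨Kp.e1, Kp.e0, Kp.e0, Kp.e2, Kp.e0, Kp.e1, Kp.e1, Kp.e2, Kp.e0⟩, true))) (pick g00 ((⟨Kp.e1, Kp.e0, Kp.e0, Kp.e0, Kp.e1, Kp.e0, Kp.e0, Kp.e0, Kp.e1⟩, ⟨Kp.e1, Kp.e0, Kp.e0, Kp.e0, Kp.e1, Kp.e0, Kp.e0, Kp.e0, Kp.e1⟩, false)) ((⟨Kp.e1, Kp.e0, Kp.e0, Kp.e0, Kp.e1, Kp.e0, Kp.e0, Kp.e0, Kp.e1⟩, ⟨Kp.e1, Kp.e0, Kp.e0, Kp.e0, Kp.e1, Kp.e0, Kp.e0, Kp.e0, Kp.e1⟩, false)) ((⟨Kp.e1, Kp.e0, Kp.e0, Kp.e0, Kp.e1, Kp.e0, Kp.e0, Kp.e0, Kp.e1⟩, ⟨Kp.e1, Kp.e0, Kp.e0, Kp.e0, Kp.e1, Kp.e0, Kp.e0, Kp.e0, Kp.e1⟩, false))))) (pick g02 (pick g01 (pick g00 ((⟨Kp.e1, Kp.e0, Kp.e0, Kp.e0, Kp.e1, Kp.e0, Kp.e0, Kp.e0, Kp.e1⟩, ⟨Kp.e1, Kp.e0, Kp.e0, Kp.e0, Kp.e1, Kp.e0, Kp.e0, Kp.e0, Kp.e1⟩, false)) ((⟨Kp.e0, Kp.e0, Kp.e1, Kp.e0, Kp.e1, Kp.e2, Kp.e1, Kp.e0, Kp.e0⟩, ⟨Kp.e0, Kp.e0, Kp.e1, Kp.e1, Kp.e1, Kp.e0, Kp.e1, Kp.e0, Kp.e0⟩, false)) ((⟨Kp.e0, Kp.e1, Kp.e0, Kp.e0, Kp.e1, Kp.e1, Kp.e1, Kp.e0, Kp.e0⟩, ⟨Kp.e0, Kp.e0, Kp.e1, Kp.e1, Kp.e0, Kp.e0, Kp.e2, Kp.e1, Kp.e0⟩, true))) (pick g00 ((⟨Kp.e0, Kp.e1, Kp.e0, Kp.e0, Kp.e1, Kp.e1, Kp.e1, Kp.e2, Kp.e1⟩, ⟨Kp.e2, Kp.e2, Kp.e1, Kp.e1, Kp.e0, Kp.e0, Kp.e2, Kp.e1, Kp.e0⟩, true)) ((⟨Kp.e1, Kp.e0, Kp.e0, Kp.e0, Kp.e1, Kp.e0, Kp.e0, Kp.e0, Kp.e1⟩, ⟨Kp.e1, Kp.e0, Kp.e0, Kp.e0, Kp.e1, Kp.e0, Kp.e0, Kp.e0, Kp.e1⟩, false)) ((⟨Kp.e0, Kp.e0, Kp.e1, Kp.e0, Kp.e1, Kp.e2, Kp.e1, Kp.e2, Kp.e1⟩, ⟨Kp.e0, Kp.e1, Kp.e1, Kp.e1, Kp.e1, Kp.e0, Kp.e1, Kp.e0, Kp.e0⟩, false))) (pick g00 ((⟨Kp.e0, Kp.e1, Kp.e0, Kp.e0, Kp.e1, Kp.e1, Kp.e1, Kp.e1, Kp.e2⟩, ⟨Kp.e1, Kp.e1, Kp.e1, Kp.e1, Kp.e0, Kp.e0, Kp.e2, Kp.e1, Kp.e0⟩, true)) ((⟨Kp.e1, Kp.e0, Kp.e0, Kp.e0, Kp.e1, Kp.e0, Kp.e0, Kp.e0, Kp.e1⟩, ⟨Kp.e1, Kp.e0, Kp.e0, Kp.e0, Kp.e1, Kp.e0, Kp.e0, Kp.e0, Kp.e1⟩, false)) ((⟨Kp.e0, Kp.e0, Kp.e1, Kp.e0, Kp.e1, Kp.e2, Kp.e1, Kp.e1, Kp.e2⟩, ⟨Kp.e0, Kp.e2, Kp.e1, Kp.e1, Kp.e1, Kp.e0, Kp.e1, Kp.e0, Kp.e0⟩, false)))) (pick g01 (pick g00 ((⟨Kp.e0, Kp.e0, Kp.e1, Kp.e0, Kp.e1, Kp.e2, Kp.e1, Kp.e1, Kp.e1⟩, ⟨Kp.e1, Kp.e2, Kp.e1, Kp.e1, Kp.e1, Kp.e0, Kp.e1, Kp.e0, Kp.e0⟩, false)) ((⟨Kp.e0, Kp.e1, Kp.e0, Kp.e0, Kp.e1, Kp.e1, Kp.e1, Kp.e1, Kp.e1⟩, ⟨Kp.e0, Kp.e2, Kp.e1, Kp.e1, Kp.e0, Kp.e0, Kp.e2, Kp.e1, Kp.e0⟩, true)) ((⟨Kp.e1, Kp.e0, Kp.e0, Kp.e0, Kp.e1, Kp.e0, Kp.e0, Kp.e0, Kp.e1⟩, ⟨Kp.e1, Kp.e0, Kp.e0, Kp.e0, Kp.e1, Kp.e0, Kp.e0, Kp.e0, Kp.e1⟩, false))) (pick g00 ((⟨Kp.e0, Kp.e1, Kp.e0, Kp.e0, Kp.e1, Kp.e1, Kp.e1, Kp.e0, Kp.e2⟩, ⟨Kp.e2, Kp.e1, Kp.e1, Kp.e1, Kp.e0, Kp.e0, Kp.e2, Kp.e1, Kp.e0⟩, true)) ((⟨Kp.e1, Kp.e0, Kp.e0, Kp.e0, Kp.e1, Kp.e0, Kp.e0, Kp.e0, Kp.e1⟩, ⟨Kp.e1, Kp.e0, Kp.e0, Kp.e0, Kp.e1, Kp.e0, Kp.e0, Kp.e0, Kp.e1⟩, false)) ((⟨Kp.e0, Kp.e0, Kp.e1, Kp.e0, Kp.e1, Kp.e2, Kp.e1, Kp.e0, Kp.e2⟩, ⟨Kp.e1, Kp.e0, Kp.e1, Kp.e1, Kp.e1, Kp.e0, Kp.e1, Kp.e0, Kp.e0⟩, false))) (pick g00 ((⟨Kp.e0, Kp.e0, Kp.e1, Kp.e0, Kp.e1, Kp.e2, Kp.e1, Kp.e2, Kp.e0⟩, ⟨Kp.e1, Kp.e1, Kp.e1, Kp.e1, Kp.e1, Kp.e0, Kp.e1, Kp.e0, Kp.e0⟩, false)) ((⟨Kp.e0, Kp.e1, Kp.e0, Kp.e0, Kp.e1, Kp.e1, Kp.e1, Kp.e2, Kp.e0⟩, ⟨Kp.e1, Kp.e0, Kp.e1, Kp.e1, Kp.e0, Kp.e0, Kp.e2, Kp.e1, Kp.e0⟩, true)) ((⟨Kp.e1, Kp.e0, Kp.e0, Kp.e0, Kp.e1, Kp.e0, Kp.e0, Kp.e0, Kp.e1⟩, ⟨Kp.e1, Kp.e0, Kp.e0, Kp.e0, Kp.e1, Kp.e0, Kp.e0, Kp.e0, Kp.e1⟩, false)))) (pick g01 (pick g00 ((⟨Kp.e0, Kp.e0, Kp.e1, Kp.e0, Kp.e1, Kp.e2, Kp.e1, Kp.e2, Kp.e2⟩, ⟨Kp.e2, Kp.e1, Kp.e1, Kp.e1, Kp.e1, Kp.e0, Kp.e1, Kp.e0, Kp.e0⟩, false)) ((⟨Kp.e0, Kp.e1, Kp.e0, Kp.e0, Kp.e1, Kp.e1, Kp.e1, Kp.e2, Kp.e2⟩, ⟨Kp.e0, Kp.e1, Kp.e1, Kp.e1, Kp.e0, Kp.e0, Kp.e2, Kp.e1, Kp.e0⟩, true)) ((⟨Kp.e1, Kp.e0, Kp.e0, Kp.e0, Kp.e1, Kp.e0, Kp.e0, Kp.e0, Kp.e1⟩, ⟨Kp.e1, Kp.e0, Kp.e0, Kp.e0, Kp.e1, Kp.e0, Kp.e0, Kp.e0, Kp.e1⟩, false))) (pick g00 ((⟨Kp.e0, Kp.e0, Kp.e1, Kp.e0, Kp.e1, Kp.e2, Kp.e1, Kp.e1, Kp.e0⟩, ⟨Kp.e2, Kp.e2, Kp.e1, Kp.e1, Kp.e1, Kp.e0, Kp.e1, Kp.e0, Kp.e0⟩, false)) ((⟨Kp.e0, Kp.e1, Kp.e0, Kp.e0, Kp.e1, Kp.e1, Kp.e1, Kp.e1, Kp.e0⟩, ⟨Kp.e2, Kp.e0, Kp.e1, Kp.e1, Kp.e0, Kp.e0, Kp.e2, Kp.e1, Kp.e0⟩, true)) ((⟨Kp.e1, Kp.e0, Kp.e0, Kp.e0, Kp.e1, Kp.e0, Kp.e0, Kp.e0, Kp.e1⟩, ⟨Kp.e1, Kp.e0, Kp.e0, Kp.e0, Kp.e1, Kp.e0, Kp.e0, Kp.e0, Kp.e1⟩, false))) (pick g00 ((⟨Kp.e0, Kp.e1, Kp.e0, Kp.e0, Kp.e1, Kp.e1, Kp.e1, Kp.e0, Kp.e1⟩, ⟨Kp.e1, Kp.e2, Kp.e1, Kp.e1, Kp.e0, Kp.e0, Kp.e2, Kp.e1, Kp.e0⟩, true)) ((⟨Kp.e1, Kp.e0, Kp.e0, Kp.e0, Kp.e1, Kp.e0, Kp.e0, Kp.e0, Kp.e1⟩, ⟨Kp.e1, Kp.e0, Kp.e0, Kp.e0, Kp.e1, Kp.e0, Kp.e0, Kp.e0, Kp.e1⟩, false)) ((⟨Kp.e0, Kp.e0, Kp.e1, Kp.e0, Kp.e1, Kp.e2, Kp.e1, Kp.e0, Kp.e1⟩, ⟨Kp.e2, Kp.e0, Kp.e1, Kp.e1, Kp.e1, Kp.e0, Kp.e1, Kp.e0, Kp.e0⟩, false)))))) (pick g11 (pick g02 (pick g01 (pick g00 ((⟨Kp.e1, Kp.e0, Kp.e0, Kp.e0, Kp.e1, Kp.e0, Kp.e0, Kp.e0, Kp.e1⟩, ⟨Kp.e1, Kp.e0, Kp.e0, Kp.e0, Kp.e1, Kp.e0, Kp.e0, Kp.e0, Kp.e1⟩, false)) ((⟨Kp.e0, Kp.e1, Kp.e1, Kp.e1, Kp.e0, Kp.e1, Kp.e1, Kp.e0, Kp.e2⟩, ⟨Kp.e0, Kp.e2, Kp.e2, Kp.e1, Kp.e1, Kp.e2, Kp.e0, Kp.e2, Kp.e1⟩, true)) ((⟨Kp.e0, Kp.e0, Kp.e1, Kp.e1, Kp.e1, Kp.e1, Kp.e1, Kp.e2, Kp.e2⟩, ⟨Kp.e0, Kp.e2, Kp.e2, Kp.e2, Kp.e2, Kp.e1, Kp.e1, Kp.e0, Kp.e0⟩, false))) (pick g00 ((⟨Kp.e0, Kp.e1, Kp.e1, Kp.e1, Kp.e1, Kp.e0, Kp.e1, Kp.e1, Kp.e2⟩, ⟨Kp.e2, Kp.e2, Kp.e2, Kp.e1, Kp.e2, Kp.e1, Kp.e0, Kp.e1, Kp.e2⟩, true)) ((⟨Kp.e0, Kp.e0, Kp.e1, Kp.e1, Kp.e0, Kp.e0, Kp.e1, Kp.e2, Kp.e2⟩, ⟨Kp.e0, Kp.e1, Kp.e0, Kp.e2, Kp.e1, Kp.e2, Kp.e1, Kp.e0, Kp.e0⟩, false)) ((⟨Kp.e1, Kp.e0, Kp.e0, Kp.e0, Kp.e1, Kp.e0, Kp.e0, Kp.e0, Kp.e1⟩, ⟨Kp.e1, Kp.e0, Kp.e0, Kp.e0, Kp.e1, Kp.e0, Kp.e0, Kp.e0, Kp.e1⟩, false))) (pick g00 ((⟨Kp.e0, Kp.e1, Kp.e1, Kp.e1, Kp.e2, Kp.e0, Kp.e1, Kp.e2, Kp.e1⟩, ⟨Kp.e1, Kp.e2, Kp.e2, Kp.e1, Kp.e1, Kp.e2, Kp.e0, Kp.e2, Kp.e1⟩, true)) ((⟨Kp.e0, Kp.e0, Kp.e1, Kp.e1, Kp.e0, Kp.e0, Kp.e1, Kp.e1, Kp.e1⟩, ⟨Kp.e0, Kp.e1, Kp.e0, Kp.e2, Kp.e2, Kp.e1, Kp.e1, Kp.e0, Kp.e0⟩, false)) ((⟨Kp.e1, Kp.e0, Kp.e0, Kp.e0, Kp.e1, Kp.e0, Kp.e0, Kp.e0, Kp.e1⟩, ⟨Kp.e1, Kp.e0, Kp.e0, Kp.e0, Kp.e1, Kp.e0, Kp.e0, Kp.e0, Kp.e1⟩, false)))) (pick g01 (pick g00 ((⟨Kp.e1, Kp.e0, Kp.e0, Kp.e0, Kp.e1, Kp.e0, Kp.e0, Kp.e0, Kp.e1⟩, ⟨Kp.e1, Kp.e0, Kp.e0, Kp.e0, Kp.e1, Kp.e0, Kp.e0, Kp.e0, Kp.e1⟩, false)) ((⟨Kp.e0, Kp.e1, Kp.e1, Kp.e1, Kp.e1, Kp.e1, Kp.e1, Kp.e1, Kp.e2⟩, ⟨Kp.e2, Kp.e1, Kp.e0, Kp.e1, Kp.e1, Kp.e2, Kp.e0, Kp.e2, Kp.e1⟩, true)) ((⟨Kp.e0, Kp.e0, Kp.e1, Kp.e1, Kp.e0, Kp.e2, Kp.e1, Kp.e2, Kp.e1⟩, ⟨Kp.e1, Kp.e1, Kp.e0, Kp.e2, Kp.e1, Kp.e2, Kp.e1, Kp.e0, Kp.e0⟩, false))) (pick g00 ((⟨Kp.e1, Kp.e0, Kp.e0, Kp.e0, Kp.e1, Kp.e0, Kp.e0, Kp.e0, Kp.e1⟩, ⟨Kp.e1, Kp.e0, Kp.e0, Kp.e0, Kp.e1, Kp.e0, Kp.e0, Kp.e0, Kp.e1⟩, false)) ((⟨Kp.e0, Kp.e1, Kp.e1, Kp.e1, Kp.e2, Kp.e0, Kp.e1, Kp.e2, Kp.e2⟩, ⟨Kp.e1, Kp.e0, Kp.e1, Kp.e1, Kp.e2, Kp.e1, Kp.e0, Kp.e1, Kp.e2⟩, true)) ((⟨Kp.e0, Kp.e0, Kp.e1, Kp.e1, Kp.e0, Kp.e2, Kp.e1, Kp.e1, Kp.e0⟩, ⟨Kp.e1, Kp.e1, Kp.e0, Kp.e2, Kp.e2, Kp.e1, Kp.e1, Kp.e0, Kp.e0⟩, false))) (pick g00 ((⟨Kp.e0, Kp.e0, Kp.e1, Kp.e1, Kp.e1, Kp.e0, Kp.e1, Kp.e2, Kp.e1⟩, ⟨Kp.e1, Kp.e2, Kp.e2, Kp.e2, Kp.e2, Kp.e1, Kp.e1, Kp.e0, Kp.e0⟩, false)) ((⟨Kp.e1, Kp.e0, Kp.e0, Kp.e0, Kp.e1, Kp.e0, Kp.e0, Kp.e0, Kp.e1⟩, ⟨Kp.e1, Kp.e0, Kp.e0, Kp.e0, Kp.e1, Kp.e0, Kp.e0, Kp.e0, Kp.e1⟩, false)) ((⟨Kp.e0, Kp.e1, Kp.e1, Kp.e1, Kp.e0, Kp.e0, Kp.e1, Kp.e0, Kp.e1⟩, ⟨Kp.e0, Kp.e1, Kp.e0, Kp.e1, Kp.e1, Kp.e2, Kp.e0, Kp.e2, Kp.e1⟩, true)))) (pick g01 (pick g00 ((⟨Kp.e1, Kp.e0, Kp.e0, Kp.e0, Kp.e1, Kp.e0, Kp.e0, Kp.e0, Kp.e1⟩, ⟨Kp.e1, Kp.e0, Kp.e0, Kp.e0, Kp.e1, Kp.e0, Kp.e0, Kp.e0, Kp.e1⟩, false)) ((⟨Kp.e0, Kp.e1, Kp.e1, Kp.e1, Kp.e2, Kp.e1, Kp.e1, Kp.e2, Kp.e2⟩, ⟨Kp.e1, Kp.e0, Kp.e1, Kp.e1, Kp.e1, Kp.e2, Kp.e0, Kp.e2, Kp.e1⟩, true)) ((⟨Kp.e0, Kp.e0, Kp.e1, Kp.e1, Kp.e0, Kp.e1, Kp.e1, Kp.e1, Kp.e2⟩, ⟨Kp.e2, Kp.e1, Kp.e0, Kp.e2, Kp.e2, Kp.e1, Kp.e1, Kp.e0, Kp.e0⟩, false))) (pick g00 ((⟨Kp.e0, Kp.e0, Kp.e1, Kp.e1, Kp.e1, Kp.e2, Kp.e1, Kp.e2, Kp.e0⟩, ⟨Kp.e2, Kp.e2, Kp.e2, Kp.e2, Kp.e2, Kp.e1, Kp.e1, Kp.e0, Kp.e0⟩, false)) ((⟨Kp.e1, Kp.e0, Kp.e0, Kp.e0, Kp.e1, Kp.e0, Kp.e0, Kp.e0, Kp.e1⟩, ⟨Kp.e1, Kp.e0, Kp.e0, Kp.e0, Kp.e1, Kp.e0, Kp.e0, Kp.e0, Kp.e1⟩, false)) ((⟨Kp.e0, Kp.e1, Kp.e1, Kp.e1, Kp.e0, Kp.e0, Kp.e1, Kp.e0, Kp.e2⟩, ⟨Kp.e0, Kp.e1, Kp.e0, Kp.e1, Kp.e2, Kp.e1, Kp.e0, Kp.e1, Kp.e2⟩, true))) (pick g00 ((⟨Kp.e1, Kp.e0, Kp.e0, Kp.e0, Kp.e1, Kp.e0, Kp.e0, Kp.e0, Kp.e1⟩, ⟨Kp.e1, Kp.e0, Kp.e0, Kp.e0, Kp.e1, Kp.e0, Kp.e0, Kp.e0, Kp.e1⟩, false)) ((⟨Kp.e0, Kp.e1, Kp.e1, Kp.e1, Kp.e1, Kp.e0, Kp.e1, Kp.e1, Kp.e1⟩, ⟨Kp.e2, Kp.e0, Kp.e1, Kp.e1, Kp.e1, Kp.e2, Kp.e0, Kp.e2, Kp.e1⟩, true)) ((⟨Kp.e0, Kp.e0, Kp.e1, Kp.e1, Kp.e0, Kp.e1, Kp.e1, Kp.e2, Kp.e0⟩, ⟨Kp.e2, Kp.e1, Kp.e0, Kp.e2, Kp.e1, Kp.e2, Kp.e1, Kp.e0, Kp.e0⟩, false))))) (pick g02 (pick g01 (pick g00 ((⟨Kp.e1, Kp.e0, Kp.e0, Kp.e0, Kp.e1, Kp.e0, Kp.e0, Kp.e0, Kp.e1⟩, ⟨Kp.e1, Kp.e0, Kp.e0, Kp.e0, Kp.e1, Kp.e0, Kp.e0, Kp.e0, Kp.e1⟩, false)) ((⟨Kp.e1, Kp.e0, Kp.e0, Kp.e0, Kp.e1, Kp.e0, Kp.e0, Kp.e0, Kp.e1⟩, ⟨Kp.e1, Kp.e0, Kp.e0, Kp.e0, Kp.e1, Kp.e0, Kp.e0, Kp.e0, Kp.e1⟩, false)) ((⟨Kp.e1, Kp.e0, Kp.e0, Kp.e0, Kp.e1, Kp.e0, Kp.e0, Kp.e0, Kp.e1⟩, ⟨Kp.e1, Kp.e0, Kp.e0, Kp.e0, Kp.e1, Kp.e0, Kp.e0, Kp.e0, Kp.e1⟩, false))) (pick g00 ((⟨Kp.e1, Kp.e1, Kp.e1, Kp.e1, Kp.e2, Kp.e0, Kp.e1, Kp.e2, Kp.e1⟩, ⟨Kp.e2, Kp.e1, Kp.e1, Kp.e2, Kp.e0, Kp.e1, Kp.e0, Kp.e2, Kp.e1⟩, true)) ((⟨Kp.e1, Kp.e0, Kp.e1, Kp.e1, Kp.e0, Kp.e2, Kp.e1, Kp.e2, Kp.e2⟩, ⟨Kp.e2, Kp.e2, Kp.e0, Kp.e0, Kp.e1, Kp.e2, Kp.e2, Kp.e1, Kp.e0⟩, true)) ((⟨Kp.e1, Kp.e0, Kp.e0, Kp.e1, Kp.e1, Kp.e0, Kp.e1, Kp.e1, Kp.e2⟩, ⟨Kp.e1, Kp.e0, Kp.e0, Kp.e2, Kp.e1, Kp.e0, Kp.e0, Kp.e1, Kp.e2⟩, true))) (pick g00 ((⟨Kp.e1, Kp.e1, Kp.e0, Kp.e1, Kp.e1, Kp.e2, Kp.e1, Kp.e2, Kp.e2⟩, ⟨Kp.e1, Kp.e1, Kp.e2, Kp.e0, Kp.e2, Kp.e1, Kp.e1, Kp.e2, Kp.e0⟩, true)) ((⟨Kp.e1, Kp.e0, Kp.e1, Kp.e1, Kp.e0, Kp.e2, Kp.e1, Kp.e1, Kp.e1⟩, ⟨Kp.e2, Kp.e2, Kp.e0, Kp.e2, Kp.e0, Kp.e1, Kp.e2, Kp.e1, Kp.e0⟩, true)) ((⟨Kp.e1, Kp.e0, Kp.e0, Kp.e1, Kp.e2, Kp.e0, Kp.e1, Kp.e2, Kp.e1⟩, ⟨Kp.e1, Kp.e0, Kp.e0, Kp.e1, Kp.e2, Kp.e0, Kp.e0, Kp.e2, Kp.e1⟩, true)))) (pick g01 (pick g00 ((⟨Kp.e1, Kp.e0, Kp.e2, Kp.e1, Kp.e1, Kp.e1, Kp.e1, Kp.e1, Kp.e2⟩, ⟨Kp.e1, Kp.e2, Kp.e1, Kp.e2, Kp.e0, Kp.e1, Kp.e0, Kp.e2, Kp.e1⟩, true)) ((⟨Kp.e1, Kp.e1, Kp.e0, Kp.e1, Kp.e2, Kp.e0, Kp.e1, Kp.e2, Kp.e2⟩, ⟨Kp.e2, Kp.e2, Kp.e0, Kp.e2, Kp.e1, Kp.e0, Kp.e0, Kp.e1, Kp.e2⟩, true)) ((⟨Kp.e1, Kp.e0, Kp.e0, Kp.e1, Kp.e0, Kp.e1, Kp.e1, Kp.e2, Kp.e1⟩, ⟨Kp.e1, Kp.e0, Kp.e0, Kp.e0, Kp.e1, Kp.e2, Kp.e2, Kp.e1, Kp.e0⟩, true))) (pick g00 ((⟨Kp.e1, Kp.e0, Kp.e2, Kp.e1, Kp.e2, Kp.e0, Kp.e1, Kp.e2, Kp.e2⟩, ⟨Kp.e1, Kp.e1, Kp.e2, Kp.e1, Kp.e0, Kp.e2, Kp.e0, Kp.e1, Kp.e2⟩, true)) ((⟨Kp.e1, Kp.e1, Kp.e1, Kp.e1, Kp.e1, Kp.e2, Kp.e1, Kp.e2, Kp.e1⟩, ⟨Kp.e0, Kp.e2, Kp.e2, Kp.e2, Kp.e0, Kp.e1, Kp.e2, Kp.e1, Kp.e0⟩, true)) ((⟨Kp.e1, Kp.e0, Kp.e0, Kp.e1, Kp.e0, Kp.e1, Kp.e1, Kp.e1, Kp.e0⟩, ⟨Kp.e1, Kp.e0, Kp.e0, Kp.e2, Kp.e0, Kp.e1, Kp.e2, Kp.e1, Kp.e0⟩, true))) (pick g00 ((⟨Kp.e1, Kp.e0, Kp.e0, Kp.e0, Kp.e1, Kp.e0, Kp.e0, Kp.e0, Kp.e1⟩, ⟨Kp.e1, Kp.e0, Kp.e0, Kp.e0, Kp.e1, Kp.e0, Kp.e0, Kp.e0, Kp.e1⟩, false)) ((⟨Kp.e1, Kp.e0, Kp.e0, Kp.e0, Kp.e1, Kp.e0, Kp.e0, Kp.e0, Kp.e1⟩, ⟨Kp.e1, Kp.e0, Kp.e0, Kp.e0, Kp.e1, Kp.e0, Kp.e0, Kp.e0, Kp.e1⟩, false)) ((⟨Kp.e1, Kp.e0, Kp.e0, Kp.e0, Kp.e1, Kp.e0, Kp.e0, Kp.e0, Kp.e1⟩, ⟨Kp.e1, Kp.e0, Kp.e0, Kp.e0, Kp.e1, Kp.e0, Kp.e0, Kp.e0, Kp.e1⟩, false)))) (pick g01 (pick g00 ((⟨Kp.e1, Kp.e0, Kp.e1, Kp.e1, Kp.e2, Kp.e1, Kp.e1, Kp.e2, Kp.e2⟩, ⟨Kp.e1, Kp.e1, Kp.e2, Kp.e1, Kp.e2, Kp.e0, Kp.e0, Kp.e2, Kp.e1⟩, true)) ((⟨Kp.e1, Kp.e1, Kp.e0, Kp.e1, Kp.e1, Kp.e1, Kp.e1, Kp.e2, Kp.e0⟩, ⟨Kp.e2, Kp.e0, Kp.e2, Kp.e2, Kp.e0, Kp.e1, Kp.e2, Kp.e1, Kp.e0⟩, true)) ((⟨Kp.e1, Kp.e0, Kp.e0, Kp.e1, Kp.e0, Kp.e2, Kp.e1, Kp.e1, Kp.e2⟩, ⟨Kp.e1, Kp.e0, Kp.e0, Kp.e0, Kp.e2, Kp.e1, Kp.e1, Kp.e2, Kp.e0⟩, true))) (pick g00 ((⟨Kp.e1, Kp.e0, Kp.e0, Kp.e0, Kp.e1, Kp.e0, Kp.e0, Kp.e0, Kp.e1⟩, ⟨Kp.e1, Kp.e0, Kp.e0, Kp.e0, Kp.e1, Kp.e0, Kp.e0, Kp.e0, Kp.e1⟩, false)) ((⟨Kp.e1, Kp.e0, Kp.e0, Kp.e0, Kp.e1, Kp.e0, Kp.e0, Kp.e0, Kp.e1⟩, ⟨Kp.e1, Kp.e0, Kp.e0, Kp.e0, Kp.e1, Kp.e0, Kp.e0, Kp.e0, Kp.e1⟩, false)) ((⟨Kp.e1, Kp.e0, Kp.e0, Kp.e0, Kp.e1, Kp.e0, Kp.e0, Kp.e0, Kp.e1⟩, ⟨Kp.e1, Kp.e0, Kp.e0, Kp.e0, Kp.e1, Kp.e0, Kp.e0, Kp.e0, Kp.e1⟩, false))) (pick g00 ((⟨Kp.e1, Kp.e0, Kp.e1, Kp.e1, Kp.e1, Kp.e0, Kp.e1, Kp.e1, Kp.e1⟩, ⟨Kp.e1, Kp.e1, Kp.e2, Kp.e2, Kp.e0, Kp.e1, Kp.e0, Kp.e2, Kp.e1⟩, true)) ((⟨Kp.e1, Kp.e1, Kp.e2, Kp.e1, Kp.e2, Kp.e1, Kp.e1, Kp.e2, Kp.e2⟩, ⟨Kp.e2, Kp.e2, Kp.e0, Kp.e2, Kp.e0, Kp.e1, Kp.e0, Kp.e2, Kp.e1⟩, true)) ((⟨Kp.e1, Kp.e0, Kp.e0, Kp.e1, Kp.e0, Kp.e2, Kp.e1, Kp.e2, Kp.e0⟩, ⟨Kp.e1, Kp.e0, Kp.e0, Kp.e1, Kp.e0, Kp.e2, Kp.e1, Kp.e2, Kp.e0⟩, true))))) (pick g02 (pick g01 (pick g00 ((⟨Kp.e1, Kp.e0, Kp.e0, Kp.e0, Kp.e1, Kp.e0, Kp.e0, Kp.e0, Kp.e1⟩, ⟨Kp.e1, Kp.e0, Kp.e0, Kp.e0, Kp.e1, Kp.e0, Kp.e0, Kp.e0, Kp.e1⟩, false)) ((⟨Kp.e0, Kp.e0, Kp.e1, Kp.e0, Kp.e1, Kp.e1, Kp.e1, Kp.e0, Kp.e0⟩, ⟨Kp.e0, Kp.e0, Kp.e1, Kp.e2, Kp.e1, Kp.e0, Kp.e1, Kp.e0, Kp.e0⟩, false)) ((⟨Kp.e0, Kp.e1, Kp.e0, Kp.e0, Kp.e1, Kp.e2, Kp.e1, Kp.e0, Kp.e0⟩, ⟨Kp.e0, Kp.e0, Kp.e1, Kp.e1, Kp.e0, Kp.e0, Kp.e1, Kp.e2, Kp.e0⟩, true))) (pick g00 ((⟨Kp.e0, Kp.e1, Kp.e0, Kp.e0, Kp.e1, Kp.e2, Kp.e1, Kp.e2, Kp.e2⟩, ⟨Kp.e2, Kp.e2, Kp.e1, Kp.e1, Kp.e0, Kp.e0, Kp.e1, Kp.e2, Kp.e0⟩, true)) ((⟨Kp.e1, Kp.e0, Kp.e0, Kp.e0, Kp.e1, Kp.e0, Kp.e0, Kp.e0, Kp.e1⟩, ⟨Kp.e1, Kp.e0, Kp.e0, Kp.e0, Kp.e1, Kp.e0, Kp.e0, Kp.e0, Kp.e1⟩, false)) ((⟨Kp.e0, Kp.e0, Kp.e1, Kp.e0, Kp.e1, Kp.e1, Kp.e1, Kp.e2, Kp.e2⟩, ⟨Kp.e0, Kp.e1, Kp.e1, Kp.e2, Kp.e1, Kp.e0, Kp.e1, Kp.e0, Kp.e0⟩, false))) (pick g00 ((⟨Kp.e0, Kp.e1, Kp.e0, Kp.e0, Kp.e1, Kp.e2, Kp.e1, Kp.e1, Kp.e1⟩, ⟨Kp.e1, Kp.e1, Kp.e1, Kp.e1, Kp.e0, Kp.e0, Kp.e1, Kp.e2, Kp.e0⟩, true)) ((⟨Kp.e1, Kp.e0, Kp.e0, Kp.e0, Kp.e1, Kp.e0, Kp.e0, Kp.e0, Kp.e1⟩, ⟨Kp.e1, Kp.e0, Kp.e0, Kp.e0, Kp.e1, Kp.e0, Kp.e0, Kp.e0, Kp.e1⟩, false)) ((⟨Kp.e0, Kp.e0, Kp.e1, Kp.e0, Kp.e1, Kp.e1, Kp.e1, Kp.e1, Kp.e1⟩, ⟨Kp.e0, Kp.e2, Kp.e1, Kp.e2, Kp.e1, Kp.e0, Kp.e1, Kp.e0, Kp.e0⟩, false)))) (pick g01 (pick g00 ((⟨Kp.e0, Kp.e0, Kp.e1, Kp.e0, Kp.e1, Kp.e1, Kp.e1, Kp.e2, Kp.e1⟩, ⟨Kp.e1, Kp.e1, Kp.e1, Kp.e2, Kp.e1, Kp.e0, Kp.e1, Kp.e0, Kp.e0⟩, false)) ((⟨Kp.e0, Kp.e1, Kp.e0, Kp.e0, Kp.e1, Kp.e2, Kp.e1, Kp.e2, Kp.e1⟩, ⟨Kp.e0, Kp.e1, Kp.e1, Kp.e1, Kp.e0, Kp.e0, Kp.e1, Kp.e2, Kp.e0⟩, true)) ((⟨Kp.e1, Kp.e0, Kp.e0, Kp.e0, Kp.e1, Kp.e0, Kp.e0, Kp.e0, Kp.e1⟩, ⟨Kp.e1, Kp.e0, Kp.e0, Kp.e0, Kp.e1, Kp.e0, Kp.e0, Kp.e0, Kp.e1⟩, false))) (pick g00 ((⟨Kp.e0, Kp.e0, Kp.e1, Kp.e0, Kp.e1, Kp.e1, Kp.e1, Kp.e1, Kp.e0⟩, ⟨Kp.e1, Kp.e2, Kp.e1, Kp.e2, Kp.e1, Kp.e0, Kp.e1, Kp.e0, Kp.e0⟩, false)) ((⟨Kp.e0, Kp.e1, Kp.e0, Kp.e0, Kp.e1, Kp.e2, Kp.e1, Kp.e1, Kp.e0⟩, ⟨Kp.e2, Kp.e0, Kp.e1, Kp.e1, Kp.e0, Kp.e0, Kp.e1, Kp.e2, Kp.e0⟩, true)) ((⟨Kp.e1, Kp.e0, Kp.e0, Kp.e0, Kp.e1, Kp.e0, Kp.e0, Kp.e0, Kp.e1⟩, ⟨Kp.e1, Kp.e0, Kp.e0, Kp.e0, Kp.e1, Kp.e0, Kp.e0, Kp.e0, Kp.e1⟩, false))) (pick g00 ((⟨Kp.e0, Kp.e1, Kp.e0, Kp.e0, Kp.e1, Kp.e2, Kp.e1, Kp.e0, Kp.e2⟩, ⟨Kp.e1, Kp.e2, Kp.e1, Kp.e1, Kp.e0, Kp.e0, Kp.e1, Kp.e2, Kp.e0⟩, true)) ((⟨Kp.e1, Kp.e0, Kp.e0, Kp.e0, Kp.e1, Kp.e0, Kp.e0, Kp.e0, Kp.e1⟩, ⟨Kp.e1, Kp.e0, Kp.e0, Kp.e0, Kp.e1, Kp.e0, Kp.e0, Kp.e0, Kp.e1⟩, false)) ((⟨Kp.e0, Kp.e0, Kp.e1, Kp.e0, Kp.e1, Kp.e1, Kp.e1, Kp.e0, Kp.e2⟩, ⟨Kp.e1, Kp.e0, Kp.e1, Kp.e2, Kp.e1, Kp.e0, Kp.e1, Kp.e0, Kp.e0⟩, false)))) (pick g01 (pick g00 ((⟨Kp.e0, Kp.e0, Kp.e1, Kp.e0, Kp.e1, Kp.e1, Kp.e1, Kp.e1, Kp.e2⟩, ⟨Kp.e2, Kp.e2, Kp.e1, Kp.e2, Kp.e1, Kp.e0, Kp.e1, Kp.e0, Kp.e0⟩, false)) ((⟨Kp.e0, Kp.e1, Kp.e0, Kp.e0, Kp.e1, Kp.e2, Kp.e1, Kp.e1, Kp.e2⟩, ⟨Kp.e0, Kp.e2, Kp.e1, Kp.e1, Kp.e0, Kp.e0, Kp.e1, Kp.e2, Kp.e0⟩, true)) ((⟨Kp.e1, Kp.e0, Kp.e0, Kp.e0, Kp.e1, Kp.e0, Kp.e0, Kp.e0, Kp.e1⟩, ⟨Kp.e1, Kp.e0, Kp.e0, Kp.e0, Kp.e1, Kp.e0, Kp.e0, Kp.e0, Kp.e1⟩, false))) (pick g00 ((⟨Kp.e0, Kp.e1, Kp.e0, Kp.e0, Kp.e1, Kp.e2, Kp.e1, Kp.e0, Kp.e1⟩, ⟨Kp.e2, Kp.e1, Kp.e1, Kp.e1, Kp.e0, Kp.e0, Kp.e1, Kp.e2, Kp.e0⟩, true)) ((⟨Kp.e1, Kp.e0, Kp.e0, Kp.e0, Kp.e1, Kp.e0, Kp.e0, Kp.e0, Kp.e1⟩, ⟨Kp.e1, Kp.e0, Kp.e0, Kp.e0, Kp.e1, Kp.e0, Kp.e0, Kp.e0, Kp.e1⟩, false)) ((⟨Kp.e0, Kp.e0, Kp.e1, Kp.e0, Kp.e1, Kp.e1, Kp.e1, Kp.e0, Kp.e1⟩, ⟨Kp.e2, Kp.e0, Kp.e1, Kp.e2, Kp.e1, Kp.e0, Kp.e1, Kp.e0, Kp.e0⟩, false))) (pick g00 ((⟨Kp.e0, Kp.e0, Kp.e1, Kp.e0, Kp.e1, Kp.e1, Kp.e1, Kp.e2, Kp.e0⟩, ⟨Kp.e2, Kp.e1, Kp.e1, Kp.e2, Kp.e1, Kp.e0, Kp.e1, Kp.e0, Kp.e0⟩, false)) ((⟨Kp.e0, Kp.e1, Kp.e0, Kp.e0, Kp.e1, Kp.e2, Kp.e1, Kp.e2, Kp.e0⟩, ⟨Kp.e1, Kp.e0, Kp.e1, Kp.e1, Kp.e0, Kp.e0, Kp.e1, Kp.e2, Kp.e0⟩, true)) ((⟨Kp.e1, Kp.e0, Kp.e0, Kp.e0, Kp.e1, Kp.e0, Kp.e0, Kp.e0, Kp.e1⟩, ⟨Kp.e1, Kp.e0, Kp.e0, Kp.e0, Kp.e1, Kp.e0, Kp.e0, Kp.e0, Kp.e1⟩, false))))))) (pick g12 (pick g11 (pick g02 (pick g01 (pick g00 ((⟨Kp.e1, Kp.e0, Kp.e0, Kp.e0, Kp.e1, Kp.e0, Kp.e0, Kp.e0, Kp.e1⟩, ⟨Kp.e1, Kp.e0, Kp.e0, Kp.e0, Kp.e1, Kp.e0, Kp.e0, Kp.e0, Kp.e1⟩, false)) ((⟨Kp.e1, Kp.e0, Kp.e0, Kp.e0, Kp.e1, Kp.e0, Kp.e0, Kp.e0, Kp.e1⟩, ⟨Kp.e1, Kp.e0, Kp.e0, Kp.e0, Kp.e1, Kp.e0, Kp.e0, Kp.e0, Kp.e1⟩, false)) ((⟨Kp.e1, Kp.e0, Kp.e0, Kp.e0, Kp.e1, Kp.e0, Kp.e0, Kp.e0, Kp.e1⟩, ⟨Kp.e1, Kp.e0, Kp.e0, Kp.e0, Kp.e1, Kp.e0, Kp.e0, Kp.e0, Kp.e1⟩, false))) (pick g00 ((⟨Kp.e1, Kp.e1, Kp.e1, Kp.e1, Kp.e1, Kp.e2, Kp.e1, Kp.e2, Kp.e0⟩, ⟨Kp.e1, Kp.e1, Kp.e2, Kp.e1, Kp.e1, Kp.e1, Kp.e2, Kp.e1, Kp.e0⟩, false)) ((⟨Kp.e1, Kp.e0, Kp.e0, Kp.e1, Kp.e2, Kp.e1, Kp.e1, Kp.e2, Kp.e2⟩, ⟨Kp.e1, Kp.e0, Kp.e0, Kp.e1, Kp.e1, Kp.e1, Kp.e0, Kp.e2, Kp.e1⟩, false)) ((⟨Kp.e1, Kp.e0, Kp.e1, Kp.e1, Kp.e0, Kp.e2, Kp.e1, Kp.e1, Kp.e0⟩, ⟨Kp.e2, Kp.e2, Kp.e0, Kp.e1, Kp.e1, Kp.e1, Kp.e2, Kp.e1, Kp.e0⟩, false))) (pick g00 ((⟨Kp.e1, Kp.e1, Kp.e0, Kp.e1, Kp.e2, Kp.e1, Kp.e1, Kp.e2, Kp.e2⟩, ⟨Kp.e2, Kp.e1, Kp.e1, Kp.e2, Kp.e2, Kp.e2, Kp.e0, Kp.e2, Kp.e1⟩, false)) ((⟨Kp.e1, Kp.e0, Kp.e0, Kp.e1, Kp.e1, Kp.e1, Kp.e1, Kp.e1, Kp.e2⟩, ⟨Kp.e1, Kp.e0, Kp.e0, Kp.e2, Kp.e2, Kp.e2, Kp.e0, Kp.e2, Kp.e1⟩, false)) ((⟨Kp.e1, Kp.e0, Kp.e1, Kp.e1, Kp.e0, Kp.e2, Kp.e1, Kp.e2, Kp.e0⟩, ⟨Kp.e2, Kp.e2, Kp.e0, Kp.e2, Kp.e2, Kp.e2, Kp.e2, Kp.e1, Kp.e0⟩, false)))) (pick g01 (pick g00 ((⟨Kp.e1, Kp.e0, Kp.e0, Kp.e0, Kp.e1, Kp.e0, Kp.e0, Kp.e0, Kp.e1⟩, ⟨Kp.e1, Kp.e0, Kp.e0, Kp.e0, Kp.e1, Kp.e0, Kp.e0, Kp.e0, Kp.e1⟩, false)) ((⟨Kp.e1, Kp.e0, Kp.e0, Kp.e0, Kp.e1, Kp.e0, Kp.e0, Kp.e0, Kp.e1⟩, ⟨Kp.e1, Kp.e0, Kp.e0, Kp.e0, Kp.e1, Kp.e0, Kp.e0, Kp.e0, Kp.e1⟩, false)) ((⟨Kp.e1, Kp.e0, Kp.e0, Kp.e0, Kp.e1, Kp.e0, Kp.e0, Kp.e0, Kp.e1⟩, ⟨Kp.e1, Kp.e0, Kp.e0, Kp.e0, Kp.e1, Kp.e0, Kp.e0, Kp.e0, Kp.e1⟩, false))) (pick g00 ((⟨Kp.e1, Kp.e0, Kp.e1, Kp.e1, Kp.e2, Kp.e0, Kp.e1, Kp.e2, Kp.e2⟩, ⟨Kp.e1, Kp.e2, Kp.e1, Kp.e1, Kp.e1, Kp.e1, Kp.e0, Kp.e1, Kp.e2⟩, false)) ((⟨Kp.e1, Kp.e0, Kp.e0, Kp.e1, Kp.e0, Kp.e2, Kp.e1, Kp.e1, Kp.e1⟩, ⟨Kp.e1, Kp.e0, Kp.e0, Kp.e1, Kp.e1, Kp.e1, Kp.e1, Kp.e2, Kp.e0⟩, false)) ((⟨Kp.e1, Kp.e1, Kp.e0, Kp.e1, Kp.e1, Kp.e2, Kp.e1, Kp.e2, Kp.e1⟩, ⟨Kp.e0, Kp.e2, Kp.e2, Kp.e1, Kp.e1, Kp.e1, Kp.e1, Kp.e2, Kp.e0⟩, false))) (pick g00 ((⟨Kp.e1, Kp.e0, Kp.e1, Kp.e1, Kp.e1, Kp.e0, Kp.e1, Kp.e1, Kp.e2⟩, ⟨Kp.e1, Kp.e2, Kp.e1, Kp.e2, Kp.e2, Kp.e2, Kp.e0, Kp.e1, Kp.e2⟩, false)) ((⟨Kp.e1, Kp.e0, Kp.e0, Kp.e1, Kp.e0, Kp.e2, Kp.e1, Kp.e2, Kp.e1⟩, ⟨Kp.e1, Kp.e0, Kp.e0, Kp.e2, Kp.e2, Kp.e2, Kp.e1, Kp.e2, Kp.e0⟩, false)) ((⟨Kp.e1, Kp.e1, Kp.e1, Kp.e1, Kp.e2, Kp.e0, Kp.e1, Kp.e2, Kp.e2⟩, ⟨Kp.e2, Kp.e0, Kp.e2, Kp.e2, Kp.e2, Kp.e2, Kp.e0, Kp.e1, Kp.e2⟩, false)))) (pick g01 (pick g00 ((⟨Kp.e1, Kp.e0, Kp.e0, Kp.e0, Kp.e1, Kp.e0, Kp.e0, Kp.e0, Kp.e1⟩, ⟨Kp.e1, Kp.e0, Kp.e0, Kp.e0, Kp.e1, Kp.e0, Kp.e0, Kp.e0, Kp.e1⟩, false)) ((⟨Kp.e1, Kp.e0, Kp.e0, Kp.e0, Kp.e1, Kp.e0, Kp.e0, Kp.e0, Kp.e1⟩, ⟨Kp.e1, Kp.e0, Kp.e0, Kp.e0, Kp.e1, Kp.e0, Kp.e0, Kp.e0, Kp.e1⟩, false)) ((⟨Kp.e1, Kp.e0, Kp.e0, Kp.e0, Kp.e1, Kp.e0, Kp.e0, Kp.e0, Kp.e1⟩, ⟨Kp.e1, Kp.e0, Kp.e0, Kp.e0, Kp.e1, Kp.e0, Kp.e0, Kp.e0, Kp.e1⟩, false))) (pick g00 ((⟨Kp.e1, Kp.e0, Kp.e2, Kp.e1, Kp.e2, Kp.e0, Kp.e1, Kp.e2, Kp.e1⟩, ⟨Kp.e1, Kp.e2, Kp.e1, Kp.e1, Kp.e1, Kp.e1, Kp.e0, Kp.e2, Kp.e1⟩, false)) ((⟨Kp.e1, Kp.e0, Kp.e0, Kp.e1, Kp.e0, Kp.e1, Kp.e1, Kp.e1, Kp.e2⟩, ⟨Kp.e1, Kp.e0, Kp.e0, Kp.e1, Kp.e1, Kp.e1, Kp.e2, Kp.e1, Kp.e0⟩, false)) ((⟨Kp.e1, Kp.e1, Kp.e0, Kp.e1, Kp.e1, Kp.e1, Kp.e1, Kp.e2, Kp.e2⟩, ⟨Kp.e0, Kp.e2, Kp.e2, Kp.e1, Kp.e1, Kp.e1, Kp.e2, Kp.e1, Kp.e0⟩, false))) (pick g00 ((⟨Kp.e1, Kp.e0, Kp.e2, Kp.e1, Kp.e1, Kp.e0, Kp.e1, Kp.e1, Kp.e1⟩, ⟨Kp.e1, Kp.e2, Kp.e1, Kp.e2, Kp.e2, Kp.e2, Kp.e0, Kp.e2, Kp.e1⟩, false)) ((⟨Kp.e1, Kp.e0, Kp.e0, Kp.e1, Kp.e0, Kp.e1, Kp.e1, Kp.e2, Kp.e2⟩, ⟨Kp.e1, Kp.e0, Kp.e0, Kp.e2, Kp.e2, Kp.e2, Kp.e2, Kp.e1, Kp.e0⟩, false)) ((⟨Kp.e1, Kp.e1, Kp.e2, Kp.e1, Kp.e2, Kp.e0, Kp.e1, Kp.e2, Kp.e1⟩, ⟨Kp.e2, Kp.e0, Kp.e2, Kp.e2, Kp.e2, Kp.e2, Kp.e0, Kp.e2, Kp.e1⟩, false))))) (pick g02 (pick g01 (pick g00 ((⟨Kp.e1, Kp.e0, Kp.e0, Kp.e0, Kp.e1, Kp.e0, Kp.e0, Kp.e0, Kp.e1⟩, ⟨Kp.e1, Kp.e0, Kp.e0, Kp.e0, Kp.e1, Kp.e0, Kp.e0, Kp.e0, Kp.e1⟩, false)) ((⟨Kp.e0, Kp.e0, Kp.e1, Kp.e1, Kp.e1, Kp.e0, Kp.e1, Kp.e2, Kp.e0⟩, ⟨Kp.e0, Kp.e2, Kp.e2, Kp.e0, Kp.e2, Kp.e1, Kp.e1, Kp.e0, Kp.e0⟩, true)) ((⟨Kp.e0, Kp.e1, Kp.e0, Kp.e1, Kp.e0, Kp.e1, Kp.e1, Kp.e0, Kp.e2⟩, ⟨Kp.e0, Kp.e2, Kp.e2, Kp.e1, Kp.e0, Kp.e0, Kp.e0, Kp.e2, Kp.e1⟩, false))) (pick g00 ((⟨Kp.e0, Kp.e1, Kp.e0, Kp.e1, Kp.e2, Kp.e1, Kp.e1, Kp.e2, Kp.e2⟩, ⟨Kp.e1, Kp.e2, Kp.e2, Kp.e1, Kp.e0, Kp.e0, Kp.e0, Kp.e2, Kp.e1⟩, false)) ((⟨Kp.e1, Kp.e0, Kp.e0, Kp.e0, Kp.e1, Kp.e0, Kp.e0, Kp.e0, Kp.e1⟩, ⟨Kp.e1, Kp.e0, Kp.e0, Kp.e0, Kp.e1, Kp.e0, Kp.e0, Kp.e0, Kp.e1⟩, false)) ((⟨Kp.e0, Kp.e0, Kp.e1, Kp.e1, Kp.e0, Kp.e0, Kp.e1, Kp.e1, Kp.e0⟩, ⟨Kp.e0, Kp.e1, Kp.e0, Kp.e0, Kp.e2, Kp.e1, Kp.e1, Kp.e0, Kp.e0⟩, true))) (pick g00 ((⟨Kp.e0, Kp.e1, Kp.e0, Kp.e1, Kp.e1, Kp.e1, Kp.e1, Kp.e1, Kp.e2⟩, ⟨Kp.e2, Kp.e2, Kp.e2, Kp.e1, Kp.e0, Kp.e0, Kp.e0, Kp.e2, Kp.e1⟩, false)) ((⟨Kp.e1, Kp.e0, Kp.e0, Kp.e0, Kp.e1, Kp.e0, Kp.e0, Kp.e0, Kp.e1⟩, ⟨Kp.e1, Kp.e0, Kp.e0, Kp.e0, Kp.e1, Kp.e0, Kp.e0, Kp.e0, Kp.e1⟩, false)) ((⟨Kp.e0, Kp.e0, Kp.e1, Kp.e1, Kp.e0, Kp.e0, Kp.e1, Kp.e2, Kp.e0⟩, ⟨Kp.e0, Kp.e1, Kp.e0, Kp.e0, Kp.e1, Kp.e2, Kp.e1, Kp.e0, Kp.e0⟩, true)))) (pick g01 (pick g00 ((⟨Kp.e0, Kp.e0, Kp.e1, Kp.e1, Kp.e1, Kp.e1, Kp.e1, Kp.e2, Kp.e1⟩, ⟨Kp.e2, Kp.e2, Kp.e2, Kp.e0, Kp.e2, Kp.e1, Kp.e1, Kp.e0, Kp.e0⟩, true)) ((⟨Kp.e0, Kp.e1, Kp.e0, Kp.e1, Kp.e0, Kp.e0, Kp.e1, Kp.e0, Kp.e2⟩, ⟨Kp.e0, Kp.e1, Kp.e0, Kp.e1, Kp.e0, Kp.e0, Kp.e0, Kp.e1, Kp.e2⟩, false)) ((⟨Kp.e1, Kp.e0, Kp.e0, Kp.e0, Kp.e1, Kp.e0, Kp.e0, Kp.e0, Kp.e1⟩, ⟨Kp.e1, Kp.e0, Kp.e0, Kp.e0, Kp.e1, Kp.e0, Kp.e0, Kp.e0, Kp.e1⟩, false))) (pick g00 ((⟨Kp.e1, Kp.e0, Kp.e0, Kp.e0, Kp.e1, Kp.e0, Kp.e0, Kp.e0, Kp.e1⟩, ⟨Kp.e1, Kp.e0, Kp.e0, Kp.e0, Kp.e1, Kp.e0, Kp.e0, Kp.e0, Kp.e1⟩, false)) ((⟨Kp.e0, Kp.e0, Kp.e1, Kp.e1, Kp.e0, Kp.e1, Kp.e1, Kp.e1, Kp.e1⟩, ⟨Kp.e2, Kp.e1, Kp.e0, Kp.e0, Kp.e2, Kp.e1, Kp.e1, Kp.e0, Kp.e0⟩, true)) ((⟨Kp.e0, Kp.e1, Kp.e0, Kp.e1, Kp.e2, Kp.e0, Kp.e1, Kp.e2, Kp.e2⟩, ⟨Kp.e1, Kp.e1, Kp.e0, Kp.e1, Kp.e0, Kp.e0, Kp.e0, Kp.e1, Kp.e2⟩, false))) (pick g00 ((⟨Kp.e1, Kp.e0, Kp.e0, Kp.e0, Kp.e1, Kp.e0, Kp.e0, Kp.e0, Kp.e1⟩, ⟨Kp.e1, Kp.e0, Kp.e0, Kp.e0, Kp.e1, Kp.e0, Kp.e0, Kp.e0, Kp.e1⟩, false)) ((⟨Kp.e0, Kp.e0, Kp.e1, Kp.e1, Kp.e0, Kp.e1, Kp.e1, Kp.e2, Kp.e1⟩, ⟨Kp.e2, Kp.e1, Kp.e0, Kp.e0, Kp.e1, Kp.e2, Kp.e1, Kp.e0, Kp.e0⟩, true)) ((⟨Kp.e0, Kp.e1, Kp.e0, Kp.e1, Kp.e1, Kp.e0, Kp.e1, Kp.e1, Kp.e2⟩, ⟨Kp.e2, Kp.e1, Kp.e0, Kp.e1, Kp.e0, Kp.e0, Kp.e0, Kp.e1, Kp.e2⟩, false)))) (pick g01 (pick g00 ((⟨Kp.e0, Kp.e0, Kp.e1, Kp.e1, Kp.e1, Kp.e2, Kp.e1, Kp.e2, Kp.e2⟩, ⟨Kp.e1, Kp.e2, Kp.e2, Kp.e0, Kp.e2, Kp.e1, Kp.e1, Kp.e0, Kp.e0⟩, true)) ((⟨Kp.e0, Kp.e1, Kp.e0, Kp.e1, Kp.e0, Kp.e0, Kp.e1, Kp.e0, Kp.e1⟩, ⟨Kp.e0, Kp.e1, Kp.e0, Kp.e1, Kp.e0, Kp.e0, Kp.e0, Kp.e2, Kp.e1⟩, false)) ((⟨Kp.e1, Kp.e0, Kp.e0, Kp.e0, Kp.e1, Kp.e0, Kp.e0, Kp.e0, Kp.e1⟩, ⟨Kp.e1, Kp.e0, Kp.e0, Kp.e0, Kp.e1, Kp.e0, Kp.e0, Kp.e0, Kp.e1⟩, false))) (pick g00 ((⟨Kp.e1, Kp.e0, Kp.e0, Kp.e0, Kp.e1, Kp.e0, Kp.e0, Kp.e0, Kp.e1⟩, ⟨Kp.e1, Kp.e0, Kp.e0, Kp.e0, Kp.e1, Kp.e0, Kp.e0, Kp.e0, Kp.e1⟩, false)) ((⟨Kp.e0, Kp.e0, Kp.e1, Kp.e1, Kp.e0, Kp.e2, Kp.e1, Kp.e1, Kp.e2⟩, ⟨Kp.e1, Kp.e1, Kp.e0, Kp.e0, Kp.e2, Kp.e1, Kp.e1, Kp.e0, Kp.e0⟩, true)) ((⟨Kp.e0, Kp.e1, Kp.e0, Kp.e1, Kp.e2, Kp.e0, Kp.e1, Kp.e2, Kp.e1⟩, ⟨Kp.e1, Kp.e1, Kp.e0, Kp.e1, Kp.e0, Kp.e0, Kp.e0, Kp.e2, Kp.e1⟩, false))) (pick g00 ((⟨Kp.e1, Kp.e0, Kp.e0, Kp.e0, Kp.e1, Kp.e0, Kp.e0, Kp.e0, Kp.e1⟩, ⟨Kp.e1, Kp.e0, Kp.e0, Kp.e0, Kp.e1, Kp.e0, Kp.e0, Kp.e0, Kp.e1⟩, false)) ((⟨Kp.e0, Kp.e0, Kp.e1, Kp.e1, Kp.e0, Kp.e2, Kp.e1, Kp.e2, Kp.e2⟩, ⟨Kp.e1, Kp.e1, Kp.e0, Kp.e0, Kp.e1, Kp.e2, Kp.e1, Kp.e0, Kp.e0⟩, true)) ((⟨Kp.e0, Kp.e1, Kp.e0, Kp.e1, Kp.e1, Kp.e0, Kp.e1, Kp.e1, Kp.e1⟩, ⟨Kp.e2, Kp.e1, Kp.e0, Kp.e1, Kp.e0, Kp.e0, Kp.e0, Kp.e2, Kp.e1⟩, false))))) (pick g02 (pick g01 (pick g00 ((⟨Kp.e1, Kp.e0, Kp.e0, Kp.e0, Kp.e1, Kp.e0, Kp.e0, Kp.e0, Kp.e1⟩, ⟨Kp.e1, Kp.e0, Kp.e0, Kp.e0, Kp.e1, Kp.e0, Kp.e0, Kp.e0, Kp.e1⟩, false)) ((⟨Kp.e0, Kp.e1, Kp.e1, Kp.e0, Kp.e1, Kp.e2, Kp.e1, Kp.e0, Kp.e0⟩, ⟨Kp.e0, Kp.e0, Kp.e1, Kp.e2, Kp.e2, Kp.e0, Kp.e2, Kp.e1, Kp.e0⟩, false)) ((⟨Kp.e0, Kp.e0, Kp.e1, Kp.e0, Kp.e1, Kp.e0, Kp.e1, Kp.e0, Kp.e0⟩, ⟨Kp.e0, Kp.e0, Kp.e1, Kp.e0, Kp.e1, Kp.e0, Kp.e1, Kp.e0, Kp.e0⟩, true))) (pick g00 ((⟨Kp.e0, Kp.e1, Kp.e1, Kp.e0, Kp.e1, Kp.e2, Kp.e1, Kp.e1, Kp.e0⟩, ⟨Kp.e1, Kp.e1, Kp.e1, Kp.e2, Kp.e2, Kp.e0, Kp.e2, Kp.e1, Kp.e0⟩, false)) ((⟨Kp.e0, Kp.e0, Kp.e1, Kp.e0, Kp.e1, Kp.e0, Kp.e1, Kp.e1, Kp.e0⟩, ⟨Kp.e0, Kp.e2, Kp.e1, Kp.e0, Kp.e1, Kp.e0, Kp.e1, Kp.e0, Kp.e0⟩, true)) ((⟨Kp.e1, Kp.e0, Kp.e0, Kp.e0, Kp.e1, Kp.e0, Kp.e0, Kp.e0, Kp.e1⟩, ⟨Kp.e1, Kp.e0, Kp.e0, Kp.e0, Kp.e1, Kp.e0, Kp.e0, Kp.e0, Kp.e1⟩, false))) (pick g00 ((⟨Kp.e0, Kp.e1, Kp.e1, Kp.e0, Kp.e1, Kp.e2, Kp.e1, Kp.e2, Kp.e0⟩, ⟨Kp.e2, Kp.e2, Kp.e1, Kp.e2, Kp.e2, Kp.e0, Kp.e2, Kp.e1, Kp.e0⟩, false)) ((⟨Kp.e0, Kp.e0, Kp.e1, Kp.e0, Kp.e1, Kp.e0, Kp.e1, Kp.e2, Kp.e0⟩, ⟨Kp.e0, Kp.e1, Kp.e1, Kp.e0, Kp.e1, Kp.e0, Kp.e1, Kp.e0, Kp.e0⟩, true)) ((⟨Kp.e1, Kp.e0, Kp.e0, Kp.e0, Kp.e1, Kp.e0, Kp.e0, Kp.e0, Kp.e1⟩, ⟨Kp.e1, Kp.e0, Kp.e0, Kp.e0, Kp.e1, Kp.e0, Kp.e0, Kp.e0, Kp.e1⟩, false)))) (pick g01 (pick g00 ((⟨Kp.e0, Kp.e1, Kp.e1, Kp.e0, Kp.e1, Kp.e2, Kp.e1, Kp.e0, Kp.e1⟩, ⟨Kp.e1, Kp.e2, Kp.e1, Kp.e2, Kp.e2, Kp.e0, Kp.e2, Kp.e1, Kp.e0⟩, false)) ((⟨Kp.e0, Kp.e0, Kp.e1, Kp.e0, Kp.e1, Kp.e0, Kp.e1, Kp.e0, Kp.e1⟩, ⟨Kp.e2, Kp.e0, Kp.e1, Kp.e0, Kp.e1, Kp.e0, Kp.e1, Kp.e0, Kp.e0⟩, true)) ((⟨Kp.e1, Kp.e0, Kp.e0, Kp.e0, Kp.e1, Kp.e0, Kp.e0, Kp.e0, Kp.e1⟩, ⟨Kp.e1, Kp.e0, Kp.e0, Kp.e0, Kp.e1, Kp.e0, Kp.e0, Kp.e0, Kp.e1⟩, false))) (pick g00 ((⟨Kp.e0, Kp.e0, Kp.e1, Kp.e0, Kp.e1, Kp.e0, Kp.e1, Kp.e1, Kp.e1⟩, ⟨Kp.e2, Kp.e2, Kp.e1, Kp.e0, Kp.e1, Kp.e0, Kp.e1, Kp.e0, Kp.e0⟩, true)) ((⟨Kp.e1, Kp.e0, Kp.e0, Kp.e0, Kp.e1, Kp.e0, Kp.e0, Kp.e0, Kp.e1⟩, ⟨Kp.e1, Kp.e0, Kp.e0, Kp.e0, Kp.e1, Kp.e0, Kp.e0, Kp.e0, Kp.e1⟩, false)) ((⟨Kp.e0, Kp.e1, Kp.e1, Kp.e0, Kp.e1, Kp.e2, Kp.e1, Kp.e1, Kp.e1⟩, ⟨Kp.e2, Kp.e0, Kp.e1, Kp.e2, Kp.e2, Kp.e0, Kp.e2, Kp.e1, Kp.e0⟩, false))) (pick g00 ((⟨Kp.e0, Kp.e0, Kp.e1, Kp.e0, Kp.e1, Kp.e0, Kp.e1, Kp.e2, Kp.e1⟩, ⟨Kp.e2, Kp.e1, Kp.e1, Kp.e0, Kp.e1, Kp.e0, Kp.e1, Kp.e0, Kp.e0⟩, true)) ((⟨Kp.e1, Kp.e0, Kp.e0, Kp.e0, Kp.e1, Kp.e0, Kp.e0, Kp.e0, Kp.e1⟩, ⟨Kp.e1, Kp.e0, Kp.e0, Kp.e0, Kp.e1, Kp.e0, Kp.e0, Kp.e0, Kp.e1⟩, false)) ((⟨Kp.e0, Kp.e1, Kp.e1, Kp.e0, Kp.e1, Kp.e2, Kp.e1, Kp.e2, Kp.e1⟩, ⟨Kp.e0, Kp.e1, Kp.e1, Kp.e2, Kp.e2, Kp.e0, Kp.e2, Kp.e1, Kp.e0⟩, false)))) (pick g01 (pick g00 ((⟨Kp.e0, Kp.e1, Kp.e1, Kp.e0, Kp.e1, Kp.e2, Kp.e1, Kp.e0, Kp.e2⟩, ⟨Kp.e2, Kp.e1, Kp.e1, Kp.e2, Kp.e2, Kp.e0, Kp.e2, Kp.e1, Kp.e0⟩, false)) ((⟨Kp.e0, Kp.e0, Kp.e1, Kp.e0, Kp.e1, Kp.e0, Kp.e1, Kp.e0, Kp.e2⟩, ⟨Kp.e1, Kp.e0, Kp.e1, Kp.e0, Kp.e1, Kp.e0, Kp.e1, Kp.e0, Kp.e0⟩, true)) ((⟨Kp.e1, Kp.e0, Kp.e0, Kp.e0, Kp.e1, Kp.e0, Kp.e0, Kp.e0, Kp.e1⟩, ⟨Kp.e1, Kp.e0, Kp.e0, Kp.e0, Kp.e1, Kp.e0, Kp.e0, Kp.e0, Kp.e1⟩, false))) (pick g00 ((⟨Kp.e0, Kp.e0, Kp.e1, Kp.e0, Kp.e1, Kp.e0, Kp.e1, Kp.e1, Kp.e2⟩, ⟨Kp.e1, Kp.e2, Kp.e1, Kp.e0, Kp.e1, Kp.e0, Kp.e1, Kp.e0, Kp.e0⟩, true)) ((⟨Kp.e1, Kp.e0, Kp.e0, Kp.e0, Kp.e1, Kp.e0, Kp.e0, Kp.e0, Kp.e1⟩, ⟨Kp.e1, Kp.e0, Kp.e0, Kp.e0, Kp.e1, Kp.e0, Kp.e0, Kp.e0, Kp.e1⟩, false)) ((⟨Kp.e0, Kp.e1, Kp.e1, Kp.e0, Kp.e1, Kp.e2, Kp.e1, Kp.e1, Kp.e2⟩, ⟨Kp.e0, Kp.e2, Kp.e1, Kp.e2, Kp.e2, Kp.e0, Kp.e2, Kp.e1, Kp.e0⟩, false))) (pick g00 ((⟨Kp.e0, Kp.e0, Kp.e1, Kp.e0, Kp.e1, Kp.e0, Kp.e1, Kp.e2, Kp.e2⟩, ⟨Kp.e1, Kp.e1, Kp.e1, Kp.e0, Kp.e1, Kp.e0, Kp.e1, Kp.e0, Kp.e0⟩, true)) ((⟨Kp.e1, Kp.e0, Kp.e0, Kp.e0, Kp.e1, Kp.e0, Kp.e0, Kp.e0, Kp.e1⟩, ⟨Kp.e1, Kp.e0, Kp.e0, Kp.e0, Kp.e1, Kp.e0, Kp.e0, Kp.e0, Kp.e1⟩, false)) ((⟨Kp.e0, Kp.e1, Kp.e1, Kp.e0, Kp.e1, Kp.e2, Kp.e1, Kp.e2, Kp.e2⟩, ⟨Kp.e1, Kp.e0, Kp.e1, Kp.e2, Kp.e2, Kp.e0, Kp.e2, Kp.e1, Kp.e0⟩, false)))))) (pick g11 (pick g02 (pick g01 (pick g00 ((⟨Kp.e1, Kp.e0, Kp.e0, Kp.e0, Kp.e1, Kp.e0, Kp.e0, Kp.e0, Kp.e1⟩, ⟨Kp.e1, Kp.e0, Kp.e0, Kp.e0, Kp.e1, Kp.e0, Kp.e0, Kp.e0, Kp.e1⟩, false)) ((⟨Kp.e0, Kp.e0, Kp.e1, Kp.e1, Kp.e1, Kp.e1, Kp.e1, Kp.e2, Kp.e2⟩, ⟨Kp.e0, Kp.e2, Kp.e2, Kp.e2, Kp.e2, Kp.e1, Kp.e1, Kp.e0, Kp.e0⟩, true)) ((⟨Kp.e0, Kp.e1, Kp.e1, Kp.e1, Kp.e0, Kp.e1, Kp.e1, Kp.e0, Kp.e2⟩, ⟨Kp.e0, Kp.e2, Kp.e2, Kp.e1, Kp.e1, Kp.e2, Kp.e0, Kp.e2, Kp.e1⟩, false))) (pick g00 ((⟨Kp.e0, Kp.e1, Kp.e1, Kp.e1, Kp.e2, Kp.e0, Kp.e1, Kp.e2, Kp.e1⟩, ⟨Kp.e1, Kp.e2, Kp.e2, Kp.e1, Kp.e1, Kp.e2, Kp.e0, Kp.e2, Kp.e1⟩, false)) ((⟨Kp.e1, Kp.e0, Kp.e0, Kp.e0, Kp.e1, Kp.e0, Kp.e0, Kp.e0, Kp.e1⟩, ⟨Kp.e1, Kp.e0, Kp.e0, Kp.e0, Kp.e1, Kp.e0, Kp.e0, Kp.e0, Kp.e1⟩, false)) ((⟨Kp.e0, Kp.e0, Kp.e1, Kp.e1, Kp.e0, Kp.e0, Kp.e1, Kp.e1, Kp.e1⟩, ⟨Kp.e0, Kp.e1, Kp.e0, Kp.e2, Kp.e2, Kp.e1, Kp.e1, Kp.e0, Kp.e0⟩, true))) (pick g00 ((⟨Kp.e0, Kp.e1, Kp.e1, Kp.e1, Kp.e1, Kp.e0, Kp.e1, Kp.e1, Kp.e2⟩, ⟨Kp.e2, Kp.e2, Kp.e2, Kp.e1, Kp.e2, Kp.e1, Kp.e0, Kp.e1, Kp.e2⟩, false)) ((⟨Kp.e1, Kp.e0, Kp.e0, Kp.e0, Kp.e1, Kp.e0, Kp.e0, Kp.e0, Kp.e1⟩, ⟨Kp.e1, Kp.e0, Kp.e0, Kp.e0, Kp.e1, Kp.e0, Kp.e0, Kp.e0, Kp.e1⟩, false)) ((⟨Kp.e0, Kp.e0, Kp.e1, Kp.e1, Kp.e0, Kp.e0, Kp.e1, Kp.e2, Kp.e2⟩, ⟨Kp.e0, Kp.e1, Kp.e0, Kp.e2, Kp.e1, Kp.e2, Kp.e1, Kp.e0, Kp.e0⟩, true)))) (pick g01 (pick g00 ((⟨Kp.e1, Kp.e0, Kp.e0, Kp.e0, Kp.e1, Kp.e0, Kp.e0, Kp.e0, Kp.e1⟩, ⟨Kp.e1, Kp.e0, Kp.e0, Kp.e0, Kp.e1, Kp.e0, Kp.e0, Kp.e0, Kp.e1⟩, false)) ((⟨Kp.e0, Kp.e0, Kp.e1, Kp.e1, Kp.e0, Kp.e1, Kp.e1, Kp.e1, Kp.e2⟩, ⟨Kp.e2, Kp.e1, Kp.e0, Kp.e2, Kp.e2, Kp.e1, Kp.e1, Kp.e0, Kp.e0⟩, true)) ((⟨Kp.e0, Kp.e1, Kp.e1, Kp.e1, Kp.e2, Kp.e1, Kp.e1, Kp.e2, Kp.e2⟩, ⟨Kp.e1, Kp.e0, Kp.e1, Kp.e1, Kp.e1, Kp.e2, Kp.e0, Kp.e2, Kp.e1⟩, false))) (pick g00 ((⟨Kp.e1, Kp.e0, Kp.e0, Kp.e0, Kp.e1, Kp.e0, Kp.e0, Kp.e0, Kp.e1⟩, ⟨Kp.e1, Kp.e0, Kp.e0, Kp.e0, Kp.e1, Kp.e0, Kp.e0, Kp.e0, Kp.e1⟩, false)) ((⟨Kp.e0, Kp.e0, Kp.e1, Kp.e1, Kp.e0, Kp.e1, Kp.e1, Kp.e2, Kp.e0⟩, ⟨Kp.e2, Kp.e1, Kp.e0, Kp.e2, Kp.e1, Kp.e2, Kp.e1, Kp.e0, Kp.e0⟩, true)) ((⟨Kp.e0, Kp.e1, Kp.e1, Kp.e1, Kp.e1, Kp.e0, Kp.e1, Kp.e1, Kp.e1⟩, ⟨Kp.e2, Kp.e0, Kp.e1, Kp.e1, Kp.e1, Kp.e2, Kp.e0, Kp.e2, Kp.e1⟩, false))) (pick g00 ((⟨Kp.e0, Kp.e0, Kp.e1, Kp.e1, Kp.e1, Kp.e2, Kp.e1, Kp.e2, Kp.e0⟩, ⟨Kp.e2, Kp.e2, Kp.e2, Kp.e2, Kp.e2, Kp.e1, Kp.e1, Kp.e0, Kp.e0⟩, true)) ((⟨Kp.e0, Kp.e1, Kp.e1, Kp.e1, Kp.e0, Kp.e0, Kp.e1, Kp.e0, Kp.e2⟩, ⟨Kp.e0, Kp.e1, Kp.e0, Kp.e1, Kp.e2, Kp.e1, Kp.e0, Kp.e1, Kp.e2⟩, false)) ((⟨Kp.e1, Kp.e0, Kp.e0, Kp.e0, Kp.e1, Kp.e0, Kp.e0, Kp.e0, Kp.e1⟩, ⟨Kp.e1, Kp.e0, Kp.e0, Kp.e0, Kp.e1, Kp.e0, Kp.e0, Kp.e0, Kp.e1⟩, false)))) (pick g01 (pick g00 ((⟨Kp.e1, Kp.e0, Kp.e0, Kp.e0, Kp.e1, Kp.e0, Kp.e0, Kp.e0, Kp.e1⟩, ⟨Kp.e1, Kp.e0, Kp.e0, Kp.e0, Kp.e1, Kp.e0, Kp.e0, Kp.e0, Kp.e1⟩, false)) ((⟨Kp.e0, Kp.e0, Kp.e1, Kp.e1, Kp.e0, Kp.e2, Kp.e1, Kp.e2, Kp.e1⟩, ⟨Kp.e1, Kp.e1, Kp.e0, Kp.e2, Kp.e1, Kp.e2, Kp.e1, Kp.e0, Kp.e0⟩, true)) ((⟨Kp.e0, Kp.e1, Kp.e1, Kp.e1, Kp.e1, Kp.e1, Kp.e1, Kp.e1, Kp.e2⟩, ⟨Kp.e2, Kp.e1, Kp.e0, Kp.e1, Kp.e1, Kp.e2, Kp.e0, Kp.e2, Kp.e1⟩, false))) (pick g00 ((⟨Kp.e0, Kp.e0, Kp.e1, Kp.e1, Kp.e1, Kp.e0, Kp.e1, Kp.e2, Kp.e1⟩, ⟨Kp.e1, Kp.e2, Kp.e2, Kp.e2, Kp.e2, Kp.e1, Kp.e1, Kp.e0, Kp.e0⟩, true)) ((⟨Kp.e0, Kp.e1, Kp.e1, Kp.e1, Kp.e0, Kp.e0, Kp.e1, Kp.e0, Kp.e1⟩, ⟨Kp.e0, Kp.e1, Kp.e0, Kp.e1, Kp.e1, Kp.e2, Kp.e0, Kp.e2, Kp.e1⟩, false)) ((⟨Kp.e1, Kp.e0, Kp.e0, Kp.e0, Kp.e1, Kp.e0, Kp.e0, Kp.e0, Kp.e1⟩, ⟨Kp.e1, Kp.e0, Kp.e0, Kp.e0, Kp.e1, Kp.e0, Kp.e0, Kp.e0, Kp.e1⟩, false))) (pick g00 ((⟨Kp.e1, Kp.e0, Kp.e0, Kp.e0, Kp.e1, Kp.e0, Kp.e0, Kp.e0, Kp.e1⟩, ⟨Kp.e1, Kp.e0, Kp.e0, Kp.e0, Kp.e1, Kp.e0, Kp.e0, Kp.e0, Kp.e1⟩, false)) ((⟨Kp.e0, Kp.e0, Kp.e1, Kp.e1, Kp.e0, Kp.e2, Kp.e1, Kp.e1, Kp.e0⟩, ⟨Kp.e1, Kp.e1, Kp.e0, Kp.e2, Kp.e2, Kp.e1, Kp.e1, Kp.e0, Kp.e0⟩, true)) ((⟨Kp.e0, Kp.e1, Kp.e1, Kp.e1, Kp.e2, Kp.e0, Kp.e1, Kp.e2, Kp.e2⟩, ⟨Kp.e1, Kp.e0, Kp.e1, Kp.e1, Kp.e2, Kp.e1, Kp.e0, Kp.e1, Kp.e2⟩, false))))) (pick g02 (pick g01 (pick g00 ((⟨Kp.e1, Kp.e0, Kp.e0, Kp.e0, Kp.e1, Kp.e0, Kp.e0, Kp.e0, Kp.e1⟩, ⟨Kp.e1, Kp.e0, Kp.e0, Kp.e0, Kp.e1, Kp.e0, Kp.e0, Kp.e0, Kp.e1⟩, false)) ((⟨Kp.e0, Kp.e1, Kp.e0, Kp.e0, Kp.e1, Kp.e2, Kp.e1, Kp.e0, Kp.e0⟩, ⟨Kp.e0, Kp.e0, Kp.e1, Kp.e1, Kp.e0, Kp.e0, Kp.e1, Kp.e2, Kp.e0⟩, false)) ((⟨Kp.e0, Kp.e0, Kp.e1, Kp.e0, Kp.e1, Kp.e1, Kp.e1, Kp.e0, Kp.e0⟩, ⟨Kp.e0, Kp.e0, Kp.e1, Kp.e2, Kp.e1, Kp.e0, Kp.e1, Kp.e0, Kp.e0⟩, true))) (pick g00 ((⟨Kp.e0, Kp.e1, Kp.e0, Kp.e0, Kp.e1, Kp.e2, Kp.e1, Kp.e1, Kp.e1⟩, ⟨Kp.e1, Kp.e1, Kp.e1, Kp.e1, Kp.e0, Kp.e0, Kp.e1, Kp.e2, Kp.e0⟩, false)) ((⟨Kp.e0, Kp.e0, Kp.e1, Kp.e0, Kp.e1, Kp.e1, Kp.e1, Kp.e1, Kp.e1⟩, ⟨Kp.e0, Kp.e2, Kp.e1, Kp.e2, Kp.e1, Kp.e0, Kp.e1, Kp.e0, Kp.e0⟩, true)) ((⟨Kp.e1, Kp.e0, Kp.e0, Kp.e0, Kp.e1, Kp.e0, Kp.e0, Kp.e0, Kp.e1⟩, ⟨Kp.e1, Kp.e0, Kp.e0, Kp.e0, Kp.e1, Kp.e0, Kp.e0, Kp.e0, Kp.e1⟩, false))) (pick g00 ((⟨Kp.e0, Kp.e1, Kp.e0, Kp.e0, Kp.e1, Kp.e2, Kp.e1, Kp.e2, Kp.e2⟩, ⟨Kp.e2, Kp.e2, Kp.e1, Kp.e1, Kp.e0, Kp.e0, Kp.e1, Kp.e2, Kp.e0⟩, false)) ((⟨Kp.e0, Kp.e0, Kp.e1, Kp.e0, Kp.e1, Kp.e1, Kp.e1, Kp.e2, Kp.e2⟩, ⟨Kp.e0, Kp.e1, Kp.e1, Kp.e2, Kp.e1, Kp.e0, Kp.e1, Kp.e0, Kp.e0⟩, true)) ((⟨Kp.e1, Kp.e0, Kp.e0, Kp.e0, Kp.e1, Kp.e0, Kp.e0, Kp.e0, Kp.e1⟩, ⟨Kp.e1, Kp.e0, Kp.e0, Kp.e0, Kp.e1, Kp.e0, Kp.e0, Kp.e0, Kp.e1⟩, false)))) (pick g01 (pick g00 ((⟨Kp.e0, Kp.e0, Kp.e1, Kp.e0, Kp.e1, Kp.e1, Kp.e1, Kp.e1, Kp.e2⟩, ⟨Kp.e2, Kp.e2, Kp.e1, Kp.e2, Kp.e1, Kp.e0, Kp.e1, Kp.e0, Kp.e0⟩, true)) ((⟨Kp.e1, Kp.e0, Kp.e0, Kp.e0, Kp.e1, Kp.e0, Kp.e0, Kp.e0, Kp.e1⟩, ⟨Kp.e1, Kp.e0, Kp.e0, Kp.e0, Kp.e1, Kp.e0, Kp.e0, Kp.e0, Kp.e1⟩, false)) ((⟨Kp.e0, Kp.e1, Kp.e0, Kp.e0, Kp.e1, Kp.e2, Kp.e1, Kp.e1, Kp.e2⟩, ⟨Kp.e0, Kp.e2, Kp.e1, Kp.e1, Kp.e0, Kp.e0, Kp.e1, Kp.e2, Kp.e0⟩, false))) (pick g00 ((⟨Kp.e0, Kp.e0, Kp.e1, Kp.e0, Kp.e1, Kp.e1, Kp.e1, Kp.e2, Kp.e0⟩, ⟨Kp.e2, Kp.e1, Kp.e1, Kp.e2, Kp.e1, Kp.e0, Kp.e1, Kp.e0, Kp.e0⟩, true)) ((⟨Kp.e1, Kp.e0, Kp.e0, Kp.e0, Kp.e1, Kp.e0, Kp.e0, Kp.e0, Kp.e1⟩, ⟨Kp.e1, Kp.e0, Kp.e0, Kp.e0, Kp.e1, Kp.e0, Kp.e0, Kp.e0, Kp.e1⟩, false)) ((⟨Kp.e0, Kp.e1, Kp.e0, Kp.e0, Kp.e1, Kp.e2, Kp.e1, Kp.e2, Kp.e0⟩, ⟨Kp.e1, Kp.e0, Kp.e1, Kp.e1, Kp.e0, Kp.e0, Kp.e1, Kp.e2, Kp.e0⟩, false))) (pick g00 ((⟨Kp.e0, Kp.e1, Kp.e0, Kp.e0, Kp.e1, Kp.e2, Kp.e1, Kp.e0, Kp.e1⟩, ⟨Kp.e2, Kp.e1, Kp.e1, Kp.e1, Kp.e0, Kp.e0, Kp.e1, Kp.e2, Kp.e0⟩, false)) ((⟨Kp.e0, Kp.e0, Kp.e1, Kp.e0, Kp.e1, Kp.e1, Kp.e1, Kp.e0, Kp.e1⟩, ⟨Kp.e2, Kp.e0, Kp.e1, Kp.e2, Kp.e1, Kp.e0, Kp.e1, Kp.e0, Kp.e0⟩, true)) ((⟨Kp.e1, Kp.e0, Kp.e0, Kp.e0, Kp.e1, Kp.e0, Kp.e0, Kp.e0, Kp.e1⟩, ⟨Kp.e1, Kp.e0, Kp.e0, Kp.e0, Kp.e1, Kp.e0, Kp.e0, Kp.e0, Kp.e1⟩, false)))) (pick g01 (pick g00 ((⟨Kp.e0, Kp.e0, Kp.e1, Kp.e0, Kp.e1, Kp.e1, Kp.e1, Kp.e2, Kp.e1⟩, ⟨Kp.e1, Kp.e1, Kp.e1, Kp.e2, Kp.e1, Kp.e0, Kp.e1, Kp.e0, Kp.e0⟩, true)) ((⟨Kp.e1, Kp.e0, Kp.e0, Kp.e0, Kp.e1, Kp.e0, Kp.e0, Kp.e0, Kp.e1⟩, ⟨Kp.e1, Kp.e0, Kp.e0, Kp.e0, Kp.e1, Kp.e0, Kp.e0, Kp.e0, Kp.e1⟩, false)) ((⟨Kp.e0, Kp.e1, Kp.e0, Kp.e0, Kp.e1, Kp.e2, Kp.e1, Kp.e2, Kp.e1⟩, ⟨Kp.e0, Kp.e1, Kp.e1, Kp.e1, Kp.e0, Kp.e0, Kp.e1, Kp.e2, Kp.e0⟩, false))) (pick g00 ((⟨Kp.e0, Kp.e1, Kp.e0, Kp.e0, Kp.e1, Kp.e2, Kp.e1, Kp.e0, Kp.e2⟩, ⟨Kp.e1, Kp.e2, Kp.e1, Kp.e1, Kp.e0, Kp.e0, Kp.e1, Kp.e2, Kp.e0⟩, false)) ((⟨Kp.e0, Kp.e0, Kp.e1, Kp.e0, Kp.e1, Kp.e1, Kp.e1, Kp.e0, Kp.e2⟩, ⟨Kp.e1, Kp.e0, Kp.e1, Kp.e2, Kp.e1, Kp.e0, Kp.e1, Kp.e0, Kp.e0⟩, true)) ((⟨Kp.e1, Kp.e0, Kp.e0, Kp.e0, Kp.e1, Kp.e0, Kp.e0, Kp.e0, Kp.e1⟩, ⟨Kp.e1, Kp.e0, Kp.e0, Kp.e0, Kp.e1, Kp.e0, Kp.e0, Kp.e0, Kp.e1⟩, false))) (pick g00 ((⟨Kp.e0, Kp.e0, Kp.e1, Kp.e0, Kp.e1, Kp.e1, Kp.e1, Kp.e1, Kp.e0⟩, ⟨Kp.e1, Kp.e2, Kp.e1, Kp.e2, Kp.e1, Kp.e0, Kp.e1, Kp.e0, Kp.e0⟩, true)) ((⟨Kp.e1, Kp.e0, Kp.e0, Kp.e0, Kp.e1, Kp.e0, Kp.e0, Kp.e0, Kp.e1⟩, ⟨Kp.e1, Kp.e0, Kp.e0, Kp.e0, Kp.e1, Kp.e0, Kp.e0, Kp.e0, Kp.e1⟩, false)) ((⟨Kp.e0, Kp.e1, Kp.e0, Kp.e0, Kp.e1, Kp.e2, Kp.e1, Kp.e1, Kp.e0⟩, ⟨Kp.e2, Kp.e0, Kp.e1, Kp.e1, Kp.e0, Kp.e0, Kp.e1, Kp.e2, Kp.e0⟩, false))))) (pick g02 (pick g01 (pick g00 ((⟨Kp.e1, Kp.e0, Kp.e0, Kp.e0, Kp.e1, Kp.e0, Kp.e0, Kp.e0, Kp.e1⟩, ⟨Kp.e1, Kp.e0, Kp.e0, Kp.e0, Kp.e1, Kp.e0, Kp.e0, Kp.e0, Kp.e1⟩, false)) ((⟨Kp.e1, Kp.e0, Kp.e0, Kp.e0, Kp.e1, Kp.e0, Kp.e0, Kp.e0, Kp.e1⟩, ⟨Kp.e1, Kp.e0, Kp.e0, Kp.e0, Kp.e1, Kp.e0, Kp.e0, Kp.e0, Kp.e1⟩, false)) ((⟨Kp.e1, Kp.e0, Kp.e0, Kp.e0, Kp.e1, Kp.e0, Kp.e0, Kp.e0, Kp.e1⟩, ⟨Kp.e1, Kp.e0, Kp.e0, Kp.e0, Kp.e1, Kp.e0, Kp.e0, Kp.e0, Kp.e1⟩, false))) (pick g00 ((⟨Kp.e1, Kp.e1, Kp.e0, Kp.e1, Kp.e1, Kp.e2, Kp.e1, Kp.e2, Kp.e2⟩, ⟨Kp.e1, Kp.e1, Kp.e2, Kp.e0, Kp.e2, Kp.e1, Kp.e1, Kp.e2, Kp.e0⟩, false)) ((⟨Kp.e1, Kp.e0, Kp.e0, Kp.e1, Kp.e2, Kp.e0, Kp.e1, Kp.e2, Kp.e1⟩, ⟨Kp.e1, Kp.e0, Kp.e0, Kp.e1, Kp.e2, Kp.e0, Kp.e0, Kp.e2, Kp.e1⟩, false)) ((⟨Kp.e1, Kp.e0, Kp.e1, Kp.e1, Kp.e0, Kp.e2, Kp.e1, Kp.e1, Kp.e1⟩, ⟨Kp.e2, Kp.e2, Kp.e0, Kp.e2, Kp.e0, Kp.e1, Kp.e2, Kp.e1, Kp.e0⟩, false))) (pick g00 ((⟨Kp.e1, Kp.e1, Kp.e1, Kp.e1, Kp.e2, Kp.e0, Kp.e1, Kp.e2, Kp.e1⟩, ⟨Kp.e2, Kp.e1, Kp.e1, Kp.e2, Kp.e0, Kp.e1, Kp.e0, Kp.e2, Kp.e1⟩, false)) ((⟨Kp.e1, Kp.e0, Kp.e0, Kp.e1, Kp.e1, Kp.e0, Kp.e1, Kp.e1, Kp.e2⟩, ⟨Kp.e1, Kp.e0, Kp.e0, Kp.e2, Kp.e1, Kp.e0, Kp.e0, Kp.e1, Kp.e2⟩, false)) ((⟨Kp.e1, Kp.e0, Kp.e1, Kp.e1, Kp.e0, Kp.e2, Kp.e1, Kp.e2, Kp.e2⟩, ⟨Kp.e2, Kp.e2, Kp.e0, Kp.e0, Kp.e1, Kp.e2, Kp.e2, Kp.e1, Kp.e0⟩, false)))) (pick g01 (pick g00 ((⟨Kp.e1, Kp.e0, Kp.e1, Kp.e1, Kp.e2, Kp.e1, Kp.e1, Kp.e2, Kp.e2⟩, ⟨Kp.e1, Kp.e1, Kp.e2, Kp.e1, Kp.e2, Kp.e0, Kp.e0, Kp.e2, Kp.e1⟩, false)) ((⟨Kp.e1, Kp.e0, Kp.e0, Kp.e1, Kp.e0, Kp.e2, Kp.e1, Kp.e1, Kp.e2⟩, ⟨Kp.e1, Kp.e0, Kp.e0, Kp.e0, Kp.e2, Kp.e1, Kp.e1, Kp.e2, Kp.e0⟩, false)) ((⟨Kp.e1, Kp.e1, Kp.e0, Kp.e1, Kp.e1, Kp.e1, Kp.e1, Kp.e2, Kp.e0⟩, ⟨Kp.e2, Kp.e0, Kp.e2, Kp.e2, Kp.e0, Kp.e1, Kp.e2, Kp.e1, Kp.e0⟩, false))) (pick g00 ((⟨Kp.e1, Kp.e0, Kp.e1, Kp.e1, Kp.e1, Kp.e0, Kp.e1, Kp.e1, Kp.e1⟩, ⟨Kp.e1, Kp.e1, Kp.e2, Kp.e2, Kp.e0, Kp.e1, Kp.e0, Kp.e2, Kp.e1⟩, false)) ((⟨Kp.e1, Kp.e0, Kp.e0, Kp.e1, Kp.e0, Kp.e2, Kp.e1, Kp.e2, Kp.e0⟩, ⟨Kp.e1, Kp.e0, Kp.e0, Kp.e1, Kp.e0, Kp.e2, Kp.e1, Kp.e2, Kp.e0⟩, false)) ((⟨Kp.e1, Kp.e1, Kp.e2, Kp.e1, Kp.e2, Kp.e1, Kp.e1, Kp.e2, Kp.e2⟩, ⟨Kp.e2, Kp.e2, Kp.e0, Kp.e2, Kp.e0, Kp.e1, Kp.e0, Kp.e2, Kp.e1⟩, false))) (pick g00 ((⟨Kp.e1, Kp.e0, Kp.e0, Kp.e0, Kp.e1, Kp.e0, Kp.e0, Kp.e0, Kp.e1⟩, ⟨Kp.e1, Kp.e0, Kp.e0, Kp.e0, Kp.e1, Kp.e0, Kp.e0, Kp.e0, Kp.e1⟩, false)) ((⟨Kp.e1, Kp.e0, Kp.e0, Kp.e0, Kp.e1, Kp.e0, Kp.e0, Kp.e0, Kp.e1⟩, ⟨Kp.e1, Kp.e0, Kp.e0, Kp.e0, Kp.e1, Kp.e0, Kp.e0, Kp.e0, Kp.e1⟩, false)) ((⟨Kp.e1, Kp.e0, Kp.e0, Kp.e0, Kp.e1, Kp.e0, Kp.e0, Kp.e0, Kp.e1⟩, ⟨Kp.e1, Kp.e0, Kp.e0, Kp.e0, Kp.e1, Kp.e0, Kp.e0, Kp.e0, Kp.e1⟩, false)))) (pick g01 (pick g00 ((⟨Kp.e1, Kp.e0, Kp.e2, Kp.e1, Kp.e1, Kp.e1, Kp.e1, Kp.e1, Kp.e2⟩, ⟨Kp.e1, Kp.e2, Kp.e1, Kp.e2, Kp.e0, Kp.e1, Kp.e0, Kp.e2, Kp.e1⟩, false)) ((⟨Kp.e1, Kp.e0, Kp.e0, Kp.e1, Kp.e0, Kp.e1, Kp.e1, Kp.e2, Kp.e1⟩, ⟨Kp.e1, Kp.e0, Kp.e0, Kp.e0, Kp.e1, Kp.e2, Kp.e2, Kp.e1, Kp.e0⟩, false)) ((⟨Kp.e1, Kp.e1, Kp.e0, Kp.e1, Kp.e2, Kp.e0, Kp.e1, Kp.e2, Kp.e2⟩, ⟨Kp.e2, Kp.e2, Kp.e0, Kp.e2, Kp.e1, Kp.e0, Kp.e0, Kp.e1, Kp.e2⟩, false))) (pick g00 ((⟨Kp.e1, Kp.e0, Kp.e0, Kp.e0, Kp.e1, Kp.e0, Kp.e0, Kp.e0, Kp.e1⟩, ⟨Kp.e1, Kp.e0, Kp.e0, Kp.e0, Kp.e1, Kp.e0, Kp.e0, Kp.e0, Kp.e1⟩, false)) ((⟨Kp.e1, Kp.e0, Kp.e0, Kp.e0, Kp.e1, Kp.e0, Kp.e0, Kp.e0, Kp.e1⟩, ⟨Kp.e1, Kp.e0, Kp.e0, Kp.e0, Kp.e1, Kp.e0, Kp.e0, Kp.e0, Kp.e1⟩, false)) ((⟨Kp.e1, Kp.e0, Kp.e0, Kp.e0, Kp.e1, Kp.e0, Kp.e0, Kp.e0, Kp.e1⟩, ⟨Kp.e1, Kp.e0, Kp.e0, Kp.e0, Kp.e1, Kp.e0, Kp.e0, Kp.e0, Kp.e1⟩, false))) (pick g00 ((⟨Kp.e1, Kp.e0, Kp.e2, Kp.e1, Kp.e2, Kp.e0, Kp.e1, Kp.e2, Kp.e2⟩, ⟨Kp.e1, Kp.e1, Kp.e2, Kp.e1, Kp.e0, Kp.e2, Kp.e0, Kp.e1, Kp.e2⟩, false)) ((⟨Kp.e1, Kp.e0, Kp.e0, Kp.e1, Kp.e0, Kp.e1, Kp.e1, Kp.e1, Kp.e0⟩, ⟨Kp.e1, Kp.e0, Kp.e0, Kp.e2, Kp.e0, Kp.e1, Kp.e2, Kp.e1, Kp.e0⟩, false)) ((⟨Kp.e1, Kp.e1, Kp.e1, Kp.e1, Kp.e1, Kp.e2, Kp.e1, Kp.e2, Kp.e1⟩, ⟨Kp.e0, Kp.e2, Kp.e2, Kp.e2, Kp.e0, Kp.e1, Kp.e2, Kp.e1, Kp.e0⟩, false)))))) (pick g11 (pick g02 (pick g01 (pick g00 ((⟨Kp.e1, Kp.e0, Kp.e0, Kp.e0, Kp.e1, Kp.e0, Kp.e0, Kp.e0, Kp.e1⟩, ⟨Kp.e1, Kp.e0, Kp.e0, Kp.e0, Kp.e1, Kp.e0, Kp.e0, Kp.e0, Kp.e1⟩, false)) ((⟨Kp.e0, Kp.e0, Kp.e1, Kp.e1, Kp.e1, Kp.e2, Kp.e1, Kp.e2, Kp.e1⟩, ⟨Kp.e0, Kp.e2, Kp.e2, Kp.e1, Kp.e2, Kp.e1, Kp.e1, Kp.e0, Kp.e0⟩, true)) ((⟨Kp.e0, Kp.e1, Kp.e2, Kp.e1, Kp.e0, Kp.e1, Kp.e1, Kp.e0, Kp.e2⟩, ⟨Kp.e0, Kp.e2, Kp.e2, Kp.e1, Kp.e2, Kp.e1, Kp.e0, Kp.e2, Kp.e1⟩, false))) (pick g00 ((⟨Kp.e0, Kp.e1, Kp.e2, Kp.e1, Kp.e2, Kp.e0, Kp.e1, Kp.e2, Kp.e2⟩, ⟨Kp.e1, Kp.e2, Kp.e2, Kp.e1, Kp.e1, Kp.e2, Kp.e0, Kp.e1, Kp.e2⟩, false)) ((⟨Kp.e1, Kp.e0, Kp.e0, Kp.e0, Kp.e1, Kp.e0, Kp.e0, Kp.e0, Kp.e1⟩, ⟨Kp.e1, Kp.e0, Kp.e0, Kp.e0, Kp.e1, Kp.e0, Kp.e0, Kp.e0, Kp.e1⟩, false)) ((⟨Kp.e0, Kp.e0, Kp.e1, Kp.e1, Kp.e0, Kp.e0, Kp.e1, Kp.e1, Kp.e2⟩, ⟨Kp.e0, Kp.e1, Kp.e0, Kp.e1, Kp.e2, Kp.e1, Kp.e1, Kp.e0, Kp.e0⟩, true))) (pick g00 ((⟨Kp.e0, Kp.e1, Kp.e2, Kp.e1, Kp.e1, Kp.e0, Kp.e1, Kp.e1, Kp.e1⟩, ⟨Kp.e2, Kp.e2, Kp.e2, Kp.e1, Kp.e2, Kp.e1, Kp.e0, Kp.e2, Kp.e1⟩, false)) ((⟨Kp.e1, Kp.e0, Kp.e0, Kp.e0, Kp.e1, Kp.e0, Kp.e0, Kp.e0, Kp.e1⟩, ⟨Kp.e1, Kp.e0, Kp.e0, Kp.e0, Kp.e1, Kp.e0, Kp.e0, Kp.e0, Kp.e1⟩, false)) ((⟨Kp.e0, Kp.e0, Kp.e1, Kp.e1, Kp.e0, Kp.e0, Kp.e1, Kp.e2, Kp.e1⟩, ⟨Kp.e0, Kp.e1, Kp.e0, Kp.e1, Kp.e1, Kp.e2, Kp.e1, Kp.e0, Kp.e0⟩, true)))) (pick g01 (pick g00 ((⟨Kp.e1, Kp.e0, Kp.e0, Kp.e0, Kp.e1, Kp.e0, Kp.e0, Kp.e0, Kp.e1⟩, ⟨Kp.e1, Kp.e0, Kp.e0, Kp.e0, Kp.e1, Kp.e0, Kp.e0, Kp.e0, Kp.e1⟩, false)) ((⟨Kp.e0, Kp.e0, Kp.e1, Kp.e1, Kp.e0, Kp.e1, Kp.e1, Kp.e2, Kp.e2⟩, ⟨Kp.e2, Kp.e1, Kp.e0, Kp.e1, Kp.e1, Kp.e2, Kp.e1, Kp.e0, Kp.e0⟩, true)) ((⟨Kp.e0, Kp.e1, Kp.e2, Kp.e1, Kp.e1, Kp.e1, Kp.e1, Kp.e1, Kp.e2⟩, ⟨Kp.e2, Kp.e0, Kp.e1, Kp.e1, Kp.e2, Kp.e1, Kp.e0, Kp.e2, Kp.e1⟩, false))) (pick g00 ((⟨Kp.e0, Kp.e0, Kp.e1, Kp.e1, Kp.e1, Kp.e0, Kp.e1, Kp.e2, Kp.e2⟩, ⟨Kp.e2, Kp.e2, Kp.e2, Kp.e1, Kp.e2, Kp.e1, Kp.e1, Kp.e0, Kp.e0⟩, true)) ((⟨Kp.e0, Kp.e1, Kp.e2, Kp.e1, Kp.e0, Kp.e0, Kp.e1, Kp.e0, Kp.e2⟩, ⟨Kp.e0, Kp.e1, Kp.e0, Kp.e1, Kp.e1, Kp.e2, Kp.e0, Kp.e1, Kp.e2⟩, false)) ((⟨Kp.e1, Kp.e0, Kp.e0, Kp.e0, Kp.e1, Kp.e0, Kp.e0, Kp.e0, Kp.e1⟩, ⟨Kp.e1, Kp.e0, Kp.e0, Kp.e0, Kp.e1, Kp.e0, Kp.e0, Kp.e0, Kp.e1⟩, false))) (pick g00 ((⟨Kp.e1, Kp.e0, Kp.e0, Kp.e0, Kp.e1, Kp.e0, Kp.e0, Kp.e0, Kp.e1⟩, ⟨Kp.e1, Kp.e0, Kp.e0, Kp.e0, Kp.e1, Kp.e0, Kp.e0, Kp.e0, Kp.e1⟩, false)) ((⟨Kp.e0, Kp.e0, Kp.e1, Kp.e1, Kp.e0, Kp.e1, Kp.e1, Kp.e1, Kp.e0⟩, ⟨Kp.e2, Kp.e1, Kp.e0, Kp.e1, Kp.e2, Kp.e1, Kp.e1, Kp.e0, Kp.e0⟩, true)) ((⟨Kp.e0, Kp.e1, Kp.e2, Kp.e1, Kp.e2, Kp.e0, Kp.e1, Kp.e2, Kp.e1⟩, ⟨Kp.e1, Kp.e0, Kp.e1, Kp.e1, Kp.e2, Kp.e1, Kp.e0, Kp.e2, Kp.e1⟩, false)))) (pick g01 (pick g00 ((⟨Kp.e1, Kp.e0, Kp.e0, Kp.e0, Kp.e1, Kp.e0, Kp.e0, Kp.e0, Kp.e1⟩, ⟨Kp.e1, Kp.e0, Kp.e0, Kp.e0, Kp.e1, Kp.e0, Kp.e0, Kp.e0, Kp.e1⟩, false)) ((⟨Kp.e0, Kp.e0, Kp.e1, Kp.e1, Kp.e0, Kp.e2, Kp.e1, Kp.e1, Kp.e1⟩, ⟨Kp.e1, Kp.e1, Kp.e0, Kp.e1, Kp.e2, Kp.e1, Kp.e1, Kp.e0, Kp.e0⟩, true)) ((⟨Kp.e0, Kp.e1, Kp.e2, Kp.e1, Kp.e2, Kp.e1, Kp.e1, Kp.e2, Kp.e2⟩, ⟨Kp.e1, Kp.e1, Kp.e0, Kp.e1, Kp.e2, Kp.e1, Kp.e0, Kp.e2, Kp.e1⟩, false))) (pick g00 ((⟨Kp.e1, Kp.e0, Kp.e0, Kp.e0, Kp.e1, Kp.e0, Kp.e0, Kp.e0, Kp.e1⟩, ⟨Kp.e1, Kp.e0, Kp.e0, Kp.e0, Kp.e1, Kp.e0, Kp.e0, Kp.e0, Kp.e1⟩, false)) ((⟨Kp.e0, Kp.e0, Kp.e1, Kp.e1, Kp.e0, Kp.e2, Kp.e1, Kp.e2, Kp.e0⟩, ⟨Kp.e1, Kp.e1, Kp.e0, Kp.e1, Kp.e1, Kp.e2, Kp.e1, Kp.e0, Kp.e0⟩, true)) ((⟨Kp.e0, Kp.e1, Kp.e2, Kp.e1, Kp.e1, Kp.e0, Kp.e1, Kp.e1, Kp.e2⟩, ⟨Kp.e2, Kp.e0, Kp.e1, Kp.e1, Kp.e1, Kp.e2, Kp.e0, Kp.e1, Kp.e2⟩, false))) (pick g00 ((⟨Kp.e0, Kp.e0, Kp.e1, Kp.e1, Kp.e1, Kp.e1, Kp.e1, Kp.e2, Kp.e0⟩, ⟨Kp.e1, Kp.e2, Kp.e2, Kp.e1, Kp.e2, Kp.e1, Kp.e1, Kp.e0, Kp.e0⟩, true)) ((⟨Kp.e0, Kp.e1, Kp.e2, Kp.e1, Kp.e0, Kp.e0, Kp.e1, Kp.e0, Kp.e1⟩, ⟨Kp.e0, Kp.e1, Kp.e0, Kp.e1, Kp.e2, Kp.e1, Kp.e0, Kp.e2, Kp.e1⟩, false)) ((⟨Kp.e1, Kp.e0, Kp.e0, Kp.e0, Kp.e1, Kp.e0, Kp.e0, Kp.e0, Kp.e1⟩, ⟨Kp.e1, Kp.e0, Kp.e0, Kp.e0, Kp.e1, Kp.e0, Kp.e0, Kp.e0, Kp.e1⟩, false))))) (pick g02 (pick g01 (pick g00 ((⟨Kp.e1, Kp.e0, Kp.e0, Kp.e0, Kp.e1, Kp.e0, Kp.e0, Kp.e0, Kp.e1⟩, ⟨Kp.e1, Kp.e0, Kp.e0, Kp.e0, Kp.e1, Kp.e0, Kp.e0, Kp.e0, Kp.e1⟩, false)) ((⟨Kp.e0, Kp.e1, Kp.e0, Kp.e0, Kp.e1, Kp.e1, Kp.e1, Kp.e0, Kp.e0⟩, ⟨Kp.e0, Kp.e0, Kp.e1, Kp.e1, Kp.e0, Kp.e0, Kp.e2, Kp.e1, Kp.e0⟩, false)) ((⟨Kp.e0, Kp.e0, Kp.e1, Kp.e0, Kp.e1, Kp.e2, Kp.e1, Kp.e0, Kp.e0⟩, ⟨Kp.e0, Kp.e0, Kp.e1, Kp.e1, Kp.e1, Kp.e0, Kp.e1, Kp.e0, Kp.e0⟩, true))) (pick g00 ((⟨Kp.e0, Kp.e1, Kp.e0, Kp.e0, Kp.e1, Kp.e1, Kp.e1, Kp.e1, Kp.e2⟩, ⟨Kp.e1, Kp.e1, Kp.e1, Kp.e1, Kp.e0, Kp.e0, Kp.e2, Kp.e1, Kp.e0⟩, false)) ((⟨Kp.e0, Kp.e0, Kp.e1, Kp.e0, Kp.e1, Kp.e2, Kp.e1, Kp.e1, Kp.e2⟩, ⟨Kp.e0, Kp.e2, Kp.e1, Kp.e1, Kp.e1, Kp.e0, Kp.e1, Kp.e0, Kp.e0⟩, true)) ((⟨Kp.e1, Kp.e0, Kp.e0, Kp.e0, Kp.e1, Kp.e0, Kp.e0, Kp.e0, Kp.e1⟩, ⟨Kp.e1, Kp.e0, Kp.e0, Kp.e0, Kp.e1, Kp.e0, Kp.e0, Kp.e0, Kp.e1⟩, false))) (pick g00 ((⟨Kp.e0, Kp.e1, Kp.e0, Kp.e0, Kp.e1, Kp.e1, Kp.e1, Kp.e2, Kp.e1⟩, ⟨Kp.e2, Kp.e2, Kp.e1, Kp.e1, Kp.e0, Kp.e0, Kp.e2, Kp.e1, Kp.e0⟩, false)) ((⟨Kp.e0, Kp.e0, Kp.e1, Kp.e0, Kp.e1, Kp.e2, Kp.e1, Kp.e2, Kp.e1⟩, ⟨Kp.e0, Kp.e1, Kp.e1, Kp.e1, Kp.e1, Kp.e0, Kp.e1, Kp.e0, Kp.e0⟩, true)) ((⟨Kp.e1, Kp.e0, Kp.e0, Kp.e0, Kp.e1, Kp.e0, Kp.e0, Kp.e0, Kp.e1⟩, ⟨Kp.e1, Kp.e0, Kp.e0, Kp.e0, Kp.e1, Kp.e0, Kp.e0, Kp.e0, Kp.e1⟩, false)))) (pick g01 (pick g00 ((⟨Kp.e0, Kp.e0, Kp.e1, Kp.e0, Kp.e1, Kp.e2, Kp.e1, Kp.e2, Kp.e2⟩, ⟨Kp.e2, Kp.e1, Kp.e1, Kp.e1, Kp.e1, Kp.e0, Kp.e1, Kp.e0, Kp.e0⟩, true)) ((⟨Kp.e1, Kp.e0, Kp.e0, Kp.e0, Kp.e1, Kp.e0, Kp.e0, Kp.e0, Kp.e1⟩, ⟨Kp.e1, Kp.e0, Kp.e0, Kp.e0, Kp.e1, Kp.e0, Kp.e0, Kp.e0, Kp.e1⟩, false)) ((⟨Kp.e0, Kp.e1, Kp.e0, Kp.e0, Kp.e1, Kp.e1, Kp.e1, Kp.e2, Kp.e2⟩, ⟨Kp.e0, Kp.e1, Kp.e1, Kp.e1, Kp.e0, Kp.e0, Kp.e2, Kp.e1, Kp.e0⟩, false))) (pick g00 ((⟨Kp.e0, Kp.e1, Kp.e0, Kp.e0, Kp.e1, Kp.e1, Kp.e1, Kp.e0, Kp.e1⟩, ⟨Kp.e1, Kp.e2, Kp.e1, Kp.e1, Kp.e0, Kp.e0, Kp.e2, Kp.e1, Kp.e0⟩, false)) ((⟨Kp.e0, Kp.e0, Kp.e1, Kp.e0, Kp.e1, Kp.e2, Kp.e1, Kp.e0, Kp.e1⟩, ⟨Kp.e2, Kp.e0, Kp.e1, Kp.e1, Kp.e1, Kp.e0, Kp.e1, Kp.e0, Kp.e0⟩, true)) ((⟨Kp.e1, Kp.e0, Kp.e0, Kp.e0, Kp.e1, Kp.e0, Kp.e0, Kp.e0, Kp.e1⟩, ⟨Kp.e1, Kp.e0, Kp.e0, Kp.e0, Kp.e1, Kp.e0, Kp.e0, Kp.e0, Kp.e1⟩, false))) (pick g00 ((⟨Kp.e0, Kp.e0, Kp.e1, Kp.e0, Kp.e1, Kp.e2, Kp.e1, Kp.e1, Kp.e0⟩, ⟨Kp.e2, Kp.e2, Kp.e1, Kp.e1, Kp.e1, Kp.e0, Kp.e1, Kp.e0, Kp.e0⟩, true)) ((⟨Kp.e1, Kp.e0, Kp.e0, Kp.e0, Kp.e1, Kp.e0, Kp.e0, Kp.e0, Kp.e1⟩, ⟨Kp.e1, Kp.e0, Kp.e0, Kp.e0, Kp.e1, Kp.e0, Kp.e0, Kp.e0, Kp.e1⟩, false)) ((⟨Kp.e0, Kp.e1, Kp.e0, Kp.e0, Kp.e1, Kp.e1, Kp.e1, Kp.e1, Kp.e0⟩, ⟨Kp.e2, Kp.e0, Kp.e1, Kp.e1, Kp.e0, Kp.e0, Kp.e2, Kp.e1, Kp.e0⟩, false)))) (pick g01 (pick g00 ((⟨Kp.e0, Kp.e0, Kp.e1, Kp.e0, Kp.e1, Kp.e2, Kp.e1, Kp.e1, Kp.e1⟩, ⟨Kp.e1, Kp.e2, Kp.e1, Kp.e1, Kp.e1, Kp.e0, Kp.e1, Kp.e0, Kp.e0⟩, true)) ((⟨Kp.e1, Kp.e0, Kp.e0, Kp.e0, Kp.e1, Kp.e0, Kp.e0, Kp.e0, Kp.e1⟩, ⟨Kp.e1, Kp.e0, Kp.e0, Kp.e0, Kp.e1, Kp.e0, Kp.e0, Kp.e0, Kp.e1⟩, false)) ((⟨Kp.e0, Kp.e1, Kp.e0, Kp.e0, Kp.e1, Kp.e1, Kp.e1, Kp.e1, Kp.e1⟩, ⟨Kp.e0, Kp.e2, Kp.e1, Kp.e1, Kp.e0, Kp.e0, Kp.e2, Kp.e1, Kp.e0⟩, false))) (pick g00 ((⟨Kp.e0, Kp.e0, Kp.e1, Kp.e0, Kp.e1, Kp.e2, Kp.e1, Kp.e2, Kp.e0⟩, ⟨Kp.e1, Kp.e1, Kp.e1, Kp.e1, Kp.e1, Kp.e0, Kp.e1, Kp.e0, Kp.e0⟩, true)) ((⟨Kp.e1, Kp.e0, Kp.e0, Kp.e0, Kp.e1, Kp.e0, Kp.e0, Kp.e0, Kp.e1⟩, ⟨Kp.e1, Kp.e0, Kp.e0, Kp.e0, Kp.e1, Kp.e0, Kp.e0, Kp.e0, Kp.e1⟩, false)) ((⟨Kp.e0, Kp.e1, Kp.e0, Kp.e0, Kp.e1, Kp.e1, Kp.e1, Kp.e2, Kp.e0⟩, ⟨Kp.e1, Kp.e0, Kp.e1, Kp.e1, Kp.e0, Kp.e0, Kp.e2, Kp.e1, Kp.e0⟩, false))) (pick g00 ((⟨Kp.e0, Kp.e1, Kp.e0, Kp.e0, Kp.e1, Kp.e1, Kp.e1, Kp.e0, Kp.e2⟩, ⟨Kp.e2, Kp.e1, Kp.e1, Kp.e1, Kp.e0, Kp.e0, Kp.e2, Kp.e1, Kp.e0⟩, false)) ((⟨Kp.e0, Kp.e0, Kp.e1, Kp.e0, Kp.e1, Kp.e2, Kp.e1, Kp.e0, Kp.e2⟩, ⟨Kp.e1, Kp.e0, Kp.e1, Kp.e1, Kp.e1, Kp.e0, Kp.e1, Kp.e0, Kp.e0⟩, true)) ((⟨Kp.e1, Kp.e0, Kp.e0, Kp.e0, Kp.e1, Kp.e0, Kp.e0, Kp.e0, Kp.e1⟩, ⟨Kp.e1, Kp.e0, Kp.e0, Kp.e0, Kp.e1, Kp.e0, Kp.e0, Kp.e0, Kp.e1⟩, false))))) (pick g02 (pick g01 (pick g00 ((⟨Kp.e1, Kp.e0, Kp.e0, Kp.e0, Kp.e1, Kp.e0, Kp.e0, Kp.e0, Kp.e1⟩, ⟨Kp.e1, Kp.e0, Kp.e0, Kp.e0, Kp.e1, Kp.e0, Kp.e0, Kp.e0, Kp.e1⟩, false)) ((⟨Kp.e1, Kp.e0, Kp.e0, Kp.e0, Kp.e1, Kp.e0, Kp.e0, Kp.e0, Kp.e1⟩, ⟨Kp.e1, Kp.e0, Kp.e0, Kp.e0, Kp.e1, Kp.e0, Kp.e0, Kp.e0, Kp.e1⟩, false)) ((⟨Kp.e1, Kp.e0, Kp.e0, Kp.e0, Kp.e1, Kp.e0, Kp.e0, Kp.e0, Kp.e1⟩, ⟨Kp.e1, Kp.e0, Kp.e0, Kp.e0, Kp.e1, Kp.e0, Kp.e0, Kp.e0, Kp.e1⟩, false))) (pick g00 ((⟨Kp.e1, Kp.e1, Kp.e0, Kp.e1, Kp.e1, Kp.e1, Kp.e1, Kp.e2, Kp.e1⟩, ⟨Kp.e1, Kp.e1, Kp.e2, Kp.e0, Kp.e2, Kp.e1, Kp.e2, Kp.e1, Kp.e0⟩, false)) ((⟨Kp.e1, Kp.e0, Kp.e0, Kp.e1, Kp.e2, Kp.e0, Kp.e1, Kp.e2, Kp.e2⟩, ⟨Kp.e1, Kp.e0, Kp.e0, Kp.e1, Kp.e2, Kp.e0, Kp.e0, Kp.e1, Kp.e2⟩, false)) ((⟨Kp.e1, Kp.e0, Kp.e1, Kp.e1, Kp.e0, Kp.e2, Kp.e1, Kp.e1, Kp.e2⟩, ⟨Kp.e2, Kp.e2, Kp.e0, Kp.e0, Kp.e2, Kp.e1, Kp.e2, Kp.e1, Kp.e0⟩, false))) (pick g00 ((⟨Kp.e1, Kp.e1, Kp.e2, Kp.e1, Kp.e2, Kp.e0, Kp.e1, Kp.e2, Kp.e2⟩, ⟨Kp.e2, Kp.e1, Kp.e1, Kp.e2, Kp.e0, Kp.e1, Kp.e0, Kp.e1, Kp.e2⟩, false)) ((⟨Kp.e1, Kp.e0, Kp.e0, Kp.e1, Kp.e1, Kp.e0, Kp.e1, Kp.e1, Kp.e1⟩, ⟨Kp.e1, Kp.e0, Kp.e0, Kp.e2, Kp.e1, Kp.e0, Kp.e0, Kp.e2, Kp.e1⟩, false)) ((⟨Kp.e1, Kp.e0, Kp.e1, Kp.e1, Kp.e0, Kp.e2, Kp.e1, Kp.e2, Kp.e1⟩, ⟨Kp.e2, Kp.e2, Kp.e0, Kp.e1, Kp.e0, Kp.e2, Kp.e2, Kp.e1, Kp.e0⟩, false)))) (pick g01 (pick g00 ((⟨Kp.e1, Kp.e0, Kp.e1, Kp.e1, Kp.e1, Kp.e1, Kp.e1, Kp.e1, Kp.e2⟩, ⟨Kp.e1, Kp.e1, Kp.e2, Kp.e2, Kp.e1, Kp.e0, Kp.e0, Kp.e2, Kp.e1⟩, false)) ((⟨Kp.e1, Kp.e0, Kp.e0, Kp.e1, Kp.e0, Kp.e2, Kp.e1, Kp.e2, Kp.e2⟩, ⟨Kp.e1, Kp.e0, Kp.e0, Kp.e0, Kp.e1, Kp.e2, Kp.e1, Kp.e2, Kp.e0⟩, false)) ((⟨Kp.e1, Kp.e1, Kp.e0, Kp.e1, Kp.e2, Kp.e0, Kp.e1, Kp.e2, Kp.e1⟩, ⟨Kp.e2, Kp.e2, Kp.e0, Kp.e2, Kp.e1, Kp.e0, Kp.e0, Kp.e2, Kp.e1⟩, false))) (pick g00 ((⟨Kp.e1, Kp.e0, Kp.e0, Kp.e0, Kp.e1, Kp.e0, Kp.e0, Kp.e0, Kp.e1⟩, ⟨Kp.e1, Kp.e0, Kp.e0, Kp.e0, Kp.e1, Kp.e0, Kp.e0, Kp.e0, Kp.e1⟩, false)) ((⟨Kp.e1, Kp.e0, Kp.e0, Kp.e0, Kp.e1, Kp.e0, Kp.e0, Kp.e0, Kp.e1⟩, ⟨Kp.e1, Kp.e0, Kp.e0, Kp.e0, Kp.e1, Kp.e0, Kp.e0, Kp.e0, Kp.e1⟩, false)) ((⟨Kp.e1, Kp.e0, Kp.e0, Kp.e0, Kp.e1, Kp.e0, Kp.e0, Kp.e0, Kp.e1⟩, ⟨Kp.e1, Kp.e0, Kp.e0, Kp.e0, Kp.e1, Kp.e0, Kp.e0, Kp.e0, Kp.e1⟩, false))) (pick g00 ((⟨Kp.e1, Kp.e0, Kp.e1, Kp.e1, Kp.e2, Kp.e0, Kp.e1, Kp.e2, Kp.e1⟩, ⟨Kp.e1, Kp.e1, Kp.e2, Kp.e1, Kp.e0, Kp.e2, Kp.e0, Kp.e2, Kp.e1⟩, false)) ((⟨Kp.e1, Kp.e0, Kp.e0, Kp.e1, Kp.e0, Kp.e2, Kp.e1, Kp.e1, Kp.e0⟩, ⟨Kp.e1, Kp.e0, Kp.e0, Kp.e2, Kp.e0, Kp.e1, Kp.e1, Kp.e2, Kp.e0⟩, false)) ((⟨Kp.e1, Kp.e1, Kp.e1, Kp.e1, Kp.e1, Kp.e2, Kp.e1, Kp.e2, Kp.e2⟩, ⟨Kp.e2, Kp.e0, Kp.e2, Kp.e0, Kp.e2, Kp.e1, Kp.e2, Kp.e1, Kp.e0⟩, false)))) (pick g01 (pick g00 ((⟨Kp.e1, Kp.e0, Kp.e2, Kp.e1, Kp.e2, Kp.e1, Kp.e1, Kp.e2, Kp.e2⟩, ⟨Kp.e1, Kp.e2, Kp.e1, Kp.e1, Kp.e0, Kp.e2, Kp.e0, Kp.e2, Kp.e1⟩, false)) ((⟨Kp.e1, Kp.e0, Kp.e0, Kp.e1, Kp.e0, Kp.e1, Kp.e1, Kp.e1, Kp.e1⟩, ⟨Kp.e1, Kp.e0, Kp.e0, Kp.e0, Kp.e2, Kp.e1, Kp.e2, Kp.e1, Kp.e0⟩, false)) ((⟨Kp.e1, Kp.e1, Kp.e0, Kp.e1, Kp.e1, Kp.e2, Kp.e1, Kp.e2, Kp.e0⟩, ⟨Kp.e2, Kp.e0, Kp.e2, Kp.e2, Kp.e0, Kp.e1, Kp.e1, Kp.e2, Kp.e0⟩, false))) (pick g00 ((⟨Kp.e1, Kp.e0, Kp.e2, Kp.e1, Kp.e1, Kp.e0, Kp.e1, Kp.e1, Kp.e2⟩, ⟨Kp.e1, Kp.e1, Kp.e2, Kp.e2, Kp.e0, Kp.e1, Kp.e0, Kp.e1, Kp.e2⟩, false)) ((⟨Kp.e1, Kp.e0, Kp.e0, Kp.e1, Kp.e0, Kp.e1, Kp.e1, Kp.e2, Kp.e0⟩, ⟨Kp.e1, Kp.e0, Kp.e0, Kp.e1, Kp.e0, Kp.e2, Kp.e2, Kp.e1, Kp.e0⟩, false)) ((⟨Kp.e1, Kp.e1, Kp.e1, Kp.e1, Kp.e2, Kp.e1, Kp.e1, Kp.e2, Kp.e2⟩, ⟨Kp.e2, Kp.e0, Kp.e2, Kp.e2, Kp.e1, Kp.e0, Kp.e0, Kp.e2, Kp.e1⟩, false))) (pick g00 ((⟨Kp.e1, Kp.e0, Kp.e0, Kp.e0, Kp.e1, Kp.e0, Kp.e0, Kp.e0, Kp.e1⟩, ⟨Kp.e1, Kp.e0, Kp.e0, Kp.e0, Kp.e1, Kp.e0, Kp.e0, Kp.e0, Kp.e1⟩, false)) ((⟨Kp.e1, Kp.e0, Kp.e0, Kp.e0, Kp.e1, Kp.e0, Kp.e0, Kp.e0, Kp.e1⟩, ⟨Kp.e1, Kp.e0, Kp.e0, Kp.e0, Kp.e1, Kp.e0, Kp.e0, Kp.e0, Kp.e1⟩, false)) ((⟨Kp.e1, Kp.e0, Kp.e0, Kp.e0, Kp.e1, Kp.e0, Kp.e0, Kp.e0, Kp.e1⟩, ⟨Kp.e1, Kp.e0, Kp.e0, Kp.e0, Kp.e1, Kp.e0, Kp.e0, Kp.e0, Kp.e1⟩, false)))))))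

/-- the scalar `λ` with `λ^4 = -1` (flag) or `1` -/
def tL (b : Bool) : Kq := if b then ⟨Kp.e1, Kp.e1⟩ else Kq.one

/-- its inverse -/
def tLi (b : Bool) : Kq := if b then ⟨Kp.e2, Kp.e1⟩ else Kq.one

/-- the normalising matrix -/
noncomputable def tB (g00 g01 g02 g11 g12 g22 : Kp) : M3 :=
  scl (tL (tblEntry g00 g01 g02 g11 g12 g22).2.2) (tblEntry g00 g01 g02 g11 g12 g22).1.toM3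

/-- its inverse -/
noncomputable def tBi (g00 g01 g02 g11 g12 g22 : Kp) : M3 :=
  scl (tLi (tblEntry g00 g01 g02 g11 g12 g22).2.2) (tblEntry g00 g01 g02 g11 g12 g22).2.1.toM3

theorem table_good : ∀ g00 g01 g02 g11 g12 g22 : Kp, det3 (symM g00 g01 g02 g11 g12 g22) ≠ Kq.zero →
    (∀ i j : Fin 3, hGen (symM g00 g01 g02 g11 g12 g22) ((tB g00 g01 g02 g11 g12 g22).col i)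
      ((tB g00 g01 g02 g11 g12 g22).col j) = hS (Id3.col i) (Id3.col j)) ∧
    mm (tB g00 g01 g02 g11 g12 g22) (tBi g00 g01 g02 g11 g12 g22) = Id3 ∧
    mm (tBi g00 g01 g02 g11 g12 g22) (tB g00 g01 g02 g11 g12 g22) = Id3 := by decide +kernel

theorem tL_ne_zero : ∀ b : Bool, tL b ≠ Kq.zero := by decide +kernel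

/-- arithmetic of the model used to read columns -/
theorem Kq_lin0 : ∀ x0 x1 y0 y1 z0 z1 : Kp, Kq.add (Kq.add (Kq.mul Kq.one ⟨x0, x1⟩) (Kq.mul Kq.zero ⟨y0, y1⟩))
    (Kq.mul Kq.zero ⟨z0, z1⟩) = ⟨x0, x1⟩ := by decide +kernel
theorem Kq_lin1 : ∀ x0 x1 y0 y1 z0 z1 : Kp, Kq.add (Kq.add (Kq.mul Kq.zero ⟨x0, x1⟩) (Kq.mul Kq.one ⟨y0, y1⟩))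
    (Kq.mul Kq.zero ⟨z0, z1⟩) = ⟨y0, y1⟩ := by decide +kernel
theorem Kq_lin2 : ∀ x0 x1 y0 y1 z0 z1 : Kp, Kq.add (Kq.add (Kq.mul Kq.zero ⟨x0, x1⟩) (Kq.mul Kq.zero ⟨y0, y1⟩))
    (Kq.mul Kq.one ⟨z0, z1⟩) = ⟨z0, z1⟩ := by decide +kernel

theorem hS_Id3 : ∀ i j : Fin 3, hS (Id3.col i) (Id3.col j) = if i = j then Kq.one else Kq.zero := by decide +kernel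

end Cfsg.Agent.Lib.Helper27.SU3O
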