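import Mathlib
import Cfsg.Prelude.Def_GeometricClasses
import Cfsg.Agent.Lib.Helper9.SubfieldA
import Cfsg.Agent.Lib.Helper10.SU33Basis
import Cfsg.Agent.Lib.Helper27.SU3Orth3Model

set_option autoImplicit false
set_option maxHeartbeats 2000000
set_option linter.unusedSectionVars false
set_option linter.style.haveILetI false

/-!
# `SO_3(3) = S_4 < L_2(7) < SU_3(3)`: the subfield group of a unitary rational structure is not maximal

`P₁` unitary: the subfield group `P₁ (GL_3(F₀) F^×) P₁⁻¹ ∩ SU_3(3)` consists of the `P₁ (c N) P₁⁻¹`, `N` orthogonal over `F₀`;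
it preserves the cone over the 21 points of the model, as does the involution `gO`; a transvection does not.
-/

namespace Cfsg.Agent.Lib.Helper27.SU3O

open Cfsg.Agent.Lib.Helper10.UH Cfsg.Agent.Lib.Helper10.SU33 Matrix

/-! ### The model: reading columns -/

theorem mv_Id3_col (A : M3) (i : Fin 3) : mv A (Id3.col i) = A.col i := by
  obtain ⟨⟨⟨x0, x1⟩, ⟨x2, x3⟩, ⟨x4, x5⟩⟩, ⟨⟨y0, y1⟩, ⟨y2, y3⟩, ⟨y4, y5⟩⟩, ⟨⟨z0, z1⟩, ⟨z2, z3⟩, ⟨z4, z5⟩⟩⟩ := A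
  fin_cases i
  · show (⟨_, _, _⟩ : V3) = _
    simp only [M3.col, V3.mk.injEq]
    exact ⟨Kq_lin0 _ _ _ _ _ _, Kq_lin0 _ _ _ _ _ _, Kq_lin0 _ _ _ _ _ _⟩
  · show (⟨_, _, _⟩ : V3) = _
    simp only [M3.col, V3.mk.injEq]
    exact ⟨Kq_lin1 _ _ _ _ _ _, Kq_lin1 _ _ _ _ _ _, Kq_lin1 _ _ _ _ _ _⟩
  · show (⟨_, _, _⟩ : V3) = _
    simp only [M3.col, V3.mk.injEq]
    exact ⟨Kq_lin2 _ _ _ _ _ _, Kq_lin2 _ _ _ _ _ _, Kq_lin2 _ _ _ _ _ _⟩

/-! ### The bridge for vectors and matrices over the prime field -/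

section Bridge

variable {F : Type*} [Field F] [CharP F 3] (ι : F)

theorem phi_real (x : Kp) : phi ι ⟨x, Kp.e0⟩ = phip x := by
  simp [phi, phip_e0]

theorem vec_rv (x y z : Kp) : vec ι (rv x y z) = ![phip x, phip y, phip z] := by
  simp [Helper10.SU33.vec, rv, phi_real]

theorem mat_scl (hι : ι ^ 2 = 2) (k : Kq) (A : M3) : mat ι (scl k A) = phi ι k • mat ι A := by
  ext i j
  fin_cases j <;> simp [mat, scl, M3.col, vec_smul ι hι]

theorem mat_col (A : M3) (j : Fin 3) : mat ι A *ᵥ Pi.single j 1 = vec ι (A.col j) := by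
  funext i
  simp [mat]

theorem mat_RM (R : RM) : mat ι R.toM3 = !![phip R.x00, phip R.x01, phip R.x02; phip R.x10, phip R.x11, phip R.x12;
    phip R.x20, phip R.x21, phip R.x22] := by
  ext i j
  fin_cases i <;> fin_cases j <;> simp [mat, RM.toM3, M3.col, vec_rv]

end Bridge

/-! ### The subfield with three elements -/

section Sub

variable {F : Type*} [Field F] [Fintype F]

theorem card_F0 (hF : Fintype.card F = 3 ^ 2) (F₀ : Subfield F) (hcard : Fintype.card F = Nat.card F₀ ^ 2) :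
    Nat.card F₀ = 3 := by
  have h : Nat.card F₀ ^ 2 = 3 ^ 2 := by rw [← hcard, hF]
  exact Nat.pow_left_injective (by norm_num : (2 : ℕ) ≠ 0) h

theorem mem_F0 (hF : Fintype.card F = 3 ^ 2) (F₀ : Subfield F) (hcard : Fintype.card F = Nat.card F₀ ^ 2) {x : F}
    (hx : x ∈ F₀) : ∃ k : Kp, x = phip k := by
  classical
  haveI := charP_F hF
  have h3 : (3 : F) = 0 := by exact_mod_cast char_eq_zero (by norm_num : Nat.Prime 3) hF
  haveI : Fintype F₀ := Fintype.ofFinite F₀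
  have hc : Fintype.card F₀ = 3 := by rw [← Nat.card_eq_fintype_card]; exact card_F0 hF F₀ hcard
  have hpow : (⟨x, hx⟩ : F₀) ^ 3 = ⟨x, hx⟩ := by
    have := FiniteField.pow_card (⟨x, hx⟩ : F₀)
    rwa [hc] at this
  have hx3 : x ^ 3 = x := by
    have := congrArg (Subtype.val) hpow
    simpa using this
  have hfac : x * ((x - 1) * (x - 2)) = 0 := by linear_combination hx3 - x ^ 2 * h3 + x * h3
  rcases mul_eq_zero.mp hfac with h | h
  · exact ⟨Kp.e0, by rw [phip_e0]; exact h⟩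
  rcases mul_eq_zero.mp h with h | h
  · exact ⟨Kp.e1, by rw [phip_e1]; exact sub_eq_zero.mp h⟩
  · exact ⟨Kp.e2, by rw [phip_e2]; exact sub_eq_zero.mp h⟩

theorem phip_mem (F₀ : Subfield F) (k : Kp) : (phip k : F) ∈ F₀ := by
  unfold phip
  exact natCast_mem F₀ _

end Sub

/-! ### The elements of the subfield group -/

section Mem

variable {F : Type*} [Field F]

theorem mem_subfield_conj3 {n : ℕ} (F₀ : Subfield F) (P g : GL (Fin n) F) :
    g ∈ Cfsg.Geo.subfieldSubgroup F₀ P ↔ P⁻¹ * g * P ∈ Cfsg.Geo.subfieldSubgroup F₀ (1 : GL (Fin n) F) := by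
  unfold Cfsg.Geo.subfieldSubgroup
  have h1 : (MulAut.conj (1 : GL (Fin n) F)).toMonoidHom = MonoidHom.id _ := by
    ext g
    simp
  rw [h1, Subgroup.map_id, Subgroup.mem_map]
  constructor
  · rintro ⟨y, hy, rfl⟩
    have : P⁻¹ * ((MulAut.conj P).toMonoidHom y) * P = y := by
      change P⁻¹ * (P * y * P⁻¹) * P = y
      group
    rw [this]
    exact hy
  · intro h
    refine ⟨_, h, ?_⟩
    change P * (P⁻¹ * g * P) * P⁻¹ = g
    group

variable [Fintype F]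

theorem exists_model_of_mem (hF : Fintype.card F = 3 ^ 2) (F₀ : Subfield F) (hcard : Fintype.card F = Nat.card F₀ ^ 2)
    (ι : F) (hι : ι ^ 2 = 2) (P₁ g : GL (Fin 3) F) (hg : g ∈ Cfsg.Geo.subfieldSubgroup F₀ P₁) :
    ∃ (κ : Kq) (R : RM), (g : Matrix (Fin 3) (Fin 3) F) =
      cj ι (P₁ : Matrix (Fin 3) (Fin 3) F) ((P₁⁻¹ : GL (Fin 3) F) : Matrix (Fin 3) (Fin 3) F) (scl κ R.toM3) := by
  haveI := charP_F hF
  rw [mem_subfield_conj3, Cfsg.Agent.Lib.Helper9.SubfieldA.mem_subfield_iff] at hg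
  obtain ⟨a, c, hac⟩ := hg
  have hent : ∀ i j, ∃ k : Kp, (((a : Matrix (Fin 3) (Fin 3) F₀) i j : F₀) : F) = phip k :=
    fun i j => mem_F0 hF F₀ hcard ((a : Matrix (Fin 3) (Fin 3) F₀) i j).2
  choose ν hν using hent
  obtain ⟨κ, hκ⟩ := phi_surjective hF ι hι (c : F)
  refine ⟨κ, ⟨ν 0 0, ν 1 0, ν 2 0, ν 0 1, ν 1 1, ν 2 1, ν 0 2, ν 1 2, ν 2 2⟩, ?_⟩
  have hm : mat ι (scl κ (RM.toM3 ⟨ν 0 0, ν 1 0, ν 2 0, ν 0 1, ν 1 1, ν 2 1, ν 0 2, ν 1 2, ν 2 2⟩)) =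
      (c : F) • (a : Matrix (Fin 3) (Fin 3) F₀).map (F₀.subtype : F₀ →+* F) := by
    rw [mat_scl ι hι, hκ, mat_RM]
    congr 1
    ext i j
    fin_cases i <;> fin_cases j <;> simp [hν]
  have hgg : g = P₁ * (P₁⁻¹ * g * P₁) * P₁⁻¹ := by group
  unfold cj
  rw [hm, ← hac]
  conv_lhs => rw [hgg]
  rw [Units.val_mul, Units.val_mul]

end Mem

/-! ### The main statement for a unitary rational structure -/

section Main

variable {F : Type*} [Field F] [Fintype F]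

theorem su3_orth_std (hF : Fintype.card F = 3 ^ 2) (F₀ : Subfield F) (hcard : Fintype.card F = Nat.card F₀ ^ 2)
    (P₁ : GL (Fin 3) F) (hP₁ : P₁ ∈ Cfsg.GU 3 F 3) :
    ¬ Cfsg.Geo.IsMaximalIn (Cfsg.GU 3 F 3 ⊓ Cfsg.Geo.specialLinear (Fin 3) F)
      (Cfsg.Geo.subfieldSubgroup F₀ P₁ ⊓ (Cfsg.GU 3 F 3 ⊓ Cfsg.Geo.specialLinear (Fin 3) F)) := by
  classical
  rintro ⟨-, hmax⟩
  have hp : Nat.Prime 3 := by norm_num
  have hq : QF F 3 := QF.of_card hp hF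
  have hpos : 0 < 3 := by norm_num
  haveI := charP_F hF
  have h3 : (3 : F) = 0 := by exact_mod_cast char_eq_zero hp hF
  obtain ⟨ι, hι⟩ := exists_iota hF
  have hιp : ι ^ 3 = -ι := iota_pow ι hι
  obtain ⟨P, hP⟩ : ∃ P : Matrix (Fin 3) (Fin 3) F, P = (P₁ : Matrix (Fin 3) (Fin 3) F) := ⟨_, rfl⟩
  obtain ⟨P', hP'⟩ : ∃ P' : Matrix (Fin 3) (Fin 3) F,
      P' = ((P₁⁻¹ : GL (Fin 3) F) : Matrix (Fin 3) (Fin 3) F) := ⟨_, rfl⟩
  have hPP' : P * P' = 1 := by rw [hP, hP', ← Units.val_mul, mul_inv_cancel, Units.val_one]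
  have hP'P : P' * P = 1 := by rw [hP, hP', ← Units.val_mul, inv_mul_cancel, Units.val_one]
  have hPU : ∀ u v : Fin 3 → F, hf 3 (P *ᵥ u) (P *ᵥ v) = hf 3 u v := by rw [hP]; exact hP₁
  have hform : ∀ v w : V3, hf 3 (P *ᵥ Helper10.SU33.vec ι v) (P *ᵥ Helper10.SU33.vec ι w) = phi ι (hS v w) := by
    intro v w
    rw [hPU, hS, phi_dot ι hι, hf_def]
    exact Finset.sum_congr rfl fun i _ => by rw [vec_frob ι hι]
  have hcjmul := cj_mul ι P P' hι hP'P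
  have hcj1 : cj ι P P' Id3 = 1 := cj_Id3 ι P P' hPP'
  have hcjv := cj_mulVec ι P P' hι hP'P
  -- the cone over the 21 points
  obtain ⟨O, hO⟩ : ∃ O : Set (Fin 3 → F),
      O = {w | ∃ r ∈ reps, ∃ c : F, c ≠ 0 ∧ w = c • (P *ᵥ Helper10.SU33.vec ι r)} := ⟨_, rfl⟩
  have hOfin : O.Finite := Set.toFinite O
  have hphi0 : ∀ k : Kq, k ≠ Kq.zero → phi ι k ≠ 0 := by
    intro k hk h0
    apply hk
    apply phi_injective ι hι
    rw [h0, phi_zero]
  have hOsmul : ∀ c : F, c ≠ 0 → ∀ w ∈ O, c • w ∈ O := by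
    intro c hc w hw
    rw [hO] at hw ⊢
    obtain ⟨r, hr, c', hc', rfl⟩ := hw
    exact ⟨r, hr, c * c', mul_ne_zero hc hc', by rw [smul_smul]⟩
  have hcjO : ∀ A : M3, (∀ r ∈ reps, inO (mv A r) = true) → ∀ w ∈ O, cj ι P P' A *ᵥ w ∈ O := by
    intro A hA w hw
    rw [hO] at hw
    obtain ⟨r, hr, c, hc, rfl⟩ := hw
    rw [Matrix.mulVec_smul, hcjv]
    apply hOsmul c hc
    have h1 := hA r hr
    obtain ⟨o, ho⟩ : ∃ o, o = mv A r := ⟨_, rfl⟩
    rw [← ho] at h1 ⊢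
    obtain ⟨⟨a0, a1⟩, ⟨b0, b1⟩, ⟨c0, c1⟩⟩ := o
    obtain ⟨r', hr', k0, k1, hk, hrk⟩ := inO_rep _ _ _ _ _ _ h1
    rw [hrk, vec_smul ι hι, Matrix.mulVec_smul, hO]
    exact ⟨r', hr', phi ι ⟨k0, k1⟩, hphi0 _ hk, rfl⟩
  have hdet1 : ∀ M : Matrix.GeneralLinearGroup (Fin 3) F, (M : Matrix (Fin 3) (Fin 3) F).det = 1 →
      M ∈ Cfsg.Geo.specialLinear (Fin 3) F := by
    intro M hM
    show Matrix.GeneralLinearGroup.det M = 1
    apply Units.ext
    rw [Matrix.GeneralLinearGroup.val_det_apply, Units.val_one]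
    exact hM
  have hGUmem : ∀ M : Matrix.GeneralLinearGroup (Fin 3) F,
      (∀ u v : Fin 3 → F, hf 3 ((M : Matrix (Fin 3) (Fin 3) F) *ᵥ u) ((M : Matrix (Fin 3) (Fin 3) F) *ᵥ v) =
        hf 3 u v) → M ∈ Cfsg.GU 3 F 3 := fun M hM => hM
  -- the subfield group preserves the cone
  have hNX : Cfsg.Geo.subfieldSubgroup F₀ P₁ ⊓ (Cfsg.GU 3 F 3 ⊓ Cfsg.Geo.specialLinear (Fin 3) F) ≤
      Cfsg.stabilizing (Cfsg.glToMat (Fin 3) F) O ⊓ (Cfsg.GU 3 F 3 ⊓ Cfsg.Geo.specialLinear (Fin 3) F) := by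
    rintro g ⟨hgN, hgU, hgS⟩
    refine ⟨?_, hgU, hgS⟩
    obtain ⟨κ, R, hgκ⟩ := exists_model_of_mem hF F₀ hcard ι hι P₁ g hgN
    rw [← hP, ← hP'] at hgκ
    have huni : ∀ i j : Fin 3, hS ((scl κ R.toM3).col i) ((scl κ R.toM3).col j) = hS (Id3.col i) (Id3.col j) := by
      intro i j
      apply phi_injective ι hι
      have e1 : ∀ i : Fin 3, (g : Matrix (Fin 3) (Fin 3) F) *ᵥ (P *ᵥ Helper10.SU33.vec ι (Id3.col i)) =
          P *ᵥ Helper10.SU33.vec ι ((scl κ R.toM3).col i) := by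
        intro i
        rw [hgκ, hcjv, mv_Id3_col]
      have h1 := hgU (P *ᵥ Helper10.SU33.vec ι (Id3.col i)) (P *ᵥ Helper10.SU33.vec ι (Id3.col j))
      change hf 3 ((g : Matrix (Fin 3) (Fin 3) F) *ᵥ _) ((g : Matrix (Fin 3) (Fin 3) F) *ᵥ _) = hf 3 _ _ at h1
      rw [e1, e1, hform, hform] at h1
      exact h1
    obtain ⟨k0, k1⟩ := κ
    obtain ⟨x00, x10, x20, x01, x11, x21, x02, x12, x22⟩ := R
    have h00 : hS (V3.smul ⟨k0, k1⟩ (rv x00 x10 x20)) (V3.smul ⟨k0, k1⟩ (rv x00 x10 x20)) = Kq.one :=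
      (huni 0 0).trans (by decide)
    have h11 : hS (V3.smul ⟨k0, k1⟩ (rv x01 x11 x21)) (V3.smul ⟨k0, k1⟩ (rv x01 x11 x21)) = Kq.one :=
      (huni 1 1).trans (by decide)
    have h22 : hS (V3.smul ⟨k0, k1⟩ (rv x02 x12 x22)) (V3.smul ⟨k0, k1⟩ (rv x02 x12 x22)) = Kq.one :=
      (huni 2 2).trans (by decide)
    have h01 : hS (V3.smul ⟨k0, k1⟩ (rv x00 x10 x20)) (V3.smul ⟨k0, k1⟩ (rv x01 x11 x21)) = Kq.zero :=
      (huni 0 1).trans (by decide)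
    have h02 : hS (V3.smul ⟨k0, k1⟩ (rv x00 x10 x20)) (V3.smul ⟨k0, k1⟩ (rv x02 x12 x22)) = Kq.zero :=
      (huni 0 2).trans (by decide)
    have h12 : hS (V3.smul ⟨k0, k1⟩ (rv x01 x11 x21)) (V3.smul ⟨k0, k1⟩ (rv x02 x12 x22)) = Kq.zero :=
      (huni 1 2).trans (by decide)
    have horth := real_unitary_orth k0 k1 x00 x10 x20 h00 x01 x11 x21 h11 h01 x02 x12 x22 h22 h02 h12
    have hclosed := real_orth_closed x00 x10 x20 horth.1 x01 x11 x21 horth.2.1 horth.2.2.1 x02 x12 x22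
      horth.2.2.2.1 horth.2.2.2.2.1 horth.2.2.2.2.2
    have hk : (⟨k0, k1⟩ : Kq) ≠ Kq.zero := real_unitary_ne k0 k1 x00 x10 x20 h00
    have hsplit : (g : Matrix (Fin 3) (Fin 3) F) = phi ι ⟨k0, k1⟩ •
        cj ι P P' (RM.toM3 ⟨x00, x10, x20, x01, x11, x21, x02, x12, x22⟩) := by
      rw [hgκ]
      unfold cj
      rw [mat_scl ι hι, Matrix.mul_smul, Matrix.smul_mul]
    apply mem_stabilizing_of_mapsTo g O hOfin
    intro w hw
    rw [hsplit, Matrix.smul_mulVec]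
    exact hOsmul _ (hphi0 _ hk) _ (hcjO _ hclosed w hw)
  rcases hmax _ hNX inf_le_right with h | h
  · -- the involution `gO` is in the overgroup, not in the subfield group
    obtain ⟨g₁, hg₁⟩ : ∃ g₁ : Matrix.GeneralLinearGroup (Fin 3) F,
        (g₁ : Matrix (Fin 3) (Fin 3) F) = cj ι P P' gO :=
      ⟨⟨cj ι P P' gO, cj ι P P' gO, by rw [hcjmul, mm_gO_gO, hcj1], by rw [hcjmul, mm_gO_gO, hcj1]⟩, rfl⟩
    have hg₁X : g₁ ∈ Cfsg.stabilizing (Cfsg.glToMat (Fin 3) F) O ⊓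
        (Cfsg.GU 3 F 3 ⊓ Cfsg.Geo.specialLinear (Fin 3) F) := by
      refine ⟨mem_stabilizing_of_mapsTo g₁ O hOfin ?_, ?_, ?_⟩
      · rw [hg₁]; exact hcjO gO orbit_gO
      · apply hGUmem
        rw [hg₁]
        intro u v
        apply unitary_of_basis P P' hq hPP'
        intro i j
        rw [← vec_Id3_col ι i, ← vec_Id3_col ι j, hcjv, hcjv, hform, hform, unitary_gO]
      · apply hdet1
        rw [hg₁, cj_det ι P P' hι hPP', det_gO, phi_one]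
    rw [h] at hg₁X
    obtain ⟨κ, R, hgκ⟩ := exists_model_of_mem hF F₀ hcard ι hι P₁ g₁ hg₁X.1
    rw [← hP, ← hP', hg₁] at hgκ
    have heq := cj_injective ι P P' hι hPP' hP'P hgκ
    obtain ⟨k0, k1⟩ := κ
    obtain ⟨x00, x10, x20, x01, x11, x21, x02, x12, x22⟩ := R
    have hc1 : gO.c1 = V3.smul ⟨k0, k1⟩ (rv x01 x11 x21) := congrArg M3.c1 heq
    exact gO_col1 k0 k1 x01 x11 x21 hc1.symm
  · -- a transvection of the special unitary group which moves the cone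
    have hu : hf 3 (P *ᵥ Helper10.SU33.vec ι u0) (P *ᵥ Helper10.SU33.vec ι u0) = 0 := by
      rw [hform, u0_isotropic, phi_zero]
    obtain ⟨T, hT⟩ : ∃ T, T = tv 3 ι (P *ᵥ Helper10.SU33.vec ι u0) hu := ⟨_, rfl⟩
    have hTK : T ∈ Cfsg.GU 3 F 3 ⊓ Cfsg.Geo.specialLinear (Fin 3) F := by
      rw [hT]
      exact ⟨tv_mem_GU hq hpos ι hιp _ hu, tv_mem_SL hq hpos (by exact_mod_cast h3) ι _ hu⟩
    rw [← h] at hTK
    have hstab := hTK.1 (P *ᵥ Helper10.SU33.vec ι o0)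
    have hin : P *ᵥ Helper10.SU33.vec ι o0 ∈ O := by
      rw [hO]
      exact ⟨o0, o0_mem, 1, one_ne_zero, by rw [one_smul]⟩
    have hout : (T : Matrix (Fin 3) (Fin 3) F) *ᵥ (P *ᵥ Helper10.SU33.vec ι o0) ∈ O := hstab.mp hin
    rw [hT, tv_mulVec, hform] at hout
    have e : P *ᵥ Helper10.SU33.vec ι o0 + (ι * phi ι (hS o0 u0)) • (P *ᵥ Helper10.SU33.vec ι u0) =
        P *ᵥ Helper10.SU33.vec ι (V3.add o0 (V3.smul (Kq.mul Kq.iota (hS o0 u0)) u0)) := by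
      rw [Helper10.SU33.vec_add, vec_smul ι hι, phi_mul ι hι, phi_iota, Matrix.mulVec_add, Matrix.mulVec_smul]
    rw [e, hO] at hout
    obtain ⟨r, hr, c, hc, heq⟩ := hout
    obtain ⟨κ, hκ⟩ := phi_surjective hF ι hι c
    have hκ0 : κ ≠ Kq.zero := by
      rintro rfl
      rw [phi_zero] at hκ
      exact hc hκ.symm
    rw [← hκ, ← Matrix.mulVec_smul, ← vec_smul ι hι] at heq
    have h3' := model_vec_injective ι P P' hι hP'P heq
    obtain ⟨k0, k1⟩ := κ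
    have := rep_inO r hr k0 k1 hκ0
    rw [← h3', tv_moves] at this
    exact Bool.false_ne_true this

end Main

end Cfsg.Agent.Lib.Helper27.SU3O
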