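import Mathlib
import Cfsg.Prelude.Def_GeometricClasses
import Cfsg.Agent.Lib.Helper27.SU3Orth3Std

set_option autoImplicit false
set_option maxHeartbeats 2000000
set_option linter.unusedSectionVars false
set_option linter.style.haveILetI false

/-!
# `SO_3(3) = S_4 < L_2(7) < SU_3(3)`: normalising a rational structure of orthogonal type

The Gram matrix of the columns of `P` is an invertible symmetric matrix over `F₀ = F_3`; by the table of the model it is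
congruent to `± 1` by a matrix `B` over `F₀`; with `λ^4 = -1` in the second case, `P₁ = P (λ B)` is unitary and defines the same
subfield group.
-/

namespace Cfsg.Agent.Lib.Helper27.SU3O

open Cfsg.Agent.Lib.Helper10.UH Cfsg.Agent.Lib.Helper10.SU33 Matrix

section Gen

variable {F : Type*} [Field F]

theorem hf_vec [CharP F 3] (ι : F) (hι : ι ^ 2 = 2) (v w : V3) :
    hf 3 (Helper10.SU33.vec ι v) (Helper10.SU33.vec ι w) = phi ι (hS v w) := by
  rw [hS, phi_dot ι hι, hf_def]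
  exact Finset.sum_congr rfl fun i _ => by rw [vec_frob ι hι]

theorem mulVec_eq_sum_single (P : Matrix (Fin 3) (Fin 3) F) (c : Fin 3 → F) :
    P *ᵥ c = ∑ j, c j • (P *ᵥ Pi.single j 1) := by
  have h1 : c = ∑ j, c j • (Pi.single j 1 : Fin 3 → F) := by
    funext k
    simp [Finset.sum_apply, Pi.single_apply]
  conv_lhs => rw [h1]
  rw [Matrix.mulVec_sum]
  exact Finset.sum_congr rfl fun i _ => Matrix.mulVec_smul _ _ _

/-- the form in the coordinates of a basis with Gram matrix `Γ` -/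
theorem form_bridge_gen [CharP F 3] (hq : QF F 3) (ι : F) (hι : ι ^ 2 = 2) (P : Matrix (Fin 3) (Fin 3) F) (Γ : M3)
    (hGr : ∀ i j : Fin 3, hf 3 (P *ᵥ Pi.single i 1) (P *ᵥ Pi.single j 1) = mat ι Γ i j) (v w : V3) :
    hf 3 (P *ᵥ Helper10.SU33.vec ι v) (P *ᵥ Helper10.SU33.vec ι w) = phi ι (hGen Γ v w) := by
  rw [mulVec_eq_sum_single P (Helper10.SU33.vec ι v), mulVec_eq_sum_single P (Helper10.SU33.vec ι w), hf_sum_left]
  simp only [hf_sum_right hq (by norm_num), hf_smul_left, hf_smul_right, hGr]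
  rw [hGen, phi_dot ι hι, ← mat_mulVec ι hι]
  refine Finset.sum_congr rfl fun i _ => ?_
  simp only [Matrix.mulVec, dotProduct, Finset.mul_sum, vec_frob ι hι]
  exact Finset.sum_congr rfl fun j _ => by ring

/-- a matrix with entries in `μ F₀` is in the subfield group -/
theorem mem_subfield_one_of_entries {n : ℕ} (F₀ : Subfield F) (g : GL (Fin n) F) (μ : F) (hμ : μ ≠ 0)
    (hent : ∀ i j, ∃ a ∈ F₀, (g : Matrix (Fin n) (Fin n) F) i j = μ * a) :
    g ∈ Cfsg.Geo.subfieldSubgroup F₀ (1 : GL (Fin n) F) := by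
  rw [Cfsg.Agent.Lib.Helper9.SubfieldA.mem_subfield_iff]
  choose A₀ hA₀mem hA₀ using hent
  obtain ⟨A₀', hA₀'⟩ : ∃ A₀' : Matrix (Fin n) (Fin n) F₀, A₀' = fun i j => ⟨A₀ i j, hA₀mem i j⟩ := ⟨_, rfl⟩
  have hmap : (g : Matrix (Fin n) (Fin n) F) = μ • A₀'.map (F₀.subtype : F₀ →+* F) := by
    ext i j
    rw [hA₀ i j, Matrix.smul_apply, Matrix.map_apply, hA₀', smul_eq_mul]
    rfl
  have hdet0 : (g : Matrix (Fin n) (Fin n) F).det ≠ 0 := by
    apply Matrix.det_ne_zero_of_right_inverse (B := ((g⁻¹ : GL (Fin n) F) : Matrix (Fin n) (Fin n) F))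
    rw [← Units.val_mul, mul_inv_cancel, Units.val_one]
  have hdet : A₀'.det ≠ 0 := by
    intro h0
    apply hdet0
    rw [hmap, Matrix.det_smul]
    have : (A₀'.map (F₀.subtype : F₀ →+* F)).det = (F₀.subtype : F₀ →+* F) A₀'.det := by
      rw [RingHom.map_det]
      rfl
    rw [this, h0, map_zero, mul_zero]
  refine ⟨Matrix.GeneralLinearGroup.mkOfDetNeZero A₀' hdet, Units.mk0 μ hμ, ?_⟩
  rw [hmap]
  rfl

/-- multiplying the change of basis by an element of the standard subfield group does not change the subfield group -/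
theorem subfield_mul_right {n : ℕ} (F₀ : Subfield F) (P h : GL (Fin n) F)
    (hh : h ∈ Cfsg.Geo.subfieldSubgroup F₀ (1 : GL (Fin n) F)) :
    Cfsg.Geo.subfieldSubgroup F₀ (P * h) = Cfsg.Geo.subfieldSubgroup F₀ P := by
  ext g
  rw [mem_subfield_conj3 F₀ (P * h), mem_subfield_conj3 F₀ P]
  have e : (P * h)⁻¹ * g * (P * h) = h⁻¹ * (P⁻¹ * g * P) * h := by group
  rw [e]
  constructor
  · intro h1
    have := Subgroup.mul_mem _ (Subgroup.mul_mem _ hh h1) (Subgroup.inv_mem _ hh)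
    have e2 : h * (h⁻¹ * (P⁻¹ * g * P) * h) * h⁻¹ = P⁻¹ * g * P := by group
    rwa [e2] at this
  · intro h1
    exact Subgroup.mul_mem _ (Subgroup.mul_mem _ (Subgroup.inv_mem _ hh) h1) hh

end Gen

section Norm

variable {F : Type*} [Field F] [Fintype F]

theorem exists_unitary_structure (hF : Fintype.card F = 3 ^ 2) (F₀ : Subfield F) (P₀ : GL (Fin 3) F)
    (hcard : Fintype.card F = Nat.card F₀ ^ 2)
    (hP₀ : Cfsg.Geo.IsFormRationalStructure (Cfsg.hermForm 3 F 3) F₀ 1 P₀) :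
    ∃ P₁ : GL (Fin 3) F, P₁ ∈ Cfsg.GU 3 F 3 ∧
      Cfsg.Geo.subfieldSubgroup F₀ P₁ = Cfsg.Geo.subfieldSubgroup F₀ P₀ := by
  classical
  have hp : Nat.Prime 3 := by norm_num
  have hq : QF F 3 := QF.of_card hp hF
  have hpos : 0 < 3 := by norm_num
  haveI := charP_F hF
  haveI : Fact (Nat.Prime 3) := ⟨hp⟩
  have h3 : (3 : F) = 0 := by exact_mod_cast char_eq_zero hp hF
  obtain ⟨ι, hι⟩ := exists_iota hF
  obtain ⟨P, hP⟩ : ∃ P : Matrix (Fin 3) (Fin 3) F, P = (P₀ : Matrix (Fin 3) (Fin 3) F) := ⟨_, rfl⟩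
  -- the Gram matrix has entries in the prime field
  have hsingle : ∀ (i k : Fin 3), (Pi.single i 1 : Fin 3 → F) k ∈ F₀ := by
    intro i k
    by_cases h : k = i
    · subst h; rw [Pi.single_eq_same]; exact F₀.one_mem
    · rw [Pi.single_eq_of_ne h]; exact F₀.zero_mem
  have hGmem : ∀ i j : Fin 3, hf 3 (P *ᵥ Pi.single i 1) (P *ᵥ Pi.single j 1) ∈ F₀ := by
    intro i j
    have := hP₀ (Pi.single i 1) (Pi.single j 1) (hsingle i) (hsingle j)
    rwa [one_mul, ← hP] at this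
  have hGk : ∀ i j : Fin 3, ∃ k : Kp, hf 3 (P *ᵥ Pi.single i 1) (P *ᵥ Pi.single j 1) = phip k :=
    fun i j => mem_F0 hF F₀ hcard (hGmem i j)
  choose γ hγ using hGk
  have hsym : ∀ i j : Fin 3, γ i j = γ j i := by
    intro i j
    apply phip_injective (F := F)
    rw [← hγ i j, ← hγ j i, ← hf_symm hq hpos (P *ᵥ Pi.single j 1) (P *ᵥ Pi.single i 1), hγ j i, phip_pow]
  obtain ⟨Γ, hΓ⟩ : ∃ Γ : M3, Γ = symM (γ 0 0) (γ 0 1) (γ 0 2) (γ 1 1) (γ 1 2) (γ 2 2) := ⟨_, rfl⟩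
  have hGr : ∀ i j : Fin 3, hf 3 (P *ᵥ Pi.single i 1) (P *ᵥ Pi.single j 1) = mat ι Γ i j := by
    intro i j
    rw [hγ i j, hΓ]
    fin_cases i <;> fin_cases j <;>
      simp [mat, symM, M3.col, vec_rv, hsym 1 0, hsym 2 0, hsym 2 1]
  -- the Gram matrix is invertible
  have hG : mat ι Γ = Pᵀ * P.map (frobenius F 3) := by
    ext i j
    rw [← hGr i j, hf_def, Matrix.mul_apply]
    refine Finset.sum_congr rfl fun k _ => ?_
    simp [frobenius_def]
  have hPdet : P.det ≠ 0 := by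
    rw [hP]
    apply Matrix.det_ne_zero_of_right_inverse (B := ((P₀⁻¹ : GL (Fin 3) F) : Matrix (Fin 3) (Fin 3) F))
    rw [← Units.val_mul, mul_inv_cancel, Units.val_one]
  have hdetΓ : det3 Γ ≠ Kq.zero := by
    intro h0
    have h1 : (mat ι Γ).det = 0 := by rw [det_mat ι hι, h0, phi_zero]
    rw [hG, Matrix.det_mul, Matrix.det_transpose] at h1
    have h2 : (P.map (frobenius F 3)).det = frobenius F 3 P.det := by
      rw [RingHom.map_det]
      rfl
    rw [h2, frobenius_def] at h1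
    rcases mul_eq_zero.mp h1 with h | h
    · exact hPdet h
    · exact hPdet (pow_eq_zero_iff (by norm_num) |>.mp h)
  have hbridge := form_bridge_gen hq ι hι P Γ hGr
  -- the table
  rw [hΓ] at hdetΓ hbridge
  obtain ⟨htab, hBBi, hBiB⟩ := table_good (γ 0 0) (γ 0 1) (γ 0 2) (γ 1 1) (γ 1 2) (γ 2 2) hdetΓ
  obtain ⟨e, he⟩ : ∃ e, e = tblEntry (γ 0 0) (γ 0 1) (γ 0 2) (γ 1 1) (γ 1 2) (γ 2 2) := ⟨_, rfl⟩
  obtain ⟨B, hB⟩ : ∃ B : M3, B = tB (γ 0 0) (γ 0 1) (γ 0 2) (γ 1 1) (γ 1 2) (γ 2 2) := ⟨_, rfl⟩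
  obtain ⟨Bi, hBi⟩ : ∃ Bi : M3, Bi = tBi (γ 0 0) (γ 0 1) (γ 0 2) (γ 1 1) (γ 1 2) (γ 2 2) := ⟨_, rfl⟩
  rw [← hB] at htab
  rw [← hB, ← hBi] at hBBi hBiB
  have hBe : B = scl (tL e.2.2) e.1.toM3 := by rw [hB, he]; rfl
  obtain ⟨h, hh⟩ : ∃ h : GL (Fin 3) F, (h : Matrix (Fin 3) (Fin 3) F) = mat ι B :=
    ⟨⟨mat ι B, mat ι Bi, by rw [mat_mul ι hι, hBBi, mat_Id3], by rw [mat_mul ι hι, hBiB, mat_Id3]⟩, rfl⟩
  have hhmem : h ∈ Cfsg.Geo.subfieldSubgroup F₀ (1 : GL (Fin 3) F) := by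
    apply mem_subfield_one_of_entries F₀ h (phi ι (tL e.2.2))
    · intro h0
      apply tL_ne_zero e.2.2
      apply phi_injective ι hι
      rw [h0, phi_zero]
    · intro i j
      rw [hh, hBe, mat_scl ι hι, mat_RM, Matrix.smul_apply, smul_eq_mul]
      refine ⟨_, ?_, rfl⟩
      fin_cases i <;> fin_cases j <;> simp [phip_mem F₀]
  refine ⟨P₀ * h, ?_, subfield_mul_right F₀ P₀ h hhmem⟩
  -- unitarity
  show ∀ u v : Fin 3 → F, hf 3 (((P₀ * h : GL (Fin 3) F) : Matrix (Fin 3) (Fin 3) F) *ᵥ u)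
    (((P₀ * h : GL (Fin 3) F) : Matrix (Fin 3) (Fin 3) F) *ᵥ v) = hf 3 u v
  intro u v
  apply unitary_of_basis (1 : Matrix (Fin 3) (Fin 3) F) 1 hq (one_mul 1)
  intro i j
  have e1 : ∀ i : Fin 3, ((P₀ * h : GL (Fin 3) F) : Matrix (Fin 3) (Fin 3) F) *ᵥ
      ((1 : Matrix (Fin 3) (Fin 3) F) *ᵥ Pi.single i 1) = P *ᵥ Helper10.SU33.vec ι (B.col i) := by
    intro i
    rw [Matrix.one_mulVec, Units.val_mul, ← Matrix.mulVec_mulVec, hh, mat_col, hP]
  rw [e1, e1, hbridge, htab, Matrix.one_mulVec, Matrix.one_mulVec, ← vec_Id3_col ι i, ← vec_Id3_col ι j,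
    hf_vec ι hι]

end Norm

end Cfsg.Agent.Lib.Helper27.SU3O
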