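import Mathlib
import Cfsg.Prelude.Def_GeometricClasses
import Cfsg.Agent.Lib.Helper27.SU3Orth3Norm

set_option autoImplicit false

/-!
# E4a of the `SU_3` block: `SO_3(3) = S_4 < L_2(7) < SU_3(3)`

The subfield group of orthogonal type of `SU_3(3)` is not maximal: it lies in the stabiliser of the cone over the 21 points of an
orbit of `L_2(7)` (`SU3Orth3Std`), after the normalisation of the rational structure to a unitary one (`SU3Orth3Norm`).
-/

namespace Cfsg.Agent.Lib.Helper27.SUMLeaf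

open Cfsg.Geo Matrix

variable {F : Type*} [Field F] [Fintype F]

/-- E4a (NM).  `SO_3(3) = S_4 < L_2(7) < SU_3(3)`. -/
theorem su3_three_orth_not_max (hF : Fintype.card F = 3 ^ 2) (F₀ : Subfield F) (P : GL (Fin 3) F)
    (hcard : Fintype.card F = Nat.card F₀ ^ 2) (hP : IsFormRationalStructure (Cfsg.hermForm 3 F 3) F₀ 1 P) :
    ¬ IsMaximalIn (Cfsg.GU 3 F 3 ⊓ specialLinear (Fin 3) F)
      (subfieldSubgroup F₀ P ⊓ (Cfsg.GU 3 F 3 ⊓ specialLinear (Fin 3) F)) := by
  obtain ⟨P₁, hP₁, heq⟩ := Cfsg.Agent.Lib.Helper27.SU3O.exists_unitary_structure hF F₀ P hcard hP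
  rw [← heq]
  exact Cfsg.Agent.Lib.Helper27.SU3O.su3_orth_std hF F₀ hcard P₁ hP₁

end Cfsg.Agent.Lib.Helper27.SUMLeaf
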