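/-
Schur multiplier theory (helper27): `exp(M(Q))^2` divides `|Q|`.
-/
import Cfsg.Agent.Lib.Helper27.Schur4
import Cfsg.Agent.Lib.Lead.CharCount
import Cfsg.Agent.Lib.Helper24.CentralChar
import Cfsg.Agent.Lib.Helper24.ClassPred

set_option autoImplicit false

namespace Cfsg.Agent.Lib.Helper27.Schur

universe u v w

open Subgroup Cfsg Cfsg.Agent.CharLib Representation Module
open scoped commutatorElement

/-- central elements act by scalars in an irreducible representation; on central commutator elements the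
scalar is a root of unity of order dividing the degree -/
theorem irr_central_data {Γ : Type*} [Group Γ] (χ : Γ → ℂ) (hχ : IsIrrCharacter Γ χ) :
    ∃ (n : ℕ) (c : Γ → ℂ), 0 < n ∧ χ 1 = n ∧ (∀ k ∈ center Γ, χ k = n * c k) ∧
      (∀ k ∈ center Γ, ∀ k' ∈ center Γ, c (k * k') = c k * c k') ∧
      (∀ k ∈ center Γ, k ∈ commutator Γ → c k ^ n = 1) := by
  classical
  obtain ⟨n, ρ, hirr, rfl⟩ := hχ
  haveI := hirr
  have hn : 0 < n := by
    have := Cfsg.Agent.Lib.Helper24.finrank_pos_of_isIrreducible ρ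
    rwa [Module.finrank_fin_fun] at this
  have hsc : ∀ k ∈ center Γ, ∃ c : ℂ, ρ k = c • (1 : Module.End ℂ (Fin n → ℂ)) := by
    intro k hk
    apply Cfsg.Agent.Lib.Helper24.exists_eq_smul_one_of_comm ρ
    intro g
    have h1 : ρ k * ρ g = ρ g * ρ k := by
      rw [← map_mul, ← map_mul, mem_center_iff.mp hk g]
    exact h1
  have h1ne : (1 : Module.End ℂ (Fin n → ℂ)) ≠ 0 := by
    haveI : Nontrivial (Fin n → ℂ) := Cfsg.Agent.Lib.Helper24.nontrivial_of_isIrreducible ρ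
    exact one_ne_zero
  let c : Γ → ℂ := fun k => if hk : k ∈ center Γ then (hsc k hk).choose else 0
  have hc : ∀ k ∈ center Γ, ρ k = c k • (1 : Module.End ℂ (Fin n → ℂ)) := by
    intro k hk
    show ρ k = (if hk : k ∈ center Γ then (hsc k hk).choose else 0) • _
    rw [dif_pos hk]
    exact (hsc k hk).choose_spec
  refine ⟨n, c, hn, ?_, ?_, ?_, ?_⟩
  · rw [Representation.char_one, Module.finrank_fin_fun]
  · intro k hk
    show LinearMap.trace ℂ _ (ρ k) = _
    rw [hc k hk, map_smul, LinearMap.trace_one, Module.finrank_fin_fun, smul_eq_mul, mul_comm]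
  · intro k hk k' hk'
    have h1 : ρ (k * k') = (c k * c k') • (1 : Module.End ℂ (Fin n → ℂ)) := by
      rw [map_mul, hc k hk, hc k' hk', smul_mul_smul_comm, mul_one]
    rw [hc (k * k') (mul_mem hk hk')] at h1
    have h2 := congrArg (LinearMap.trace ℂ (Fin n → ℂ)) h1
    rw [map_smul, map_smul, LinearMap.trace_one, Module.finrank_fin_fun, smul_eq_mul, smul_eq_mul] at h2
    have hn0 : (n : ℂ) ≠ 0 := Nat.cast_ne_zero.mpr hn.ne'
    exact mul_right_cancel₀ hn0 h2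
  · intro k hk hk'
    let δ : Γ →* ℂˣ := (LinearMap.det.comp (ρ : Γ →* Module.End ℂ (Fin n → ℂ))).toHomUnits
    have h1 : commutator Γ ≤ δ.ker := Abelianization.commutator_subset_ker δ
    have h2 : δ k = 1 := h1 hk'
    have h3 : LinearMap.det (ρ k) = 1 := by
      have := congrArg Units.val h2
      exact this
    rw [hc k hk, LinearMap.det_smul, Module.finrank_fin_fun, map_one, mul_one] at h3
    exact h3

/-- a character of a finite abelian group whose order is the exponent -/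
theorem exists_hom_of_order_exponent (A : Type*) [CommGroup A] [Finite A] :
    ∃ lam : A →* ℂˣ, ∀ n : ℕ, (∀ a, lam a ^ n = 1) → Monoid.exponent A ∣ n := by
  haveI : NeZero (Monoid.exponent A) := ⟨Monoid.exponent_ne_zero_of_finite⟩
  obtain ⟨d⟩ := CommGroup.monoidHom_mulEquiv_of_hasEnoughRootsOfUnity A ℂ
  obtain ⟨a₀, ha₀⟩ := Monoid.exists_orderOf_eq_exponent (G := A) Monoid.ExponentExists.of_finite
  refine ⟨d.symm a₀, fun n hn => ?_⟩
  have h1 : (d.symm a₀) ^ n = 1 := by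
    ext a
    rw [MonoidHom.pow_apply, hn a]
    rfl
  have h2 : a₀ ^ n = 1 := by
    have := congrArg d h1
    rwa [map_pow, d.apply_symm_apply, map_one] at this
  rw [← ha₀]
  exact orderOf_dvd_of_pow_eq_one h2

/-- **Schur**: the square of the exponent of the multiplier divides the group order. -/
theorem exponent_sq_dvd_card {Q : Type u} [Group Q] [Finite Q] {A : Type v} [CommGroup A]
    (hA : Cfsg.HasSchurMultiplier Q A) : Monoid.exponent A ^ 2 ∣ Nat.card Q := by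
  classical
  haveI : Finite A := finite_of_hasSchurMultiplier hA
  obtain ⟨⟨Γ, _, _, σ, hσ, ⟨ek⟩⟩, -⟩ := hA
  haveI : Fintype Γ := Fintype.ofFinite Γ
  haveI : Fintype (IrrCharacter Γ) := Fintype.ofFinite _
  haveI : Fintype ↥σ.ker := Fintype.ofFinite _
  obtain ⟨lamA, hlamA⟩ := exists_hom_of_order_exponent A
  let lam : ↥σ.ker →* ℂˣ := lamA.comp ek.toMonoidHom
  have hdata := fun χ : IrrCharacter Γ => irr_central_data χ.1 χ.2
  choose n c hn hχ1 hχk hcmul hcpow using hdata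
  have hKc : ∀ k : ↥σ.ker, (k : Γ) ∈ center Γ := fun k => hσ.2.1 k.2
  have hKc' : ∀ k : ↥σ.ker, (k : Γ) ∈ commutator Γ := fun k => hσ.2.2 k.2
  let X : Finset (IrrCharacter Γ) :=
    Finset.univ.filter (fun χ => ∀ k : ↥σ.ker, c χ k = ((lam k : ℂˣ) : ℂ))
  have hdiv : ∀ χ ∈ X, Monoid.exponent A ∣ n χ := by
    intro χ hχ
    have hX : ∀ k : ↥σ.ker, c χ k = ((lam k : ℂˣ) : ℂ) := (Finset.mem_filter.mp hχ).2
    apply hlamA
    intro a
    have h1 := hcpow χ (ek.symm a : Γ) (hKc _) (hKc' _)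
    rw [hX] at h1
    have h2 : lam (ek.symm a) = lamA a := by
      show lamA (ek (ek.symm a)) = _
      rw [ek.apply_symm_apply]
    rw [h2] at h1
    apply Units.ext
    rw [Units.val_pow_eq_pow_val, h1]
    rfl
  have hsum : ∀ χ : IrrCharacter Γ,
      ∑ k : ↥σ.ker, (((lam k)⁻¹ : ℂˣ) : ℂ) * c χ k = if χ ∈ X then (Nat.card ↥σ.ker : ℂ) else 0 := by
    intro χ
    split_ifs with h
    · have hX := (Finset.mem_filter.mp h).2
      have : ∀ k ∈ (Finset.univ : Finset ↥σ.ker), (((lam k)⁻¹ : ℂˣ) : ℂ) * c χ k = 1 := by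
        intro k _
        rw [hX k, Units.inv_mul]
      rw [Finset.sum_congr rfl this]
      simp [Nat.card_eq_fintype_card]
    · have : ∃ k₀ : ↥σ.ker, c χ k₀ ≠ ((lam k₀ : ℂˣ) : ℂ) := by
        by_contra hcon
        push Not at hcon
        exact h (Finset.mem_filter.mpr ⟨Finset.mem_univ _, hcon⟩)
      obtain ⟨k₀, hk₀⟩ := this
      apply Cfsg.Agent.Lib.Helper24.sum_eq_zero_of_mul_of_ne_one
        (fun k : ↥σ.ker => (((lam k)⁻¹ : ℂˣ) : ℂ) * c χ k) ?_ k₀ ?_
      · intro a b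
        show (((lam (a * b))⁻¹ : ℂˣ) : ℂ) * c χ ((a * b : ↥σ.ker) : Γ) = _
        rw [map_mul, mul_inv, Units.val_mul, Subgroup.coe_mul, hcmul χ _ (hKc a) _ (hKc b)]
        ring
      · intro h1
        apply hk₀
        have h2 : ((lam k₀ : ℂˣ) : ℂ) * ((((lam k₀)⁻¹ : ℂˣ) : ℂ) * c χ k₀) = ((lam k₀ : ℂˣ) : ℂ) * 1 :=
          congrArg (fun z => ((lam k₀ : ℂˣ) : ℂ) * z) h1
        rw [← mul_assoc, Units.mul_inv, one_mul, mul_one] at h2
        exact h2
  have hΓ0 : (Nat.card Γ : ℂ) ≠ 0 := Nat.cast_ne_zero.mpr Nat.card_pos.ne'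
  have hmain : (Nat.card Γ : ℂ) = (Nat.card ↥σ.ker : ℂ) * ∑ χ ∈ X, ((n χ : ℂ)) ^ 2 := by
    have hδ : ∀ k : ↥σ.ker, (if (k : Γ) = 1 then (1 : ℂ) else 0) =
        (Nat.card Γ : ℂ)⁻¹ * ∑ χ : IrrCharacter Γ, χ.1 1 * χ.1 k :=
      fun k => delta_one_eq_sum_irr (k : Γ)
    have h1 : ∑ k : ↥σ.ker, (((lam k)⁻¹ : ℂˣ) : ℂ) * (if (k : Γ) = 1 then (1 : ℂ) else 0) = 1 := by
      rw [Finset.sum_eq_single (1 : ↥σ.ker)]
      · simp
      · intro b _ hb
        have hb' : ¬ ((b : Γ) = 1) := fun h => hb (Subtype.ext h)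
        rw [if_neg hb', mul_zero]
      · intro h
        exact absurd (Finset.mem_univ _) h
    have h2 : ∑ k : ↥σ.ker, (((lam k)⁻¹ : ℂˣ) : ℂ) *
          ((Nat.card Γ : ℂ)⁻¹ * ∑ χ : IrrCharacter Γ, χ.1 1 * χ.1 k) =
        (Nat.card Γ : ℂ)⁻¹ * ∑ χ : IrrCharacter Γ, (n χ : ℂ) ^ 2 *
          ∑ k : ↥σ.ker, (((lam k)⁻¹ : ℂˣ) : ℂ) * c χ k := by
      simp_rw [Finset.mul_sum]
      rw [Finset.sum_comm]
      apply Finset.sum_congr rfl
      intro χ _
      apply Finset.sum_congr rfl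
      intro k _
      rw [hχ1 χ, hχk χ k (hKc k)]
      ring
    rw [Finset.sum_congr rfl (fun k _ => by rw [hδ k])] at h1
    rw [h2] at h1
    have h3 : ∑ χ : IrrCharacter Γ, (n χ : ℂ) ^ 2 *
          ∑ k : ↥σ.ker, (((lam k)⁻¹ : ℂˣ) : ℂ) * c χ k =
        (Nat.card ↥σ.ker : ℂ) * ∑ χ ∈ X, ((n χ : ℂ)) ^ 2 := by
      rw [Finset.mul_sum, ← Finset.sum_filter_add_sum_filter_not Finset.univ (fun χ => χ ∈ X)]
      have hz : ∑ χ ∈ Finset.univ.filter (fun χ => ¬ χ ∈ X), (n χ : ℂ) ^ 2 *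
          ∑ k : ↥σ.ker, (((lam k)⁻¹ : ℂˣ) : ℂ) * c χ k = 0 := by
        apply Finset.sum_eq_zero
        intro χ hχ
        rw [hsum χ, if_neg (Finset.mem_filter.mp hχ).2, mul_zero]
      rw [hz, add_zero]
      have hfil : Finset.univ.filter (fun χ => χ ∈ X) = X := by
        ext χ; simp
      rw [hfil]
      apply Finset.sum_congr rfl
      intro χ hχ
      rw [hsum χ, if_pos hχ]
      ring
    rw [h3] at h1
    field_simp at h1
    exact h1.symm
  -- now in ℕ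
  have hcard : Nat.card Γ = Nat.card Q * Nat.card ↥σ.ker := by
    rw [Subgroup.card_eq_card_quotient_mul_card_subgroup σ.ker,
      Nat.card_congr (QuotientGroup.quotientKerEquivOfSurjective σ hσ.1).toEquiv]
  have hmainN : Nat.card Γ = Nat.card ↥σ.ker * ∑ χ ∈ X, (n χ) ^ 2 := by
    have : ((Nat.card Γ : ℕ) : ℂ) = ((Nat.card ↥σ.ker * ∑ χ ∈ X, (n χ) ^ 2 : ℕ) : ℂ) := by
      rw [hmain]
      push_cast
      rfl
    exact_mod_cast this
  have hQ : Nat.card Q = ∑ χ ∈ X, (n χ) ^ 2 := by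
    have hK0 : 0 < Nat.card ↥σ.ker := Nat.card_pos
    rw [hcard, mul_comm] at hmainN
    exact Nat.eq_of_mul_eq_mul_left hK0 hmainN
  rw [hQ]
  apply Finset.dvd_sum
  intro χ hχ
  exact pow_dvd_pow_of_dvd (hdiv χ hχ) 2

end Cfsg.Agent.Lib.Helper27.Schur
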