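/-
Schur multiplier theory (helper27): lifting projective representations through a
central extension whose kernel meets the commutator subgroup trivially.
-/
import Cfsg.Agent.Lib.Helper27.SchurProj

set_option autoImplicit false

namespace Cfsg.Agent.Lib.Helper27.Schur

universe u v w

open Subgroup Matrix
open scoped commutatorElement

/-- `n`-th roots exist in `ℂˣ`. -/
theorem units_complex_pow_surjective {n : ℕ} (hn : n ≠ 0) :
    Function.Surjective (fun a : ℂˣ => a ^ n) := by
  intro c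
  obtain ⟨z, hz⟩ := IsAlgClosed.exists_pow_nat_eq (c : ℂ) (Nat.pos_of_ne_zero hn)
  have hz0 : z ≠ 0 := by
    rintro rfl
    rw [zero_pow hn] at hz
    exact c.ne_zero hz.symm
  refine ⟨Units.mk0 z hz0, ?_⟩
  ext
  simp [hz]

/-- `Additive ℂˣ` is a divisible group. -/
noncomputable def divisibleByUnitsComplex : DivisibleBy (Additive ℂˣ) ℤ :=
  divisibleByOfSMulRightSurj (Additive ℂˣ) ℤ (by
    intro n hn c
    have hm : n.natAbs ≠ 0 := Int.natAbs_ne_zero.mpr hn
    obtain ⟨z, hz⟩ := units_complex_pow_surjective hm (Additive.toMul c)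
    rcases Int.natAbs_eq n with h | h
    · refine ⟨Additive.ofMul z, ?_⟩
      show Additive.ofMul (z ^ n) = c
      rw [h, zpow_natCast]
      exact congrArg Additive.ofMul hz
    · refine ⟨Additive.ofMul z⁻¹, ?_⟩
      show Additive.ofMul (z⁻¹ ^ n) = c
      rw [h, _root_.zpow_neg, zpow_natCast, inv_pow, inv_inv]
      exact congrArg Additive.ofMul hz)

/-- characters of a subgroup of an abelian group extend to the whole group -/
theorem exists_extension_units {M : Type*} [CommGroup M] (Z : Subgroup M) (φ : Z →* ℂˣ) :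
    ∃ ψ : M →* ℂˣ, ∀ z : Z, ψ z = φ z := by
  letI := divisibleByUnitsComplex
  obtain ⟨h, hh⟩ := (Module.Baer.of_divisible (Additive ℂˣ)).extension_property_addMonoidHom
    (MonoidHom.toAdditive Z.subtype) (fun a b hab => Subtype.ext (congrArg Additive.toMul hab))
    (MonoidHom.toAdditive φ)
  refine ⟨MonoidHom.toAdditive.symm h, ?_⟩
  intro z
  have := DFunLike.congr_fun hh (Additive.ofMul z)
  exact congrArg Additive.toMul this

/-- a character of a subgroup meeting the commutator subgroup trivially extends to the group -/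
theorem exists_extension_of_inf_commutator {E : Type*} [Group E] (Z : Subgroup E)
    (hZ : ∀ z ∈ Z, z ∈ commutator E → z = 1) (φ : Z →* ℂˣ) :
    ∃ μ : E →* ℂˣ, ∀ z : Z, μ z = φ z := by
  let f : Z →* ↥(Z.map (Abelianization.of (G := E))) := (Abelianization.of (G := E)).subgroupMap Z
  have hf : Function.Surjective f := MonoidHom.subgroupMap_surjective _ _
  have hker : f.ker ≤ φ.ker := by
    intro z hz
    have h1 : Abelianization.of (z : E) = 1 := congrArg Subtype.val (show f z = 1 from hz)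
    have h2 : (z : E) ∈ commutator E := by
      rw [← Abelianization.ker_of]
      exact h1
    have h3 : (z : E) = 1 := hZ _ z.2 h2
    have : z = 1 := Subtype.ext h3
    rw [this]; exact one_mem _
  obtain ⟨φ', hφ'⟩ := exists_descend f hf φ hker
  obtain ⟨ψ, hψ⟩ := exists_extension_units (Z.map (Abelianization.of (G := E))) φ'
  refine ⟨ψ.comp Abelianization.of, fun z => ?_⟩
  have := hψ (f z)
  rw [← hφ']
  exact this

/-- **Lifting projective representations**: if in the pullback `E ≤ X × GL` of the central extension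
`GL → PGL` along `γ : X → PGL` the (central) kernel of `E → X` meets `E'` trivially, then `γ` lifts
to a linear representation. -/
theorem exists_lift_of_pullback {X : Type*} [Group X] {n : ℕ}
    (γ : X →* GL (Fin n) ℂ ⧸ center (GL (Fin n) ℂ))
    (h : ∀ e ∈ commutator ↥(fiberProd γ (QuotientGroup.mk' (center (GL (Fin n) ℂ)))),
      (e : X × GL (Fin n) ℂ).1 = 1 → e = 1) :
    ∃ ρ : X →* GL (Fin n) ℂ, (QuotientGroup.mk' (center (GL (Fin n) ℂ))).comp ρ = γ := by
  rcases Nat.eq_zero_or_pos n with rfl | hn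
  · refine ⟨1, ?_⟩
    ext x
    obtain ⟨g, hg⟩ := QuotientGroup.mk'_surjective _ (γ x)
    rw [← hg]
    congr 1
    exact Subsingleton.elim _ _
  · let p1 : ↥(fiberProd γ (QuotientGroup.mk' (center (GL (Fin n) ℂ)))) →* X :=
      (MonoidHom.fst X (GL (Fin n) ℂ)).comp (Subgroup.subtype _)
    let p2 : ↥(fiberProd γ (QuotientGroup.mk' (center (GL (Fin n) ℂ)))) →* GL (Fin n) ℂ :=
      (MonoidHom.snd X (GL (Fin n) ℂ)).comp (Subgroup.subtype _)
    have hp1 : Function.Surjective p1 := by
      intro x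
      obtain ⟨g, hg⟩ := QuotientGroup.mk'_surjective (center (GL (Fin n) ℂ)) (γ x)
      exact ⟨⟨(x, g), hg.symm⟩, rfl⟩
    have hinj : Function.Injective (GeneralLinearGroup.scalar (Fin n) (R := ℂ)) := by
      intro a b hab
      have := congrArg (fun g : GL (Fin n) ℂ => (g : Matrix (Fin n) (Fin n) ℂ) ⟨0,hn⟩ ⟨0,hn⟩) hab
      simp at this
      exact Units.ext this
    have hZr : ∀ z : p1.ker, (p2.comp p1.ker.subtype) z ∈
        (GeneralLinearGroup.scalar (Fin n) (R := ℂ)).range := by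
      intro z
      have h1 : p1 z = 1 := z.2
      have h2 : γ (p1 z) = QuotientGroup.mk' (center (GL (Fin n) ℂ)) (p2 z) := (z.1).2
      rw [h1, map_one] at h2
      have h3 : p2 z ∈ center (GL (Fin n) ℂ) := (QuotientGroup.eq_one_iff _).mp h2.symm
      exact GeneralLinearGroup.center_eq_range_scalar.le h3
    let φ0 : p1.ker →* ℂˣ := (MonoidHom.ofInjective hinj).symm.toMonoidHom.comp
      ((p2.comp p1.ker.subtype).codRestrict _ hZr)
    have hφ0 : ∀ z : p1.ker, GeneralLinearGroup.scalar (Fin n) (φ0 z) = p2 z := by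
      intro z
      have := (MonoidHom.ofInjective hinj).apply_symm_apply ⟨p2 z, hZr z⟩
      exact congrArg Subtype.val this
    obtain ⟨μ, hμ⟩ := exists_extension_of_inf_commutator p1.ker (fun z hz hzc => h z hzc hz) φ0
    let s : ↥(fiberProd γ (QuotientGroup.mk' (center (GL (Fin n) ℂ)))) →* GL (Fin n) ℂ :=
      (GeneralLinearGroup.scalar (Fin n)).comp μ⁻¹
    have hs : ∀ e g, Commute (s e) g := fun e g => GeneralLinearGroup.scalar_commute _ _
    let ρt : ↥(fiberProd γ (QuotientGroup.mk' (center (GL (Fin n) ℂ)))) →* GL (Fin n) ℂ :=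
      { toFun := fun e => p2 e * s e
        map_one' := by simp
        map_mul' := fun a b => by
          rw [map_mul, map_mul]
          exact Commute.mul_mul_mul_comm ((hs a (p2 b)).symm) _ _ }
    have hker : p1.ker ≤ ρt.ker := by
      intro e he
      show p2 e * s e = 1
      have h1 : s e = (p2 e)⁻¹ := by
        show GeneralLinearGroup.scalar (Fin n) ((μ e)⁻¹) = _
        rw [map_inv]
        congr 1
        have := hμ ⟨e, he⟩
        rw [show μ e = φ0 ⟨e, he⟩ from this]
        exact hφ0 ⟨e, he⟩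
      rw [h1, mul_inv_cancel]
    obtain ⟨ρ, hρ⟩ := exists_descend p1 hp1 ρt hker
    refine ⟨ρ, ?_⟩
    ext x
    obtain ⟨e, rfl⟩ := hp1 x
    have h1 : ρ (p1 e) = ρt e := DFunLike.congr_fun hρ e
    show QuotientGroup.mk' (center (GL (Fin n) ℂ)) (ρ (p1 e)) = γ (p1 e)
    rw [h1]
    show QuotientGroup.mk' (center (GL (Fin n) ℂ)) (p2 e * s e) = γ (p1 e)
    have h2 : QuotientGroup.mk' (center (GL (Fin n) ℂ)) (s e) = 1 := by
      refine (QuotientGroup.eq_one_iff _).mpr ?_
      have h3 : s e ∈ (GeneralLinearGroup.scalar (Fin n) (R := ℂ)).range := ⟨_, rfl⟩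
      exact GeneralLinearGroup.center_eq_range_scalar.ge h3
    rw [map_mul, h2, mul_one]
    exact (e.2).symm

section Pullback

variable {X : Type*} [Group X] {n : ℕ} (γ : X →* GL (Fin n) ℂ ⧸ center (GL (Fin n) ℂ))

/-- the projection of the pullback of `GL → PGL` along `γ` onto `X` -/
def pbFst : ↥(fiberProd γ (QuotientGroup.mk' (center (GL (Fin n) ℂ)))) →* X :=
  (MonoidHom.fst X (GL (Fin n) ℂ)).comp (Subgroup.subtype _)

theorem pbFst_apply (e : ↥(fiberProd γ (QuotientGroup.mk' (center (GL (Fin n) ℂ))))) :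
    pbFst γ e = (e : X × GL (Fin n) ℂ).1 := rfl

theorem pbFst_surjective : Function.Surjective (pbFst γ) := by
  intro x
  obtain ⟨g, hg⟩ := QuotientGroup.mk'_surjective (center (GL (Fin n) ℂ)) (γ x)
  exact ⟨⟨(x, g), hg.symm⟩, rfl⟩

theorem pbFst_ker_le_center : (pbFst γ).ker ≤ center _ := by
  intro e he
  have h1 : (e : X × GL (Fin n) ℂ).1 = 1 := he
  have h2 : γ (e : X × GL (Fin n) ℂ).1 =
      QuotientGroup.mk' (center (GL (Fin n) ℂ)) (e : X × GL (Fin n) ℂ).2 := e.2
  rw [h1, map_one] at h2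
  have h3 : (e : X × GL (Fin n) ℂ).2 ∈ center (GL (Fin n) ℂ) :=
    (QuotientGroup.eq_one_iff _).mp h2.symm
  rw [mem_center_iff]
  intro f
  apply Subtype.ext
  apply Prod.ext
  · show (f : X × GL (Fin n) ℂ).1 * (e : X × GL (Fin n) ℂ).1 =
      (e : X × GL (Fin n) ℂ).1 * (f : X × GL (Fin n) ℂ).1
    rw [h1, mul_one, one_mul]
  · show (f : X × GL (Fin n) ℂ).2 * (e : X × GL (Fin n) ℂ).2 =
      (e : X × GL (Fin n) ℂ).2 * (f : X × GL (Fin n) ℂ).2
    exact mem_center_iff.mp h3 _

/-- restatement of `exists_lift_of_pullback` -/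
theorem exists_lift_of_pbFst (h : (pbFst γ).ker ⊓ commutator _ = ⊥) :
    ∃ ρ : X →* GL (Fin n) ℂ, (QuotientGroup.mk' (center (GL (Fin n) ℂ))).comp ρ = γ := by
  refine exists_lift_of_pullback γ (fun e he he1 => ?_)
  have : e ∈ (pbFst γ).ker ⊓ commutator _ := ⟨he1, he⟩
  rw [h] at this
  exact this

end Pullback

/-- In the pullback of `GL → PGL` along `γ ∘ σ`, for a Schur cover `σ`, the kernel of the projection
meets the commutator subgroup trivially. -/
theorem pbFst_ker_inf_commutator_of_cover {Q : Type u} [Group Q] [Finite Q] {A : Type v} [CommGroup A]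
    (hA : Cfsg.HasSchurMultiplier Q A) {Γ : Type w} [Group Γ] (σ : Γ →* Q)
    (hσ : Cfsg.IsStemExtension σ) (hk : Nonempty (σ.ker ≃* A)) {n : ℕ}
    (γ : Q →* GL (Fin n) ℂ ⧸ center (GL (Fin n) ℂ)) :
    (pbFst (γ.comp σ)).ker ⊓ commutator _ = ⊥ := by
  obtain ⟨ek⟩ := hk
  haveI : Finite A := finite_of_hasSchurMultiplier hA
  haveI : Finite σ.ker := Finite.of_equiv A ek.symm.toEquiv
  let τ := σ.comp (pbFst (γ.comp σ))
  have hτs : Function.Surjective τ := hσ.1.comp (pbFst_surjective _)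
  have hτc : τ.ker ≤ center _ := by
    intro e he
    have h1 : σ (e : Γ × GL (Fin n) ℂ).1 = 1 := he
    have h1' : (e : Γ × GL (Fin n) ℂ).1 ∈ center Γ := hσ.2.1 h1
    have h2 : γ (σ (e : Γ × GL (Fin n) ℂ).1) =
        QuotientGroup.mk' (center (GL (Fin n) ℂ)) (e : Γ × GL (Fin n) ℂ).2 := e.2
    rw [h1, map_one] at h2
    have h3 : (e : Γ × GL (Fin n) ℂ).2 ∈ center (GL (Fin n) ℂ) :=
      (QuotientGroup.eq_one_iff _).mp h2.symm
    rw [mem_center_iff]
    intro f
    apply Subtype.ext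
    apply Prod.ext
    · exact mem_center_iff.mp h1' _
    · exact mem_center_iff.mp h3 _
  obtain ⟨θ, hθ⟩ := exists_surjective_of_hasSchurMultiplier hA τ hτs hτc
  haveI : Finite ↥(τ.ker ⊓ commutator _) := Finite.of_surjective θ hθ
  let f : ↥(τ.ker ⊓ commutator _) →* ↥σ.ker :=
    MonoidHom.codRestrict ((pbFst (γ.comp σ)).comp (Subgroup.subtype _)) σ.ker (fun x => x.2.1)
  have hfs : Function.Surjective f := by
    intro k
    obtain ⟨e, he, hek⟩ := exists_mem_commutator_fst (γ.comp σ)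
      (QuotientGroup.mk' (center (GL (Fin n) ℂ))) (QuotientGroup.mk'_surjective _) k.1 (hσ.2.2 k.2)
    refine ⟨⟨e, ?_, he⟩, Subtype.ext hek⟩
    show σ (e : Γ × GL (Fin n) ℂ).1 = 1
    rw [hek]
    exact k.2
  have hcard : Nat.card ↥(τ.ker ⊓ commutator _) ≤ Nat.card ↥σ.ker := by
    rw [Nat.card_congr ek.toEquiv]
    exact Nat.card_le_card_of_surjective θ hθ
  have hfb := hfs.bijective_of_nat_card_le hcard
  rw [eq_bot_iff]
  intro e he
  have he1 : (e : Γ × GL (Fin n) ℂ).1 = 1 := he.1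
  have he' : e ∈ τ.ker ⊓ commutator _ := by
    refine ⟨?_, he.2⟩
    show σ (e : Γ × GL (Fin n) ℂ).1 = 1
    rw [he1, map_one]
  have h1 : f ⟨e, he'⟩ = 1 := Subtype.ext he1
  have h2 : (⟨e, he'⟩ : ↥(τ.ker ⊓ commutator _)) = 1 := hfb.1 (h1.trans (map_one f).symm)
  rw [Subgroup.mem_bot]
  exact congrArg Subtype.val h2

end Cfsg.Agent.Lib.Helper27.Schur
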