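/-
Schur multiplier theory (helper27): uniqueness of covers when `gcd(|Q/Q'|, |M(Q)|) = 1`.
-/
import Cfsg.Agent.Lib.Helper27.SchurProj

set_option autoImplicit false

namespace Cfsg.Agent.Lib.Helper27.Schur

universe u v w

open Subgroup
open scoped commutatorElement

theorem map_commutator_of_surjective {P Q : Type*} [Group P] [Group Q] (f : P →* Q)
    (hf : Function.Surjective f) : (commutator P).map f = commutator Q := by
  rw [_root_.commutator_def, _root_.commutator_def, Subgroup.map_commutator,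
    ← MonoidHom.range_eq_map, MonoidHom.range_eq_top.mpr hf]

/-- elements whose `m`-th power is a product of commutators -/
def powComm (P : Type*) [Group P] (m : ℕ) : Subgroup P :=
  ((powMonoidHom m : Abelianization P →* Abelianization P).ker).comap Abelianization.of

theorem mem_powComm {P : Type*} [Group P] {m : ℕ} {x : P} :
    x ∈ powComm P m ↔ x ^ m ∈ commutator P := by
  unfold powComm
  rw [Subgroup.mem_comap, MonoidHom.mem_ker, powMonoidHom_apply, ← map_pow, ← MonoidHom.mem_ker,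
    Abelianization.ker_of]

theorem pow_card_abelianization_mem_commutator {Q : Type*} [Group Q] [Finite Q] (q : Q) :
    q ^ Nat.card (Abelianization Q) ∈ commutator Q := by
  rw [← Abelianization.ker_of, MonoidHom.mem_ker, map_pow]
  exact pow_card_eq_one'

/-- the key bijection: over a cover `σ` with `gcd(|Q/Q'|, |A|) = 1`, the subgroup `powComm P m`
of a central extension `P` lying over `Γ` maps isomorphically onto `Γ`. -/
theorem bijective_powComm_of_coprime {Q : Type u} [Group Q] [Finite Q] {A : Type v} [CommGroup A]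
    (hA : Cfsg.HasSchurMultiplier Q A) {Γ : Type w} [Group Γ] (σ : Γ →* Q)
    (hσ : Cfsg.IsStemExtension σ) (hk : Nonempty (σ.ker ≃* A))
    (hcop : Nat.Coprime (Nat.card (Abelianization Q)) (Nat.card A))
    {P : Type*} [Group P] (τ : P →* Q) (hτs : Function.Surjective τ) (hτc : τ.ker ≤ center P)
    (p : P →* Γ) (hp : Function.Surjective p) (hpσ : σ.comp p = τ)
    (hexp : ∀ k ∈ p.ker, k ^ Nat.card A = 1) :
    Function.Bijective (p.comp (powComm P (Nat.card (Abelianization Q))).subtype) := by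
  obtain ⟨ek⟩ := hk
  haveI : Finite A := finite_of_hasSchurMultiplier hA
  haveI : Finite σ.ker := Finite.of_equiv A ek.symm.toEquiv
  set m := Nat.card (Abelianization Q) with hm
  set n := Nat.card A with hn
  have hστ : ∀ x, σ (p x) = τ x := fun x => DFunLike.congr_fun hpσ x
  obtain ⟨θ, hθ⟩ := exists_surjective_of_hasSchurMultiplier hA τ hτs hτc
  haveI : Finite ↥(τ.ker ⊓ commutator P) := Finite.of_surjective θ hθ
  have key : ∀ k ∈ σ.ker, ∃ d ∈ τ.ker ⊓ commutator P, p d = k := by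
    intro k hk
    have h1 : k ∈ (commutator P).map p := by
      rw [map_commutator_of_surjective p hp]
      exact hσ.2.2 hk
    obtain ⟨d, hd, rfl⟩ := h1
    refine ⟨d, ⟨?_, hd⟩, rfl⟩
    show τ d = 1
    rw [← hστ]
    exact hk
  let f : ↥(τ.ker ⊓ commutator P) →* ↥σ.ker :=
    MonoidHom.codRestrict (p.comp (Subgroup.subtype _)) σ.ker (fun x => by
      show σ (p x) = 1
      rw [hστ]
      exact x.2.1)
  have hfs : Function.Surjective f := by
    intro k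
    obtain ⟨d, hd, hdk⟩ := key k.1 k.2
    exact ⟨⟨d, hd⟩, Subtype.ext hdk⟩
  have hcard : Nat.card ↥(τ.ker ⊓ commutator P) ≤ Nat.card ↥σ.ker := by
    rw [Nat.card_congr ek.toEquiv]
    exact Nat.card_le_card_of_surjective θ hθ
  have hfb := hfs.bijective_of_nat_card_le hcard
  have hbot : ∀ x ∈ commutator P, p x = 1 → x = 1 := by
    intro x hx hpx
    have hx' : x ∈ τ.ker ⊓ commutator P := by
      refine ⟨?_, hx⟩
      show τ x = 1
      rw [← hστ, hpx, map_one]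
    have h1 : f ⟨x, hx'⟩ = 1 := Subtype.ext hpx
    have h2 : (⟨x, hx'⟩ : ↥(τ.ker ⊓ commutator P)) = 1 := hfb.1 (h1.trans (map_one f).symm)
    exact congrArg Subtype.val h2
  constructor
  · rw [← MonoidHom.ker_eq_bot_iff, eq_bot_iff]
    intro x hx
    have hpx : p (x : P) = 1 := hx
    have h1 : (x : P) ^ m ∈ commutator P := mem_powComm.mp x.2
    have h2 : (x : P) ^ m = 1 := hbot _ h1 (by rw [map_pow, hpx, one_pow])
    have h3 : (x : P) ^ n = 1 := hexp _ hpx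
    have h4 := pow_gcd_eq_one.mpr ⟨h2, h3⟩
    rw [Nat.Coprime.gcd_eq_one hcop, pow_one] at h4
    rw [mem_bot]
    exact Subtype.ext h4
  · intro g
    obtain ⟨x₀, rfl⟩ := hp g
    have h1 : τ (x₀ ^ m) ∈ (commutator P).map τ := by
      rw [map_commutator_of_surjective τ hτs, map_pow]
      exact pow_card_abelianization_mem_commutator _
    obtain ⟨d, hd, hdx⟩ := h1
    have hz : d⁻¹ * x₀ ^ m ∈ τ.ker := by
      show τ (d⁻¹ * x₀ ^ m) = 1
      rw [map_mul, map_inv, hdx, inv_mul_cancel]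
    have hz' : p (d⁻¹ * x₀ ^ m) ∈ σ.ker := by
      show σ (p _) = 1
      rw [hστ]; exact hz
    obtain ⟨d', hd', hd'z⟩ := key _ hz'
    set k := d'⁻¹ * (d⁻¹ * x₀ ^ m) with hkdef
    have hkp : k ∈ p.ker := by
      show p k = 1
      rw [hkdef, map_mul, map_inv, hd'z, inv_mul_cancel]
    have hkc : k ∈ center P := hτc (by
      show τ k = 1
      rw [← hστ, show p k = 1 from hkp, map_one])
    have hkn : k ^ n = 1 := hexp k hkp
    obtain ⟨a, c, hac⟩ := (Nat.isCoprime_iff_coprime.mpr hcop)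
    have hk1 : k = (k ^ a) ^ m := by
      have h1 : k ^ (a * (m : ℤ) + c * (n : ℤ)) = k := by rw [hac, zpow_one]
      rw [zpow_add, zpow_mul, zpow_natCast, zpow_mul', zpow_natCast, hkn, one_zpow, mul_one] at h1
      exact h1.symm
    have hkac : k ^ a ∈ center P := zpow_mem hkc a
    have hx0 : x₀ ^ m = d * d' * k := by rw [hkdef]; group
    have hmem : x₀ * (k ^ a)⁻¹ ∈ powComm P m := by
      rw [mem_powComm]
      have hcomm : Commute x₀ (k ^ a)⁻¹ := by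
        have := mem_center_iff.mp (inv_mem hkac) x₀
        exact this
      rw [hcomm.mul_pow, inv_pow, ← hk1, hx0, mul_inv_cancel_right]
      exact mul_mem hd hd'.2
    refine ⟨⟨x₀ * (k ^ a)⁻¹, hmem⟩, ?_⟩
    show p (x₀ * (k ^ a)⁻¹) = p x₀
    rw [map_mul, map_inv, map_zpow, show p k = 1 from hkp, one_zpow, inv_one, mul_one]

theorem pow_card_eq_one_of_mem_ker {Γ A : Type*} [Group Γ] [Group A] {Q : Type*} [Group Q] (σ : Γ →* Q)
    (e : σ.ker ≃* A) (k : Γ) (hk : k ∈ σ.ker) : k ^ Nat.card A = 1 := by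
  have h1 : (⟨k, hk⟩ : σ.ker) ^ Nat.card σ.ker = 1 := pow_card_eq_one'
  rw [Nat.card_congr e.toEquiv] at h1
  exact congrArg Subtype.val h1

/-- **Uniqueness of covers** when `gcd(|Q/Q'|, |M(Q)|) = 1`. -/
theorem exists_mulEquiv_over_of_coprime {Q : Type u} [Group Q] [Finite Q] {A : Type v} [CommGroup A]
    (hA : Cfsg.HasSchurMultiplier Q A)
    (hcop : Nat.Coprime (Nat.card (Abelianization Q)) (Nat.card A))
    {Γ₁ : Type*} {Γ₂ : Type*} [Group Γ₁] [Group Γ₂] (σ₁ : Γ₁ →* Q) (σ₂ : Γ₂ →* Q)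
    (h₁ : Cfsg.IsStemExtension σ₁) (h₂ : Cfsg.IsStemExtension σ₂)
    (hk₁ : Nonempty (σ₁.ker ≃* A)) (hk₂ : Nonempty (σ₂.ker ≃* A)) :
    ∃ e : Γ₁ ≃* Γ₂, σ₂.comp e.toMonoidHom = σ₁ := by
  let p1 : ↥(fiberProd σ₁ σ₂) →* Γ₁ := (MonoidHom.fst Γ₁ Γ₂).comp (fiberProd σ₁ σ₂).subtype
  let p2 : ↥(fiberProd σ₁ σ₂) →* Γ₂ := (MonoidHom.snd Γ₁ Γ₂).comp (fiberProd σ₁ σ₂).subtype
  have hp1 : Function.Surjective p1 := by
    intro g
    obtain ⟨d, hd⟩ := h₂.1 (σ₁ g)
    exact ⟨⟨(g, d), hd.symm⟩, rfl⟩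
  have hp2 : Function.Surjective p2 := by
    intro d
    obtain ⟨g, hg⟩ := h₁.1 (σ₂ d)
    exact ⟨⟨(g, d), hg⟩, rfl⟩
  let τ := σ₁.comp p1
  have hτ2 : σ₂.comp p2 = τ := by
    ext x
    exact (x.2 : σ₁ (x : Γ₁ × Γ₂).1 = σ₂ (x : Γ₁ × Γ₂).2).symm
  have hτs : Function.Surjective τ := h₁.1.comp hp1
  have hτc : τ.ker ≤ center _ := by
    intro e he
    have h1 : σ₁ (e : Γ₁ × Γ₂).1 = 1 := he
    have h2 : σ₂ (e : Γ₁ × Γ₂).2 = 1 := by
      have hmem : σ₁ (e : Γ₁ × Γ₂).1 = σ₂ (e : Γ₁ × Γ₂).2 := e.2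
      rw [← hmem]; exact h1
    have h1' := h₁.2.1 h1
    have h2' := h₂.2.1 h2
    rw [mem_center_iff]
    intro f
    apply Subtype.ext
    apply Prod.ext
    · exact mem_center_iff.mp h1' _
    · exact mem_center_iff.mp h2' _
  obtain ⟨e₁⟩ := hk₁
  obtain ⟨e₂⟩ := hk₂
  have hexp1 : ∀ k ∈ p1.ker, k ^ Nat.card A = 1 := by
    intro k hk
    have h1 : (k : Γ₁ × Γ₂).1 = 1 := hk
    have h2 : (k : Γ₁ × Γ₂).2 ∈ σ₂.ker := by
      show σ₂ (k : Γ₁ × Γ₂).2 = 1
      have hmem : σ₁ (k : Γ₁ × Γ₂).1 = σ₂ (k : Γ₁ × Γ₂).2 := k.2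
      rw [← hmem, h1, map_one]
    apply Subtype.ext
    apply Prod.ext
    · show ((k : Γ₁ × Γ₂).1) ^ Nat.card A = 1
      rw [h1, one_pow]
    · exact pow_card_eq_one_of_mem_ker σ₂ e₂ _ h2
  have hexp2 : ∀ k ∈ p2.ker, k ^ Nat.card A = 1 := by
    intro k hk
    have h1 : (k : Γ₁ × Γ₂).2 = 1 := hk
    have h2 : (k : Γ₁ × Γ₂).1 ∈ σ₁.ker := by
      show σ₁ (k : Γ₁ × Γ₂).1 = 1
      have hmem : σ₁ (k : Γ₁ × Γ₂).1 = σ₂ (k : Γ₁ × Γ₂).2 := k.2
      rw [hmem, h1, map_one]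
    apply Subtype.ext
    apply Prod.ext
    · exact pow_card_eq_one_of_mem_ker σ₁ e₁ _ h2
    · show ((k : Γ₁ × Γ₂).2) ^ Nat.card A = 1
      rw [h1, one_pow]
  have hb1 := bijective_powComm_of_coprime hA σ₁ h₁ ⟨e₁⟩ hcop τ hτs hτc p1 hp1 rfl hexp1
  have hb2 := bijective_powComm_of_coprime hA σ₂ h₂ ⟨e₂⟩ hcop τ hτs hτc p2 hp2 hτ2 hexp2
  let E₁ := MulEquiv.ofBijective _ hb1
  let E₂ := MulEquiv.ofBijective _ hb2
  refine ⟨E₁.symm.trans E₂, ?_⟩
  ext g
  show σ₂ (E₂ (E₁.symm g)) = σ₁ g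
  have h1 : E₁ (E₁.symm g) = g := E₁.apply_symm_apply g
  have h2 : σ₁ (E₁ (E₁.symm g)) = σ₂ (E₂ (E₁.symm g)) :=
    ((E₁.symm g : ↥(fiberProd σ₁ σ₂))).2
  rw [← h2, h1]

end Cfsg.Agent.Lib.Helper27.Schur
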