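/-
Schur multiplier theory (helper27): if all covers of `Q` are isomorphic over `Q`, then
`gcd(|Q/Q'|, |M(Q)|) = 1`.
-/
import Cfsg.Agent.Lib.Helper27.SchurUniq

set_option autoImplicit false

namespace Cfsg.Agent.Lib.Helper27.Schur

universe u v w

open Subgroup
open scoped commutatorElement

section Graph

variable {α : Type v} {G : Type u} [Group G] {π : FreeGroup α →* G}

/-- `s ↦ s * β s` -/
def graphHom (S : Subgroup (HopfGroup π)) (β : ↥S →* ↥(mult π)) : ↥S →* HopfGroup π where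
  toFun s := (s : HopfGroup π) * (β s : HopfGroup π)
  map_one' := by simp
  map_mul' s t := by
    have h := mem_center_iff.mp (mult_le_center π (β s).2) (t : HopfGroup π)
    rw [map_mul]
    show (s : HopfGroup π) * t * ((β s : HopfGroup π) * (β t : HopfGroup π)) = _
    calc (s : HopfGroup π) * t * ((β s : HopfGroup π) * (β t : HopfGroup π))
        = (s : HopfGroup π) * ((t : HopfGroup π) * (β s : HopfGroup π)) * (β t : HopfGroup π) := by group
      _ = (s : HopfGroup π) * ((β s : HopfGroup π) * (t : HopfGroup π)) * (β t : HopfGroup π) := by rw [h]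
      _ = _ := by group

/-- the graph of `β`, another complement -/
def graphSub (S : Subgroup (HopfGroup π)) (β : ↥S →* ↥(mult π)) : Subgroup (HopfGroup π) :=
  (graphHom S β).range

theorem graphSub_le_ker (S : Subgroup (HopfGroup π)) (hS : S ≤ (hopfHom π).ker) (β : ↥S →* ↥(mult π)) :
    graphSub S β ≤ (hopfHom π).ker := by
  rintro _ ⟨s, rfl⟩
  show hopfHom π ((s : HopfGroup π) * (β s : HopfGroup π)) = 1
  rw [map_mul, show hopfHom π (s : HopfGroup π) = 1 from hS s.2,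
    show hopfHom π (β s : HopfGroup π) = 1 from (β s).2.1, mul_one]

theorem graphSub_inf_commutator (S : Subgroup (HopfGroup π))
    (hS2 : S ⊓ commutator (HopfGroup π) = ⊥) (β : ↥S →* ↥(mult π)) :
    graphSub S β ⊓ commutator (HopfGroup π) = ⊥ := by
  rw [eq_bot_iff]
  rintro _ ⟨⟨s, rfl⟩, h2⟩
  have h3 : (s : HopfGroup π) ∈ commutator (HopfGroup π) := by
    have h2' : graphHom S β s ∈ commutator (HopfGroup π) := h2
    have hβ : (β s : HopfGroup π) ∈ commutator (HopfGroup π) := (β s).2.2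
    have := mul_mem h2' (inv_mem hβ)
    have e : graphHom S β s * ((β s : HopfGroup π))⁻¹ = (s : HopfGroup π) := by
      show (s : HopfGroup π) * (β s : HopfGroup π) * ((β s : HopfGroup π))⁻¹ = s
      rw [mul_inv_cancel_right]
    rwa [e] at this
  have h4 : (s : HopfGroup π) ∈ S ⊓ commutator (HopfGroup π) := ⟨s.2, h3⟩
  rw [hS2, mem_bot] at h4
  have h5 : s = 1 := Subtype.ext h4
  rw [mem_bot, h5, map_one]

theorem ker_le_graphSub_sup (S : Subgroup (HopfGroup π)) (hS : S ≤ (hopfHom π).ker)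
    (hS3 : (hopfHom π).ker ≤ S ⊔ mult π) (β : ↥S →* ↥(mult π)) :
    (hopfHom π).ker ≤ graphSub S β ⊔ mult π := by
  haveI : (mult π).Normal := normal_of_le_ker inf_le_left
  intro z hz
  obtain ⟨s, hs, μ, hμ, rfl⟩ := Subgroup.mem_sup_of_normal_right.mp (hS3 hz)
  have e : s * μ = (s * (β ⟨s, hs⟩ : HopfGroup π)) * (((β ⟨s, hs⟩ : HopfGroup π))⁻¹ * μ) := by group
  rw [e]
  exact Subgroup.mul_mem_sup ⟨⟨s, hs⟩, rfl⟩ (mul_mem (inv_mem (β ⟨s, hs⟩).2) hμ)

/-- an isomorphism over `G` between two covers `H/S₁`, `H/S₂` gives a homomorphism `H → M` measuring the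
difference between `S₁` and `S₂`. -/
theorem exists_hom_of_iso (S₁ S₂ : Subgroup (HopfGroup π)) [S₁.Normal] [S₂.Normal]
    (hS₁ : S₁ ≤ (hopfHom π).ker) (hS₂ : S₂ ≤ (hopfHom π).ker)
    (hS₂2 : S₂ ⊓ commutator (HopfGroup π) = ⊥) (hS₂3 : (hopfHom π).ker ≤ S₂ ⊔ mult π)
    (e : HopfGroup π ⧸ S₁ ≃* HopfGroup π ⧸ S₂)
    (he : (coverHom S₂ hS₂).comp e.toMonoidHom = coverHom S₁ hS₁) :
    ∃ χ : HopfGroup π →* ↥(mult π), ∀ (s : HopfGroup π) (μ : ↥(mult π)), s ∈ S₂ →
      s * (μ : HopfGroup π) ∈ S₁ → χ s = μ := by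
  have hcomp : ∀ h : HopfGroup π, coverHom S₂ hS₂ (e (h : HopfGroup π ⧸ S₁)) = hopfHom π h := by
    intro h
    have := DFunLike.congr_fun he (h : HopfGroup π ⧸ S₁)
    exact this
  have hker : ∀ h : HopfGroup π,
      (e (h : HopfGroup π ⧸ S₁))⁻¹ * (h : HopfGroup π ⧸ S₂) ∈ (coverHom S₂ hS₂).ker := by
    intro h
    show coverHom S₂ hS₂ _ = 1
    rw [map_mul, map_inv, hcomp, coverHom_mk, inv_mul_cancel]
  have hcen : ∀ h : HopfGroup π,
      (e (h : HopfGroup π ⧸ S₁))⁻¹ * (h : HopfGroup π ⧸ S₂) ∈ center (HopfGroup π ⧸ S₂) :=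
    fun h => coverHom_ker_le_center S₂ hS₂ (hker h)
  let χ₀ : HopfGroup π →* HopfGroup π ⧸ S₂ :=
    { toFun := fun h => (e (h : HopfGroup π ⧸ S₁))⁻¹ * (h : HopfGroup π ⧸ S₂)
      map_one' := by simp
      map_mul' := fun a b => by
        have hc := mem_center_iff.mp (hcen a)
        have h1 : ((a * b : HopfGroup π) : HopfGroup π ⧸ S₁) = (a : HopfGroup π ⧸ S₁) * b := rfl
        have h2 : ((a * b : HopfGroup π) : HopfGroup π ⧸ S₂) = (a : HopfGroup π ⧸ S₂) * b := rfl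
        rw [h1, h2, map_mul, mul_inv_rev]
        calc (e (b : HopfGroup π ⧸ S₁))⁻¹ * (e (a : HopfGroup π ⧸ S₁))⁻¹ * ((a : HopfGroup π ⧸ S₂) * b)
            = (e (b : HopfGroup π ⧸ S₁))⁻¹ * ((e (a : HopfGroup π ⧸ S₁))⁻¹ * (a : HopfGroup π ⧸ S₂)) * b := by
              group
          _ = ((e (a : HopfGroup π ⧸ S₁))⁻¹ * (a : HopfGroup π ⧸ S₂)) * (e (b : HopfGroup π ⧸ S₁))⁻¹ * b := by
              rw [hc]
          _ = _ := by group }
  have hχ₀c : commutator (HopfGroup π) ≤ χ₀.ker :=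
    commutator_le_ker_of_commute χ₀ (fun a b => mem_center_iff.mp (hcen b) _)
  let χ₁ : HopfGroup π →* ↥(coverHom S₂ hS₂).ker := χ₀.codRestrict _ hker
  refine ⟨(coverKerEquiv S₂ hS₂ hS₂2 hS₂3).symm.toMonoidHom.comp χ₁, ?_⟩
  intro s μ hs hsμ
  have h1 : χ₀ (μ : HopfGroup π) = 1 := hχ₀c μ.2.2
  have h1' : e ((μ : HopfGroup π) : HopfGroup π ⧸ S₁) = ((μ : HopfGroup π) : HopfGroup π ⧸ S₂) := by
    have : (e ((μ : HopfGroup π) : HopfGroup π ⧸ S₁))⁻¹ * ((μ : HopfGroup π) : HopfGroup π ⧸ S₂) = 1 := h1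
    exact (inv_mul_eq_one.mp this)
  have h2 : ((s : HopfGroup π) : HopfGroup π ⧸ S₁) = (((μ : HopfGroup π) : HopfGroup π ⧸ S₁))⁻¹ := by
    have : ((s * (μ : HopfGroup π) : HopfGroup π) : HopfGroup π ⧸ S₁) = 1 :=
      (QuotientGroup.eq_one_iff _).mpr hsμ
    exact eq_inv_of_mul_eq_one_left this
  have h3 : ((s : HopfGroup π) : HopfGroup π ⧸ S₂) = 1 := (QuotientGroup.eq_one_iff _).mpr hs
  have h4 : χ₀ s = ((μ : HopfGroup π) : HopfGroup π ⧸ S₂) := by
    show (e ((s : HopfGroup π) : HopfGroup π ⧸ S₁))⁻¹ * ((s : HopfGroup π) : HopfGroup π ⧸ S₂) = _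
    rw [h2, h3, map_inv, inv_inv, mul_one, h1']
  have h5 : χ₁ s = coverKerEquiv S₂ hS₂ hS₂2 hS₂3 μ := by
    apply Subtype.ext
    rw [coverKerEquiv_apply]
    exact h4
  show (coverKerEquiv S₂ hS₂ hS₂2 hS₂3).symm (χ₁ s) = μ
  rw [h5, MulEquiv.symm_apply_apply]

end Graph

/-- in a finite abelian group of order divisible by `p`, some element is not a `p`-th power -/
theorem exists_not_pow {M : Type*} [CommGroup M] [Finite M] (p : ℕ) (hp : p.Prime)
    (hpM : p ∣ Nat.card M) : ∃ u : M, ∀ v : M, v ^ p ≠ u := by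
  haveI := Fact.mk hp
  obtain ⟨g, hg⟩ := exists_prime_orderOf_dvd_card' p hpM
  by_contra hcon
  push Not at hcon
  have hsurj : Function.Surjective (powMonoidHom p : M →* M) := fun u => hcon u
  have hinj := Finite.injective_iff_surjective.mpr hsurj
  have h1 : g = 1 := hinj (by
    show g ^ p = 1 ^ p
    rw [one_pow, ← hg, pow_orderOf_eq_one])
  rw [h1, orderOf_one] at hg
  exact hp.one_lt.ne hg

/-- if `u` is not a `p`-th power and `p ∤ n`, then `u ^ n` is not a `p`-th power -/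
theorem zpow_not_pow {M : Type*} [CommGroup M] (p : ℕ) (hp : p.Prime) (u : M)
    (hu : ∀ v : M, v ^ p ≠ u) (n : ℤ) (hn : ¬ (p : ℤ) ∣ n) (v : M) : v ^ p ≠ u ^ n := by
  intro hv
  have hcop : IsCoprime (p : ℤ) n := by
    rw [Int.isCoprime_iff_gcd_eq_one, Int.gcd_eq_natAbs, Int.natAbs_natCast]
    apply (Nat.Prime.coprime_iff_not_dvd hp).mpr
    intro h
    exact hn (Int.natCast_dvd.mpr h)
  obtain ⟨a, b, hab⟩ := hcop
  apply hu (u ^ a * v ^ b)
  have h1 : u ^ (a * (p : ℤ) + b * n) = u := by rw [hab, zpow_one]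
  rw [zpow_add, zpow_mul, zpow_natCast, zpow_mul', ← hv] at h1
  have h2 : (v ^ b) ^ p = (v ^ p) ^ b := by
    rw [← zpow_natCast (v ^ b) p, ← zpow_mul, mul_comm, zpow_mul, zpow_natCast]
  rw [mul_pow, h2]
  exact h1

section Coord

variable {α : Type v} [Finite α] {G : Type u} [Group G] {π : FreeGroup α →* G}

/-- homomorphisms from a complement to the multiplier with a prescribed non-`p`-th-power value -/
theorem exists_hom_not_pow (S : Subgroup (HopfGroup π)) (hS : S ≤ (hopfHom π).ker) (p : ℕ)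
    (hp : p.Prime) (s₀ : HopfGroup π) (hs₀ : s₀ ∈ S)
    (hnot : ∀ s' ∈ S, abHom π s₀ ≠ (abHom π s') ^ p)
    (u : ↥(mult π)) (hu : ∀ v : ↥(mult π), v ^ p ≠ u) :
    ∃ β : ↥S →* ↥(mult π), ∀ v : ↥(mult π), v ^ p ≠ β ⟨s₀, hs₀⟩ := by
  classical
  letI : CommGroup ↥S :=
    { (inferInstance : Group ↥S) with
      mul_comm := fun x y => Subtype.ext (by
        have := hopfHom_ker_le_center π (hS x.2)
        rw [mem_center_iff] at this
        exact (this y.1).symm) }
  let g : Additive ↥S →+ Additive (Abelianization (FreeGroup α)) :=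
    MonoidHom.toAdditive ((abHom π).comp S.subtype)
  let gl : Additive ↥S →ₗ[ℤ] Additive (Abelianization (FreeGroup α)) := g.toIntLinearMap
  let N : Submodule ℤ (Additive (Abelianization (FreeGroup α))) := LinearMap.range gl
  obtain ⟨k, ⟨bN⟩⟩ := Submodule.nonempty_basis_of_pid (abBasis α) N
  let co : ↥S → Fin k → ℤ := fun s i => bN.repr (gl.rangeRestrict (Additive.ofMul s)) i
  have hco_mul : ∀ s t i, co (s * t) i = co s i + co t i := by
    intro s t i
    show bN.repr (gl.rangeRestrict (Additive.ofMul (s * t))) i = _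
    rw [ofMul_mul, map_add, map_add, Finsupp.add_apply]
  have hco_one : ∀ i, co 1 i = 0 := by
    intro i
    have := hco_mul 1 1 i
    rw [mul_one] at this
    omega
  by_cases hall : ∀ i, (p : ℤ) ∣ co ⟨s₀, hs₀⟩ i
  · exfalso
    let y : N := ∑ i, (co ⟨s₀, hs₀⟩ i / p) • bN i
    have hy : (p : ℤ) • y = gl.rangeRestrict (Additive.ofMul ⟨s₀, hs₀⟩) := by
      rw [← bN.sum_repr (gl.rangeRestrict (Additive.ofMul ⟨s₀, hs₀⟩)), Finset.smul_sum]
      apply Finset.sum_congr rfl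
      intro i _
      rw [smul_smul, Int.mul_ediv_cancel' (hall i)]
    obtain ⟨s', hs'⟩ := y.2
    apply hnot (Additive.toMul s' : ↥S).1 (Additive.toMul s' : ↥S).2
    have h1 : ((p : ℤ) • y : N).1 = gl (Additive.ofMul ⟨s₀, hs₀⟩) := congrArg Subtype.val hy
    have h2 : ((p : ℤ) • y : N).1 = (p : ℤ) • gl s' := by
      rw [Submodule.coe_smul, hs']
    rw [h2] at h1
    have h3 := congrArg Additive.toMul h1
    have h4 : Additive.toMul (gl (Additive.ofMul (⟨s₀, hs₀⟩ : ↥S))) = abHom π s₀ := rfl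
    have h5 : Additive.toMul ((p : ℤ) • gl s') = (abHom π (Additive.toMul s' : ↥S).1) ^ p := by
      rw [natCast_zsmul]
      rfl
    rw [h4, h5] at h3
    exact h3.symm
  · push Not at hall
    obtain ⟨i, hi⟩ := hall
    refine ⟨{ toFun := fun s => u ^ (co s i)
              map_one' := by rw [hco_one, zpow_zero]
              map_mul' := fun s t => by rw [hco_mul, zpow_add] }, ?_⟩
    intro v
    exact zpow_not_pow p hp u hu _ hi v

end Coord

/-- the abelianization of a free group is torsion-free -/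
theorem ab_pow_injective (α : Type*) (p : ℕ) (hp : p ≠ 0) (a b : Abelianization (FreeGroup α))
    (h : a ^ p = b ^ p) : a = b := by
  apply Additive.ofMul.injective
  apply (abBasis α).repr.injective
  ext i
  have h1 := congrArg (fun z => (abBasis α).repr (Additive.ofMul z) i) h
  simp only [ofMul_pow, map_nsmul, Finsupp.smul_apply, smul_eq_mul] at h1
  simpa [hp] using h1

/-- if all covers of `Q` are isomorphic over `Q`, then `gcd(|Q/Q'|, |M(Q)|) = 1` -/
theorem coprime_of_unique {Q : Type u} [Group Q] [Finite Q] {A : Type v} [CommGroup A]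
    (hA : Cfsg.HasSchurMultiplier Q A)
    (huniq : ∀ (Γ₁ Γ₂ : Type u) [Group Γ₁] [Finite Γ₁] [Group Γ₂] [Finite Γ₂] (σ₁ : Γ₁ →* Q)
      (σ₂ : Γ₂ →* Q), Cfsg.IsStemExtension σ₁ → Cfsg.IsStemExtension σ₂ → Nonempty (σ₁.ker ≃* A) →
      Nonempty (σ₂.ker ≃* A) → ∃ e : Γ₁ ≃* Γ₂, σ₂.comp e.toMonoidHom = σ₁) :
    Nat.Coprime (Nat.card (Abelianization Q)) (Nat.card A) := by
  by_contra hnc
  obtain ⟨p, hp, hpm, hpn⟩ := Nat.Prime.not_coprime_iff_dvd.mp hnc
  haveI := Fact.mk hp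
  have hπ := stdPres_surjective Q
  obtain ⟨eA⟩ := nonempty_mulEquiv_mult (stdPres Q) hπ hA
  haveI : Finite ↥(mult (stdPres Q)) := finite_mult _
  have hpM : p ∣ Nat.card ↥(mult (stdPres Q)) := by
    rw [← Nat.card_congr eA.toEquiv]; exact hpn
  obtain ⟨u, hu⟩ := exists_not_pow p hp hpM
  obtain ⟨S, hS1, hS2, hS3⟩ := exists_complement (stdPres Q)
  haveI : S.Normal := normal_of_le_ker hS1
  -- the element q
  obtain ⟨yb, hyb⟩ := exists_prime_orderOf_dvd_card' p hpm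
  obtain ⟨q, rfl⟩ : ∃ q, Abelianization.of q = yb := QuotientGroup.mk_surjective yb
  have hq1 : q ∉ commutator Q := by
    intro h
    rw [← Abelianization.ker_of] at h
    have : Abelianization.of q = 1 := h
    rw [this, orderOf_one] at hyb
    exact hp.one_lt.ne hyb
  have hq2 : q ^ p ∈ commutator Q := by
    rw [← Abelianization.ker_of, MonoidHom.mem_ker, map_pow, ← hyb, pow_orderOf_eq_one]
  obtain ⟨x, hx⟩ := hopfHom_surjective (stdPres Q) hπ q
  have hmapc := map_commutator_of_surjective _ (hopfHom_surjective (stdPres Q) hπ)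
  have h1 : hopfHom (stdPres Q) (x ^ p) ∈
      (commutator (HopfGroup (stdPres Q))).map (hopfHom (stdPres Q)) := by
    rw [hmapc, map_pow, hx]; exact hq2
  obtain ⟨c, hc, hcx⟩ := h1
  have hz : x ^ p * c⁻¹ ∈ (hopfHom (stdPres Q)).ker := by
    show hopfHom _ (x ^ p * c⁻¹) = 1
    rw [map_mul, map_inv, hcx, mul_inv_cancel]
  haveI : (mult (stdPres Q)).Normal := normal_of_le_ker inf_le_left
  obtain ⟨s₀, hs₀, μ, hμ, hsμ⟩ := Subgroup.mem_sup_of_normal_right.mp (hS3 hz)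
  have hxp : x ^ p = s₀ * (μ * c) := by rw [← mul_assoc, hsμ]; group
  have hμc : μ * c ∈ commutator (HopfGroup (stdPres Q)) := mul_mem hμ.2 hc
  have hab : abHom (stdPres Q) s₀ = (abHom (stdPres Q) x) ^ p := by
    have h2 : abHom (stdPres Q) (μ * c) = 1 := by
      have : μ * c ∈ (abHom (stdPres Q)).ker := by rw [abHom_ker]; exact hμc
      exact this
    rw [← map_pow, hxp, map_mul, h2, mul_one]
  have hnot : ∀ s' ∈ S, abHom (stdPres Q) s₀ ≠ (abHom (stdPres Q) s') ^ p := by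
    intro s' hs' heq
    rw [hab] at heq
    have h3 : abHom (stdPres Q) x = abHom (stdPres Q) s' :=
      ab_pow_injective Q p hp.ne_zero _ _ heq
    have h4 : x * s'⁻¹ ∈ commutator (HopfGroup (stdPres Q)) := by
      rw [← abHom_ker]
      show abHom _ (x * s'⁻¹) = 1
      rw [map_mul, map_inv, h3, mul_inv_cancel]
    apply hq1
    have h5 : q = hopfHom (stdPres Q) (x * s'⁻¹) := by
      rw [map_mul, map_inv, hx, show hopfHom (stdPres Q) s' = 1 from hS1 hs', inv_one, mul_one]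
    rw [h5, ← hmapc]
    exact ⟨_, h4, rfl⟩
  obtain ⟨β, hβ⟩ := exists_hom_not_pow S hS1 p hp s₀ hs₀ hnot u hu
  have hT1 := graphSub_le_ker S hS1 β
  have hT2 := graphSub_inf_commutator S hS2 β
  have hT3 := ker_le_graphSub_sup S hS1 hS3 β
  haveI : (graphSub S β).Normal := normal_of_le_ker hT1
  haveI := finite_cover S hS1 hS2 hS3
  haveI := finite_cover (graphSub S β) hT1 hT2 hT3
  obtain ⟨e, he⟩ := huniq (HopfGroup (stdPres Q) ⧸ graphSub S β) (HopfGroup (stdPres Q) ⧸ S)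
    (coverHom (graphSub S β) hT1) (coverHom S hS1) (coverHom_isStem hπ _ hT1 hT3)
    (coverHom_isStem hπ _ hS1 hS3)
    ⟨(coverKerEquiv _ hT1 hT2 hT3).symm.trans eA.symm⟩
    ⟨(coverKerEquiv _ hS1 hS2 hS3).symm.trans eA.symm⟩
  obtain ⟨χ, hχ⟩ := exists_hom_of_iso (graphSub S β) S hT1 hS1 hS2 hS3 e he
  have h5 : χ s₀ = β ⟨s₀, hs₀⟩ := hχ s₀ (β ⟨s₀, hs₀⟩) hs₀ ⟨⟨s₀, hs₀⟩, rfl⟩
  have hχc : commutator (HopfGroup (stdPres Q)) ≤ χ.ker :=
    commutator_le_ker_of_commute χ (fun a b => mul_comm _ _)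
  have h6 : χ s₀ = (χ x) ^ p := by
    have h7 : χ (μ * c) = 1 := hχc hμc
    rw [← map_pow, hxp, map_mul, h7, mul_one]
  exact hβ (χ x) (h6.symm.trans h5)

end Cfsg.Agent.Lib.Helper27.Schur
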