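/-
Schur multiplier theory (helper27): the central extension of `X₁ × X₂` by `C` attached to a
bimultiplicative pairing `τ : X₁ →* X₂ →* C`:  `(a₁,a₂,s) * (b₁,b₂,t) = (a₁b₁, a₂b₂, s t τ(a₁,b₂))`.
-/
import Mathlib

set_option autoImplicit false

namespace Cfsg.Agent.Lib.Helper27.Schur

open scoped commutatorElement

/-- The central extension of `X₁ × X₂` by `C` defined by the pairing `τ`. -/
structure ProdExt {X₁ X₂ C : Type*} [Group X₁] [Group X₂] [CommGroup C] (τ : X₁ →* X₂ →* C) where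
  /-- first component -/
  fst : X₁
  /-- second component -/
  snd : X₂
  /-- central component -/
  trd : C

namespace ProdExt

variable {X₁ X₂ C : Type*} [Group X₁] [Group X₂] [CommGroup C] (τ : X₁ →* X₂ →* C)

@[ext]
theorem ext' {x y : ProdExt τ} (h1 : x.fst = y.fst) (h2 : x.snd = y.snd) (h3 : x.trd = y.trd) :
    x = y := by
  cases x; cases y; simp_all

instance : Mul (ProdExt τ) :=
  ⟨fun x y => ⟨x.fst * y.fst, x.snd * y.snd, x.trd * y.trd * τ x.fst y.snd⟩⟩
instance : One (ProdExt τ) := ⟨⟨1, 1, 1⟩⟩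
instance : Inv (ProdExt τ) := ⟨fun x => ⟨x.fst⁻¹, x.snd⁻¹, x.trd⁻¹ * τ x.fst x.snd⟩⟩

@[simp] theorem mul_fst (x y : ProdExt τ) : (x * y).fst = x.fst * y.fst := rfl
@[simp] theorem mul_snd (x y : ProdExt τ) : (x * y).snd = x.snd * y.snd := rfl
@[simp] theorem mul_trd (x y : ProdExt τ) : (x * y).trd = x.trd * y.trd * τ x.fst y.snd := rfl
@[simp] theorem one_fst : (1 : ProdExt τ).fst = 1 := rfl
@[simp] theorem one_snd : (1 : ProdExt τ).snd = 1 := rfl
@[simp] theorem one_trd : (1 : ProdExt τ).trd = 1 := rfl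
@[simp] theorem inv_fst (x : ProdExt τ) : (x⁻¹).fst = x.fst⁻¹ := rfl
@[simp] theorem inv_snd (x : ProdExt τ) : (x⁻¹).snd = x.snd⁻¹ := rfl
@[simp] theorem inv_trd (x : ProdExt τ) : (x⁻¹).trd = x.trd⁻¹ * τ x.fst x.snd := rfl

instance : Group (ProdExt τ) where
  mul_assoc x y z := by
    apply ext'
    · simp [mul_assoc]
    · simp [mul_assoc]
    · simp only [mul_trd, mul_fst, mul_snd, map_mul, MonoidHom.mul_apply]
      simp only [mul_assoc, mul_left_comm, mul_comm]
  one_mul x := by apply ext' <;> simp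
  mul_one x := by apply ext' <;> simp
  inv_mul_cancel x := by
    apply ext'
    · simp
    · simp
    · simp only [mul_trd, inv_trd, inv_fst, map_inv, MonoidHom.inv_apply, one_trd]
      rw [mul_comm (x.trd⁻¹), mul_assoc, mul_assoc, inv_mul_cancel_left, mul_inv_cancel]

/-- the projection onto `X₁ × X₂` -/
def proj : ProdExt τ →* X₁ × X₂ where
  toFun x := (x.fst, x.snd)
  map_one' := rfl
  map_mul' _ _ := rfl

@[simp] theorem proj_apply (x : ProdExt τ) : proj τ x = (x.fst, x.snd) := rfl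

theorem proj_surjective : Function.Surjective (proj τ) := fun a => ⟨⟨a.1, a.2, 1⟩, rfl⟩

/-- first embedding -/
def inl : X₁ →* ProdExt τ where
  toFun a := ⟨a, 1, 1⟩
  map_one' := rfl
  map_mul' a b := by apply ext' <;> simp

/-- second embedding -/
def inr : X₂ →* ProdExt τ where
  toFun b := ⟨1, b, 1⟩
  map_one' := rfl
  map_mul' a b := by apply ext' <;> simp

/-- the central embedding -/
def inc : C →* ProdExt τ where
  toFun c := ⟨1, 1, c⟩
  map_one' := rfl
  map_mul' a b := by apply ext' <;> simp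

@[simp] theorem inl_fst (a : X₁) : (inl τ a).fst = a := rfl
@[simp] theorem inl_snd (a : X₁) : (inl τ a).snd = 1 := rfl
@[simp] theorem inl_trd (a : X₁) : (inl τ a).trd = 1 := rfl
@[simp] theorem inr_fst (b : X₂) : (inr τ b).fst = 1 := rfl
@[simp] theorem inr_snd (b : X₂) : (inr τ b).snd = b := rfl
@[simp] theorem inr_trd (b : X₂) : (inr τ b).trd = 1 := rfl
@[simp] theorem inc_fst (c : C) : (inc τ c).fst = 1 := rfl
@[simp] theorem inc_snd (c : C) : (inc τ c).snd = 1 := rfl
@[simp] theorem inc_trd (c : C) : (inc τ c).trd = c := rfl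

theorem inc_mem_center (c : C) : inc τ c ∈ Subgroup.center (ProdExt τ) := by
  rw [Subgroup.mem_center_iff]
  intro x
  apply ext'
  · simp
  · simp
  · simp [mul_comm]

theorem eq_inl_mul_inr_mul_inc (x : ProdExt τ) :
    x = inl τ x.fst * inr τ x.snd * inc τ (x.trd * (τ x.fst x.snd)⁻¹) := by
  apply ext'
  · simp
  · simp
  · simp only [mul_trd, inl_trd, inr_trd, inc_trd, mul_fst, inl_fst, inr_fst, inc_snd, inr_snd,
      mul_one, one_mul, map_one]
    rw [mul_comm (τ x.fst x.snd), inv_mul_cancel_right]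

theorem commutator_inl_inr (a : X₁) (b : X₂) : ⁅inl τ a, inr τ b⁆ = inc τ (τ a b) := by
  rw [commutatorElement_def]
  apply ext'
  · simp
  · simp
  · simp

/-- underlying equivalence with the product -/
def equivProd : ProdExt τ ≃ X₁ × X₂ × C where
  toFun x := (x.fst, x.snd, x.trd)
  invFun p := ⟨p.1, p.2.1, p.2.2⟩
  left_inv _ := rfl
  right_inv _ := rfl

instance [Finite X₁] [Finite X₂] [Finite C] : Finite (ProdExt τ) :=
  Finite.of_equiv _ (equivProd τ).symm

end ProdExt

end Cfsg.Agent.Lib.Helper27.Schur
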