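/-
Schur multiplier theory (helper27): Schur's formula `M(Q₁ × Q₂) ≅ M(Q₁) × M(Q₂) × (Q₁ᵃᵇ ⊗ Q₂ᵃᵇ)`.
-/
import Cfsg.Agent.Lib.Helper27.SchurProd
import Cfsg.Agent.Lib.Helper27.SchurProdExt
import Cfsg.Agent.Lib.Helper27.SchurProj
import Cfsg.Agent.Lib.Helper27.SchurUniq

set_option autoImplicit false

namespace Cfsg.Agent.Lib.Helper27.Schur

universe u v w

open Subgroup TensorProduct
open scoped commutatorElement

section Exist

variable {Q₁ : Type u} {Q₂ : Type v} [Group Q₁] [Group Q₂] {Γ₁ : Type*} {Γ₂ : Type*} [Group Γ₁] [Group Γ₂]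
  (σ₁ : Γ₁ →* Q₁) (σ₂ : Γ₂ →* Q₂)

/-- the abelianized class, additively -/
def abCls {Γ Q : Type*} [Group Γ] [Group Q] (σ : Γ →* Q) (a : Γ) : Additive (Abelianization Q) :=
  Additive.ofMul (Abelianization.of (σ a))

theorem abCls_mul {Γ Q : Type*} [Group Γ] [Group Q] (σ : Γ →* Q) (a b : Γ) :
    abCls σ (a * b) = abCls σ a + abCls σ b := by
  unfold abCls
  rw [map_mul, map_mul, ofMul_mul]

theorem abCls_one {Γ Q : Type*} [Group Γ] [Group Q] (σ : Γ →* Q) : abCls σ 1 = 0 := by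
  unfold abCls
  rw [map_one, map_one, ofMul_one]

theorem abCls_of_mem_ker {Γ Q : Type*} [Group Γ] [Group Q] (σ : Γ →* Q) {a : Γ} (ha : a ∈ σ.ker) :
    abCls σ a = 0 := by
  unfold abCls
  rw [show σ a = 1 from ha, map_one, ofMul_one]

/-- the tensor pairing `Γ₁ × Γ₂ → Q₁ᵃᵇ ⊗ Q₂ᵃᵇ` -/
def tensorPairing : Γ₁ →* Γ₂ →*
    Multiplicative (Additive (Abelianization Q₁) ⊗[ℤ] Additive (Abelianization Q₂)) where
  toFun a :=
    { toFun := fun b => Multiplicative.ofAdd (abCls σ₁ a ⊗ₜ[ℤ] abCls σ₂ b)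
      map_one' := by rw [abCls_one, tmul_zero]; rfl
      map_mul' := fun b b' => by rw [abCls_mul, tmul_add]; rfl }
  map_one' := by
    ext b
    show Multiplicative.ofAdd (abCls σ₁ 1 ⊗ₜ[ℤ] abCls σ₂ b) = 1
    rw [abCls_one, zero_tmul]; rfl
  map_mul' a a' := by
    ext b
    show Multiplicative.ofAdd (abCls σ₁ (a * a') ⊗ₜ[ℤ] abCls σ₂ b) = _
    rw [abCls_mul, add_tmul]; rfl

theorem tensorPairing_apply (a : Γ₁) (b : Γ₂) :
    tensorPairing σ₁ σ₂ a b = Multiplicative.ofAdd (abCls σ₁ a ⊗ₜ[ℤ] abCls σ₂ b) := rfl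

theorem tensorPairing_of_mem_ker_left {a : Γ₁} (ha : a ∈ σ₁.ker) (b : Γ₂) :
    tensorPairing σ₁ σ₂ a b = 1 := by
  rw [tensorPairing_apply, abCls_of_mem_ker σ₁ ha, zero_tmul]; rfl

theorem tensorPairing_of_mem_ker_right (a : Γ₁) {b : Γ₂} (hb : b ∈ σ₂.ker) :
    tensorPairing σ₁ σ₂ a b = 1 := by
  rw [tensorPairing_apply, abCls_of_mem_ker σ₂ hb, tmul_zero]; rfl

/-- the extension `ProdExt → Q₁ × Q₂` -/
def prodExtHom : ProdExt (tensorPairing σ₁ σ₂) →* Q₁ × Q₂ :=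
  (σ₁.prodMap σ₂).comp (ProdExt.proj _)

theorem prodExtHom_apply (x : ProdExt (tensorPairing σ₁ σ₂)) :
    prodExtHom σ₁ σ₂ x = (σ₁ x.fst, σ₂ x.snd) := rfl

theorem mem_prodExtHom_ker {x : ProdExt (tensorPairing σ₁ σ₂)} :
    x ∈ (prodExtHom σ₁ σ₂).ker ↔ x.fst ∈ σ₁.ker ∧ x.snd ∈ σ₂.ker := by
  rw [MonoidHom.mem_ker, prodExtHom_apply, Prod.mk_eq_one]
  rfl

theorem map_mem_commutator {G H : Type*} [Group G] [Group H] (f : G →* H) {g : G}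
    (hg : g ∈ commutator G) : f g ∈ commutator H := by
  have h1 : f g ∈ (commutator G).map f := ⟨g, hg, rfl⟩
  rw [_root_.commutator_def, Subgroup.map_commutator] at h1
  rw [_root_.commutator_def]
  exact Subgroup.commutator_mono le_top le_top h1

theorem inc_mem_commutator (h₁ : Function.Surjective σ₁) (h₂ : Function.Surjective σ₂)
    (t : Multiplicative (Additive (Abelianization Q₁) ⊗[ℤ] Additive (Abelianization Q₂))) :
    ProdExt.inc (tensorPairing σ₁ σ₂) t ∈ commutator (ProdExt (tensorPairing σ₁ σ₂)) := by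
  have key : ∀ s : Additive (Abelianization Q₁) ⊗[ℤ] Additive (Abelianization Q₂),
      ProdExt.inc (tensorPairing σ₁ σ₂) (Multiplicative.ofAdd s) ∈
        commutator (ProdExt (tensorPairing σ₁ σ₂)) := by
    intro s
    induction s using TensorProduct.induction_on with
    | zero =>
      rw [ofAdd_zero, map_one]
      exact one_mem _
    | tmul m n =>
      obtain ⟨q₁, hq₁⟩ : ∃ q₁ : Q₁, Abelianization.of q₁ = Additive.toMul m :=
        QuotientGroup.mk_surjective (Additive.toMul m)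
      obtain ⟨q₂, hq₂⟩ : ∃ q₂ : Q₂, Abelianization.of q₂ = Additive.toMul n :=
        QuotientGroup.mk_surjective (Additive.toMul n)
      obtain ⟨a, rfl⟩ := h₁ q₁
      obtain ⟨b, rfl⟩ := h₂ q₂
      have hm : m = abCls σ₁ a := by
        unfold abCls; rw [hq₁]; rfl
      have hn : n = abCls σ₂ b := by
        unfold abCls; rw [hq₂]; rfl
      rw [hm, hn, ← tensorPairing_apply, ← ProdExt.commutator_inl_inr, _root_.commutator_def]
      exact Subgroup.commutator_mem_commutator (mem_top _) (mem_top _)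
    | add s s' hs hs' =>
      rw [ofAdd_add, map_mul]
      exact mul_mem hs hs'
  exact key (Multiplicative.toAdd t)

theorem prodExtHom_isStem (h₁ : Cfsg.IsStemExtension σ₁) (h₂ : Cfsg.IsStemExtension σ₂) :
    Cfsg.IsStemExtension (prodExtHom σ₁ σ₂) := by
  refine ⟨?_, ?_, ?_⟩
  · exact (Function.Surjective.prodMap h₁.1 h₂.1).comp (ProdExt.proj_surjective _)
  · intro x hx
    obtain ⟨hx1, hx2⟩ := (mem_prodExtHom_ker σ₁ σ₂).mp hx
    rw [mem_center_iff]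
    intro z
    apply ProdExt.ext'
    · exact mem_center_iff.mp (h₁.2.1 hx1) _
    · exact mem_center_iff.mp (h₂.2.1 hx2) _
    · simp only [ProdExt.mul_trd]
      rw [tensorPairing_of_mem_ker_right σ₁ σ₂ z.fst hx2,
        tensorPairing_of_mem_ker_left σ₁ σ₂ hx1 z.snd, mul_one, mul_one, mul_comm]
  · intro x hx
    obtain ⟨hx1, hx2⟩ := (mem_prodExtHom_ker σ₁ σ₂).mp hx
    rw [ProdExt.eq_inl_mul_inr_mul_inc _ x]
    refine mul_mem (mul_mem ?_ ?_) ?_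
    · exact map_mem_commutator _ (h₁.2.2 hx1)
    · exact map_mem_commutator _ (h₂.2.2 hx2)
    · exact inc_mem_commutator σ₁ σ₂ h₁.1 h₂.1 _

/-- the kernel of the extension is `ker σ₁ × ker σ₂ × (Q₁ᵃᵇ ⊗ Q₂ᵃᵇ)` -/
noncomputable def prodExtKerEquiv {A B : Type*} [Group A] [Group B] (e₁ : σ₁.ker ≃* A)
    (e₂ : σ₂.ker ≃* B) : (prodExtHom σ₁ σ₂).ker ≃*
      A × B × Multiplicative (Additive (Abelianization Q₁) ⊗[ℤ] Additive (Abelianization Q₂)) where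
  toFun x := (e₁ ⟨x.1.fst, ((mem_prodExtHom_ker σ₁ σ₂).mp x.2).1⟩,
    e₂ ⟨x.1.snd, ((mem_prodExtHom_ker σ₁ σ₂).mp x.2).2⟩, x.1.trd)
  invFun p := ⟨⟨(e₁.symm p.1 : Γ₁), (e₂.symm p.2.1 : Γ₂), p.2.2⟩,
    (mem_prodExtHom_ker σ₁ σ₂).mpr ⟨(e₁.symm p.1).2, (e₂.symm p.2.1).2⟩⟩
  left_inv x := by
    apply Subtype.ext
    apply ProdExt.ext'
    · simp
    · simp
    · rfl
  right_inv p := by
    apply Prod.ext
    · simp
    · apply Prod.ext
      · simp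
      · rfl
  map_mul' x y := by
    apply Prod.ext
    · show e₁ ⟨x.1.fst * y.1.fst, _⟩ = e₁ _ * e₁ _
      rw [← map_mul]
      rfl
    · apply Prod.ext
      · show e₂ ⟨x.1.snd * y.1.snd, _⟩ = e₂ _ * e₂ _
        rw [← map_mul]
        rfl
      · show x.1.trd * y.1.trd * tensorPairing σ₁ σ₂ x.1.fst y.1.snd = x.1.trd * y.1.trd
        rw [tensorPairing_of_mem_ker_left σ₁ σ₂ ((mem_prodExtHom_ker σ₁ σ₂).mp x.2).1, mul_one]

end Exist

/-- descent of a bimultiplicative pairing to the tensor product -/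
theorem exists_tensor_hom {E₁ E₂ P₁ P₂ K : Type*} [Group E₁] [Group E₂] [CommGroup P₁] [CommGroup P₂]
    [CommGroup K] (S₁ : E₁ →* P₁) (hS₁ : Function.Surjective S₁) (S₂ : E₂ →* P₂)
    (hS₂ : Function.Surjective S₂) (c : E₁ → E₂ → K)
    (hmul₁ : ∀ x x' y, c (x * x') y = c x y * c x' y)
    (hmul₂ : ∀ x y y', c x (y * y') = c x y * c x y')
    (hk₁ : ∀ x ∈ S₁.ker, ∀ y, c x y = 1) (hk₂ : ∀ x, ∀ y ∈ S₂.ker, c x y = 1) :
    ∃ Ψ : Multiplicative (Additive P₁ ⊗[ℤ] Additive P₂) →* K,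
      ∀ x y, Ψ (Multiplicative.ofAdd (Additive.ofMul (S₁ x) ⊗ₜ[ℤ] Additive.ofMul (S₂ y))) = c x y := by
  have h1 : ∀ y, ∃ P : P₁ →* K, ∀ x, P (S₁ x) = c x y := by
    intro y
    let cy : E₁ →* K := MonoidHom.mk' (fun x => c x y) (fun x x' => hmul₁ x x' y)
    obtain ⟨P, hP⟩ := exists_descend S₁ hS₁ cy (fun x hx => hk₁ x hx y)
    exact ⟨P, fun x => DFunLike.congr_fun hP x⟩
  choose P hP using h1
  have hPmul : ∀ y y', P (y * y') = P y * P y' := by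
    intro y y'
    ext p
    obtain ⟨x, rfl⟩ := hS₁ p
    rw [hP, MonoidHom.mul_apply, hP, hP, hmul₂]
  let PP : E₂ →* (P₁ →* K) := MonoidHom.mk' P hPmul
  have hPPker : S₂.ker ≤ PP.ker := by
    intro y hy
    show P y = 1
    ext p
    obtain ⟨x, rfl⟩ := hS₁ p
    rw [hP, hk₂ x y hy]
    rfl
  obtain ⟨R, hR⟩ := exists_descend S₂ hS₂ PP hPPker
  have hR' : ∀ x y, R (S₂ y) (S₁ x) = c x y := by
    intro x y
    have := DFunLike.congr_fun hR y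
    show (R.comp S₂) y (S₁ x) = _
    rw [this]
    exact hP y x
  let f : Additive P₁ →+ Additive P₂ →+ Additive K :=
    AddMonoidHom.mk' (fun m => AddMonoidHom.mk'
      (fun n => Additive.ofMul (R (Additive.toMul n) (Additive.toMul m)))
      (fun n n' => by
        show Additive.ofMul (R (Additive.toMul n * Additive.toMul n') (Additive.toMul m)) = _
        rw [map_mul, MonoidHom.mul_apply]
        rfl))
      (fun m m' => by
        ext n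
        show Additive.ofMul (R (Additive.toMul n) (Additive.toMul m * Additive.toMul m')) = _
        rw [map_mul]
        rfl)
  have hf : ∀ (r : ℤ) (m : Additive P₁) (n : Additive P₂), f (r • m) n = f m (r • n) := by
    intro r m n
    rw [map_zsmul, map_zsmul, AddMonoidHom.smul_apply]
  refine ⟨AddMonoidHom.toMultiplicativeLeft (TensorProduct.liftAddHom f hf), ?_⟩
  intro x y
  rw [AddMonoidHom.coe_toMultiplicativeLeft]
  show Additive.toMul (TensorProduct.liftAddHom f hf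
    (Additive.ofMul (S₁ x) ⊗ₜ[ℤ] Additive.ofMul (S₂ y))) = c x y
  rw [TensorProduct.liftAddHom_tmul]
  exact hR' x y

/-- the tensor product of finite abelian groups is finite -/
theorem finite_tensor (M N : Type*) [AddCommGroup M] [AddCommGroup N] [Finite M] [Finite N] :
    Finite (M ⊗[ℤ] N) := by
  haveI : Module.Finite ℤ M := Module.Finite.of_finite
  haveI : Module.Finite ℤ N := Module.Finite.of_finite
  have h1 : Module.Finite ℤ (M ⊗[ℤ] N) := Module.Finite.tensorProduct ℤ M N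
  apply @Module.finite_of_fg_torsion (M ⊗[ℤ] N) _ _ h1
  intro x
  have hcard : (Nat.card M : ℤ) ∈ nonZeroDivisors ℤ := by
    apply mem_nonZeroDivisors_of_ne_zero
    exact Nat.cast_ne_zero.mpr Nat.card_pos.ne'
  refine ⟨⟨(Nat.card M : ℤ), hcard⟩, ?_⟩
  show (Nat.card M : ℤ) • x = 0
  induction x using TensorProduct.induction_on with
  | zero => rw [smul_zero]
  | tmul m n =>
    rw [TensorProduct.smul_tmul', natCast_zsmul, card_nsmul_eq_zero', zero_tmul]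
  | add x y hx hy => rw [smul_add, hx, hy, add_zero]

section Upper

variable {Q₁ : Type u} {Q₂ : Type v} [Group Q₁] [Group Q₂] {Γ : Type w} [Group Γ] (σ : Γ →* Q₁ × Q₂)

/-- `Γ' ≤ [E₁,E₁] [E₂,E₂] [E₁,E₂]` -/
theorem commutator_le_sup_E (hσ : Function.Surjective σ) :
    commutator Γ ≤ ⁅E1 σ, E1 σ⁆ ⊔ ⁅E2 σ, E2 σ⁆ ⊔ ⁅E1 σ, E2 σ⁆ := by
  have hD₁ : ⁅E1 σ, E1 σ⁆ ≤ ⁅E1 σ, E1 σ⁆ ⊔ ⁅E2 σ, E2 σ⁆ ⊔ ⁅E1 σ, E2 σ⁆ :=
    le_sup_left.trans le_sup_left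
  have hD₂ : ⁅E2 σ, E2 σ⁆ ≤ ⁅E1 σ, E1 σ⁆ ⊔ ⁅E2 σ, E2 σ⁆ ⊔ ⁅E1 σ, E2 σ⁆ :=
    le_sup_right.trans le_sup_left
  have hD₃ : ⁅E1 σ, E2 σ⁆ ≤ ⁅E1 σ, E1 σ⁆ ⊔ ⁅E2 σ, E2 σ⁆ ⊔ ⁅E1 σ, E2 σ⁆ := le_sup_right
  have hD₃' : ⁅E2 σ, E1 σ⁆ ≤ ⁅E1 σ, E1 σ⁆ ⊔ ⁅E2 σ, E2 σ⁆ ⊔ ⁅E1 σ, E2 σ⁆ := by
    rw [Subgroup.commutator_comm]; exact hD₃
  have comm : ∀ a b : Γ, ⁅a, b⁆ ∈ ⁅E1 σ, E1 σ⁆ ⊔ ⁅E2 σ, E2 σ⁆ ⊔ ⁅E1 σ, E2 σ⁆ →
      Commute (QuotientGroup.mk' (⁅E1 σ, E1 σ⁆ ⊔ ⁅E2 σ, E2 σ⁆ ⊔ ⁅E1 σ, E2 σ⁆) a)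
        (QuotientGroup.mk' (⁅E1 σ, E1 σ⁆ ⊔ ⁅E2 σ, E2 σ⁆ ⊔ ⁅E1 σ, E2 σ⁆) b) := by
    intro a b hab
    rw [← commutatorElement_eq_one_iff_commute, ← map_commutatorElement]
    exact (QuotientGroup.eq_one_iff _).mpr hab
  rw [commutator_eq_closure, closure_le]
  rintro _ ⟨g, h, rfl⟩
  obtain ⟨x, hx, y, hy, rfl⟩ := exists_mul_E1_E2 σ hσ g
  obtain ⟨x', hx', y', hy', rfl⟩ := exists_mul_E1_E2 σ hσ h
  have hxx' := comm x x' (hD₁ (Subgroup.commutator_mem_commutator hx hx'))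
  have hxy' := comm x y' (hD₃ (Subgroup.commutator_mem_commutator hx hy'))
  have hyx' := comm y x' (hD₃' (Subgroup.commutator_mem_commutator hy hx'))
  have hyy' := comm y y' (hD₂ (Subgroup.commutator_mem_commutator hy hy'))
  have hc : Commute (QuotientGroup.mk' (⁅E1 σ, E1 σ⁆ ⊔ ⁅E2 σ, E2 σ⁆ ⊔ ⁅E1 σ, E2 σ⁆) (x * y))
      (QuotientGroup.mk' (⁅E1 σ, E1 σ⁆ ⊔ ⁅E2 σ, E2 σ⁆ ⊔ ⁅E1 σ, E2 σ⁆) (x' * y')) := by
    rw [map_mul, map_mul]
    exact (hxx'.mul_right hxy').mul_left (hyx'.mul_right hyy')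
  rw [SetLike.mem_coe, ← QuotientGroup.eq_one_iff, ← QuotientGroup.mk'_apply, map_commutatorElement]
  exact commutatorElement_eq_one_iff_commute.mpr hc

theorem commutator_E1_E2_le_ker : ⁅E1 σ, E2 σ⁆ ≤ σ.ker :=
  Subgroup.commutator_le.mpr (fun _ hx _ hy => commutatorElement_mem_ker σ hx hy)

/-- decomposition of the kernel of a stem extension of a direct product -/
theorem exists_decomp (hσ : Cfsg.IsStemExtension σ) (k : Γ) (hk : k ∈ σ.ker) :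
    ∃ c₁ : ↥(E1 σ), ∃ c₂ : ↥(E2 σ), ∃ c₃ ∈ ⁅E1 σ, E2 σ⁆,
      c₁ ∈ (sig1 σ).ker ⊓ commutator ↥(E1 σ) ∧ c₂ ∈ (sig2 σ).ker ⊓ commutator ↥(E2 σ) ∧
      k = (c₁ : Γ) * (c₂ : Γ) * c₃ := by
  have h1 := commutator_le_sup_E σ hσ.1 (hσ.2.2 hk)
  obtain ⟨d₁₂, hd₁₂, c₃, hc₃, rfl⟩ := Subgroup.mem_sup_of_normal_right.mp h1
  obtain ⟨d₁, hd₁, d₂, hd₂, rfl⟩ := Subgroup.mem_sup_of_normal_right.mp hd₁₂
  rw [← Subgroup.map_subtype_commutator] at hd₁ hd₂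
  obtain ⟨c₁, hc₁, rfl⟩ := hd₁
  obtain ⟨c₂, hc₂, rfl⟩ := hd₂
  have hc₃k : σ c₃ = 1 := commutator_E1_E2_le_ker σ hc₃
  have h3 : σ (c₁ : Γ) * σ (c₂ : Γ) = 1 := by
    have : σ ((E1 σ).subtype c₁ * (E2 σ).subtype c₂ * c₃) = 1 := hk
    rw [map_mul, hc₃k, mul_one, map_mul] at this
    exact this
  rw [sigma_eq_of_mem_E1 σ c₁.2, sigma_eq_of_mem_E2 σ c₂.2, Prod.mk_mul_mk, mul_one, one_mul,
    Prod.mk_eq_one] at h3
  refine ⟨c₁, c₂, c₃, hc₃, ⟨?_, hc₁⟩, ⟨?_, hc₂⟩, rfl⟩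
  · show sig1 σ c₁ = 1
    rw [sig1_apply]; exact h3.1
  · show sig2 σ c₂ = 1
    rw [sig2_apply]; exact h3.2

/-- **Schur's product formula, upper bound**: the kernel of every stem extension of `Q₁ × Q₂` is an
image of `M(Q₁) × M(Q₂) × (Q₁ᵃᵇ ⊗ Q₂ᵃᵇ)`. -/
theorem exists_surjective_prod [Finite Q₁] [Finite Q₂] {A : Type*} {B : Type*} [CommGroup A] [CommGroup B]
    (hA : Cfsg.HasSchurMultiplier Q₁ A) (hB : Cfsg.HasSchurMultiplier Q₂ B)
    (hσ : Cfsg.IsStemExtension σ) :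
    ∃ f : A × B × Multiplicative (Additive (Abelianization Q₁) ⊗[ℤ] Additive (Abelianization Q₂)) →*
      ↥σ.ker, Function.Surjective f := by
  obtain ⟨hs, hc, hd⟩ := hσ
  letI : CommGroup ↥σ.ker :=
    { (inferInstance : Group ↥σ.ker) with
      mul_comm := fun x y => Subtype.ext (by
        have := hc x.2
        rw [mem_center_iff] at this
        exact (this y.1).symm) }
  obtain ⟨θ₁, hθ₁⟩ := exists_surjective_of_hasSchurMultiplier hA (sig1 σ) (sig1_surjective σ hs)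
    (sig1_ker_le_center σ hc)
  obtain ⟨θ₂, hθ₂⟩ := exists_surjective_of_hasSchurMultiplier hB (sig2 σ) (sig2_surjective σ hs)
    (sig2_ker_le_center σ hc)
  let g₁ : A →* ↥σ.ker := MonoidHom.codRestrict
    (((E1 σ).subtype.comp (Subgroup.subtype _)).comp θ₁) σ.ker
    (fun a => (mem_sig1_ker σ).mp (θ₁ a).2.1)
  let g₂ : B →* ↥σ.ker := MonoidHom.codRestrict
    (((E2 σ).subtype.comp (Subgroup.subtype _)).comp θ₂) σ.ker
    (fun b => (mem_sig2_ker σ).mp (θ₂ b).2.1)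
  -- the commutator pairing
  let c : ↥(E1 σ) → ↥(E2 σ) → ↥σ.ker :=
    fun x y => ⟨⁅(x : Γ), (y : Γ)⁆, commutatorElement_mem_ker σ x.2 y.2⟩
  have hmul₁ : ∀ x x' y, c (x * x') y = c x y * c x' y := by
    intro x x' y
    apply Subtype.ext
    show ⁅(x : Γ) * x', (y : Γ)⁆ = ⁅(x : Γ), (y : Γ)⁆ * ⁅(x' : Γ), (y : Γ)⁆
    have hcen := mem_center_iff.mp (hc (commutatorElement_mem_ker σ x'.2 y.2))
    have e : ⁅(x : Γ) * x', (y : Γ)⁆ =
        (x : Γ) * ⁅(x' : Γ), (y : Γ)⁆ * (x : Γ)⁻¹ * ⁅(x : Γ), (y : Γ)⁆ := by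
      simp only [commutatorElement_def]; group
    rw [e, hcen (x : Γ), mul_inv_cancel_right]
    exact (hcen _).symm
  have hmul₂ : ∀ x y y', c x (y * y') = c x y * c x y' := by
    intro x y y'
    apply Subtype.ext
    show ⁅(x : Γ), (y : Γ) * y'⁆ = ⁅(x : Γ), (y : Γ)⁆ * ⁅(x : Γ), (y' : Γ)⁆
    have hcen := mem_center_iff.mp (hc (commutatorElement_mem_ker σ x.2 y'.2))
    have e : ⁅(x : Γ), (y : Γ) * y'⁆ =
        ⁅(x : Γ), (y : Γ)⁆ * ((y : Γ) * ⁅(x : Γ), (y' : Γ)⁆ * (y : Γ)⁻¹) := by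
      simp only [commutatorElement_def]; group
    rw [e, hcen (y : Γ), mul_inv_cancel_right]
  let S₁ : ↥(E1 σ) →* Abelianization Q₁ := Abelianization.of.comp (sig1 σ)
  let S₂ : ↥(E2 σ) →* Abelianization Q₂ := Abelianization.of.comp (sig2 σ)
  have hS₁ : Function.Surjective S₁ :=
    (QuotientGroup.mk_surjective (s := commutator Q₁)).comp (sig1_surjective σ hs)
  have hS₂ : Function.Surjective S₂ :=
    (QuotientGroup.mk_surjective (s := commutator Q₂)).comp (sig2_surjective σ hs)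
  have hk₁ : ∀ x ∈ S₁.ker, ∀ y, c x y = 1 := by
    intro x hx y
    have h1 : sig1 σ x ∈ commutator Q₁ := by
      rw [← Abelianization.ker_of]; exact hx
    rw [← map_commutator_of_surjective (sig1 σ) (sig1_surjective σ hs)] at h1
    obtain ⟨e, he, hex⟩ := h1
    let cy : ↥(E1 σ) →* ↥σ.ker := MonoidHom.mk' (fun x => c x y) (fun x x' => hmul₁ x x' y)
    have h2 : cy e = 1 := (Abelianization.commutator_subset_ker cy) he
    have h3 : e⁻¹ * x ∈ (sig1 σ).ker := by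
      show sig1 σ (e⁻¹ * x) = 1
      rw [map_mul, map_inv, hex, inv_mul_cancel]
    have h4 : c (e⁻¹ * x) y = 1 := by
      apply Subtype.ext
      show ⁅((e⁻¹ * x : ↥(E1 σ)) : Γ), (y : Γ)⁆ = 1
      rw [commutatorElement_eq_one_iff_mul_comm]
      exact (mem_center_iff.mp (hc ((mem_sig1_ker σ).mp h3)) _).symm
    have h5 : x = e * (e⁻¹ * x) := by group
    rw [h5, hmul₁, h4, mul_one]
    exact h2
  have hk₂ : ∀ x, ∀ y ∈ S₂.ker, c x y = 1 := by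
    intro x y hy
    have h1 : sig2 σ y ∈ commutator Q₂ := by
      rw [← Abelianization.ker_of]; exact hy
    rw [← map_commutator_of_surjective (sig2 σ) (sig2_surjective σ hs)] at h1
    obtain ⟨e, he, hey⟩ := h1
    let cx : ↥(E2 σ) →* ↥σ.ker := MonoidHom.mk' (fun y => c x y) (fun y y' => hmul₂ x y y')
    have h2 : cx e = 1 := (Abelianization.commutator_subset_ker cx) he
    have h3 : e⁻¹ * y ∈ (sig2 σ).ker := by
      show sig2 σ (e⁻¹ * y) = 1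
      rw [map_mul, map_inv, hey, inv_mul_cancel]
    have h4 : c x (e⁻¹ * y) = 1 := by
      apply Subtype.ext
      show ⁅(x : Γ), ((e⁻¹ * y : ↥(E2 σ)) : Γ)⁆ = 1
      rw [commutatorElement_eq_one_iff_mul_comm]
      exact (mem_center_iff.mp (hc ((mem_sig2_ker σ).mp h3)) _)
    have h5 : y = e * (e⁻¹ * y) := by group
    rw [h5, hmul₂, h4, mul_one]
    exact h2
  obtain ⟨Ψ, hΨ⟩ := exists_tensor_hom S₁ hS₁ S₂ hS₂ c hmul₁ hmul₂ hk₁ hk₂
  let π : A × B × Multiplicative (Additive (Abelianization Q₁) ⊗[ℤ] Additive (Abelianization Q₂)) →*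
      ↥σ.ker :=
    (g₁.comp (MonoidHom.fst _ _)) * (g₂.comp ((MonoidHom.fst _ _).comp (MonoidHom.snd _ _))) *
      (Ψ.comp ((MonoidHom.snd _ _).comp (MonoidHom.snd _ _)))
  refine ⟨π, ?_⟩
  intro k
  obtain ⟨c₁, c₂, c₃, hc₃, hc₁, hc₂, hk⟩ := exists_decomp σ ⟨hs, hc, hd⟩ k k.2
  obtain ⟨a, ha⟩ := hθ₁ ⟨c₁, hc₁⟩
  obtain ⟨b, hb⟩ := hθ₂ ⟨c₂, hc₂⟩
  have hle : ⁅E1 σ, E2 σ⁆ ≤ (σ.ker.subtype.comp Ψ).range := by
    rw [Subgroup.commutator_le]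
    intro x hx y hy
    refine ⟨Multiplicative.ofAdd (Additive.ofMul (S₁ ⟨x, hx⟩) ⊗ₜ[ℤ] Additive.ofMul (S₂ ⟨y, hy⟩)), ?_⟩
    show ((Ψ _ : ↥σ.ker) : Γ) = _
    rw [hΨ]
  obtain ⟨t, ht⟩ := hle hc₃
  have ht' : ((Ψ t : ↥σ.ker) : Γ) = c₃ := ht
  refine ⟨(a, b, t), ?_⟩
  apply Subtype.ext
  show ((g₁ a * g₂ b * Ψ t : ↥σ.ker) : Γ) = k
  rw [Subgroup.coe_mul, Subgroup.coe_mul, hk, ht']
  have e1 : ((g₁ a : ↥σ.ker) : Γ) = c₁ := by
    show (((θ₁ a : ↥((sig1 σ).ker ⊓ commutator ↥(E1 σ))) : ↥(E1 σ)) : Γ) = c₁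
    rw [ha]
  have e2 : ((g₂ b : ↥σ.ker) : Γ) = c₂ := by
    show (((θ₂ b : ↥((sig2 σ).ker ⊓ commutator ↥(E2 σ))) : ↥(E2 σ)) : Γ) = c₂
    rw [hb]
  rw [e1, e2]

end Upper

/-- **Schur's formula for the multiplier of a direct product.** -/
theorem hasSchurMultiplier_prod {Q₁ : Type u} {Q₂ : Type v} [Group Q₁] [Group Q₂] [Finite Q₁] [Finite Q₂]
    {A B : Type w} [CommGroup A] [CommGroup B] (hA : Cfsg.HasSchurMultiplier Q₁ A)
    (hB : Cfsg.HasSchurMultiplier Q₂ B) :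
    Cfsg.HasSchurMultiplier (Q₁ × Q₂) (A × B × Multiplicative
      (TensorProduct ℤ (Additive (Abelianization Q₁)) (Additive (Abelianization Q₂)))) := by
  constructor
  · obtain ⟨⟨Γ₁, _, _, σ₁, hσ₁, ⟨e₁⟩⟩, -⟩ := hA
    obtain ⟨⟨Γ₂, _, _, σ₂, hσ₂, ⟨e₂⟩⟩, -⟩ := hB
    haveI : Finite (Additive (Abelianization Q₁) ⊗[ℤ] Additive (Abelianization Q₂)) :=
      finite_tensor _ _
    haveI : Finite (Multiplicative (Additive (Abelianization Q₁) ⊗[ℤ] Additive (Abelianization Q₂))) :=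
      inferInstanceAs (Finite (Additive (Abelianization Q₁) ⊗[ℤ] Additive (Abelianization Q₂)))
    exact ⟨ProdExt (tensorPairing σ₁ σ₂), inferInstance, inferInstance, prodExtHom σ₁ σ₂,
      prodExtHom_isStem σ₁ σ₂ hσ₁ hσ₂, ⟨prodExtKerEquiv σ₁ σ₂ e₁ e₂⟩⟩
  · intro Γ _ _ σ hσ
    exact exists_surjective_prod σ hA hB hσ

end Cfsg.Agent.Lib.Helper27.Schur
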