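/-
Schur multiplier theory (helper27): the multiplier of a group with `n` generators and `r` relators is
generated by `r - n` elements.
-/
import Cfsg.Agent.Lib.Helper27.Schur5

set_option autoImplicit false

namespace Cfsg.Agent.Lib.Helper27.Schur

universe u v w

open Subgroup
open scoped commutatorElement

/-- rank count: a module generated by `r` elements mapping onto a full-rank submodule of `ℤ^n`;
the kernel is generated by `r - n` elements. -/
theorem exists_surjective_of_rank {Zm Bm : Type*} [AddCommGroup Zm] [AddCommGroup Bm] {r n : ℕ}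
    (φ : (Fin r → ℤ) →ₗ[ℤ] Zm) (hφ : Function.Surjective φ) (b : Module.Basis (Fin n) ℤ Bm)
    (ab : Zm →ₗ[ℤ] Bm) (m : ℤ) (hm : m ≠ 0) (hfi : ∀ y : Bm, m • y ∈ LinearMap.range ab) :
    n ≤ r ∧ ∃ g : (Fin (r - n) → ℤ) →ₗ[ℤ] LinearMap.ker ab, Function.Surjective g := by
  haveI : Module.Free ℤ Bm := Module.Free.of_basis b
  haveI : Module.Finite ℤ Bm := Module.Finite.of_basis b
  have hB : Module.finrank ℤ Bm = n := by
    rw [Module.finrank_eq_card_basis b, Fintype.card_fin]
  -- finrank of range ab
  have hrange : Module.finrank ℤ (LinearMap.range ab) = n := by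
    apply le_antisymm
    · rw [← hB]
      exact Submodule.finrank_le _
    · rw [← hB]
      let mm : Bm →ₗ[ℤ] LinearMap.range ab :=
        LinearMap.codRestrict (LinearMap.range ab) (m • LinearMap.id) (fun y => hfi y)
      apply LinearMap.finrank_le_finrank_of_injective (f := mm)
      intro x y hxy
      have h1 : m • x = m • y := congrArg Subtype.val hxy
      exact smul_right_injective Bm hm h1
  let ψ : (Fin r → ℤ) →ₗ[ℤ] Bm := ab ∘ₗ φ
  have hψrange : LinearMap.range ψ = LinearMap.range ab := by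
    rw [LinearMap.range_comp, LinearMap.range_eq_top.mpr hφ, Submodule.map_top]
  have hrn := Submodule.finrank_quotient_add_finrank (LinearMap.ker ψ)
  rw [LinearEquiv.finrank_eq (LinearMap.quotKerEquivRange ψ), hψrange, hrange,
    Module.finrank_fin_fun] at hrn
  have hker : Module.finrank ℤ (LinearMap.ker ψ) = r - n := by omega
  refine ⟨by omega, ?_⟩
  let bl := Module.finBasis ℤ (LinearMap.ker ψ)
  let e1 : (Fin (r - n) → ℤ) ≃ₗ[ℤ] (Fin (Module.finrank ℤ (LinearMap.ker ψ)) → ℤ) :=
    LinearEquiv.funCongrLeft ℤ ℤ (finCongr hker)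
  let e2 : (Fin (Module.finrank ℤ (LinearMap.ker ψ)) → ℤ) ≃ₗ[ℤ] LinearMap.ker ψ := bl.equivFun.symm
  let res : LinearMap.ker ψ →ₗ[ℤ] LinearMap.ker ab :=
    LinearMap.codRestrict (LinearMap.ker ab) (φ ∘ₗ (LinearMap.ker ψ).subtype) (fun x => by
      show ab (φ x) = 0
      exact x.2)
  refine ⟨res ∘ₗ (e2.toLinearMap ∘ₗ e1.toLinearMap), ?_⟩
  have hres : Function.Surjective res := by
    intro z
    obtain ⟨x, hx⟩ := hφ z.1
    refine ⟨⟨x, ?_⟩, Subtype.ext hx⟩
    show ab (φ x) = 0
    rw [hx]
    exact z.2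
  exact hres.comp (e2.surjective.comp e1.surjective)

/-- a quotient of `ℤ^d` has rank at most `d` -/
theorem rank_le_of_surjective_pi {A : Type*} [CommGroup A] [Group.FG A] {d : ℕ}
    (g : (Fin d → ℤ) →ₗ[ℤ] Additive A) (hg : Function.Surjective g) : Group.rank A ≤ d := by
  classical
  let w : Fin d → A := fun i => Additive.toMul (g (fun j => if i = j then 1 else 0))
  let S : Finset A := Finset.univ.image w
  have hS : Subgroup.closure (S : Set A) = ⊤ := by
    rw [eq_top_iff]
    intro a _
    obtain ⟨x, hx⟩ := hg (Additive.ofMul a)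
    have h1 := LinearMap.pi_apply_eq_sum_univ g x
    have h2 : ∀ y : Additive A, (∃ z : Fin d → ℤ, y = ∑ i, z i • g (fun j => if i = j then 1 else 0)) →
        Additive.toMul y ∈ Subgroup.closure (S : Set A) := by
      rintro y ⟨z, rfl⟩
      rw [toMul_sum]
      apply Subgroup.prod_mem
      intro i _
      rw [toMul_zsmul]
      apply Subgroup.zpow_mem
      apply Subgroup.subset_closure
      exact Finset.mem_coe.mpr (Finset.mem_image.mpr ⟨i, Finset.mem_univ _, rfl⟩)
    have h3 := h2 (g x) ⟨x, h1⟩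
    rw [hx] at h3
    exact h3
  calc Group.rank A ≤ S.card := Group.rank_le hS
    _ ≤ (Finset.univ : Finset (Fin d)).card := Finset.card_image_le
    _ = d := by rw [Finset.card_univ, Fintype.card_fin]

section Pres

variable {n : ℕ} {G : Type u} [Group G] (π : FreeGroup (Fin n) →* G)

/-- `R/[F,R]` is generated by the images of a set of normal generators of `R` -/
theorem ker_hopfHom_le_closure (rels : Set (FreeGroup (Fin n)))
    (hker : π.ker = Subgroup.normalClosure rels) :
    (hopfHom π).ker ≤ Subgroup.closure ((QuotientGroup.mk' (comFR π)) '' rels) := by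
  intro z hz
  obtain ⟨f, rfl⟩ := QuotientGroup.mk'_surjective (comFR π) z
  have hf : f ∈ π.ker := hz
  rw [hker, Subgroup.normalClosure] at hf
  have h1 : (QuotientGroup.mk' (comFR π)) f ∈
      (Subgroup.closure (Group.conjugatesOfSet rels)).map (QuotientGroup.mk' (comFR π)) :=
    ⟨f, hf, rfl⟩
  rw [MonoidHom.map_closure] at h1
  refine (Subgroup.closure_mono ?_) h1
  rintro _ ⟨c, hc, rfl⟩
  obtain ⟨ρ, hρ, hconj⟩ := Group.mem_conjugatesOfSet_iff.mp hc
  obtain ⟨g, hg⟩ := isConj_iff.mp hconj
  refine ⟨ρ, hρ, ?_⟩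
  have hρker : (QuotientGroup.mk' (comFR π)) ρ ∈ (hopfHom π).ker := by
    show π ρ = 1
    have : ρ ∈ π.ker := by
      rw [hker]
      exact Subgroup.subset_normalClosure hρ
    exact this
  have hcen := mem_center_iff.mp (hopfHom_ker_le_center π hρker) ((QuotientGroup.mk' (comFR π)) g)
  rw [← hg, map_mul, map_mul, map_inv, hcen, mul_inv_cancel_right]

/-- **Rank bound**: the multiplier of a finite group with `n` generators and `r` relators has rank
at most `r - n`. -/
theorem rank_mult_le [Finite G] (hπ : Function.Surjective π) (rels : Finset (FreeGroup (Fin n)))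
    (hker : π.ker = Subgroup.normalClosure (rels : Set (FreeGroup (Fin n)))) :
    haveI : Finite ↥(mult π) := finite_mult π
    Group.rank ↥(mult π) ≤ rels.card - n := by
  classical
  haveI : Finite ↥(mult π) := finite_mult π
  letI : CommGroup ↥(hopfHom π).ker :=
    { (inferInstance : Group ↥(hopfHom π).ker) with
      mul_comm := fun x y => Subtype.ext (by
        have := hopfHom_ker_le_center π x.2
        rw [mem_center_iff] at this
        exact (this y.1).symm) }
  have hgen := ker_hopfHom_le_closure π (rels : Set (FreeGroup (Fin n))) hker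
  let e := rels.equivFin
  have hvmem : ∀ i : Fin rels.card,
      (QuotientGroup.mk' (comFR π)) ((e.symm i : FreeGroup (Fin n))) ∈ (hopfHom π).ker := by
    intro i
    show π (e.symm i : FreeGroup (Fin n)) = 1
    have : (e.symm i : FreeGroup (Fin n)) ∈ π.ker := by
      rw [hker]
      exact Subgroup.subset_normalClosure (e.symm i).2
    exact this
  let v : Fin rels.card → Additive ↥(hopfHom π).ker := fun i => Additive.ofMul ⟨_, hvmem i⟩
  let φ : (Fin rels.card → ℤ) →ₗ[ℤ] Additive ↥(hopfHom π).ker := Fintype.linearCombination ℤ v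
  have hφ : Function.Surjective φ := by
    intro z
    have hz : ((Additive.toMul z : ↥(hopfHom π).ker) : HopfGroup π) ∈
        Subgroup.closure ((QuotientGroup.mk' (comFR π)) '' (rels : Set (FreeGroup (Fin n)))) :=
      hgen (Additive.toMul z : ↥(hopfHom π).ker).2
    have key : ∀ h : HopfGroup π,
        h ∈ Subgroup.closure ((QuotientGroup.mk' (comFR π)) '' (rels : Set (FreeGroup (Fin n)))) →
        ∃ x, ((Additive.toMul (φ x) : ↥(hopfHom π).ker) : HopfGroup π) = h := by
      intro h hh
      induction hh using Subgroup.closure_induction with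
      | mem h hmem =>
        obtain ⟨ρ, hρ, rfl⟩ := hmem
        refine ⟨Pi.single (e ⟨ρ, hρ⟩) 1, ?_⟩
        rw [Fintype.linearCombination_apply_single, one_smul]
        show (QuotientGroup.mk' (comFR π)) ((e.symm (e ⟨ρ, hρ⟩) : FreeGroup (Fin n))) = _
        rw [e.symm_apply_apply]
      | one => exact ⟨0, by rw [map_zero]; rfl⟩
      | mul a b _ _ ha hb =>
        obtain ⟨x, hx⟩ := ha
        obtain ⟨y, hy⟩ := hb
        refine ⟨x + y, ?_⟩
        rw [map_add, toMul_add, Subgroup.coe_mul, hx, hy]
      | inv a _ ha =>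
        obtain ⟨x, hx⟩ := ha
        refine ⟨-x, ?_⟩
        rw [map_neg, toMul_neg, Subgroup.coe_inv, hx]
    obtain ⟨x, hx⟩ := key _ hz
    refine ⟨x, ?_⟩
    apply Additive.toMul.injective
    exact Subtype.ext hx
  let ab : Additive ↥(hopfHom π).ker →ₗ[ℤ] Additive (Abelianization (FreeGroup (Fin n))) :=
    (MonoidHom.toAdditive ((abHom π).comp (hopfHom π).ker.subtype)).toIntLinearMap
  have hm : ((Nat.card G : ℕ) : ℤ) ≠ 0 := Nat.cast_ne_zero.mpr Nat.card_pos.ne'
  have hfi : ∀ y : Additive (Abelianization (FreeGroup (Fin n))),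
      ((Nat.card G : ℕ) : ℤ) • y ∈ LinearMap.range ab := by
    intro y
    obtain ⟨f, hf⟩ : ∃ f : FreeGroup (Fin n), Abelianization.of f = Additive.toMul y :=
      QuotientGroup.mk_surjective (Additive.toMul y)
    have hmem : ((QuotientGroup.mk' (comFR π)) f) ^ Nat.card G ∈ (hopfHom π).ker := by
      show hopfHom π (((QuotientGroup.mk' (comFR π)) f) ^ Nat.card G) = 1
      rw [map_pow]
      exact pow_card_eq_one'
    refine ⟨Additive.ofMul ⟨_, hmem⟩, ?_⟩
    show Additive.ofMul (abHom π (((QuotientGroup.mk' (comFR π)) f) ^ Nat.card G)) = _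
    rw [map_pow]
    have h1 : abHom π ((QuotientGroup.mk' (comFR π)) f) = Abelianization.of f := rfl
    rw [h1, hf, natCast_zsmul]
    rfl
  obtain ⟨hle, g, hg⟩ := exists_surjective_of_rank φ hφ (abBasis (Fin n)) ab _ hm hfi
  -- from the kernel of `ab` onto the multiplier
  let κ₀ : LinearMap.ker ab →+ Additive ↥(mult π) :=
    AddMonoidHom.mk' (fun z => Additive.ofMul ⟨((Additive.toMul z.1 : ↥(hopfHom π).ker) : HopfGroup π),
      ⟨(Additive.toMul z.1 : ↥(hopfHom π).ker).2, by
        rw [← abHom_ker]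
        have := z.2
        exact congrArg Additive.toMul this⟩⟩) (fun a b => rfl)
  let κ : LinearMap.ker ab →ₗ[ℤ] Additive ↥(mult π) := κ₀.toIntLinearMap
  have hκ : Function.Surjective κ := by
    intro μ
    have hμ : ((Additive.toMul μ : ↥(mult π)) : HopfGroup π) ∈ (hopfHom π).ker :=
      (Additive.toMul μ : ↥(mult π)).2.1
    refine ⟨⟨Additive.ofMul ⟨_, hμ⟩, ?_⟩, rfl⟩
    show Additive.ofMul (abHom π ((Additive.toMul μ : ↥(mult π)) : HopfGroup π)) = 0
    have h1 : ((Additive.toMul μ : ↥(mult π)) : HopfGroup π) ∈ (abHom π).ker := by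
      rw [abHom_ker]
      exact (Additive.toMul μ : ↥(mult π)).2.2
    rw [show abHom π ((Additive.toMul μ : ↥(mult π)) : HopfGroup π) = 1 from h1]
    rfl
  exact rank_le_of_surjective_pi (κ ∘ₗ g) (hκ.comp hg)

end Pres

end Cfsg.Agent.Lib.Helper27.Schur
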