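/-
Schur multiplier theory (helper27): the transfer argument, `M(G)^{|G:U|}` embeds in `M(U)`.
-/
import Cfsg.Agent.Lib.Helper27.Schur5

set_option autoImplicit false

namespace Cfsg.Agent.Lib.Helper27.Schur

universe u v w

open Subgroup
open scoped commutatorElement

/-- transfer: for a central element `k` in the commutator subgroup, `k ^ |Γ:V|` lies in `V'` -/
theorem pow_index_mem_map_commutator {Γ : Type*} [Group Γ] (V : Subgroup Γ) [V.FiniteIndex] (k : Γ)
    (hkc : k ∈ center Γ) (hk' : k ∈ commutator Γ) :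
    k ^ V.index ∈ (commutator ↥V).map V.subtype := by
  let ϕ : ↥V →* Abelianization ↥V := Abelianization.of
  have key : ∀ (n : ℕ) (g₀ : Γ), g₀⁻¹ * k ^ n * g₀ ∈ V → g₀⁻¹ * k ^ n * g₀ = k ^ n := by
    intro n g₀ _
    have := mem_center_iff.mp (pow_mem hkc n) g₀
    rw [mul_assoc, ← this, inv_mul_cancel_left]
  have h1 := MonoidHom.transfer_eq_pow ϕ k key
  have h2 : MonoidHom.transfer ϕ k = 1 := by
    have : commutator Γ ≤ (MonoidHom.transfer ϕ).ker := Abelianization.commutator_subset_ker _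
    exact this hk'
  rw [h2] at h1
  have h3 : (⟨k ^ V.index, MonoidHom.transfer_eq_pow_aux k key⟩ : ↥V) ∈ commutator ↥V := by
    rw [← Abelianization.ker_of]; exact h1.symm
  exact ⟨_, h3, rfl⟩

/-- a quotient of a finite abelian group embeds in it -/
theorem exists_injective_of_surjective {B : Type*} [CommGroup B] [Finite B] {X : Type*} [Group X]
    (θ : B →* X) (hθ : Function.Surjective θ) : ∃ j : X →* B, Function.Injective j := by
  let eq : B ⧸ θ.ker ≃* X := QuotientGroup.quotientKerEquivOfSurjective θ hθ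
  haveI : NeZero (Monoid.exponent B) := ⟨Monoid.exponent_ne_zero_of_finite⟩
  haveI : NeZero (Monoid.exponent (B ⧸ θ.ker)) := ⟨Monoid.exponent_ne_zero_of_finite⟩
  obtain ⟨d₁⟩ := CommGroup.monoidHom_mulEquiv_of_hasEnoughRootsOfUnity (B ⧸ θ.ker) ℂ
  obtain ⟨d₂⟩ := CommGroup.monoidHom_mulEquiv_of_hasEnoughRootsOfUnity B ℂ
  let c : ((B ⧸ θ.ker) →* ℂˣ) →* (B →* ℂˣ) := MonoidHom.compHom' (QuotientGroup.mk' θ.ker)
  have hc : Function.Injective c := by
    intro φ ψ h
    ext x
    have := DFunLike.congr_fun h x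
    exact congrArg Units.val this
  refine ⟨d₂.toMonoidHom.comp (c.comp (d₁.symm.toMonoidHom.comp eq.symm.toMonoidHom)), ?_⟩
  exact d₂.injective.comp (hc.comp (d₁.symm.injective.comp eq.symm.injective))

/-- **Transfer theorem for multipliers**: the `|G:U|`-th powers of `M(G)` embed in `M(U)`. -/
theorem exists_subgroup_pow_index {G : Type u} [Group G] [Finite G] (U : Subgroup G) {A : Type v}
    {B : Type w} [CommGroup A] [CommGroup B] (hA : Cfsg.HasSchurMultiplier G A)
    (hB : Cfsg.HasSchurMultiplier U B) :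
    ∃ C : Subgroup B, Nonempty ((powMonoidHom U.index : A →* A).range ≃* C) := by
  obtain ⟨⟨Γ, _, _, σ, hσ, ⟨e⟩⟩, -⟩ := hA
  haveI : Finite B := finite_of_hasSchurMultiplier hB
  have hidx : (U.comap σ).index = U.index := Subgroup.index_comap_of_surjective U hσ.1
  let σU : ↥(U.comap σ) →* ↥U := σ.subgroupComap U
  have hσUs : Function.Surjective σU := σ.subgroupComap_surjective_of_surjective U hσ.1
  have hσUc : σU.ker ≤ center ↥(U.comap σ) := by
    intro x hx
    have h1 : σ (x : Γ) = 1 := congrArg Subtype.val (show σU x = 1 from hx)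
    have h2 : (x : Γ) ∈ center Γ := hσ.2.1 h1
    rw [mem_center_iff]
    intro y
    apply Subtype.ext
    exact mem_center_iff.mp h2 _
  obtain ⟨θ, hθ⟩ := exists_surjective_of_hasSchurMultiplier hB σU hσUs hσUc
  obtain ⟨j, hj⟩ := exists_injective_of_surjective θ hθ
  have hle : σ.ker ≤ U.comap σ := by
    intro k hk
    show σ k ∈ U
    rw [show σ k = 1 from hk]
    exact one_mem _
  let ι₀ : ↥(powMonoidHom U.index : A →* A).range →* ↥(U.comap σ) :=
    (Subgroup.inclusion hle).comp (e.symm.toMonoidHom.comp (Subgroup.subtype _))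
  have hι₀ : Function.Injective ι₀ :=
    (Subgroup.inclusion_injective hle).comp (e.symm.injective.comp Subtype.val_injective)
  have hmem : ∀ r, ι₀ r ∈ σU.ker ⊓ commutator ↥(U.comap σ) := by
    intro r
    obtain ⟨a, ha⟩ := r.2
    have hk : ((e.symm a : σ.ker) : Γ) ∈ σ.ker := (e.symm a).2
    have h1 := pow_index_mem_map_commutator (U.comap σ) _ (hσ.2.1 hk) (hσ.2.2 hk)
    rw [hidx] at h1
    obtain ⟨v, hv, hvk⟩ := h1
    have hvk' : (v : Γ) = ((e.symm a : σ.ker) : Γ) ^ U.index := hvk
    have h2 : ι₀ r = v := by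
      apply Subtype.ext
      rw [hvk']
      show ((e.symm (r : A) : σ.ker) : Γ) = _
      rw [← ha, powMonoidHom_apply, map_pow]
      rfl
    rw [h2]
    refine ⟨?_, hv⟩
    show σU v = 1
    apply Subtype.ext
    show σ (v : Γ) = 1
    rw [hvk', map_pow, show σ ((e.symm a : σ.ker) : Γ) = 1 from hk, one_pow]
  let ι : ↥(powMonoidHom U.index : A →* A).range →* ↥(σU.ker ⊓ commutator ↥(U.comap σ)) :=
    ι₀.codRestrict _ hmem
  have hι : Function.Injective ι := by
    intro a b hab
    apply hι₀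
    exact congrArg Subtype.val hab
  have hji : Function.Injective (j.comp ι) := hj.comp hι
  exact ⟨(j.comp ι).range, ⟨MonoidHom.ofInjective hji⟩⟩

end Cfsg.Agent.Lib.Helper27.Schur
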