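import Mathlib
import Cfsg.Agent.Lib.Helper27.SpMDefs
import Cfsg.Agent.Lib.Helper27.SpMT4
import Cfsg.Agent.Lib.Helper5.Symp
import Cfsg.Agent.Lib.Helper5.SpMax
import Cfsg.Agent.Lib.Helper14.SpPerfect
import Cfsg.Agent.Lib.Helper14.PSpSimple

/-!
# SpnMax leaves T2, T3 (helper27): `spGL m F` is perfect; its normal subgroups are scalar or everything
(transport of helper14's results on `Matrix.symplecticGroup` along `spToGL`).
-/

set_option autoImplicit false
set_option linter.unusedSectionVars false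
set_option linter.unusedVariables false

namespace Cfsg.Agent.Lib.Helper27.SpMLeaf

open Cfsg Cfsg.Geo Matrix Module Cfsg.Agent.Lib.Helper27.SpM

variable {m : ℕ} {F : Type*} [Field F]

/-- the inclusion of Mathlib's symplectic group into `GL` -/
noncomputable def spToGL (m : ℕ) (F : Type*) [Field F] :
    Matrix.symplecticGroup (Fin m) F →* GL (Fin m ⊕ Fin m) F :=
  (Units.map (Matrix.symplecticGroup (Fin m) F).subtype).comp
    (toUnits (G := Matrix.symplecticGroup (Fin m) F)).toMonoidHom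

theorem spToGL_val (A : Matrix.symplecticGroup (Fin m) F) :
    ((spToGL m F A : GL (Fin m ⊕ Fin m) F) : Matrix (Fin m ⊕ Fin m) (Fin m ⊕ Fin m) F) = A.1 := rfl

theorem range_spToGL : (spToGL m F).range = spGL m F := by
  ext g
  constructor
  · rintro ⟨A, rfl⟩
    intro u v
    exact Cfsg.Agent.Lib.Helper5.sympForm_mulVec_of_mem A.2 u v
  · intro hg
    refine ⟨⟨g.1, Cfsg.Agent.Lib.Helper5.SpMax.val_mem_symplectic hg⟩, Units.ext rfl⟩

/-- T2.  `Sp_2m(q)` is perfect except `Sp_2(2)`, `Sp_2(3)`, `Sp_4(2)`. -/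
theorem sp_perfect [Fintype F] (h : 3 ≤ m ∨ (m = 2 ∧ 3 ≤ Fintype.card F) ∨ 4 ≤ Fintype.card F) :
    ⁅spGL m F, spGL m F⁆ = spGL m F := by
  have hperf := Cfsg.Agent.Lib.Helper14.SpPerfect.commutator_symplecticGroup_eq_top (m := m) (F := F) h
  rw [← range_spToGL, MonoidHom.range_eq_map, ← Subgroup.map_commutator]
  congr 1

/-- T3.  A subgroup of `Sp` normalised by `Sp` is `Sp` or consists of scalars. -/
theorem sp_normal_sub [Fintype F] (hm : 1 ≤ m) (h : 3 ≤ m ∨ (m = 2 ∧ 3 ≤ Fintype.card F) ∨ 4 ≤ Fintype.card F)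
    (N : Subgroup (GL (Fin m ⊕ Fin m) F)) (hN : N ≤ spGL m F)
    (hnorm : ∀ g ∈ spGL m F, ∀ x ∈ N, g * x * g⁻¹ ∈ N) :
    N = spGL m F ∨ N ≤ scalars (Fin m ⊕ Fin m) F := by
  have hperf := Cfsg.Agent.Lib.Helper14.SpPerfect.commutator_symplecticGroup_eq_top (m := m) (F := F) h
  have hmem : ∀ A : Matrix.symplecticGroup (Fin m) F, spToGL m F A ∈ spGL m F := by
    intro A
    rw [← range_spToGL]
    exact ⟨A, rfl⟩
  have : (N.comap (spToGL m F)).Normal := by
    constructor
    intro A hA B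
    rw [Subgroup.mem_comap] at hA ⊢
    rw [map_mul, map_mul, map_inv]
    exact hnorm _ (hmem B) _ hA
  rcases Cfsg.Agent.Lib.Helper14.PSpSimple.normal_le_center_or_eq_top hm hperf (N.comap (spToGL m F)) with hc | ht
  · right
    intro x hx
    have hxS := hN hx
    rw [← range_spToGL] at hxS
    obtain ⟨A, rfl⟩ := hxS
    have hA : A ∈ Subgroup.center (Matrix.symplecticGroup (Fin m) F) := hc hx
    have hcomm : ∀ a : Fin m ⊕ Fin m → F, A.1 * sympTransvection m a 1 = sympTransvection m a 1 * A.1 := by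
      intro a
      have := Subgroup.mem_center_iff.mp hA
        ⟨sympTransvection m a 1, Cfsg.Agent.Lib.Helper5.sympTransvection_mem m a 1⟩
      have h2 := congrArg Subtype.val this
      exact h2.symm
    obtain ⟨c, hc'⟩ := scalar_of_commute_sympTransvections A.1 hcomm
    have hc0 : c ≠ 0 := by
      rintro rfl
      rw [zero_smul] at hc'
      have h1 : ((spToGL m F A : GL (Fin m ⊕ Fin m) F) : Matrix (Fin m ⊕ Fin m) (Fin m ⊕ Fin m) F) = 0 := hc'
      have h2 := (spToGL m F A).mul_inv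
      rw [h1, zero_mul] at h2
      have := congrFun (congrFun h2 (Sum.inl ⟨0, hm⟩)) (Sum.inl ⟨0, hm⟩)
      simp at this
    exact (mem_scalars_iff _).mpr ⟨Units.mk0 c hc0, hc'⟩
  · left
    apply le_antisymm hN
    rw [← range_spToGL]
    rintro _ ⟨A, rfl⟩
    have : A ∈ N.comap (spToGL m F) := by rw [ht]; trivial
    exact this

end Cfsg.Agent.Lib.Helper27.SpMLeaf
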