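import Mathlib
import Cfsg.Agent.Lib.Helper27.SpMDefs
import Cfsg.Agent.Lib.Helper27.SpMTools
import Cfsg.Agent.Lib.Helper27.SpMT23
import Cfsg.Agent.Lib.Helper26.SpMP12
import Cfsg.Agent.Lib.Helper26.SpMP47
import Cfsg.Agent.Lib.Helper26.SpMP5
import Cfsg.Agent.Lib.Helper16.SpMP38
import Cfsg.Agent.Lib.Helper12.SpMP6
import Cfsg.Agent.Lib.Helper5.SpME1
import Cfsg.Agent.Lib.Helper5.SpME2
import Cfsg.Agent.Lib.Helper9.SpMN1
import Cfsg.Agent.Lib.Helper9.SpMN3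
import Cfsg.Agent.Lib.Helper9.SpMN6
import Cfsg.Agent.Lib.Helper5.Symp

/-!
# SpnMax glue (helper27): properness of the refined members, refinement (stage 1), and
`Asch ⇒ Concl` for a maximal subgroup of `spGL m F`.
-/

set_option autoImplicit false
set_option linter.unusedSectionVars false
set_option linter.unusedVariables false

namespace Cfsg.Agent.Lib.Helper27.SpMGlue

open Cfsg Cfsg.Geo Matrix Module Cfsg.Agent.Lib.Helper27.SpM Cfsg.Agent.Lib.Helper27.SpMLeaf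
open Cfsg.Agent.Lib.Helper26.SpMLeaf (not_le_subspace not_le_dec not_le_tensor not_le_tensorWreath not_le_subfield)
open Cfsg.Agent.Lib.Helper16.SpMLeaf (not_sp_le_field not_sp_le_quad)
open Cfsg.Agent.Lib.Helper12.SpMLeaf (not_sp_le_symplType)
open Cfsg.Agent.Lib.Helper5.SpMLeaf (ndec_two_le_quad tensor_three_le_ndec)
open Cfsg.Agent.Lib.Helper9.SpMLeaf (ndec_card two_le_finrank_of_nondeg even_of_symplecticForm c6_card c3s_dvd)
open scoped commutatorElement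

variable {m : ℕ} {F : Type*} [Field F] [Fintype F]

theorem card_idx : Fintype.card (Fin m ⊕ Fin m) = 2 * m := by
  rw [Fintype.card_sum, Fintype.card_fin]; ring

theorem exists_vec_ne_zero (hm : 1 ≤ m) : ∃ x : Fin m ⊕ Fin m → F, x ≠ 0 := by
  refine ⟨Pi.single (Sum.inl ⟨0, hm⟩) 1, fun h => ?_⟩
  have := congrFun h (Sum.inl ⟨0, hm⟩)
  simp at this

theorem ts_ne_top (hm : 1 ≤ m) {W : Submodule F (Fin m ⊕ Fin m → F)}
    (hW : IsTotallySingularFor (sympForm m F) W) : W ≠ ⊤ := by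
  rintro rfl
  obtain ⟨x, hx⟩ := exists_vec_ne_zero (F := F) hm
  obtain ⟨a, ha⟩ := Cfsg.Agent.Lib.Helper5.sympForm_nondeg x hx
  exact ha (hW x Submodule.mem_top a Submodule.mem_top)

theorem finrank_top_idx : finrank F (⊤ : Submodule F (Fin m ⊕ Fin m → F)) = 2 * m := by
  rw [finrank_top, Module.finrank_fintype_fun_eq_card, card_idx]

theorem two_le_card (F : Type*) [Field F] [Fintype F] : 2 ≤ Fintype.card F := Fintype.one_lt_card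

/-- the refined members are proper subgroups of `Sp` -/
theorem good_proper (hm : 2 ≤ m) {M : Subgroup (GL (Fin m ⊕ Fin m) F)} (hG : GoodSp m F M) :
    ¬ spGL m F ≤ M := by
  have hT : TransNZ (spGL m F) := transNZ_sp
  intro hle
  rcases hG with ⟨W, h0, hW, rfl⟩ | ⟨W, h0, hW, hdim, rfl⟩ | ⟨t, k, D, hD, -, rfl⟩ | ⟨D, -, hD, -, -, rfl⟩ |
    ⟨F₀, r, P, ζ, hr, hcard, -, -, rfl⟩ | ⟨R, p, k, hR, habs, hsim, hp, hpo, hq, -, -, -, rfl⟩ |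
    ⟨Q, heven, hQ, hpol, rfl⟩ | ⟨r, K, hr, hK, -, -, rfl⟩ | ⟨K, -, hK, -, -, -, rfl⟩ |
    ⟨n₁, n₂, e, P, f₁, f₂, -, hn₂, hf₁, -, -, -, -, rfl⟩ | ⟨k, t, e, P, f₁, -, -, ht, -, hf₁, -, rfl⟩
  · exact not_le_subspace hT h0 (ts_ne_top (by omega) hW) (hle.trans inf_le_left)
  · refine not_le_subspace hT h0 ?_ (hle.trans inf_le_left)
    rintro rfl
    rw [finrank_top_idx] at hdim
    omega
  · exact not_le_dec hT hD.decomp (hle.trans inf_le_left)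
  · exact not_le_dec hT hD (hle.trans inf_le_left)
  · exact not_le_subfield hT (by rw [card_idx]; omega) F₀ hr hcard P (hle.trans inf_le_left)
  · exact not_sp_le_symplType hm (by rw [hq]; exact hpo) hR habs hsim (hle.trans inf_le_left)
  · exact not_sp_le_quad hm heven hQ hpol (hle.trans inf_le_left)
  · exact not_sp_le_field hm hr.two_le hK (hle.trans inf_le_left)
  · exact not_sp_le_field hm le_rfl hK (hle.trans inf_le_left)
  · have hc := Fintype.card_congr e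
    rw [card_idx, Fintype.card_prod, Fintype.card_fin, Fintype.card_fin] at hc
    have he : Even n₁ := even_of_symplecticForm hf₁
    have h1 : 2 ≤ n₁ := by
      rcases he with ⟨j, hj⟩
      rcases Nat.eq_zero_or_pos j with rfl | hj0
      · subst hj; simp at hc; omega
      · omega
    exact not_le_tensor hT e P h1 (by omega) (hle.trans inf_le_left)
  · have hc := Fintype.card_congr e
    rw [card_idx, Fintype.card_fun, Fintype.card_fin, Fintype.card_fin] at hc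
    have he : Even k := even_of_symplecticForm hf₁
    have h1 : 2 ≤ k := by
      rcases he with ⟨j, hj⟩
      rcases Nat.eq_zero_or_pos j with rfl | hj0
      · subst hj
        rw [zero_add, zero_pow (by omega)] at hc
        omega
      · omega
    exact not_le_tensorWreath hT e P h1 (by omega) (hle.trans inf_le_left)

/-- stage 1: away from `Sp_4(q)`, `q` odd, and `Sp_8(q)` every class member lies in a refined one -/
theorem refines_stage1 (hm : 1 ≤ m) (h2 : m = 2 → ¬ Odd (Fintype.card F)) (h4 : m ≠ 4) : Refines m F := by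
  intro M hM
  have hq2 := two_le_card F
  rcases hM with (⟨W, h0, hW, rfl⟩ | ⟨W, h0, hW, hdim, rfl⟩ | ⟨t, k, D, hD, rfl⟩ | ⟨D, hodd, hD, hts, rfl⟩ |
    ⟨F₀, r, P, ζ, hr, hcard, hζ, hP, rfl⟩ | ⟨R, p, k, hR, habs, hsim, hp, hpo, hq, hcR, hZ, hmin, rfl⟩ |
    ⟨Q, heven, hQ, hpol, rfl⟩) | ⟨r, K, hr, hK, hsa, halt, rfl⟩ | ⟨K, hodd, hK, hac, hnsa, rfl⟩ |
    ⟨n₁, n₂, e, P, f₁, f₂, hodd, hn₂, hf₁, hf₂, hT, rfl⟩ | ⟨k, t, e, P, f₁, hodd, hto, ht, hex, hf₁, hT, rfl⟩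
  · exact ⟨_, Or.inl ⟨W, h0, hW, rfl⟩, le_rfl⟩
  · exact ⟨_, Or.inr (Or.inl ⟨W, h0, hW, hdim, rfl⟩), le_rfl⟩
  · by_cases hk : k = 2 ∧ Fintype.card F = 2
    · obtain ⟨rfl, hq⟩ := hk
      obtain ⟨Q, hQ, hpol, hle⟩ := ndec_two_le_quad hq hD
      refine ⟨quadSimilarityGroup Q ⊓ spGL m F,
        Or.inr (Or.inr (Or.inr (Or.inr (Or.inr (Or.inr (Or.inl ⟨Q, ?_, hQ, hpol, rfl⟩)))))),
        inf_le_inf_right _ hle⟩
      rw [hq]; decide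
    · refine ⟨_, Or.inr (Or.inr (Or.inl ⟨t, k, D, hD, fun hk2 => ?_, rfl⟩)), le_rfl⟩
      by_contra hlt
      exact hk ⟨hk2, by omega⟩
  · refine ⟨_, Or.inr (Or.inr (Or.inr (Or.inl ⟨D, hodd, hD, hts, fun hm2 => absurd hodd (h2 hm2), rfl⟩))), le_rfl⟩
  · exact ⟨_, Or.inr (Or.inr (Or.inr (Or.inr (Or.inl ⟨F₀, r, P, ζ, hr, hcard, hζ, hP, rfl⟩)))), le_rfl⟩
  · exact ⟨_, Or.inr (Or.inr (Or.inr (Or.inr (Or.inr (Or.inl
      ⟨R, p, k, hR, habs, hsim, hp, hpo, hq, hcR, hZ, hmin, rfl⟩))))), le_rfl⟩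
  · exact ⟨_, Or.inr (Or.inr (Or.inr (Or.inr (Or.inr (Or.inr (Or.inl ⟨Q, heven, hQ, hpol, rfl⟩)))))), le_rfl⟩
  · exact ⟨_, Or.inr (Or.inr (Or.inr (Or.inr (Or.inr (Or.inr (Or.inr (Or.inl
      ⟨r, K, hr, hK, hsa, halt, rfl⟩))))))), le_rfl⟩
  · exact ⟨_, Or.inr (Or.inr (Or.inr (Or.inr (Or.inr (Or.inr (Or.inr (Or.inr (Or.inl
      ⟨K, hodd, hK, hac, hnsa, fun hm2 => absurd hodd (h2 hm2), rfl⟩)))))))), le_rfl⟩
  · have hc := Fintype.card_congr e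
    rw [card_idx, Fintype.card_prod, Fintype.card_fin, Fintype.card_fin] at hc
    by_cases h3 : n₂ = 3 ∧ Fintype.card F = 3
    · obtain ⟨rfl, hq⟩ := h3
      obtain ⟨D, hD, hle⟩ := tensor_three_le_ndec hm hq e P f₁ f₂ hf₁ hf₂ hT
      exact ⟨decompositionStabilizer D ⊓ spGL m F,
        Or.inr (Or.inr (Or.inl ⟨3, n₁, D, hD, fun _ => by omega, rfl⟩)), le_inf hle inf_le_right⟩
    · refine ⟨_, Or.inr (Or.inr (Or.inr (Or.inr (Or.inr (Or.inr (Or.inr (Or.inr (Or.inr (Or.inl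
        ⟨n₁, n₂, e, P, f₁, f₂, hodd, hn₂, hf₁, hf₂, hT, fun hn3 => ?_, fun h1 h2' => ?_, rfl⟩))))))))), le_rfl⟩
      · by_contra hlt
        apply h3
        refine ⟨hn3, ?_⟩
        rcases hodd with ⟨j, hj⟩
        omega
      · exfalso
        subst h1 h2'
        omega
  · exact ⟨_, Or.inr (Or.inr (Or.inr (Or.inr (Or.inr (Or.inr (Or.inr (Or.inr (Or.inr (Or.inr
      ⟨k, t, e, P, f₁, hodd, hto, ht, hex, hf₁, hT, rfl⟩))))))))), le_rfl⟩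

/-- the refined members are subgroups of `Sp` -/
theorem good_le {M' : Subgroup (GL (Fin m ⊕ Fin m) F)} (hG : GoodSp m F M') : M' ≤ spGL m F := by
  rcases hG with ⟨W, -, -, rfl⟩ | ⟨W, -, -, -, rfl⟩ | ⟨t, k, D, -, -, rfl⟩ | ⟨D, -, -, -, -, rfl⟩ |
    ⟨F₀, r, P, ζ, -, -, -, -, rfl⟩ | ⟨R, p, k, -, -, -, -, -, -, -, -, -, rfl⟩ |
    ⟨Q, -, -, -, rfl⟩ | ⟨r, K, -, -, -, -, rfl⟩ | ⟨K, -, -, -, -, -, rfl⟩ |
    ⟨n₁, n₂, e, P, f₁, f₂, -, -, -, -, -, -, -, rfl⟩ | ⟨k, t, e, P, f₁, -, -, -, -, -, -, rfl⟩ <;>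
  exact inf_le_right

/-- a maximal subgroup contained in a refined member is equal to it -/
theorem eq_of_le_good (hm : 2 ≤ m) {H M' : Subgroup (GL (Fin m ⊕ Fin m) F)} (hG : GoodSp m F M')
    (hHM : H ≤ M') (hH : IsMaximalIn (spGL m F) H) : H = M' := by
  rcases hH.2 M' hHM (good_le hG) with h | h
  · exact h.symm
  · exact absurd h.ge (good_proper hm hG)

/-- `Asch ⇒ Concl` for a maximal subgroup -/
theorem concl_of_asch (hm : 2 ≤ m) (hR : Refines m F) {H : Subgroup (GL (Fin m ⊕ Fin m) F)}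
    (hA : AschSp m F H) (hH : IsMaximalIn (spGL m F) H) : ConclSp m F H := by
  rcases hA with ⟨M, hM, hHM⟩ | hres
  · obtain ⟨M', hG, hMM'⟩ := hR M hM
    exact Or.inl ⟨M', hG, eq_of_le_good hm hG (hHM.trans hMM') hH⟩
  · exact Or.inr hres

/-- the hypothesis `hproper` of S5662 holds for a maximal subgroup (`Sp` perfect) -/
theorem asch_of_maximal (hS : AschSpStmt m F) (hperf : ⁅spGL m F, spGL m F⁆ = spGL m F)
    {H : Subgroup (GL (Fin m ⊕ Fin m) F)} (hH : IsMaximalIn (spGL m F) H) : AschSp m F H := by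
  refine hS H hH.1.le fun hsup => ?_
  -- every element of `Sp` is `h * z`, `h ∈ H`, `z` scalar
  have hc : ∀ z ∈ scalars (Fin m ⊕ Fin m) F, ∀ x : GL (Fin m ⊕ Fin m) F, z * x = x * z := by
    intro z hz x
    obtain ⟨c, hc⟩ := (mem_scalars_iff z).mp hz
    apply Units.ext
    rw [Units.val_mul, Units.val_mul, hc, Matrix.smul_mul, Matrix.one_mul, Matrix.mul_smul, Matrix.mul_one]
  have hdec : ∀ g ∈ spGL m F, ∃ h ∈ H, ∃ z ∈ scalars (Fin m ⊕ Fin m) F, g = h * z := by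
    intro g hg
    rw [← hsup, Subgroup.sup_eq_closure] at hg
    induction hg using Subgroup.closure_induction with
    | mem x hx =>
      rcases hx with hx | hx
      · exact ⟨x, hx, 1, Subgroup.one_mem _, (mul_one x).symm⟩
      · exact ⟨1, Subgroup.one_mem _, x, hx.1, (one_mul x).symm⟩
    | one => exact ⟨1, Subgroup.one_mem _, 1, Subgroup.one_mem _, (mul_one 1).symm⟩
    | mul x y _ _ hx hy =>
      obtain ⟨h₁, hh₁, z₁, hz₁, rfl⟩ := hx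
      obtain ⟨h₂, hh₂, z₂, hz₂, rfl⟩ := hy
      refine ⟨h₁ * h₂, H.mul_mem hh₁ hh₂, z₁ * z₂, Subgroup.mul_mem _ hz₁ hz₂, ?_⟩
      calc h₁ * z₁ * (h₂ * z₂) = h₁ * (z₁ * h₂) * z₂ := by group
        _ = h₁ * (h₂ * z₁) * z₂ := by rw [hc z₁ hz₁ h₂]
        _ = h₁ * h₂ * (z₁ * z₂) := by group
    | inv x _ hx =>
      obtain ⟨h₁, hh₁, z₁, hz₁, rfl⟩ := hx
      refine ⟨h₁⁻¹, H.inv_mem hh₁, z₁⁻¹, Subgroup.inv_mem _ hz₁, ?_⟩
      rw [_root_.mul_inv_rev, hc _ (Subgroup.inv_mem _ hz₁)]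
  have hcomm : ⁅spGL m F, spGL m F⁆ ≤ H := by
    rw [Subgroup.commutator_le]
    intro g₁ hg₁ g₂ hg₂
    obtain ⟨h₁, hh₁, z₁, hz₁, rfl⟩ := hdec g₁ hg₁
    obtain ⟨h₂, hh₂, z₂, hz₂, rfl⟩ := hdec g₂ hg₂
    have : ⁅h₁ * z₁, h₂ * z₂⁆ = ⁅h₁, h₂⁆ := by
      rw [commutatorElement_def, commutatorElement_def]
      have e1 : (h₁ * z₁)⁻¹ = h₁⁻¹ * z₁⁻¹ := by rw [_root_.mul_inv_rev, hc _ (Subgroup.inv_mem _ hz₁)]
      have e2 : (h₂ * z₂)⁻¹ = h₂⁻¹ * z₂⁻¹ := by rw [_root_.mul_inv_rev, hc _ (Subgroup.inv_mem _ hz₂)]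
      rw [e1, e2]
      calc h₁ * z₁ * (h₂ * z₂) * (h₁⁻¹ * z₁⁻¹) * (h₂⁻¹ * z₂⁻¹)
          = h₁ * (z₁ * h₂) * (z₂ * h₁⁻¹) * (z₁⁻¹ * h₂⁻¹) * z₂⁻¹ := by group
        _ = h₁ * (h₂ * z₁) * (h₁⁻¹ * z₂) * (h₂⁻¹ * z₁⁻¹) * z₂⁻¹ := by
            rw [hc z₁ hz₁ h₂, hc z₂ hz₂ h₁⁻¹, hc z₁⁻¹ (Subgroup.inv_mem _ hz₁) h₂⁻¹]
        _ = h₁ * h₂ * (z₁ * h₁⁻¹) * (z₂ * h₂⁻¹) * z₁⁻¹ * z₂⁻¹ := by group
        _ = h₁ * h₂ * (h₁⁻¹ * z₁) * (h₂⁻¹ * z₂) * z₁⁻¹ * z₂⁻¹ := by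
            rw [hc z₁ hz₁ h₁⁻¹, hc z₂ hz₂ h₂⁻¹]
        _ = h₁ * h₂ * h₁⁻¹ * (z₁ * h₂⁻¹) * (z₂ * z₁⁻¹) * z₂⁻¹ := by group
        _ = h₁ * h₂ * h₁⁻¹ * (h₂⁻¹ * z₁) * (z₁⁻¹ * z₂) * z₂⁻¹ := by
            rw [hc z₁ hz₁ h₂⁻¹, hc z₂ hz₂ z₁⁻¹]
        _ = h₁ * h₂ * h₁⁻¹ * h₂⁻¹ := by group
    rw [this]
    exact H.mul_mem (H.mul_mem (H.mul_mem hh₁ hh₂) (H.inv_mem hh₁)) (H.inv_mem hh₂)
  rw [hperf] at hcomm
  exact (lt_irrefl _ (lt_of_lt_of_le hH.1 hcomm))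

end Cfsg.Agent.Lib.Helper27.SpMGlue
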