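import Mathlib
import Cfsg.Agent.Lib.Helper27.SpMDefs
import Cfsg.Agent.Lib.Helper5.Symp
import Cfsg.Agent.Lib.Helper5.SpMax
import Cfsg.Agent.Lib.Helper9.PlusPlane
import Cfsg.Agent.S5649

/-!
# SpnMax stage 2, leaf S4a (helper27): `GL_2(3).2 ≤ Sp_2(3) wr S_2` in `Sp_4(3)`
-/

set_option autoImplicit false
set_option linter.unusedSectionVars false
set_option linter.unusedVariables false

namespace Cfsg.Agent.Lib.Helper27.SpMLeaf

open Cfsg Cfsg.Geo Matrix Module Cfsg.Agent.Lib.Helper27.SpM Cfsg.Agent.Lib.Helper5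

variable {F : Type*} [Field F]

/-- a hyperbolic basis `a₁ a₂ | b₁ b₂` of `F^4` for `sympForm 2 F` -/
structure HB4 (a₁ a₂ b₁ b₂ : Fin 2 ⊕ Fin 2 → F) : Prop where
  a12 : sympForm 2 F a₁ a₂ = 0
  b12 : sympForm 2 F b₁ b₂ = 0
  ab11 : sympForm 2 F a₁ b₁ = 1
  ab12 : sympForm 2 F a₁ b₂ = 0
  ab21 : sympForm 2 F a₂ b₁ = 0
  ab22 : sympForm 2 F a₂ b₂ = 1

namespace HB4

variable {a₁ a₂ b₁ b₂ : Fin 2 ⊕ Fin 2 → F} (h : HB4 a₁ a₂ b₁ b₂)
include h

lemma a21 : sympForm 2 F a₂ a₁ = 0 := by rw [sympForm_swap, h.a12, neg_zero]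
lemma b21 : sympForm 2 F b₂ b₁ = 0 := by rw [sympForm_swap, h.b12, neg_zero]
lemma ba11 : sympForm 2 F b₁ a₁ = -1 := by rw [sympForm_swap, h.ab11]
lemma ba21 : sympForm 2 F b₂ a₁ = 0 := by rw [sympForm_swap, h.ab12, neg_zero]
lemma ba12 : sympForm 2 F b₁ a₂ = 0 := by rw [sympForm_swap, h.ab21, neg_zero]
lemma ba22 : sympForm 2 F b₂ a₂ = -1 := by rw [sympForm_swap, h.ab22]

/-- the form on two vectors given in coordinates -/
lemma form_coords (x y x' y' s t s' t' : F) :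
    sympForm 2 F (x • a₁ + y • a₂ + x' • b₁ + y' • b₂) (s • a₁ + t • a₂ + s' • b₁ + t' • b₂) =
      x * s' + y * t' - x' * s - y' * t := by
  simp only [sympForm_add_left, sympForm_add_right, sympForm_smul_left, sympForm_smul_right,
    sympForm_self, h.a12, h.b12, h.ab11, h.ab12, h.ab21, h.ab22, h.a21, h.b21, h.ba11, h.ba21,
    h.ba12, h.ba22]
  ring

lemma linearIndependent : LinearIndependent F ![a₁, a₂, b₁, b₂] := by
  rw [Fintype.linearIndependent_iff]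
  intro c hc
  have hc' : c 0 • a₁ + c 1 • a₂ + c 2 • b₁ + c 3 • b₂ = 0 := by
    rw [← hc, Fin.sum_univ_four]; rfl
  have key : ∀ s t s' t' : F, sympForm 2 F (c 0 • a₁ + c 1 • a₂ + c 2 • b₁ + c 3 • b₂)
      (s • a₁ + t • a₂ + s' • b₁ + t' • b₂) = 0 := by
    intro s t s' t'
    rw [hc', sympForm_zero_left]
  have k1 := key 0 0 1 0
  have k2 := key 0 0 0 1
  have k3 := key 1 0 0 0
  have k4 := key 0 1 0 0
  rw [h.form_coords] at k1 k2 k3 k4
  intro i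
  fin_cases i
  · simpa using k1
  · simpa using k2
  · simpa using k3
  · simpa using k4

/-- expansion in the hyperbolic basis -/
lemma expand (v : Fin 2 ⊕ Fin 2 → F) :
    v = sympForm 2 F v b₁ • a₁ + sympForm 2 F v b₂ • a₂ + sympForm 2 F a₁ v • b₁ + sympForm 2 F a₂ v • b₂ := by
  have hli := h.linearIndependent
  have hcard : Fintype.card (Fin 4) = finrank F (Fin 2 ⊕ Fin 2 → F) := by
    rw [Module.finrank_fintype_fun_eq_card]; rfl
  have hspan := hli.span_eq_top_of_card_eq_finrank' hcard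
  -- the difference is orthogonal to everything
  set d := v - (sympForm 2 F v b₁ • a₁ + sympForm 2 F v b₂ • a₂ + sympForm 2 F a₁ v • b₁ +
    sympForm 2 F a₂ v • b₂) with hd
  have hperp : ∀ w ∈ Submodule.span F (Set.range ![a₁, a₂, b₁, b₂]), sympForm 2 F d w = 0 := by
    intro w hw
    induction hw using Submodule.span_induction with
    | mem w hw =>
      obtain ⟨i, rfl⟩ := hw
      have e1 : ∀ z, sympForm 2 F d z = sympForm 2 F v z - (sympForm 2 F v b₁ * sympForm 2 F a₁ z +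
          sympForm 2 F v b₂ * sympForm 2 F a₂ z + sympForm 2 F a₁ v * sympForm 2 F b₁ z +
          sympForm 2 F a₂ v * sympForm 2 F b₂ z) := by
        intro z
        rw [hd, sympForm_sub_left, sympForm_add_left, sympForm_add_left, sympForm_add_left,
          sympForm_smul_left, sympForm_smul_left, sympForm_smul_left, sympForm_smul_left]
      fin_cases i
      · show sympForm 2 F d a₁ = 0
        rw [e1, sympForm_self, h.a21, h.ba11, h.ba21, sympForm_swap 2 a₁ v]; ring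
      · show sympForm 2 F d a₂ = 0
        rw [e1, sympForm_self, h.a12, h.ba12, h.ba22, sympForm_swap 2 a₂ v]; ring
      · show sympForm 2 F d b₁ = 0
        rw [e1, sympForm_self, h.ab11, h.ab21, h.b21]; ring
      · show sympForm 2 F d b₂ = 0
        rw [e1, sympForm_self, h.ab12, h.ab22, h.b12]; ring
    | zero => rw [sympForm_swap, sympForm_zero_left, neg_zero]
    | add x y _ _ hx hy => rw [sympForm_add_right, hx, hy, add_zero]
    | smul c x _ hx => rw [sympForm_smul_right, hx, mul_zero]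
  have hd0 : d = 0 := by
    by_contra hne
    obtain ⟨a, ha⟩ := sympForm_nondeg d hne
    exact ha (hperp a (by rw [hspan]; trivial))
  rw [hd, sub_eq_zero] at hd0
  exact hd0


lemma cx (x y x' y' : F) : sympForm 2 F (x • a₁ + y • a₂ + x' • b₁ + y' • b₂) b₁ = x := by
  have := h.form_coords x y x' y' 0 0 1 0
  simpa using this

lemma cy (x y x' y' : F) : sympForm 2 F (x • a₁ + y • a₂ + x' • b₁ + y' • b₂) b₂ = y := by
  have := h.form_coords x y x' y' 0 0 0 1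
  simpa using this

lemma cx' (x y x' y' : F) : sympForm 2 F a₁ (x • a₁ + y • a₂ + x' • b₁ + y' • b₂) = x' := by
  have := h.form_coords 1 0 0 0 x y x' y'
  simpa using this

lemma cy' (x y x' y' : F) : sympForm 2 F a₂ (x • a₁ + y • a₂ + x' • b₁ + y' • b₂) = y' := by
  have := h.form_coords 0 1 0 0 x y x' y'
  simpa using this

end HB4

/-- the parametrisation of the plane `Γ_c = {x a₁ + y a₂ + c y b₁ - c x b₂}` -/
noncomputable def gamMap (a₁ a₂ b₁ b₂ : Fin 2 ⊕ Fin 2 → F) (c : F) :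
    (F × F) →ₗ[F] (Fin 2 ⊕ Fin 2 → F) where
  toFun p := p.1 • a₁ + p.2 • a₂ + (c * p.2) • b₁ + (-(c * p.1)) • b₂
  map_add' p q := by
    simp only [Prod.fst_add, Prod.snd_add]; module
  map_smul' r p := by
    simp only [Prod.smul_fst, Prod.smul_snd, smul_eq_mul, RingHom.id_apply]; module

/-- the plane `Γ_c` -/
noncomputable def Gam (a₁ a₂ b₁ b₂ : Fin 2 ⊕ Fin 2 → F) (c : F) :
    Submodule F (Fin 2 ⊕ Fin 2 → F) :=
  LinearMap.range (gamMap a₁ a₂ b₁ b₂ c)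

lemma mem_Gam {a₁ a₂ b₁ b₂ : Fin 2 ⊕ Fin 2 → F} {c : F} {v : Fin 2 ⊕ Fin 2 → F} :
    v ∈ Gam a₁ a₂ b₁ b₂ c ↔ ∃ x y : F, v = x • a₁ + y • a₂ + (c * y) • b₁ + (-(c * x)) • b₂ := by
  constructor
  · rintro ⟨p, rfl⟩
    exact ⟨p.1, p.2, rfl⟩
  · rintro ⟨x, y, rfl⟩
    exact ⟨(x, y), rfl⟩

namespace HB4

variable {a₁ a₂ b₁ b₂ : Fin 2 ⊕ Fin 2 → F} (h : HB4 a₁ a₂ b₁ b₂)
include h

lemma gamMap_injective (c : F) : Function.Injective (gamMap a₁ a₂ b₁ b₂ c) := by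
  intro p q hpq
  have e : p.1 • a₁ + p.2 • a₂ + (c * p.2) • b₁ + (-(c * p.1)) • b₂ =
      q.1 • a₁ + q.2 • a₂ + (c * q.2) • b₁ + (-(c * q.1)) • b₂ := hpq
  have e1 := congrArg (fun v => sympForm 2 F v b₁) e
  have e2 := congrArg (fun v => sympForm 2 F v b₂) e
  simp only [h.cx, h.cy] at e1 e2
  exact Prod.ext e1 e2

lemma finrank_Gam (c : F) : Module.finrank F (Gam a₁ a₂ b₁ b₂ c) = 2 := by
  unfold Gam
  rw [LinearMap.finrank_range_of_inj (h.gamMap_injective c), Module.finrank_prod,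
    Module.finrank_self]

/-- `Γ_1 ⊥ Γ_{-1}` -/
lemma gam_orth {u v : Fin 2 ⊕ Fin 2 → F} (hu : u ∈ Gam a₁ a₂ b₁ b₂ 1)
    (hv : v ∈ Gam a₁ a₂ b₁ b₂ (-1)) : sympForm 2 F u v = 0 := by
  obtain ⟨x, y, rfl⟩ := mem_Gam.1 hu
  obtain ⟨s, t, rfl⟩ := mem_Gam.1 hv
  rw [h.form_coords]
  ring

/-- `Γ_c` is non-degenerate when `2c ≠ 0` -/
lemma gam_nondeg {c : F} (hc : c ≠ 0) (h2 : (2 : F) ≠ 0) {u : Fin 2 ⊕ Fin 2 → F}
    (hu : u ∈ Gam a₁ a₂ b₁ b₂ c) (hu0 : u ≠ 0) :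
    ∃ v ∈ Gam a₁ a₂ b₁ b₂ c, sympForm 2 F u v ≠ 0 := by
  obtain ⟨x, y, rfl⟩ := mem_Gam.1 hu
  by_cases hx : x = 0
  · have hy : y ≠ 0 := by
      rintro rfl
      apply hu0
      rw [hx]
      simp
    refine ⟨_, mem_Gam.2 ⟨1, 0, rfl⟩, ?_⟩
    rw [h.form_coords]
    have : x * (c * 0) + y * -(c * 1) - c * y * 1 - -(c * x) * 0 = -(2 * c * y) := by ring
    rw [this]
    exact neg_ne_zero.2 (mul_ne_zero (mul_ne_zero h2 hc) hy)
  · refine ⟨_, mem_Gam.2 ⟨0, 1, rfl⟩, ?_⟩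
    rw [h.form_coords]
    have : x * (c * 1) + y * -(c * 0) - c * y * 0 - -(c * x) * 1 = 2 * c * x := by ring
    rw [this]
    exact mul_ne_zero (mul_ne_zero h2 hc) hx

end HB4


/-- `v = w + w'` with `w ∈ A`, `w' ∈ B` non-zero and orthogonal -/
def GoodV (A B : Submodule F (Fin 2 ⊕ Fin 2 → F)) (v : Fin 2 ⊕ Fin 2 → F) : Prop :=
  ∃ w ∈ A, ∃ w' ∈ B, v = w + w' ∧ sympForm 2 F w w' = 0 ∧ w ≠ 0 ∧ w' ≠ 0

lemma GoodV.symm {A B : Submodule F (Fin 2 ⊕ Fin 2 → F)} {v : Fin 2 ⊕ Fin 2 → F}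
    (hv : GoodV A B v) : GoodV B A v := by
  obtain ⟨w, hw, w', hw', rfl, horth, hw0, hw'0⟩ := hv
  refine ⟨w', hw', w, hw, add_comm _ _, ?_, hw'0, hw0⟩
  rw [sympForm_swap, horth, neg_zero]

lemma GoodV.map {A B A' B' : Submodule F (Fin 2 ⊕ Fin 2 → F)} {g : GL (Fin 2 ⊕ Fin 2) F}
    (hg : g ∈ spGL 2 F)
    (hA : ∀ w ∈ A, (g : Matrix (Fin 2 ⊕ Fin 2) (Fin 2 ⊕ Fin 2) F) *ᵥ w ∈ A')
    (hB : ∀ w ∈ B, (g : Matrix (Fin 2 ⊕ Fin 2) (Fin 2 ⊕ Fin 2) F) *ᵥ w ∈ B')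
    {v : Fin 2 ⊕ Fin 2 → F} (hv : GoodV A B v) :
    GoodV A' B' ((g : Matrix (Fin 2 ⊕ Fin 2) (Fin 2 ⊕ Fin 2) F) *ᵥ v) := by
  obtain ⟨w, hw, w', hw', rfl, horth, hw0, hw'0⟩ := hv
  refine ⟨_, hA w hw, _, hB w' hw', Matrix.mulVec_add _ _ _, ?_, ?_, ?_⟩
  · rw [SpMax.mem_spGL.mp hg, horth]
  · intro h0
    apply hw0
    apply SpMax.mulVec_inj g
    rw [h0, Matrix.mulVec_zero]
  · intro h0
    apply hw'0
    apply SpMax.mulVec_inj g
    rw [h0, Matrix.mulVec_zero]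

lemma exists_scalar {x y x' y' : F} (hxy : x ≠ 0 ∨ y ≠ 0) (h : x * x' + y * y' = 0) :
    ∃ c : F, x' = c * y ∧ y' = -(c * x) := by
  by_cases hx : x = 0
  · have hy : y ≠ 0 := hxy.resolve_left (fun h' => h' hx)
    rw [hx, zero_mul, zero_add] at h
    have hy' : y' = 0 := (mul_eq_zero.1 h).resolve_left hy
    refine ⟨x' / y, ?_, ?_⟩
    · rw [div_mul_cancel₀ _ hy]
    · rw [hx, hy', mul_zero, neg_zero]
  · refine ⟨-(y' / x), ?_, ?_⟩
    · have : x * x' = -(y * y') := eq_neg_of_add_eq_zero_left h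
      field_simp
      linear_combination this
    · field_simp

namespace HB4

variable {a₁ a₂ b₁ b₂ : Fin 2 ⊕ Fin 2 → F} (h : HB4 a₁ a₂ b₁ b₂)
include h

lemma good_of_mem_gam {A B : Submodule F (Fin 2 ⊕ Fin 2 → F)}
    (ha₁ : a₁ ∈ A) (ha₂ : a₂ ∈ A) (hb₁ : b₁ ∈ B) (hb₂ : b₂ ∈ B) {c : F} (hc : c ≠ 0)
    {v : Fin 2 ⊕ Fin 2 → F} (hv : v ∈ Gam a₁ a₂ b₁ b₂ c) (hv0 : v ≠ 0) : GoodV A B v := by
  obtain ⟨x, y, rfl⟩ := mem_Gam.1 hv
  have hw : x • a₁ + y • a₂ = x • a₁ + y • a₂ + (0 : F) • b₁ + (0 : F) • b₂ := by simp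
  have hw' : (c * y) • b₁ + (-(c * x)) • b₂ =
      (0 : F) • a₁ + (0 : F) • a₂ + (c * y) • b₁ + (-(c * x)) • b₂ := by simp
  have hxy : x ≠ 0 ∨ y ≠ 0 := by
    by_contra hcon
    push Not at hcon
    apply hv0
    rw [hcon.1, hcon.2]
    simp
  refine ⟨x • a₁ + y • a₂, A.add_mem (A.smul_mem _ ha₁) (A.smul_mem _ ha₂),
    (c * y) • b₁ + (-(c * x)) • b₂, B.add_mem (B.smul_mem _ hb₁) (B.smul_mem _ hb₂), ?_, ?_, ?_, ?_⟩
  · rw [add_assoc]
  · rw [hw, hw', h.form_coords]; ring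
  · intro h0
    have e1 := h.cx x y 0 0
    have e2 := h.cy x y 0 0
    rw [← hw, h0, sympForm_zero_left] at e1 e2
    rcases hxy with hx | hy
    · exact hx e1.symm
    · exact hy e2.symm
  · intro h0
    have e1 := h.cx' 0 0 (c * y) (-(c * x))
    have e2 := h.cy' 0 0 (c * y) (-(c * x))
    rw [← hw', h0, Cfsg.Agent.S5649.S5649aux.sympForm_zero_right] at e1 e2
    rcases hxy with hx | hy
    · exact hx ((mul_eq_zero.1 (neg_eq_zero.1 e2.symm)).resolve_left hc)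
    · exact hy ((mul_eq_zero.1 e1.symm).resolve_left hc)

lemma gam_of_good {A B : Submodule F (Fin 2 ⊕ Fin 2 → F)}
    (hA : IsTotallySingularFor (sympForm 2 F) A) (hB : IsTotallySingularFor (sympForm 2 F) B)
    (ha₁ : a₁ ∈ A) (ha₂ : a₂ ∈ A) (hb₁ : b₁ ∈ B) (hb₂ : b₂ ∈ B)
    {v : Fin 2 ⊕ Fin 2 → F} (hv : GoodV A B v) : ∃ c : F, c ≠ 0 ∧ v ∈ Gam a₁ a₂ b₁ b₂ c := by
  obtain ⟨w, hw, w', hw', rfl, horth, hw0, hw'0⟩ := hv
  have ew := h.expand w
  have ew' := h.expand w'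
  rw [hA a₁ ha₁ w hw, hA a₂ ha₂ w hw] at ew
  rw [hB w' hw' b₁ hb₁, hB w' hw' b₂ hb₂] at ew'
  set x := sympForm 2 F w b₁ with hx
  set y := sympForm 2 F w b₂ with hy
  set x' := sympForm 2 F a₁ w' with hx'
  set y' := sympForm 2 F a₂ w' with hy'
  have hxy : x ≠ 0 ∨ y ≠ 0 := by
    by_contra hcon
    push Not at hcon
    apply hw0
    rw [ew, hcon.1, hcon.2]
    simp
  have hrel : x * x' + y * y' = 0 := by
    have := h.form_coords x y 0 0 0 0 x' y'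
    rw [← ew, ← ew', horth] at this
    rw [this]; ring
  obtain ⟨c, hc1, hc2⟩ := exists_scalar hxy hrel
  refine ⟨c, ?_, mem_Gam.2 ⟨x, y, ?_⟩⟩
  · rintro rfl
    apply hw'0
    rw [ew', hc1, hc2]
    simp
  · rw [← hc1, ← hc2]
    conv_lhs => rw [ew, ew']
    module

end HB4


/-- a matrix permuting an injective family of subspaces lies in its stabiliser -/
lemma mem_decStab_of_forall_exists {ι : Type} [Fintype ι] [DecidableEq ι] {t : ℕ}
    {D : Fin t → Submodule F (ι → F)} (hinj : Function.Injective D) (g : GL ι F)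
    (hg : ∀ i, ∃ j, (D i).map (Matrix.toLin' (g : Matrix ι ι F)) = D j) :
    g ∈ decompositionStabilizer D := by
  choose τ hτ using hg
  have hginj : Function.Injective (Matrix.toLin' (g : Matrix ι ι F)) := by
    intro u v huv
    rw [Matrix.toLin'_apply, Matrix.toLin'_apply] at huv
    exact SpMax.mulVec_inj g huv
  have hτinj : Function.Injective τ := by
    intro i i' hii
    apply hinj
    apply Submodule.map_injective_of_injective hginj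
    rw [hτ i, hτ i', hii]
  refine ⟨Equiv.ofBijective τ (Finite.injective_iff_bijective.mp hτinj), fun i => ?_⟩
  rw [Equiv.ofBijective_apply]
  exact hτ i

lemma two_ne_zero_of_card_three [Fintype F] (hq : Fintype.card F = 3) : (2 : F) ≠ 0 := by
  intro h2
  have h3 : ((Fintype.card F : ℕ) : F) = 0 := Nat.cast_card_eq_zero F
  rw [hq] at h3
  have h3' : (3 : F) = 0 := by exact_mod_cast h3
  have : (1 : F) = 3 - 2 := by norm_num
  rw [h3', h2, sub_zero] at this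
  exact one_ne_zero this

/-- the hyperbolic basis adapted to a pair of complementary totally singular planes -/
lemma exists_HB4 {A B : Submodule F (Fin 2 ⊕ Fin 2 → F)}
    (hAB : Cfsg.Agent.S5649.S5649aux.LP A B) (hfr : Module.finrank F A = 2) :
    ∃ a₁ a₂ b₁ b₂ : Fin 2 ⊕ Fin 2 → F, a₁ ∈ A ∧ a₂ ∈ A ∧ b₁ ∈ B ∧ b₂ ∈ B ∧ HB4 a₁ a₂ b₁ b₂ := by
  have hAbot : A ≠ ⊥ := by
    rintro rfl
    rw [finrank_bot] at hfr
    omega
  obtain ⟨a₁, ha₁, ha₁0⟩ := Submodule.exists_mem_ne_zero_of_ne_bot hAbot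
  have hnle : ¬ A ≤ Submodule.span F {a₁} := by
    intro hle
    have := Submodule.finrank_mono hle
    rw [hfr, finrank_span_singleton ha₁0] at this
    omega
  obtain ⟨a₂, ha₂, hind⟩ := SetLike.not_le_iff_exists.1 hnle
  have ha₂0 : a₂ ≠ 0 := by
    rintro rfl
    exact hind (Submodule.zero_mem _)
  have hind' : a₁ ∉ Submodule.span F {a₂} := by
    intro hmem
    obtain ⟨r, hr⟩ := Submodule.mem_span_singleton.1 hmem
    have hr0 : r ≠ 0 := by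
      rintro rfl
      rw [zero_smul] at hr
      exact ha₁0 hr.symm
    apply hind
    rw [Submodule.mem_span_singleton]
    refine ⟨r⁻¹, ?_⟩
    rw [← hr, smul_smul, inv_mul_cancel₀ hr0, one_smul]
  obtain ⟨b₂', hb₂', h12, h22⟩ := hAB.sep ha₁ ha₂ ha₁0 hind
  obtain ⟨b₁', hb₁', h21, h11⟩ := hAB.sep ha₂ ha₁ ha₂0 hind'
  refine ⟨a₁, a₂, (sympForm 2 F a₁ b₁')⁻¹ • b₁', (sympForm 2 F a₂ b₂')⁻¹ • b₂', ha₁, ha₂,
    B.smul_mem _ hb₁', B.smul_mem _ hb₂', ?_⟩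
  refine ⟨hAB.hA a₁ ha₁ a₂ ha₂, hAB.hB _ (B.smul_mem _ hb₁') _ (B.smul_mem _ hb₂'), ?_, ?_, ?_, ?_⟩
  · rw [sympForm_smul_right, inv_mul_cancel₀ h11]
  · rw [sympForm_smul_right, h12, mul_zero]
  · rw [sympForm_smul_right, h21, mul_zero]
  · rw [sympForm_smul_right, inv_mul_cancel₀ h22]


/-- the two planes `Γ_1, Γ_{-1}` -/
noncomputable def gamPair (a₁ a₂ b₁ b₂ : Fin 2 ⊕ Fin 2 → F) :
    Fin 2 → Submodule F (Fin 2 ⊕ Fin 2 → F) :=
  ![Gam a₁ a₂ b₁ b₂ 1, Gam a₁ a₂ b₁ b₂ (-1)]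

namespace HB4

variable {a₁ a₂ b₁ b₂ : Fin 2 ⊕ Fin 2 → F} (h : HB4 a₁ a₂ b₁ b₂)
include h

lemma gam_disjoint (h2 : (2 : F) ≠ 0) :
    Disjoint (Gam a₁ a₂ b₁ b₂ 1) (Gam a₁ a₂ b₁ b₂ (-1)) := by
  rw [Submodule.disjoint_def]
  intro x hx1 hx2
  by_contra hx0
  obtain ⟨v, hv, hne⟩ := h.gam_nondeg one_ne_zero h2 hx1 hx0
  apply hne
  rw [sympForm_swap, h.gam_orth hv hx2, neg_zero]

lemma gamPair_nondegDecomp (h2 : (2 : F) ≠ 0) :
    IsNondegenerateMDecomposition (sympForm 2 F) 2 (gamPair a₁ a₂ b₁ b₂) := by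
  have hdisj := h.gam_disjoint h2
  have hfr : ∀ i, Module.finrank F (gamPair a₁ a₂ b₁ b₂ i) = 2 := by
    intro i
    fin_cases i
    · exact h.finrank_Gam 1
    · exact h.finrank_Gam (-1)
  refine ⟨⟨le_refl 2, by norm_num, hfr, ?_, ?_⟩, ?_, ?_⟩
  · rw [iSupIndep_pair (i := (0 : Fin 2)) (j := 1) (by decide) (by intro k; fin_cases k <;> simp)]
    exact hdisj
  · have hsup : Gam a₁ a₂ b₁ b₂ 1 ⊔ Gam a₁ a₂ b₁ b₂ (-1) = ⊤ := by
      apply Submodule.eq_top_of_finrank_eq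
      have h1 := Submodule.finrank_sup_add_finrank_inf_eq (Gam a₁ a₂ b₁ b₂ 1) (Gam a₁ a₂ b₁ b₂ (-1))
      rw [hdisj.eq_bot, finrank_bot, h.finrank_Gam, h.finrank_Gam] at h1
      rw [Module.finrank_fintype_fun_eq_card]
      simp only [Fintype.card_sum, Fintype.card_fin]
      omega
    rw [eq_top_iff, ← hsup]
    exact sup_le (le_iSup (gamPair a₁ a₂ b₁ b₂) 0) (le_iSup (gamPair a₁ a₂ b₁ b₂) 1)
  · intro i w hw hw0
    have key : ∀ c : F, c ≠ 0 → w ∈ Gam a₁ a₂ b₁ b₂ c →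
        (∃ x ∈ Gam a₁ a₂ b₁ b₂ c, sympForm 2 F x w ≠ 0) ∧
          (∃ x ∈ Gam a₁ a₂ b₁ b₂ c, sympForm 2 F w x ≠ 0) := by
      intro c hc hwc
      obtain ⟨v, hv, hne⟩ := h.gam_nondeg hc h2 hwc hw0
      refine ⟨⟨v, hv, ?_⟩, ⟨v, hv, hne⟩⟩
      rw [sympForm_swap]
      exact neg_ne_zero.2 hne
    fin_cases i
    · exact key 1 one_ne_zero hw
    · exact key (-1) (neg_ne_zero.2 one_ne_zero) hw
  · intro i j hij u hu v hv
    fin_cases i <;> fin_cases j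
    · exact absurd rfl hij
    · exact h.gam_orth hu hv
    · rw [sympForm_swap, h.gam_orth hv hu, neg_zero]
    · exact absurd rfl hij

lemma gamPair_injective (h2 : (2 : F) ≠ 0) : Function.Injective (gamPair a₁ a₂ b₁ b₂) := by
  have hne : Gam a₁ a₂ b₁ b₂ 1 ≠ Gam a₁ a₂ b₁ b₂ (-1) := by
    intro heq
    have hd := h.gam_disjoint h2
    rw [← heq, disjoint_self] at hd
    have := h.finrank_Gam 1
    rw [hd, finrank_bot] at this
    omega
  intro i j hij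
  fin_cases i <;> fin_cases j
  · rfl
  · exact absurd hij hne
  · exact absurd hij.symm hne
  · rfl

end HB4

theorem lagr_pair_three [Fintype F] (hq : Fintype.card F = 3)
    {D : Fin 2 → Submodule F (Fin 2 ⊕ Fin 2 → F)} (hD : IsMDecomposition 2 D)
    (hts : ∀ i, IsTotallySingularFor (sympForm 2 F) (D i)) :
    ∃ D' : Fin 2 → Submodule F (Fin 2 ⊕ Fin 2 → F),
      IsNondegenerateMDecomposition (sympForm 2 F) 2 D' ∧
      decompositionStabilizer D ⊓ spGL 2 F ≤ decompositionStabilizer D' := by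
  have h2 : (2 : F) ≠ 0 := two_ne_zero_of_card_three hq
  have hLP : Cfsg.Agent.S5649.S5649aux.LP (D 0) (D 1) := by
    refine ⟨hts 0, hts 1, ⟨?_, ?_⟩⟩
    · exact (iSupIndep_pair (i := (0 : Fin 2)) (j := 1) (by decide)
        (by intro k; fin_cases k <;> simp)).1 hD.indep
    · rw [codisjoint_iff, eq_top_iff, ← hD.iSup_eq_top]
      apply iSup_le
      intro i
      fin_cases i
      · exact le_sup_left
      · exact le_sup_right
  obtain ⟨a₁, a₂, b₁, b₂, ha₁, ha₂, hb₁, hb₂, h⟩ := exists_HB4 hLP (hD.finrank_eq 0)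
  refine ⟨gamPair a₁ a₂ b₁ b₂, h.gamPair_nondegDecomp h2, ?_⟩
  intro g hg
  obtain ⟨⟨σ, hσ⟩, hgsp⟩ := hg
  -- the action of `g` on good vectors
  have hgood : ∀ v, GoodV (D 0) (D 1) v →
      GoodV (D 0) (D 1) ((g : Matrix (Fin 2 ⊕ Fin 2) (Fin 2 ⊕ Fin 2) F) *ᵥ v) := by
    intro v hv
    have hmap : ∀ i, ∀ w ∈ D i,
        (g : Matrix (Fin 2 ⊕ Fin 2) (Fin 2 ⊕ Fin 2) F) *ᵥ w ∈ D (σ i) := by
      intro i w hw
      rw [← hσ i, ← Matrix.toLin'_apply]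
      exact Submodule.mem_map_of_mem hw
    have hcases : (σ 0 = 0 ∧ σ 1 = 1) ∨ (σ 0 = 1 ∧ σ 1 = 0) := by
      have hinj := σ.injective
      have h01 : σ 0 ≠ σ 1 := fun h' => absurd (hinj h') (by decide)
      revert h01
      generalize σ 0 = x
      generalize σ 1 = y
      fin_cases x <;> fin_cases y <;> simp
    rcases hcases with ⟨h0, h1⟩ | ⟨h0, h1⟩
    · exact hv.map hgsp (by simpa [h0] using hmap 0) (by simpa [h1] using hmap 1)
    · exact (hv.map hgsp (by simpa [h0] using hmap 0) (by simpa [h1] using hmap 1)).symm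
  have hpm : ∀ c : F, c ≠ 0 → c = 1 ∨ c = -1 := fun c hc =>
    mul_self_eq_one_iff.1 (Cfsg.Agent.Lib.Helper9.PlusPlane.mul_self_eq_one_of_card_le hq.le hc)
  have hkey : ∀ c : F, c ≠ 0 → ∀ v ∈ Gam a₁ a₂ b₁ b₂ c,
      (g : Matrix (Fin 2 ⊕ Fin 2) (Fin 2 ⊕ Fin 2) F) *ᵥ v ∈ Gam a₁ a₂ b₁ b₂ 1 ∨
        (g : Matrix (Fin 2 ⊕ Fin 2) (Fin 2 ⊕ Fin 2) F) *ᵥ v ∈ Gam a₁ a₂ b₁ b₂ (-1) := by
    intro c hc v hv
    by_cases hv0 : v = 0
    · left
      rw [hv0, Matrix.mulVec_zero]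
      exact Submodule.zero_mem _
    · have hg1 := hgood v (h.good_of_mem_gam ha₁ ha₂ hb₁ hb₂ hc hv hv0)
      obtain ⟨c', hc', hmem⟩ := h.gam_of_good (hts 0) (hts 1) ha₁ ha₂ hb₁ hb₂ hg1
      rcases hpm c' hc' with rfl | rfl
      · exact Or.inl hmem
      · exact Or.inr hmem
  have hstep : ∀ c : F, c ≠ 0 → ∃ j, (Gam a₁ a₂ b₁ b₂ c).map
      (Matrix.toLin' (g : Matrix (Fin 2 ⊕ Fin 2) (Fin 2 ⊕ Fin 2) F)) = gamPair a₁ a₂ b₁ b₂ j := by
    intro c hc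
    rcases SpMax.sub_union _ _ _ _ (hkey c hc) with h1 | h1
    · exact ⟨0, Cfsg.Agent.S5647.S5647aux.map_eq_of_maps h1
        ((h.finrank_Gam c).trans (h.finrank_Gam 1).symm)⟩
    · exact ⟨1, Cfsg.Agent.S5647.S5647aux.map_eq_of_maps h1
        ((h.finrank_Gam c).trans (h.finrank_Gam (-1)).symm)⟩
  apply mem_decStab_of_forall_exists (h.gamPair_injective h2)
  intro i
  fin_cases i
  · exact hstep 1 one_ne_zero
  · exact hstep (-1) (neg_ne_zero.2 one_ne_zero)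


end Cfsg.Agent.Lib.Helper27.SpMLeaf
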