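import Mathlib
import Cfsg.Agent.Lib.Helper27.SpMGlue
import Cfsg.Agent.Lib.Helper27.SpMS4a
import Cfsg.Agent.Lib.Helper2.SpMS4b
import Cfsg.Agent.Lib.Helper9.SpMS8c

/-!
# SpnMax glue, stage 2 (helper27): `Sp_4(q)`, `q` odd, and `Sp_8(q)`: a class member lies in a refined one or is not maximal.
-/

set_option autoImplicit false
set_option linter.unusedSectionVars false
set_option linter.unusedVariables false

namespace Cfsg.Agent.Lib.Helper27.SpMGlue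

open Cfsg Cfsg.Geo Matrix Module Cfsg.Agent.Lib.Helper27.SpM
open Cfsg.Agent.Lib.Helper26.SpMLeaf (not_le_tensorWreath)
open Cfsg.Agent.Lib.Helper5.SpMLeaf (ndec_two_le_quad)
open Cfsg.Agent.Lib.Helper9.SpMLeaf (even_of_symplecticForm tensor_plus_le_wreath)
open Cfsg.Agent.Lib.Helper27.SpMLeaf (lagr_pair_three transNZ_sp)
open Cfsg.Agent.Lib.Helper2.SpMLeaf (c3u_three_not_maximal)

variable {m : ℕ} {F : Type*} [Field F] [Fintype F]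

/-- every class member lies in a refined one or is not maximal -/
def Refines2 (m : ℕ) (F : Type*) [Field F] [Fintype F] : Prop :=
  ∀ M : Subgroup (GL (Fin m ⊕ Fin m) F), InSymplecticClass m F M →
    (∃ M', GoodSp m F M' ∧ M ≤ M') ∨ (∃ M'', M < M'' ∧ M'' < spGL m F)

theorem refines2_of_refines (h : Refines m F) : Refines2 m F := fun M hM => Or.inl (h M hM)

/-- `Asch ⇒ Concl` for a maximal subgroup, from `Refines2` -/
theorem concl_of_asch2 (hm : 2 ≤ m) (hR : Refines2 m F) {H : Subgroup (GL (Fin m ⊕ Fin m) F)}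
    (hA : AschSp m F H) (hH : IsMaximalIn (spGL m F) H) : ConclSp m F H := by
  rcases hA with ⟨M, hM, hHM⟩ | hres
  · rcases hR M hM with ⟨M', hG, hMM'⟩ | ⟨M'', hlt, hlt'⟩
    · exact Or.inl ⟨M', hG, eq_of_le_good hm hG (hHM.trans hMM') hH⟩
    · exfalso
      rcases hH.2 M'' (hHM.trans hlt.le) hlt'.le with h | h
      · exact absurd (h ▸ hlt) (not_lt_of_ge hHM)
      · exact absurd h hlt'.ne
  · exact Or.inr hres


theorem three_le_of_odd (hodd : Odd (Fintype.card F)) : 3 ≤ Fintype.card F := by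
  have := two_le_card F
  rcases hodd with ⟨j, hj⟩
  omega

theorem five_le_of_odd (hodd : Odd (Fintype.card F)) (h3 : Fintype.card F ≠ 3) : 5 ≤ Fintype.card F := by
  have := two_le_card F
  rcases hodd with ⟨j, hj⟩
  omega

/-- `Sp_4(q)`, `q` odd -/
theorem refines2_four (hoddq : Odd (Fintype.card F)) : Refines2 2 F := by
  intro M hM
  have hq3 := three_le_of_odd hoddq
  rcases hM with (⟨W, h0, hW, rfl⟩ | ⟨W, h0, hW, hdim, rfl⟩ | ⟨t, k, D, hD, rfl⟩ | ⟨D, hodd, hD, hts, rfl⟩ |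
    ⟨F₀, r, P, ζ, hr, hcard, hζ, hP, rfl⟩ | ⟨R, p, k, hR, habs, hsim, hp, hpo, hq, hcR, hZ, hmin, rfl⟩ |
    ⟨Q, heven, hQ, hpol, rfl⟩) | ⟨r, K, hr, hK, hsa, halt, rfl⟩ | ⟨K, hodd, hK, hac, hnsa, rfl⟩ |
    ⟨n₁, n₂, e, P, f₁, f₂, hodd, hn₂, hf₁, hf₂, hT, rfl⟩ | ⟨k, t, e, P, f₁, hodd, hto, ht, hex, hf₁, hT, rfl⟩
  · exact Or.inl ⟨_, Or.inl ⟨W, h0, hW, rfl⟩, le_rfl⟩
  · exact Or.inl ⟨_, Or.inr (Or.inl ⟨W, h0, hW, hdim, rfl⟩), le_rfl⟩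
  · exact Or.inl ⟨_, Or.inr (Or.inr (Or.inl ⟨t, k, D, hD, fun _ => hq3, rfl⟩)), le_rfl⟩
  · by_cases h3 : Fintype.card F = 3
    · obtain ⟨D', hD', hle⟩ := lagr_pair_three h3 hD hts
      exact Or.inl ⟨decompositionStabilizer D' ⊓ spGL 2 F,
        Or.inr (Or.inr (Or.inl ⟨2, 2, D', hD', fun _ => hq3, rfl⟩)), le_inf hle inf_le_right⟩
    · exact Or.inl ⟨_, Or.inr (Or.inr (Or.inr (Or.inl
        ⟨D, hodd, hD, hts, fun _ => five_le_of_odd hoddq h3, rfl⟩))), le_rfl⟩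
  · exact Or.inl ⟨_, Or.inr (Or.inr (Or.inr (Or.inr (Or.inl ⟨F₀, r, P, ζ, hr, hcard, hζ, hP, rfl⟩)))), le_rfl⟩
  · exact Or.inl ⟨_, Or.inr (Or.inr (Or.inr (Or.inr (Or.inr (Or.inl
      ⟨R, p, k, hR, habs, hsim, hp, hpo, hq, hcR, hZ, hmin, rfl⟩))))), le_rfl⟩
  · exact Or.inl ⟨_, Or.inr (Or.inr (Or.inr (Or.inr (Or.inr (Or.inr (Or.inl ⟨Q, heven, hQ, hpol, rfl⟩)))))), le_rfl⟩
  · exact Or.inl ⟨_, Or.inr (Or.inr (Or.inr (Or.inr (Or.inr (Or.inr (Or.inr (Or.inl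
      ⟨r, K, hr, hK, hsa, halt, rfl⟩))))))), le_rfl⟩
  · by_cases h3 : Fintype.card F = 3
    · exact Or.inr (c3u_three_not_maximal h3 hK hac hnsa)
    · exact Or.inl ⟨_, Or.inr (Or.inr (Or.inr (Or.inr (Or.inr (Or.inr (Or.inr (Or.inr (Or.inl
        ⟨K, hodd, hK, hac, hnsa, fun _ => five_le_of_odd hoddq h3, rfl⟩)))))))), le_rfl⟩
  · exfalso
    have hc := Fintype.card_congr e
    rw [card_idx, Fintype.card_prod, Fintype.card_fin, Fintype.card_fin] at hc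
    rcases even_of_symplecticForm hf₁ with ⟨j, rfl⟩
    rcases Nat.eq_zero_or_pos j with rfl | hj
    · simp at hc
    · nlinarith
  · exact Or.inl ⟨_, Or.inr (Or.inr (Or.inr (Or.inr (Or.inr (Or.inr (Or.inr (Or.inr (Or.inr (Or.inr
      ⟨k, t, e, P, f₁, hodd, hto, ht, hex, hf₁, hT, rfl⟩))))))))), le_rfl⟩

/-- `Sp_8(q)` -/
theorem refines2_eight : Refines2 4 F := by
  intro M hM
  have hq2 := two_le_card F
  have hT0 : TransNZ (spGL 4 F) := transNZ_sp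
  rcases hM with (⟨W, h0, hW, rfl⟩ | ⟨W, h0, hW, hdim, rfl⟩ | ⟨t, k, D, hD, rfl⟩ | ⟨D, hodd, hD, hts, rfl⟩ |
    ⟨F₀, r, P, ζ, hr, hcard, hζ, hP, rfl⟩ | ⟨R, p, k, hR, habs, hsim, hp, hpo, hq, hcR, hZ, hmin, rfl⟩ |
    ⟨Q, heven, hQ, hpol, rfl⟩) | ⟨r, K, hr, hK, hsa, halt, rfl⟩ | ⟨K, hodd, hK, hac, hnsa, rfl⟩ |
    ⟨n₁, n₂, e, P, f₁, f₂, hodd, hn₂, hf₁, hf₂, hT, rfl⟩ | ⟨k, t, e, P, f₁, hodd, hto, ht, hex, hf₁, hT, rfl⟩
  · exact Or.inl ⟨_, Or.inl ⟨W, h0, hW, rfl⟩, le_rfl⟩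
  · exact Or.inl ⟨_, Or.inr (Or.inl ⟨W, h0, hW, hdim, rfl⟩), le_rfl⟩
  · by_cases hk : k = 2 ∧ Fintype.card F = 2
    · obtain ⟨rfl, hq⟩ := hk
      obtain ⟨Q, hQ, hpol, hle⟩ := ndec_two_le_quad hq hD
      refine Or.inl ⟨quadSimilarityGroup Q ⊓ spGL 4 F,
        Or.inr (Or.inr (Or.inr (Or.inr (Or.inr (Or.inr (Or.inl ⟨Q, ?_, hQ, hpol, rfl⟩)))))),
        inf_le_inf_right _ hle⟩
      rw [hq]; decide
    · refine Or.inl ⟨_, Or.inr (Or.inr (Or.inl ⟨t, k, D, hD, fun hk2 => ?_, rfl⟩)), le_rfl⟩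
      by_contra hlt
      exact hk ⟨hk2, by omega⟩
  · exact Or.inl ⟨_, Or.inr (Or.inr (Or.inr (Or.inl ⟨D, hodd, hD, hts, fun h => by omega, rfl⟩))), le_rfl⟩
  · exact Or.inl ⟨_, Or.inr (Or.inr (Or.inr (Or.inr (Or.inl ⟨F₀, r, P, ζ, hr, hcard, hζ, hP, rfl⟩)))), le_rfl⟩
  · exact Or.inl ⟨_, Or.inr (Or.inr (Or.inr (Or.inr (Or.inr (Or.inl
      ⟨R, p, k, hR, habs, hsim, hp, hpo, hq, hcR, hZ, hmin, rfl⟩))))), le_rfl⟩
  · exact Or.inl ⟨_, Or.inr (Or.inr (Or.inr (Or.inr (Or.inr (Or.inr (Or.inl ⟨Q, heven, hQ, hpol, rfl⟩)))))), le_rfl⟩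
  · exact Or.inl ⟨_, Or.inr (Or.inr (Or.inr (Or.inr (Or.inr (Or.inr (Or.inr (Or.inl
      ⟨r, K, hr, hK, hsa, halt, rfl⟩))))))), le_rfl⟩
  · exact Or.inl ⟨_, Or.inr (Or.inr (Or.inr (Or.inr (Or.inr (Or.inr (Or.inr (Or.inr (Or.inl
      ⟨K, hodd, hK, hac, hnsa, fun h => by omega, rfl⟩)))))))), le_rfl⟩
  · have hc := Fintype.card_congr e
    rw [card_idx, Fintype.card_prod, Fintype.card_fin, Fintype.card_fin] at hc
    have he := even_of_symplecticForm hf₁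
    have hdv : n₂ ∣ 8 := Dvd.intro_left n₁ hc.symm
    have hn8 : n₂ ≤ 8 := Nat.le_of_dvd (by norm_num) hdv
    obtain ⟨rfl, rfl⟩ : n₁ = 2 ∧ n₂ = 4 := by
      rcases he with ⟨j, rfl⟩
      interval_cases n₂ <;> omega
    by_cases hplus : IsPlusTypeOn (fun v : Fin 4 → F => f₂ v v) ⊤
    · obtain ⟨e', P', f₁', hf₁', hT', hle, hnle⟩ := tensor_plus_le_wreath hodd e P f₁ f₂ hf₁ hf₂ hplus hT
      by_cases h3 : Fintype.card F = 3
      · refine Or.inr ⟨tensorWreathSubgroup 2 3 e' P' ⊓ spGL 4 F, ?_, ?_⟩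
        · refine lt_of_le_of_ne (le_inf hle inf_le_right) fun heq => hnle ?_
          rw [← heq]
          exact inf_le_left
        · refine lt_of_le_of_ne inf_le_right fun heq => ?_
          exact not_le_tensorWreath hT0 e' P' le_rfl (by norm_num) (heq.ge.trans inf_le_left)
      · exact Or.inl ⟨tensorWreathSubgroup 2 3 e' P' ⊓ spGL 4 F,
          Or.inr (Or.inr (Or.inr (Or.inr (Or.inr (Or.inr (Or.inr (Or.inr (Or.inr (Or.inr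
          ⟨2, 3, e', P', f₁', hodd, by decide, le_rfl, fun h => h3 h.1, hf₁', hT', rfl⟩))))))))),
          le_inf hle inf_le_right⟩
    · exact Or.inl ⟨_, Or.inr (Or.inr (Or.inr (Or.inr (Or.inr (Or.inr (Or.inr (Or.inr (Or.inr (Or.inl
        ⟨2, 4, e, P, f₁, f₂, hodd, hn₂, hf₁, hf₂, hT, fun h => by omega, fun _ _ => hplus, rfl⟩))))))))), le_rfl⟩
  · exact Or.inl ⟨_, Or.inr (Or.inr (Or.inr (Or.inr (Or.inr (Or.inr (Or.inr (Or.inr (Or.inr (Or.inr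
      ⟨k, t, e, P, f₁, hodd, hto, ht, hex, hf₁, hT, rfl⟩))))))))), le_rfl⟩

end Cfsg.Agent.Lib.Helper27.SpMGlue
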