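import Mathlib
import Cfsg.Agent.Lib.Helper27.SpMGlue

/-!
# SpnMax rows (helper27): the rows S5790 S5805 S5844 S5868 from S5662 (as a hypothesis `AschSpStmt m F`)
-/

set_option autoImplicit false
set_option linter.unusedSectionVars false
set_option linter.unusedVariables false
set_option maxHeartbeats 1000000

namespace Cfsg.Agent.Lib.Helper27.SpMRows

open Cfsg Cfsg.Geo Matrix Module Cfsg.Agent.Lib.Helper27.SpM Cfsg.Agent.Lib.Helper27.SpMLeaf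
open Cfsg.Agent.Lib.Helper26.SpMLeaf (not_le_subspace not_le_dec not_le_tensor not_le_tensorWreath not_le_subfield)
open Cfsg.Agent.Lib.Helper16.SpMLeaf (not_sp_le_field not_sp_le_quad)
open Cfsg.Agent.Lib.Helper12.SpMLeaf (not_sp_le_symplType)
open Cfsg.Agent.Lib.Helper5.SpMLeaf (ndec_two_le_quad tensor_three_le_ndec)
open Cfsg.Agent.Lib.Helper9.SpMLeaf (ndec_card two_le_finrank_of_nondeg even_of_symplecticForm c6_card c3s_dvd)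
open Cfsg.Agent.Lib.Helper27.SpMGlue

theorem pow_two_cases {n k : ℕ} (h : n = 2 ^ k) (hn : n < 16) : k < 4 := by
  by_contra hk
  have := Nat.pow_le_pow_right (by norm_num : 1 ≤ 2) (not_lt.mp hk)
  omega

theorem c7_impossible {n k t : ℕ} (h : n = k ^ t) (ht : 3 ≤ t) (hk : Even k) (hn0 : 0 < n) (hn8 : n ≠ 8)
    (hn16 : n < 16) : False := by
  rcases hk with ⟨j, rfl⟩
  rcases Nat.eq_zero_or_pos j with rfl | hj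
  · rw [zero_add, zero_pow (by omega)] at h; omega
  · have h2 : 2 ≤ j + j := by omega
    by_cases hj1 : j = 1
    · subst hj1
      by_cases ht3 : t = 3
      · subst ht3; norm_num at h; omega
      · have : 2 ^ 4 ≤ (1 + 1) ^ t := Nat.pow_le_pow_right (by norm_num) (by omega)
        omega
    · have h1 : 4 ^ 3 ≤ (j + j) ^ 3 := Nat.pow_le_pow_left (by omega) 3
      have h3 : (j + j) ^ 3 ≤ (j + j) ^ t := Nat.pow_le_pow_right (by omega) ht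
      omega

theorem row5790 {F : Type*} [Field F] [Fintype F] (hS : AschSpStmt 2 F) (heven : ¬ Odd (Fintype.card F)) (h4 : 4 ≤ Fintype.card F) (H : Subgroup (Matrix.GeneralLinearGroup (Fin 2 ⊕ Fin 2) F)) (hH : Cfsg.Geo.IsMaximalIn (Cfsg.spGL 2 F) H) :
    (∃ W : Submodule F (Fin 2 ⊕ Fin 2 → F), W ≠ ⊥ ∧ Cfsg.Geo.IsTotallySingularFor (Cfsg.sympForm 2 F) W ∧ H = Cfsg.Geo.subspaceStabilizer W ⊓ Cfsg.spGL 2 F) ∨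
    (∃ D : Fin 2 → Submodule F (Fin 2 ⊕ Fin 2 → F), Cfsg.Geo.IsNondegenerateMDecomposition (Cfsg.sympForm 2 F) 2 D ∧ H = Cfsg.Geo.decompositionStabilizer D ⊓ Cfsg.spGL 2 F) ∨
    (∃ K : Subalgebra F (Matrix (Fin 2 ⊕ Fin 2) (Fin 2 ⊕ Fin 2) F), Cfsg.Geo.IsFieldSubalgebra 2 K ∧ Cfsg.Geo.IsSelfAdjointFor (Cfsg.sympForm 2 F) K ∧ (∀ k ∈ K, ∀ v : (Fin 2 ⊕ Fin 2 → F), (Cfsg.sympForm 2 F) (Matrix.mulVec k v) v = 0) ∧ H = Cfsg.Geo.subalgebraNormalizer K ⊓ Cfsg.spGL 2 F) ∨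
    (∃ (F₀ : Subfield F) (r : ℕ) (P : Matrix.GeneralLinearGroup (Fin 2 ⊕ Fin 2) F) (ζ : F), r.Prime ∧ Fintype.card F = Nat.card F₀ ^ r ∧ ζ ≠ 0 ∧ Cfsg.Geo.IsFormRationalStructure (Cfsg.sympForm 2 F) F₀ ζ P ∧ H = Cfsg.Geo.subfieldSubgroup F₀ P ⊓ Cfsg.spGL 2 F) ∨
    (∃ Q : (Fin 2 ⊕ Fin 2 → F) → F, Cfsg.Geo.IsNondegenerateQuadraticForm Q ∧ (∀ u v : (Fin 2 ⊕ Fin 2 → F), QuadraticMap.polar Q u v = (Cfsg.sympForm 2 F) u v) ∧ H = Cfsg.Geo.quadSimilarityGroup Q ⊓ Cfsg.spGL 2 F) ∨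
    Cfsg.Geo.InSymplecticResidualClass H := by
  have hperf : ⁅spGL 2 F, spGL 2 F⁆ = spGL 2 F := sp_perfect (Or.inr (Or.inr h4))
  have hC := concl_of_asch (by omega) (refines_stage1 (by omega) (fun _ => heven) (by omega)) (asch_of_maximal hS hperf hH) hH
  rcases hC with ⟨M, hG, rfl⟩ | hres
  swap
  · exact (Or.inr (Or.inr (Or.inr (Or.inr (Or.inr hres)))))
  rcases hG with ⟨W, h0, hW, rfl⟩ | ⟨W, h0, hW, hdim, rfl⟩ | ⟨t, k, D, hD, hk, rfl⟩ | ⟨D, hodd, hD, hts, hm2, rfl⟩ |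
    ⟨F₀, r, P, ζ, hr, hcard, hζ, hP, rfl⟩ | ⟨R, p, k, hR, habs, hsim, hp, hpo, hq, hcR, hZ, hmin, rfl⟩ |
    ⟨Q, heven', hQ, hpol, rfl⟩ | ⟨r, K, hr, hK, hsa, halt, rfl⟩ | ⟨K, hodd, hK, hac, hnsa, hm2, rfl⟩ |
    ⟨n₁, n₂, e, P, f₁, f₂, hodd, hn₂, hf₁, hf₂, hT, h3, hplus, rfl⟩ | ⟨k, t, e, P, f₁, hodd, hto, ht, hex, hf₁, hT, rfl⟩
  · exact (Or.inl ⟨W, h0, hW, rfl⟩)
  · exfalso
    have := two_le_finrank_of_nondeg h0 hW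
    omega
  · obtain ⟨hc, he⟩ := ndec_card hD
    have h2 := hD.decomp.two_le
    have hdv : t ∣ 4 := Dvd.intro k hc
    have ht6 : t ≤ 4 := Nat.le_of_dvd (by norm_num) hdv
    obtain ⟨rfl, rfl⟩ : t = 2 ∧ k = 2 := by
      rcases he with ⟨j, rfl⟩
      interval_cases t <;> omega
    exact (Or.inr (Or.inl ⟨D, hD, rfl⟩))
  · exact absurd hodd heven
  · exact (Or.inr (Or.inr (Or.inr (Or.inl ⟨F₀, r, P, ζ, hr, hcard, hζ, hP, rfl⟩))))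
  · exfalso
    rw [hq] at heven
    exact heven hpo
  · exact (Or.inr (Or.inr (Or.inr (Or.inr (Or.inl ⟨Q, hQ, hpol, rfl⟩)))))
  · have hd := c3s_dvd (by omega) hK hsa halt
    obtain rfl : r = 2 := (Nat.prime_dvd_prime_iff_eq hr (by norm_num)).mp hd
    exact (Or.inr (Or.inr (Or.inl ⟨K, hK, hsa, halt, rfl⟩)))
  · exact absurd hodd heven
  · exact absurd hodd heven
  · exact absurd hodd heven

theorem row5805 {F : Type*} [Field F] [Fintype F] (hS : AschSpStmt 3 F) (H : Subgroup (Matrix.GeneralLinearGroup (Fin 3 ⊕ Fin 3) F)) (hH : Cfsg.Geo.IsMaximalIn (Cfsg.spGL 3 F) H) :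
    (∃ W : Submodule F (Fin 3 ⊕ Fin 3 → F), W ≠ ⊥ ∧ Cfsg.Geo.IsTotallySingularFor (Cfsg.sympForm 3 F) W ∧ H = Cfsg.Geo.subspaceStabilizer W ⊓ Cfsg.spGL 3 F) ∨
    (∃ W : Submodule F (Fin 3 ⊕ Fin 3 → F), W ≠ ⊥ ∧ Cfsg.Geo.IsNondegenerateOn (Cfsg.sympForm 3 F) W ∧ Module.finrank F W < 3 ∧ H = Cfsg.Geo.subspaceStabilizer W ⊓ Cfsg.spGL 3 F) ∨
    (3 ≤ Fintype.card F ∧ ∃ D : Fin 3 → Submodule F (Fin 3 ⊕ Fin 3 → F), Cfsg.Geo.IsNondegenerateMDecomposition (Cfsg.sympForm 3 F) 2 D ∧ H = Cfsg.Geo.decompositionStabilizer D ⊓ Cfsg.spGL 3 F) ∨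
    (Odd (Fintype.card F) ∧ ∃ D : Fin 2 → Submodule F (Fin 3 ⊕ Fin 3 → F), Cfsg.Geo.IsMDecomposition 3 D ∧ (∀ i, Cfsg.Geo.IsTotallySingularFor (Cfsg.sympForm 3 F) (D i)) ∧ H = Cfsg.Geo.decompositionStabilizer D ⊓ Cfsg.spGL 3 F) ∨
    (∃ K : Subalgebra F (Matrix (Fin 3 ⊕ Fin 3) (Fin 3 ⊕ Fin 3) F), Cfsg.Geo.IsFieldSubalgebra 3 K ∧ Cfsg.Geo.IsSelfAdjointFor (Cfsg.sympForm 3 F) K ∧ (∀ k ∈ K, ∀ v : (Fin 3 ⊕ Fin 3 → F), (Cfsg.sympForm 3 F) (Matrix.mulVec k v) v = 0) ∧ H = Cfsg.Geo.subalgebraNormalizer K ⊓ Cfsg.spGL 3 F) ∨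
    (Odd (Fintype.card F) ∧ ∃ K : Subalgebra F (Matrix (Fin 3 ⊕ Fin 3) (Fin 3 ⊕ Fin 3) F), Cfsg.Geo.IsFieldSubalgebra 2 K ∧ Cfsg.Geo.IsAdjointClosedFor (Cfsg.sympForm 3 F) K ∧ ¬ Cfsg.Geo.IsSelfAdjointFor (Cfsg.sympForm 3 F) K ∧ H = Cfsg.Geo.subalgebraNormalizer K ⊓ Cfsg.spGL 3 F) ∨
    (Odd (Fintype.card F) ∧ 5 ≤ Fintype.card F ∧ ∃ (e : (Fin 3 ⊕ Fin 3) ≃ Fin 2 × Fin 3) (P : Matrix.GeneralLinearGroup (Fin 3 ⊕ Fin 3) F) (f₁ : (Fin 2 → F) → (Fin 2 → F) → F) (f₂ : (Fin 3 → F) → (Fin 3 → F) → F), Cfsg.Geo.IsSymplecticForm f₁ ∧ Cfsg.Geo.IsSymmetricForm f₂ ∧ Cfsg.Geo.IsTensorFormStructure id (Cfsg.sympForm 3 F) f₁ f₂ e P ∧ H = Cfsg.Geo.tensorProductSubgroup 2 3 e P ⊓ Cfsg.spGL 3 F) ∨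
    (∃ (F₀ : Subfield F) (r : ℕ) (P : Matrix.GeneralLinearGroup (Fin 3 ⊕ Fin 3) F) (ζ : F), r.Prime ∧ Fintype.card F = Nat.card F₀ ^ r ∧ ζ ≠ 0 ∧ Cfsg.Geo.IsFormRationalStructure (Cfsg.sympForm 3 F) F₀ ζ P ∧ H = Cfsg.Geo.subfieldSubgroup F₀ P ⊓ Cfsg.spGL 3 F) ∨
    (¬ Odd (Fintype.card F) ∧ ∃ Q : (Fin 3 ⊕ Fin 3 → F) → F, Cfsg.Geo.IsNondegenerateQuadraticForm Q ∧ (∀ u v : (Fin 3 ⊕ Fin 3 → F), QuadraticMap.polar Q u v = (Cfsg.sympForm 3 F) u v) ∧ H = Cfsg.Geo.quadSimilarityGroup Q ⊓ Cfsg.spGL 3 F) ∨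
    Cfsg.Geo.InSymplecticResidualClass H := by
  have hperf : ⁅spGL 3 F, spGL 3 F⁆ = spGL 3 F := sp_perfect (Or.inl le_rfl)
  have hC := concl_of_asch (by omega) (refines_stage1 (by omega) (by omega) (by omega)) (asch_of_maximal hS hperf hH) hH
  rcases hC with ⟨M, hG, rfl⟩ | hres
  swap
  · exact (Or.inr (Or.inr (Or.inr (Or.inr (Or.inr (Or.inr (Or.inr (Or.inr (Or.inr hres)))))))))
  rcases hG with ⟨W, h0, hW, rfl⟩ | ⟨W, h0, hW, hdim, rfl⟩ | ⟨t, k, D, hD, hk, rfl⟩ | ⟨D, hodd, hD, hts, hm2, rfl⟩ |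
    ⟨F₀, r, P, ζ, hr, hcard, hζ, hP, rfl⟩ | ⟨R, p, k, hR, habs, hsim, hp, hpo, hq, hcR, hZ, hmin, rfl⟩ |
    ⟨Q, heven', hQ, hpol, rfl⟩ | ⟨r, K, hr, hK, hsa, halt, rfl⟩ | ⟨K, hodd, hK, hac, hnsa, hm2, rfl⟩ |
    ⟨n₁, n₂, e, P, f₁, f₂, hodd, hn₂, hf₁, hf₂, hT, h3, hplus, rfl⟩ | ⟨k, t, e, P, f₁, hodd, hto, ht, hex, hf₁, hT, rfl⟩
  · exact (Or.inl ⟨W, h0, hW, rfl⟩)
  · exact (Or.inr (Or.inl ⟨W, h0, hW, hdim, rfl⟩))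
  · obtain ⟨hc, he⟩ := ndec_card hD
    have h2 := hD.decomp.two_le
    have hdv : t ∣ 6 := Dvd.intro k hc
    have ht6 : t ≤ 6 := Nat.le_of_dvd (by norm_num) hdv
    obtain ⟨rfl, rfl⟩ : t = 3 ∧ k = 2 := by
      rcases he with ⟨j, rfl⟩
      interval_cases t <;> omega
    exact (Or.inr (Or.inr (Or.inl ⟨hk rfl, D, hD, rfl⟩)))
  · exact (Or.inr (Or.inr (Or.inr (Or.inl ⟨hodd, D, hD, hts, rfl⟩))))
  · exact (Or.inr (Or.inr (Or.inr (Or.inr (Or.inr (Or.inr (Or.inr (Or.inl ⟨F₀, r, P, ζ, hr, hcard, hζ, hP, rfl⟩))))))))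
  · exfalso
    have h := c6_card (by omega) (by rw [hq]; exact hpo) hR habs hcR hZ
    have hk4 := pow_two_cases h (by norm_num)
    interval_cases k <;> omega
  · exact (Or.inr (Or.inr (Or.inr (Or.inr (Or.inr (Or.inr (Or.inr (Or.inr (Or.inl ⟨heven', Q, hQ, hpol, rfl⟩)))))))))
  · have hd := c3s_dvd (by omega) hK hsa halt
    obtain rfl : r = 3 := (Nat.prime_dvd_prime_iff_eq hr (by norm_num)).mp hd
    exact (Or.inr (Or.inr (Or.inr (Or.inr (Or.inl ⟨K, hK, hsa, halt, rfl⟩)))))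
  · exact (Or.inr (Or.inr (Or.inr (Or.inr (Or.inr (Or.inl ⟨hodd, K, hK, hac, hnsa, rfl⟩))))))
  · have hc := Fintype.card_congr e
    rw [card_idx, Fintype.card_prod, Fintype.card_fin, Fintype.card_fin] at hc
    have he := even_of_symplecticForm hf₁
    have hdv : n₂ ∣ 6 := Dvd.intro_left n₁ hc.symm
    have hn6 : n₂ ≤ 6 := Nat.le_of_dvd (by norm_num) hdv
    obtain ⟨rfl, rfl⟩ : n₁ = 2 ∧ n₂ = 3 := by
      rcases he with ⟨j, rfl⟩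
      interval_cases n₂ <;> omega
    exact (Or.inr (Or.inr (Or.inr (Or.inr (Or.inr (Or.inr (Or.inl ⟨hodd, h3 rfl, e, P, f₁, f₂, hf₁, hf₂, hT, rfl⟩)))))))
  · exfalso
    have hc := Fintype.card_congr e
    rw [card_idx, Fintype.card_fun, Fintype.card_fin, Fintype.card_fin] at hc
    exact c7_impossible hc ht (even_of_symplecticForm hf₁) (by norm_num) (by norm_num) (by norm_num)

theorem row5844 {F : Type*} [Field F] [Fintype F] (hS : AschSpStmt 5 F) (H : Subgroup (Matrix.GeneralLinearGroup (Fin 5 ⊕ Fin 5) F)) (hH : Cfsg.Geo.IsMaximalIn (Cfsg.spGL 5 F) H) :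
    (∃ W : Submodule F (Fin 5 ⊕ Fin 5 → F), W ≠ ⊥ ∧ Cfsg.Geo.IsTotallySingularFor (Cfsg.sympForm 5 F) W ∧ H = Cfsg.Geo.subspaceStabilizer W ⊓ Cfsg.spGL 5 F) ∨
    (∃ W : Submodule F (Fin 5 ⊕ Fin 5 → F), W ≠ ⊥ ∧ Cfsg.Geo.IsNondegenerateOn (Cfsg.sympForm 5 F) W ∧ Module.finrank F W < 5 ∧ H = Cfsg.Geo.subspaceStabilizer W ⊓ Cfsg.spGL 5 F) ∨
    (3 ≤ Fintype.card F ∧ ∃ D : Fin 5 → Submodule F (Fin 5 ⊕ Fin 5 → F), Cfsg.Geo.IsNondegenerateMDecomposition (Cfsg.sympForm 5 F) 2 D ∧ H = Cfsg.Geo.decompositionStabilizer D ⊓ Cfsg.spGL 5 F) ∨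
    (Odd (Fintype.card F) ∧ ∃ D : Fin 2 → Submodule F (Fin 5 ⊕ Fin 5 → F), Cfsg.Geo.IsMDecomposition 5 D ∧ (∀ i, Cfsg.Geo.IsTotallySingularFor (Cfsg.sympForm 5 F) (D i)) ∧ H = Cfsg.Geo.decompositionStabilizer D ⊓ Cfsg.spGL 5 F) ∨
    (∃ K : Subalgebra F (Matrix (Fin 5 ⊕ Fin 5) (Fin 5 ⊕ Fin 5) F), Cfsg.Geo.IsFieldSubalgebra 5 K ∧ Cfsg.Geo.IsSelfAdjointFor (Cfsg.sympForm 5 F) K ∧ (∀ k ∈ K, ∀ v : (Fin 5 ⊕ Fin 5 → F), (Cfsg.sympForm 5 F) (Matrix.mulVec k v) v = 0) ∧ H = Cfsg.Geo.subalgebraNormalizer K ⊓ Cfsg.spGL 5 F) ∨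
    (Odd (Fintype.card F) ∧ ∃ K : Subalgebra F (Matrix (Fin 5 ⊕ Fin 5) (Fin 5 ⊕ Fin 5) F), Cfsg.Geo.IsFieldSubalgebra 2 K ∧ Cfsg.Geo.IsAdjointClosedFor (Cfsg.sympForm 5 F) K ∧ ¬ Cfsg.Geo.IsSelfAdjointFor (Cfsg.sympForm 5 F) K ∧ H = Cfsg.Geo.subalgebraNormalizer K ⊓ Cfsg.spGL 5 F) ∨
    (Odd (Fintype.card F) ∧ ∃ (e : (Fin 5 ⊕ Fin 5) ≃ Fin 2 × Fin 5) (P : Matrix.GeneralLinearGroup (Fin 5 ⊕ Fin 5) F) (f₁ : (Fin 2 → F) → (Fin 2 → F) → F) (f₂ : (Fin 5 → F) → (Fin 5 → F) → F), Cfsg.Geo.IsSymplecticForm f₁ ∧ Cfsg.Geo.IsSymmetricForm f₂ ∧ Cfsg.Geo.IsTensorFormStructure id (Cfsg.sympForm 5 F) f₁ f₂ e P ∧ H = Cfsg.Geo.tensorProductSubgroup 2 5 e P ⊓ Cfsg.spGL 5 F) ∨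
    (∃ (F₀ : Subfield F) (r : ℕ) (P : Matrix.GeneralLinearGroup (Fin 5 ⊕ Fin 5) F) (ζ : F), r.Prime ∧ Fintype.card F = Nat.card F₀ ^ r ∧ ζ ≠ 0 ∧ Cfsg.Geo.IsFormRationalStructure (Cfsg.sympForm 5 F) F₀ ζ P ∧ H = Cfsg.Geo.subfieldSubgroup F₀ P ⊓ Cfsg.spGL 5 F) ∨
    (¬ Odd (Fintype.card F) ∧ ∃ Q : (Fin 5 ⊕ Fin 5 → F) → F, Cfsg.Geo.IsNondegenerateQuadraticForm Q ∧ (∀ u v : (Fin 5 ⊕ Fin 5 → F), QuadraticMap.polar Q u v = (Cfsg.sympForm 5 F) u v) ∧ H = Cfsg.Geo.quadSimilarityGroup Q ⊓ Cfsg.spGL 5 F) ∨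
    Cfsg.Geo.InSymplecticResidualClass H := by
  have hperf : ⁅spGL 5 F, spGL 5 F⁆ = spGL 5 F := sp_perfect (Or.inl (by norm_num))
  have hC := concl_of_asch (by omega) (refines_stage1 (by omega) (by omega) (by omega)) (asch_of_maximal hS hperf hH) hH
  rcases hC with ⟨M, hG, rfl⟩ | hres
  swap
  · exact (Or.inr (Or.inr (Or.inr (Or.inr (Or.inr (Or.inr (Or.inr (Or.inr (Or.inr hres)))))))))
  rcases hG with ⟨W, h0, hW, rfl⟩ | ⟨W, h0, hW, hdim, rfl⟩ | ⟨t, k, D, hD, hk, rfl⟩ | ⟨D, hodd, hD, hts, hm2, rfl⟩ |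
    ⟨F₀, r, P, ζ, hr, hcard, hζ, hP, rfl⟩ | ⟨R, p, k, hR, habs, hsim, hp, hpo, hq, hcR, hZ, hmin, rfl⟩ |
    ⟨Q, heven', hQ, hpol, rfl⟩ | ⟨r, K, hr, hK, hsa, halt, rfl⟩ | ⟨K, hodd, hK, hac, hnsa, hm2, rfl⟩ |
    ⟨n₁, n₂, e, P, f₁, f₂, hodd, hn₂, hf₁, hf₂, hT, h3, hplus, rfl⟩ | ⟨k, t, e, P, f₁, hodd, hto, ht, hex, hf₁, hT, rfl⟩
  · exact (Or.inl ⟨W, h0, hW, rfl⟩)
  · exact (Or.inr (Or.inl ⟨W, h0, hW, hdim, rfl⟩))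
  · obtain ⟨hc, he⟩ := ndec_card hD
    have h2 := hD.decomp.two_le
    have hdv : t ∣ 10 := Dvd.intro k hc
    have ht6 : t ≤ 10 := Nat.le_of_dvd (by norm_num) hdv
    obtain ⟨rfl, rfl⟩ : t = 5 ∧ k = 2 := by
      rcases he with ⟨j, rfl⟩
      interval_cases t <;> omega
    exact (Or.inr (Or.inr (Or.inl ⟨hk rfl, D, hD, rfl⟩)))
  · exact (Or.inr (Or.inr (Or.inr (Or.inl ⟨hodd, D, hD, hts, rfl⟩))))
  · exact (Or.inr (Or.inr (Or.inr (Or.inr (Or.inr (Or.inr (Or.inr (Or.inl ⟨F₀, r, P, ζ, hr, hcard, hζ, hP, rfl⟩))))))))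
  · exfalso
    have h := c6_card (by omega) (by rw [hq]; exact hpo) hR habs hcR hZ
    have hk4 := pow_two_cases h (by norm_num)
    interval_cases k <;> omega
  · exact (Or.inr (Or.inr (Or.inr (Or.inr (Or.inr (Or.inr (Or.inr (Or.inr (Or.inl ⟨heven', Q, hQ, hpol, rfl⟩)))))))))
  · have hd := c3s_dvd (by omega) hK hsa halt
    obtain rfl : r = 5 := (Nat.prime_dvd_prime_iff_eq hr (by norm_num)).mp hd
    exact (Or.inr (Or.inr (Or.inr (Or.inr (Or.inl ⟨K, hK, hsa, halt, rfl⟩)))))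
  · exact (Or.inr (Or.inr (Or.inr (Or.inr (Or.inr (Or.inl ⟨hodd, K, hK, hac, hnsa, rfl⟩))))))
  · have hc := Fintype.card_congr e
    rw [card_idx, Fintype.card_prod, Fintype.card_fin, Fintype.card_fin] at hc
    have he := even_of_symplecticForm hf₁
    have hdv : n₂ ∣ 10 := Dvd.intro_left n₁ hc.symm
    have hn6 : n₂ ≤ 10 := Nat.le_of_dvd (by norm_num) hdv
    obtain ⟨rfl, rfl⟩ : n₁ = 2 ∧ n₂ = 5 := by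
      rcases he with ⟨j, rfl⟩
      interval_cases n₂ <;> omega
    exact (Or.inr (Or.inr (Or.inr (Or.inr (Or.inr (Or.inr (Or.inl ⟨hodd, e, P, f₁, f₂, hf₁, hf₂, hT, rfl⟩)))))))
  · exfalso
    have hc := Fintype.card_congr e
    rw [card_idx, Fintype.card_fun, Fintype.card_fin, Fintype.card_fin] at hc
    exact c7_impossible hc ht (even_of_symplecticForm hf₁) (by norm_num) (by norm_num) (by norm_num)

theorem row5868 {F : Type*} [Field F] [Fintype F] (hS : AschSpStmt 6 F) (H : Subgroup (Matrix.GeneralLinearGroup (Fin 6 ⊕ Fin 6) F)) (hH : Cfsg.Geo.IsMaximalIn (Cfsg.spGL 6 F) H) :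
    (∃ W : Submodule F (Fin 6 ⊕ Fin 6 → F), W ≠ ⊥ ∧ Cfsg.Geo.IsTotallySingularFor (Cfsg.sympForm 6 F) W ∧ H = Cfsg.Geo.subspaceStabilizer W ⊓ Cfsg.spGL 6 F) ∨
    (∃ W : Submodule F (Fin 6 ⊕ Fin 6 → F), W ≠ ⊥ ∧ Cfsg.Geo.IsNondegenerateOn (Cfsg.sympForm 6 F) W ∧ Module.finrank F W < 6 ∧ H = Cfsg.Geo.subspaceStabilizer W ⊓ Cfsg.spGL 6 F) ∨
    (3 ≤ Fintype.card F ∧ ∃ D : Fin 6 → Submodule F (Fin 6 ⊕ Fin 6 → F), Cfsg.Geo.IsNondegenerateMDecomposition (Cfsg.sympForm 6 F) 2 D ∧ H = Cfsg.Geo.decompositionStabilizer D ⊓ Cfsg.spGL 6 F) ∨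
    (∃ D : Fin 3 → Submodule F (Fin 6 ⊕ Fin 6 → F), Cfsg.Geo.IsNondegenerateMDecomposition (Cfsg.sympForm 6 F) 4 D ∧ H = Cfsg.Geo.decompositionStabilizer D ⊓ Cfsg.spGL 6 F) ∨
    (∃ D : Fin 2 → Submodule F (Fin 6 ⊕ Fin 6 → F), Cfsg.Geo.IsNondegenerateMDecomposition (Cfsg.sympForm 6 F) 6 D ∧ H = Cfsg.Geo.decompositionStabilizer D ⊓ Cfsg.spGL 6 F) ∨
    (Odd (Fintype.card F) ∧ ∃ D : Fin 2 → Submodule F (Fin 6 ⊕ Fin 6 → F), Cfsg.Geo.IsMDecomposition 6 D ∧ (∀ i, Cfsg.Geo.IsTotallySingularFor (Cfsg.sympForm 6 F) (D i)) ∧ H = Cfsg.Geo.decompositionStabilizer D ⊓ Cfsg.spGL 6 F) ∨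
    (∃ K : Subalgebra F (Matrix (Fin 6 ⊕ Fin 6) (Fin 6 ⊕ Fin 6) F), Cfsg.Geo.IsFieldSubalgebra 2 K ∧ Cfsg.Geo.IsSelfAdjointFor (Cfsg.sympForm 6 F) K ∧ (∀ k ∈ K, ∀ v : (Fin 6 ⊕ Fin 6 → F), (Cfsg.sympForm 6 F) (Matrix.mulVec k v) v = 0) ∧ H = Cfsg.Geo.subalgebraNormalizer K ⊓ Cfsg.spGL 6 F) ∨
    (∃ K : Subalgebra F (Matrix (Fin 6 ⊕ Fin 6) (Fin 6 ⊕ Fin 6) F), Cfsg.Geo.IsFieldSubalgebra 3 K ∧ Cfsg.Geo.IsSelfAdjointFor (Cfsg.sympForm 6 F) K ∧ (∀ k ∈ K, ∀ v : (Fin 6 ⊕ Fin 6 → F), (Cfsg.sympForm 6 F) (Matrix.mulVec k v) v = 0) ∧ H = Cfsg.Geo.subalgebraNormalizer K ⊓ Cfsg.spGL 6 F) ∨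
    (Odd (Fintype.card F) ∧ ∃ K : Subalgebra F (Matrix (Fin 6 ⊕ Fin 6) (Fin 6 ⊕ Fin 6) F), Cfsg.Geo.IsFieldSubalgebra 2 K ∧ Cfsg.Geo.IsAdjointClosedFor (Cfsg.sympForm 6 F) K ∧ ¬ Cfsg.Geo.IsSelfAdjointFor (Cfsg.sympForm 6 F) K ∧ H = Cfsg.Geo.subalgebraNormalizer K ⊓ Cfsg.spGL 6 F) ∨
    (Odd (Fintype.card F) ∧ ∃ (e : (Fin 6 ⊕ Fin 6) ≃ Fin 2 × Fin 6) (P : Matrix.GeneralLinearGroup (Fin 6 ⊕ Fin 6) F) (f₁ : (Fin 2 → F) → (Fin 2 → F) → F) (f₂ : (Fin 6 → F) → (Fin 6 → F) → F), Cfsg.Geo.IsSymplecticForm f₁ ∧ Cfsg.Geo.IsSymmetricForm f₂ ∧ Cfsg.Geo.IsTensorFormStructure id (Cfsg.sympForm 6 F) f₁ f₂ e P ∧ H = Cfsg.Geo.tensorProductSubgroup 2 6 e P ⊓ Cfsg.spGL 6 F) ∨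
    (Odd (Fintype.card F) ∧ 5 ≤ Fintype.card F ∧ ∃ (e : (Fin 6 ⊕ Fin 6) ≃ Fin 4 × Fin 3) (P : Matrix.GeneralLinearGroup (Fin 6 ⊕ Fin 6) F) (f₁ : (Fin 4 → F) → (Fin 4 → F) → F) (f₂ : (Fin 3 → F) → (Fin 3 → F) → F), Cfsg.Geo.IsSymplecticForm f₁ ∧ Cfsg.Geo.IsSymmetricForm f₂ ∧ Cfsg.Geo.IsTensorFormStructure id (Cfsg.sympForm 6 F) f₁ f₂ e P ∧ H = Cfsg.Geo.tensorProductSubgroup 4 3 e P ⊓ Cfsg.spGL 6 F) ∨
    (∃ (F₀ : Subfield F) (r : ℕ) (P : Matrix.GeneralLinearGroup (Fin 6 ⊕ Fin 6) F) (ζ : F), r.Prime ∧ Fintype.card F = Nat.card F₀ ^ r ∧ ζ ≠ 0 ∧ Cfsg.Geo.IsFormRationalStructure (Cfsg.sympForm 6 F) F₀ ζ P ∧ H = Cfsg.Geo.subfieldSubgroup F₀ P ⊓ Cfsg.spGL 6 F) ∨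
    (¬ Odd (Fintype.card F) ∧ ∃ Q : (Fin 6 ⊕ Fin 6 → F) → F, Cfsg.Geo.IsNondegenerateQuadraticForm Q ∧ (∀ u v : (Fin 6 ⊕ Fin 6 → F), QuadraticMap.polar Q u v = (Cfsg.sympForm 6 F) u v) ∧ H = Cfsg.Geo.quadSimilarityGroup Q ⊓ Cfsg.spGL 6 F) ∨
    Cfsg.Geo.InSymplecticResidualClass H := by
  have hperf : ⁅spGL 6 F, spGL 6 F⁆ = spGL 6 F := sp_perfect (Or.inl (by norm_num))
  have hC := concl_of_asch (by omega) (refines_stage1 (by omega) (by omega) (by omega)) (asch_of_maximal hS hperf hH) hH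
  rcases hC with ⟨M, hG, rfl⟩ | hres
  swap
  · exact (Or.inr (Or.inr (Or.inr (Or.inr (Or.inr (Or.inr (Or.inr (Or.inr (Or.inr (Or.inr (Or.inr (Or.inr (Or.inr hres)))))))))))))
  rcases hG with ⟨W, h0, hW, rfl⟩ | ⟨W, h0, hW, hdim, rfl⟩ | ⟨t, k, D, hD, hk, rfl⟩ | ⟨D, hodd, hD, hts, hm2, rfl⟩ |
    ⟨F₀, r, P, ζ, hr, hcard, hζ, hP, rfl⟩ | ⟨R, p, k, hR, habs, hsim, hp, hpo, hq, hcR, hZ, hmin, rfl⟩ |
    ⟨Q, heven', hQ, hpol, rfl⟩ | ⟨r, K, hr, hK, hsa, halt, rfl⟩ | ⟨K, hodd, hK, hac, hnsa, hm2, rfl⟩ |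
    ⟨n₁, n₂, e, P, f₁, f₂, hodd, hn₂, hf₁, hf₂, hT, h3, hplus, rfl⟩ | ⟨k, t, e, P, f₁, hodd, hto, ht, hex, hf₁, hT, rfl⟩
  · exact (Or.inl ⟨W, h0, hW, rfl⟩)
  · exact (Or.inr (Or.inl ⟨W, h0, hW, hdim, rfl⟩))
  · obtain ⟨hc, he⟩ := ndec_card hD
    have h2 := hD.decomp.two_le
    have hdv : t ∣ 12 := Dvd.intro k hc
    have ht6 : t ≤ 12 := Nat.le_of_dvd (by norm_num) hdv
    obtain ⟨rfl, rfl⟩ | ⟨rfl, rfl⟩ | ⟨rfl, rfl⟩ : (t = 6 ∧ k = 2) ∨ (t = 3 ∧ k = 4) ∨ (t = 2 ∧ k = 6) := by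
      rcases he with ⟨j, rfl⟩
      interval_cases t <;> omega
    · exact (Or.inr (Or.inr (Or.inl ⟨hk rfl, D, hD, rfl⟩)))
    · exact (Or.inr (Or.inr (Or.inr (Or.inl ⟨D, hD, rfl⟩))))
    · exact (Or.inr (Or.inr (Or.inr (Or.inr (Or.inl ⟨D, hD, rfl⟩)))))
  · exact (Or.inr (Or.inr (Or.inr (Or.inr (Or.inr (Or.inl ⟨hodd, D, hD, hts, rfl⟩))))))
  · exact (Or.inr (Or.inr (Or.inr (Or.inr (Or.inr (Or.inr (Or.inr (Or.inr (Or.inr (Or.inr (Or.inr (Or.inl ⟨F₀, r, P, ζ, hr, hcard, hζ, hP, rfl⟩))))))))))))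
  · exfalso
    have h := c6_card (by omega) (by rw [hq]; exact hpo) hR habs hcR hZ
    have hk4 := pow_two_cases h (by norm_num)
    interval_cases k <;> omega
  · exact (Or.inr (Or.inr (Or.inr (Or.inr (Or.inr (Or.inr (Or.inr (Or.inr (Or.inr (Or.inr (Or.inr (Or.inr (Or.inl ⟨heven', Q, hQ, hpol, rfl⟩)))))))))))))
  · have hd := c3s_dvd (by omega) hK hsa halt
    have hr6 : r ≤ 6 := Nat.le_of_dvd (by norm_num) hd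
    obtain rfl | rfl : r = 2 ∨ r = 3 := by
      interval_cases r <;> first | omega | (exfalso; revert hr; decide)
    · exact (Or.inr (Or.inr (Or.inr (Or.inr (Or.inr (Or.inr (Or.inl ⟨K, hK, hsa, halt, rfl⟩)))))))
    · exact (Or.inr (Or.inr (Or.inr (Or.inr (Or.inr (Or.inr (Or.inr (Or.inl ⟨K, hK, hsa, halt, rfl⟩))))))))
  · exact (Or.inr (Or.inr (Or.inr (Or.inr (Or.inr (Or.inr (Or.inr (Or.inr (Or.inl ⟨hodd, K, hK, hac, hnsa, rfl⟩)))))))))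
  · have hc := Fintype.card_congr e
    rw [card_idx, Fintype.card_prod, Fintype.card_fin, Fintype.card_fin] at hc
    have he := even_of_symplecticForm hf₁
    have hdv : n₂ ∣ 12 := Dvd.intro_left n₁ hc.symm
    have hn6 : n₂ ≤ 12 := Nat.le_of_dvd (by norm_num) hdv
    obtain ⟨rfl, rfl⟩ | ⟨rfl, rfl⟩ : (n₁ = 2 ∧ n₂ = 6) ∨ (n₁ = 4 ∧ n₂ = 3) := by
      rcases he with ⟨j, rfl⟩
      interval_cases n₂ <;> omega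
    · exact (Or.inr (Or.inr (Or.inr (Or.inr (Or.inr (Or.inr (Or.inr (Or.inr (Or.inr (Or.inl ⟨hodd, e, P, f₁, f₂, hf₁, hf₂, hT, rfl⟩))))))))))
    · exact (Or.inr (Or.inr (Or.inr (Or.inr (Or.inr (Or.inr (Or.inr (Or.inr (Or.inr (Or.inr (Or.inl ⟨hodd, h3 rfl, e, P, f₁, f₂, hf₁, hf₂, hT, rfl⟩)))))))))))
  · exfalso
    have hc := Fintype.card_congr e
    rw [card_idx, Fintype.card_fun, Fintype.card_fin, Fintype.card_fin] at hc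
    exact c7_impossible hc ht (even_of_symplecticForm hf₁) (by norm_num) (by norm_num) (by norm_num)

end Cfsg.Agent.Lib.Helper27.SpMRows
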