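import Mathlib
import Cfsg.Agent.Lib.Helper27.SpMGlue2
import Cfsg.Agent.Lib.Helper27.SpMRows

/-!
# SpnMax rows, stage 2 (helper27): the rows S5787 S5823 from S5662 (as a hypothesis `AschSpStmt m F`)
-/

set_option autoImplicit false
set_option linter.unusedSectionVars false
set_option linter.unusedVariables false
set_option maxHeartbeats 1000000

namespace Cfsg.Agent.Lib.Helper27.SpMRows

open Cfsg Cfsg.Geo Matrix Module Cfsg.Agent.Lib.Helper27.SpM Cfsg.Agent.Lib.Helper27.SpMGlue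
open Cfsg.Agent.Lib.Helper9.SpMLeaf (ndec_card two_le_finrank_of_nondeg even_of_symplecticForm c6_card c3s_dvd)
open Cfsg.Agent.Lib.Helper27.SpMLeaf (sp_perfect transNZ_sp)

theorem c7_eight {k t : ℕ} (h : 8 = k ^ t) (ht : 3 ≤ t) (hk : Even k) : k = 2 ∧ t = 3 := by
  rcases hk with ⟨j, rfl⟩
  rcases Nat.eq_zero_or_pos j with rfl | hj
  · rw [zero_add, zero_pow (by omega)] at h; omega
  · by_cases hj1 : j = 1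
    · subst hj1
      refine ⟨rfl, ?_⟩
      by_contra ht3
      have : 2 ^ 4 ≤ (1 + 1) ^ t := Nat.pow_le_pow_right (by norm_num) (by omega)
      omega
    · exfalso
      have h1 : 4 ^ 3 ≤ (j + j) ^ 3 := Nat.pow_le_pow_left (by omega) 3
      have h3 : (j + j) ^ 3 ≤ (j + j) ^ t := Nat.pow_le_pow_right (by omega) ht
      omega

theorem row5787 {F : Type*} [Field F] [Fintype F] (hS : AschSpStmt 2 F) (hodd : Odd (Fintype.card F)) (H : Subgroup (Matrix.GeneralLinearGroup (Fin 2 ⊕ Fin 2) F)) (hH : Cfsg.Geo.IsMaximalIn (Cfsg.spGL 2 F) H) :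
    (∃ W : Submodule F (Fin 2 ⊕ Fin 2 → F), W ≠ ⊥ ∧ Cfsg.Geo.IsTotallySingularFor (Cfsg.sympForm 2 F) W ∧ H = Cfsg.Geo.subspaceStabilizer W ⊓ Cfsg.spGL 2 F) ∨
    (∃ D : Fin 2 → Submodule F (Fin 2 ⊕ Fin 2 → F), Cfsg.Geo.IsNondegenerateMDecomposition (Cfsg.sympForm 2 F) 2 D ∧ H = Cfsg.Geo.decompositionStabilizer D ⊓ Cfsg.spGL 2 F) ∨
    (5 ≤ Fintype.card F ∧ ∃ D : Fin 2 → Submodule F (Fin 2 ⊕ Fin 2 → F), Cfsg.Geo.IsMDecomposition 2 D ∧ (∀ i, Cfsg.Geo.IsTotallySingularFor (Cfsg.sympForm 2 F) (D i)) ∧ H = Cfsg.Geo.decompositionStabilizer D ⊓ Cfsg.spGL 2 F) ∨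
    (∃ K : Subalgebra F (Matrix (Fin 2 ⊕ Fin 2) (Fin 2 ⊕ Fin 2) F), Cfsg.Geo.IsFieldSubalgebra 2 K ∧ Cfsg.Geo.IsSelfAdjointFor (Cfsg.sympForm 2 F) K ∧ (∀ k ∈ K, ∀ v : (Fin 2 ⊕ Fin 2 → F), (Cfsg.sympForm 2 F) (Matrix.mulVec k v) v = 0) ∧ H = Cfsg.Geo.subalgebraNormalizer K ⊓ Cfsg.spGL 2 F) ∨
    (5 ≤ Fintype.card F ∧ ∃ K : Subalgebra F (Matrix (Fin 2 ⊕ Fin 2) (Fin 2 ⊕ Fin 2) F), Cfsg.Geo.IsFieldSubalgebra 2 K ∧ Cfsg.Geo.IsAdjointClosedFor (Cfsg.sympForm 2 F) K ∧ ¬ Cfsg.Geo.IsSelfAdjointFor (Cfsg.sympForm 2 F) K ∧ H = Cfsg.Geo.subalgebraNormalizer K ⊓ Cfsg.spGL 2 F) ∨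
    (∃ (F₀ : Subfield F) (r : ℕ) (P : Matrix.GeneralLinearGroup (Fin 2 ⊕ Fin 2) F) (ζ : F), r.Prime ∧ Fintype.card F = Nat.card F₀ ^ r ∧ ζ ≠ 0 ∧ Cfsg.Geo.IsFormRationalStructure (Cfsg.sympForm 2 F) F₀ ζ P ∧ H = Cfsg.Geo.subfieldSubgroup F₀ P ⊓ Cfsg.spGL 2 F) ∨
    (∃ (p : ℕ) (R : Subgroup (Matrix.GeneralLinearGroup (Fin 2 ⊕ Fin 2) F)), p.Prime ∧ Fintype.card F = p ∧ Cfsg.Geo.IsSymplecticTypeGroup 2 R ∧ Cfsg.Geo.ActsAbsolutelyIrreducibly (Cfsg.Geo.matrixSet R) ∧ R ≤ Cfsg.Geo.similarityGroup (Cfsg.sympForm 2 F) ∧ Nat.card R = 32 ∧ Nat.card (Subgroup.center R) = 2 ∧ Cfsg.Geo.IsOfMinusType 2 R ∧ H = Cfsg.Geo.subgroupNormalizer R ⊓ Cfsg.spGL 2 F) ∨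
    Cfsg.Geo.InSymplecticResidualClass H := by
  have hperf : ⁅spGL 2 F, spGL 2 F⁆ = spGL 2 F := sp_perfect (Or.inr (Or.inl ⟨rfl, three_le_of_odd hodd⟩))
  have hC := concl_of_asch2 (by omega) (refines2_four hodd) (asch_of_maximal hS hperf hH) hH
  rcases hC with ⟨M, hG, rfl⟩ | hres
  swap
  · exact (Or.inr (Or.inr (Or.inr (Or.inr (Or.inr (Or.inr (Or.inr hres)))))))
  rcases hG with ⟨W, h0, hW, rfl⟩ | ⟨W, h0, hW, hdim, rfl⟩ | ⟨t, k, D, hD, hk, rfl⟩ | ⟨D, hodd', hD, hts, hm2, rfl⟩ |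
    ⟨F₀, r, P, ζ, hr, hcard, hζ, hP, rfl⟩ | ⟨R, p, k, hR, habs, hsim, hp, hpo, hq, hcR, hZ, hmin, rfl⟩ |
    ⟨Q, heven', hQ, hpol, rfl⟩ | ⟨r, K, hr, hK, hsa, halt, rfl⟩ | ⟨K, hodd', hK, hac, hnsa, hm2, rfl⟩ |
    ⟨n₁, n₂, e, P, f₁, f₂, hodd', hn₂, hf₁, hf₂, hT, h3, hplus, rfl⟩ | ⟨k, t, e, P, f₁, hodd', hto, ht, hex, hf₁, hT, rfl⟩
  · exact (Or.inl ⟨W, h0, hW, rfl⟩)
  · exfalso
    have := two_le_finrank_of_nondeg h0 hW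
    omega
  · obtain ⟨hc, he⟩ := ndec_card hD
    have h2 := hD.decomp.two_le
    have hdv : t ∣ 4 := Dvd.intro k hc
    have ht6 : t ≤ 4 := Nat.le_of_dvd (by norm_num) hdv
    obtain ⟨rfl, rfl⟩ : t = 2 ∧ k = 2 := by
      rcases he with ⟨j, rfl⟩
      interval_cases t <;> omega
    exact (Or.inr (Or.inl ⟨D, hD, rfl⟩))
  · exact (Or.inr (Or.inr (Or.inl ⟨hm2 rfl, D, hD, hts, rfl⟩)))
  · exact (Or.inr (Or.inr (Or.inr (Or.inr (Or.inr (Or.inl ⟨F₀, r, P, ζ, hr, hcard, hζ, hP, rfl⟩))))))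
  · have h := c6_card (by omega) (by rw [hq]; exact hpo) hR habs hcR hZ
    have hk4 := pow_two_cases h (by norm_num)
    obtain rfl : k = 2 := by interval_cases k <;> omega
    exact (Or.inr (Or.inr (Or.inr (Or.inr (Or.inr (Or.inr (Or.inl ⟨p, R, hp, hq, hR, habs, hsim, by rw [hcR]; norm_num, hZ, hmin, rfl⟩)))))))
  · exact absurd hodd heven'
  · have hd := c3s_dvd (by omega) hK hsa halt
    obtain rfl : r = 2 := (Nat.prime_dvd_prime_iff_eq hr (by norm_num)).mp hd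
    exact (Or.inr (Or.inr (Or.inr (Or.inl ⟨K, hK, hsa, halt, rfl⟩))))
  · exact (Or.inr (Or.inr (Or.inr (Or.inr (Or.inl ⟨hm2 rfl, K, hK, hac, hnsa, rfl⟩)))))
  · exfalso
    have hc := Fintype.card_congr e
    rw [card_idx, Fintype.card_prod, Fintype.card_fin, Fintype.card_fin] at hc
    rcases even_of_symplecticForm hf₁ with ⟨j, rfl⟩
    rcases Nat.eq_zero_or_pos j with rfl | hj
    · simp at hc
    · nlinarith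
  · exfalso
    have hc := Fintype.card_congr e
    rw [card_idx, Fintype.card_fun, Fintype.card_fin, Fintype.card_fin] at hc
    exact c7_impossible hc ht (even_of_symplecticForm hf₁) (by norm_num) (by norm_num) (by norm_num)

theorem row5823 {F : Type*} [Field F] [Fintype F] (hS : AschSpStmt 4 F) (H : Subgroup (Matrix.GeneralLinearGroup (Fin 4 ⊕ Fin 4) F)) (hH : Cfsg.Geo.IsMaximalIn (Cfsg.spGL 4 F) H) :
    (∃ W : Submodule F (Fin 4 ⊕ Fin 4 → F), W ≠ ⊥ ∧ Cfsg.Geo.IsTotallySingularFor (Cfsg.sympForm 4 F) W ∧ H = Cfsg.Geo.subspaceStabilizer W ⊓ Cfsg.spGL 4 F) ∨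
    (∃ W : Submodule F (Fin 4 ⊕ Fin 4 → F), W ≠ ⊥ ∧ Cfsg.Geo.IsNondegenerateOn (Cfsg.sympForm 4 F) W ∧ Module.finrank F W < 4 ∧ H = Cfsg.Geo.subspaceStabilizer W ⊓ Cfsg.spGL 4 F) ∨
    (3 ≤ Fintype.card F ∧ ∃ D : Fin 4 → Submodule F (Fin 4 ⊕ Fin 4 → F), Cfsg.Geo.IsNondegenerateMDecomposition (Cfsg.sympForm 4 F) 2 D ∧ H = Cfsg.Geo.decompositionStabilizer D ⊓ Cfsg.spGL 4 F) ∨
    (∃ D : Fin 2 → Submodule F (Fin 4 ⊕ Fin 4 → F), Cfsg.Geo.IsNondegenerateMDecomposition (Cfsg.sympForm 4 F) 4 D ∧ H = Cfsg.Geo.decompositionStabilizer D ⊓ Cfsg.spGL 4 F) ∨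
    (Odd (Fintype.card F) ∧ ∃ D : Fin 2 → Submodule F (Fin 4 ⊕ Fin 4 → F), Cfsg.Geo.IsMDecomposition 4 D ∧ (∀ i, Cfsg.Geo.IsTotallySingularFor (Cfsg.sympForm 4 F) (D i)) ∧ H = Cfsg.Geo.decompositionStabilizer D ⊓ Cfsg.spGL 4 F) ∨
    (∃ K : Subalgebra F (Matrix (Fin 4 ⊕ Fin 4) (Fin 4 ⊕ Fin 4) F), Cfsg.Geo.IsFieldSubalgebra 2 K ∧ Cfsg.Geo.IsSelfAdjointFor (Cfsg.sympForm 4 F) K ∧ (∀ k ∈ K, ∀ v : (Fin 4 ⊕ Fin 4 → F), (Cfsg.sympForm 4 F) (Matrix.mulVec k v) v = 0) ∧ H = Cfsg.Geo.subalgebraNormalizer K ⊓ Cfsg.spGL 4 F) ∨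
    (Odd (Fintype.card F) ∧ ∃ K : Subalgebra F (Matrix (Fin 4 ⊕ Fin 4) (Fin 4 ⊕ Fin 4) F), Cfsg.Geo.IsFieldSubalgebra 2 K ∧ Cfsg.Geo.IsAdjointClosedFor (Cfsg.sympForm 4 F) K ∧ ¬ Cfsg.Geo.IsSelfAdjointFor (Cfsg.sympForm 4 F) K ∧ H = Cfsg.Geo.subalgebraNormalizer K ⊓ Cfsg.spGL 4 F) ∨
    (Odd (Fintype.card F) ∧ ∃ (e : (Fin 4 ⊕ Fin 4) ≃ Fin 2 × Fin 4) (P : Matrix.GeneralLinearGroup (Fin 4 ⊕ Fin 4) F) (f₁ : (Fin 2 → F) → (Fin 2 → F) → F) (f₂ : (Fin 4 → F) → (Fin 4 → F) → F), Cfsg.Geo.IsSymplecticForm f₁ ∧ Cfsg.Geo.IsSymmetricForm f₂ ∧ ¬ Cfsg.Geo.IsPlusTypeOn (fun v : Fin 4 → F => f₂ v v) ⊤ ∧ Cfsg.Geo.IsTensorFormStructure id (Cfsg.sympForm 4 F) f₁ f₂ e P ∧ H = Cfsg.Geo.tensorProductSubgroup 2 4 e P ⊓ Cfsg.spGL 4 F) ∨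
    (∃ (F₀ : Subfield F) (r : ℕ) (P : Matrix.GeneralLinearGroup (Fin 4 ⊕ Fin 4) F) (ζ : F), r.Prime ∧ Fintype.card F = Nat.card F₀ ^ r ∧ ζ ≠ 0 ∧ Cfsg.Geo.IsFormRationalStructure (Cfsg.sympForm 4 F) F₀ ζ P ∧ H = Cfsg.Geo.subfieldSubgroup F₀ P ⊓ Cfsg.spGL 4 F) ∨
    (∃ (p : ℕ) (R : Subgroup (Matrix.GeneralLinearGroup (Fin 4 ⊕ Fin 4) F)), p.Prime ∧ Odd p ∧ Fintype.card F = p ∧ Cfsg.Geo.IsSymplecticTypeGroup 2 R ∧ Cfsg.Geo.ActsAbsolutelyIrreducibly (Cfsg.Geo.matrixSet R) ∧ R ≤ Cfsg.Geo.similarityGroup (Cfsg.sympForm 4 F) ∧ Nat.card R = 128 ∧ Nat.card (Subgroup.center R) = 2 ∧ Cfsg.Geo.IsOfMinusType 3 R ∧ H = Cfsg.Geo.subgroupNormalizer R ⊓ Cfsg.spGL 4 F) ∨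
    (Odd (Fintype.card F) ∧ 5 ≤ Fintype.card F ∧ ∃ (e : (Fin 4 ⊕ Fin 4) ≃ (Fin 3 → Fin 2)) (P : Matrix.GeneralLinearGroup (Fin 4 ⊕ Fin 4) F) (f₁ : (Fin 2 → F) → (Fin 2 → F) → F), Cfsg.Geo.IsSymplecticForm f₁ ∧ Cfsg.Geo.IsTensorPowerFormStructure id (Cfsg.sympForm 4 F) f₁ e P ∧ H = Cfsg.Geo.tensorWreathSubgroup 2 3 e P ⊓ Cfsg.spGL 4 F) ∨
    (¬ Odd (Fintype.card F) ∧ ∃ Q : (Fin 4 ⊕ Fin 4 → F) → F, Cfsg.Geo.IsNondegenerateQuadraticForm Q ∧ (∀ u v : (Fin 4 ⊕ Fin 4 → F), QuadraticMap.polar Q u v = (Cfsg.sympForm 4 F) u v) ∧ H = Cfsg.Geo.quadSimilarityGroup Q ⊓ Cfsg.spGL 4 F) ∨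
    Cfsg.Geo.InSymplecticResidualClass H := by
  have hperf : ⁅spGL 4 F, spGL 4 F⁆ = spGL 4 F := sp_perfect (Or.inl (by norm_num))
  have hC := concl_of_asch2 (by omega) refines2_eight (asch_of_maximal hS hperf hH) hH
  rcases hC with ⟨M, hG, rfl⟩ | hres
  swap
  · exact (Or.inr (Or.inr (Or.inr (Or.inr (Or.inr (Or.inr (Or.inr (Or.inr (Or.inr (Or.inr (Or.inr (Or.inr hres))))))))))))
  rcases hG with ⟨W, h0, hW, rfl⟩ | ⟨W, h0, hW, hdim, rfl⟩ | ⟨t, k, D, hD, hk, rfl⟩ | ⟨D, hodd', hD, hts, hm2, rfl⟩ |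
    ⟨F₀, r, P, ζ, hr, hcard, hζ, hP, rfl⟩ | ⟨R, p, k, hR, habs, hsim, hp, hpo, hq, hcR, hZ, hmin, rfl⟩ |
    ⟨Q, heven', hQ, hpol, rfl⟩ | ⟨r, K, hr, hK, hsa, halt, rfl⟩ | ⟨K, hodd', hK, hac, hnsa, hm2, rfl⟩ |
    ⟨n₁, n₂, e, P, f₁, f₂, hodd', hn₂, hf₁, hf₂, hT, h3, hplus, rfl⟩ | ⟨k, t, e, P, f₁, hodd', hto, ht, hex, hf₁, hT, rfl⟩
  · exact (Or.inl ⟨W, h0, hW, rfl⟩)
  · exact (Or.inr (Or.inl ⟨W, h0, hW, hdim, rfl⟩))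
  · obtain ⟨hc, he⟩ := ndec_card hD
    have h2 := hD.decomp.two_le
    have hdv : t ∣ 8 := Dvd.intro k hc
    have ht6 : t ≤ 8 := Nat.le_of_dvd (by norm_num) hdv
    obtain ⟨rfl, rfl⟩ | ⟨rfl, rfl⟩ : (t = 4 ∧ k = 2) ∨ (t = 2 ∧ k = 4) := by
      rcases he with ⟨j, rfl⟩
      interval_cases t <;> omega
    · exact (Or.inr (Or.inr (Or.inl ⟨hk rfl, D, hD, rfl⟩)))
    · exact (Or.inr (Or.inr (Or.inr (Or.inl ⟨D, hD, rfl⟩))))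
  · exact (Or.inr (Or.inr (Or.inr (Or.inr (Or.inl ⟨hodd', D, hD, hts, rfl⟩)))))
  · exact (Or.inr (Or.inr (Or.inr (Or.inr (Or.inr (Or.inr (Or.inr (Or.inr (Or.inl ⟨F₀, r, P, ζ, hr, hcard, hζ, hP, rfl⟩)))))))))
  · have h := c6_card (by omega) (by rw [hq]; exact hpo) hR habs hcR hZ
    have hk4 := pow_two_cases h (by norm_num)
    obtain rfl : k = 3 := by interval_cases k <;> omega
    exact (Or.inr (Or.inr (Or.inr (Or.inr (Or.inr (Or.inr (Or.inr (Or.inr (Or.inr (Or.inl ⟨p, R, hp, hpo, hq, hR, habs, hsim, by rw [hcR]; norm_num, hZ, hmin, rfl⟩))))))))))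
  · exact (Or.inr (Or.inr (Or.inr (Or.inr (Or.inr (Or.inr (Or.inr (Or.inr (Or.inr (Or.inr (Or.inr (Or.inl ⟨heven', Q, hQ, hpol, rfl⟩))))))))))))
  · have hd := c3s_dvd (by omega) hK hsa halt
    have hr4 : r ≤ 4 := Nat.le_of_dvd (by norm_num) hd
    obtain rfl : r = 2 := by
      interval_cases r <;> first | rfl | omega | (exfalso; revert hr; decide) | (exfalso; revert hd; decide)
    exact (Or.inr (Or.inr (Or.inr (Or.inr (Or.inr (Or.inl ⟨K, hK, hsa, halt, rfl⟩))))))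
  · exact (Or.inr (Or.inr (Or.inr (Or.inr (Or.inr (Or.inr (Or.inl ⟨hodd', K, hK, hac, hnsa, rfl⟩)))))))
  · have hc := Fintype.card_congr e
    rw [card_idx, Fintype.card_prod, Fintype.card_fin, Fintype.card_fin] at hc
    have he := even_of_symplecticForm hf₁
    have hdv : n₂ ∣ 8 := Dvd.intro_left n₁ hc.symm
    have hn6 : n₂ ≤ 8 := Nat.le_of_dvd (by norm_num) hdv
    obtain ⟨rfl, rfl⟩ : n₁ = 2 ∧ n₂ = 4 := by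
      rcases he with ⟨j, rfl⟩
      interval_cases n₂ <;> omega
    exact (Or.inr (Or.inr (Or.inr (Or.inr (Or.inr (Or.inr (Or.inr (Or.inl ⟨hodd', e, P, f₁, f₂, hf₁, hf₂, hplus rfl rfl, hT, rfl⟩))))))))
  · have hc := Fintype.card_congr e
    rw [card_idx, Fintype.card_fun, Fintype.card_fin, Fintype.card_fin] at hc
    obtain ⟨rfl, rfl⟩ := c7_eight hc ht (even_of_symplecticForm hf₁)
    have h5 : 5 ≤ Fintype.card F := five_le_of_odd hodd' fun h => hex ⟨h, rfl⟩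
    exact (Or.inr (Or.inr (Or.inr (Or.inr (Or.inr (Or.inr (Or.inr (Or.inr (Or.inr (Or.inr (Or.inl ⟨hodd', h5, e, P, f₁, hf₁, hT, rfl⟩)))))))))))

end Cfsg.Agent.Lib.Helper27.SpMRows
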