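import Mathlib
import Cfsg.Agent.Lib.Helper27.SpMS4bDefs

/-!
# SpnMax stage 2, leaf S4b-E over `ZMod 3`: explicit matrices and the classification of the
non-central involutions of `N(<J>) ∩ Sp_4(3)` (by `decide`)  (helper27)
-/

set_option autoImplicit false
set_option linter.unusedSectionVars false
set_option linter.unusedVariables false

namespace Cfsg.Agent.Lib.Helper27.SpM4bZ

open Matrix

/-- `4 × 4` matrices over `ZMod 3` in block form -/
abbrev Mat3 := Matrix (Fin 2 ⊕ Fin 2) (Fin 2 ⊕ Fin 2) (ZMod 3)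

/-- `J` over `ZMod 3` -/
def JJ : Mat3 := Matrix.J (Fin 2) (ZMod 3)

/-- the `2 × 2` matrix `ω` -/
def om : Matrix (Fin 2) (Fin 2) (ZMod 3) := !![0,1;-1,0]
/-- Pauli-type involution `σ_x` -/
def sx : Mat3 := fromBlocks !![0,1;1,0] 0 0 !![0,1;1,0]
/-- Pauli-type involution `σ_z` -/
def sz : Mat3 := fromBlocks !![1,0;0,-1] 0 0 !![1,0;0,-1]
/-- Pauli-type involution `σ_y` -/
def sy : Mat3 := fromBlocks 0 (-om) om 0
/-- semilinear involution `x₁` -/
def x1 : Mat3 := fromBlocks om (-om) (-om) (-om)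
/-- semilinear involution `x₂` -/
def x2 : Mat3 := fromBlocks (-om) (-om) (-om) om
/-- the element `g₀` of the overgroup -/
def g0 : Mat3 := fromBlocks !![1,0;0,0] !![-1,0;0,1] !![0,0;0,-1] !![1,0;0,1]
/-- the inverse of `g₀` -/
def g0i : Mat3 := fromBlocks !![1,0;0,1] !![1,0;0,-1] !![0,0;0,1] !![1,0;0,0]
/-- a transvection -/
def tt : Mat3 := fromBlocks 1 0 !![1,0;0,0] 1
/-- its inverse -/
def tti : Mat3 := fromBlocks 1 0 !![-1,0;0,0] 1

/-- commuting or anticommuting with `J` -/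
def PM (x : Mat3) : Prop := x * JJ = JJ * x ∨ x * JJ = -(JJ * x)

instance (x : Mat3) : Decidable (PM x) := by unfold PM; infer_instance

/-- the ten non-central involutions -/
def InX0 (x : Mat3) : Prop :=
  x = sx ∨ x = -sx ∨ x = sz ∨ x = -sz ∨ x = sy ∨ x = -sy ∨ x = x1 ∨ x = -x1 ∨ x = x2 ∨ x = -x2

instance (x : Mat3) : Decidable (InX0 x) := by unfold InX0; infer_instance

/-- matrices commuting with `J` -/
def mkC (a b c d e f g h : ZMod 3) : Mat3 :=
  fromBlocks !![a,b;c,d] !![e,f;g,h] (-!![e,f;g,h]) !![a,b;c,d]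
/-- matrices anticommuting with `J` -/
def mkA (a b c d e f g h : ZMod 3) : Mat3 :=
  fromBlocks !![a,b;c,d] !![e,f;g,h] (!![e,f;g,h]) (-!![a,b;c,d])

set_option synthInstance.maxSize 2000 in
set_option synthInstance.maxHeartbeats 2000000 in
set_option maxRecDepth 100000 in
set_option maxHeartbeats 4000000 in
theorem clsC : ∀ a b c d e f g h : ZMod 3, mkC a b c d e f g h * mkC a b c d e f g h = 1 →
    mkC a b c d e f g h * JJ * (mkC a b c d e f g h)ᵀ = JJ →
    mkC a b c d e f g h = 1 ∨ mkC a b c d e f g h = -1 ∨ InX0 (mkC a b c d e f g h) := by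
  decide +kernel

set_option synthInstance.maxSize 2000 in
set_option synthInstance.maxHeartbeats 2000000 in
set_option maxRecDepth 100000 in
set_option maxHeartbeats 4000000 in
theorem clsA : ∀ a b c d e f g h : ZMod 3, mkA a b c d e f g h * mkA a b c d e f g h = 1 →
    mkA a b c d e f g h * JJ * (mkA a b c d e f g h)ᵀ = JJ →
    InX0 (mkA a b c d e f g h) := by
  decide +kernel

set_option maxRecDepth 100000 in
theorem x0_props : ∀ y : Mat3, InX0 y →
    y * y = 1 ∧ y * JJ * yᵀ = JJ ∧ PM y ∧ y ≠ 1 ∧ y ≠ -1 := by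
  rintro y (rfl | rfl | rfl | rfl | rfl | rfl | rfl | rfl | rfl | rfl) <;> decide +kernel

set_option maxRecDepth 100000 in
theorem g0_conj : ∀ y : Mat3, InX0 y → InX0 (g0 * y * g0i) := by
  rintro y (rfl | rfl | rfl | rfl | rfl | rfl | rfl | rfl | rfl | rfl) <;> decide +kernel

set_option maxRecDepth 100000 in
theorem g0_facts : g0 * g0i = 1 ∧ g0i * g0 = 1 ∧ g0 * JJ * g0ᵀ = JJ ∧ ¬ PM g0 := by
  decide +kernel

set_option maxRecDepth 100000 in
theorem tt_facts : tt * tti = 1 ∧ tti * tt = 1 ∧ tt * JJ * ttᵀ = JJ ∧ ¬ PM (tt * sx * tti) := by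
  decide +kernel

end Cfsg.Agent.Lib.Helper27.SpM4bZ
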