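import Mathlib
import Cfsg.Agent.Lib.Helper27.SpMS4bZ
import Cfsg.Agent.Lib.Helper5.Symp
import Cfsg.Agent.Lib.Helper5.SpMax

/-!
# SpnMax stage 2, leaf S4b-E over `ZMod 3`: `N(<J>) ∩ Sp_4(3)` is not maximal in `Sp_4(3)` (helper27)
-/

set_option autoImplicit false
set_option linter.unusedSectionVars false
set_option linter.unusedVariables false

namespace Cfsg.Agent.Lib.Helper27.SpM4bZ

open Matrix

theorem pm_cases (x : Mat3) (h : PM x) :
    (∃ a b c d e f g h : ZMod 3, x = mkC a b c d e f g h) ∨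
    (∃ a b c d e f g h : ZMod 3, x = mkA a b c d e f g h) := by
  have hx := (Matrix.fromBlocks_toBlocks x).symm
  set A := x.toBlocks₁₁ with hA
  set B := x.toBlocks₁₂ with hB
  set C := x.toBlocks₂₁ with hC
  set D := x.toBlocks₂₂ with hD
  have hJ : JJ = fromBlocks 0 (-1) 1 0 := rfl
  have e1 : x * JJ = fromBlocks B (-A) D (-C) := by
    rw [hx, hJ, Matrix.fromBlocks_multiply]
    simp
  have e2 : JJ * x = fromBlocks (-C) (-D) A B := by
    rw [hx, hJ, Matrix.fromBlocks_multiply]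
    simp
  rcases h with h | h
  · left
    rw [e1, e2, Matrix.fromBlocks_inj] at h
    obtain ⟨h1, h2, h3, h4⟩ := h
    refine ⟨A 0 0, A 0 1, A 1 0, A 1 1, B 0 0, B 0 1, B 1 0, B 1 1, ?_⟩
    have hC' : C = -B := by rw [h1, neg_neg]
    rw [hx, mkC, ← Matrix.eta_fin_two A, ← Matrix.eta_fin_two B, hC', h3]
  · right
    rw [e1, e2, Matrix.fromBlocks_neg, Matrix.fromBlocks_inj] at h
    obtain ⟨h1, h2, h3, h4⟩ := h
    refine ⟨A 0 0, A 0 1, A 1 0, A 1 1, B 0 0, B 0 1, B 1 0, B 1 1, ?_⟩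
    have hC' : C = B := by rw [h1, neg_neg]
    rw [hx, mkA, ← Matrix.eta_fin_two A, ← Matrix.eta_fin_two B, hC', h3]

theorem cls (x : Mat3) (h1 : x * x = 1) (h2 : x * JJ * xᵀ = JJ) (h3 : PM x) :
    x = 1 ∨ x = -1 ∨ InX0 x := by
  rcases pm_cases x h3 with ⟨a, b, c, d, e, f, g, h, rfl⟩ | ⟨a, b, c, d, e, f, g, h, rfl⟩
  · exact clsC a b c d e f g h h1 h2
  · exact Or.inr (Or.inr (clsA a b c d e f g h h1 h2))


open Cfsg Cfsg.Agent.Lib.Helper5 Cfsg.Agent.Lib.Helper27.SpM4b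

/-- membership in `spGL` as a matrix equation -/
lemma mem_spGL_iff {F : Type*} [Field F] {m : ℕ} {g : GL (Fin m ⊕ Fin m) F} :
    g ∈ spGL m F ↔ (g : Matrix (Fin m ⊕ Fin m) (Fin m ⊕ Fin m) F) * Matrix.J (Fin m) F *
      (g : Matrix (Fin m ⊕ Fin m) (Fin m ⊕ Fin m) F)ᵀ = Matrix.J (Fin m) F := by
  constructor
  · intro hg
    exact SymplecticGroup.mem_iff.1 (SpMax.val_mem_symplectic hg)
  · intro h u v
    exact sympForm_mulVec_of_mem (SymplecticGroup.mem_iff.2 h) u v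

/-- `GL_4(3)` -/
abbrev G3 := GL (Fin 2 ⊕ Fin 2) (ZMod 3)

/-- the non-central involutions of `N(<J>) ∩ Sp` -/
def XX : Set G3 := {n | n ∈ pmComm (ZMod 3) ∧ n ∈ spGL 2 (ZMod 3) ∧ n * n = 1 ∧
  (n : Mat3) ≠ 1 ∧ (n : Mat3) ≠ -1}

lemma mem_XX_iff {n : G3} : n ∈ XX ↔ InX0 (n : Mat3) := by
  constructor
  · rintro ⟨h1, h2, h3, h4, h5⟩
    have hsq : (n : Mat3) * (n : Mat3) = 1 := by
      rw [← Units.val_mul, h3, Units.val_one]
    rcases cls (n : Mat3) hsq (mem_spGL_iff.1 h2) h1 with h | h | h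
    · exact absurd h h4
    · exact absurd h h5
    · exact h
  · intro h
    obtain ⟨h1, h2, h3, h4, h5⟩ := x0_props _ h
    refine ⟨h3, mem_spGL_iff.2 h2, ?_, h4, h5⟩
    apply Units.ext
    rw [Units.val_mul, h1, Units.val_one]

lemma conj_mem_XX {g n : G3} (hg1 : g ∈ pmComm (ZMod 3)) (hg2 : g ∈ spGL 2 (ZMod 3))
    (hn : n ∈ XX) : g * n * g⁻¹ ∈ XX := by
  obtain ⟨h1, h2, h3, h4, h5⟩ := hn
  refine ⟨(pmComm _).mul_mem ((pmComm _).mul_mem hg1 h1) ((pmComm _).inv_mem hg1),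
    (spGL 2 _).mul_mem ((spGL 2 _).mul_mem hg2 h2) ((spGL 2 _).inv_mem hg2), ?_, ?_, ?_⟩
  · calc g * n * g⁻¹ * (g * n * g⁻¹) = g * (n * n) * g⁻¹ := by group
      _ = 1 := by rw [h3, mul_one, mul_inv_cancel]
  · intro h
    apply h4
    have h' : g * n * g⁻¹ = 1 := Units.ext (by rw [h, Units.val_one])
    have : n = 1 := by
      have := congrArg (fun z => g⁻¹ * z * g) h'
      simpa [mul_assoc] using this
    rw [this, Units.val_one]
  · intro h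
    apply h5
    have e1 : (n : Mat3) = ((g⁻¹ * (g * n * g⁻¹) * g : G3) : Mat3) := by
      congr 1
      group
    rw [e1, Units.val_mul, Units.val_mul, h, Matrix.mul_neg, Matrix.mul_one, Matrix.neg_mul,
      ← Units.val_mul, inv_mul_cancel, Units.val_one]

/-- `g₀` as a unit -/
def g0u : G3 := ⟨g0, g0i, g0_facts.1, g0_facts.2.1⟩
/-- the transvection as a unit -/
def ttu : G3 := ⟨tt, tti, tt_facts.1, tt_facts.2.1⟩
/-- `σ_x` as a unit -/
def sxu : G3 := ⟨sx, sx, (x0_props sx (Or.inl rfl)).1, (x0_props sx (Or.inl rfl)).1⟩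

theorem pmComm_not_maximal_Z : ∃ M'' : Subgroup G3,
    pmComm (ZMod 3) ⊓ spGL 2 (ZMod 3) < M'' ∧ M'' < spGL 2 (ZMod 3) := by
  refine ⟨Subgroup.normalizer XX ⊓ spGL 2 (ZMod 3), ?_, ?_⟩
  · rw [SetLike.lt_iff_le_and_exists]
    refine ⟨?_, g0u, ⟨?_, ?_⟩, ?_⟩
    · rintro g ⟨hg1, hg2⟩
      exact ⟨Subgroup.mem_normalizer_fintype (fun n hn => conj_mem_XX hg1 hg2 hn), hg2⟩
    · apply Subgroup.mem_normalizer_fintype
      intro n hn
      rw [mem_XX_iff] at hn ⊢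
      exact g0_conj _ hn
    · exact mem_spGL_iff.2 g0_facts.2.2.1
    · rintro ⟨h, -⟩
      exact g0_facts.2.2.2 h
  · rw [SetLike.lt_iff_le_and_exists]
    refine ⟨inf_le_right, ttu, mem_spGL_iff.2 tt_facts.2.2.1, ?_⟩
    rintro ⟨h, -⟩
    have hsx : sxu ∈ XX := mem_XX_iff.2 (Or.inl rfl)
    have := (h sxu).1 hsx
    exact tt_facts.2.2.2 this.1

end Cfsg.Agent.Lib.Helper27.SpM4bZ
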