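import Mathlib
import Cfsg.Agent.Lib.Helper27.SpMS4bE

/-!
# SpnMax stage 2, leaf S4b-E: transfer from `ZMod 3` to any field with three elements (helper27)
-/

set_option autoImplicit false
set_option linter.unusedSectionVars false
set_option linter.unusedVariables false

namespace Cfsg.Agent.Lib.Helper27.SpMLeaf

open Cfsg Cfsg.Geo Matrix Cfsg.Agent.Lib.Helper27.SpM4b Cfsg.Agent.Lib.Helper27.SpM4bZ

section Transfer

variable {R F : Type*} [Field R] [Field F] (ψ : R ≃+* F)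

/-- the isomorphism of general linear groups induced by a ring isomorphism -/
noncomputable def glEquiv27 {n : Type} [Fintype n] [DecidableEq n] : GL n R ≃* GL n F :=
  Units.mapEquiv (ψ.mapMatrix (m := n)).toMulEquiv

lemma glEquiv27_val {n : Type} [Fintype n] [DecidableEq n] (g : GL n R) :
    ((glEquiv27 ψ g : GL n F) : Matrix n n F) = ψ.mapMatrix (g : Matrix n n R) := rfl

lemma map_J27 (m : ℕ) : ψ.mapMatrix (Matrix.J (Fin m) R) = Matrix.J (Fin m) F := by
  ext i j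
  rcases i with i | i <;> rcases j with j | j <;>
    simp [Matrix.J, Matrix.one_apply, apply_ite ψ]

lemma map_transpose27 {n : Type} [Fintype n] [DecidableEq n] (M : Matrix n n R) :
    ψ.mapMatrix Mᵀ = (ψ.mapMatrix M)ᵀ := rfl

lemma mem_spGL_glEquiv27 {m : ℕ} (g : GL (Fin m ⊕ Fin m) R) :
    glEquiv27 ψ g ∈ spGL m F ↔ g ∈ spGL m R := by
  rw [mem_spGL_iff, mem_spGL_iff, glEquiv27_val, ← map_J27 ψ, ← map_transpose27, ← map_mul,
    ← map_mul]
  exact (ψ.mapMatrix (m := Fin m ⊕ Fin m)).injective.eq_iff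

lemma mem_pmComm_glEquiv27 (g : GL (Fin 2 ⊕ Fin 2) R) :
    glEquiv27 ψ g ∈ pmComm F ↔ g ∈ pmComm R := by
  rw [mem_pmComm, mem_pmComm, glEquiv27_val, ← map_J27 ψ, ← map_mul, ← map_mul, ← map_neg,
    (ψ.mapMatrix (m := Fin 2 ⊕ Fin 2)).injective.eq_iff,
    (ψ.mapMatrix (m := Fin 2 ⊕ Fin 2)).injective.eq_iff]

end Transfer

variable {F : Type*} [Field F] [Fintype F]

theorem pmComm_not_maximal (hq : Fintype.card F = 3) :
    ∃ M'' : Subgroup (GL (Fin 2 ⊕ Fin 2) F), pmComm F ⊓ spGL 2 F < M'' ∧ M'' < spGL 2 F := by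
  let ψ : ZMod 3 ≃+* F := ZMod.ringEquivOfPrime F (by norm_num) hq
  obtain ⟨M0, h1, h2⟩ := pmComm_not_maximal_Z
  have hinj : Function.Injective (glEquiv27 ψ (n := Fin 2 ⊕ Fin 2)).toMonoidHom :=
    (glEquiv27 ψ).injective
  have hpm : (pmComm (ZMod 3) ⊓ spGL 2 (ZMod 3)).map (glEquiv27 ψ).toMonoidHom =
      pmComm F ⊓ spGL 2 F := by
    ext h
    rw [Subgroup.mem_map_equiv, Subgroup.mem_inf, Subgroup.mem_inf]
    have e : h = glEquiv27 ψ ((glEquiv27 ψ).symm h) := ((glEquiv27 ψ).apply_symm_apply h).symm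
    conv_rhs => rw [e, mem_pmComm_glEquiv27, mem_spGL_glEquiv27]
  have hsp : (spGL 2 (ZMod 3)).map (glEquiv27 ψ).toMonoidHom = spGL 2 F := by
    ext h
    rw [Subgroup.mem_map_equiv]
    have e : h = glEquiv27 ψ ((glEquiv27 ψ).symm h) := ((glEquiv27 ψ).apply_symm_apply h).symm
    conv_rhs => rw [e, mem_spGL_glEquiv27]
  refine ⟨M0.map (glEquiv27 ψ).toMonoidHom, ?_, ?_⟩
  · rw [← hpm]
    exact (Subgroup.map_lt_map_iff_of_injective hinj).2 h1
  · rw [← hsp]
    exact (Subgroup.map_lt_map_iff_of_injective hinj).2 h2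

end Cfsg.Agent.Lib.Helper27.SpMLeaf
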