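import Mathlib
import Cfsg.Agent.Lib.Helper27.SpUDefs

/-!
# S2316 leaf L2a: the pointwise stabiliser of `e_1..e_d` in `Sp_{2(d+k)}` maps onto `Sp_{2k}`
-/

set_option autoImplicit false

namespace Cfsg.Agent.Lib.Helper27.SpU

namespace L2a

open Cfsg Matrix Cfsg.Agent.Lib.Helper5 Cfsg.Agent.Lib.Helper14 Cfsg.Agent.S0775

variable {F : Type*} [Field F] {d k : ℕ}

/-- the middle indices -/
def mid (d k : ℕ) : Fin k ⊕ Fin k → Fin (d + k) ⊕ Fin (d + k) :=
  Sum.map (Fin.natAdd d) (Fin.natAdd d)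

/-- `e_i` -/
def ee (k : ℕ) (i : Fin d) : Fin (d + k) ⊕ Fin (d + k) := Sum.inl (Fin.castAdd k i)

/-- `f_i` -/
def ff (k : ℕ) (i : Fin d) : Fin (d + k) ⊕ Fin (d + k) := Sum.inr (Fin.castAdd k i)

theorem mid_injective : Function.Injective (mid d k) := by
  intro a b h
  rcases a with a | a <;> rcases b with b | b <;> simp [mid] at h ⊢
  · exact h
  · exact h

theorem mid_ne_ee (a : Fin k ⊕ Fin k) (i : Fin d) : mid d k a ≠ ee k i := by
  rcases a with a | a
  · simp only [mid, ee, Sum.map_inl, ne_eq, Sum.inl.injEq]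
    intro h
    have := congrArg Fin.val h
    simp at this
    omega
  · simp [mid, ee]

theorem mid_ne_ff (a : Fin k ⊕ Fin k) (i : Fin d) : mid d k a ≠ ff k i := by
  rcases a with a | a
  · simp [mid, ff]
  · simp only [mid, ff, Sum.map_inr, ne_eq, Sum.inr.injEq]
    intro h
    have := congrArg Fin.val h
    simp at this
    omega

theorem sum_split {M : Type*} [AddCommMonoid M] (φ : Fin (d + k) ⊕ Fin (d + k) → M) :
    ∑ x, φ x = ∑ i : Fin d, φ (ee k i) + ∑ i : Fin d, φ (ff k i) +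
      ∑ y : Fin k ⊕ Fin k, φ (mid d k y) := by
  rw [Fintype.sum_sum_type, Fin.sum_univ_add, Fin.sum_univ_add, Fintype.sum_sum_type]
  simp only [mid, ee, ff, Sum.map_inl, Sum.map_inr]
  abel

/-- membership in `Sp` through the columns -/
theorem mem_iff_cols {m : ℕ} (A : Matrix (Fin m ⊕ Fin m) (Fin m ⊕ Fin m) F) :
    A ∈ Matrix.symplecticGroup (Fin m) F ↔
      ∀ a b, Cfsg.sympForm m F (fun r => A r a) (fun r => A r b) = Matrix.J (Fin m) F a b := by
  rw [SymplecticGroup.mem_iff']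
  constructor
  · intro h a b
    rw [sympForm_cols, h]
  · intro h
    ext a b
    rw [← sympForm_cols, h]

theorem sympForm_split (u v : Fin (d + k) ⊕ Fin (d + k) → F) :
    Cfsg.sympForm (d + k) F u v =
      ∑ i : Fin d, (u (ff k i) * v (ee k i) - u (ee k i) * v (ff k i)) +
        Cfsg.sympForm k F (u ∘ mid d k) (v ∘ mid d k) := by
  rw [sympForm_eq_sum, sympForm_eq_sum, Fin.sum_univ_add]
  rfl

theorem J_mid (a b : Fin k ⊕ Fin k) :
    Matrix.J (Fin (d + k)) F (mid d k a) (mid d k b) = Matrix.J (Fin k) F a b := by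
  rcases a with a | a <;> rcases b with b | b
  · simp [mid, J_inl_inl]
  · simp only [mid, Sum.map_inl, Sum.map_inr, J_inl_inr]
    have : (Fin.natAdd d a = Fin.natAdd d b) ↔ a = b := by
      constructor
      · intro h
        have := congrArg Fin.val h
        simp at this
        exact Fin.ext this
      · intro h; rw [h]
    simp only [this]
  · simp only [mid, Sum.map_inl, Sum.map_inr, J_inr_inl]
    have : (Fin.natAdd d a = Fin.natAdd d b) ↔ a = b := by
      constructor
      · intro h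
        have := congrArg Fin.val h
        simp at this
        exact Fin.ext this
      · intro h; rw [h]
    simp only [this]
  · simp [mid, J_inr_inr]

/-- pairing with `e_j` reads off the `f_j`-coordinate -/
theorem sympForm_single_inl {m : ℕ} (u : Fin m ⊕ Fin m → F) (j : Fin m) :
    Cfsg.sympForm m F u (Pi.single (Sum.inl j) 1) = u (Sum.inr j) := by
  classical
  rw [sympForm_eq_sum, Finset.sum_eq_single j]
  · simp
  · intro i _ hij
    have h1 : (Pi.single (Sum.inl j) (1 : F) : Fin m ⊕ Fin m → F) (Sum.inl i) = 0 := by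
      rw [Pi.single_apply, if_neg]
      intro h
      exact hij (Sum.inl.inj h)
    have h2 : (Pi.single (Sum.inl j) (1 : F) : Fin m ⊕ Fin m → F) (Sum.inr i) = 0 := by
      rw [Pi.single_apply, if_neg]
      intro h
      cases h
    rw [h1, h2]
    ring
  · intro h
    exact absurd (Finset.mem_univ j) h

/-- the hypothesis "`g` fixes `e_1..e_d`" -/
def Fixes (g : Matrix (Fin (d + k) ⊕ Fin (d + k)) (Fin (d + k) ⊕ Fin (d + k)) F) : Prop :=
  ∀ i : Fin d, g *ᵥ Pi.single (ee k i) 1 = Pi.single (ee k i) 1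

theorem mem_stab_iff_fixes (g : Matrix.symplecticGroup (Fin (d + k)) F) :
    g ∈ MulAction.stabilizer (Matrix.symplecticGroup (Fin (d + k)) F) (stdTup F d k) ↔
      Fixes (g : Matrix (Fin (d + k) ⊕ Fin (d + k)) (Fin (d + k) ⊕ Fin (d + k)) F) := by
  rw [MulAction.mem_stabilizer_iff]
  constructor
  · intro h i
    have := congrFun h i
    rw [Cfsg.Agent.S0775.smul_apply] at this
    exact this
  · intro h
    funext i
    rw [Cfsg.Agent.S0775.smul_apply]
    exact h i

theorem col_of_fixes {g : Matrix (Fin (d + k) ⊕ Fin (d + k)) (Fin (d + k) ⊕ Fin (d + k)) F}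
    (hg : Fixes g) (x : Fin (d + k) ⊕ Fin (d + k)) (i : Fin d) :
    g x (ee k i) = if x = ee k i then 1 else 0 := by
  classical
  have h := congrFun (hg i) x
  rw [Matrix.mulVec_single_one, Pi.single_apply] at h
  exact h

theorem row_of_fixes {g : Matrix (Fin (d + k) ⊕ Fin (d + k)) (Fin (d + k) ⊕ Fin (d + k)) F}
    (hmem : g ∈ Matrix.symplecticGroup (Fin (d + k)) F)
    (hg : Fixes g) (y : Fin (d + k) ⊕ Fin (d + k)) (i : Fin d) :
    g (ff k i) y = if y = ff k i then 1 else 0 := by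
  classical
  have h := sympForm_mulVec_of_mem hmem (Pi.single y 1) (Pi.single (ee k i) 1)
  rw [hg i] at h
  unfold ee at h
  rw [sympForm_single_inl, sympForm_single_inl, Matrix.mulVec_single_one, Pi.single_apply] at h
  rw [show g (ff k i) y = (g.col y) (Sum.inr (Fin.castAdd k i)) from rfl, h]
  unfold ff
  by_cases hy : y = Sum.inr (Fin.castAdd k i)
  · rw [if_pos hy, if_pos hy.symm]
  · rw [if_neg hy, if_neg (fun h' => hy h'.symm)]

/-- the middle block -/
def midBlock (g : Matrix (Fin (d + k) ⊕ Fin (d + k)) (Fin (d + k) ⊕ Fin (d + k)) F) :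
    Matrix (Fin k ⊕ Fin k) (Fin k ⊕ Fin k) F :=
  g.submatrix (mid d k) (mid d k)

theorem midBlock_mem {g : Matrix (Fin (d + k) ⊕ Fin (d + k)) (Fin (d + k) ⊕ Fin (d + k)) F}
    (hmem : g ∈ Matrix.symplecticGroup (Fin (d + k)) F) (hg : Fixes g) :
    midBlock g ∈ Matrix.symplecticGroup (Fin k) F := by
  classical
  rw [mem_iff_cols]
  intro a b
  have h1 := (mem_iff_cols g).1 hmem (mid d k a) (mid d k b)
  rw [sympForm_split, J_mid] at h1
  have h2 : ∑ i : Fin d, (g (ff k i) (mid d k a) * g (ee k i) (mid d k b) -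
      g (ee k i) (mid d k a) * g (ff k i) (mid d k b)) = 0 := by
    apply Finset.sum_eq_zero
    intro i _
    rw [row_of_fixes hmem hg, row_of_fixes hmem hg, if_neg (mid_ne_ff a i),
      if_neg (mid_ne_ff b i)]
    ring
  rw [h2, zero_add] at h1
  exact h1

theorem midBlock_mul {g h : Matrix (Fin (d + k) ⊕ Fin (d + k)) (Fin (d + k) ⊕ Fin (d + k)) F}
    (hg : Fixes g) (hmem : h ∈ Matrix.symplecticGroup (Fin (d + k)) F) (hh : Fixes h) :
    midBlock (g * h) = midBlock g * midBlock h := by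
  classical
  ext a b
  simp only [midBlock, Matrix.submatrix_apply, Matrix.mul_apply]
  rw [sum_split]
  have h1 : ∑ i : Fin d, g (mid d k a) (ee k i) * h (ee k i) (mid d k b) = 0 := by
    apply Finset.sum_eq_zero
    intro i _
    rw [col_of_fixes hg, if_neg (mid_ne_ee a i), zero_mul]
  have h2 : ∑ i : Fin d, g (mid d k a) (ff k i) * h (ff k i) (mid d k b) = 0 := by
    apply Finset.sum_eq_zero
    intro i _
    rw [row_of_fixes hmem hh, if_neg (mid_ne_ff b i), mul_zero]
  rw [h1, h2, zero_add, zero_add]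

theorem midBlock_one :
    midBlock (1 : Matrix (Fin (d + k) ⊕ Fin (d + k)) (Fin (d + k) ⊕ Fin (d + k)) F) = 1 := by
  classical
  unfold midBlock
  exact Matrix.submatrix_one _ mid_injective

/-- the middle-block homomorphism -/
def midHom (F : Type*) [Field F] (d k : ℕ) :
    MulAction.stabilizer (Matrix.symplecticGroup (Fin (d + k)) F) (stdTup F d k) →*
      Matrix.symplecticGroup (Fin k) F where
  toFun g := ⟨midBlock (g.1 : Matrix (Fin (d + k) ⊕ Fin (d + k)) (Fin (d + k) ⊕ Fin (d + k)) F),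
    midBlock_mem g.1.2 ((mem_stab_iff_fixes g.1).1 g.2)⟩
  map_one' := by
    apply Subtype.ext
    exact midBlock_one
  map_mul' g h := by
    apply Subtype.ext
    exact midBlock_mul ((mem_stab_iff_fixes g.1).1 g.2) h.1.2 ((mem_stab_iff_fixes h.1).1 h.2)

/-! ### the section -/

/-- inclusion matrix of the middle coordinates -/
def Q (F : Type*) [Field F] (d k : ℕ) :
    Matrix (Fin (d + k) ⊕ Fin (d + k)) (Fin k ⊕ Fin k) F :=
  (1 : Matrix (Fin (d + k) ⊕ Fin (d + k)) (Fin (d + k) ⊕ Fin (d + k)) F).submatrix id (mid d k)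

theorem Q_apply (x : Fin (d + k) ⊕ Fin (d + k)) (a : Fin k ⊕ Fin k) :
    Q F d k x a = if x = mid d k a then 1 else 0 := by
  simp [Q, Matrix.one_apply]

theorem Qt_mul_Q : (Q F d k)ᵀ * Q F d k = 1 := by
  ext a b
  rw [Matrix.mul_apply]
  simp only [Matrix.transpose_apply, Q_apply]
  rw [Finset.sum_eq_single (mid d k a)]
  · by_cases hab : a = b
    · subst hab; simp
    · have : mid d k a ≠ mid d k b := fun h => hab (mid_injective h)
      simp [this, hab]
  · intro x _ hx
    simp [hx]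
  · intro h
    exact absurd (Finset.mem_univ _) h

theorem J_ee_mid (i : Fin d) (b : Fin k ⊕ Fin k) :
    Matrix.J (Fin (d + k)) F (ee k i) (mid d k b) = 0 := by
  rcases b with b | b
  · simp [ee, mid, J_inl_inl]
  · simp only [ee, mid, Sum.map_inr, J_inl_inr]
    rw [if_neg]
    intro h
    have := congrArg Fin.val h
    simp at this
    omega

theorem J_ff_mid (i : Fin d) (b : Fin k ⊕ Fin k) :
    Matrix.J (Fin (d + k)) F (ff k i) (mid d k b) = 0 := by
  rcases b with b | b
  · simp only [ff, mid, Sum.map_inl, J_inr_inl]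
    rw [if_neg]
    intro h
    have := congrArg Fin.val h
    simp at this
    omega
  · simp [ff, mid, J_inr_inr]

theorem cases_idx (x : Fin (d + k) ⊕ Fin (d + k)) :
    (∃ a, x = mid d k a) ∨ (∃ i, x = ee k i) ∨ (∃ i, x = ff k i) := by
  rcases x with j | j
  · induction j using Fin.addCases with
    | left i => exact Or.inr (Or.inl ⟨i, rfl⟩)
    | right a => exact Or.inl ⟨Sum.inl a, rfl⟩
  · induction j using Fin.addCases with
    | left i => exact Or.inr (Or.inr ⟨i, rfl⟩)
    | right a => exact Or.inl ⟨Sum.inr a, rfl⟩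

theorem J_mul_Q : Matrix.J (Fin (d + k)) F * Q F d k = Q F d k * Matrix.J (Fin k) F := by
  ext x b
  rw [Matrix.mul_apply, Matrix.mul_apply]
  simp only [Q_apply]
  have hL : ∑ y, Matrix.J (Fin (d + k)) F x y * (if y = mid d k b then (1 : F) else 0) =
      Matrix.J (Fin (d + k)) F x (mid d k b) := by
    simp
  rw [hL]
  rcases cases_idx x with ⟨a, rfl⟩ | ⟨i, rfl⟩ | ⟨i, rfl⟩
  · rw [J_mid, Finset.sum_eq_single a]
    · simp
    · intro a' _ ha'
      have : mid d k a ≠ mid d k a' := fun h => ha' (mid_injective h).symm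
      simp [this]
    · intro h
      exact absurd (Finset.mem_univ _) h
  · rw [J_ee_mid, Finset.sum_eq_zero]
    intro a _
    have : ee k i ≠ mid d k a := fun h => mid_ne_ee a i h.symm
    simp [this]
  · rw [J_ff_mid, Finset.sum_eq_zero]
    intro a _
    have : ff k i ≠ mid d k a := fun h => mid_ne_ff a i h.symm
    simp [this]

theorem Qt_mul_J : (Q F d k)ᵀ * Matrix.J (Fin (d + k)) F = Matrix.J (Fin k) F * (Q F d k)ᵀ := by
  have h := congrArg Matrix.transpose (J_mul_Q (F := F) (d := d) (k := k))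
  rw [Matrix.transpose_mul, Matrix.transpose_mul, Matrix.J_transpose, Matrix.J_transpose,
    Matrix.mul_neg, Matrix.neg_mul] at h
  exact neg_injective h

theorem midBlock_eq (g : Matrix (Fin (d + k) ⊕ Fin (d + k)) (Fin (d + k) ⊕ Fin (d + k)) F) :
    midBlock g = (Q F d k)ᵀ * g * Q F d k := by
  ext a b
  rw [Matrix.mul_apply]
  simp only [midBlock, Matrix.submatrix_apply, Q_apply, Matrix.mul_apply, Matrix.transpose_apply]
  simp

/-- the section `h ↦ 1 ⊕ h` -/
def sec (h : Matrix (Fin k ⊕ Fin k) (Fin k ⊕ Fin k) F) :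
    Matrix (Fin (d + k) ⊕ Fin (d + k)) (Fin (d + k) ⊕ Fin (d + k)) F :=
  1 + Q F d k * (h - 1) * (Q F d k)ᵀ

theorem midBlock_sec (h : Matrix (Fin k ⊕ Fin k) (Fin k ⊕ Fin k) F) :
    midBlock (sec (d := d) h) = h := by
  rw [midBlock_eq, sec, Matrix.mul_add, Matrix.add_mul, Matrix.mul_one, Qt_mul_Q]
  rw [show (Q F d k)ᵀ * (Q F d k * (h - 1) * (Q F d k)ᵀ) * Q F d k =
    ((Q F d k)ᵀ * Q F d k) * (h - 1) * ((Q F d k)ᵀ * Q F d k) by
      simp only [Matrix.mul_assoc]]
  rw [Qt_mul_Q, Matrix.one_mul, Matrix.mul_one]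
  abel

theorem sec_fixes (h : Matrix (Fin k ⊕ Fin k) (Fin k ⊕ Fin k) F) : Fixes (sec (d := d) h) := by
  classical
  intro i
  have h0 : (Q F d k)ᵀ *ᵥ Pi.single (ee k i) 1 = 0 := by
    funext b
    rw [Matrix.mulVec_single_one]
    show Q F d k (ee k i) b = 0
    rw [Q_apply, if_neg]
    exact fun h => mid_ne_ee b i h.symm
  rw [sec, Matrix.add_mulVec, Matrix.one_mulVec, ← Matrix.mulVec_mulVec, h0, Matrix.mulVec_zero,
    add_zero]

theorem sec_mem {h : Matrix (Fin k ⊕ Fin k) (Fin k ⊕ Fin k) F}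
    (hh : h ∈ Matrix.symplecticGroup (Fin k) F) :
    sec (d := d) h ∈ Matrix.symplecticGroup (Fin (d + k)) F := by
  rw [SymplecticGroup.mem_iff] at hh ⊢
  have hJQ : ∀ R : Matrix (Fin k ⊕ Fin k) (Fin (d + k) ⊕ Fin (d + k)) F,
      Matrix.J (Fin (d + k)) F * (Q F d k * R) = Q F d k * (Matrix.J (Fin k) F * R) := by
    intro R
    rw [← Matrix.mul_assoc, J_mul_Q, Matrix.mul_assoc]
  have hQQ : ∀ R : Matrix (Fin k ⊕ Fin k) (Fin (d + k) ⊕ Fin (d + k)) F,
      (Q F d k)ᵀ * (Q F d k * R) = R := by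
    intro R
    rw [← Matrix.mul_assoc, Qt_mul_Q, Matrix.one_mul]
  have hD : (h - 1) * Matrix.J (Fin k) F + Matrix.J (Fin k) F * (h - 1)ᵀ +
      (h - 1) * Matrix.J (Fin k) F * (h - 1)ᵀ = 0 := by
    have : h * Matrix.J (Fin k) F * hᵀ = Matrix.J (Fin k) F +
        ((h - 1) * Matrix.J (Fin k) F + Matrix.J (Fin k) F * (h - 1)ᵀ +
          (h - 1) * Matrix.J (Fin k) F * (h - 1)ᵀ) := by
      rw [Matrix.transpose_sub, Matrix.transpose_one]
      noncomm_ring
    rw [hh] at this
    exact (add_eq_left.mp this.symm)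
  have key : sec (d := d) h * Matrix.J (Fin (d + k)) F * (sec (d := d) h)ᵀ =
      Matrix.J (Fin (d + k)) F + Q F d k * ((h - 1) * Matrix.J (Fin k) F +
        Matrix.J (Fin k) F * (h - 1)ᵀ + (h - 1) * Matrix.J (Fin k) F * (h - 1)ᵀ) * (Q F d k)ᵀ := by
    unfold sec
    rw [Matrix.transpose_add, Matrix.transpose_one, Matrix.transpose_mul, Matrix.transpose_mul,
      Matrix.transpose_transpose]
    simp only [Matrix.add_mul, Matrix.mul_add, Matrix.one_mul, Matrix.mul_one, Matrix.mul_assoc,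
      hJQ, hQQ, Qt_mul_J]
    abel
  rw [key, hD, Matrix.mul_zero, Matrix.zero_mul, add_zero]

end L2a

theorem exists_midHom {F : Type*} [Field F] (d k : ℕ) :
    ∃ π : MulAction.stabilizer (Matrix.symplecticGroup (Fin (d + k)) F) (stdTup F d k) →*
      Matrix.symplecticGroup (Fin k) F, Function.Surjective π := by
  refine ⟨L2a.midHom F d k, fun h => ?_⟩
  refine ⟨⟨⟨L2a.sec (d := d) h.1, L2a.sec_mem h.2⟩,
    (L2a.mem_stab_iff_fixes _).2 (L2a.sec_fixes h.1)⟩, ?_⟩
  apply Subtype.ext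
  exact L2a.midBlock_sec h.1

end Cfsg.Agent.Lib.Helper27.SpU
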