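import Mathlib
import Cfsg.Agent.Lib.Helper27.SpUDefs
import Cfsg.Agent.Lib.Helper27.SpUL2a
import Cfsg.Agent.Lib.Helper29.SpU_L1
import Cfsg.Agent.Lib.Helper16.SpU_L2b
import Cfsg.Agent.Lib.Helper18.SpU_L3
import Cfsg.Agent.Lib.Helper22.SpU_L5
import Cfsg.Agent.Lib.Helper22.SpU_L6
import Cfsg.Agent.Lib.Helper17.SpU_L8
import Cfsg.Agent.Lib.Helper12.SpU_L9
import Cfsg.Agent.Lib.Helper13.SpU_L7

/-!
# S2316: the number of `p`-elements of `Sp_{2m}(q)` is `q^(2m²)` -- assembly

Double counting of pairs (p-element `g`, totally isotropic `W ≤ Fix g`) with Moebius weights,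
see `notes/S2316_plan.md`. Leaves: L1 helper29, L2a helper27, L2b helper16, L3 helper18,
L5 + L6 helper22, L7 helper13, L8 helper17, L9 helper12.
-/

set_option autoImplicit false

namespace Cfsg.Agent.Lib.Helper27.SpU

open Cfsg Matrix Cfsg.Agent.S0775

variable {F : Type*} [Field F]

/-! # ASSEMBLY -/

section assembly

variable [Fintype F]

/-- number of t.i. `d`-subspaces -/
noncomputable def nTI (F : Type*) [Field F] (m d : ℕ) : ℕ :=
  Nat.card {W : Submodule F (Fin m ⊕ Fin m → F) // TIsub W ∧ Module.finrank F W = d}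

omit [Fintype F] in
theorem gamma_pos (q : ℕ) (hq : 2 ≤ q) (d : ℕ) : 0 < ∏ i : Fin d, (q ^ d - q ^ (i : ℕ)) := by
  apply Finset.prod_pos
  intro i _
  have : q ^ (i : ℕ) < q ^ d := Nat.pow_lt_pow_right (by omega) i.2
  omega

theorem nTI_eq_zero (m d : ℕ) (hd : m < d) : nTI F m d = 0 := by
  have h := card_TIsub_mul (F := F) m d
  have hz : ∏ i ∈ Finset.range d, (Fintype.card F ^ (2 * m - i) - Fintype.card F ^ i) = 0 := by
    apply Finset.prod_eq_zero (Finset.mem_range.2 hd)
    have : 2 * m - m = m := by omega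
    rw [this, Nat.sub_self]
  rw [hz] at h
  have hq : 2 ≤ Fintype.card F := Fintype.one_lt_card
  rcases Nat.eq_zero_or_pos (nTI F m d) with h0 | h0
  · exact h0
  · exfalso
    have := Nat.mul_pos h0 (gamma_pos (Fintype.card F) hq d)
    unfold nTI at this
    omega

theorem finrank_le_of_TIsub {m : ℕ} (W : Submodule F (Fin m ⊕ Fin m → F)) (hW : TIsub W) :
    Module.finrank F W ≤ m := by
  by_contra h
  push Not at h
  have h0 := nTI_eq_zero (F := F) m _ h
  unfold nTI at h0
  have : Nonempty {W' : Submodule F (Fin m ⊕ Fin m → F) //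
      TIsub W' ∧ Module.finrank F W' = Module.finrank F W} := ⟨⟨W, hW, rfl⟩⟩
  have hpos := Nat.card_pos (α := {W' : Submodule F (Fin m ⊕ Fin m → F) //
      TIsub W' ∧ Module.finrank F W' = Module.finrank F W})
  omega

theorem nTI_zero (m : ℕ) : nTI F m 0 = 1 := by
  have h := card_TIsub_mul (F := F) m 0
  simpa [nTI] using h

variable (p : ℕ) [Fact p.Prime] [CharP F p]

theorem cStd_formula (d k : ℕ) :
    Nat.card {g : MulAction.stabilizer (Matrix.symplecticGroup (Fin (d + k)) F)
      (stdTup F d k) // IsPElt p g} = Fintype.card F ^ eExp d k * uCount p F k := by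
  obtain ⟨π, hπ⟩ := exists_midHom (F := F) d k
  obtain ⟨f, -, hf⟩ := FiniteField.card F p
  have h1 := Subgroup.card_eq_card_quotient_mul_card_subgroup π.ker
  rw [Nat.card_congr (QuotientGroup.quotientKerEquivOfSurjective π hπ).toEquiv,
    card_stab_std] at h1
  have hpos : 0 < Nat.card (Matrix.symplecticGroup (Fin k) F) := Nat.card_pos
  have hker : Nat.card π.ker = p ^ ((f : ℕ) * eExp d k) := by
    rw [pow_mul, ← hf]
    have h2 : Nat.card (Matrix.symplecticGroup (Fin k) F) * Fintype.card F ^ eExp d k =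
        Nat.card (Matrix.symplecticGroup (Fin k) F) * Nat.card π.ker := by
      rw [mul_comm, h1]
    exact (Nat.eq_of_mul_eq_mul_left hpos h2).symm
  rw [card_pElt_of_surj p π hπ _ hker, pow_mul, ← hf]
  rfl

theorem cW_formula (m d : ℕ) (hd : d ≤ m) (W : Submodule F (Fin m ⊕ Fin m → F))
    (hW : TIsub W) (hdim : Module.finrank F W = d) :
    cW p W = Fintype.card F ^ eExp d (m - d) * uCount p F (m - d) := by
  revert W
  obtain ⟨k, rfl⟩ := Nat.exists_eq_add_of_le hd
  intro W hW hdim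
  rw [Nat.add_sub_cancel_left, cW_eq_std p d k W hW hdim, cStd_formula]

end assembly


section dc

variable [Fintype F] (p : ℕ) [Fact p.Prime] [CharP F p] {m : ℕ}

omit [Fintype F] in
theorem fixSp_one : fixSp (1 : Matrix.symplecticGroup (Fin m) F) = ⊤ := by
  rw [eq_top_iff]
  intro v _
  rw [mem_fixSp]
  simp

omit [Fintype F] [Fact p.Prime] [CharP F p] in
theorem isPElt_one : IsPElt p (1 : Matrix.symplecticGroup (Fin m) F) := ⟨0, by simp⟩

theorem sum_mu_eq (T : Finset (Submodule F (Fin m ⊕ Fin m → F))) (hT : ∀ W, W ∈ T ↔ TIsub W) :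
    ∑ W ∈ T, mu (Fintype.card F) (Module.finrank F W) =
      ∑ W ∈ T, (cW p W : ℤ) * mu (Fintype.card F) (Module.finrank F W) := by
  classical
  let U : Finset (Matrix.symplecticGroup (Fin m) F) :=
    (Set.toFinite {g : Matrix.symplecticGroup (Fin m) F | IsPElt p g}).toFinset
  have hU : ∀ g, g ∈ U ↔ IsPElt p g := fun g => by simp [U]
  have hone : (1 : Matrix.symplecticGroup (Fin m) F) ∈ U := (hU 1).2 (isPElt_one p)
  have hL : ∑ g ∈ U, ∑ W ∈ T.filter (fun W => W ≤ fixSp g),
      mu (Fintype.card F) (Module.finrank F W) =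
      ∑ W ∈ T, mu (Fintype.card F) (Module.finrank F W) := by
    rw [Finset.sum_eq_single_of_mem 1 hone]
    · rw [Finset.filter_true_of_mem]
      intro W _
      rw [fixSp_one]
      exact le_top
    · intro g hg hg1
      obtain ⟨r, hr0, hrX, hperp⟩ := exists_rad p g ((hU g).1 hg) hg1
      apply mobius_sum_eq_zero (fixSp g) r hr0 hrX hperp
      intro W
      rw [Finset.mem_filter, hT]
      tauto
  have hR : ∑ g ∈ U, ∑ W ∈ T.filter (fun W => W ≤ fixSp g),
      mu (Fintype.card F) (Module.finrank F W) =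
      ∑ W ∈ T, ∑ g ∈ U.filter (fun g => W ≤ fixSp g),
        mu (Fintype.card F) (Module.finrank F W) := by
    apply Finset.sum_comm'
    intro g W
    simp only [Finset.mem_filter]
    tauto
  rw [← hL, hR]
  apply Finset.sum_congr rfl
  intro W _
  rw [Finset.sum_const, nsmul_eq_mul]
  congr 2
  unfold cW
  rw [Nat.subtype_card (U.filter (fun g => W ≤ fixSp g))]
  intro g
  rw [Finset.mem_filter, hU]

theorem sum_by_dim (T : Finset (Submodule F (Fin m ⊕ Fin m → F))) (hT : ∀ W, W ∈ T ↔ TIsub W)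
    (h : ℕ → ℤ) :
    ∑ W ∈ T, h (Module.finrank F W) = ∑ d ∈ Finset.range (m + 1), (nTI F m d : ℤ) * h d := by
  classical
  rw [← Finset.sum_fiberwise_of_maps_to (g := fun W : Submodule F (Fin m ⊕ Fin m → F) => Module.finrank F W)
    (t := Finset.range (m + 1))]
  · apply Finset.sum_congr rfl
    intro d _
    have h1 : ∀ W ∈ T.filter (fun W : Submodule F (Fin m ⊕ Fin m → F) =>
        Module.finrank F W = d), h (Module.finrank F W) = h d := by
      intro W hW
      rw [(Finset.mem_filter.1 hW).2]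
    rw [Finset.sum_congr rfl h1, Finset.sum_const, nsmul_eq_mul]
    congr 2
    unfold nTI
    rw [Nat.subtype_card (T.filter (fun W : Submodule F (Fin m ⊕ Fin m → F) =>
      Module.finrank F W = d))]
    intro W
    rw [Finset.mem_filter, hT]
  · intro W hW
    rw [Finset.mem_range]
    have := finrank_le_of_TIsub W ((hT W).1 hW)
    omega

end dc

section main

theorem tri_id (d : ℕ) : d * (d - 1) / 2 + d * (d + 1) / 2 = d ^ 2 := by
  obtain ⟨c, hc⟩ := Nat.even_mul_pred_self d
  have h1 : d * (d + 1) = d * (d - 1) + 2 * d := by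
    rcases d with _ | d
    · simp
    · simp only [Nat.add_sub_cancel]; ring
  rw [h1, Nat.add_mul_div_left _ _ (by norm_num : 0 < 2), hc]
  have : (c + c) / 2 = c := by omega
  rw [this]
  have h2 : d ^ 2 = d * (d - 1) + d := by
    rcases d with _ | d
    · simp
    · simp only [Nat.add_sub_cancel]; ring
  rw [h2, hc]
  ring

theorem exp_id (d k : ℕ) : d * (d - 1) / 2 + eExp d k + 2 * k ^ 2 = (d + k) ^ 2 + k ^ 2 := by
  unfold eExp
  have := tri_id d
  have h : d * (d - 1) / 2 + (2 * d * k + d * (d + 1) / 2) + 2 * k ^ 2 =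
      (d * (d - 1) / 2 + d * (d + 1) / 2) + 2 * d * k + 2 * k ^ 2 := by ring
  rw [h, this]
  ring

variable [Fintype F] (p : ℕ) [Fact p.Prime] [CharP F p]

theorem uCount_eq (m : ℕ) : uCount p F m = Fintype.card F ^ (2 * m ^ 2) := by
  induction m using Nat.strong_induction_on with
  | _ m ih =>
  classical
  set q := Fintype.card F with hq
  have hq2 : 2 ≤ q := Fintype.one_lt_card
  let T : Finset (Submodule F (Fin m ⊕ Fin m → F)) :=
    (Set.toFinite {W : Submodule F (Fin m ⊕ Fin m → F) | TIsub W}).toFinset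
  have hT : ∀ W, W ∈ T ↔ TIsub W := fun W => by simp [T]
  have e1 := sum_mu_eq p T hT
  rw [sum_by_dim T hT (fun d => mu q d)] at e1
  have e2 : ∑ W ∈ T, (cW p W : ℤ) * mu q (Module.finrank F W) =
      ∑ W ∈ T, (fun d => ((q ^ eExp d (m - d) * uCount p F (m - d) : ℕ) : ℤ) * mu q d)
        (Module.finrank F W) := by
    apply Finset.sum_congr rfl
    intro W hW
    have hW' := (hT W).1 hW
    rw [cW_formula p m _ (finrank_le_of_TIsub W hW') W hW' rfl]
  rw [e2, sum_by_dim T hT (fun d => ((q ^ eExp d (m - d) * uCount p F (m - d) : ℕ) : ℤ) * mu q d),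
    Finset.sum_range_succ' _ m, Finset.sum_range_succ' _ m] at e1
  have e3 : ∑ d ∈ Finset.range (m + 1), (nTI F m d : ℤ) * mu q d =
      ∑ d ∈ Finset.range (m + 1), (-1 : ℤ) ^ d * (nTI F m d : ℤ) *
        (q : ℤ) ^ (m ^ 2 + (m - d) ^ 2) := by
    rw [← num_identity q m hq2 (nTI F m) (fun d _ => card_TIsub_mul (F := F) m d)]
    apply Finset.sum_congr rfl
    intro d _
    ring
  rw [Finset.sum_range_succ' _ m, Finset.sum_range_succ' _ m] at e3
  have e4 : ∀ d ∈ Finset.range m,
      (nTI F m (d + 1) : ℤ) * (((q ^ eExp (d + 1) (m - (d + 1)) *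
        uCount p F (m - (d + 1)) : ℕ) : ℤ) * mu q (d + 1)) =
      (-1 : ℤ) ^ (d + 1) * (nTI F m (d + 1) : ℤ) * (q : ℤ) ^ (m ^ 2 + (m - (d + 1)) ^ 2) := by
    intro d hd
    have hd' : d + 1 ≤ m := by
      have := Finset.mem_range.1 hd
      omega
    rw [ih (m - (d + 1)) (by omega)]
    have hx := exp_id (d + 1) (m - (d + 1))
    have hm : d + 1 + (m - (d + 1)) = m := by omega
    rw [hm] at hx
    rw [show mu q (d + 1) = (-1) ^ (d + 1) * (q : ℤ) ^ ((d + 1) * (d + 1 - 1) / 2) from rfl,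
      ← hx]
    generalize (d + 1) * (d + 1 - 1) / 2 = A
    generalize eExp (d + 1) (m - (d + 1)) = B
    push_cast
    rw [pow_add, pow_add]
    ring
  rw [Finset.sum_congr rfl e4] at e1
  have e5 : (nTI F m 0 : ℤ) = 1 := by rw [nTI_zero]; rfl
  have e6 : eExp 0 (m - 0) = 0 := by simp [eExp]
  have e7 : mu q 0 = 1 := by simp [mu]
  rw [e5, e6, e7] at e1
  rw [e5, e7] at e3
  have e8 : ((uCount p F m : ℕ) : ℤ) = (q : ℤ) ^ (2 * m ^ 2) := by
    have : m ^ 2 + (m - 0) ^ 2 = 2 * m ^ 2 := by simp; ring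
    rw [this] at e3
    simp only [Nat.sub_zero, pow_zero, one_mul, mul_one] at e1 e3
    linarith
  exact_mod_cast e8

end main

end Cfsg.Agent.Lib.Helper27.SpU
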