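import Mathlib
import Cfsg.Agent.Lib.Helper27.StCountA
import Cfsg.Agent.Lib.Helper27.ParBN

/-!
# Double counting `p`-elements against permutation characters; the relative Steinberg sum
-/

set_option autoImplicit false

namespace Cfsg.Agent.Lib.Helper27.StCount

open Cfsg Cfsg.Agent.Lib.Helper3.BN Cfsg.Agent.Lib.Helper6.BNSt Cfsg.Agent.Lib.Helper27.ParBN

universe u

variable {X : Type u} [Group X]

/-- the number of `p`-elements of a subgroup -/
noncomputable def pCount (p : ℕ) (H : Subgroup X) : ℕ := Nat.card {g : X // g ∈ H ∧ IsPEl p g}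

open Classical in
/-- `∑_{g p-element} 1_H^X(g) = |X : H| · #(p-elements of H)` -/
theorem sum_fixedPointCharacter_pEl [Fintype X] (p : ℕ) (H : Subgroup X) :
    ∑ g ∈ Finset.univ.filter (fun g : X => IsPEl p g), fixedPointCharacter H g =
      ((H.index * pCount p H : ℕ) : ℂ) := by
  have hfin : Fintype (X ⧸ H) := Fintype.ofFinite _
  have h1 : ∀ g : X, fixedPointCharacter H g =
      (((Finset.univ : Finset (X ⧸ H)).filter (fun q => g • q = q)).card : ℂ) := by
    intro g
    unfold fixedPointCharacter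
    congr 1
    rw [← Nat.subtype_card (p := fun q : X ⧸ H => q ∈ MulAction.fixedBy (X ⧸ H) g)]
    intro q
    rw [Finset.mem_filter, MulAction.mem_fixedBy]
    simp
  rw [Finset.sum_congr rfl (fun g _ => h1 g), ← Nat.cast_sum]
  congr 1
  have h2 : ∑ g ∈ Finset.univ.filter (fun g : X => IsPEl p g),
      ((Finset.univ : Finset (X ⧸ H)).filter (fun q => g • q = q)).card =
      ∑ q : X ⧸ H, ((Finset.univ.filter (fun g : X => IsPEl p g)).filter
        (fun g => g • q = q)).card := by
    simp_rw [Finset.card_filter]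
    exact Finset.sum_comm
  rw [h2]
  have h3 : ∀ q : X ⧸ H, ((Finset.univ.filter (fun g : X => IsPEl p g)).filter
      (fun g => g • q = q)).card = pCount p H := by
    intro q
    induction q using QuotientGroup.induction_on with
    | H x =>
      unfold pCount
      rw [← Nat.subtype_card (p := fun g : X => IsPEl p g ∧ g • (QuotientGroup.mk x : X ⧸ H) =
        QuotientGroup.mk x)]
      · apply Nat.card_congr
        refine
          { toFun := fun g => ⟨x⁻¹ * g.1 * x, ?_, ?_⟩
            invFun := fun g => ⟨x * g.1 * x⁻¹, ?_, ?_⟩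
            left_inv := fun g => Subtype.ext (by group)
            right_inv := fun g => Subtype.ext (by group) }
        · have h := g.2.2
          have e : g.1 • (QuotientGroup.mk x : X ⧸ H) = QuotientGroup.mk (g.1 * x) := rfl
          rw [e, QuotientGroup.eq] at h
          have e2 : (g.1 * x)⁻¹ * x = (x⁻¹ * g.1 * x)⁻¹ := by group
          rw [e2] at h
          have := H.inv_mem h
          rwa [inv_inv] at this
        · have := (isPEl_conj p x⁻¹ g.1).2 g.2.1
          rwa [inv_inv] at this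
        · exact (isPEl_conj p x g.1).2 g.2.2
        · have e : (x * g.1 * x⁻¹) • (QuotientGroup.mk x : X ⧸ H) =
              QuotientGroup.mk (x * g.1 * x⁻¹ * x) := rfl
          rw [e, QuotientGroup.eq]
          have e2 : (x * g.1 * x⁻¹ * x)⁻¹ * x = (g.1)⁻¹ := by group
          rw [e2]
          exact H.inv_mem g.2.1
      · intro g
        rw [Finset.mem_filter, Finset.mem_filter]
        simp
  rw [Finset.sum_congr rfl (fun q _ => h3 q), Finset.sum_const, smul_eq_mul, Finset.card_univ]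
  congr 1
  rw [Subgroup.index, Nat.card_eq_fintype_card]

/-- `p`-elements of a subgroup of a subgroup -/
theorem pCount_subgroupOf (p : ℕ) {A L : Subgroup X} (h : A ≤ L) :
    pCount p (A.subgroupOf L) = pCount p A := by
  unfold pCount
  apply Nat.card_congr
  refine
    { toFun := fun g => ⟨(g.1 : X), ?_, ?_⟩
      invFun := fun g => ⟨⟨g.1, h g.2.1⟩, ?_, ?_⟩
      left_inv := fun g => rfl
      right_inv := fun g => rfl }
  · exact Subgroup.mem_subgroupOf.1 g.2.1
  · obtain ⟨k, hk⟩ := g.2.2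
    exact ⟨k, by rw [Subgroup.orderOf_coe, hk]⟩
  · exact Subgroup.mem_subgroupOf.2 g.2.1
  · obtain ⟨k, hk⟩ := g.2.2
    refine ⟨k, ?_⟩
    rw [← hk]
    exact (Subgroup.orderOf_coe (⟨g.1, h g.2.1⟩ : L)).symm

section rel

variable {G : Type u} [Group G] [Fintype G] (P : Cfsg.BNPair G) (p : ℕ) [Fact p.Prime]
  (U : Subgroup G) (hUB : U ≤ P.B) (hUn : ∀ b ∈ P.B, ∀ u ∈ U, b * u * b⁻¹ ∈ U)
  (hUp : IsPGroup p U) (hUidx : ¬ p ∣ U.index)
  (hBUH : ∀ b ∈ P.B, ∃ u ∈ U, ∃ h ∈ P.B ⊓ P.N, b = u * h)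
  (hUH : U ⊓ (P.B ⊓ P.N) = ⊥)
  (J : Finset G) (hJ : (J : Set G) ⊆ P.S)
  (O : Subgroup G) (hOU : O ≤ U)
  (hOn : ∀ x ∈ P.parabolic (J : Set G), ∀ o ∈ O, x * o * x⁻¹ ∈ O)
  (n : G) (hn : n ∈ NJ P (J : Set G))
  (hlong : ∀ s ∈ J, ∃ g ∈ dc P n, s * g ∈ dc P n)
  (hcrux : ∀ u ∈ U, n⁻¹ * u * n ∈ P.B → u ∈ O)

open Classical in
include hUB hUn hUp hUidx hBUH hUH hJ hOU hOn hn hlong hcrux in
/-- the relative Steinberg sum: `∑_{K ⊆ J} (-1)^|K| |P_J : P_K| #(p-elements of P_K) = |U|` -/
theorem rel_sum :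
    ∑ K ∈ J.powerset, (-1 : ℂ) ^ K.card *
      ((((P.parabolic (K : Set G)).subgroupOf (P.parabolic (J : Set G))).index *
        pCount p (P.parabolic (K : Set G)) : ℕ) : ℂ) = (Nat.card U : ℂ) := by
  letI : Fintype ↥(P.parabolic (J : Set G)) := Fintype.ofFinite _
  have hBPJ : P.B ≤ P.parabolic (J : Set G) := ParBN.B_le_parabolic P _
  have hUPJ : U ≤ P.parabolic (J : Set G) := le_trans hUB hBPJ
  set Q := parBN P (J : Set G) hJ with hQ
  set Sfin' : Finset ↥(P.parabolic (J : Set G)) :=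
    J.subtype (fun g => g ∈ P.parabolic (J : Set G)) with hS'
  have hSfin' : (Sfin' : Set ↥(P.parabolic (J : Set G))) = Q.S := by
    ext x
    rw [hQ, parBN_S]
    simp [hS']
  have hn' : n ∈ P.parabolic (J : Set G) := NJ_le_parabolic P _ hn
  have main := sum_stFun_pEl Q Sfin' hSfin' p (U.subgroupOf (P.parabolic (J : Set G)))
    (O.subgroupOf (P.parabolic (J : Set G)))
    (by
      intro x hx
      rw [hQ, parBN_B, Subgroup.mem_subgroupOf]
      exact hUB (Subgroup.mem_subgroupOf.1 hx))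
    (by
      intro b hb u hu
      rw [hQ, parBN_B, Subgroup.mem_subgroupOf] at hb
      rw [Subgroup.mem_subgroupOf] at hu ⊢
      exact hUn _ hb _ hu)
    (hUp.comap_subtype)
    (by
      intro hdvd
      apply hUidx
      have h1 : (U.subgroupOf (P.parabolic (J : Set G))).index ∣ U.index := by
        have := Subgroup.relIndex_mul_index hUPJ
        exact Dvd.intro _ this
      exact dvd_trans hdvd h1)
    (by
      intro b hb
      rw [hQ, parBN_B, Subgroup.mem_subgroupOf] at hb
      obtain ⟨u, hu, h, hh, he⟩ := hBUH _ hb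
      have hhPJ : h ∈ P.parabolic (J : Set G) := hBPJ (Subgroup.mem_inf.1 hh).1
      refine ⟨⟨u, hUPJ hu⟩, Subgroup.mem_subgroupOf.2 hu, ⟨h, hhPJ⟩, ?_, Subtype.ext he⟩
      rw [hQ, parBN_B, parBN_N, Subgroup.mem_inf, Subgroup.mem_subgroupOf, Subgroup.mem_subgroupOf]
      exact ⟨(Subgroup.mem_inf.1 hh).1, H_le_NJ P _ hh⟩)
    (by
      rw [Subgroup.eq_bot_iff_forall]
      intro x hx
      rw [hQ, parBN_B, parBN_N, Subgroup.mem_inf, Subgroup.mem_inf, Subgroup.mem_subgroupOf,
        Subgroup.mem_subgroupOf, Subgroup.mem_subgroupOf] at hx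
      have h1 : (x : G) ∈ U ⊓ (P.B ⊓ P.N) :=
        Subgroup.mem_inf.2 ⟨hx.1, Subgroup.mem_inf.2 ⟨hx.2.1, NJ_le_N P hJ hx.2.2⟩⟩
      rw [hUH, Subgroup.mem_bot] at h1
      exact Subtype.ext h1)
    (by
      intro x hx
      rw [Subgroup.mem_subgroupOf] at hx ⊢
      exact hOU hx)
    (by
      intro x o ho
      rw [Subgroup.mem_subgroupOf] at ho ⊢
      exact hOn _ x.2 _ ho)
    ⟨n, hn'⟩
    (by
      rw [hQ, parBN_N, Subgroup.mem_subgroupOf]
      exact hn)
    (by
      intro s hs
      rw [hQ, parBN_S] at hs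
      have hsJ : (s : G) ∈ J := hs
      obtain ⟨g, hg, hsg⟩ := hlong _ hsJ
      rw [mem_dc] at hg hsg
      obtain ⟨b, hb, b', hb', he⟩ := hg
      obtain ⟨c, hc, c', hc', he'⟩ := hsg
      have hgPJ : g ∈ P.parabolic (J : Set G) := by
        rw [he]
        exact Subgroup.mul_mem _ (Subgroup.mul_mem _ (hBPJ hb) hn') (hBPJ hb')
      refine ⟨⟨g, hgPJ⟩, ?_, ?_⟩
      · rw [mem_dc]
        refine ⟨⟨b, hBPJ hb⟩, ?_, ⟨b', hBPJ hb'⟩, ?_, Subtype.ext he⟩
        · rw [hQ, parBN_B, Subgroup.mem_subgroupOf]; exact hb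
        · rw [hQ, parBN_B, Subgroup.mem_subgroupOf]; exact hb'
      · rw [mem_dc]
        refine ⟨⟨c, hBPJ hc⟩, ?_, ⟨c', hBPJ hc'⟩, ?_, Subtype.ext he'⟩
        · rw [hQ, parBN_B, Subgroup.mem_subgroupOf]; exact hc
        · rw [hQ, parBN_B, Subgroup.mem_subgroupOf]; exact hc')
    (by
      intro u hu h
      rw [Subgroup.mem_subgroupOf] at hu ⊢
      rw [hQ, parBN_B, Subgroup.mem_subgroupOf] at h
      exact hcrux _ hu h)
  rw [Nat.card_congr (Subgroup.subgroupOfEquivOfLe hUPJ).toEquiv] at main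
  rw [← main]
  unfold stFun
  rw [Finset.sum_comm]
  symm
  -- reindex the subsets
  refine Finset.sum_bij' (fun K' _ => K'.map (Function.Embedding.subtype _))
    (fun K _ => K.subtype (fun g => g ∈ P.parabolic (J : Set G))) ?_ ?_ ?_ ?_ ?_
  · intro K' hK'
    rw [Finset.mem_powerset] at hK' ⊢
    intro g hg
    rw [Finset.mem_map] at hg
    obtain ⟨x, hx, rfl⟩ := hg
    have := hK' hx
    rw [hS', Finset.mem_subtype] at this
    exact this
  · intro K hK
    rw [Finset.mem_powerset] at hK ⊢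
    intro x hx
    rw [Finset.mem_subtype] at hx
    rw [hS', Finset.mem_subtype]
    exact hK hx
  · intro K' _
    ext x
    simp
  · intro K hK
    rw [Finset.mem_powerset] at hK
    ext g
    rw [Finset.mem_map]
    constructor
    · rintro ⟨x, hx, rfl⟩
      rw [Finset.mem_subtype] at hx
      exact hx
    · intro hg
      have hgPJ : g ∈ P.parabolic (J : Set G) :=
        (le_sup_right : Subgroup.closure (J : Set G) ≤ P.parabolic (J : Set G))
          (Subgroup.subset_closure (hK hg))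
      exact ⟨⟨g, hgPJ⟩, Finset.mem_subtype.2 hg, rfl⟩
  · intro K' hK'
    rw [Finset.mem_powerset] at hK'
    rw [← Finset.mul_sum, sum_fixedPointCharacter_pEl, Finset.card_map]
    have hKJ : ((K'.map (Function.Embedding.subtype _) : Finset G) : Set G) ⊆ (J : Set G) := by
      intro g hg
      rw [Finset.mem_coe, Finset.mem_map] at hg
      obtain ⟨x, hx, rfl⟩ := hg
      have := hK' hx
      rw [hS', Finset.mem_subtype] at this
      exact this
    have hpar : Q.parabolic (K' : Set ↥(P.parabolic (J : Set G))) =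
        (P.parabolic ((K'.map (Function.Embedding.subtype _) : Finset G) : Set G)).subgroupOf
          (P.parabolic (J : Set G)) := by
      rw [hQ, ← parBN_parabolic P (J : Set G) hJ _ hKJ]
      congr 1
      ext x
      simp
    have hle : P.parabolic ((K'.map (Function.Embedding.subtype _) : Finset G) : Set G) ≤
        P.parabolic (J : Set G) := sup_le_sup_left (Subgroup.closure_mono hKJ) _
    rw [hpar, pCount_subgroupOf p hle]

end rel

end Cfsg.Agent.Lib.Helper27.StCount
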