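import Mathlib
import Cfsg.Prelude.Def_Classical
import Cfsg.Agent.Lib.Helper11.Su2Defs
import Cfsg.Agent.Lib.Helper5.SUGen
import Cfsg.Agent.Lib.Helper14.HermCount
import Cfsg.Agent.Lib.Helper14.SU2EX

/-!
helper27: Su2INST (S2153 market "SU2", planner helper11): `SU_n(2) = ↥(Cfsg.SU n F 2)`, `|F| = 4`,
`n ≥ 4`, acting on `Fin n → F`, is an instance of helper11's abstract `Su2.Setting`; plus the numerical
hypotheses `card_V4`, `card_iso4`.
-/

set_option autoImplicit false
set_option linter.unusedSectionVars false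
set_option linter.unusedVariables false

namespace Cfsg.Agent.Lib.Helper27.Su2Leaf

open Matrix Cfsg.Agent.Lib.Helper11.Su2 Cfsg.Agent.Lib.Helper14 Cfsg.Agent.Lib.Helper5.SUGen
  Cfsg.Agent.Lib.Helper5.HermBridge Cfsg.Agent.Lib.Helper5.UForm Cfsg.Agent.Lib.Helper5.SpMax

section field4

variable {F : Type*} [Field F] [Fintype F]

theorem card_sq_of_four (hF : Fintype.card F = 4) : Fintype.card F = 2 ^ 2 := by
  rw [hF]; norm_num

theorem two_eq_zero_of_card4 (hF : Fintype.card F = 4) : (2 : F) = 0 := by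
  have h := Nat.cast_card_eq_zero F
  rw [hF] at h
  have h4 : (2 : F) * 2 = 0 := by
    have : ((4 : ℕ) : F) = 2 * 2 := by norm_num
    rw [← this]; exact h
  rcases mul_eq_zero.mp h4 with h | h <;> exact h

theorem pow_four_of_card4 (hF : Fintype.card F = 4) (a : F) : a ^ 4 = a := by
  have := FiniteField.pow_card a
  rwa [hF] at this

theorem exists_om_of_card4 (hF : Fintype.card F = 4) : ∃ om : F, om * om + om + 1 = 0 := by
  classical
  have hlt : ({0, 1} : Finset F).card < (Finset.univ : Finset F).card := by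
    rw [Finset.card_univ, hF]
    have := Finset.card_insert_le (0 : F) {1}
    rw [Finset.card_singleton] at this
    omega
  obtain ⟨a, -, ha⟩ := Finset.exists_mem_notMem_of_card_lt_card hlt
  simp only [Finset.mem_insert, Finset.mem_singleton, not_or] at ha
  refine ⟨a, ?_⟩
  have h3 : a ^ 3 = 1 := by
    have := FiniteField.pow_card_sub_one_eq_one a ha.1
    rwa [hF] at this
  have h1 : (a - 1) * (a * a + a + 1) = 0 := by
    linear_combination h3
  rcases mul_eq_zero.mp h1 with h | h
  · exact absurd (sub_eq_zero.mp h) ha.2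
  · exact h

theorem cases_of_card4 (hF : Fintype.card F = 4) {om : F} (hom : om * om + om + 1 = 0) (a : F) :
    a = 0 ∨ a = 1 ∨ a = om ∨ a = om + 1 := by
  have h2 := two_eq_zero_of_card4 hF
  have h4 := pow_four_of_card4 hF a
  have key : a * (a - 1) * (a - om) * (a - (om + 1)) = 0 := by
    linear_combination h4 + (a - a ^ 3 - om * a * a * (a - 1)) * h2 + a * (a - 1) * hom
  rcases mul_eq_zero.mp key with h | h
  · rcases mul_eq_zero.mp h with h | h
    · rcases mul_eq_zero.mp h with h | h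
      · exact Or.inl h
      · exact Or.inr (Or.inl (sub_eq_zero.mp h))
    · exact Or.inr (Or.inr (Or.inl (sub_eq_zero.mp h)))
  · exact Or.inr (Or.inr (Or.inr (sub_eq_zero.mp h)))

end field4

section gq

variable {F : Type*} [Field F] [Fintype F] {n : ℕ}

/-- the matrix `1 + w x̄ᵀ + x w̄ᵀ + c x x̄ᵀ` -/
def gqM (x w : Fin n → F) (c : F) : Matrix (Fin n) (Fin n) F :=
  1 + Matrix.vecMulVec w (fun j => x j ^ 2) + Matrix.vecMulVec x (fun j => w j ^ 2) +
    c • Matrix.vecMulVec x (fun j => x j ^ 2)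

omit [Fintype F] in
theorem vecMulVec_pow_mulVec (a b z : Fin n → F) :
    Matrix.vecMulVec a (fun j => b j ^ 2) *ᵥ z = Cfsg.hermForm n F 2 z b • a := by
  rw [Matrix.vecMulVec_mulVec, pow_dot]
  ext i
  simp only [Pi.smul_apply, smul_eq_mul, MulOpposite.smul_eq_mul_unop, MulOpposite.unop_op]
  ring

omit [Fintype F] in
theorem gqM_mulVec (x w : Fin n → F) (c : F) (z : Fin n → F) :
    gqM x w c *ᵥ z = z + Cfsg.hermForm n F 2 z x • w +
      (Cfsg.hermForm n F 2 z w + c * Cfsg.hermForm n F 2 z x) • x := by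
  unfold gqM
  rw [Matrix.add_mulVec, Matrix.add_mulVec, Matrix.add_mulVec, Matrix.one_mulVec,
    Matrix.smul_mulVec, vecMulVec_pow_mulVec, vecMulVec_pow_mulVec, vecMulVec_pow_mulVec]
  module

/-- `gqM` preserves the hermitian form -/
theorem gqM_form (hF : Fintype.card F = 4) {x w : Fin n → F} {c : F}
    (hx : Cfsg.hermForm n F 2 x x = 0) (hw : Cfsg.hermForm n F 2 w x = 0)
    (hc : c + c * c = Cfsg.hermForm n F 2 w w) (z z' : Fin n → F) :
    Cfsg.hermForm n F 2 (gqM x w c *ᵥ z) (gqM x w c *ᵥ z') = Cfsg.hermForm n F 2 z z' := by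
  have hF' := card_sq_of_four hF
  have hf := herm_unitary (n := n) hF'
  have h2 := two_eq_zero_of_card4 hF
  have hxw : Cfsg.hermForm n F 2 x w = 0 := by rw [hf.herm x w, hw, map_zero]
  have e1 : Cfsg.hermForm n F 2 w z' = (Cfsg.hermForm n F 2 z' w) ^ 2 := by
    rw [hf.herm w z', frobQ_apply]
  have e2 : Cfsg.hermForm n F 2 x z' = (Cfsg.hermForm n F 2 z' x) ^ 2 := by
    rw [hf.herm x z', frobQ_apply]
  rw [gqM_mulVec, gqM_mulVec]
  simp only [hf.add_left, u_add_right hf, hf.smul_left, u_smul_right hf, frobQ_apply, hx, hw, hxw,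
    ← hc, e1, e2]
  linear_combination ((Cfsg.hermForm n F 2 z' x) ^ 2 * Cfsg.hermForm n F 2 z w +
    Cfsg.hermForm n F 2 z x * (Cfsg.hermForm n F 2 z' w) ^ 2 +
    Cfsg.hermForm n F 2 z x * (Cfsg.hermForm n F 2 z' x) ^ 2 * (c + c ^ 2) +
    Cfsg.hermForm n F 2 z' x * Cfsg.hermForm n F 2 z' w * c * Cfsg.hermForm n F 2 z x) * h2

/-- the square of `gqM` -/
theorem gqM_sq_mulVec (hF : Fintype.card F = 4) {x w : Fin n → F} {c : F}
    (hx : Cfsg.hermForm n F 2 x x = 0) (hw : Cfsg.hermForm n F 2 w x = 0) (z : Fin n → F) :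
    (gqM x w c * gqM x w c) *ᵥ z =
      z + (Cfsg.hermForm n F 2 w w * Cfsg.hermForm n F 2 z x) • x := by
  have hF' := card_sq_of_four hF
  have hf := herm_unitary (n := n) hF'
  have h2 := two_eq_zero_of_card4 hF
  have hxw : Cfsg.hermForm n F 2 x w = 0 := by rw [hf.herm x w, hw, map_zero]
  rw [← Matrix.mulVec_mulVec, gqM_mulVec, gqM_mulVec]
  simp only [hf.add_left, hf.smul_left, hx, hw, hxw]
  have h2' : ∀ a : F, a + a = 0 := fun a => by linear_combination a * h2
  have h2v : ∀ v : Fin n → F, v + v = 0 := fun v => by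
    ext i; exact h2' (v i)
  ext i
  simp only [Pi.add_apply, Pi.smul_apply, smul_eq_mul]
  linear_combination (Cfsg.hermForm n F 2 z x * w i + Cfsg.hermForm n F 2 z w * x i +
    c * Cfsg.hermForm n F 2 z x * x i) * h2

theorem gqM_four (hF : Fintype.card F = 4) {x w : Fin n → F} {c : F}
    (hx : Cfsg.hermForm n F 2 x x = 0) (hw : Cfsg.hermForm n F 2 w x = 0) :
    (gqM x w c * gqM x w c) * (gqM x w c * gqM x w c) = 1 := by
  have hF' := card_sq_of_four hF
  have hf := herm_unitary (n := n) hF'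
  have h2 := two_eq_zero_of_card4 hF
  apply mat_eq_of_mulVec
  intro z
  rw [← Matrix.mulVec_mulVec, gqM_sq_mulVec hF hx hw, gqM_sq_mulVec hF hx hw, Matrix.one_mulVec]
  simp only [hf.add_left, hf.smul_left, hx]
  ext i
  simp only [Pi.add_apply, Pi.smul_apply, smul_eq_mul]
  linear_combination (Cfsg.hermForm n F 2 w w * Cfsg.hermForm n F 2 z x * x i) * h2

theorem gqM_det (hF : Fintype.card F = 4) {x w : Fin n → F} {c : F}
    (hx : Cfsg.hermForm n F 2 x x = 0) (hw : Cfsg.hermForm n F 2 w x = 0) :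
    (gqM x w c).det = 1 := by
  have h := congrArg Matrix.det (gqM_four (c := c) hF hx hw)
  rw [Matrix.det_mul, Matrix.det_mul, Matrix.det_one] at h
  have h4 := pow_four_of_card4 hF (gqM x w c).det
  rw [← h4]
  linear_combination h

open Classical in
/-- the element `gq x w c` of `SU_n(2)`; `1` for junk arguments -/
noncomputable def gqS (hF : Fintype.card F = 4) (x w : Fin n → F) (c : F) : ↥(Cfsg.SU n F 2) :=
  if h : Cfsg.hermForm n F 2 x x = 0 ∧ Cfsg.hermForm n F 2 w x = 0 ∧
      c + c * c = Cfsg.hermForm n F 2 w w then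
    ⟨⟨gqM x w c, gqM_det hF h.1 h.2.1⟩, fun z z' => gqM_form hF h.1 h.2.1 h.2.2 z z'⟩
  else 1

theorem av_gqS (hF : Fintype.card F = 4) {x w : Fin n → F} {c : F}
    (hx : Cfsg.hermForm n F 2 x x = 0) (hw : Cfsg.hermForm n F 2 w x = 0)
    (hc : c + c * c = Cfsg.hermForm n F 2 w w) (z : Fin n → F) :
    av (gqS hF x w c) z = z + Cfsg.hermForm n F 2 z x • w +
      (Cfsg.hermForm n F 2 z w + c * Cfsg.hermForm n F 2 z x) • x := by
  unfold gqS
  rw [dif_pos ⟨hx, hw, hc⟩]
  exact gqM_mulVec x w c z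

/-- `SU_n(2)` acts on column vectors (helper5's `av`). -/
@[reducible] noncomputable def su2Act (F : Type*) [Field F] [Fintype F] (n : ℕ) :
    DistribMulAction ↥(Cfsg.SU n F 2) (Fin n → F) where
  smul g x := av g x
  one_smul x := av_one x
  mul_smul g h x := av_mul g h x
  smul_zero g := av_zero g
  smul_add g x y := av_add g x y

theorem su2Act_smul (g : ↥(Cfsg.SU n F 2)) (x : Fin n → F) :
    @HSMul.hSMul _ _ _ (@instHSMul _ _ (su2Act F n).toSMul) g x = av g x := rfl

/-- a transvection in `SU_n(2)` with nonzero parameter and nonzero centre has parameter `1` -/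
theorem tv_param_eq_one (hF : Fintype.card F = 4) {A : ↥(Cfsg.SU n F 2)} {v : Fin n → F} {c : F}
    (hv : Cfsg.hermForm n F 2 v v = 0) (hv0 : v ≠ 0) (hc0 : c ≠ 0)
    (hA : ∀ z, av A z = z + (c * Cfsg.hermForm n F 2 z v) • v) : c = 1 := by
  have hF' := card_sq_of_four hF
  have hf := herm_unitary (n := n) hF'
  have h2 := two_eq_zero_of_card4 hF
  obtain ⟨z0, hz0⟩ : ∃ z0, Cfsg.hermForm n F 2 z0 v ≠ 0 := by
    by_contra hcon
    push Not at hcon
    exact hv0 (u_eq_zero_of_forall_left hf hcon)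
  obtain ⟨z, hz⟩ : ∃ z, Cfsg.hermForm n F 2 z v = 1 := by
    refine ⟨(Cfsg.hermForm n F 2 z0 v)⁻¹ • z0, ?_⟩
    rw [hf.smul_left, inv_mul_cancel₀ hz0]
  have hvz : Cfsg.hermForm n F 2 v z = 1 := by
    rw [hf.herm v z, hz, map_one]
  have h1 := av_iso A z z
  rw [hA z, hz, mul_one] at h1
  simp only [hf.add_left, u_add_right hf, hf.smul_left, u_smul_right hf, frobQ_apply, hv, hz,
    hvz] at h1
  have h3 : c * (c + 1) = 0 := by linear_combination h1
  rcases mul_eq_zero.mp h3 with h | h
  · exact absurd h hc0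
  · linear_combination h - h2

/-- the setting -/
noncomputable def su2Setting (hF : Fintype.card F = 4) (n : ℕ) (hn : 4 ≤ n) :
    @Setting F (Fin n → F) ↥(Cfsg.SU n F 2) _ _ _ _ (su2Act F n) :=
  letI := su2Act F n
  { om := Classical.choose (exists_om_of_card4 hF)
    h := Cfsg.hermForm n F 2
    gq := gqS hF
    hom := Classical.choose_spec (exists_om_of_card4 hF)
    two := two_eq_zero_of_card4 hF
    h4 := cases_of_card4 hF (Classical.choose_spec (exists_om_of_card4 hF))
    h_add_left := fun x y z => hermForm_add_left x y z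
    h_smul_left := fun a x z => hermForm_smul_left a x z
    h_symm := fun x y => by
      have hf := herm_unitary (n := n) (card_sq_of_four hF)
      rw [hf.herm y x, frobQ_apply, sq]
    nondeg := fun x hx => u_eq_zero_of_forall_right (herm_unitary (n := n) (card_sq_of_four hF)) hx
    iso := fun g x y => av_iso g x y
    gq_smul := fun x w c hx hw hc z => av_gqS hF hx hw hc z
    gen := fun H hH => by
      have hf := herm_unitary (n := n) (card_sq_of_four hF)
      have h2 := two_eq_zero_of_card4 hF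
      have hgen := closure_transvections_eq_top (n := n) (card_sq_of_four hF) (by omega)
        (by omega)
      rw [eq_top_iff, ← hgen, Subgroup.closure_le]
      rintro A ⟨v, c, hv, hA⟩
      have hAz : ∀ z, av A z = z + (c * Cfsg.hermForm n F 2 z v) • v := by
        intro z
        unfold av
        rw [hA, ut_mulVec]
      by_cases hv0 : v = 0
      · have : A = 1 := by
          apply av_ext
          intro z
          rw [hAz, hv0, smul_zero, add_zero, av_one]
        rw [this]
        exact H.one_mem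
      by_cases hc0 : c = 0
      · have : A = 1 := by
          apply av_ext
          intro z
          rw [hAz, hc0, zero_mul, zero_smul, add_zero, av_one]
        rw [this]
        exact H.one_mem
      have hc1 := tv_param_eq_one hF hv hv0 hc0 hAz
      have h00 : Cfsg.hermForm n F 2 (0 : Fin n → F) v = 0 := u_zero_left hf v
      have h000 : Cfsg.hermForm n F 2 (0 : Fin n → F) 0 = 0 := u_zero_left hf 0
      have : A = gqS hF v 0 1 := by
        apply av_ext
        intro z
        rw [hAz, av_gqS hF hv h00 (by rw [h000]; linear_combination h2), hc1, u_zero_right hf,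
          smul_zero, add_zero, zero_add]
      rw [this]
      exact hH v hv
    faithful := fun g hg => av_ext (fun z => by rw [av_one]; exact hg z) }

theorem su2Setting_h (hF : Fintype.card F = 4) (hn : 4 ≤ n) (u v : Fin n → F) :
    (su2Setting hF n hn).h u v = Cfsg.hermForm n F 2 u v := rfl

theorem su2Setting_gq (hF : Fintype.card F = 4) (hn : 4 ≤ n) (x w : Fin n → F) (c : F) :
    (su2Setting hF n hn).gq x w c = gqS hF x w c := rfl

omit [Field F] in
/-- `hV` -/
theorem card_V4 (hF : Fintype.card F = 4) : Nat.card (Fin n → F) = 4 ^ n := by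
  classical
  rw [Nat.card_eq_fintype_card, Fintype.card_fun, Fintype.card_fin, hF]

/-- `hI`: the number of isotropic vectors, `n` even -/
theorem card_iso4 (hF : Fintype.card F = 4) (hn : 4 ≤ n) (he : Even n) :
    Nat.card {v : Fin n → F // (su2Setting hF n hn).h v v = 0} =
      2 ^ (2 * n - 1) + 2 ^ (n - 1) := by
  classical
  have hF' := card_sq_of_four hF
  have h1 : Nat.card {v : Fin n → F // (su2Setting hF n hn).h v v = 0} = hermCount F 2 n 0 := rfl
  rw [h1, hermCount_eq hF', if_pos rfl]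
  obtain ⟨hs, hd⟩ := Cfsg.Agent.Lib.Helper14.SU2EX.hermAB_two n
  obtain ⟨k, hk⟩ := he
  have hd' : ((hermAB 2 n).1 : ℤ) - ((hermAB 2 n).2 : ℤ) = 2 ^ n := by
    rw [hd, hk, ← two_mul, pow_mul, pow_mul]; norm_num
  have hs' : ((hermAB 2 n).1 : ℤ) + ((hermAB 2 n).2 : ℤ) = 4 ^ n := by exact_mod_cast hs
  have e1 : (2 : ℤ) ^ (2 * n - 1) * 2 = 4 ^ n := by
    rw [← pow_succ, show 2 * n - 1 + 1 = 2 * n by omega, pow_mul]; norm_num
  have e2 : (2 : ℤ) ^ (n - 1) * 2 = 2 ^ n := by
    rw [← pow_succ, show n - 1 + 1 = n by omega]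
  have : (((hermAB 2 n).1 : ℕ) : ℤ) = ((2 ^ (2 * n - 1) + 2 ^ (n - 1) : ℕ) : ℤ) := by
    push_cast
    linarith
  exact_mod_cast this

end gq

end Cfsg.Agent.Lib.Helper27.Su2Leaf
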