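import Mathlib
import Cfsg.Agent.Lib.Helper14.SylA.Defs

/-!
S2221 leaf C5 (`sylow_alt_equiv`, helper14's market) in "core" form: the leaves C2, C3, C3', C4 it is glued
from are explicit hypotheses (`C2Stmt`, ... unfold to the exact leaf statements).
-/

set_option autoImplicit false

namespace Cfsg.Agent.Lib.Helper27.SylACore

open Cfsg.Agent.Lib.Helper14.SylA

/-- statement of leaf C2 (`exists_embedding`). -/
def C2Stmt : Prop :=
  ∀ {ι : Type} [Fintype ι] [DecidableEq ι] (W X : ι → Type)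
    [∀ i, Group (W i)] [∀ i, MulAction (W i) (X i)] [∀ i, Fintype (X i)] [∀ i, DecidableEq (X i)]
    (_ : ∀ i, FaithfulSMul (W i) (X i)) (n ε : ℕ) (_ : n = ∑ i, Fintype.card (X i) + ε),
    ∃ Φ : (∀ i, W i) →* Equiv.Perm (Fin n), Function.Injective Φ ∧
      ∀ t, Equiv.Perm.sign (Φ t) = piSgn W (fun i => sgnOf (W i) (X i)) t

/-- statement of leaf C3 (`padicValNat_factorial_sum_two_pow`). -/
def C3Stmt : Prop :=
  ∀ (S : Finset ℕ), padicValNat 2 (∑ r ∈ S, 2 ^ r).factorial = ∑ r ∈ S, (2 ^ r - 1)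

/-- statement of leaf C3' (`padicValNat_factorial_sum_two_pow_succ`). -/
def C3'Stmt : Prop :=
  ∀ (S : Finset ℕ) (_ : ∀ r ∈ S, 1 ≤ r),
    padicValNat 2 (∑ r ∈ S, 2 ^ r + 1).factorial = ∑ r ∈ S, (2 ^ r - 1)

/-- statement of leaf C4 (`sylow_alt_equiv_of_card`). -/
def C4Stmt : Prop :=
  ∀ (n : ℕ) (T : Subgroup (Equiv.Perm (Fin n)))
    (_ : Nat.card T = 2 ^ padicValNat 2 n.factorial)
    (_ : ∃ t ∈ T, Equiv.Perm.sign t = -1)
    (P : Sylow 2 ↥(alternatingGroup (Fin n))),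
    Nonempty (↥(P : Subgroup ↥(alternatingGroup (Fin n))) ≃*
      ↥(T ⊓ alternatingGroup (Fin n)))

/-- C5 from C2, C3, C3', C4. -/
theorem sylow_alt_equiv_of (hC2 : C2Stmt) (hC3 : C3Stmt) (hC3' : C3'Stmt) (hC4 : C4Stmt)
    {ι : Type} [Fintype ι] [DecidableEq ι] [Nonempty ι] (ℓ : ι → ℕ)
    (hℓ : ∀ i, 1 ≤ ℓ i) (hinj : Function.Injective ℓ) (W X : ι → Type)
    [∀ i, Group (W i)] [∀ i, MulAction (W i) (X i)] [∀ i, Fintype (X i)] [∀ i, DecidableEq (X i)]
    (h : ∀ i, IsLevel (ℓ i) (W i) (X i)) (n ε : ℕ) (hε : ε ≤ 1) (hn : n = ∑ i, 2 ^ ℓ i + ε)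
    (P : Sylow 2 ↥(alternatingGroup (Fin n))) :
    Nonempty (↥(P : Subgroup ↥(alternatingGroup (Fin n))) ≃*
      ↥(piSgn W (fun i => sgnOf (W i) (X i))).ker) := by
  have hn' : n = ∑ i, Fintype.card (X i) + ε := by
    rw [hn]
    congr 1
    exact Finset.sum_congr rfl (fun i _ => ((h i).cardX).symm)
  obtain ⟨Φ, hΦinj, hΦsgn⟩ := hC2 W X (fun i => (h i).faithful) n ε hn'
  set sg := piSgn W (fun i => sgnOf (W i) (X i)) with hsg
  -- the order of the image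
  have hval : padicValNat 2 n.factorial = ∑ i, (2 ^ ℓ i - 1) := by
    have himg : ∀ f : ℕ → ℕ, ∑ r ∈ Finset.univ.image ℓ, f r = ∑ i, f (ℓ i) := fun f =>
      Finset.sum_image (fun a _ b _ hab => hinj hab)
    have hε' : ε = 0 ∨ ε = 1 := by omega
    rcases hε' with rfl | rfl
    · rw [hn, add_zero, ← himg (fun r => 2 ^ r), hC3, himg]
    · rw [hn, ← himg (fun r => 2 ^ r), hC3' _ (by
        intro r hr
        obtain ⟨i, -, rfl⟩ := Finset.mem_image.mp hr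
        exact hℓ i), himg]
  have hcardT : Nat.card Φ.range = 2 ^ padicValNat 2 n.factorial := by
    have hc : Nat.card Φ.range = Nat.card (∀ i, W i) :=
      Nat.card_congr (MonoidHom.ofInjective hΦinj).symm.toEquiv
    rw [hval, hc, Nat.card_pi, ← Finset.prod_pow_eq_pow_sum]
    exact Finset.prod_congr rfl (fun i _ => (h i).cardW)
  -- an odd element
  have hodd : ∃ t ∈ Φ.range, Equiv.Perm.sign t = -1 := by
    obtain ⟨i₀⟩ := ‹Nonempty ι›
    obtain ⟨x, hx⟩ := (h i₀).sgn_surj (-1)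
    refine ⟨Φ (Pi.mulSingle i₀ x), ⟨_, rfl⟩, ?_⟩
    rw [hΦsgn, piSgn_apply, Finset.prod_eq_single i₀]
    · rw [Pi.mulSingle_eq_same]; exact hx
    · intro j _ hj
      rw [Pi.mulSingle_eq_of_ne hj, map_one]
    · intro hi; exact absurd (Finset.mem_univ _) hi
  obtain ⟨e1⟩ := hC4 n Φ.range hcardT hodd P
  -- the even part of the image is the image of the kernel
  set ψ : ↥sg.ker →* Equiv.Perm (Fin n) := Φ.comp sg.ker.subtype with hψ
  have hψinj : Function.Injective ψ := hΦinj.comp Subtype.val_injective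
  have hrange : ψ.range = Φ.range ⊓ alternatingGroup (Fin n) := by
    ext σ
    rw [Subgroup.mem_inf, Equiv.Perm.mem_alternatingGroup]
    constructor
    · rintro ⟨⟨t, ht⟩, rfl⟩
      refine ⟨⟨t, rfl⟩, ?_⟩
      show Equiv.Perm.sign (Φ t) = 1
      rw [hΦsgn]
      exact ht
    · rintro ⟨⟨t, rfl⟩, hσ⟩
      rw [hΦsgn] at hσ
      exact ⟨⟨t, hσ⟩, rfl⟩
  exact ⟨e1.trans ((MulEquiv.subgroupCongr hrange).symm.trans (MonoidHom.ofInjective hψinj).symm)⟩

end Cfsg.Agent.Lib.Helper27.SylACore
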