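import Mathlib
import Cfsg.Agent.Lib.Helper14.SylA.Defs

/-!
S2221 leaves W6 (`isLevel_succ`) and W7 (`exists_level`) (helper14's market), in "core" form: the leaves
W1-W5 they are glued from are taken as explicit hypotheses (`W1Stmt`, ... unfold to the exact leaf statements).
-/

set_option autoImplicit false

namespace Cfsg.Agent.Lib.Helper27.SylACore

open Cfsg.Agent.Lib.Helper14.SylA RegularWreathProduct

/-- statement of leaf W1 (`sgnOf_wreath`). -/
def W1Stmt : Prop :=
  ∀ {D Λ : Type} [Group D] [MulAction D Λ] [Fintype Λ] [DecidableEq Λ] (w : D ≀ᵣ C2),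
    sgnOf (D ≀ᵣ C2) (Λ × C2) w =
      sgnOf D Λ (w.left 1) * sgnOf D Λ (w.left (Multiplicative.ofAdd 1)) *
        (if w.right = 1 then 1 else (-1) ^ Fintype.card Λ)

/-- statement of leaf W2 (`mem_center_wreath`). -/
def W2Stmt : Prop :=
  ∀ {D : Type} [Group D] [Nontrivial D] (w : D ≀ᵣ C2),
    w ∈ Subgroup.center (D ≀ᵣ C2) ↔
      w.right = 1 ∧ ∃ z ∈ Subgroup.center D, w.left = fun _ => z

/-- statement of leaf W2' (`card_center_wreath`). -/
def W2'Stmt : Prop :=
  ∀ {D : Type} [Group D] [Nontrivial D],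
    Nat.card (Subgroup.center (D ≀ᵣ C2)) = Nat.card (Subgroup.center D)

/-- statement of leaf W3 (`ci_wreath`). -/
def W3Stmt : Prop :=
  ∀ {D : Type} [Group D] (_ : Subgroup.center D ≠ ⊤), CI (D ≀ᵣ C2)

/-- statement of leaf W3' (`ci_wreath_two`). -/
def W3'Stmt : Prop :=
  ∀ {D : Type} [Group D] (_ : Nat.card D = 2), CI (D ≀ᵣ C2)

/-- statement of leaf W4 (`card_center_ker_wreath`). -/
def W4Stmt : Prop :=
  ∀ {D Λ : Type} [Group D] [Finite D] [MulAction D Λ] [Fintype Λ]
    [DecidableEq Λ] (_ : 2 < Nat.card D) (_ : Even (Fintype.card Λ))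
    (_ : Subgroup.center D ≤ (sgnOf D Λ).ker),
    Nat.card (Subgroup.center ↥(sgnOf (D ≀ᵣ C2) (Λ × C2)).ker) =
      Nat.card (Subgroup.center D)

/-- statement of leaf W5 (`isLevel_one`). -/
def W5Stmt : Prop := IsLevel 1 C2 C2

theorem two_pow_sub_one_succ (r : ℕ) : (2 ^ r - 1) * 2 + 1 = 2 ^ (r + 1) - 1 := by
  have h : 1 ≤ 2 ^ r := Nat.one_le_two_pow
  rw [pow_succ]
  omega

theorem card_C2 : Nat.card C2 = 2 := by
  show Nat.card (Multiplicative (ZMod 2)) = 2
  rw [Nat.card_eq_fintype_card]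
  rfl

/-- W6 from W1-W4. -/
theorem isLevel_succ_of (h1 : W1Stmt) (h2 : W2Stmt) (h2' : W2'Stmt) (h3 : W3Stmt) (h3' : W3'Stmt)
    (h4 : W4Stmt) {r : ℕ} (hr : 1 ≤ r) {W X : Type} [Group W] [MulAction W X] [Fintype X]
    [DecidableEq X] (h : IsLevel r W X) : IsLevel (r + 1) (W ≀ᵣ C2) (X × C2) := by
  haveI : FaithfulSMul W X := h.faithful
  have hXpos : 0 < Fintype.card X := by rw [h.cardX]; positivity
  haveI : Nonempty X := Fintype.card_pos_iff.mp hXpos
  have hWfin : Finite W := by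
    apply Nat.finite_of_card_ne_zero
    rw [h.cardW]
    positivity
  have hWcard2 : 2 ≤ Nat.card W := by
    rw [h.cardW]
    have h1r : 1 ≤ 2 ^ r - 1 := by
      have : 2 ^ 1 ≤ 2 ^ r := Nat.pow_le_pow_right (by norm_num) hr
      omega
    calc 2 = 2 ^ 1 := by norm_num
      _ ≤ 2 ^ (2 ^ r - 1) := Nat.pow_le_pow_right (by norm_num) h1r
  haveI : Nontrivial W := by
    rw [← Finite.one_lt_card_iff_nontrivial]
    omega
  refine ⟨inferInstance, ?_, ?_, ?_, ?_, ?_, ?_, ?_⟩
  · -- cardX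
    rw [Fintype.card_prod, h.cardX, pow_succ]
    congr 1
  · -- cardW
    rw [RegularWreathProduct.card, h.cardW, card_C2, ← pow_mul, ← pow_succ, two_pow_sub_one_succ]
  · -- center
    rw [h2', h.center]
  · -- center_even
    intro _ w hw
    obtain ⟨hwr, z, hz, hwl⟩ := (h2 w).mp hw
    rw [MonoidHom.mem_ker, h1 w, hwr, hwl]
    simp only [if_true, mul_one]
    exact Int.units_mul_self _
  · -- sgn_surj
    obtain ⟨x, hx⟩ := h.sgn_surj (-1)
    have hw : sgnOf (W ≀ᵣ C2) (X × C2) ⟨fun q => if q = 1 then x else 1, 1⟩ = -1 := by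
      rw [h1]
      have hne : (Multiplicative.ofAdd (1 : ZMod 2)) ≠ (1 : C2) := by decide
      simp only [if_true, if_neg hne, map_one, mul_one, hx]
    intro u
    rcases Int.units_eq_one_or u with rfl | rfl
    · exact ⟨1, map_one _⟩
    · exact ⟨_, hw⟩
  · -- ci
    by_cases hc : Subgroup.center W = ⊤
    · apply h3'
      have := h.center
      rw [hc, Subgroup.card_top] at this
      exact this
    · exact h3 hc
  · -- center_ker
    intro hr3
    have hr2 : 2 ≤ r := by omega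
    rw [h4 _ _ (h.center_even hr2), h.center]
    · rw [h.cardW]
      have h3r : 3 ≤ 2 ^ r - 1 := by
        have : 2 ^ 2 ≤ 2 ^ r := Nat.pow_le_pow_right (by norm_num) hr2
        omega
      calc 2 < 2 ^ 3 := by norm_num
        _ ≤ 2 ^ (2 ^ r - 1) := Nat.pow_le_pow_right (by norm_num) h3r
    · rw [h.cardX]
      exact (Nat.even_pow' (by omega)).mpr even_two

/-- W7 from W1-W5. -/
theorem exists_level_of (h1 : W1Stmt) (h2 : W2Stmt) (h2' : W2'Stmt) (h3 : W3Stmt) (h3' : W3'Stmt)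
    (h4 : W4Stmt) (h5 : W5Stmt) : ∀ r : ℕ, 1 ≤ r → ∃ (W X : Type) (_ : Group W) (_ : MulAction W X)
    (_ : Fintype X) (_ : DecidableEq X), IsLevel r W X := by
  intro r hr
  induction r, hr using Nat.le_induction with
  | base => exact ⟨C2, C2, inferInstance, inferInstance, inferInstance, inferInstance, h5⟩
  | succ r hr ih =>
    obtain ⟨W, X, iG, iA, iF, iD, h⟩ := ih
    exact ⟨W ≀ᵣ C2, X × C2, inferInstance, inferInstance, inferInstance, inferInstance,
      isLevel_succ_of h1 h2 h2' h3 h3' h4 hr h⟩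

end Cfsg.Agent.Lib.Helper27.SylACore
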