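/-
helper27: S4648 (helper1's plan): `SymAlgMainK.finrank_eq_sq_mul_center` with `hcore` discharged by
part A (`SymAlgK4.comm_of_center_le_four`) when `dim Z(B) ≤ 4`.
-/
import Cfsg.Agent.Lib.Helper27.SymAlgMainK
import Cfsg.Agent.Lib.Helper27.SymAlgK4

set_option autoImplicit false

namespace Cfsg.Agent.Lib.Helper27.SymAlgMainK4

open Cfsg.Agent.Lib.Helper27.SymAlg

variable {F : Type*} [Field F] {B : Type*} [Ring B] [Algebra F B]

/-- a symmetric algebra with one matrix factor and centre of dimension `≤ 4` has dimension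
`n² · dim Z` (Kuelshammer) -/
theorem finrank_eq_sq_mul_center_of_le_four [IsAlgClosed F] [FiniteDimensional F B]
    {lam : B →ₗ[F] F} (hlam : IsSymForm lam)
    (hone : ∀ (l : ℕ) (d : Fin l → ℕ), (∀ i, NeZero (d i)) →
      ∀ π : B →ₐ[F] (Π i : Fin l, Matrix (Fin (d i)) (Fin (d i)) F), Function.Surjective π →
        (∀ x : B, π x = 0 → IsNilpotent x) → l = 1)
    (hZ : Module.finrank F (Subalgebra.center F B) ≤ 4) :
    ∃ (n : ℕ) (u : Fin n → Fin n → B), n ≠ 0 ∧ IsMatrixUnits u ∧
      Module.finrank F B = n ^ 2 * Module.finrank F (Subalgebra.center F B) := by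
  refine Cfsg.Agent.Lib.Helper27.SymAlgMainK.finrank_eq_sq_mul_center hlam hone ?_
  intro n u _ hu mu hmu aug N hN
  have hZC := Cfsg.Agent.Lib.Helper19.SymAlgA5b.finrank_center_unitsCentralizer (F := F) hu
  exact Cfsg.Agent.Lib.Helper27.SymAlgK4.comm_of_center_le_four hmu aug N hN (by rw [hZC]; exact hZ)

end Cfsg.Agent.Lib.Helper27.SymAlgMainK4
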