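/-
helper27: Schur multiplier of the Suzuki groups `Sz(q)`, `q ≥ 32` (Alperin–Gorenstein).
Part C: the abstract local theorem.  A central extension `E` of the Suzuki 2-group `Pr σ₀` by an
elementary abelian 2-group `Z`, with an automorphism of odd order acting like a generator of the torus,
satisfies `Z ∩ E' = 1`.
-/
import Cfsg.Agent.Lib.Helper27.SzMultB
import Cfsg.Agent.Lib.Helper18.SU3Model

set_option autoImplicit false

namespace Cfsg.Agent.Lib.Helper27.SzMult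

open Cfsg.Agent.Lib.Helper18.SU3Model
open scoped commutatorElement

section Comm

variable {E : Type*} [Group E]

theorem comm_mul_left_of_central {x x' y : E} (h : ⁅x', y⁆ ∈ Subgroup.center E) :
    ⁅x * x', y⁆ = ⁅x, y⁆ * ⁅x', y⁆ := by
  have hz := Subgroup.mem_center_iff.mp h
  have e1 : x' * y * x'⁻¹ = ⁅x', y⁆ * y := by rw [commutatorElement_def]; group
  calc ⁅x * x', y⁆ = x * (x' * y * x'⁻¹) * x⁻¹ * y⁻¹ := by rw [commutatorElement_def]; group
    _ = x * (⁅x', y⁆ * y) * x⁻¹ * y⁻¹ := by rw [e1]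
    _ = (x * ⁅x', y⁆) * y * x⁻¹ * y⁻¹ := by group
    _ = (⁅x', y⁆ * x) * y * x⁻¹ * y⁻¹ := by rw [hz x]
    _ = ⁅x', y⁆ * ⁅x, y⁆ := by rw [commutatorElement_def x y]; group
    _ = ⁅x, y⁆ * ⁅x', y⁆ := (hz _).symm

theorem comm_mul_right_of_central {x y y' : E} (h : ⁅x, y'⁆ ∈ Subgroup.center E) :
    ⁅x, y * y'⁆ = ⁅x, y⁆ * ⁅x, y'⁆ := by
  have hz := Subgroup.mem_center_iff.mp h
  have e1 : y' * x⁻¹ * y'⁻¹ = x⁻¹ * ⁅x, y'⁆ := by rw [commutatorElement_def]; group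
  calc ⁅x, y * y'⁆ = x * y * (y' * x⁻¹ * y'⁻¹) * y⁻¹ := by rw [commutatorElement_def]; group
    _ = x * y * (x⁻¹ * ⁅x, y'⁆) * y⁻¹ := by rw [e1]
    _ = x * y * x⁻¹ * (⁅x, y'⁆ * y⁻¹) := by group
    _ = x * y * x⁻¹ * (y⁻¹ * ⁅x, y'⁆) := by rw [← hz y⁻¹]
    _ = ⁅x, y⁆ * ⁅x, y'⁆ := by rw [commutatorElement_def x y]; group

theorem comm_eq_one_of_central_left {x y : E} (h : x ∈ Subgroup.center E) : ⁅x, y⁆ = 1 := by
  rw [commutatorElement_eq_one_iff_mul_comm]
  exact (Subgroup.mem_center_iff.mp h y).symm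

theorem comm_eq_one_of_central_right {x y : E} (h : y ∈ Subgroup.center E) : ⁅x, y⁆ = 1 := by
  rw [commutatorElement_eq_one_iff_mul_comm]
  exact Subgroup.mem_center_iff.mp h x

end Comm

section Main

variable {F : Type*} [Field F] {σ₀ : F →+* F} {E : Type*} [Group E] (t : E →* Pr σ₀)

/-- preimage of the centre `{(0, b)}` -/
def Wsub : Subgroup E where
  carrier := {x | (t x).a = 0}
  mul_mem' := by
    intro x y hx hy
    simp only [Set.mem_ofPred_eq] at *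
    rw [map_mul, mul_a, hx, hy, add_zero]
  one_mem' := by simp
  inv_mem' := by
    intro x hx
    simp only [Set.mem_ofPred_eq] at *
    rw [map_inv, inv_a, hx, neg_zero]

theorem mem_Wsub {x : E} : x ∈ Wsub t ↔ (t x).a = 0 := Iff.rfl

theorem mem_ker_iff {z : E} : z ∈ t.ker ↔ (t z).a = 0 ∧ (t z).b = 0 := by
  rw [MonoidHom.mem_ker]
  constructor
  · intro h; rw [h]; exact ⟨rfl, rfl⟩
  · rintro ⟨h1, h2⟩; exact Pr.ext h1 h2

theorem ker_le_Wsub : t.ker ≤ Wsub t := fun _ hz => ((mem_ker_iff t).mp hz).1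

theorem comm_mem_Wsub (x y : E) : ⁅x, y⁆ ∈ Wsub t := by
  rw [mem_Wsub, map_commutatorElement, commutator_eq]

theorem comm_mem_ker_right (x : E) {w : E} (hw : w ∈ Wsub t) : ⁅x, w⁆ ∈ t.ker := by
  rw [mem_Wsub] at hw
  rw [mem_ker_iff, map_commutatorElement, commutator_eq, hw]
  simp

theorem comm_mem_ker_left {w : E} (hw : w ∈ Wsub t) (x : E) : ⁅w, x⁆ ∈ t.ker := by
  rw [mem_Wsub] at hw
  rw [mem_ker_iff, map_commutatorElement, commutator_eq, hw]
  simp

theorem b_mul_of_mem {x y : E} (hx : x ∈ Wsub t) : (t (x * y)).b = (t x).b + (t y).b := by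
  rw [mem_Wsub] at hx
  rw [map_mul, mul_b, hx, map_zero, zero_mul, add_zero]

/-- **Abstract local theorem.** -/
theorem ker_inf_commutator [Fintype F] (h2 : (2 : F) = 0) (r : ℕ) (hr1 : 2 ≤ r)
    (hσr : ∀ x, σ₀ x = x ^ r) (hσσ : ∀ x, σ₀ (σ₀ x) = x ^ 2) (hcard : 2 * r + 4 < Fintype.card F)
    (ht : Function.Surjective t) (hZc : t.ker ≤ Subgroup.center E) (hZ2 : ∀ z ∈ t.ker, z * z = 1)
    (φ : E →* E) (lam : F) (hlam0 : lam ≠ 0) (hgen : ∀ c : F, c ≠ 0 → ∃ k : ℕ, c = lam ^ k)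
    (hφa : ∀ x, (t (φ x)).a = lam * (t x).a)
    (hφb : ∀ x, (t (φ x)).b = lam * σ₀ lam * (t x).b)
    (hφZ : ∀ z ∈ t.ker, φ z = z) (k : ℕ) (hk : Odd k) (hφk : ∀ x, φ^[k] x = x) :
    ∀ z ∈ t.ker, z ∈ commutator E → z = 1 := by
  have hchar : ∀ x : F, x + x = 0 := fun x => by linear_combination x * h2
  have hσ0 : ∀ x : F, x ≠ 0 → σ₀ x ≠ 0 := fun x hx h => hx ((map_eq_zero σ₀).mp h)
  set v : F := lam * σ₀ lam with hv
  have hv0 : v ≠ 0 := mul_ne_zero hlam0 (hσ0 lam hlam0)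
  have hgenv : ∀ c : F, c ≠ 0 → ∃ k : ℕ, c = v ^ k := by
    intro c hc
    obtain ⟨j, hj⟩ := hgen (σ₀ c / c) (div_ne_zero (hσ0 c hc) hc)
    refine ⟨j, ?_⟩
    rw [hv, mul_pow, ← map_pow, ← hj, map_div₀, hσσ]
    field_simp [hσ0 c hc]
  set W := Wsub t with hW
  have hφW : ∀ w ∈ W, φ w ∈ W := by
    intro w hw
    rw [hW, mem_Wsub] at hw ⊢
    rw [hφa, hw, mul_zero]
  have hφfix : ∀ w ∈ W, ∀ y : E, φ ⁅w, y⁆ = ⁅w, y⁆ := fun w hw y => hφZ _ (comm_mem_ker_left t hw y)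
  have hφfix' : ∀ x : E, ∀ w ∈ W, φ ⁅x, w⁆ = ⁅x, w⁆ := fun x w hw => hφZ _ (comm_mem_ker_right t x hw)
  have hbW : ∀ x ∈ W, ∀ x' ∈ W, (t (x * x')).b = (t x).b + (t x').b :=
    fun x hx x' _ => b_mul_of_mem t hx
  have hbs : ∀ b : F, ∃ x ∈ W, (t x).b = b := by
    intro b
    obtain ⟨x, hx⟩ := ht ⟨0, b⟩
    exact ⟨x, by rw [hW, mem_Wsub, hx], by rw [hx]⟩
  have haE : ∀ x ∈ (⊤ : Subgroup E), ∀ x' ∈ (⊤ : Subgroup E), (t (x * x')).a = (t x).a + (t x').a :=
    fun x _ x' _ => by rw [map_mul, mul_a]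
  have has : ∀ a : F, ∃ x ∈ (⊤ : Subgroup E), (t x).a = a := by
    intro a
    obtain ⟨x, hx⟩ := ht ⟨a, 0⟩
    exact ⟨x, Subgroup.mem_top x, by rw [hx]⟩
  have hker_of : ∀ x ∈ W, (t x).b = 0 → x ∈ t.ker := fun x hx hb => (mem_ker_iff t).mpr ⟨hx, hb⟩
  have h5 : 5 ≤ Fintype.card F := by omega
  -- Step 1: W is abelian
  have step1 : ∀ x ∈ W, ∀ y ∈ W, ⁅x, y⁆ = 1 := by
    apply pairing_trivial W W (fun x => (t x).b) (fun x => (t x).b) hbW hbs hbW hbs
      (fun x y => ⁅x, y⁆) ?_ ?_ ?_ ?_ φ hφW hφW v v (fun x _ => hφb x) (fun x _ => hφb x) ?_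
      (noPairing_self h2 h5 hv0 hgenv)
    · intro x _ x' hx' y _
      exact comm_mul_left_of_central (hZc (comm_mem_ker_left t hx' y))
    · intro x hx y _ y' _
      exact comm_mul_right_of_central (hZc (comm_mem_ker_left t hx y'))
    · intro x hx y _ hb
      exact comm_eq_one_of_central_left (hZc (hker_of x hx hb))
    · intro x _ y hy hb
      exact comm_eq_one_of_central_right (hZc (hker_of y hy hb))
    · intro x hx y _
      show ⁅φ x, φ y⁆ = ⁅x, y⁆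
      rw [← map_commutatorElement, hφfix x hx y]
  have hcommW : ∀ w ∈ W, ∀ w' ∈ W, w * w' = w' * w := fun w hw w' hw' =>
    commutatorElement_eq_one_iff_mul_comm.mp (step1 w hw w' hw')
  -- squares of elements of W lie in the kernel
  have hsqker : ∀ x ∈ W, x * x ∈ t.ker := by
    intro x hx
    rw [mem_ker_iff]
    refine ⟨W.mul_mem hx hx, ?_⟩
    rw [b_mul_of_mem t hx, hchar]
  -- Step 2: W has exponent 2
  have step2 : ∀ x ∈ W, x * x = 1 := by
    apply functional_trivial' (by omega) W (fun x => (t x).b) hbW hbs (fun x => x * x) ?_ ?_ φ hφW v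
      (fun x _ => hφb x) ?_ hgenv
    · intro x hx x' hx'
      show x * x' * (x * x') = x * x * (x' * x')
      have := hcommW x hx x' hx'
      calc x * x' * (x * x') = x * (x' * x) * x' := by group
        _ = x * (x * x') * x' := by rw [this]
        _ = x * x * (x' * x') := by group
    · intro x hx hb
      exact hZ2 x (hker_of x hx hb)
    · intro x hx
      show φ x * φ x = x * x
      rw [← map_mul, hφZ _ (hsqker x hx)]
  -- Step 3: W is central
  have step3 : ∀ x ∈ (⊤ : Subgroup E), ∀ w ∈ W, ⁅x, w⁆ = 1 := by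
    apply pairing_trivial ⊤ W (fun x => (t x).a) (fun x => (t x).b) haE has hbW hbs
      (fun x y => ⁅x, y⁆) ?_ ?_ ?_ ?_ φ (fun x _ => Subgroup.mem_top _) hφW lam v
      (fun x _ => hφa x) (fun x _ => hφb x) ?_
      (noPairing_twist h2 σ₀ r hr1 hσr hcard hlam0 hgen)
    · intro x _ x' _ y hy
      exact comm_mul_left_of_central (hZc (comm_mem_ker_right t x' hy))
    · intro x _ y _ y' hy'
      exact comm_mul_right_of_central (hZc (comm_mem_ker_right t x hy'))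
    · intro x _ y hy ha
      exact step1 x ha y hy
    · intro x _ y hy hb
      exact comm_eq_one_of_central_right (hZc (hker_of y hy hb))
    · intro x _ y hy
      show ⁅φ x, φ y⁆ = ⁅x, y⁆
      rw [← map_commutatorElement, hφfix' x y hy]
  have hWc : W ≤ Subgroup.center E := by
    intro w hw
    rw [Subgroup.mem_center_iff]
    intro x
    exact commutatorElement_eq_one_iff_mul_comm.mp (step3 x (Subgroup.mem_top x) w hw)
  -- Step 5: the norm of every commutator is trivial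
  have step5 : ∀ x ∈ (⊤ : Subgroup E), ∀ y ∈ (⊤ : Subgroup E), nrm φ k ⁅x, y⁆ = 1 := by
    apply pairing_trivial ⊤ ⊤ (fun x => (t x).a) (fun x => (t x).a) haE has haE has
      (fun x y => nrm φ k ⁅x, y⁆) ?_ ?_ ?_ ?_ φ (fun x _ => Subgroup.mem_top _)
      (fun x _ => Subgroup.mem_top _) lam lam (fun x _ => hφa x) (fun x _ => hφa x) ?_
      (noPairing_self h2 h5 hlam0 hgen)
    · intro x _ x' _ y _
      show nrm φ k ⁅x * x', y⁆ = nrm φ k ⁅x, y⁆ * nrm φ k ⁅x', y⁆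
      rw [comm_mul_left_of_central (hWc (comm_mem_Wsub t x' y)),
        nrm_mul φ W hφW hcommW k (comm_mem_Wsub t x y) (comm_mem_Wsub t x' y)]
    · intro x _ y _ y' _
      show nrm φ k ⁅x, y * y'⁆ = nrm φ k ⁅x, y⁆ * nrm φ k ⁅x, y'⁆
      rw [comm_mul_right_of_central (hWc (comm_mem_Wsub t x y')),
        nrm_mul φ W hφW hcommW k (comm_mem_Wsub t x y) (comm_mem_Wsub t x y')]
    · intro x _ y _ ha
      show nrm φ k ⁅x, y⁆ = 1
      rw [comm_eq_one_of_central_left (hWc ha), nrm_fixed φ k (map_one φ), one_pow]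
    · intro x _ y _ ha
      show nrm φ k ⁅x, y⁆ = 1
      rw [comm_eq_one_of_central_right (hWc ha), nrm_fixed φ k (map_one φ), one_pow]
    · intro x _ y _
      show nrm φ k ⁅φ x, φ y⁆ = nrm φ k ⁅x, y⁆
      rw [← map_commutatorElement, nrm_map_eq φ W hφW hcommW k hφk (comm_mem_Wsub t x y)]
  -- Step 6
  let K : Subgroup E :=
    { carrier := {w | w ∈ W ∧ nrm φ k w = 1}
      mul_mem' := by
        rintro a b ⟨ha, ha1⟩ ⟨hb, hb1⟩
        exact ⟨W.mul_mem ha hb, by rw [nrm_mul φ W hφW hcommW k ha hb, ha1, hb1, one_mul]⟩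
      one_mem' := ⟨W.one_mem, by rw [nrm_fixed φ k (map_one φ), one_pow]⟩
      inv_mem' := by
        rintro a ⟨ha, ha1⟩
        refine ⟨W.inv_mem ha, ?_⟩
        have := nrm_mul φ W hφW hcommW k ha (W.inv_mem ha)
        rw [mul_inv_cancel, nrm_fixed φ k (map_one φ), one_pow, ha1, one_mul] at this
        exact this.symm }
  have hK : commutator E ≤ K := by
    rw [commutator_eq_closure, Subgroup.closure_le]
    rintro _ ⟨x, y, rfl⟩
    exact ⟨comm_mem_Wsub t x y, step5 x (Subgroup.mem_top x) y (Subgroup.mem_top y)⟩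
  intro z hz hzc
  have h1 : nrm φ k z = 1 := (hK hzc).2
  rw [nrm_fixed φ k (hφZ z hz)] at h1
  obtain ⟨j, rfl⟩ := hk
  rw [pow_succ, pow_mul, pow_two, hZ2 z hz, one_pow, one_mul] at h1
  exact h1

end Main

end Cfsg.Agent.Lib.Helper27.SzMult
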