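/-
helper27: Schur multiplier of the Suzuki groups `Sz(q)`, `q ≥ 32` (Alperin–Gorenstein).
Part D: application to the Suzuki group (ovoid model of helper15) and transfer to `Cfsg.Lie.Sz`.
-/
import Cfsg.Agent.Lib.Helper27.SzMultC
import Cfsg.Agent.Lib.Helper15.SuzukiLie
import Cfsg.Agent.Lib.Helper28.SchurFoxA
import Cfsg.Agent.S0331

set_option autoImplicit false

namespace Cfsg.Agent.Lib.Helper27.SzMult

open Cfsg.Agent.Lib.Helper18.SU3Model
open Cfsg.Agent.Lib.Helper15.SuzukiAlg Cfsg.Agent.Lib.Helper15.SuzukiOvoid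
  Cfsg.Agent.Lib.Helper15.SuzukiZassenhaus Cfsg.Agent.Lib.Helper15.SuzukiBorel
open Cfsg.Agent.Lib.Helper28.SchurFox
open scoped commutatorElement

variable {F : Type*} [Field F] [Fintype F] {m : ℕ} (hF : Fintype.card F = 2 ^ (2 * m + 1))

/-- the model of the Sylow 2-subgroup -/
noncomputable def prHom : Pr (sig (two_eq_zero hF) m) →* ↥(Qz hF) where
  toFun p := ⟨Ts hF p.a p.b, Ts_mem_Qz hF _ _⟩
  map_one' := Subtype.ext (Ts_one hF)
  map_mul' p q := Subtype.ext (by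
    show Ts hF (p * q).a (p * q).b = Ts hF p.a p.b * Ts hF q.a q.b
    rw [Ts_mul, mul_a, mul_b])

theorem prHom_bijective : Function.Bijective (prHom hF) := by
  constructor
  · intro p q h
    have h1 : Ts hF p.a p.b = Ts hF q.a q.b := congrArg Subtype.val h
    obtain ⟨ha, hb⟩ := Ts_inj hF h1
    exact Pr.ext ha hb
  · rintro ⟨g, hg⟩
    obtain ⟨a, b, rfl⟩ := (mem_Qz hF g).mp hg
    exact ⟨⟨a, b⟩, rfl⟩

/-- the model of the Sylow 2-subgroup, as an isomorphism -/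
noncomputable def prEquiv : Pr (sig (two_eq_zero hF) m) ≃* ↥(Qz hF) :=
  MulEquiv.ofBijective (prHom hF) (prHom_bijective hF)

theorem prEquiv_symm_Ts (a b : F) (h : Ts hF a b ∈ Qz hF) :
    (prEquiv hF).symm ⟨Ts hF a b, h⟩ = ⟨a, b⟩ := by
  rw [MulEquiv.symm_apply_eq]
  rfl

theorem Hs_conj_Ts (μ : Fˣ) (a b : F) :
    Hs hF μ * Ts hF a b * (Hs hF μ)⁻¹ =
      Ts hF (sig (two_eq_zero hF) m (μ : F) * a)
        ((μ : F) ^ 2 * sig (two_eq_zero hF) m (μ : F) * b) := by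
  rw [Hs_mul_Ts, mul_inv_cancel_right]

theorem Hs_pow_card' (μ : Fˣ) : Hs hF μ ^ (2 ^ (2 * m + 1) - 1) = 1 := by
  have : Hs hF μ ^ (2 ^ (2 * m + 1) - 1) = Cfsg.Agent.S2410.HsHom hF (μ ^ (2 ^ (2 * m + 1) - 1)) := by
    rw [map_pow]; rfl
  rw [this]
  have h1 : μ ^ (2 ^ (2 * m + 1) - 1) = 1 := by
    apply Units.ext
    push_cast
    rw [← hF]
    exact FiniteField.pow_card_sub_one_eq_one _ μ.ne_zero
  rw [h1, map_one]

theorem arith_aux (hm : 2 ≤ m) : 2 * 2 ^ (m + 1) + 4 < 2 ^ (2 * m + 1) := by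
  obtain ⟨n, rfl⟩ : ∃ n, m = n + 2 := ⟨m - 2, by omega⟩
  have h1 : 2 ^ (2 * (n + 2) + 1) = 2 ^ (n + 3) * 2 ^ (n + 2) := by
    rw [← pow_add]; congr 1; omega
  have h2 : 4 ≤ 2 ^ (n + 2) := by
    calc 4 = 2 ^ 2 := by norm_num
      _ ≤ 2 ^ (n + 2) := Nat.pow_le_pow_right (by norm_num) (by omega)
  have h3 : 8 ≤ 2 ^ (n + 3) := by
    calc 8 = 2 ^ 3 := by norm_num
      _ ≤ 2 ^ (n + 3) := Nat.pow_le_pow_right (by norm_num) (by omega)
  have h4 : 2 * 2 ^ (n + 2 + 1) = 2 * 2 ^ (n + 3) := by rfl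
  rw [h1, h4]
  nlinarith

/-- **the 2-part**: the kernel of a central extension of `Sz(q)`, `q ≥ 32`, with kernel of exponent 2,
meets the derived group of the preimage of the Sylow 2-subgroup trivially. -/
theorem ker_inf_comm_two (hm : 2 ≤ m) {Γ : Type*} [Group Γ] (σ : Γ →* Cfsg.Sz F m)
    (hσs : Function.Surjective σ) (hc : σ.ker ≤ Subgroup.center Γ)
    (hexp : ∀ a ∈ σ.ker, a ^ 2 = 1) :
    ∀ a ∈ σ.ker, a ∈ ⁅(Qz hF).comap σ, (Qz hF).comap σ⁆ → a = 1 := by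
  have h2 := two_eq_zero hF
  set V : Subgroup Γ := (Qz hF).comap σ with hV
  let t : ↥V →* Pr (sig h2 m) := (prEquiv hF).symm.toMonoidHom.comp (σ.subgroupComap (Qz hF))
  have ht : Function.Surjective t :=
    (prEquiv hF).symm.surjective.comp (σ.subgroupComap_surjective_of_surjective (Qz hF) hσs)
  have ht_eq : ∀ (x : ↥V) (a b : F), σ (x : Γ) = Ts hF a b → t x = ⟨a, b⟩ := by
    intro x a b hx
    show (prEquiv hF).symm (σ.subgroupComap (Qz hF) x) = ⟨a, b⟩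
    have : σ.subgroupComap (Qz hF) x = ⟨Ts hF a b, Ts_mem_Qz hF a b⟩ := Subtype.ext hx
    rw [this, prEquiv_symm_Ts]
  have hcoord : ∀ x : ↥V, ∃ a b : F, σ (x : Γ) = Ts hF a b := fun x => (mem_Qz hF _).mp x.2
  have hker : ∀ z : ↥V, z ∈ t.ker ↔ (z : Γ) ∈ σ.ker := by
    intro z
    rw [MonoidHom.mem_ker, MonoidHom.mem_ker]
    show (prEquiv hF).symm (σ.subgroupComap (Qz hF) z) = 1 ↔ _
    rw [MulEquiv.map_eq_one_iff]
    constructor
    · intro h; exact congrArg Subtype.val h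
    · intro h; exact Subtype.ext h
  have hZc : t.ker ≤ Subgroup.center ↥V := by
    intro z hz
    have h1 := hc ((hker z).mp hz)
    rw [Subgroup.mem_center_iff] at h1 ⊢
    intro g
    exact Subtype.ext (h1 g)
  have hZ2 : ∀ z ∈ t.ker, z * z = 1 := by
    intro z hz
    apply Subtype.ext
    have := hexp _ ((hker z).mp hz)
    rw [pow_two] at this
    exact this
  -- the torus element
  obtain ⟨μ₀, hμ₀⟩ := IsCyclic.exists_generator (α := Fˣ)
  obtain ⟨h, hh⟩ := hσs (Hs hF μ₀)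
  have hσ0 : ∀ x : F, x ≠ 0 → sig h2 m x ≠ 0 := fun x hx h => hx ((map_eq_zero _).mp h)
  have hsurj : Function.Surjective (sig h2 m) :=
    Finite.injective_iff_surjective.mp (sig h2 m).injective
  have hgen : ∀ c : F, c ≠ 0 → ∃ k : ℕ, c = (sig h2 m (μ₀ : F)) ^ k := by
    intro c hc
    obtain ⟨c', rfl⟩ := hsurj c
    have hc' : c' ≠ 0 := fun h => hc (by rw [h, map_zero])
    obtain ⟨k, hk⟩ := Submonoid.mem_powers_iff _ _ |>.mp
      (mem_powers_iff_mem_zpowers.mpr (hμ₀ (Units.mk0 c' hc')))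
    refine ⟨k, ?_⟩
    rw [← map_pow]
    congr 1
    have := congrArg (fun u : Fˣ => (u : F)) hk
    simp only [Units.val_pow_eq_pow_val, Units.val_mk0] at this
    exact this.symm
  have hconj_mem : ∀ x : ↥V, h * (x : Γ) * h⁻¹ ∈ V := by
    intro x
    obtain ⟨a, b, hab⟩ := hcoord x
    show σ (h * (x : Γ) * h⁻¹) ∈ Qz hF
    rw [map_mul, map_mul, map_inv, hh, hab, Hs_conj_Ts]
    exact Ts_mem_Qz hF _ _
  let φ : ↥V →* ↥V :=
    { toFun := fun x => ⟨h * (x : Γ) * h⁻¹, hconj_mem x⟩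
      map_one' := Subtype.ext (by simp)
      map_mul' := fun x y => Subtype.ext (by
        show h * ((x : Γ) * (y : Γ)) * h⁻¹ = h * (x : Γ) * h⁻¹ * (h * (y : Γ) * h⁻¹)
        group) }
  have hφ_coe : ∀ x : ↥V, ((φ x : ↥V) : Γ) = h * (x : Γ) * h⁻¹ := fun x => rfl
  have hφ_t : ∀ x : ↥V, t (φ x) = ⟨sig h2 m (μ₀ : F) * (t x).a,
      (μ₀ : F) ^ 2 * sig h2 m (μ₀ : F) * (t x).b⟩ := by
    intro x
    obtain ⟨a, b, hab⟩ := hcoord x
    rw [ht_eq x a b hab]
    apply ht_eq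
    rw [hφ_coe, map_mul, map_mul, map_inv, hh, hab, Hs_conj_Ts]
  have hφk_coe : ∀ (j : ℕ) (x : ↥V), ((φ^[j] x : ↥V) : Γ) = h ^ j * (x : Γ) * (h ^ j)⁻¹ := by
    intro j
    induction j with
    | zero => intro x; simp
    | succ j ih =>
      intro x
      rw [Function.iterate_succ_apply', hφ_coe, ih, pow_succ']
      group
  have hhk : h ^ (2 ^ (2 * m + 1) - 1) ∈ Subgroup.center Γ := by
    apply hc
    rw [MonoidHom.mem_ker, map_pow, hh, Hs_pow_card']
  have hodd : Odd (2 ^ (2 * m + 1) - 1) := by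
    have : 2 ^ (2 * m + 1) = 2 * 2 ^ (2 * m) := by ring
    rw [this]
    have : 1 ≤ 2 ^ (2 * m) := Nat.one_le_two_pow
    exact ⟨2 ^ (2 * m) - 1, by omega⟩
  have hmain := ker_inf_commutator t h2 (2 ^ (m + 1))
    (by calc 2 = 2 ^ 1 := by norm_num
          _ ≤ 2 ^ (m + 1) := Nat.pow_le_pow_right (by norm_num) (by omega))
    (fun x => sig_apply h2 m x) (sig_sig h2 hF) (by rw [hF]; exact arith_aux hm) ht hZc hZ2 φ
    (sig h2 m (μ₀ : F)) (hσ0 _ μ₀.ne_zero) hgen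
    (fun x => by rw [hφ_t])
    (fun x => by rw [hφ_t, sig_sig h2 hF]; ring)
    (fun z hz => by
      apply Subtype.ext
      rw [hφ_coe]
      have := Subgroup.mem_center_iff.mp (hc ((hker z).mp hz)) h
      rw [this, mul_inv_cancel_right])
    (2 ^ (2 * m + 1) - 1) hodd
    (fun x => by
      apply Subtype.ext
      rw [hφk_coe]
      have := Subgroup.mem_center_iff.mp hhk (x : Γ)
      rw [← this, mul_inv_cancel_right])
  intro a ha hac
  have haV : a ∈ V := by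
    show σ a ∈ Qz hF
    rw [MonoidHom.mem_ker.mp ha]
    exact (Qz hF).one_mem
  rw [← Subgroup.map_subtype_commutator] at hac
  obtain ⟨a', ha', rfl⟩ := hac
  have := hmain a' ((hker a').mpr ha) ha'
  rw [this]; rfl

/-- **odd primes**: the preimage of a cyclic subgroup is abelian -/
theorem ker_inf_comm_cyclic {G : Type*} [Group G] {Γ : Type*} [Group Γ] (σ : Γ →* G)
    (hc : σ.ker ≤ Subgroup.center Γ) (P : Subgroup G) [IsCyclic ↥P] :
    ∀ a ∈ σ.ker, a ∈ ⁅P.comap σ, P.comap σ⁆ → a = 1 := by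
  have hcomm : ∀ x y : ↥(P.comap σ), x * y = y * x := by
    apply commutative_of_cyclic_center_quotient (σ.subgroupComap P)
    intro z hz
    have hz' : (z : Γ) ∈ σ.ker := by
      rw [MonoidHom.mem_ker] at hz ⊢
      exact congrArg Subtype.val hz
    have h1 := hc hz'
    rw [Subgroup.mem_center_iff] at h1 ⊢
    intro g
    exact Subtype.ext (h1 g)
  have hbot : ⁅P.comap σ, P.comap σ⁆ = ⊥ := by
    rw [Subgroup.commutator_eq_bot_iff_le_centralizer]
    intro x hx y hy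
    exact congrArg Subtype.val (hcomm ⟨y, hy⟩ ⟨x, hx⟩)
  intro a _ hac
  rw [hbot] at hac
  exact hac

include hF in
/-- **The Schur multiplier of `Sz(q)` is trivial for `q ≥ 32`** (ovoid model). -/
theorem trivMult_Sz (hm : 2 ≤ m) : TrivMult (Cfsg.Sz F m) := by
  have hm1 : 1 ≤ m := by omega
  apply trivMult_of_exp
  intro p hp Γ _ _ σ hσ hexp
  haveI : Fact p.Prime := ⟨hp⟩
  by_cases hp2 : p = 2
  · subst hp2
    apply ker_eq_bot_of_transfer σ hσ 2 hexp ((Qz hF).comap σ) ?_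
      (ker_inf_comm_two hF hm σ hσ.1 hσ.2.1 hexp)
    rw [Subgroup.index_comap_of_surjective _ hσ.1, ← coe_QSyl hF hm1]
    rw [Nat.coprime_comm, Nat.Prime.coprime_iff_not_dvd Nat.prime_two]
    exact Sylow.not_dvd_index (QSyl hF hm1)
  · obtain ⟨P⟩ : Nonempty (Sylow p (Cfsg.Sz F m)) := inferInstance
    haveI : IsCyclic ↥(P : Subgroup (Cfsg.Sz F m)) := Cfsg.Agent.S0331.main hm1 hF hp2 P
    apply ker_eq_bot_of_transfer σ hσ p hexp ((P : Subgroup (Cfsg.Sz F m)).comap σ) ?_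
      (ker_inf_comm_cyclic σ hσ.2.1 (P : Subgroup (Cfsg.Sz F m)))
    rw [Subgroup.index_comap_of_surjective _ hσ.1]
    rw [Nat.coprime_comm, Nat.Prime.coprime_iff_not_dvd hp]
    exact Sylow.not_dvd_index P

include hF in
/-- **The Schur multiplier of `Sz(q)` is trivial for `q ≥ 32`** (Lie model of the Prelude). -/
theorem hasCyclicSchurMultiplier_LieSz (hm : 2 ≤ m) :
    Cfsg.HasCyclicSchurMultiplier ↥(Cfsg.Lie.Sz F (2 ^ (m + 1))) 1 := by
  haveI : Finite ↥(Cfsg.Lie.Sz F (2 ^ (m + 1))) :=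
    Finite.of_equiv _ (Cfsg.Agent.Lib.Helper15.SuzukiLie.equivLie hF (by omega)).toEquiv
  exact hasCyclic_of_trivMult
    ((trivMult_Sz hF hm).congr (Cfsg.Agent.Lib.Helper15.SuzukiLie.equivLie hF (by omega)))

end Cfsg.Agent.Lib.Helper27.SzMult
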