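import Cfsg.Agent.Lib.Helper27.KL16

/-!
helper27: control of transfer by a positive characteristic `p`-functor (after Díaz–Glesser–Mazza–Park): definitions
and the closed predicates.  `FocW W E D`: the maps of `E` normalizing `W(T)` have their focal elements `x⁻¹ θ(x)` in
`D`; `FocAll E D`: all maps do.
-/

set_option autoImplicit false
set_option linter.unusedSectionVars false
set_option linter.unusedVariables false

namespace Cfsg.Agent.Lib.Helper27.TR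

open Cfsg Cfsg.FusionSystem Cfsg.Agent.Lib.Helper26 Cfsg.Agent.Lib.Helper27.FM Cfsg.Agent.Lib.Helper27.KL

universe u

variable {Ω : Type u} [Group Ω] {S : Subgroup Ω}

/-- the maps of `E` normalizing `W(T)` have their focal elements in `D` -/
def FocW (W : ∀ (Q : Type u) [Group Q], Subgroup Q) {T : Subgroup Ω} (E : FusionSystem T)
    (D : Subgroup Ω) : Prop :=
  ∀ (R : Subgroup Ω) (θ : Ω → Ω), IsFM E R θ → WS W T ≤ R → (∀ u ∈ WS W T, θ u ∈ WS W T) →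
    ∀ x ∈ R, x⁻¹ * θ x ∈ D

/-- all maps of `E` have their focal elements in `D` -/
def FocAll {T : Subgroup Ω} (E : FusionSystem T) (D : Subgroup Ω) : Prop :=
  ∀ (R : Subgroup Ω) (θ : Ω → Ω), IsFM E R θ → ∀ x ∈ R, x⁻¹ * θ x ∈ D

/-- the subgroup generated by the focal elements of the maps normalizing `W(T)` -/
def focW (W : ∀ (Q : Type u) [Group Q], Subgroup Q) {T : Subgroup Ω} (E : FusionSystem T) : Subgroup Ω :=
  Subgroup.closure {y : Ω | ∃ (R : Subgroup Ω) (θ : Ω → Ω) (x : Ω), IsFM E R θ ∧ WS W T ≤ R ∧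
    (∀ u ∈ WS W T, θ u ∈ WS W T) ∧ x ∈ R ∧ y = x⁻¹ * θ x}

theorem focW_focW (W : ∀ (Q : Type u) [Group Q], Subgroup Q) {T : Subgroup Ω} (E : FusionSystem T) :
    FocW W E (focW W E) := fun R θ hθ hWR hθW x hx =>
  Subgroup.subset_closure ⟨R, θ, x, hθ, hWR, hθW, hx, rfl⟩

theorem focW_le_of_focW {W : ∀ (Q : Type u) [Group Q], Subgroup Q} {T : Subgroup Ω} {E : FusionSystem T}
    {D : Subgroup Ω} (h : FocW W E D) : focW W E ≤ D := by
  unfold focW
  rw [Subgroup.closure_le]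
  rintro y ⟨R, θ, x, hθ, hWR, hθW, hx, rfl⟩
  exact h R θ hθ hWR hθW x hx

theorem focal_mem_of_isFM {T : Subgroup Ω} (E : FusionSystem T) {R : Subgroup Ω} {θ : Ω → Ω} (hθ : IsFM E R θ)
    {x : Ω} (hx : x ∈ R) : x⁻¹ * θ x ∈ E.focalSubgroup := by
  obtain ⟨φ, hφ, he⟩ := hθ
  apply Subgroup.subset_closure
  exact ⟨R, φ, ⟨x, hx⟩, hφ, by rw [he]⟩

theorem focW_le_focal (W : ∀ (Q : Type u) [Group Q], Subgroup Q) {T : Subgroup Ω} (E : FusionSystem T) :
    focW W E ≤ E.focalSubgroup := by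
  unfold focW
  rw [Subgroup.closure_le]
  rintro y ⟨R, θ, x, hθ, -, -, hx, rfl⟩
  exact focal_mem_of_isFM E hθ hx

theorem focal_le_of_focAll {T : Subgroup Ω} {E : FusionSystem T} {D : Subgroup Ω} (h : FocAll E D) :
    E.focalSubgroup ≤ D := by
  unfold FusionSystem.focalSubgroup
  rw [Subgroup.closure_le]
  rintro y ⟨P, φ, x, hφ, rfl⟩
  have := h P (ofHom φ) (isFM_ofHom hφ) x x.2
  rw [ofHom_apply] at this
  exact this

theorem focAll_mono {T : Subgroup Ω} {E : FusionSystem T} {D D' : Subgroup Ω} (h : FocAll E D) (hle : D ≤ D') :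
    FocAll E D' := fun R θ hθ x hx => hle (h R θ hθ x hx)

variable {p : ℕ} [Fact p.Prime] {W : ∀ (Q : Type u) [Group Q], Subgroup Q}

/-- the commutators of `T` are focal elements of maps normalizing `W(T)` -/
theorem conj_mem_of_focW (hW : PosChar p W) {T : Subgroup Ω} [Finite T] (hT : IsPGroup p T) {E : FusionSystem T}
    {D : Subgroup Ω} (h : FocW W E D) : ∀ s ∈ T, ∀ x ∈ T, x⁻¹ * (s * x * s⁻¹) ∈ D := by
  intro s hs x hx
  refine h T (fun y => s * y * s⁻¹) (isFM_conj E le_rfl hs) (WS_le W T) (fun u hu => ?_) x hx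
  exact hW.conj_mem hT (Subgroup.le_normalizer hs) hu

/-- the closed predicate "focal elements in `D`" -/
def focPM (F : FusionSystem S) (D : Subgroup Ω) (hD : ∀ s ∈ S, ∀ x ∈ S, x⁻¹ * (s * x * s⁻¹) ∈ D) :
    PMPred F where
  C R θ := IsFM F R θ ∧ ∀ x ∈ R, x⁻¹ * θ x ∈ D
  isFM := fun h => h.1
  mono := fun h hle => ⟨h.1.mono hle, fun x hx => h.2 x (hle hx)⟩
  congr := fun h he => ⟨h.1.congr he, fun x hx => by rw [← he x hx]; exact h.2 x hx⟩
  conj := fun {R s} hR hs => ⟨isFM_conj F hR hs, fun x hx => hD s hs x (hR hx)⟩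
  comp := by
    rintro R R' θ θ' ⟨h1, h2⟩ ⟨h1', h2'⟩ hmap
    refine ⟨h1.comp h1' hmap, fun x hx => ?_⟩
    have e : x⁻¹ * θ' (θ x) = (x⁻¹ * θ x) * ((θ x)⁻¹ * θ' (θ x)) := by group
    show x⁻¹ * θ' (θ x) ∈ D
    rw [e]
    exact D.mul_mem (h2 x hx) (h2' _ (hmap x hx))
  inverse := by
    rintro R R' θ θinv ⟨h1, h2⟩ hi hinv
    obtain ⟨θ₂, hθ₂, -, hl, hr⟩ := h1.exists_inverse hi
    have hagree : ∀ y ∈ R', θ₂ y = θinv y := by
      intro y hy
      obtain ⟨x, hx, rfl⟩ := (hi y).mp hy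
      rw [hl x hx, hinv x hx]
    refine ⟨hθ₂.congr hagree, fun y hy => ?_⟩
    obtain ⟨x, hx, rfl⟩ := (hi y).mp hy
    rw [hinv x hx]
    have e : (θ x)⁻¹ * x = (x⁻¹ * θ x)⁻¹ := by group
    rw [e]
    exact D.inv_mem (h2 x hx)

/-- the closed predicate "focal elements of the elements of `Q` in `D`", `Q` strongly closed -/
def qPM (F : FusionSystem S) {Q : Subgroup Ω} (hQ : F.StronglyClosed Q) (D : Subgroup Ω)
    (hD : ∀ s ∈ S, ∀ x ∈ S, x⁻¹ * (s * x * s⁻¹) ∈ D) : PMPred F where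
  C R θ := IsFM F R θ ∧ ∀ x ∈ R, x ∈ Q → x⁻¹ * θ x ∈ D
  isFM := fun h => h.1
  mono := fun h hle => ⟨h.1.mono hle, fun x hx hxQ => h.2 x (hle hx) hxQ⟩
  congr := fun h he => ⟨h.1.congr he, fun x hx hxQ => by rw [← he x hx]; exact h.2 x hx hxQ⟩
  conj := fun {R s} hR hs => ⟨isFM_conj F hR hs, fun x hx _ => hD s hs x (hR hx)⟩
  comp := by
    rintro R R' θ θ' ⟨h1, h2⟩ ⟨h1', h2'⟩ hmap
    refine ⟨h1.comp h1' hmap, fun x hx hxQ => ?_⟩
    have e : x⁻¹ * θ' (θ x) = (x⁻¹ * θ x) * ((θ x)⁻¹ * θ' (θ x)) := by group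
    show x⁻¹ * θ' (θ x) ∈ D
    rw [e]
    exact D.mul_mem (h2 x hx hxQ) (h2' _ (hmap x hx) (h1.mem_of_stronglyClosed hQ hx hxQ))
  inverse := by
    rintro R R' θ θinv ⟨h1, h2⟩ hi hinv
    obtain ⟨θ₂, hθ₂, -, hl, hr⟩ := h1.exists_inverse hi
    have hagree : ∀ y ∈ R', θ₂ y = θinv y := by
      intro y hy
      obtain ⟨x, hx, rfl⟩ := (hi y).mp hy
      rw [hl x hx, hinv x hx]
    have hinvFM : IsFM F R' θinv := hθ₂.congr hagree
    refine ⟨hinvFM, fun y hy hyQ => ?_⟩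
    have hxQ : θinv y ∈ Q := hinvFM.mem_of_stronglyClosed hQ hy hyQ
    obtain ⟨x, hx, rfl⟩ := (hi y).mp hy
    rw [hinv x hx] at hxQ ⊢
    have e : (θ x)⁻¹ * x = (x⁻¹ * θ x)⁻¹ := by group
    rw [e]
    exact D.inv_mem (h2 x hx hxQ)

end Cfsg.Agent.Lib.Helper27.TR
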