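import Cfsg.Agent.Lib.Helper27.TR1

/-!
helper27: control of transfer: the climbing step.
-/

set_option autoImplicit false
set_option linter.unusedSectionVars false
set_option linter.unusedVariables false

namespace Cfsg.Agent.Lib.Helper27.TR

open Cfsg Cfsg.FusionSystem Cfsg.Agent.Lib.Helper26 Cfsg.Agent.Lib.Helper27.FM Cfsg.Agent.Lib.Helper27.KL

universe u

variable {Ω : Type u} [Group Ω] {S : Subgroup Ω} {p : ℕ} [Fact p.Prime]
  {W : ∀ (Q : Type u) [Group Q], Subgroup Q}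

variable [Finite S]

/-- The climbing step for control of transfer. -/
theorem foc_climb (hW : PosChar p W) (hS : IsPGroup p S) (F : FusionSystem S) (hF : F.IsSaturated p)
    (D : Subgroup Ω) (hfoc : FocW W F D)
    (hsub : ∀ (U : Subgroup Ω) (hU : U ≤ S), F.IsFullyNormalized U → ¬ F.IsNormal U →
      FocW W (normalizerSystem F U hU) D → FocAll (normalizerSystem F U hU) D)
    (hnn : ∀ U : Subgroup Ω, F.IsNormal U → U = ⊥)
    (n : ℕ) (IH : ∀ (R : Subgroup Ω) (θ : Ω → Ω), IsFM F R θ → n < Nat.card R → ∀ x ∈ R, x⁻¹ * θ x ∈ D) :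
    ∀ (d : ℕ) (U : Subgroup Ω), F.IsFullyNormalized U → U ≠ ⊥ →
      Nat.card S - Nat.card (normalizerIn S U) = d → n < Nat.card (normalizerIn S U) →
      ∀ (R : Subgroup Ω) (θ : Ω → Ω), U ≤ R → R ≤ normalizerIn S U → IsFM F R θ → (∀ u ∈ U, θ u ∈ U) →
        ∀ x ∈ R, x⁻¹ * θ x ∈ D := by
  intro d
  induction d using Nat.strong_induction_on with
  | _ d ih =>
  intro U hUfn hUne hd hn R θ hUR hRT hθ hθU x hx
  have hUS : U ≤ S := hUfn.1
  have hUn : ¬ F.IsNormal U := fun h => hUne (hnn U h)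
  set T : Subgroup Ω := normalizerIn S U with hT
  have hTS : T ≤ S := normalizerIn_le S U
  haveI : Finite ↥T := finite_of_le hTS
  haveI : Finite ↥U := finite_of_le hUS
  have hpT : IsPGroup p T := hS.to_le hTS
  have hUT : U ≤ T := le_normalizerIn hUS
  have hTne : T ≠ ⊥ := fun h => hUne (le_bot_iff.mp (h ▸ hUT))
  have hNsys := normalizerSystem_isNormalizerSystem F U hUS
  -- `θ` is a map of the normalizer system
  have hiU : IsImage U θ U := hθ.isImage_self_of_forall_mem hUR hθU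
  have hθT : ∀ x ∈ R, θ x ∈ T := by
    intro x hx
    refine ⟨hθ.mem hx, ?_⟩
    apply mem_normalizer_of_conj_mem_finite
    intro u hu
    obtain ⟨u', hu', rfl⟩ := (hiU u).mp hu
    rw [← hθ.map_inv hx, ← hθ.map_mul hx (hUR hu'), ← hθ.map_mul (R.mul_mem hx (hUR hu')) (R.inv_mem hx)]
    apply hθU
    exact (Subgroup.mem_normalizer_iff.mp (hRT hx).2 u').mp hu'
  have hθN : IsFM (normalizerSystem F U hUS) R θ := by
    rw [isFM_normalizer_iff F hUS _ hNsys]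
    exact ⟨hRT, hθT, θ, hθ.of_eq (sup_eq_left.mpr hUR), fun _ _ => rfl, hθU⟩
  refine hsub U hUS hUfn hUn ?_ R θ hθN x hx
  -- the maps of `N_F(U)` normalizing `W(N_S(U))`
  intro R₂ θ₂ hθ₂E hWR₂ hθ₂W x hx
  have hθ₂ : IsFM F R₂ θ₂ := hθ₂E.of_normalizer hNsys
  have hR₂T : R₂ ≤ T := ((isFM_normalizer_iff F hUS _ hNsys).mp hθ₂E).1
  have hθ₂T : ∀ x ∈ R₂, θ₂ x ∈ T := ((isFM_normalizer_iff F hUS _ hNsys).mp hθ₂E).2.1
  by_cases hTeq : T = S
  · have hWeq : WS W T = WS W S := WS_congr W hTeq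
    rw [hWeq] at hWR₂ hθ₂W
    exact hfoc R₂ θ₂ hθ₂ hWR₂ hθ₂W x hx
  · set U₁ : Subgroup Ω := WS W T with hU₁
    have hU₁T : U₁ ≤ T := WS_le W T
    have hU₁S : U₁ ≤ S := hU₁T.trans hTS
    have hU₁ne : U₁ ≠ ⊥ := hW.WS_ne_bot hpT hTne
    set T₁ : Subgroup Ω := normalizerIn S U₁ with hT₁
    have hT₁S : T₁ ≤ S := normalizerIn_le S U₁
    haveI : Finite ↥T₁ := finite_of_le hT₁S
    have hNT : normalizerIn S T ≤ T₁ := hW.normalizerIn_le hpT hTS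
    have hTT₁ : T ≤ T₁ := (le_normalizerIn hTS).trans hNT
    have hcardT : Nat.card T < Nat.card T₁ :=
      lt_of_lt_of_le (card_lt_card_normalizerIn hS hTS hTeq) (Subgroup.card_le_of_le hNT)
    obtain ⟨U₂, hconj, hfn₂⟩ := exists_fullyNormalized_conj F hU₁S
    have hFA := (saturated_fn hS F hF hfn₂).2
    have hRec := saturated_fn_receptive hS F hF hfn₂
    obtain ⟨χ, hχ, hval, hmap⟩ := exists_normalizer_hom hS F hFA hRec hconj
    have hψ : IsFM F T₁ (ofHom χ) := isFM_ofHom hχ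
    have hU₁T₁ : U₁ ≤ T₁ := le_normalizerIn hU₁S
    have hψU : IsImage U₁ (ofHom χ) U₂ := isImage_of_map_eq χ hU₁T₁ hmap
    have hψval : ∀ x ∈ T₁, ofHom χ x ∈ normalizerIn S U₂ := fun x hx => by
      rw [ofHom_apply' χ hx]; exact hval _
    have hψD : ∀ z ∈ T₁, z⁻¹ * ofHom χ z ∈ D := IH T₁ _ hψ (lt_trans hn hcardT)
    have hU₂ne : U₂ ≠ ⊥ := by
      intro h
      apply hU₁ne
      rw [eq_bot_iff]
      intro u hu
      have h1 : ofHom χ u ∈ U₂ := hψU.mem hu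
      rw [h, Subgroup.mem_bot] at h1
      have h2 : ofHom χ u = ofHom χ 1 := by rw [h1, hψ.map_one]
      rw [Subgroup.mem_bot]
      exact hψ.injOn (hU₁T₁ hu) T₁.one_mem h2
    obtain ⟨T₁', hT₁'⟩ := hψ.exists_image
    obtain ⟨ψinv, hψinv, hψinvi, hl, hr⟩ := hψ.exists_inverse hT₁'
    have hR₂T₁ : R₂ ≤ T₁ := hR₂T.trans hTT₁
    obtain ⟨R₃, hR₃⟩ := hψ.exists_image_of_le hR₂T₁
    have hR₃T₁' : R₃ ≤ T₁' := hR₃.le_of_forall (fun x hx => hT₁'.mem (hR₂T₁ hx))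
    have hθ₃ : IsFM F R₃ (fun y => ofHom χ (θ₂ (ψinv y))) := by
      have h1 : IsFM F R₃ ψinv := hψinv.mono hR₃T₁'
      have h2 : IsFM F R₃ (fun y => θ₂ (ψinv y)) := h1.comp hθ₂ (fun y hy => by
        obtain ⟨x, hx, rfl⟩ := (hR₃ y).mp hy
        rw [hl x (hR₂T₁ hx)]
        exact hx)
      exact h2.comp hψ (fun y hy => by
        obtain ⟨x, hx, rfl⟩ := (hR₃ y).mp hy
        show θ₂ (ψinv (ofHom χ x)) ∈ T₁
        rw [hl x (hR₂T₁ hx)]
        exact hTT₁ (hθ₂T x hx))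
    have hU₂R₃ : U₂ ≤ R₃ := hψU.le_of_forall (fun x hx => hR₃.mem (hWR₂ hx))
    have hθ₃U : ∀ u ∈ U₂, ofHom χ (θ₂ (ψinv u)) ∈ U₂ := by
      intro u hu
      obtain ⟨u₁, hu₁, rfl⟩ := (hψU u).mp hu
      rw [hl u₁ (hU₁T₁ hu₁)]
      exact hψU.mem (hθ₂W u₁ hu₁)
    have hR₃N : R₃ ≤ normalizerIn S U₂ := hR₃.le_of_forall (fun x hx => hψval x (hR₂T₁ hx))
    have hT₁'N : T₁' ≤ normalizerIn S U₂ := hT₁'.le_of_forall hψval
    have hcardT₁ : Nat.card T₁ ≤ Nat.card (normalizerIn S U₂) := by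
      rw [← hψ.card_image hT₁']
      haveI : Finite ↥(normalizerIn S U₂) := finite_of_le (normalizerIn_le S U₂)
      exact Subgroup.card_le_of_le hT₁'N
    have hleS : Nat.card (normalizerIn S U₂) ≤ Nat.card S := Subgroup.card_le_of_le (normalizerIn_le S U₂)
    have hxT₁ : x ∈ T₁ := hR₂T₁ hx
    have h3 := ih (Nat.card S - Nat.card (normalizerIn S U₂)) (by omega) U₂ hfn₂ hU₂ne rfl (by omega)
      R₃ _ hU₂R₃ hR₃N hθ₃ hθ₃U (ofHom χ x) (hR₃.mem hx)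
    -- back to `θ₂`
    have h4 : ofHom χ (θ₂ (ψinv (ofHom χ x))) = ofHom χ (θ₂ x) := by rw [hl x hxT₁]
    rw [h4] at h3
    have h5 : x⁻¹ * ofHom χ x ∈ D := hψD x hxT₁
    have h6 : (θ₂ x)⁻¹ * ofHom χ (θ₂ x) ∈ D := hψD _ (hTT₁ (hθ₂T x hx))
    have e : x⁻¹ * θ₂ x = (x⁻¹ * ofHom χ x) * ((ofHom χ x)⁻¹ * ofHom χ (θ₂ x)) *
        ((θ₂ x)⁻¹ * ofHom χ (θ₂ x))⁻¹ := by group
    rw [e]
    exact D.mul_mem (D.mul_mem h5 h3) (D.inv_mem h6)

end Cfsg.Agent.Lib.Helper27.TR
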