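import Cfsg.Agent.Lib.Helper27.TR2

/-!
helper27: control of transfer: the case of a system without nontrivial normal subgroups.
-/

set_option autoImplicit false
set_option linter.unusedSectionVars false
set_option linter.unusedVariables false

namespace Cfsg.Agent.Lib.Helper27.TR

open Cfsg Cfsg.FusionSystem Cfsg.Agent.Lib.Helper26 Cfsg.Agent.Lib.Helper27.FM Cfsg.Agent.Lib.Helper27.KL

universe u

variable {Ω : Type u} [Group Ω] {S : Subgroup Ω} {p : ℕ} [Fact p.Prime]
  {W : ∀ (Q : Type u) [Group Q], Subgroup Q}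

variable [Finite S]

theorem focAll_of_core_bot (hW : PosChar p W) (hS : IsPGroup p S) (F : FusionSystem S) (hF : F.IsSaturated p)
    (D : Subgroup Ω) (hfoc : FocW W F D)
    (hsub : ∀ (U : Subgroup Ω) (hU : U ≤ S), F.IsFullyNormalized U → ¬ F.IsNormal U →
      FocW W (normalizerSystem F U hU) D → FocAll (normalizerSystem F U hU) D)
    (hnn : ∀ U : Subgroup Ω, F.IsNormal U → U = ⊥) : FocAll F D := by
  have hD := conj_mem_of_focW hW hS hfoc
  have key := (focPM F D hD).forall_of_step hS hF ?_
  · intro R θ hθ x hx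
    exact (key R θ hθ).2 x hx
  intro P hPS hPfn hPess IH' a ha hi
  refine ⟨ha, fun x hx => ?_⟩
  rcases hPess with rfl | ⟨hess, hne⟩
  · have himg := hW.isImage_of_isFM hS ha hi
    exact hfoc P a ha (WS_le W P) (fun u hu => himg.mem hu) x hx
  · have hPne : P ≠ ⊥ := by
      intro hP
      apply hne
      have h1 := hess.1.2 P (isConj_refl F hPS)
      rw [hP] at h1 ⊢
      apply le_antisymm bot_le
      intro s hs
      apply h1
      rw [mem_centralizerIn_iff]
      refine ⟨hs, fun y hy => ?_⟩
      rw [Subgroup.mem_bot.mp hy, one_mul, mul_one]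
    exact foc_climb hW hS F hF D hfoc hsub hnn (Nat.card P) (fun R θ hθ hlt => (IH' R θ hθ hlt).2)
      (Nat.card S - Nat.card (normalizerIn S P)) P hPfn hPne rfl (card_lt_card_normalizerIn hS hPS hne)
      P a le_rfl (le_normalizerIn hPS) ha (fun u hu => hi.mem hu) x hx

end Cfsg.Agent.Lib.Helper27.TR
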