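import Cfsg.Agent.Lib.Helper27.TR3
import Cfsg.Agent.Lib.Helper27.FMFactor2
import Cfsg.Agent.Lib.Helper26.FSSolvable

/-!
helper27: control of transfer: the quotient by `O_p(F)`.
-/

set_option autoImplicit false
set_option linter.unusedSectionVars false
set_option linter.unusedVariables false

namespace Cfsg.Agent.Lib.Helper27.TR

open Cfsg Cfsg.FusionSystem Cfsg.Agent.Lib.Helper26 Cfsg.Agent.Lib.Helper27.FM Cfsg.Agent.Lib.Helper27.KL

universe u

variable {Ω : Type u} [Group Ω] {S : Subgroup Ω} {p : ℕ} [Fact p.Prime]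
  {W : ∀ (Q : Type u) [Group Q], Subgroup Q}

variable [Finite S]

theorem pre_top {Ω' : Type*} [Group Ω'] (θ : S →* Ω') : preimageAlong θ ⊤ = S := by
  ext x
  rw [mem_pre_iff]
  exact ⟨fun h => h.1, fun h => ⟨h, Subgroup.mem_top _⟩⟩

/-- modulo `O_p(F)` all focal elements are in `D` -/
theorem foc_mod_core (hW : PosChar p W) (hS : IsPGroup p S) (F : FusionSystem S) (hF : F.IsSaturated p)
    (D : Subgroup Ω) (hfoc : FocW W F D)
    (IHq : ∀ (Ω' : Type u) [Group Ω'] (T' : Subgroup Ω') [Finite T'], IsPGroup p T' → ∀ E' : FusionSystem T',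
      E'.IsSaturated p → ∀ D' : Subgroup Ω', FocW W E' D' → Nat.card T' < Nat.card S → FocAll E' D')
    (IHs : ∀ (U : Subgroup Ω) (hU : U ≤ S), F.IsFullyNormalized U → ¬ F.IsNormal U →
      FocW W (normalizerSystem F U hU) D → FocAll (normalizerSystem F U hU) D)
    (hQne : F.core ≠ ⊥) :
    ∀ (R : Subgroup Ω) (θ : Ω → Ω), IsFM F R θ → ∀ x ∈ R, ∃ d ∈ D, d⁻¹ * (x⁻¹ * θ x) ∈ F.core := by
  have hQ : F.IsNormal F.core := core_isNormal F
  have hQS : F.core ≤ S := hQ.1
  have hsc := stronglyClosed_of_isNormal F hQ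
  by_cases hQeq : F.core = S
  · intro R θ₁ hθ₁ x hx
    obtain ⟨θ', hθ', hext, hθ'Q⟩ := NM.of_isNormal hQ hθ₁
    have hRS : R ≤ S := hθ₁.le
    have hsup : R ⊔ F.core = S := by rw [hQeq]; exact sup_eq_right.mpr hRS
    have hθ'S : IsFM F S θ' := hθ'.of_eq hsup.symm
    have hiS : IsImage S θ' S := hθ'S.isImage_self_of_forall_mem le_rfl (fun y hy => hθ'S.mem hy)
    have himg := hW.isImage_of_isFM hS hθ'S hiS
    have h1 := hfoc S θ' hθ'S (WS_le W S) (fun u hu => himg.mem hu) x (hRS hx)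
    rw [hext x hx] at h1
    exact ⟨x⁻¹ * θ₁ x, h1, by rw [inv_mul_cancel]; exact Subgroup.one_mem _⟩
  · haveI hn : (F.core.subgroupOf S).Normal := normal_subgroupOf_of_stronglyClosed F hsc
    set θ := QuotientGroup.mk' (F.core.subgroupOf S) with hθdef
    have hker := quot_ker (S := S) F.core
    have hrange := quot_range (S := S) F.core
    set E := factorSystem F hsc θ hker hrange with hEdef
    have hfac := factorSystem_isFactorSystem F hsc θ hker hrange
    have hθm := factorSystem_isSurjectiveMorphism hS F hF F.core hsc θ E hfac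
    have hEsat := surj_saturated p hS F hF E θ hθm
    have hpT : IsPGroup p (⊤ : Subgroup (↥S ⧸ F.core.subgroupOf S)) := (hS.to_quotient _).to_subgroup ⊤
    -- cardinalities
    have hc1 : Nat.card S = Nat.card (↥S ⧸ F.core.subgroupOf S) * Nat.card (F.core.subgroupOf S) :=
      Subgroup.card_eq_card_quotient_mul_card_subgroup _
    have hc2 : Nat.card (F.core.subgroupOf S) = Nat.card F.core :=
      Nat.card_congr (Subgroup.subgroupOfEquivOfLe hQS).toEquiv
    have hc3 : Nat.card (⊤ : Subgroup (↥S ⧸ F.core.subgroupOf S)) = Nat.card (↥S ⧸ F.core.subgroupOf S) :=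
      Subgroup.card_top
    haveI : Finite ↥F.core := finite_of_le hQS
    have hc4 : 1 < Nat.card F.core := (Subgroup.one_lt_card_iff_ne_bot _).mpr hQne
    have hcard : Nat.card (⊤ : Subgroup (↥S ⧸ F.core.subgroupOf S)) < Nat.card S := by
      rw [hc3, hc1, hc2]
      have hpos : 0 < Nat.card (↥S ⧸ F.core.subgroupOf S) := Nat.card_pos
      nlinarith
    -- the preimage of `W(S/Q)`
    set Wb : Subgroup (↥S ⧸ F.core.subgroupOf S) := WS W (⊤ : Subgroup (↥S ⧸ F.core.subgroupOf S)) with hWb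
    set U : Subgroup Ω := preimageAlong θ Wb with hU
    have hUS : U ≤ S := preimageAlong_le θ _
    have hWbT : Wb ≤ ⊤ := le_top
    haveI : Finite ↥(⊤ : Subgroup (↥S ⧸ F.core.subgroupOf S)) := inferInstance
    have hNWb : normalizerIn (⊤ : Subgroup (↥S ⧸ F.core.subgroupOf S)) Wb = ⊤ := by
      apply le_antisymm le_top
      intro g _
      refine ⟨Subgroup.mem_top g, ?_⟩
      haveI : Finite ↥Wb := inferInstance
      apply mem_normalizer_of_conj_mem_finite
      intro u hu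
      exact hW.conj_mem hpT (Subgroup.le_normalizer (Subgroup.mem_top g)) hu
    have hNU : normalizerIn S U = S := by
      rw [← pre_normalizerIn θ hrange hWbT, hNWb, pre_top]
    have hUfn : F.IsFullyNormalized U := GT.isFullyNormalized_of_normalizerIn_eq F hUS hNU
    have hUn : ¬ F.IsNormal U := by
      intro h
      have h1 : U ≤ F.core := le_sSup h
      have h2 : Wb = ⊥ := by
        rw [← imageAlong_preimageAlong θ hrange hWbT, eq_bot_iff]
        intro z hz
        obtain ⟨s, hs, rfl⟩ := (mem_imageAlong_iff θ U z).mp hz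
        rw [Subgroup.mem_bot]
        exact (hker s).mpr (h1 hs)
      have h3 : (⊤ : Subgroup (↥S ⧸ F.core.subgroupOf S)) ≠ ⊥ := by
        intro h4
        apply hQeq
        apply le_antisymm hQS
        intro s hs
        have h5 : θ ⟨s, hs⟩ ∈ (⊤ : Subgroup (↥S ⧸ F.core.subgroupOf S)) := Subgroup.mem_top _
        rw [h4, Subgroup.mem_bot] at h5
        exact (hker ⟨s, hs⟩).mp h5
      exact hW.WS_ne_bot hpT h3 h2
    have hNsys := normalizerSystem_isNormalizerSystem F U hUS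
    have hfocN : FocW W (normalizerSystem F U hUS) D := by
      intro R₂ θ₂ hθ₂E hWR₂ hθ₂W x hx
      rw [WS_congr W hNU] at hWR₂ hθ₂W
      exact hfoc R₂ θ₂ (hθ₂E.of_normalizer hNsys) hWR₂ hθ₂W x hx
    have hallN := IHs U hUS hUfn hUn hfocN
    -- the image of `D`
    set Db : Subgroup (↥S ⧸ F.core.subgroupOf S) := imageAlong θ D with hDb
    have hfocE : FocW W E Db := by
      intro Rb θb hθb hWRb hθbW z hz
      have hRbT : Rb ≤ ⊤ := le_top
      obtain ⟨ψ, hψ, hind⟩ := exists_lift_of_isFM F E θ hθm hθb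
      obtain ⟨x, hx, rfl⟩ := exists_pre_of_mem θ hrange hRbT hz
      have hUpre : U ≤ preimageAlong θ Rb := pre_mono θ hWRb
      have hψU : ∀ u ∈ U, ψ u ∈ U := by
        intro u hu
        rw [hU, mem_pre_iff]
        refine ⟨hψ.mem (hUpre hu), ?_⟩
        rw [← hind u (hUpre hu)]
        exact hθbW _ ((mem_pre_iff θ Wb u).mp hu).2
      have hψN : IsFM (normalizerSystem F U hUS) (preimageAlong θ Rb) ψ := by
        rw [isFM_normalizer_iff F hUS _ hNsys]
        refine ⟨?_, ?_, ψ, hψ.of_eq (sup_eq_left.mpr hUpre), fun _ _ => rfl, hψU⟩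
        · rw [hNU]; exact preimageAlong_le θ Rb
        · intro y hy; rw [hNU]; exact hψ.mem hy
      have h1 := hallN _ ψ hψN x hx
      rw [hind x hx]
      have hxS : x ∈ S := preimageAlong_le θ Rb hx
      have hψxS : ψ x ∈ S := hψ.mem hx
      have e : (ext1 θ x)⁻¹ * ext1 θ (ψ x) = ext1 θ (x⁻¹ * ψ x) := by
        rw [ext1_mul θ (S.inv_mem hxS) hψxS, ext1_inv θ hxS]
      rw [e, mem_imageAlong_iff]
      exact ⟨⟨x⁻¹ * ψ x, S.mul_mem (S.inv_mem hxS) hψxS⟩, h1, (ext1_apply θ _).symm⟩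
    have hallE := IHq _ ⊤ hpT E hEsat Db hfocE hcard
    -- conclusion
    intro R θ₁ hθ₁ x hx
    obtain ⟨θ', hθ', hext, hθ'Q⟩ := NM.of_isNormal hQ hθ₁
    have hRS := hθ₁.le
    have hRQS : R ⊔ F.core ≤ S := sup_le hRS hQS
    set Rb : Subgroup (↥S ⧸ F.core.subgroupOf S) := imageAlong θ (R ⊔ F.core) with hRb
    have hpre : preimageAlong θ Rb = R ⊔ F.core := by
      rw [preimageAlong_imageAlong θ hQS hker hRQS]
      exact sup_eq_left.mpr le_sup_right
    have hθ'pre : IsFM F (preimageAlong θ Rb) θ' := hθ'.of_eq hpre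
    obtain ⟨φ, hφ, hφe⟩ := hθ'pre
    obtain ⟨φ', hφ', hφ'e⟩ := exists_induced_hom F E θ hθm (le_top : Rb ≤ ⊤) hφ
    have hxpre : x ∈ preimageAlong θ Rb := by
      rw [hpre]; exact (le_sup_left : R ≤ R ⊔ F.core) hx
    have hxS : x ∈ S := hRS hx
    have hθxS : θ₁ x ∈ S := hθ₁.mem hx
    have hzmem : ext1 θ x ∈ Rb := ((mem_pre_iff θ Rb x).mp hxpre).2
    have h1 := hallE Rb (ofHom φ') (isFM_ofHom hφ') (ext1 θ x) hzmem
    have h2 : ofHom φ' (ext1 θ x) = ext1 θ (θ₁ x) := by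
      rw [ofHom_apply' φ' hzmem]
      have h3 := hφ'e ⟨x, hxpre⟩
      have h4 : (⟨ext1 θ x, hzmem⟩ : ↥Rb) = projHom θ Rb ⟨x, hxpre⟩ := by
        apply Subtype.ext
        rw [projHom_coe]
        exact ext1_apply θ hxS
      rw [h4, h3, ext1_apply θ hθxS]
      congr 1
      apply Subtype.ext
      show φ ⟨x, hxpre⟩ = θ₁ x
      rw [hφe ⟨x, hxpre⟩]
      exact hext x hx
    rw [h2] at h1
    obtain ⟨s, hsD, hs⟩ := (mem_imageAlong_iff θ D _).mp h1
    refine ⟨(s : Ω), hsD, ?_⟩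
    have hyS : (s : Ω)⁻¹ * (x⁻¹ * θ₁ x) ∈ S :=
      S.mul_mem (S.inv_mem s.2) (S.mul_mem (S.inv_mem hxS) hθxS)
    rw [← hker ⟨_, hyS⟩]
    have h5 : θ ⟨(s : Ω)⁻¹ * (x⁻¹ * θ₁ x), hyS⟩ = ext1 θ ((s : Ω)⁻¹ * (x⁻¹ * θ₁ x)) := (ext1_apply θ hyS).symm
    rw [h5, ext1_mul θ (S.inv_mem s.2) (S.mul_mem (S.inv_mem hxS) hθxS), ext1_inv θ s.2,
      ext1_mul θ (S.inv_mem hxS) hθxS, ext1_inv θ hxS, ext1_coe, hs, inv_mul_cancel]

end Cfsg.Agent.Lib.Helper27.TR
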