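import Cfsg.Agent.Lib.Helper27.TR4
import Cfsg.Agent.Lib.Helper27.BS18

/-!
helper27: control of transfer: `O_p(F) ∩ foc(F)` when `O_p(F)` is not centric.
-/

set_option autoImplicit false
set_option linter.unusedSectionVars false
set_option linter.unusedVariables false

namespace Cfsg.Agent.Lib.Helper27.TR

open Cfsg Cfsg.FusionSystem Cfsg.Agent.Lib.Helper26 Cfsg.Agent.Lib.Helper27.FM Cfsg.Agent.Lib.Helper27.KL

universe u

variable {Ω : Type u} [Group Ω] {S : Subgroup Ω} {p : ℕ} [Fact p.Prime]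
  {W : ∀ (Q : Type u) [Group Q], Subgroup Q}

variable [Finite S]

theorem core_inf_focal_le_noncentric (hW : PosChar p W) (hS : IsPGroup p S) (F : FusionSystem S)
    (hF : F.IsSaturated p) (D₀ : Subgroup Ω) (hfoc : FocW W F D₀)
    (IHs : ∀ (U : Subgroup Ω) (hU : U ≤ S), F.IsFullyNormalized U → ¬ F.IsNormal U →
      FocW W (normalizerSystem F U hU) D₀ → FocAll (normalizerSystem F U hU) D₀)
    (hQc : ¬ F.IsCentric F.core) : F.core ⊓ F.focalSubgroup ≤ D₀ := by
  have hD₀ := conj_mem_of_focW hW hS hfoc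
  have hQ : F.IsNormal F.core := core_isNormal F
  have hQS : F.core ≤ S := hQ.1
  have hsc := stronglyClosed_of_isNormal F hQ
  haveI : Finite ↥F.core := finite_of_le hQS
  have hSN : S ≤ Subgroup.normalizer (F.core : Set Ω) := le_normalizer_of_stronglyClosed F hsc
  have hQn : ∀ s ∈ S, ∀ q ∈ F.core, s * q * s⁻¹ ∈ F.core := fun s hs q hq =>
    (Subgroup.mem_normalizer_iff.mp (hSN hs) q).mp hq
  have hRS : F.core ⊔ centralizerIn S F.core ≤ S := sup_le hQS (centralizerIn_le S F.core)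
  have hRn : ∀ s ∈ S, ∀ r ∈ F.core ⊔ centralizerIn S F.core,
      s * r * s⁻¹ ∈ F.core ⊔ centralizerIn S F.core := fun s hs =>
    conj_mem_sup_of_forall (hQn s hs) (fun c hc => conj_mem_centralizerIn hQn hs hc)
  haveI : Finite ↥(F.core ⊔ centralizerIn S F.core) := finite_of_le hRS
  have hNR : normalizerIn S (F.core ⊔ centralizerIn S F.core) = S :=
    le_antisymm (normalizerIn_le S _) (fun s hs => ⟨hs, mem_normalizer_of_conj_mem_finite (hRn s hs)⟩)
  have hRfn : F.IsFullyNormalized (F.core ⊔ centralizerIn S F.core) :=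
    GT.isFullyNormalized_of_normalizerIn_eq F hRS hNR
  have hE₀ := normalizerSystem_isNormalizerSystem F _ hRS
  have hRnn : ¬ F.IsNormal (F.core ⊔ centralizerIn S F.core) := by
    intro hRnorm
    have h1 : F.core ⊔ centralizerIn S F.core ≤ F.core := le_sSup hRnorm
    exact hQc (KL.isCentric_of_isNormal_of_centralizerIn_le F hQ (le_sup_right.trans h1))
  have hfoc₀ : FocW W (normalizerSystem F _ hRS) D₀ := by
    intro R θ hθ hWR hθW x hx
    rw [WS_congr W hNR] at hWR hθW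
    exact hfoc R θ (hθ.of_normalizer hE₀) hWR hθW x hx
  have hall₀ := IHs _ hRS hRfn hRnn hfoc₀
  have key := (qPM F hsc D₀ hD₀).forall_of_gen hS hF hQ hQn ?_ hRS ?_
  · exact BS.inf_focal_le hS F hF F.core hQS D₀ hD₀ (fun R θ hθ x hx hxQ => (key R θ hθ).2 x hx hxQ)
  · rintro R θ ⟨θ', h1, h2, s, hs, h3⟩
    refine ⟨(h1.mono le_sup_left).congr h2, fun x hx hxQ => ?_⟩
    rw [← h2 x hx, h3 x hxQ]
    exact hD₀ s hs x (hQS hxQ)
  · intro R θ hθ
    exact ⟨hθ.of_normalizer hE₀, fun x hx _ => hall₀ R θ hθ x hx⟩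

end Cfsg.Agent.Lib.Helper27.TR
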