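import Cfsg.Agent.Lib.Helper27.TR5
import Cfsg.Agent.Lib.Helper27.KL18

/-!
helper27: control of transfer: `O_p(F) ∩ foc(F)` when `O_p(F)` is centric (the constrained case, through the model).
-/

set_option autoImplicit false
set_option linter.unusedSectionVars false
set_option linter.unusedVariables false

namespace Cfsg.Agent.Lib.Helper27.TR

open Cfsg Cfsg.FusionSystem Cfsg.Agent.Lib.Helper26 Cfsg.Agent.Lib.Helper27.FM Cfsg.Agent.Lib.Helper27.KL
  Cfsg.Agent.Lib.Helper26.ModelThm Cfsg.Agent.Lib.Helper27.ModelRad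

universe u

open scoped commutatorElement

variable {Ω : Type u} [Group Ω] {S : Subgroup Ω} {p : ℕ} [Fact p.Prime]
  {W : ∀ (Q : Type u) [Group Q], Subgroup Q}

/-- The local condition for control of transfer. -/
def TransferProp (p : ℕ) (W : ∀ (Q : Type u) [Group Q], Subgroup Q) : Prop :=
  ∀ (G : Type u) [Group G] [Finite G] (P : Sylow p G),
    Subgroup.centralizer ((Cfsg.pCore p G : Subgroup G) : Set G) ≤ Cfsg.pCore p G →
    Cfsg.pCore p G ⊓ commutator G = Cfsg.pCore p G ⊓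
      (commutator ↥(Subgroup.normalizer
        (((W ↥(P : Subgroup G)).map (P : Subgroup G).subtype : Subgroup G) : Set G))).map
        (Subgroup.normalizer (((W ↥(P : Subgroup G)).map (P : Subgroup G).subtype : Subgroup G) : Set G)).subtype

/-- the image of the focal subgroup lies in the derived subgroup of a realizing group -/
theorem ext1_focal_mem_commutator {F : FusionSystem S} {L : Type*} [Group L] {ι : S →* L}
    (hreal : F.IsRealizedBy ι) {y : Ω} (hy : y ∈ F.focalSubgroup) : y ∈ S ∧ ext1 ι y ∈ commutator L := by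
  have hle : F.focalSubgroup ≤ pullSub ι (commutator L) := by
    unfold FusionSystem.focalSubgroup
    rw [Subgroup.closure_le]
    rintro y ⟨P, φ, x, hφ, rfl⟩
    have hθ : IsFM F P (ofHom φ) := isFM_ofHom hφ
    obtain ⟨hPS, hθS, g, hg⟩ := (isFM_iff_of_realized hreal).mp hθ
    have hxS : (x : Ω) ∈ S := hPS x.2
    have hφxS : φ x ∈ S := hom_apply_mem F hφ x
    have hyS : (x : Ω)⁻¹ * φ x ∈ S := S.mul_mem (S.inv_mem hxS) hφxS
    have h1 := hg x x.2
    rw [ofHom_apply] at h1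
    have h2 : ι ⟨(x : Ω)⁻¹ * φ x, hyS⟩ ∈ commutator L := by
      rw [← ext1_apply ι hyS, ext1_mul ι (S.inv_mem hxS) hφxS, ext1_inv ι hxS, h1]
      have h3 := Subgroup.commutator_mem_commutator (H₁ := (⊤ : Subgroup L)) (H₂ := (⊤ : Subgroup L))
        (Subgroup.mem_top ((ext1 ι (x : Ω))⁻¹)) (Subgroup.mem_top g)
      rw [commutatorElement_def] at h3
      have e : (ext1 ι (x : Ω))⁻¹ * (g * ext1 ι (x : Ω) * g⁻¹) =
          (ext1 ι (x : Ω))⁻¹ * g * ((ext1 ι (x : Ω))⁻¹)⁻¹ * g⁻¹ := by group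
      rw [e]
      exact h3
    exact (mem_pullSub ι _ ⟨_, hyS⟩).mpr h2
  obtain ⟨s, hs, rfl⟩ := hle hy
  refine ⟨s.2, ?_⟩
  show ext1 ι (s : Ω) ∈ commutator L
  rw [ext1_coe]
  exact hs

/-- the focal subgroup of `N_L(W(T))` (with respect to the Sylow subgroup `T`) comes from the focal elements of the
maps normalizing `W(S)` -/
theorem focal_normalizer_le (hW : PosChar p W) [Finite S] (hS : IsPGroup p S) {F : FusionSystem S}
    {L : Type u} [Group L] [Finite L] {ι : S →* L} (hreal : F.IsRealizedBy ι) (T : Subgroup L)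
    (hT : T = ι.range) :
    ∀ n ∈ (T.subgroupOf (Subgroup.normalizer (((W ↥T).map T.subtype : Subgroup L) : Set L))).focalSubgroup,
      ∃ y ∈ focW W F, y ∈ S ∧ ext1 ι y = (n : L) := by
  have hinj := hreal.1
  have hWS : WS W S ≤ S := WS_le W S
  have hpull := pullSub_WS hW hS ι hinj T hT
  have hmemW : ∀ y (hy : y ∈ S), ext1 ι y ∈ (W ↥T).map T.subtype ↔ y ∈ WS W S := by
    intro y hy
    rw [← hpull, ext1_apply ι hy]
    exact (mem_pullSub ι _ ⟨y, hy⟩).symm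
  have hWL_le : ((W ↥T).map T.subtype : Subgroup L) ≤ ι.range := by
    rw [← hT]; exact Subgroup.map_subtype_le _
  set N : Subgroup L := Subgroup.normalizer (((W ↥T).map T.subtype : Subgroup L) : Set L) with hN
  set K' : Subgroup ↥N := ((((focW W F).subgroupOf S).map ι).comap N.subtype) with hK'
  have hle : (T.subgroupOf N).focalSubgroup ≤ K' := by
    rw [Subgroup.focalSubgroup_def, Subgroup.closure_le]
    rintro g ⟨hgT, x, hxT, u, rfl⟩
    rw [Subgroup.mem_subgroupOf] at hgT hxT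
    -- `x⁻¹ = ι y₀`
    have hxr : ((x : L))⁻¹ ∈ ι.range := by rw [← hT]; exact T.inv_mem hxT
    obtain ⟨y₀, hy₀⟩ := hxr
    have hgr : ((⁅x, u⁆ : ↥N) : L) ∈ ι.range := by rw [← hT]; exact hgT
    have hge : ((⁅x, u⁆ : ↥N) : L) = (x : L) * ((u : L) * (x : L)⁻¹ * (u : L)⁻¹) := by
      rw [commutatorElement_def]
      push_cast
      group
    -- conjugation by `u` on `⟨y₀⟩`
    have hconj0 : ∃ y' ∈ S, ext1 ι y' = (u : L) * ext1 ι (y₀ : Ω) * (u : L)⁻¹ := by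
      have h1 : (u : L) * (x : L)⁻¹ * (u : L)⁻¹ ∈ ι.range := by
        have h2 : (u : L) * (x : L)⁻¹ * (u : L)⁻¹ = (x : L)⁻¹ * ((⁅x, u⁆ : ↥N) : L) := by rw [hge]; group
        rw [h2]
        exact ι.range.mul_mem (by rw [← hT]; exact T.inv_mem hxT) hgr
      obtain ⟨s, hs⟩ := h1
      exact ⟨s, s.2, by rw [ext1_coe, ext1_coe, hs, hy₀]⟩
    have hconjZ : ∀ y ∈ Subgroup.zpowers (y₀ : Ω), ∃ y' ∈ S, ext1 ι y' = (u : L) * ext1 ι y * (u : L)⁻¹ := by
      rintro y ⟨k, rfl⟩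
      obtain ⟨y', hy', he⟩ := hconj0
      refine ⟨y' ^ k, S.zpow_mem hy' k, ?_⟩
      have h1 : ext1 ι (y' ^ k) = (ext1 ι y') ^ k := by
        rw [ext1_apply ι hy', ext1_apply ι (S.zpow_mem hy' k), ← map_zpow]
        rfl
      have h2 : ext1 ι ((y₀ : Ω) ^ k) = (ext1 ι (y₀ : Ω)) ^ k := by
        rw [ext1_apply ι y₀.2, ext1_apply ι (S.zpow_mem y₀.2 k), ← map_zpow]
        rfl
      show ext1 ι (y' ^ k) = (u : L) * ext1 ι ((y₀ : Ω) ^ k) * (u : L)⁻¹
      rw [h1, h2, he, conj_zpow]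
    have hconjW : ∀ y ∈ WS W S, ∃ y' ∈ S, ext1 ι y' = (u : L) * ext1 ι y * (u : L)⁻¹ := by
      intro y hy
      have h1 : (u : L) * ext1 ι y * (u : L)⁻¹ ∈ (W ↥T).map T.subtype :=
        (Subgroup.mem_normalizer_iff.mp u.2 _).mp ((hmemW y (hWS hy)).mpr hy)
      obtain ⟨s, hs⟩ := hWL_le h1
      exact ⟨s, s.2, by rw [ext1_coe]; exact hs⟩
    have hZS : Subgroup.zpowers (y₀ : Ω) ≤ S := (Subgroup.zpowers_le).mpr y₀.2
    have hsup := conj_mem_range_sup ι (u : L) hZS hWS hconjZ hconjW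
    obtain ⟨θ', hθ', hθ'g⟩ := exists_isFM_of_conj hreal (u : L) (sup_le hZS hWS) hsup
    have hθ'W : ∀ w ∈ WS W S, θ' w ∈ WS W S := by
      intro w hw
      have hwR : w ∈ Subgroup.zpowers (y₀ : Ω) ⊔ WS W S := (le_sup_right : WS W S ≤ _) hw
      rw [← hmemW _ (hθ'.mem hwR), hθ'g w hwR]
      exact (Subgroup.mem_normalizer_iff.mp u.2 _).mp ((hmemW w (hWS hw)).mpr hw)
    have hy₀R : (y₀ : Ω) ∈ Subgroup.zpowers (y₀ : Ω) ⊔ WS W S :=
      (le_sup_left : Subgroup.zpowers (y₀ : Ω) ≤ _) (Subgroup.mem_zpowers _)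
    have hmemF : (y₀ : Ω)⁻¹ * θ' (y₀ : Ω) ∈ focW W F :=
      focW_focW W F _ θ' hθ' le_sup_right hθ'W _ hy₀R
    have hθ'S : θ' (y₀ : Ω) ∈ S := hθ'.mem hy₀R
    show N.subtype ⁅x, u⁆ ∈ ((focW W F).subgroupOf S).map ι
    rw [mem_map_subgroupOf_iff]
    refine ⟨_, hmemF, S.mul_mem (S.inv_mem y₀.2) hθ'S, ?_⟩
    rw [ext1_mul ι (S.inv_mem y₀.2) hθ'S, ext1_inv ι y₀.2, hθ'g _ hy₀R, ext1_coe, hy₀]
    show (x : L)⁻¹⁻¹ * ((u : L) * (x : L)⁻¹ * (u : L)⁻¹) = ((⁅x, u⁆ : ↥N) : L)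
    rw [hge, inv_inv]
  intro n hn
  have h1 := hle hn
  rw [hK', Subgroup.mem_comap, mem_map_subgroupOf_iff] at h1
  obtain ⟨y, hyF, hyS, he⟩ := h1
  exact ⟨y, hyF, hyS, he⟩

/-- the constrained case -/
theorem core_inf_focal_le_centric (hW : PosChar p W) (hTr : TransferProp p W) [Finite S] (hS : IsPGroup p S)
    (F : FusionSystem S) (hF : F.IsSaturated p) (hQc : F.IsCentric F.core) :
    F.core ⊓ F.focalSubgroup ≤ focW W F := by
  have hQ : F.IsNormal F.core := core_isNormal F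
  have hs : Setup p F F.core := ⟨hS, hF, hQ, hQc⟩
  haveI : Finite ↥F.core := finite_of_le hQ.1
  haveI : Finite (Mdl hs) := finite_Mdl hs
  obtain ⟨-, hreal, ⟨TL, hTL⟩, hcent⟩ := isModel hs
  rintro z ⟨hzQ, hzf⟩
  have hzS : z ∈ S := hQ.1 hzQ
  have h1 : ext1 (mIota hs) z ∈ pCore p (Mdl hs) := QG_le_pCore hs (ext1_mem_map (mIota hs) hzQ hzS)
  have h2 := (ext1_focal_mem_commutator hreal hzf).2
  have h3 : ext1 (mIota hs) z ∈ pCore p (Mdl hs) ⊓ commutator (Mdl hs) := ⟨h1, h2⟩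
  rw [hTr (Mdl hs) TL hcent] at h3
  obtain ⟨n, hn, hnz⟩ := h3.2
  have hpTL : IsPGroup p (TL : Subgroup (Mdl hs)) := TL.isPGroup'
  have hTN : (TL : Subgroup (Mdl hs)) ≤ Subgroup.normalizer
      (((W ↥(TL : Subgroup (Mdl hs))).map (TL : Subgroup (Mdl hs)).subtype : Subgroup (Mdl hs)) : Set (Mdl hs)) := by
    intro t ht
    haveI : Finite ↥((W ↥(TL : Subgroup (Mdl hs))).map (TL : Subgroup (Mdl hs)).subtype : Subgroup (Mdl hs)) :=
      inferInstance
    apply mem_normalizer_of_conj_mem_finite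
    intro u hu
    exact hW.conj_mem (T := (TL : Subgroup (Mdl hs))) hpTL (Subgroup.le_normalizer ht) hu
  have h4 := Subgroup.commutator_inf_eq_focalSubgroup (TL.subtype hTN)
  have h5 : n ∈ commutator _ ⊓ ((TL.subtype hTN : Sylow p _) : Subgroup _) := by
    refine ⟨hn, ?_⟩
    rw [SetLike.mem_coe, Sylow.coe_subtype]
    show n ∈ (TL : Subgroup (Mdl hs)).subgroupOf _
    rw [Subgroup.mem_subgroupOf]
    have h6 : (n : Mdl hs) = ext1 (mIota hs) z := hnz
    rw [h6, hTL]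
    exact ext1_mem_range (mIota hs) hzS
  rw [h4, Sylow.coe_subtype] at h5
  obtain ⟨y, hyF, hyS, he⟩ := focal_normalizer_le hW hS hreal (TL : Subgroup (Mdl hs)) hTL n h5
  have h6 : (n : Mdl hs) = ext1 (mIota hs) z := hnz
  rw [h6] at he
  have := ext1_injOn (mIota hs) hreal.1 hyS hzS he
  rw [← this]
  exact hyF

end Cfsg.Agent.Lib.Helper27.TR
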