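import Cfsg.Agent.Lib.Helper27.TR6

/-!
helper27: control of transfer by a positive characteristic `p`-functor: the induction and the theorem
(Díaz–Glesser–Mazza–Park).
-/

set_option autoImplicit false
set_option linter.unusedSectionVars false
set_option linter.unusedVariables false

namespace Cfsg.Agent.Lib.Helper27.TR

open Cfsg Cfsg.FusionSystem Cfsg.Agent.Lib.Helper26 Cfsg.Agent.Lib.Helper27.FM Cfsg.Agent.Lib.Helper27.KL

universe u

variable {p : ℕ} [Fact p.Prime] {W : ∀ (Q : Type u) [Group Q], Subgroup Q}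

/-- The induction hypothesis. -/
def IHtr (p : ℕ) (W : ∀ (Q : Type u) [Group Q], Subgroup Q) (n m : ℕ) : Prop :=
  ∀ (Ω' : Type u) [Group Ω'] (T : Subgroup Ω') [Finite T], IsPGroup p T → ∀ E : FusionSystem T,
    E.IsSaturated p → ∀ D : Subgroup Ω', FocW W E D →
    (Nat.card T < n ∨ (Nat.card T = n ∧ GT.mu E < m)) → FocAll E D

variable {Ω : Type u} [Group Ω] {S : Subgroup Ω}

theorem ih_sub_tr {n m : ℕ} (IH : IHtr p W n m) [Finite S] (hS : IsPGroup p S)
    (F : FusionSystem S) (hF : F.IsSaturated p) (hn : Nat.card S = n) (hm : GT.mu F = m) {T : Subgroup Ω}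
    (hTS : T ≤ S) (E : FusionSystem T) (hE : E.IsSaturated p) (D : Subgroup Ω) (hfoc : FocW W E D)
    (hle : ∀ P, E.Hom P ⊆ F.Hom P) (hne : ¬ ∀ P, F.Hom P ⊆ E.Hom P) : FocAll E D := by
  haveI : Finite ↥T := finite_of_le hTS
  have hpT : IsPGroup p T := hS.to_le hTS
  rcases (Subgroup.card_le_of_le hTS).lt_or_eq with h | h
  · exact IH Ω T hpT E hE D hfoc (Or.inl (hn ▸ h))
  · have hTS' : T = S := Subgroup.eq_of_le_of_card_ge hTS h.ge
    subst hTS'
    exact IH Ω T hpT E hE D hfoc (Or.inr ⟨hn, hm ▸ GT.mu_lt hS E F hF hle hne⟩)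

/-- The inductive step. -/
theorem tr_step (hW : PosChar p W) (hTr : TransferProp p W) {n m : ℕ} (IH : IHtr p W n m) [Finite S]
    (hS : IsPGroup p S) (F : FusionSystem S) (hF : F.IsSaturated p) (D : Subgroup Ω) (hfoc : FocW W F D)
    (hn : Nat.card S = n) (hm : GT.mu F = m) : FocAll F D := by
  have hsub : ∀ (D' : Subgroup Ω) (U : Subgroup Ω) (hU : U ≤ S), F.IsFullyNormalized U → ¬ F.IsNormal U →
      FocW W (normalizerSystem F U hU) D' → FocAll (normalizerSystem F U hU) D' := by
    intro D' U hU hUfn hUn hfocU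
    have hE := normalizerSystem_isNormalizerSystem F U hU
    exact ih_sub_tr IH hS F hF hn hm (normalizerIn_le S U) _ (normalizerSystem_saturated hS F hF hUfn _ hE)
      D' hfocU (fun P φ hφ => hφ.1) (fun hall => hUn (isNormal_of_forall_normalizerHom F hU hall))
  by_cases hcore : F.core = ⊥
  · have hnn : ∀ U : Subgroup Ω, F.IsNormal U → U = ⊥ := by
      intro U hU
      have h1 : U ≤ F.core := le_sSup hU
      rw [hcore] at h1
      exact le_bot_iff.mp h1
    exact focAll_of_core_bot hW hS F hF D hfoc (hsub D) hnn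
  · have hfoc₀ := focW_focW W F
    have hD₀D : focW W F ≤ D := focW_le_of_focW hfoc
    have hmod := foc_mod_core hW hS F hF (focW W F) hfoc₀
      (fun Ω' _ T' _ hT' E' hE' D' hf hlt => IH Ω' T' hT' E' hE' D' hf (Or.inl (hn ▸ hlt)))
      (hsub (focW W F)) hcore
    have hcapf : F.core ⊓ F.focalSubgroup ≤ focW W F := by
      by_cases hQc : F.IsCentric F.core
      · exact core_inf_focal_le_centric hW hTr hS F hF hQc
      · exact core_inf_focal_le_noncentric hW hS F hF (focW W F) hfoc₀ (hsub (focW W F)) hQc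
    intro R θ hθ x hx
    obtain ⟨d, hd, hq⟩ := hmod R θ hθ x hx
    have hqf : d⁻¹ * (x⁻¹ * θ x) ∈ F.focalSubgroup :=
      F.focalSubgroup.mul_mem (F.focalSubgroup.inv_mem (focW_le_focal W F hd)) (focal_mem_of_isFM F hθ hx)
    have hq₀ : d⁻¹ * (x⁻¹ * θ x) ∈ focW W F := hcapf ⟨hq, hqf⟩
    have e : x⁻¹ * θ x = d * (d⁻¹ * (x⁻¹ * θ x)) := by group
    rw [e]
    exact hD₀D ((focW W F).mul_mem hd hq₀)

/-- **Control of transfer.** -/
theorem tr_main (hW : PosChar p W) (hTr : TransferProp p W) :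
    ∀ (n m : ℕ) (Ω : Type u) [Group Ω] (T : Subgroup Ω) [Finite T], IsPGroup p T → ∀ E : FusionSystem T,
      E.IsSaturated p → ∀ D : Subgroup Ω, FocW W E D → Nat.card T = n → GT.mu E = m → FocAll E D := by
  intro n
  induction n using Nat.strong_induction_on with
  | _ n ihn =>
    intro m
    induction m using Nat.strong_induction_on with
    | _ m ihm =>
      intro Ω _ T _ hT E hE D hfoc hn hm
      apply tr_step hW hTr (n := n) (m := m) ?_ hT E hE D hfoc hn hm
      intro Ω' _ T' _ hT' E' hE' D' hfoc' hlt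
      rcases hlt with h | ⟨h1, h2⟩
      · exact ihn _ h _ Ω' T' hT' E' hE' D' hfoc' rfl rfl
      · exact ihm _ h2 Ω' T' hT' E' hE' D' hfoc' h1 rfl

/-- the focal subgroup of the normalizer system of `W(S)` is the focal subgroup of `F` -/
theorem focal_normalizer_eq (hW : PosChar p W) (hTr : TransferProp p W) [Finite S] (hS : IsPGroup p S)
    (F : FusionSystem S) (hF : F.IsSaturated p) (N : FusionSystem (normalizerIn S (WS W S)))
    (hN : F.IsNormalizerSystem (WS W S) N) : N.focalSubgroup = F.focalSubgroup := by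
  have hWS : WS W S ≤ S := WS_le W S
  have hA : normalizerIn S (WS W S) = S := by
    apply le_antisymm (normalizerIn_le S _)
    intro s hs
    haveI : Finite ↥(WS W S) := finite_of_le hWS
    exact ⟨hs, mem_normalizer_of_conj_mem_finite (fun u hu => hW.conj_mem hS (Subgroup.le_normalizer hs) hu)⟩
  apply le_antisymm
  · unfold FusionSystem.focalSubgroup
    rw [Subgroup.closure_le]
    rintro y ⟨P, φ, x, hφ, rfl⟩
    have h1 : IsFM F P (ofHom φ) := (isFM_ofHom hφ).of_normalizer hN
    have h2 := focal_mem_of_isFM F h1 x.2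
    rw [ofHom_apply] at h2
    exact h2
  · have hfoc : FocW W F N.focalSubgroup := by
      intro R θ hθ hWR hθW x hx
      have hRS : R ≤ S := hθ.le
      have hθN : IsFM N R θ := by
        rw [isFM_normalizer_iff F hWS N hN]
        refine ⟨hA.symm ▸ hRS, fun x hx => hA.symm ▸ hθ.mem hx, θ, hθ.of_eq (sup_eq_left.mpr hWR),
          fun _ _ => rfl, hθW⟩
      exact focal_mem_of_isFM N hθN hx
    exact focal_le_of_focAll (tr_main hW hTr _ _ Ω S hS F hF _ hfoc rfl rfl)

end Cfsg.Agent.Lib.Helper27.TR
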