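import Mathlib
import Cfsg.Agent.Lib.Helper1.FR1

/-!
# 3-transposition sets in which every `D_d` is the set of transpositions of an `S₃`

Part A: words, the local hypothesis `Loc`, the two key lemmas.
-/

set_option autoImplicit false

namespace Cfsg.Agent.Lib.Helper27.TTLoc

open Cfsg.Agent.Lib.Helper1.FR3

section words

variable {G : Type*} [Group G] {a b e f : G}

theorem w_rot1 (haf : a * f * a = f * a * f) (hbf : b * f * b = f * b * f) :
    SemiconjBy (f * (b * a) * f) a b := by
  show f * (b * a) * f * a = b * (f * (b * a) * f)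
  calc f * (b * a) * f * a = f * b * (a * f * a) := by group
    _ = f * b * (f * a * f) := by rw [haf]
    _ = (f * b * f) * a * f := by group
    _ = (b * f * b) * a * f := by rw [hbf]
    _ = b * (f * (b * a) * f) := by group

theorem w_ba_eq_cb (hb : b * b = 1) (hab : a * b * a = b * a * b) : b * a = (a * b * a) * b := by
  rw [hab]
  calc b * a = b * a * (b * b) := by rw [hb, mul_one]
    _ = b * a * b * b := by group

theorem w_ba_eq_ac (ha : a * a = 1) : b * a = a * (a * b * a) := by
  calc b * a = (a * a) * b * a := by rw [ha, one_mul]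
    _ = a * (a * b * a) := by group

theorem w_rot2 (hb : b * b = 1) (hab : a * b * a = b * a * b)
    (hbf : b * f * b = f * b * f) (hcf : (a * b * a) * f * (a * b * a) = f * (a * b * a) * f) :
    SemiconjBy (f * (b * a) * f) b (a * b * a) := by
  rw [w_ba_eq_cb hb hab]
  exact w_rot1 hbf hcf

theorem w_rot3 (ha : a * a = 1)
    (haf : a * f * a = f * a * f) (hcf : (a * b * a) * f * (a * b * a) = f * (a * b * a) * f) :
    SemiconjBy (f * (b * a) * f) (a * b * a) a := by
  rw [w_ba_eq_ac (b := b) ha]
  exact w_rot1 hcf haf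

theorem w_z1 (ha : a * a = 1) (hb : b * b = 1) (hab : a * b * a = b * a * b) :
    SemiconjBy (b * a) a (a * b * a) := by
  show b * a * a = a * b * a * (b * a)
  calc b * a * a = b * (a * a) := by group
    _ = b := by rw [ha, mul_one]
    _ = (a * a) * b := by rw [ha, one_mul]
    _ = a * (a * (b * b) * b) := by rw [hb, mul_one]; group
    _ = a * b * (b * a * b) := by
        calc a * (a * (b * b) * b) = a * (a * (b * b)) * b := by group
          _ = a * (a * 1) * b := by rw [hb]
          _ = a * (1 * a) * b := by rw [mul_one, one_mul]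
          _ = a * ((b * b) * a) * b := by rw [hb]
          _ = a * b * (b * a * b) := by group
    _ = a * b * (a * b * a) := by rw [hab]
    _ = a * b * a * (b * a) := by group

theorem w_z2 (hab : a * b * a = b * a * b) : SemiconjBy (b * a) b a := by
  show b * a * b = a * (b * a)
  rw [← hab]; group

theorem w_z3 (ha : a * a = 1) (hb : b * b = 1) : SemiconjBy (b * a) (a * b * a) b := by
  show b * a * (a * b * a) = b * (b * a)
  calc b * a * (a * b * a) = b * (a * a) * b * a := by group
    _ = (b * b) * a := by rw [ha, mul_one]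
    _ = b * (b * a) := by group

/-- the product of the rotation `b * a` and its conjugate by `f` centralises `a` and `b` -/
theorem w_prod_comm_a (ha : a * a = 1) (hb : b * b = 1) (hab : a * b * a = b * a * b)
    (haf : a * f * a = f * a * f) (hbf : b * f * b = f * b * f) :
    Commute ((b * a) * (f * (b * a) * f)) a :=
  (w_z2 hab).mul_left (w_rot1 haf hbf)

theorem w_prod_comm_b (ha : a * a = 1) (hb : b * b = 1) (hab : a * b * a = b * a * b)
    (hbf : b * f * b = f * b * f) (hcf : (a * b * a) * f * (a * b * a) = f * (a * b * a) * f) :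
    Commute ((b * a) * (f * (b * a) * f)) b :=
  (w_z3 ha hb).mul_left (w_rot2 hb hab hbf hcf)

theorem w_comm_conj (ha : a * a = 1) (hb : b * b = 1) (hab : a * b * a = b * a * b)
    (haf : a * f * a = f * a * f) (hbf : b * f * b = f * b * f)
    (hcf : (a * b * a) * f * (a * b * a) = f * (a * b * a) * f) :
    Commute (b * a) (f * (b * a) * f) := by
  have h1 : Commute ((b * a) * (f * (b * a) * f)) (b * a) :=
    (w_prod_comm_b ha hb hab hbf hcf).mul_right (w_prod_comm_a ha hb hab haf hbf)
  have h2 : (b * a) * (f * (b * a) * f) * (b * a) = (b * a) * ((b * a) * (f * (b * a) * f)) := h1.eq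
  have h3 : (b * a) * ((f * (b * a) * f) * (b * a)) = (b * a) * ((b * a) * (f * (b * a) * f)) := by
    rw [← h2]; group
  exact (mul_left_cancel h3).symm

/-- if `e` commutes with `b * a` and is braided with `a` then `a` and `b` commute -/
theorem w_lemC (ha : a * a = 1) (hb : b * b = 1) (he : e * e = 1) (hea : e * a * e = a * e * a)
    (hez : Commute e (b * a)) : a * b = b * a := by
  have hinv : (b * a)⁻¹ = a * b := by
    rw [mul_inv_rev, inv_eq_of_mul_eq_one_left ha, inv_eq_of_mul_eq_one_left hb]
  have hez' : Commute e (a * b) := by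
    rw [← hinv]; exact hez.inv_right
  have h1 : (a * e * a) * (b * a) * (a * e * a) = b * a := by
    calc (a * e * a) * (b * a) * (a * e * a) = a * e * (a * b) * (a * a) * e * a := by group
      _ = a * (e * (a * b)) * e * a := by rw [ha, mul_one]; group
      _ = a * ((a * b) * e) * e * a := by rw [hez'.eq]
      _ = (a * a) * b * (e * e) * a := by group
      _ = b * a := by rw [ha, he, one_mul, mul_one]
  have h2 : (e * a * e) * (b * a) * (e * a * e) = a * b := by
    calc (e * a * e) * (b * a) * (e * a * e) = e * a * (e * (b * a)) * e * a * e := by group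
      _ = e * a * ((b * a) * e) * e * a * e := by rw [hez.eq]
      _ = e * (a * b) * (a * (e * e) * a) * e := by group
      _ = e * (a * b) * e := by rw [he, mul_one, ha, mul_one]
      _ = (a * b) * e * e := by rw [hez'.eq]
      _ = a * b := by rw [mul_assoc, he, mul_one]
  rw [hea, h1] at h2
  exact h2.symm

end words

variable {G : Type*} [Group G] {D : Set G}

/-- the members of `D` other than `d` commuting with `d` -/
def Dd (D : Set G) (d : G) : Set G := {y : G | y ∈ D ∧ y ≠ d ∧ Commute d y}

theorem mem_Dd_iff {d y : G} : y ∈ Dd D d ↔ y ∈ D ∧ y ≠ d ∧ Commute d y := Iff.rfl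

theorem mem_Dd_symm {d y : G} (hd : d ∈ D) (hy : y ∈ Dd D d) : d ∈ Dd D y :=
  ⟨hd, fun h => hy.2.1 h.symm, hy.2.2.symm⟩

/-- Lemma C: a member commuting with the rotation `b * a` commutes with `a`. -/
theorem t3_commute_of_commute_mul (h : T3 D) {a b e : G} (ha : a ∈ D) (hb : b ∈ D) (he : e ∈ D)
    (hab : ¬ Commute a b) (hez : Commute e (b * a)) : Commute e a := by
  by_contra hne
  exact hab (w_lemC (h.sq ha) (h.sq hb) (h.sq he) (h.braid he ha hne) hez)

theorem t3_conj_mem_Dd (h : T3 D) {d y : G} (g : G) (hy : y ∈ Dd D d) :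
    g * y * g⁻¹ ∈ Dd D (g * d * g⁻¹) := by
  refine ⟨h.conj g y hy.1, ?_, (Commute.conj_iff g).mpr hy.2.2⟩
  intro he
  apply hy.2.1
  have : g⁻¹ * (g * y * g⁻¹) * g = g⁻¹ * (g * d * g⁻¹) * g := by rw [he]
  simpa [mul_assoc] using this

theorem t3_cj_mem_Dd (h : T3 D) {d y f : G} (hf : f ∈ D) (hy : y ∈ Dd D d) :
    f * y * f ∈ Dd D (f * d * f) := by
  have := t3_conj_mem_Dd h f hy
  rwa [h.inv hf] at this

/-- the local hypothesis: every `D_d` consists of the three transpositions of an `S₃` -/
structure Loc (D : Set G) : Prop extends T3 D where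
  pair : ∀ d ∈ D, ∃ a ∈ Dd D d, ∃ b ∈ Dd D d, a ≠ b
  ncomm : ∀ d ∈ D, ∀ a ∈ Dd D d, ∀ b ∈ Dd D d, a ≠ b → ¬ Commute a b
  trio : ∀ d ∈ D, ∀ a ∈ Dd D d, ∀ b ∈ Dd D d, a ≠ b → ∀ y ∈ Dd D d, y = a ∨ y = b ∨ y = a * b * a

namespace Loc

variable (h : Loc D)
include h

theorem third_mem {d a b : G} (hd : d ∈ D) (ha : a ∈ Dd D d) (hb : b ∈ Dd D d) (hab : a ≠ b) :
    a * b * a ∈ Dd D d := by
  have hnc := h.ncomm d hd a ha b hb hab
  refine ⟨h.toT3.cj ha.1 hb.1, ?_, ?_⟩
  · intro he
    apply hnc
    have h1 : Commute a (a * b * a) := by rw [he]; exact ha.2.2.symm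
    have h2 : a * (a * b * a) = (a * b * a) * a := h1.eq
    have haa := h.toT3.sq ha.1
    have h3 : b * a = a * b := by
      calc b * a = (a * a) * b * a := by rw [haa, one_mul]
        _ = a * (a * b * a) := by group
        _ = (a * b * a) * a := h2
        _ = a * b * (a * a) := by group
        _ = a * b := by rw [haa, mul_one]
    exact h3.symm
  · exact (ha.2.2.mul_right hb.2.2).mul_right ha.2.2

theorem third_ne_left {d a b : G} (hd : d ∈ D) (ha : a ∈ Dd D d) (hb : b ∈ Dd D d) (hab : a ≠ b) :
    a * b * a ≠ a :=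
  h.toT3.third_ne_left ha.1 hb.1 (h.ncomm d hd a ha b hb hab)

theorem third_ne_right {d a b : G} (hd : d ∈ D) (ha : a ∈ Dd D d) (hb : b ∈ Dd D d) (hab : a ≠ b) :
    a * b * a ≠ b := by
  intro he
  apply h.toT3.third_nc_right ha.1 hb.1 (h.ncomm d hd a ha b hb hab)
  rw [he]

/-- three distinct members of `D_x` exhaust it -/
theorem eq_of_three {x p q r : G} (hx : x ∈ D) (hp : p ∈ Dd D x) (hq : q ∈ Dd D x) (hr : r ∈ Dd D x)
    (hpq : p ≠ q) (hpr : p ≠ r) (hqr : q ≠ r) : Dd D x = {p, q, r} := by
  have hr' : r = p * q * p := by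
    rcases h.trio x hx p hp q hq hpq r hr with h1 | h1 | h1
    · exact absurd h1.symm hpr
    · exact absurd h1.symm hqr
    · exact h1
  ext y
  constructor
  · intro hy
    rcases h.trio x hx p hp q hq hpq y hy with h1 | h1 | h1
    · simp [h1]
    · simp [h1]
    · right; right; rw [h1, hr']; rfl
  · intro hy
    rcases hy with h1 | h1 | h1
    · rw [h1]; exact hp
    · rw [h1]; exact hq
    · rw [Set.mem_singleton_iff] at h1; rw [h1]; exact hr

theorem eq_of_subset {x y : G} (hx : x ∈ D) (hy : y ∈ D) (hsub : Dd D x ⊆ Dd D y) :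
    Dd D x = Dd D y := by
  obtain ⟨a, ha, b, hb, hab⟩ := h.pair x hx
  have hc := h.third_mem hx ha hb hab
  have e1 := h.eq_of_three hx ha hb hc hab (h.third_ne_left hx ha hb hab).symm
    (h.third_ne_right hx ha hb hab).symm
  have e2 := h.eq_of_three hy (hsub ha) (hsub hb) (hsub hc) hab
    (h.third_ne_left hx ha hb hab).symm (h.third_ne_right hx ha hb hab).symm
  rw [e1, e2]

/-- Lemma X: a member collinear with `d` and with all of `D_d` forces `D_a = D_b`. -/
theorem lemmaX {d a b f : G} (hd : d ∈ D) (ha : a ∈ Dd D d) (hb : b ∈ Dd D d) (hab : a ≠ b)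
    (hf : f ∈ D) (hfd : ¬ Commute f d) (hfa : ¬ Commute f a) (hfb : ¬ Commute f b)
    (hfc : ¬ Commute f (a * b * a)) : Dd D a = Dd D b := by
  have h3 := h.toT3
  have hnc := h.ncomm d hd a ha b hb hab
  have hc := h.third_mem hd ha hb hab
  have haa := h3.sq ha.1
  have hbb := h3.sq hb.1
  have hff := h3.sq hf
  have hbr := h3.braid ha.1 hb.1 hnc
  have haf := h3.braid ha.1 hf (fun hcm => hfa hcm.symm)
  have hbf := h3.braid hb.1 hf (fun hcm => hfb hcm.symm)
  have hcf := h3.braid hc.1 hf (fun hcm => hfc hcm.symm)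
  set g : G := f * (b * a) * f with hg
  have r1 : SemiconjBy g a b := w_rot1 haf hbf
  have r2 : SemiconjBy g b (a * b * a) := w_rot2 hbb hbr hbf hcf
  have r3 : SemiconjBy g (a * b * a) a := w_rot3 haa haf hcf
  have e1 : g * a * g⁻¹ = b := mul_inv_eq_iff_eq_mul.mpr r1.eq
  have e2 : g * b * g⁻¹ = a * b * a := mul_inv_eq_iff_eq_mul.mpr r2.eq
  have e3 : g * (a * b * a) * g⁻¹ = a := mul_inv_eq_iff_eq_mul.mpr r3.eq
  have e1' : g⁻¹ * b * g = a := by rw [← e1]; group
  have e2' : g⁻¹ * (a * b * a) * g = b := by rw [← e2]; group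
  have e3' : g⁻¹ * a * g = a * b * a := by
    have : g⁻¹ * (g * (a * b * a) * g⁻¹) * g = a * b * a := by group
    rwa [e3] at this
  -- g does not commute with d
  have hgd : ¬ Commute g d := by
    intro hcm
    -- then b * a commutes with f d f
    have h1 : Commute (f * d * f) (b * a) := by
      have : Commute (f * g * f) (f * d * f) := by
        have := (Commute.conj_iff f).mpr hcm
        rwa [h3.inv hf] at this
      have e : f * g * f = b * a := by
        rw [hg]
        calc f * (f * (b * a) * f) * f = (f * f) * (b * a) * (f * f) := by group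
          _ = b * a := by rw [hff, one_mul, mul_one]
      rw [e] at this
      exact this.symm
    have h2 : Commute (f * d * f) a :=
      t3_commute_of_commute_mul h3 ha.1 hb.1 (h3.cj hf hd) hnc h1
    rw [commute_cj_iff hff] at h2
    -- d commutes with f a f, so (braid) d commutes with a f a, so a d a = d commutes with f
    have h4 : Commute d (a * f * a) := by rw [haf]; exact h2
    have h5 : Commute (a * d * a) f := (commute_cj_iff haa).mpr h4
    have h6 : a * d * a = d := by
      calc a * d * a = a * (d * a) := by group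
        _ = a * (a * d) := by rw [ha.2.2.eq]
        _ = (a * a) * d := by group
        _ = d := by rw [haa, one_mul]
    rw [h6] at h5
    exact hfd h5.symm
  have hg3 : g * g * g = 1 := by
    have hc3 : (b * a) ^ 3 = 1 := h3.cube hb.1 ha.1 (fun hcm => hnc hcm.symm)
    rw [hg]
    calc f * (b * a) * f * (f * (b * a) * f) * (f * (b * a) * f)
        = f * (b * a) * (f * f) * (b * a) * (f * f) * (b * a) * f := by group
      _ = f * ((b * a) * (b * a) * (b * a)) * f := by rw [hff, mul_one, mul_one]; group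
      _ = f * (b * a) ^ 3 * f := by rw [pow_succ, pow_succ, pow_one]
      _ = 1 := by rw [hc3, mul_one, hff]
  -- the two conjugates
  have hd1 : g⁻¹ * d * g ∈ D := by
    have := h3.conj g⁻¹ d hd
    rwa [inv_inv] at this
  have hd2 : g * d * g⁻¹ ∈ D := h3.conj g d hd
  have c1a : Commute a (g⁻¹ * d * g) := by
    have := (Commute.conj_iff g⁻¹).mpr hb.2.2
    rw [inv_inv] at this
    rw [e1'] at this
    exact this.symm
  have c1b : Commute b (g⁻¹ * d * g) := by
    have := (Commute.conj_iff g⁻¹).mpr hc.2.2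
    rw [inv_inv] at this
    rw [e2'] at this
    exact this.symm
  have c2a : Commute a (g * d * g⁻¹) := by
    have := (Commute.conj_iff g).mpr hc.2.2
    rw [e3] at this
    exact this.symm
  have c2b : Commute b (g * d * g⁻¹) := by
    have := (Commute.conj_iff g).mpr ha.2.2
    rw [e1] at this
    exact this.symm
  have n1d : g⁻¹ * d * g ≠ d := by
    intro he
    apply hgd
    show g * d = d * g
    calc g * d = g * (g⁻¹ * d * g) := by rw [he]
      _ = d * g := by group
  have n2d : g * d * g⁻¹ ≠ d := by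
    intro he
    apply hgd
    show g * d = d * g
    calc g * d = (g * d * g⁻¹) * g := by group
      _ = d * g := by rw [he]
  have n12 : g⁻¹ * d * g ≠ g * d * g⁻¹ := by
    intro he
    apply hgd
    have hgi : g⁻¹ = g * g := by
      apply inv_eq_of_mul_eq_one_left
      exact hg3
    have h7 : g * (g⁻¹ * d * g) * g⁻¹ = g * (g * d * g⁻¹) * g⁻¹ := by rw [he]
    have h8 : d = g * g * d * (g⁻¹ * g⁻¹) := by
      calc d = g * (g⁻¹ * d * g) * g⁻¹ := by group
        _ = g * (g * d * g⁻¹) * g⁻¹ := h7
        _ = g * g * d * (g⁻¹ * g⁻¹) := by group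
    have h9 : g⁻¹ * g⁻¹ = g := by
      rw [hgi]
      calc g * g * (g * g) = (g * g * g) * g := by group
        _ = g := by rw [hg3, one_mul]
    rw [h9, ← hgi] at h8
    show g * d = d * g
    calc g * d = g * (g⁻¹ * d * g) := by rw [← h8]
      _ = d * g := by group
  have m1a : g⁻¹ * d * g ∈ Dd D a := by
    refine ⟨hd1, ?_, c1a⟩
    intro he
    -- d = g a g⁻¹ = b
    apply hb.2.1
    rw [← e1, ← he]; group
  have m2a : g * d * g⁻¹ ∈ Dd D a := by
    refine ⟨hd2, ?_, c2a⟩
    intro he
    apply hc.2.1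
    rw [← e3', ← he]; group
  have m1b : g⁻¹ * d * g ∈ Dd D b := by
    refine ⟨hd1, ?_, c1b⟩
    intro he
    apply hc.2.1
    rw [← e2, ← he]; group
  have m2b : g * d * g⁻¹ ∈ Dd D b := by
    refine ⟨hd2, ?_, c2b⟩
    intro he
    apply ha.2.1
    rw [← e1'] 
    rw [← he]; group
  have mda : d ∈ Dd D a := mem_Dd_symm hd ha
  have mdb : d ∈ Dd D b := mem_Dd_symm hd hb
  rw [h.eq_of_three ha.1 mda m1a m2a n1d.symm n2d.symm n12,
    h.eq_of_three hb.1 mdb m1b m2b n1d.symm n2d.symm n12]

end Loc

end Cfsg.Agent.Lib.Helper27.TTLoc
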