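import Mathlib
import Cfsg.Agent.Lib.Helper27.TTLocA
import Cfsg.Agent.Lib.Helper1.FR1
import Cfsg.Agent.S2530

/-!
# Part B: trivial `T`-classes give the symmetric group of degree 5
-/

set_option autoImplicit false

namespace Cfsg.Agent.Lib.Helper27.TTLoc

open Cfsg.Agent.Lib.Helper1.FR3 Equiv

variable {G : Type*} [Group G] {D : Set G}

/-- different members have different sets of commuting partners -/
def Sep (D : Set G) : Prop := ∀ x ∈ D, ∀ y ∈ D, Dd D x = Dd D y → x = y

theorem conj_eq_of_commute {c d : G} (hcc : c * c = 1) (hcd : Commute c d) : c * d * c = d := by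
  calc c * d * c = c * (d * c) := by group
    _ = c * (c * d) := by rw [hcd.eq]
    _ = (c * c) * d := by group
    _ = d := by rw [hcc, one_mul]

theorem eq_of_cj_eq {c x y : G} (hcc : c * c = 1) (he : c * x * c = y) : x = c * y * c := by
  rw [← he]
  calc x = (c * c) * x * (c * c) := by rw [hcc, one_mul, mul_one]
    _ = c * (c * x * c) * c := by group


/-- a string `p - z - w - q` of type `A₄` (after helper1's `FS2`) -/
structure Chain4 (D : Set G) (p z w q : G) : Prop where
  hp : p ∈ D
  hz : z ∈ D
  hw : w ∈ D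
  hq : q ∈ D
  pz : ¬ Commute p z
  zw : ¬ Commute z w
  wq : ¬ Commute w q
  pw : Commute p w
  pq : Commute p q
  zq : Commute z q

theorem mul_pow_two_of_comm {x y : G} (hx : x * x = 1) (hy : y * y = 1) (hc : Commute x y) :
    (x * y) ^ 2 = 1 := by
  rw [pow_two]
  calc x * y * (x * y) = x * (y * x) * y := by group
    _ = x * (x * y) * y := by rw [hc.eq]
    _ = (x * x) * (y * y) := by group
    _ = 1 := by rw [hx, hy, one_mul]

theorem t3_cube' (h : T3 D) {x y : G} (hx : x ∈ D) (hy : y ∈ D) (hnc : ¬ Commute x y) :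
    (y * x) ^ 3 = 1 := h.cube hy hx (fun hc => hnc hc.symm)

/-- the homomorphism defined by a string of type `A₄` -/
theorem t3_exists_hom (h : T3 D) {p z w q : G} (hc : Chain4 D p z w q) :
    ∃ φ : Perm (Fin 5) →* G, φ (swap 0 1) = p ∧ φ (swap 1 2) = z ∧ φ (swap 2 3) = w ∧
      φ (swap 3 4) = q := by
  obtain ⟨cs, hcs⟩ := Cfsg.Agent.S2530.result 4
  let t : Fin 4 → G := ![p, z, w, q]
  have hpp := h.sq hc.hp
  have hzz := h.sq hc.hz
  have hww := h.sq hc.hw
  have hqq := h.sq hc.hq
  have hl : (CoxeterMatrix.A 4).IsLiftable t := by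
    intro i j
    rw [Cfsg.Agent.S2530.A_apply]
    fin_cases i <;> fin_cases j <;> simp only [t] <;> norm_num
    · exact hpp
    · exact h.cube hc.hp hc.hz hc.pz
    · exact mul_pow_two_of_comm hpp hww hc.pw
    · exact mul_pow_two_of_comm hpp hqq hc.pq
    · exact t3_cube' h hc.hp hc.hz hc.pz
    · exact hzz
    · exact h.cube hc.hz hc.hw hc.zw
    · exact mul_pow_two_of_comm hzz hqq hc.zq
    · exact mul_pow_two_of_comm hww hpp hc.pw.symm
    · exact t3_cube' h hc.hz hc.hw hc.zw
    · exact hww
    · exact h.cube hc.hw hc.hq hc.wq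
    · exact mul_pow_two_of_comm hqq hpp hc.pq.symm
    · exact mul_pow_two_of_comm hqq hzz hc.zq.symm
    · exact t3_cube' h hc.hw hc.hq hc.wq
    · exact hqq
  refine ⟨cs.lift ⟨t, hl⟩, ?_, ?_, ?_, ?_⟩
  · have := cs.lift_apply_simple hl 0
    rw [hcs] at this
    exact this
  · have := cs.lift_apply_simple hl 1
    rw [hcs] at this
    exact this
  · have := cs.lift_apply_simple hl 2
    rw [hcs] at this
    exact this
  · have := cs.lift_apply_simple hl 3
    rw [hcs] at this
    exact this

/-- a homomorphism from the symmetric group of degree `5` is injective if two adjacent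
transpositions have different images -/
theorem perm5_injective_of_ne (φ : Perm (Fin 5) →* G)
    (hne : φ (swap 0 1) ≠ φ (swap 1 2)) : Function.Injective φ := by
  rw [← MonoidHom.ker_eq_bot_iff]
  by_contra hk
  have hnt : Nontrivial φ.ker := (Subgroup.nontrivial_iff_ne_bot _).mpr hk
  have hle := Equiv.Perm.alternatingGroup_le_of_normal (α := Fin 5) (by simp) hnt
  have hmem : (swap (0 : Fin 5) 1 * swap 1 2) ∈ alternatingGroup (Fin 5) := by
    rw [Equiv.Perm.mem_alternatingGroup]
    decide
  have := hle hmem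
  rw [MonoidHom.mem_ker, map_mul] at this
  apply hne
  have h2 : (swap (1 : Fin 5) 2) * swap 1 2 = 1 := by decide
  have h3 : φ (swap 1 2) * φ (swap 1 2) = 1 := by rw [← map_mul, h2, map_one]
  calc φ (swap 0 1) = φ (swap 0 1) * (φ (swap 1 2) * φ (swap 1 2)) := by rw [h3, mul_one]
    _ = (φ (swap 0 1) * φ (swap 1 2)) * φ (swap 1 2) := by group
    _ = φ (swap 1 2) := by rw [this, one_mul]

namespace Loc

variable (h : Loc D)
include h

/-- every member of `D_x` lies in a subgroup containing `d` and one further member of `D_x` -/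
theorem mem_of_two {R : Subgroup G} {d x x' : G} (hd : d ∈ D) (hx : x ∈ Dd D d)
    (hx' : x' ∈ Dd D x) (hne : x' ≠ d) (hdR : d ∈ R) (hx'R : x' ∈ R) {f : G} (hf : f ∈ Dd D x) :
    f ∈ R := by
  have mdx : d ∈ Dd D x := mem_Dd_symm hd hx
  rcases h.trio x hx.1 d mdx x' hx' (Ne.symm hne) f hf with h1 | h1 | h1
  · rw [h1]; exact hdR
  · rw [h1]; exact hx'R
  · rw [h1]; exact R.mul_mem (R.mul_mem hdR hx'R) hdR

theorem exists_equiv_S5 (hsep : Sep D) (hne : D.Nonempty) :
    Nonempty (↥(Subgroup.closure D) ≃* Perm (Fin 5)) := by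
  have h3 := h.toT3
  obtain ⟨d, hd⟩ := hne
  obtain ⟨a, ha, b, hb, hab⟩ := h.pair d hd
  have hc := h.third_mem hd ha hb hab
  have hnc := h.ncomm d hd a ha b hb hab
  have hca : a * b * a ≠ a := h.third_ne_left hd ha hb hab
  have hcb : a * b * a ≠ b := h.third_ne_right hd ha hb hab
  have haa := h3.sq ha.1
  have hbb := h3.sq hb.1
  have hcc := h3.sq hc.1
  have mdb : d ∈ Dd D b := mem_Dd_symm hd hb
  -- a second member of `D_b`
  obtain ⟨b', hb', hb'd⟩ : ∃ b' ∈ Dd D b, b' ≠ d := by
    obtain ⟨p, hp, q, hq, hpq⟩ := h.pair b hb.1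
    by_cases hpd : p = d
    · exact ⟨q, hq, fun hqd => hpq (hpd.trans hqd.symm)⟩
    · exact ⟨p, hp, hpd⟩
  have hdb' : ¬ Commute d b' := h.ncomm b hb.1 d mdb b' hb' (Ne.symm hb'd)
  have hb'a : ¬ Commute b' a := by
    intro hcm
    have hab' : a ≠ b' := by
      intro he
      apply hnc
      rw [he]
      exact hb'.2.2.symm
    have hcb' : a * b * a ≠ b' := by
      intro he
      apply h.ncomm d hd b hb (a * b * a) hc (Ne.symm hcb)
      rw [he]
      exact hb'.2.2
    have m1 : a ∈ Dd D b' := ⟨ha.1, hab', hcm⟩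
    have m2 : b ∈ Dd D b' := ⟨hb.1, hb'.2.1.symm, hb'.2.2.symm⟩
    have m3 : a * b * a ∈ Dd D b' :=
      ⟨hc.1, hcb', (hcm.mul_right hb'.2.2.symm).mul_right hcm⟩
    have hsub : Dd D d ⊆ Dd D b' := by
      intro y hy
      rcases h.trio d hd a ha b hb hab y hy with h1 | h1 | h1
      · rw [h1]; exact m1
      · rw [h1]; exact m2
      · rw [h1]; exact m3
    exact hb'd (hsep d hd b' hb'.1 (h.eq_of_subset hd hb'.1 hsub)).symm
  have hpath : Chain4 D d b' a b :=
    { hp := hd, hz := hb'.1, hw := ha.1, hq := hb.1,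
      pz := hdb', zw := hb'a, wq := hnc, pw := ha.2.2, pq := hb.2.2, zq := hb'.2.2.symm }
  obtain ⟨φ, e0, e1, e2, e3⟩ := t3_exists_hom h3 hpath
  have hinj : Function.Injective φ := by
    apply perm5_injective_of_ne
    rw [e0, e1]
    exact Ne.symm hb'd
  have hdR : d ∈ φ.range := ⟨_, e0⟩
  have hb'R : b' ∈ φ.range := ⟨_, e1⟩
  have haR : a ∈ φ.range := ⟨_, e2⟩
  have hbR : b ∈ φ.range := ⟨_, e3⟩
  have hcR : a * b * a ∈ φ.range := mul_mem (mul_mem haR hbR) haR
  -- the range is the closure of `D`
  have hrange : φ.range = Subgroup.closure D := by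
    apply le_antisymm
    · have hgen : Subgroup.closure (Set.range fun i : Fin 4 => swap i.castSucc i.succ) = ⊤ :=
        Subgroup.closure_eq_top_of_mclosure_eq_top (Equiv.Perm.mclosure_swap_castSucc_succ 4)
      rw [MonoidHom.range_eq_map, ← hgen, MonoidHom.map_closure, Subgroup.closure_le]
      rintro _ ⟨_, ⟨i, rfl⟩, rfl⟩
      apply Subgroup.subset_closure
      fin_cases i
      · show φ (swap 0 1) ∈ D
        rw [e0]; exact hd
      · show φ (swap 1 2) ∈ D
        rw [e1]; exact hb'.1
      · show φ (swap 2 3) ∈ D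
        rw [e2]; exact ha.1
      · show φ (swap 3 4) ∈ D
        rw [e3]; exact hb.1
    · rw [Subgroup.closure_le]
      intro f hf
      show f ∈ φ.range
      by_cases hfd : Commute d f
      · by_cases hfe : f = d
        · rw [hfe]; exact hdR
        · rcases h.trio d hd a ha b hb hab f ⟨hf, hfe, hfd⟩ with h1 | h1 | h1
          · rw [h1]; exact haR
          · rw [h1]; exact hbR
          · rw [h1]; exact hcR
      · -- f commutes with a member of `D_d`
        have hex : ∃ x ∈ Dd D d, Commute x f := by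
          by_contra hno
          push Not at hno
          have := h.lemmaX hd ha hb hab hf (fun hcm => hfd hcm.symm)
            (fun hcm => hno a ha hcm.symm) (fun hcm => hno b hb hcm.symm)
            (fun hcm => hno _ hc hcm.symm)
          exact hab (hsep a ha.1 b hb.1 this)
        obtain ⟨x, hx, hxf⟩ := hex
        have hfx : f ∈ Dd D x := by
          refine ⟨hf, ?_, hxf⟩
          intro he
          apply hfd
          rw [he]
          exact hx.2.2
        rcases h.trio d hd a ha b hb hab x hx with h1 | h1 | h1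
        · -- x = a : use c b' c
          rw [h1] at hfx
          have hswap : (a * b * a) * b * (a * b * a) = a := by
            have := h3.third_swap hb.1 ha.1 (fun hcm => hnc hcm.symm)
            rw [← h3.braid ha.1 hb.1 hnc] at this
            exact this
          have m : (a * b * a) * b' * (a * b * a) ∈ Dd D a := by
            have := t3_cj_mem_Dd h3 hc.1 hb'
            rwa [hswap] at this
          have mne : (a * b * a) * b' * (a * b * a) ≠ d := by
            intro he
            apply hb'd
            rw [eq_of_cj_eq hcc he]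
            exact conj_eq_of_commute hcc hc.2.2.symm
          exact h.mem_of_two hd ha m mne hdR
            (mul_mem (mul_mem hcR hb'R) hcR) hfx
        · rw [h1] at hfx
          exact h.mem_of_two hd hb hb' hb'd hdR hb'R hfx
        · rw [h1] at hfx
          have m : a * b' * a ∈ Dd D (a * b * a) := t3_cj_mem_Dd h3 ha.1 hb'
          have mne : a * b' * a ≠ d := by
            intro he
            apply hb'd
            rw [eq_of_cj_eq haa he]
            exact conj_eq_of_commute haa ha.2.2.symm
          exact h.mem_of_two hd hc m mne hdR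
            (mul_mem (mul_mem haR hb'R) haR) hfx
  exact ⟨((MulEquiv.subgroupCongr hrange).symm.trans (MonoidHom.ofInjective hinj).symm)⟩

end Loc

end Cfsg.Agent.Lib.Helper27.TTLoc
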