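import Mathlib
import Cfsg.Agent.Lib.Helper27.TTLocA
import Cfsg.Agent.Lib.Helper27.TTLocB
import Cfsg.Agent.Lib.Helper27.Basic

/-!
# Part C: nontrivial `T`-classes: the abelian normal 3-subgroup and the contradiction with
`|O_3(C(x))| = 3` when there is more than one block
-/

set_option autoImplicit false

namespace Cfsg.Agent.Lib.Helper27.TTLoc

open Cfsg.Agent.Lib.Helper1.FR3

variable {G : Type*} [Group G] {D : Set G}

/-- two members with the same commuting partners -/
def Tr (D : Set G) (u v : G) : Prop := u ∈ D ∧ v ∈ D ∧ Dd D u = Dd D v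

theorem Tr.symm {u v : G} (h : Tr D u v) : Tr D v u := ⟨h.2.1, h.1, h.2.2.symm⟩

theorem Tr.trans {u v w : G} (h : Tr D u v) (h' : Tr D v w) : Tr D u w :=
  ⟨h.1, h'.2.1, h.2.2.trans h'.2.2⟩

theorem Tr.refl {u : G} (hu : u ∈ D) : Tr D u u := ⟨hu, hu, rfl⟩

theorem pow_cases3 {H : Type*} [Group H] {g : H} (h3 : g ^ 3 = 1) (n : ℕ) :
    g ^ n = 1 ∨ g ^ n = g ∨ g ^ n = g⁻¹ := by
  have e : g ^ n = g ^ (n % 3) := by
    conv_lhs => rw [← Nat.div_add_mod n 3, pow_add, pow_mul, h3, one_pow, one_mul]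
  rw [e]
  have hlt : n % 3 < 3 := Nat.mod_lt _ (by norm_num)
  interval_cases (n % 3)
  · left; simp
  · right; left; simp
  · right; right
    rw [eq_inv_iff_mul_eq_one, ← pow_succ]
    exact h3

/-- in a group of order three every element is `1`, `g` or `g⁻¹` -/
theorem cases_of_card_three {H : Type*} [Group H] (hcard : Nat.card H = 3) {g : H} (hg : g ≠ 1)
    (y : H) : y = 1 ∨ y = g ∨ y = g⁻¹ := by
  haveI : Fact (Nat.Prime 3) := ⟨Nat.prime_three⟩
  haveI : Finite H := Nat.finite_of_card_ne_zero (by rw [hcard]; norm_num)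
  obtain ⟨n, hn⟩ := mem_powers_of_prime_card hcard hg (g' := y)
  have h3 : g ^ 3 = 1 := by rw [← hcard]; exact pow_card_eq_one'
  have hn' : g ^ n = y := hn
  rw [← hn']
  exact pow_cases3 h3 n

theorem t3_Dd_conj (h : T3 D) (g d : G) :
    Dd D (g * d * g⁻¹) = (fun y => g * y * g⁻¹) '' Dd D d := by
  ext y
  constructor
  · intro hy
    refine ⟨g⁻¹ * y * g, ?_, by group⟩
    have := t3_conj_mem_Dd h g⁻¹ hy
    rw [inv_inv] at this
    have e : g⁻¹ * (g * d * g⁻¹) * g = d := by group
    rwa [e] at this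
  · rintro ⟨w, hw, rfl⟩
    exact t3_conj_mem_Dd h g hw

theorem Tr.conj (h : T3 D) {u v : G} (hT : Tr D u v) (g : G) : Tr D (g * u * g⁻¹) (g * v * g⁻¹) :=
  ⟨h.conj g u hT.1, h.conj g v hT.2.1, by rw [t3_Dd_conj h, t3_Dd_conj h, hT.2.2]⟩

theorem Tr.cj (h : T3 D) {u v f : G} (hf : f ∈ D) (hT : Tr D u v) : Tr D (f * u * f) (f * v * f) := by
  have := hT.conj h f
  rwa [h.inv hf] at this

namespace Loc

variable (h : Loc D)
include h

theorem tr_not_commute {u v : G} (hT : Tr D u v) (hne : u ≠ v) : ¬ Commute u v := by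
  obtain ⟨y, hy, -⟩ := h.pair u hT.1
  have hy' : y ∈ Dd D v := hT.2.2 ▸ hy
  exact h.ncomm y hy.1 u (mem_Dd_symm hT.1 hy) v (mem_Dd_symm hT.2.1 hy') hne

theorem tr_Dd_eq {u v y : G} (hT : Tr D u v) (hne : u ≠ v) (hy : y ∈ Dd D u) :
    Dd D y = {u, v, u * v * u} := by
  have hy' : y ∈ Dd D v := hT.2.2 ▸ hy
  have mu := mem_Dd_symm hT.1 hy
  have mv := mem_Dd_symm hT.2.1 hy'
  exact h.eq_of_three hy.1 mu mv (h.third_mem hy.1 mu mv hne) hne
    (h.third_ne_left hy.1 mu mv hne).symm (h.third_ne_right hy.1 mu mv hne).symm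

theorem tr_third {u v : G} (hT : Tr D u v) (hne : u ≠ v) : Tr D u (u * v * u) := by
  have h3 := h.toT3
  refine ⟨hT.1, h3.cj hT.1 hT.2.1, ?_⟩
  apply h.eq_of_subset hT.1 (h3.cj hT.1 hT.2.1)
  intro y hy
  have hy' : y ∈ Dd D v := hT.2.2 ▸ hy
  have mu := mem_Dd_symm hT.1 hy
  have mv := mem_Dd_symm hT.2.1 hy'
  have m3 := h.third_mem hy.1 mu mv hne
  exact mem_Dd_symm hy.1 m3

theorem tr_mem_trio {u v t : G} (hT : Tr D u v) (hne : u ≠ v) (hT' : Tr D u t) :
    t = u ∨ t = v ∨ t = u * v * u := by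
  obtain ⟨y, hy, -⟩ := h.pair u hT.1
  have hy' : y ∈ Dd D t := hT'.2.2 ▸ hy
  have mt := mem_Dd_symm hT'.2.1 hy'
  rw [h.tr_Dd_eq hT hne hy] at mt
  rcases mt with h1 | h1 | h1
  · exact Or.inl h1
  · exact Or.inr (Or.inl h1)
  · exact Or.inr (Or.inr h1)

omit h in
/-- products of two members of a line lie in the cyclic group of the rotation -/
theorem mul_mem_zpowers {u v t₁ t₂ : G} (huu : u * u = 1) (hvv : v * v = 1)
    (hbr : u * v * u = v * u * v)
    (h1 : t₁ = u ∨ t₁ = v ∨ t₁ = u * v * u) (h2 : t₂ = u ∨ t₂ = v ∨ t₂ = u * v * u) :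
    t₁ * t₂ ∈ Subgroup.zpowers (u * v) := by
  have hz : u * v ∈ Subgroup.zpowers (u * v) := Subgroup.mem_zpowers _
  have hinv : (u * v)⁻¹ = v * u := by
    rw [mul_inv_rev, inv_eq_of_mul_eq_one_left huu, inv_eq_of_mul_eq_one_left hvv]
  have hzi : v * u ∈ Subgroup.zpowers (u * v) := by
    rw [← hinv]; exact inv_mem hz
  rcases h1 with h1 | h1 | h1 <;> rcases h2 with h2 | h2 | h2 <;> rw [h1, h2]
  · rw [huu]; exact one_mem _
  · exact hz
  · have : u * (u * v * u) = v * u := by
      calc u * (u * v * u) = (u * u) * v * u := by group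
        _ = v * u := by rw [huu, one_mul]
    rw [this]; exact hzi
  · exact hzi
  · rw [hvv]; exact one_mem _
  · have : v * (u * v * u) = (v * u) * (v * u) := by group
    rw [this]; exact mul_mem hzi hzi
  · have : (u * v * u) * u = u * v := by
      calc (u * v * u) * u = u * v * (u * u) := by group
        _ = u * v := by rw [huu, mul_one]
    rw [this]; exact hz
  · have : (u * v * u) * v = (u * v) * (u * v) := by group
    rw [this]; exact mul_mem hz hz
  · have : (u * v * u) * (u * v * u) = 1 := by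
      calc (u * v * u) * (u * v * u) = u * v * (u * u) * v * u := by group
        _ = u * (v * v) * u := by rw [huu, mul_one]; group
        _ = 1 := by rw [hvv, mul_one, huu]
    rw [this]; exact one_mem _

/-- generators of the normal 3-subgroup commute -/
theorem gen_commute {u v u' v' : G} (hT : Tr D u v) (hT' : Tr D u' v') :
    Commute (u * v) (u' * v') := by
  have h3 := h.toT3
  have huu := h3.sq hT.1
  have hvv := h3.sq hT.2.1
  by_cases hne : u = v
  · rw [hne, hvv]; exact Commute.one_left _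
  by_cases hne' : u' = v'
  · rw [hne', h3.sq hT'.2.1]; exact Commute.one_right _
  have hnc := h.tr_not_commute hT hne
  have hbr := h3.braid hT.1 hT.2.1 hnc
  have hT3 := h.tr_third hT hne
  by_cases hA : Dd D u = Dd D u'
  · -- same class
    have hTu' : Tr D u u' := ⟨hT.1, hT'.1, hA⟩
    have hTv' : Tr D u v' := hTu'.trans hT'
    have hm := mul_mem_zpowers huu hvv hbr (h.tr_mem_trio hT hne hTu') (h.tr_mem_trio hT hne hTv')
    obtain ⟨k, hk⟩ := Subgroup.mem_zpowers_iff.mp hm
    rw [← hk]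
    exact (Commute.refl (u * v)).zpow_right k
  by_cases hB : u' ∈ Dd D u
  · -- perpendicular class
    have hBv : u' ∈ Dd D v := hT.2.2 ▸ hB
    have mu : u ∈ Dd D v' := hT'.2.2 ▸ mem_Dd_symm hT.1 hB
    have mv : v ∈ Dd D v' := hT'.2.2 ▸ mem_Dd_symm hT.2.1 hBv
    exact Commute.mul_left (Commute.mul_right hB.2.2 mu.2.2.symm)
      (Commute.mul_right hBv.2.2 mv.2.2.symm)
  · -- the generic case
    have hnotr : ∀ t, Tr D u t → ¬ Commute u' t := by
      intro t ht hcm
      by_cases het : u' = t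
      · exact hA (het ▸ ht.2.2)
      · apply hB
        rw [ht.2.2]
        exact ⟨hT'.1, het, hcm.symm⟩
    have nu := hnotr u (Tr.refl hT.1)
    have nv := hnotr v hT
    have nw := hnotr _ hT3
    set q : G := u * u' * u with hq
    have hqD : q ∈ D := h3.cj hT.1 hT'.1
    have hqq := h3.sq hqD
    have hquq : q * u * q = u' := h3.third_swap hT.1 hT'.1 (fun hcm => nu hcm.symm)
    have hqu'q : q * u' * q = u := by
      rw [← hquq]
      calc q * (q * u * q) * q = (q * q) * u * (q * q) := by group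
        _ = u := by rw [hqq, one_mul, mul_one]
    -- t := q v' q is in the class of u
    have hTt : Tr D u (q * v' * q) := by
      have := hT'.cj h3 hqD
      rw [hqu'q] at this
      exact this
    have hm := mul_mem_zpowers huu hvv hbr (Or.inl rfl) (h.tr_mem_trio hT hne hTt)
    obtain ⟨k, hk⟩ := Subgroup.mem_zpowers_iff.mp hm
    have e : u' * v' = q * (u * (q * v' * q)) * q := by
      rw [← hquq]
      calc q * u * q * v' = q * u * q * v' * (q * q) := by rw [hqq, mul_one]
        _ = q * (u * (q * v' * q)) * q := by group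
    have hqi : q⁻¹ = q := inv_eq_of_mul_eq_one_left hqq
    have e2 : q * (u * (q * v' * q)) * q = (q * (u * v) * q) ^ k := by
      rw [← hk]
      have := map_zpow (MulAut.conj q) (u * v) k
      simp only [MulAut.conj_apply, hqi] at this
      exact this
    rw [e, e2]
    apply Commute.zpow_right
    -- q does not commute with u, v, uvu
    have qu : ¬ Commute q u := by
      intro hcm
      rw [hq, commute_cj_iff huu] at hcm
      have e3 : u * u * u = u := by rw [huu, one_mul]
      rw [e3] at hcm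
      exact nu hcm
    have qgen : ∀ t, Tr D u t → t ≠ q → ¬ Commute q t := by
      intro t ht hne hcm
      apply qu
      have : q ∈ Dd D t := ⟨hqD, fun he => hne he.symm, hcm.symm⟩
      rw [← ht.2.2] at this
      exact this.2.2.symm
    have qv : ¬ Commute q v := by
      apply qgen v hT
      intro he
      -- u u' u = v gives u' = u v u
      apply hA
      have : u' = u * v * u := eq_of_cj_eq huu he.symm
      rw [this]
      exact hT3.2.2
    have qw : ¬ Commute q (u * v * u) := by
      apply qgen _ hT3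
      intro he
      apply hA
      have : u' = u * (u * v * u) * u := eq_of_cj_eq huu he.symm
      have e4 : u * (u * v * u) * u = v := by
        calc u * (u * v * u) * u = (u * u) * v * (u * u) := by group
          _ = v := by rw [huu, one_mul, mul_one]
      rw [this, e4]
      exact hT.2.2
    have hvu : v * u * v = u * v * u := hbr.symm
    have hcf : (v * u * v) * q * (v * u * v) = q * (v * u * v) * q := by
      rw [hvu]
      exact h3.braid hT3.2.1 hqD (fun hcm => qw hcm.symm)
    exact w_comm_conj hvv huu hvu (h3.braid hT.2.1 hqD (fun hcm => qv hcm.symm))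
      (h3.braid hT.1 hqD (fun hcm => qu hcm.symm)) hcf

end Loc

/-- the subgroup generated by the rotations of the `T`-classes -/
def Nsub (D : Set G) : Subgroup G := Subgroup.closure {x : G | ∃ u v, Tr D u v ∧ x = u * v}

theorem mem_Nsub {u v : G} (hT : Tr D u v) : u * v ∈ Nsub D :=
  Subgroup.subset_closure ⟨u, v, hT, rfl⟩

namespace Loc

variable (h : Loc D)
include h

theorem Nsub_commute {x y : G} (hx : x ∈ Nsub D) (hy : y ∈ Nsub D) : x * y = y * x := by
  have hcomm : ∀ x ∈ {x : G | ∃ u v, Tr D u v ∧ x = u * v},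
      ∀ y ∈ {x : G | ∃ u v, Tr D u v ∧ x = u * v}, x * y = y * x := by
    rintro _ ⟨u, v, hT, rfl⟩ _ ⟨u', v', hT', rfl⟩
    exact (h.gen_commute hT hT').eq
  exact Set.centralizer_centralizer_comm_of_comm hcomm x
    (Subgroup.closure_le_centralizer_centralizer _ hx) y
    (Subgroup.closure_le_centralizer_centralizer _ hy)

theorem Nsub_cube {x : G} (hx : x ∈ Nsub D) : x ^ 3 = 1 := by
  have h3 := h.toT3
  induction hx using Subgroup.closure_induction with
  | mem x hx =>
    obtain ⟨u, v, hT, rfl⟩ := hx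
    by_cases hne : u = v
    · rw [hne, h3.sq hT.2.1, one_pow]
    · exact h3.cube hT.1 hT.2.1 (h.tr_not_commute hT hne)
  | one => exact one_pow 3
  | mul x y hx hy ihx ihy =>
    have hc : Commute x y := h.Nsub_commute hx hy
    rw [hc.mul_pow, ihx, ihy, one_mul]
  | inv x hx ihx => rw [inv_pow, ihx, inv_one]

theorem Nsub_isPGroup : IsPGroup 3 (Nsub D) := by
  intro x
  refine ⟨1, ?_⟩
  apply Subtype.ext
  rw [pow_one, Subgroup.coe_pow, Subgroup.coe_one]
  exact h.Nsub_cube x.2

theorem Nsub_normal : (Nsub D).Normal := by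
  have h3 := h.toT3
  constructor
  intro n hn g
  induction hn using Subgroup.closure_induction with
  | mem x hx =>
    obtain ⟨u, v, hT, rfl⟩ := hx
    have e : g * (u * v) * g⁻¹ = (g * u * g⁻¹) * (g * v * g⁻¹) := by group
    rw [e]
    exact mem_Nsub (hT.conj h3 g)
  | one => simp
  | mul x y hx hy ihx ihy =>
    have e : g * (x * y) * g⁻¹ = (g * x * g⁻¹) * (g * y * g⁻¹) := by group
    rw [e]
    exact mul_mem ihx ihy
  | inv x hx ihx =>
    have e : g * x⁻¹ * g⁻¹ = (g * x * g⁻¹)⁻¹ := by group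
    rw [e]
    exact inv_mem ihx

/-- a member outside the block of a nontrivial `T`-class contradicts `|O_3(C(x))| = 3` -/
theorem false_of_outside
    (hO : ∀ x ∈ D, Nat.card (Cfsg.pCore 3 ↥(Subgroup.centralizer ({x} : Set G))) = 3)
    {d d' x : G} (hT : Tr D d' d) (hne : d' ≠ d) (hx : x ∈ D)
    (hx1 : x ≠ d) (hx2 : x ≠ d') (hx3 : x ≠ d * d' * d) (hx4 : x ∉ Dd D d) : False := by
  have h3 := h.toT3
  have hd := hT.2.1
  have hd' := hT.1
  have hdd := h3.sq hd
  have hd'd' := h3.sq hd'
  have hxx := h3.sq hx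
  have hTs := hT.symm
  have hncd : ¬ Commute d d' := h.tr_not_commute hTs (Ne.symm hne)
  have hT3 : Tr D d (d * d' * d) := h.tr_third hTs (Ne.symm hne)
  -- x commutes with no member of the block
  have nxt : ∀ t, Tr D d t → x ≠ t → ¬ Commute x t := by
    intro t ht hne' hcm
    apply hx4
    rw [ht.2.2]
    exact ⟨hx, hne', hcm.symm⟩
  have nxd : ¬ Commute x d := nxt d (Tr.refl hd) hx1
  have nxd' : ¬ Commute x d' := nxt d' hTs hx2
  have nxd'' : ¬ Commute x (d * d' * d) := nxt _ hT3 hx3
  have nxy : ∀ y ∈ Dd D d, ¬ Commute x y := by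
    intro y hy hcm
    have hxy : x ≠ y := fun he => hx4 (he ▸ hy)
    have : x ∈ Dd D y := ⟨hx, hxy, hcm.symm⟩
    rw [h.tr_Dd_eq hTs (Ne.symm hne) hy] at this
    rcases this with h1 | h1 | h1
    · exact hx1 h1
    · exact hx2 h1
    · exact hx3 h1
  -- the rotation at x
  obtain ⟨x₁, hx₁, x₂, hx₂, hx12⟩ := h.pair x hx
  have hx₃ := h.third_mem hx hx₁ hx₂ hx12
  have hncx : ¬ Commute x₁ x₂ := h.ncomm x hx x₁ hx₁ x₂ hx₂ hx12
  have ndx : ∀ y ∈ Dd D x, ¬ Commute d y := by
    intro y hy hcm
    have hyd : y ≠ d := by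
      intro he
      apply nxd
      rw [← he]
      exact hy.2.2
    exact nxy y ⟨hy.1, hyd, hcm⟩ hy.2.2
  have hTx : Tr D x₁ x₂ :=
    ⟨hx₁.1, hx₂.1, h.lemmaX hx hx₁ hx₂ hx12 hd (fun hcm => nxd hcm.symm) (ndx x₁ hx₁)
      (ndx x₂ hx₂) (ndx _ hx₃)⟩
  set zx : G := x₂ * x₁ with hzx
  have hzxN : zx ∈ Nsub D := mem_Nsub hTx.symm
  have hzx1 : zx ≠ 1 := by
    intro he
    apply hx12
    have : x₂ = x₁⁻¹ := eq_inv_of_mul_eq_one_left he
    rw [h3.inv hx₁.1] at this
    exact this.symm
  set z : G := d' * d with hz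
  have hzN : z ∈ Nsub D := mem_Nsub hT
  have hTc : Tr D (x * d' * x) (x * d * x) := hT.cj h3 hx
  have hgN : x * z * x ∈ Nsub D := by
    have e : x * z * x = (x * d' * x) * (x * d * x) := by
      rw [hz]
      calc x * (d' * d) * x = x * d' * 1 * d * x := by group
        _ = x * d' * (x * x) * d * x := by rw [hxx]
        _ = (x * d' * x) * (x * d * x) := by group
    rw [e]
    exact mem_Nsub hTc
  set n : G := z * (x * z * x) with hn
  have hnN : n ∈ Nsub D := mul_mem hzN hgN
  have hzg : z * (x * z * x) = (x * z * x) * z := h.Nsub_commute hzN hgN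
  have hnx : Commute x n := by
    show x * n = n * x
    rw [hn, hzg]
    calc x * ((x * z * x) * z) = (x * x) * z * x * z := by group
      _ = z * (x * z) := by rw [hxx, one_mul]; group
      _ = z * (x * z) * (x * x) := by rw [hxx, mul_one]
      _ = z * (x * z * x) * x := by group
      _ = (x * z * x) * z * x := by rw [hzg]
  -- work in the centraliser of x
  set C : Subgroup G := Subgroup.centralizer ({x} : Set G) with hC
  have hzxC : zx ∈ C := by
    rw [hC, Subgroup.mem_centralizer_singleton_iff]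
    exact (hx₂.2.2.mul_right hx₁.2.2).eq.symm
  have hnC : n ∈ C := by
    rw [hC, Subgroup.mem_centralizer_singleton_iff]
    exact hnx.eq.symm
  haveI : (Nsub D).Normal := h.Nsub_normal
  have hRn : ((Nsub D).subgroupOf C).Normal := inferInstance
  have hRp : IsPGroup 3 ((Nsub D).subgroupOf C) :=
    h.Nsub_isPGroup.comap_of_injective C.subtype C.subtype_injective
  have hle := Cfsg.Agent.Lib.Helper27.le_pCore hRn hRp
  have m1 : (⟨zx, hzxC⟩ : C) ∈ Cfsg.pCore 3 ↥C := hle (Subgroup.mem_subgroupOf.mpr hzxN)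
  have m2 : (⟨n, hnC⟩ : C) ∈ Cfsg.pCore 3 ↥C := hle (Subgroup.mem_subgroupOf.mpr hnN)
  have hg1 : (⟨⟨zx, hzxC⟩, m1⟩ : Cfsg.pCore 3 ↥C) ≠ 1 := by
    intro he
    apply hzx1
    have := congrArg (fun t : Cfsg.pCore 3 ↥C => ((t : C) : G)) he
    exact this
  have hcases := cases_of_card_three (hO x hx) hg1 ⟨⟨n, hnC⟩, m2⟩
  have hcases' : n = 1 ∨ n = zx ∨ n = zx⁻¹ := by
    rcases hcases with h1 | h1 | h1
    · left
      exact congrArg (fun t : Cfsg.pCore 3 ↥C => ((t : C) : G)) h1
    · right; left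
      exact congrArg (fun t : Cfsg.pCore 3 ↥C => ((t : C) : G)) h1
    · right; right
      exact congrArg (fun t : Cfsg.pCore 3 ↥C => ((t : C) : G)) h1
  -- n commutes with d
  have hnd : Commute n d := by
    rw [hn, hz]
    exact w_prod_comm_a hdd hd'd' (h3.braid hd hd' hncd)
      (h3.braid hd hx (fun hcm => nxd hcm.symm)) (h3.braid hd' hx (fun hcm => nxd' hcm.symm))
  have hzxd : ¬ Commute d zx := by
    intro hcm
    exact ndx x₁ hx₁ (t3_commute_of_commute_mul h3 hx₁.1 hx₂.1 hd hncx hcm)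
  have hn1 : n = 1 := by
    rcases hcases' with h1 | h1 | h1
    · exact h1
    · exfalso
      rw [h1] at hnd
      exact hzxd hnd.symm
    · exfalso
      rw [h1] at hnd
      exact hzxd (Commute.inv_right_iff.mp hnd.symm)
  -- x inverts z
  have hinv : x * z * x = z⁻¹ := by
    rw [hn] at hn1
    exact eq_inv_of_mul_eq_one_right hn1
  obtain ⟨a, ha, b, hb, hab⟩ := h.pair d hd
  have ha' : a ∈ Dd D d' := hT.2.2.symm ▸ ha
  have haz : Commute a z := by
    rw [hz]
    exact Commute.mul_right ha'.2.2.symm ha.2.2.symm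
  have hez : Commute (x * a * x) z := by
    have h1 : Commute (x * a * x) (x * z * x) := by
      have := (Commute.conj_iff x).mpr haz
      rwa [h3.inv hx] at this
    rw [hinv] at h1
    exact Commute.inv_right_iff.mp h1
  have hed : Commute (x * a * x) d :=
    t3_commute_of_commute_mul h3 hd hd' (h3.cj hx ha.1) hncd hez
  have hxa : ¬ Commute x a := nxy a ha
  have hne_e : x * a * x ≠ d := by
    intro he
    -- then d ∈ Dd (x d x), so x d x commutes with d
    have := t3_cj_mem_Dd h3 hx ha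
    rw [he] at this
    exact h3.third_nc_right hx hd nxd this.2.2
  have hmem : x * a * x ∈ Dd D d := ⟨h3.cj hx ha.1, hne_e, hed.symm⟩
  have hbr : x * a * x = a * x * a := h3.braid hx ha.1 hxa
  have haa := h3.sq ha.1
  rcases h.trio d hd a ha b hb hab _ hmem with h1 | h1 | h1
  · rw [hbr] at h1
    have : x = a * a * a := eq_of_cj_eq haa h1
    rw [haa, one_mul] at this
    exact hx4 (this ▸ ha)
  · rw [hbr] at h1
    have : x = a * b * a := eq_of_cj_eq haa h1
    exact hx4 (this ▸ h.third_mem hd ha hb hab)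
  · rw [hbr] at h1
    have : x = a * (a * b * a) * a := eq_of_cj_eq haa h1
    have e4 : a * (a * b * a) * a = b := by
      calc a * (a * b * a) * a = (a * a) * b * (a * a) := by group
        _ = b := by rw [haa, one_mul, mul_one]
    rw [e4] at this
    exact hx4 (this ▸ hb)

end Loc

end Cfsg.Agent.Lib.Helper27.TTLoc
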