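import Mathlib
import Cfsg.Prelude.Def_SporadicB
import Cfsg.Agent.Lib.Helper27.TTLocA
import Cfsg.Agent.Lib.Helper27.TTLocB
import Cfsg.Agent.Lib.Helper27.TTLocC

/-!
# Part D: the single block, the local hypothesis from the frozen form, and the assembly
-/

set_option autoImplicit false

namespace Cfsg.Agent.Lib.Helper27.TTLoc

open Cfsg.Agent.Lib.Helper1.FR3 Equiv

variable {G : Type*} [Group G] {D : Set G}

theorem perm3_ncomm : ∀ s t : Perm (Fin 3), s * s = 1 → t * t = 1 → s ≠ 1 → t ≠ 1 → s ≠ t →
    s * t ≠ t * s := by decide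

set_option synthInstance.maxHeartbeats 400000 in
set_option synthInstance.maxSize 4096 in
theorem perm3_trio : ∀ s t u : Perm (Fin 3), s * s = 1 → t * t = 1 → u * u = 1 → s ≠ 1 → t ≠ 1 →
    u ≠ 1 → s ≠ t → u = s ∨ u = t ∨ u = s * t * s := by decide

theorem perm3_not_comm : ¬ ∀ s t : Perm (Fin 3), s * t = t * s := by decide

theorem perm3_center : ∀ s : Perm (Fin 3), (∀ t : Perm (Fin 3), t * s = s * t) → s = 1 := by decide

/-- the local hypothesis from the isomorphisms with `S₃` -/
theorem loc_of_equiv (hD : Cfsg.IsThreeTranspositionSet D)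
    (hconj : ∀ g : G, ∀ d ∈ D, g * d * g⁻¹ ∈ D)
    (hloc : ∀ d ∈ D, Nonempty (↥(Subgroup.closure (Dd D d)) ≃* Perm (Fin 3))) : Loc D := by
  have h3 : T3 D := ⟨hD.1, hD.2, hconj⟩
  -- facts on the image of a member of `D_d`
  have key : ∀ d ∈ D, ∀ e : ↥(Subgroup.closure (Dd D d)) ≃* Perm (Fin 3), ∀ y (hy : y ∈ Dd D d),
      e ⟨y, Subgroup.subset_closure hy⟩ * e ⟨y, Subgroup.subset_closure hy⟩ = 1 ∧
        e ⟨y, Subgroup.subset_closure hy⟩ ≠ 1 := by
    intro d hd e y hy
    constructor
    · rw [← map_mul]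
      have : (⟨y, Subgroup.subset_closure hy⟩ : ↥(Subgroup.closure (Dd D d))) *
          ⟨y, Subgroup.subset_closure hy⟩ = 1 := by
        apply Subtype.ext
        exact h3.sq hy.1
      rw [this, map_one]
    · intro he
      have : (⟨y, Subgroup.subset_closure hy⟩ : ↥(Subgroup.closure (Dd D d))) = 1 := by
        apply e.injective
        rw [he, map_one]
      exact h3.ne_one hy.1 (congrArg Subtype.val this)
  refine { toT3 := h3, pair := ?_, ncomm := ?_, trio := ?_ }
  · intro d hd
    obtain ⟨e⟩ := hloc d hd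
    by_contra hno
    push Not at hno
    apply perm3_not_comm
    have hcomm : ∀ x ∈ Dd D d, ∀ y ∈ Dd D d, x * y = y * x := by
      intro x hx y hy
      rw [hno x hx y hy]
    have hc : ∀ x y : ↥(Subgroup.closure (Dd D d)), x * y = y * x := by
      intro x y
      apply Subtype.ext
      exact Set.centralizer_centralizer_comm_of_comm hcomm x
        (Subgroup.closure_le_centralizer_centralizer _ x.2) y
        (Subgroup.closure_le_centralizer_centralizer _ y.2)
    intro s t
    have := congrArg e (hc (e.symm s) (e.symm t))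
    simpa using this
  · intro d hd a ha b hb hab hcm
    obtain ⟨e⟩ := hloc d hd
    obtain ⟨a1, a2⟩ := key d hd e a ha
    obtain ⟨b1, b2⟩ := key d hd e b hb
    have hne : e ⟨a, Subgroup.subset_closure ha⟩ ≠ e ⟨b, Subgroup.subset_closure hb⟩ := by
      intro he
      exact hab (congrArg Subtype.val (e.injective he))
    apply perm3_ncomm _ _ a1 b1 a2 b2 hne
    rw [← map_mul, ← map_mul]
    congr 1
    apply Subtype.ext
    exact hcm.eq
  · intro d hd a ha b hb hab y hy
    obtain ⟨e⟩ := hloc d hd
    obtain ⟨a1, a2⟩ := key d hd e a ha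
    obtain ⟨b1, b2⟩ := key d hd e b hb
    obtain ⟨y1, y2⟩ := key d hd e y hy
    have hne : e ⟨a, Subgroup.subset_closure ha⟩ ≠ e ⟨b, Subgroup.subset_closure hb⟩ := by
      intro he
      exact hab (congrArg Subtype.val (e.injective he))
    rcases perm3_trio _ _ _ a1 b1 y1 a2 b2 y2 hne with h1 | h1 | h1
    · left
      exact congrArg Subtype.val (e.injective h1)
    · right; left
      exact congrArg Subtype.val (e.injective h1)
    · right; right
      rw [← map_mul, ← map_mul] at h1
      exact congrArg Subtype.val (e.injective h1)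

namespace Loc

variable (h : Loc D)
include h

/-- a single block generates `S₃ × S₃` -/
theorem equiv_S3xS3
    (hloc : ∀ d ∈ D, Nonempty (↥(Subgroup.closure (Dd D d)) ≃* Perm (Fin 3)))
    {d d' : G} (hT : Tr D d' d) (hne : d' ≠ d)
    (hall : ∀ x ∈ D, x = d ∨ x = d' ∨ x = d * d' * d ∨ x ∈ Dd D d) :
    Nonempty (↥(Subgroup.closure D) ≃* Perm (Fin 3) × Perm (Fin 3)) := by
  have h3 := h.toT3
  have hd := hT.2.1
  have hTs := hT.symm
  obtain ⟨a, ha, -⟩ := h.pair d hd
  obtain ⟨eA⟩ := hloc a ha.1
  obtain ⟨eB⟩ := hloc d hd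
  have hDa : Dd D a = {d, d', d * d' * d} := h.tr_Dd_eq hTs (Ne.symm hne) ha
  have hT3 : Tr D d (d * d' * d) := h.tr_third hTs (Ne.symm hne)
  set A : Subgroup G := Subgroup.closure (Dd D a) with hA
  set B : Subgroup G := Subgroup.closure (Dd D d) with hB
  -- members of the two lines commute
  have hgen : ∀ u ∈ Dd D a, ∀ v ∈ Dd D d, Commute u v := by
    intro u hu v hv
    have hTu : Tr D d u := by
      rw [hDa] at hu
      rcases hu with h1 | h1 | h1
      · rw [h1]; exact Tr.refl hd
      · rw [h1]; exact hTs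
      · rw [Set.mem_singleton_iff] at h1; rw [h1]; exact hT3
    have : v ∈ Dd D u := hTu.2.2 ▸ hv
    exact this.2.2
  have hBle : B ≤ Subgroup.centralizer (A : Set G) := by
    rw [hA, Subgroup.centralizer_closure, hB, Subgroup.closure_le]
    intro v hv
    rw [SetLike.mem_coe, Subgroup.mem_centralizer_iff]
    intro u hu
    exact (hgen u hu v hv).eq
  have hcomm : ∀ (x : A) (y : B), Commute (A.subtype x) (B.subtype y) := by
    intro x y
    have := Subgroup.mem_centralizer_iff.mp (hBle y.2) x x.2
    exact this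
  -- trivial intersection
  have hdisj : Disjoint A B := by
    rw [Subgroup.disjoint_def]
    intro x hxA hxB
    have hcen : ∀ t : Perm (Fin 3), t * eA ⟨x, hxA⟩ = eA ⟨x, hxA⟩ * t := by
      intro t
      have e1 : t = eA (eA.symm t) := (eA.apply_symm_apply t).symm
      rw [e1, ← map_mul, ← map_mul]
      congr 1
      apply Subtype.ext
      exact Subgroup.mem_centralizer_iff.mp (hBle hxB) _ (eA.symm t).2
    have := perm3_center _ hcen
    have h1 : (⟨x, hxA⟩ : A) = 1 := by
      apply eA.injective
      rw [this, map_one]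
    exact congrArg Subtype.val h1
  -- the generated subgroup
  have hsup : A ⊔ B = Subgroup.closure D := by
    apply le_antisymm
    · apply sup_le
      · exact Subgroup.closure_mono (fun y hy => hy.1)
      · exact Subgroup.closure_mono (fun y hy => hy.1)
    · rw [Subgroup.closure_le]
      intro x hx
      rcases hall x hx with h1 | h1 | h1 | h1
      · apply Subgroup.mem_sup_left
        apply Subgroup.subset_closure
        rw [hDa, h1]; simp
      · apply Subgroup.mem_sup_left
        apply Subgroup.subset_closure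
        rw [hDa, h1]; simp
      · apply Subgroup.mem_sup_left
        apply Subgroup.subset_closure
        rw [hDa, h1]; simp
      · apply Subgroup.mem_sup_right
        exact Subgroup.subset_closure h1
  set ψ : ↥A × ↥B →* G := MonoidHom.noncommCoprod A.subtype B.subtype hcomm with hψ
  have hinj : Function.Injective ψ := by
    rw [hψ, MonoidHom.noncommCoprod_injective]
    refine ⟨A.subtype_injective, B.subtype_injective, ?_⟩
    rw [Subgroup.range_subtype, Subgroup.range_subtype]
    exact hdisj
  have hrange : ψ.range = Subgroup.closure D := by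
    rw [hψ, MonoidHom.noncommCoprod_range, Subgroup.range_subtype, Subgroup.range_subtype, hsup]
  exact ⟨((MulEquiv.subgroupCongr hrange).symm.trans (MonoidHom.ofInjective hinj).symm).trans
    (MulEquiv.prodCongr eA eB)⟩

end Loc

/-- the theorem in the form of the frozen statement -/
theorem main [Finite G] (hD : Cfsg.IsThreeTranspositionSet D)
    (hconj : ∀ g : G, ∀ d ∈ D, g * d * g⁻¹ ∈ D) (hne : D.Nonempty)
    (hloc : ∀ d ∈ D, Nonempty (↥(Subgroup.closure {y : G | y ∈ D ∧ y ≠ d ∧ Commute d y}) ≃*
      Equiv.Perm (Fin 3)) ∧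
      Nat.card (Cfsg.pCore 3 ↥(Subgroup.centralizer ({d} : Set G))) = 3) :
    Nonempty (↥(Subgroup.closure D) ≃* Equiv.Perm (Fin 5)) ∨
      Nonempty (↥(Subgroup.closure D) ≃* Equiv.Perm (Fin 3) × Equiv.Perm (Fin 3)) := by
  have hloc1 : ∀ d ∈ D, Nonempty (↥(Subgroup.closure (Dd D d)) ≃* Perm (Fin 3)) :=
    fun d hd => (hloc d hd).1
  have hO : ∀ x ∈ D, Nat.card (Cfsg.pCore 3 ↥(Subgroup.centralizer ({x} : Set G))) = 3 :=
    fun x hx => (hloc x hx).2
  have h : Loc D := loc_of_equiv hD hconj hloc1
  by_cases hsep : Sep D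
  · left
    exact h.exists_equiv_S5 hsep hne
  · right
    unfold Sep at hsep
    push Not at hsep
    obtain ⟨d', hd', d, hd, hDd, hne'⟩ := hsep
    have hT : Tr D d' d := ⟨hd', hd, hDd⟩
    by_cases hall : ∀ x ∈ D, x = d ∨ x = d' ∨ x = d * d' * d ∨ x ∈ Dd D d
    · exact h.equiv_S3xS3 hloc1 hT hne' hall
    · exfalso
      push Not at hall
      obtain ⟨x, hx, hx1, hx2, hx3, hx4⟩ := hall
      exact h.false_of_outside hO hT hne' hx hx1 hx2 hx3 hx4

end Cfsg.Agent.Lib.Helper27.TTLoc
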