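import Cfsg.Agent.Lib.Helper27.ThreeTrans

set_option autoImplicit false

/-! Classes of 3-transpositions: conjugation invariance, a non-commuting member, partners. -/

namespace Cfsg.Agent.Lib.Helper27.ThreeTrans

open Cfsg

variable {G : Type*} [Group G]

theorem conj_mem_of_class {D : Set G} (hD : IsThreeTranspositionClass D) :
    ∀ g : G, ∀ x ∈ D, g * x * g⁻¹ ∈ D := by
  obtain ⟨-, ⟨d₀, -, hcls⟩, -⟩ := hD
  intro g x hx
  rw [hcls] at hx ⊢
  have hx' : IsConj d₀ x := hx
  exact (hx'.trans (isConj_iff.mpr ⟨g, rfl⟩) : IsConj d₀ (g * x * g⁻¹))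

theorem exists_conj_of_class {D : Set G} (hD : IsThreeTranspositionClass D) {x y : G} (hx : x ∈ D) (hy : y ∈ D) :
    ∃ g : G, g * x * g⁻¹ = y := by
  obtain ⟨-, ⟨d₀, -, hcls⟩, -⟩ := hD
  have h1 : IsConj d₀ x := by rw [hcls] at hx; exact hx
  have h2 : IsConj d₀ y := by rw [hcls] at hy; exact hy
  exact isConj_iff.mp (h1.symm.trans h2)

/-- In a class of 3-transpositions with at least two members, every member fails to commute with some member. -/
theorem exists_not_commute {D : Set G} (hD : IsThreeTranspositionClass D) (hD2 : ∃ a ∈ D, ∃ b ∈ D, a ≠ b)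
    {d : G} (hd : d ∈ D) : ∃ f ∈ D, ¬ Commute d f := by
  have hgen := hD.2.2
  by_contra hall
  push Not at hall
  have hle : Subgroup.closure D ≤ Subgroup.centralizer ({d} : Set G) := by
    rw [Subgroup.closure_le]
    intro x hx
    rw [SetLike.mem_coe, Subgroup.mem_centralizer_iff]
    intro h hh
    rw [Set.mem_singleton_iff] at hh
    subst hh
    exact (hall x hx).eq
  have hcen : ∀ c : G, d * c = c * d := by
    intro c
    have hc : c ∈ Subgroup.closure D := by rw [hgen]; trivial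
    exact Subgroup.mem_centralizer_iff.mp (hle hc) d rfl
  have hall' : ∀ x ∈ D, x = d := by
    intro x hx
    obtain ⟨c, hc⟩ := exists_conj_of_class hD hd hx
    rw [← hc, ← hcen c, mul_inv_cancel_right]
  obtain ⟨a, ha, b, hb, hab⟩ := hD2
  exact hab ((hall' a ha).trans (hall' b hb).symm)

/-- `y` is the partner of `x`: the only other member of `D` commuting with `x`; it has the same commuting
partners. -/
def IsPartner (D : Set G) (x y : G) : Prop :=
  y ≠ x ∧ Tau D x y ∧ ∀ z ∈ D, Commute x z → z = x ∨ z = y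

theorem isPartner_conj {D : Set G} (hconj : ∀ g : G, ∀ d ∈ D, g * d * g⁻¹ ∈ D) {x y : G}
    (h : IsPartner D x y) (g : G) : IsPartner D (g * x * g⁻¹) (g * y * g⁻¹) := by
  refine ⟨?_, tau_conj hconj h.2.1 g, ?_⟩
  · intro e
    apply h.1
    exact mul_left_cancel (mul_right_cancel e)
  · intro z hz hc
    have hz' : g⁻¹ * z * g ∈ D := by
      have := hconj g⁻¹ z hz
      rwa [inv_inv] at this
    obtain ⟨z', hz'def⟩ : ∃ z' : G, z' = g⁻¹ * z * g := ⟨_, rfl⟩
    have e1 : z = g * z' * g⁻¹ := by rw [hz'def]; group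
    rw [← hz'def] at hz'
    rw [e1, Commute.conj_iff] at hc
    rcases h.2.2 _ hz' hc with h1 | h1
    · left; rw [e1, h1]
    · right; rw [e1, h1]

/-- The copy of `S₄` attached to a member `x`, its partner and a member `u` not commuting with `x`; it contains
the partner of `u`. -/
theorem exists_hom_of_partner {D : Set G} (hD : IsThreeTranspositionSet D)
    (hconj : ∀ g : G, ∀ d ∈ D, g * d * g⁻¹ ∈ D) {x xb u ub : G} (hx : x ∈ D) (hu : u ∈ D)
    (hxp : IsPartner D x xb) (hup : IsPartner D u ub) (hnc : ¬ Commute x u) :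
    ∃ φ : Equiv.Perm (Fin 4) →* G, Function.Injective φ ∧ φ (Equiv.swap 0 1) = x ∧ φ (Equiv.swap 1 2) = u ∧
      φ (Equiv.swap 2 3) = xb ∧ φ (Equiv.swap 0 3) = ub := by
  have hxb : xb ∈ D := hxp.2.1.1
  have hcomm : Commute x xb := tau_commute hx hxp.2.1
  have hnc' : ¬ Commute u xb := fun hh => hnc ((hxp.2.1.2 u hu).mp hh.symm)
  obtain ⟨φ, hinj, h01, h12, h23⟩ := Cfsg.Agent.S5344.result hD hx hu hxb (fun e => hxp.1 e.symm) hcomm hnc hnc'
  refine ⟨φ, hinj, h01, h12, h23, ?_⟩
  have hmem : φ (Equiv.swap 0 3) ∈ D := by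
    have key : Equiv.swap (0 : Fin 4) 3 = Equiv.swap 1 3 * Equiv.swap 0 1 * (Equiv.swap 1 3)⁻¹ := by decide
    rw [key, map_mul, map_mul, map_inv, h01]
    exact hconj _ x hx
  have hc : Commute u (φ (Equiv.swap 0 3)) := by
    have key : Commute (Equiv.swap (1 : Fin 4) 2) (Equiv.swap 0 3) := by
      show _ * _ = _ * _
      decide
    have := key.map φ
    rwa [h12] at this
  rcases hup.2.2 _ hmem hc with h1 | h1
  · exfalso
    rw [← h12] at h1
    have := hinj h1
    revert this
    decide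
  · exact h1

theorem conj_pair {D : Set G} (hD : IsThreeTranspositionSet D)
    (hconj : ∀ g : G, ∀ d ∈ D, g * d * g⁻¹ ∈ D) {x xb u ub : G} (hx : x ∈ D) (hu : u ∈ D)
    (hxp : IsPartner D x xb) (hup : IsPartner D u ub) (hnc : ¬ Commute x u) :
    x * (u * ub) * x⁻¹ = (x * xb) * (u * ub) ∧ Commute (x * xb) (u * ub) := by
  obtain ⟨φ, -, h01, h12, h23, h03⟩ := exists_hom_of_partner hD hconj hx hu hxp hup hnc
  constructor
  · have key : Equiv.swap (0 : Fin 4) 1 * (Equiv.swap 1 2 * Equiv.swap 0 3) * (Equiv.swap 0 1)⁻¹ =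
        (Equiv.swap 0 1 * Equiv.swap 2 3) * (Equiv.swap 1 2 * Equiv.swap 0 3) := by decide
    have := congrArg φ key
    simp only [map_mul, map_inv, h01, h12, h23, h03] at this
    exact this
  · have key : Commute (Equiv.swap (0 : Fin 4) 1 * Equiv.swap 2 3) (Equiv.swap 1 2 * Equiv.swap 0 3) := by
      show _ * _ = _ * _
      decide
    have := key.map φ
    simp only [map_mul, h01, h12, h23, h03] at this
    exact this

end Cfsg.Agent.Lib.Helper27.ThreeTrans
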