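import Mathlib
import Cfsg.Agent.Lib.Helper29.WDDefs
import Cfsg.Agent.Lib.Helper7.DHBGP
import Cfsg.Agent.Lib.Helper7.DHB2S
import Cfsg.Agent.Lib.Helper29.DHBEQP2
import Cfsg.Agent.Lib.Helper15.WDBAS
import Cfsg.Agent.Lib.Helper15.WDSQ
import Cfsg.Agent.Lib.Helper5.WDN8

/-!
# S3572, market "WD", leaf LEMZ (Lemma Z), `_of` form

`lemZ_of` is Lemma Z over the three inputs `symm` (F1), `F2` and `sub_two` (SUB(Z)), given as hypotheses.
The exact leaf `lemZ` is in `WDLEMZ.lean`.
-/

set_option autoImplicit false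
set_option linter.unusedSectionVars false
set_option linter.unusedVariables false

namespace Cfsg.Agent.Lib.Helper27.WDLeaf

open Finset DihedralGroup
open Cfsg.Agent.Lib.Helper19.SchurCyclic
open Cfsg.Agent.Lib.Helper7.DHB
open Cfsg.Agent.Lib.Helper29.WD

variable {n : ℕ} [NeZero n] {U : Type*} [Group U] {star : U → DihedralGroup n → DihedralGroup n}
variable {T T' T₁ T₂ : Finset (DihedralGroup n)}

theorem sr_ne_one' (j : ZMod n) : (sr j : DihedralGroup n) ≠ 1 := by
  rw [DihedralGroup.one_def]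
  intro h
  cases h

theorem r_eq_one_iff' (i : ZMod n) : (r i : DihedralGroup n) = 1 ↔ i = 0 := by
  rw [DihedralGroup.one_def]
  constructor
  · intro h
    injection h
  · intro h
    rw [h]

/-- the `2`-torsion of `ZMod n`, `n` even, is `{0, n/2}`. -/
theorem two_torsion_zmod (h2n : 2 ∣ n) (t : ZMod n) (ht : 2 • t = 0) :
    t = 0 ∨ t = ((n / 2 : ℕ) : ZMod n) := by
  have hn0 : 0 < n := Nat.pos_of_ne_zero (NeZero.ne n)
  have hlt : t.val < n := ZMod.val_lt t
  have hcast : ((2 * t.val : ℕ) : ZMod n) = 0 := by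
    rw [Nat.cast_mul, ZMod.natCast_zmod_val]
    rw [two_nsmul] at ht
    rw [Nat.cast_ofNat, two_mul]
    exact ht
  rw [ZMod.natCast_eq_zero_iff] at hcast
  obtain ⟨c, hc⟩ := hcast
  obtain ⟨d, hd⟩ := h2n
  have hc2 : c < 2 := by
    by_contra hcon
    have : 2 ≤ c := by omega
    have : n * 2 ≤ n * c := Nat.mul_le_mul_left n this
    omega
  have hnd : n / 2 = d := by omega
  interval_cases c
  · left
    have : t.val = 0 := by omega
    exact (ZMod.val_eq_zero t).1 this
  · right
    have : t.val = n / 2 := by omega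
    rw [← this, ZMod.natCast_zmod_val]

theorem two_smul_half (h2n : 2 ∣ n) : 2 • (((n / 2 : ℕ) : ZMod n)) = 0 := by
  rw [two_nsmul, ← Nat.cast_add]
  obtain ⟨d, hd⟩ := h2n
  have : n / 2 + n / 2 = n := by omega
  rw [this, ZMod.natCast_self]

/-- core of Lemma Z: an S-set `ω` (possibly containing `1`) whose rotation part is symmetric, non-empty, inside a proper subgroup and
`P_2`-invariant, with non-empty reflection part, does not exist. -/
theorem lemZ_core (hax : Ax star) (hn : 3 ≤ n)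
    (hsub2 : ∀ T : Finset (DihedralGroup n), Inv star T → (1 : DihedralGroup n) ∉ T → PInv 2 (YY T) → Triv T)
    {ω : Finset (DihedralGroup n)} (hω : Inv star ω)
    (hneg : ∀ i ∈ XX ω, -i ∈ XX ω) (hXne : (XX ω).Nonempty) (hYne : (YY ω).Nonempty)
    (B : AddSubgroup (ZMod n)) (hB : B ≠ ⊤) (hXB : ∀ i ∈ XX ω, i ∈ B) (hP : PInv 2 (XX ω)) : False := by
  classical
  set ξ : DihedralGroup n → ℕ := fun g => ((eta ℕ ω) ^ 2).coeff g with hξ
  have hξinv : ∀ u g, ξ (star u g) = ξ g := fun u g =>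
    Cfsg.Agent.Lib.Helper15.WDLeaf.coeff_pow_star hax hω ℕ 2 u g
  have hbase : Inv star ((univ : Finset (DihedralGroup n)).erase 1) :=
    Cfsg.Agent.Lib.Helper15.WDLeaf.inv_erase_one hax Cfsg.Agent.Lib.Helper15.WDLeaf.inv_univ
  -- level sets
  have hL : ∀ c : ℕ, Triv (((univ : Finset (DihedralGroup n)).erase 1).filter (fun g => ξ g = c)) := by
    intro c
    have hinv : Inv star (((univ : Finset (DihedralGroup n)).erase 1).filter (fun g => ξ g = c)) :=
      Cfsg.Agent.Lib.Helper15.WDLeaf.inv_filter hax ξ hξinv (fun x => x = c) hbase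
    apply hsub2 _ hinv
    · intro h
      rw [Finset.mem_filter, Finset.mem_erase] at h
      exact h.1.1 rfl
    · intro j hj t ht
      rw [mem_YY, Finset.mem_filter, Finset.mem_erase] at hj ⊢
      refine ⟨⟨sr_ne_one' _, Finset.mem_univ _⟩, ?_⟩
      have h1 : ξ (sr (j + t)) = 2 * rep (XX ω) (YY ω) (j + t) :=
        Cfsg.Agent.Lib.Helper15.WDLeaf.coeff_sq_sr ω hneg (j + t)
      have h2 : ξ (sr j) = 2 * rep (XX ω) (YY ω) j :=
        Cfsg.Agent.Lib.Helper15.WDLeaf.coeff_sq_sr ω hneg j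
      rw [h1, Cfsg.Agent.Lib.Helper29.DHBEQP2.rep_add_eq hP j t ht, ← h2]
      exact hj.2
  -- the common value
  set lam : ℕ := ξ (sr 0) with hlam
  have hconst : ∀ g : DihedralGroup n, g ≠ 1 → ξ g = lam := by
    intro g hg
    rcases hL lam with h | h
    · exfalso
      have : (sr 0 : DihedralGroup n) ∈ ((univ : Finset (DihedralGroup n)).erase 1).filter (fun g => ξ g = lam) := by
        rw [Finset.mem_filter, Finset.mem_erase]
        exact ⟨⟨sr_ne_one' _, Finset.mem_univ _⟩, rfl⟩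
      rw [h] at this
      exact Finset.notMem_empty _ this
    · have : g ∈ ((univ : Finset (DihedralGroup n)).erase 1).filter (fun g => ξ g = lam) := by
        rw [h, Finset.mem_erase]
        exact ⟨hg, Finset.mem_univ _⟩
      exact (Finset.mem_filter.mp this).2
  have hE1 : ∀ i : ZMod n, i ≠ 0 → rep (XX ω) (XX ω) i + dif (YY ω) (YY ω) i = lam := by
    intro i hi
    rw [← Cfsg.Agent.Lib.Helper15.WDLeaf.coeff_sq_r ω i]
    apply hconst
    intro h
    exact hi ((r_eq_one_iff' i).1 h)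
  have hE2 : ∀ j : ZMod n, 2 * rep (XX ω) (YY ω) j = lam := by
    intro j
    rw [← Cfsg.Agent.Lib.Helper15.WDLeaf.coeff_sq_sr ω hneg j]
    apply hconst
    exact sr_ne_one' j
  rcases Cfsg.Agent.Lib.Helper7.DHB2S.two_s hneg B hB hXB hXne hYne hE1 hE2 with h2 | h8
  · omega
  · refine Cfsg.Agent.Lib.Helper5.WDLeaf.n8_contra h8 (XX ω) (YY ω) lam hneg ?_ B hB hXB hXne hYne hE1 hE2
    intro i hi
    apply hP i hi
    rw [two_nsmul, ← Nat.cast_add]
    have : ((4 + 4 : ℕ) : ZMod n) = ((n : ℕ) : ZMod n) := by rw [h8]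
    rw [this, ZMod.natCast_self]

/-- **Lemma Z**, over `symm`, `F2`, `sub_two`. -/
theorem lemZ_of (hax : Ax star) (hn : 3 ≤ n) (h2n : 2 ∣ n)
    (hsymm : ∀ T : Finset (DihedralGroup n), Inv star T → ∀ i ∈ XX T, -i ∈ XX T)
    (hF2 : ∀ T : Finset (DihedralGroup n), Inv star T → (1 : DihedralGroup n) ∉ T → T.Nonempty →
      (XX T).Nonempty ∧ (YY T).Nonempty)
    (hsub2 : ∀ T : Finset (DihedralGroup n), Inv star T → (1 : DihedralGroup n) ∉ T → PInv 2 (YY T) → Triv T)
    {W : Finset (DihedralGroup n)}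
    (hW : Good star W) (B : AddSubgroup (ZMod n)) (hB : B ≠ ⊤) (hXB : ∀ i ∈ XX W, i ∈ B)
    (hz : ∀ i ∈ XX W, 2 • i ≠ 0 → i + ((n / 2 : ℕ) : ZMod n) ∈ XX W) : False := by
  classical
  obtain ⟨hWinv, hW1, hWne⟩ := hW
  obtain ⟨hXne, hYne⟩ := hF2 W hWinv hW1 hWne
  have h0 : (0 : ZMod n) ∉ XX W := by
    rw [mem_XX, ← DihedralGroup.one_def]
    exact hW1
  by_cases hzW : ((n / 2 : ℕ) : ZMod n) ∈ XX W
  · -- ω = insert 1 W
    have hωinv : Inv star (insert 1 W) := Cfsg.Agent.Lib.Helper15.WDLeaf.inv_insert_one hax hWinv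
    have hXX : ∀ i : ZMod n, i ∈ XX (insert 1 W) ↔ i = 0 ∨ i ∈ XX W := by
      intro i
      rw [mem_XX, mem_XX, Finset.mem_insert, r_eq_one_iff']
    have hYY : YY (insert 1 W) = YY W := by
      ext j
      rw [mem_YY, mem_YY, Finset.mem_insert]
      constructor
      · rintro (h | h)
        · exact absurd h (sr_ne_one' j)
        · exact h
      · intro h
        exact Or.inr h
    refine lemZ_core hax hn hsub2 hωinv (hsymm _ hωinv) ⟨0, (hXX 0).2 (Or.inl rfl)⟩ (by rw [hYY]; exact hYne)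
      B hB ?_ ?_
    · intro i hi
      rcases (hXX i).1 hi with rfl | hi
      · exact B.zero_mem
      · exact hXB i hi
    · intro i hi t ht
      rcases two_torsion_zmod h2n t ht with rfl | rfl
      · rwa [add_zero]
      · rcases (hXX i).1 hi with rfl | hi'
        · rw [zero_add]
          exact (hXX _).2 (Or.inr hzW)
        · by_cases h2i : 2 • i = 0
          · rcases two_torsion_zmod h2n i h2i with rfl | rfl
            · exact absurd hi' h0
            · apply (hXX _).2
              left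
              rw [← two_nsmul]
              exact two_smul_half h2n
          · exact (hXX _).2 (Or.inr (hz i hi' h2i))
  · -- ω = W
    refine lemZ_core hax hn hsub2 hWinv (hsymm _ hWinv) hXne hYne B hB hXB ?_
    intro i hi t ht
    rcases two_torsion_zmod h2n t ht with rfl | rfl
    · rwa [add_zero]
    · apply hz i hi
      intro h2i
      rcases two_torsion_zmod h2n i h2i with rfl | rfl
      · exact h0 hi
      · exact hzW hi

end Cfsg.Agent.Lib.Helper27.WDLeaf
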