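import Mathlib
import Cfsg.Agent.Lib.Helper29.WDDefs
import Cfsg.Agent.Lib.Helper7.DHBGP
import Cfsg.Agent.Lib.Helper7.DHB2S
import Cfsg.Agent.Lib.Helper21.WDF12
import Cfsg.Agent.Lib.Helper14.WDSUBTWO
import Cfsg.Agent.Lib.Helper27.WDLEMZOf

/-!
# S3572, market "WD", leaf LEMZ (Lemma Z), exact form

`lemZ` = `lemZ_of` fed with helper21's `symm`, `F2` and helper14's `sub_two`.
-/

set_option autoImplicit false
set_option linter.unusedSectionVars false
set_option linter.unusedVariables false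

namespace Cfsg.Agent.Lib.Helper27.WDLeaf

open Finset DihedralGroup
open Cfsg.Agent.Lib.Helper19.SchurCyclic
open Cfsg.Agent.Lib.Helper7.DHB
open Cfsg.Agent.Lib.Helper29.WD

variable {n : ℕ} [NeZero n] {U : Type*} [Group U] {star : U → DihedralGroup n → DihedralGroup n}
variable {T T' T₁ T₂ : Finset (DihedralGroup n)}

/-- `ω = W` or `W + 1`; level sets of `ω²` have `z`-invariant reflection part; `sub_two`; helper7 `DHB2S.two_s`; `n8_contra`. -/
theorem lemZ (hax : Ax star) (hprim : Prim star) (hn : 3 ≤ n) (h2n : 2 ∣ n) {W : Finset (DihedralGroup n)}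
    (hW : Good star W) (B : AddSubgroup (ZMod n)) (hB : B ≠ ⊤) (hXB : ∀ i ∈ XX W, i ∈ B)
    (hz : ∀ i ∈ XX W, 2 • i ≠ 0 → i + ((n / 2 : ℕ) : ZMod n) ∈ XX W) : False :=
  lemZ_of hax hn h2n
    (fun T hT => Cfsg.Agent.Lib.Helper21.WDLeaf.symm hax hprim hT)
    (fun T hT h1 hne => Cfsg.Agent.Lib.Helper21.WDLeaf.F2 hax hprim hn hT h1 hne)
    (fun T hT h1 hY => Cfsg.Agent.Lib.Helper14.WDLeaf.sub_two hax hprim hn h2n hT h1 hY)
    hW B hB hXB hz

end Cfsg.Agent.Lib.Helper27.WDLeaf
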