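import Cfsg.Agent.S1984
import Cfsg.Agent.Lib.Helper29.KInfG
import Cfsg.Agent.Lib.Helper27.KQ2
import Cfsg.Agent.Lib.Helper27.TR7
import Cfsg.Agent.Lib.Helper1.Fitting

/-!
# The lower K-infinity functor satisfies the local condition for control of transfer, `p ≥ 5` (helper27)

From helper29's `S1984` (Glauberman: `K_∞` controls transfer for `p ≥ 5`): for every Sylow `p`-subgroup `P` of a finite group
`G`, `P ∩ G' = P ∩ N_G(K_∞(P))'` (`sylow_controls_kInf`), hence `TransferProp p kInfLower` (`transferProp_kInfLower`).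
-/

set_option autoImplicit false

namespace Cfsg.Agent.Lib.Helper27.YK

open Cfsg Cfsg.Agent.Lib.Helper27.TR Cfsg.Agent.Lib.Helper27.KL Cfsg.Agent.Lib.Helper29.KInfN

universe u

variable {p : ℕ} [Fact p.Prime]

theorem sylow_controls_kInf (hp : 5 ≤ p) {G : Type u} [Group G] [Finite G] (P : Sylow p G) :
    (P : Subgroup G) ⊓ commutator G = (P : Subgroup G) ⊓
      (commutator ↥(Subgroup.normalizer
        ((Cfsg.inducedFunctor Cfsg.kInfLower (P : Subgroup G) : Subgroup G) : Set G))).map
        (Subgroup.normalizer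
          ((Cfsg.inducedFunctor Cfsg.kInfLower (P : Subgroup G) : Subgroup G) : Set G)).subtype := by
  obtain ⟨T₀, -, hT₀p, hT₀idx, hT₀eq⟩ := Cfsg.Agent.S1984.result (G := G) (p := p) hp
  rw [Subgroup.relIndex_top_right] at hT₀idx
  obtain ⟨g, hg⟩ := MulAction.exists_smul_eq G (hT₀p.toSylow hT₀idx) P
  have hg' : T₀.map (MulAut.conj g).toMonoidHom = (P : Subgroup G) := by
    rw [← hg]
    rfl
  set e : G ≃* G := MulAut.conj g with he
  have h1 := congrArg (Subgroup.map e.toMonoidHom) hT₀eq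
  rw [Subgroup.map_inf _ _ _ e.injective, Subgroup.map_inf _ _ _ e.injective, Subgroup.map_commutator,
    Subgroup.map_commutator, hg'] at h1
  have htop : (⊤ : Subgroup G).map e.toMonoidHom = ⊤ := by
    rw [← MonoidHom.range_eq_map, MonoidHom.range_eq_top]
    exact e.surjective
  have hN : (⊤ ⊓ Subgroup.normalizer ((Cfsg.inducedFunctor Cfsg.kInfLower T₀ : Subgroup G) : Set G)).map
      e.toMonoidHom = Subgroup.normalizer
        ((Cfsg.inducedFunctor Cfsg.kInfLower (P : Subgroup G) : Subgroup G) : Set G) := by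
    rw [top_inf_eq, Subgroup.map_equiv_normalizer_eq, inducedFunctor_kInfLower_map_equiv, hg']
  rw [htop, hN] at h1
  rw [Subgroup.map_subtype_commutator, ← h1, commutator_def]

theorem transferProp_kInfLower (hp : 5 ≤ p) : TransferProp p Cfsg.kInfLower.{u} := by
  intro G _ _ P _
  have h1 := sylow_controls_kInf hp P
  have hle : Cfsg.pCore p G ≤ (P : Subgroup G) := Cfsg.Agent.Lib.Helper1.pCore_le_sylow P
  have h2 : ∀ X : Subgroup G, Cfsg.pCore p G ⊓ X = Cfsg.pCore p G ⊓ ((P : Subgroup G) ⊓ X) := by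
    intro X
    rw [← inf_assoc, inf_eq_left.mpr hle]
  rw [h2 (commutator G), h1, ← h2]
  rfl

end Cfsg.Agent.Lib.Helper27.YK
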