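import Cfsg.Agent.Lib.Helper27.YK1
import Cfsg.Agent.Lib.Helper26.FrobCharC

/-!
# Fusion systems with `Aut_F(S)` a `p`-group, `p ≥ 5` (helper27)

`focal_ne`: for `p ≥ 5`, a saturated fusion system over a nontrivial finite `p`-group `S` with `Aut_F(S)` a `p`-group has
focal subgroup different from `S` (the fusion system form of Glauberman's theorem on normal subgroups of index `p`).
Induction on `|S|`: `K = K_∞(S)` controls transfer, so `foc(F) = foc(N_F(K))`; if `K = S` the normalizer system of `S` has
only conjugations by elements of `S`; otherwise pass to `N_F(K)/K`.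
-/

set_option autoImplicit false
set_option linter.unusedSectionVars false
set_option linter.unusedVariables false

namespace Cfsg.Agent.Lib.Helper27.YK

open Cfsg Cfsg.FusionSystem Cfsg.Agent.Lib.Helper26 Cfsg.Agent.Lib.Helper27.FM Cfsg.Agent.Lib.Helper27.KL
open Cfsg.Agent.Lib.Helper27.TR Cfsg.Agent.Lib.Helper26.FrobChar Cfsg.Agent.Lib.Helper27.KQ
open scoped commutatorElement

universe u

variable {p : ℕ} [Fact p.Prime]

section Gen

variable {Ω : Type*} [Group Ω] {S : Subgroup Ω}

theorem castSys_focalSubgroup {T : Subgroup Ω} (h : T = S) (N : FusionSystem T) :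
    (castSys h N).focalSubgroup = N.focalSubgroup := by
  subst h
  rfl

/-- the image of the focal subgroup under a morphism lies in the focal subgroup -/
theorem focal_le_of_isMorphism {Ω' : Type*} [Group Ω'] {S' : Subgroup Ω'} (F : FusionSystem S)
    (F' : FusionSystem S') (α : S →* Ω') (hα : F.IsMorphism F' α) :
    F.focalSubgroup ≤ (F'.focalSubgroup.comap α).map S.subtype := by
  unfold FusionSystem.focalSubgroup
  rw [Subgroup.closure_le]
  rintro y ⟨P, φ, x, hφ, rfl⟩
  obtain ⟨φ', hφ', hP, hφS, hP', hind⟩ := hα.2 P φ hφ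
  refine ⟨(⟨x, hP x.2⟩ : ↥S)⁻¹ * ⟨φ x, hφS x⟩, ?_, rfl⟩
  rw [SetLike.mem_coe, Subgroup.mem_comap, map_mul, map_inv, ← hind x]
  exact Subgroup.subset_closure ⟨_, φ', ⟨α ⟨x, hP x.2⟩, hP' x⟩, hφ', rfl⟩

/-- if `Aut_F(S)` is a `p`-group, its elements are conjugations by elements of `S` -/
theorem aut_inner_of_isPGroup [Finite S] (hS : IsPGroup p S) (F : FusionSystem S) (hF : F.IsSaturated p)
    (haut : IsPGroup p (F.autGroup S)) (β : MulAut ↥S) (hβ : β ∈ F.autGroup S) :
    ∃ g ∈ S, ∀ x : ↥S, ((β x : ↥S) : Ω) = g * (x : Ω) * g⁻¹ := by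
  obtain ⟨-, R, hR⟩ := (saturated_fn hS F hF (top_fullyNormalized F)).2
  have h1 : (⊤ : Subgroup ↥(F.autGroup S)) = (R : Subgroup ↥(F.autGroup S)) :=
    R.is_maximal' (haut.to_subgroup ⊤) le_top
  have h2 : (⟨β, hβ⟩ : ↥(F.autGroup S)) ∈ (R : Subgroup ↥(F.autGroup S)) := by
    rw [← h1]
    exact Subgroup.mem_top _
  rw [hR, Subgroup.mem_subgroupOf] at h2
  exact (mem_autInducedBy_iff S S β).mp h2

end Gen

theorem focal_ne (hp : 5 ≤ p) : ∀ (n : ℕ) (Ω : Type u) [Group Ω] (S : Subgroup Ω) [Finite S], IsPGroup p S →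
    Nat.card S = n → S ≠ ⊥ → ∀ F : FusionSystem S, F.IsSaturated p → IsPGroup p (F.autGroup S) →
    F.focalSubgroup ≠ S := by
  intro n
  induction n using Nat.strong_induction_on with
  | _ n ih =>
    intro Ω _ S _ hS hn hS1 F hF haut hfoc
    have hW := posChar_kInfLower.{u} p
    have hTr := transferProp_kInfLower.{u} hp
    set K : Subgroup Ω := WS Cfsg.kInfLower S with hK
    have hKS : K ≤ S := WS_le _ S
    haveI : Nontrivial ↥S := (Subgroup.nontrivial_iff_ne_bot S).mpr hS1
    have hK1 : K ≠ ⊥ := by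
      intro h
      apply hW.ne_bot ↥S hS inferInstance
      rw [hK] at h
      unfold WS at h
      exact (Subgroup.map_eq_bot_iff_of_injective _ S.subtype_injective).mp h
    have hA : normalizerIn S K = S := by
      apply le_antisymm (normalizerIn_le S _)
      intro s hs
      haveI : Finite ↥K := finite_of_le hKS
      exact ⟨hs, mem_normalizer_of_conj_mem_finite
        (fun u hu => hW.conj_mem hS (Subgroup.le_normalizer hs) hu)⟩
    have hfn : F.IsFullyNormalized K := by
      refine ⟨hKS, fun Q _ => ?_⟩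
      rw [hA]
      exact Subgroup.card_le_of_le (normalizerIn_le S Q)
    have hN := normalizerSystem_isNormalizerSystem F K hKS
    have hfocN : (normalizerSystem F K hKS).focalSubgroup = F.focalSubgroup :=
      focal_normalizer_eq hW hTr hS F hF _ hN
    by_cases hKeq : K = S
    · -- the normalizer system of `S`
      have hle : (normalizerSystem F K hKS).focalSubgroup ≤ ⁅S, S⁆ := by
        unfold FusionSystem.focalSubgroup
        rw [Subgroup.closure_le]
        rintro y ⟨P, φ, x, hφ, rfl⟩
        rw [hN P] at hφ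
        obtain ⟨hφF, hPN, hφN, ψ, hψ, hψφ, hψK⟩ := hφ
        have hSR : S ≤ P ⊔ K := by
          rw [hKeq]
          exact le_sup_right
        have hφS : ψ.comp (Subgroup.inclusion hSR) ∈ F.Hom S := inclusion_comp_mem F hSR hψ
        obtain ⟨β, hβ, hβψ'⟩ := exists_aut_of_hom F hφS (fun y => hom_apply_mem F hφS y)
        have hβψ : ∀ (s : Ω) (hs : s ∈ S), ((β ⟨s, hs⟩ : S) : Ω) = ψ ⟨s, hSR hs⟩ := fun s hs => hβψ' ⟨s, hs⟩
        obtain ⟨g, hg, hgβ⟩ := aut_inner_of_isPGroup hS F hF haut β hβ
        have hxS : (x : Ω) ∈ S := (hom_le F hφF) x.2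
        have h1 : φ x = g * (x : Ω) * g⁻¹ := by
          rw [← hψφ x, ← hgβ ⟨x, hxS⟩, hβψ (x : Ω) hxS]
          rfl
        rw [SetLike.mem_coe, h1]
        have e : (x : Ω)⁻¹ * (g * (x : Ω) * g⁻¹) = ⁅(x : Ω)⁻¹, g⁆ := by
          rw [commutatorElement_def]
          group
        rw [e]
        exact Subgroup.commutator_mem_commutator (S.inv_mem hxS) hg
      rw [hfocN, hfoc] at hle
      -- `S` is not perfect
      haveI : Group.IsNilpotent ↥S := hS.isNilpotent
      have h2 : commutator ↥S < ⊤ := IsSolvable.commutator_lt_top_of_nontrivial ↥S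
      apply h2.ne
      rw [eq_top_iff]
      intro s _
      have h3 : (s : Ω) ∈ ⁅S, S⁆ := hle s.2
      rw [← Subgroup.map_subtype_commutator] at h3
      obtain ⟨w, hw, hws⟩ := h3
      have : w = s := Subtype.ext hws
      rw [← this]
      exact hw
    · -- the quotient by `K`
      have hNsat := normalizerSystem_saturated hS F hF hfn _ hN
      have hNnorm := isNormal_of_isNormalizerSystem F hKS _ hN
      obtain ⟨N', hN'def⟩ : ∃ N' : FusionSystem S, N' = castSys hA (normalizerSystem F K hKS) := ⟨_, rfl⟩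
      have hN'hom : ∀ P, N'.Hom P = F.normalizerHom K P := fun P => by
        rw [hN'def, castSys_hom, hN P]
      have hN'sat : N'.IsSaturated p := hN'def ▸ castSys_saturated hA _ hNsat
      have hN'norm : N'.IsNormal K := hN'def ▸ castSys_isNormal hA _ hNnorm
      have hN'foc : N'.focalSubgroup = S := by
        rw [hN'def, castSys_focalSubgroup, hfocN, hfoc]
      have hN'aut : N'.autGroup S ≤ F.autGroup S := by
        apply Subgroup.closure_mono
        intro α hα
        have h1 : S.subtype.comp α.toMonoidHom ∈ N'.Hom S := hα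
        rw [hN'hom] at h1
        exact h1.1
      have hN'p : IsPGroup p (N'.autGroup S) := by
        intro α
        obtain ⟨k, hk⟩ := haut ⟨α.1, hN'aut α.2⟩
        refine ⟨k, ?_⟩
        apply Subtype.ext
        have := congrArg Subtype.val hk
        rw [Subgroup.coe_pow] at this ⊢
        exact this
      have hsc := stronglyClosed_of_isNormal N' hN'norm
      haveI : (K.subgroupOf S).Normal := normal_subgroupOf_of_stronglyClosed N' hsc
      obtain ⟨E, hE⟩ := exists_factorSystem_quotient N' K hsc
      have hθ := factorSystem_isSurjectiveMorphism hS N' hN'sat K hsc _ E hE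
      have hEsat := surj_saturated p hS N' hN'sat E _ hθ
      haveI : Finite ↥(⊤ : Subgroup (↥S ⧸ K.subgroupOf S)) := inferInstance
      have hpS' : IsPGroup p ↥(⊤ : Subgroup (↥S ⧸ K.subgroupOf S)) :=
        (hS.to_quotient (K.subgroupOf S)).to_subgroup _
      have hcard : Nat.card ↥(⊤ : Subgroup (↥S ⧸ K.subgroupOf S)) < Nat.card ↥S := by
        rw [Subgroup.card_top, ← Subgroup.index_eq_card, ← Subgroup.card_mul_index (K.subgroupOf S)]
        have h1 : 1 < Nat.card ↥(K.subgroupOf S) := by
          rw [Subgroup.one_lt_card_iff_ne_bot]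
          intro hbot
          apply hK1
          rw [eq_bot_iff]
          intro x hx
          have h2 : (⟨x, hKS hx⟩ : ↥S) ∈ K.subgroupOf S := Subgroup.mem_subgroupOf.mpr hx
          rw [hbot, Subgroup.mem_bot] at h2
          rw [Subgroup.mem_bot]
          exact congrArg Subtype.val h2
        have h3 : 0 < (K.subgroupOf S).index := Nat.pos_of_ne_zero Subgroup.index_ne_zero_of_finite
        nlinarith
      have hS'1 : (⊤ : Subgroup (↥S ⧸ K.subgroupOf S)) ≠ ⊥ := by
        intro h
        apply hKeq
        apply le_antisymm hKS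
        intro s hs
        have h1 : (QuotientGroup.mk' (K.subgroupOf S) ⟨s, hs⟩) ∈ (⊤ : Subgroup (↥S ⧸ K.subgroupOf S)) :=
          Subgroup.mem_top _
        rw [h, Subgroup.mem_bot, QuotientGroup.mk'_apply, QuotientGroup.eq_one_iff,
          Subgroup.mem_subgroupOf] at h1
        exact h1
      have hEaut : IsPGroup p (E.autGroup (⊤ : Subgroup (↥S ⧸ K.subgroupOf S))) := by
        apply isPGroup_autGroup_factor N' _ E hE le_rfl
        rw [pre_top]
        exact hN'p
      have hEfoc := ih _ (hn ▸ hcard) _ (⊤ : Subgroup (↥S ⧸ K.subgroupOf S)) hpS' rfl hS'1 E hEsat hEaut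
      apply hEfoc
      apply le_antisymm
      · unfold FusionSystem.focalSubgroup
        rw [Subgroup.closure_le]
        intro y _
        exact Subgroup.mem_top y
      · intro y _
        obtain ⟨s, rfl⟩ := QuotientGroup.mk'_surjective (K.subgroupOf S) y
        have h1 := focal_le_of_isMorphism N' E _ hθ.1
        rw [hN'foc] at h1
        obtain ⟨w, hw, hws⟩ := h1 s.2
        have : w = s := Subtype.ext hws
        rw [← this]
        exact hw

end Cfsg.Agent.Lib.Helper27.YK
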