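import Mathlib

/-!
# Circulant families over `ZMod p` (helper27)

`circulant_linearIndependent`: if `B : ZMod p → ZMod p` has nonzero sum then its `p` cyclic shifts are linearly
independent.  The proof: the module of relations is invariant under the cyclic shift, so if it is not zero it contains
a nonzero constant vector (a `p`-group acting on a set of size divisible by `p` with a fixed point has another one).
-/

set_option autoImplicit false

namespace Cfsg.Agent.Lib.Helper27.YO

variable {p : ℕ} [Fact p.Prime]

/-- a nonzero additive group of functions on `ZMod p` that is invariant under the shift contains a nonzero constant -/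
theorem exists_const_mem (Z : AddSubgroup (ZMod p → ZMod p))
    (hZ : ∀ a ∈ Z, (fun i => a (i + 1)) ∈ Z) (hne : Z ≠ ⊥) :
    ∃ c : ZMod p, c ≠ 0 ∧ (fun _ => c) ∈ Z := by
  have hp : p.Prime := Fact.out
  have hZn : ∀ (n : ℕ) (a : ZMod p → ZMod p), a ∈ Z → (fun i => a (i + (n : ZMod p))) ∈ Z := by
    intro n
    induction n with
    | zero =>
      intro a ha
      simpa using ha
    | succ n ih =>
      intro a ha
      have h1 := hZ _ (ih a ha)
      have h2 : (fun i => (fun i => a (i + (n : ZMod p))) (i + 1)) =
          (fun i => a (i + ((n + 1 : ℕ) : ZMod p))) := by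
        funext i
        show a (i + 1 + (n : ZMod p)) = a (i + ((n + 1 : ℕ) : ZMod p))
        congr 1
        push_cast
        ring
      rw [h2] at h1
      exact h1
  have hZg : ∀ (g : ZMod p) (a : ZMod p → ZMod p), a ∈ Z → (fun i => a (i + g)) ∈ Z := by
    intro g a ha
    have := hZn g.val a ha
    rwa [ZMod.natCast_zmod_val] at this
  letI : MulAction (Multiplicative (ZMod p)) ↥Z :=
    { smul := fun g a => ⟨fun i => a.1 (i + Multiplicative.toAdd g), hZg _ _ a.2⟩
      one_smul := by
        intro a
        apply Subtype.ext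
        funext i
        show a.1 (i + Multiplicative.toAdd (1 : Multiplicative (ZMod p))) = a.1 i
        rw [toAdd_one, add_zero]
      mul_smul := by
        intro g h a
        apply Subtype.ext
        funext i
        show a.1 (i + Multiplicative.toAdd (g * h)) =
          a.1 (i + Multiplicative.toAdd g + Multiplicative.toAdd h)
        rw [toAdd_mul, add_assoc] }
  have hsmul : ∀ (g : Multiplicative (ZMod p)) (a : ↥Z) (i : ZMod p),
      (g • a).1 i = a.1 (i + Multiplicative.toAdd g) := fun _ _ _ => rfl
  have hG : IsPGroup p (Multiplicative (ZMod p)) := by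
    apply IsPGroup.of_card (n := 1)
    rw [pow_one, Nat.card_eq_fintype_card, Fintype.card_multiplicative, ZMod.card]
  -- `Z` has order divisible by `p`
  have hcard : p ∣ Nat.card ↥Z := by
    obtain ⟨a, ha, ha0⟩ : ∃ a ∈ Z, a ≠ 0 := by
      by_contra hcon
      push_neg at hcon
      apply hne
      rw [eq_bot_iff]
      intro a ha
      rw [AddSubgroup.mem_bot]
      exact hcon a ha
    have h1 : addOrderOf (⟨a, ha⟩ : ↥Z) ∣ Nat.card ↥Z := addOrderOf_dvd_natCard _
    have h2 : addOrderOf (⟨a, ha⟩ : ↥Z) ∣ p := by
      apply addOrderOf_dvd_of_nsmul_eq_zero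
      apply Subtype.ext
      show p • a = 0
      funext i
      show p • a i = 0
      rw [nsmul_eq_mul, ZMod.natCast_self, zero_mul]
    rcases (Nat.dvd_prime hp).mp h2 with h3 | h3
    · exfalso
      rw [AddMonoid.addOrderOf_eq_one_iff] at h3
      exact ha0 (congrArg Subtype.val h3)
    · rwa [h3] at h1
  have hfix0 : (0 : ↥Z) ∈ MulAction.fixedPoints (Multiplicative (ZMod p)) ↥Z := by
    intro g
    apply Subtype.ext
    funext i
    rfl
  obtain ⟨b, hb, hb0⟩ := hG.exists_fixed_point_of_prime_dvd_card_of_fixed_point ↥Z hcard hfix0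
  have hconst : ∀ i : ZMod p, b.1 i = b.1 0 := by
    intro i
    have h1 := hb (Multiplicative.ofAdd i)
    have h2 := hsmul (Multiplicative.ofAdd i) b 0
    rw [h1, toAdd_ofAdd, zero_add] at h2
    exact h2.symm
  refine ⟨b.1 0, ?_, ?_⟩
  · intro h0
    apply hb0
    apply Subtype.ext
    funext i
    show (0 : ZMod p → ZMod p) i = b.1 i
    rw [hconst i, h0]
    rfl
  · have h1 : (fun _ => b.1 0) = b.1 := by
      funext i
      exact (hconst i).symm
    rw [h1]
    exact b.2

/-- the cyclic shifts of a function on `ZMod p` with nonzero sum are linearly independent -/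
theorem circulant_linearIndependent (B : ZMod p → ZMod p) (hB : ∑ i, B i ≠ 0) :
    LinearIndependent (ZMod p) (fun k : ZMod p => fun j : ZMod p => B (j + k)) := by
  rw [Fintype.linearIndependent_iff]
  intro a ha
  let Z : AddSubgroup (ZMod p → ZMod p) :=
    { carrier := {a | ∀ j : ZMod p, ∑ k, a k * B (j + k) = 0}
      zero_mem' := by
        intro j
        simp
      add_mem' := by
        intro a b ha hb j
        have : ∑ k, (a + b) k * B (j + k) = ∑ k, a k * B (j + k) + ∑ k, b k * B (j + k) := by
          rw [← Finset.sum_add_distrib]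
          apply Finset.sum_congr rfl
          intro k _
          rw [Pi.add_apply, add_mul]
        rw [this, ha j, hb j, add_zero]
      neg_mem' := by
        intro a ha j
        have : ∑ k, (-a) k * B (j + k) = -∑ k, a k * B (j + k) := by
          rw [← Finset.sum_neg_distrib]
          apply Finset.sum_congr rfl
          intro k _
          rw [Pi.neg_apply, neg_mul]
        rw [this, ha j, neg_zero] }
  have hmemZ : ∀ a : ZMod p → ZMod p, a ∈ Z ↔ ∀ j : ZMod p, ∑ k, a k * B (j + k) = 0 := fun _ => Iff.rfl
  have haZ : a ∈ Z := by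
    rw [hmemZ]
    intro j
    have h1 := congrFun ha j
    rw [Finset.sum_apply] at h1
    simpa [Pi.smul_apply, smul_eq_mul] using h1
  have hshift : ∀ a ∈ Z, (fun i => a (i + 1)) ∈ Z := by
    intro a ha
    rw [hmemZ] at ha ⊢
    intro j
    have h1 := ha (j - 1)
    rw [← h1]
    rw [← Equiv.sum_comp (Equiv.addRight (1 : ZMod p)) (fun k => a k * B (j - 1 + k))]
    apply Finset.sum_congr rfl
    intro k _
    show a (k + 1) * B (j + k) = a (k + 1) * B (j - 1 + (k + 1))
    congr 2
    ring
  by_contra hcon
  push_neg at hcon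
  obtain ⟨i₀, hi₀⟩ := hcon
  have hne : Z ≠ ⊥ := by
    intro h
    rw [h, AddSubgroup.mem_bot] at haZ
    exact hi₀ (congrFun haZ i₀)
  obtain ⟨c, hc0, hc⟩ := exists_const_mem Z hshift hne
  rw [hmemZ] at hc
  have h1 := hc 0
  simp only [zero_add] at h1
  rw [← Finset.mul_sum] at h1
  rcases mul_eq_zero.mp h1 with h2 | h2
  · exact hc0 h2
  · exact hB h2

end Cfsg.Agent.Lib.Helper27.YO
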