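import Cfsg.Agent.Lib.Helper27.YO1

/-!
# The wreath product quotient (helper27)

`exists_wreath_quotient`: let `G` be a finite `p`-group, `M` a normal subgroup of index `p`, `s : G`, and
`β : M →* C_p` a homomorphism such that the norm `∏_{i<p} β (s^i x s^-i)` is not trivial for some `x : M`.  Then the
action of `G` on the `p²` cosets of `ker β` has an image of order `p^(p+1)`, i.e. a Sylow `p`-subgroup of the symmetric
group of degree `p²`.
-/

set_option autoImplicit false

namespace Cfsg.Agent.Lib.Helper27.YO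

variable {G : Type*} [Group G]

/-- the homomorphism `m ↦ β (g m g⁻¹)` -/
def twist (M : Subgroup G) [M.Normal] {A : Type*} [CommGroup A] (β : ↥M →* A) (g : G) : ↥M →* A :=
  β.comp (MulAut.conjNormal g : MulAut ↥M).toMonoidHom

section Twist

variable {M : Subgroup G} [M.Normal] {A : Type*} [CommGroup A]

theorem twist_apply (β : ↥M →* A) (g : G) (m : ↥M) :
    twist M β g m = β (MulAut.conjNormal g m) := rfl

theorem twist_one (β : ↥M →* A) : twist M β 1 = β := by
  ext m
  rw [twist_apply, map_one]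
  rfl

theorem twist_mul (β : ↥M →* A) (g h : G) : twist M β (g * h) = twist M (twist M β g) h := by
  ext m
  rw [twist_apply, twist_apply, twist_apply, map_mul]
  rfl

theorem twist_of_mem (β : ↥M →* A) {z : G} (hz : z ∈ M) : twist M β z = β := by
  ext m
  rw [twist_apply]
  have h1 : (MulAut.conjNormal z m : ↥M) = ⟨z, hz⟩ * m * ⟨z, hz⟩⁻¹ := by
    apply Subtype.ext
    rw [MulAut.conjNormal_apply]
    rfl
  rw [h1, map_mul, map_mul, map_inv, mul_comm (β ⟨z, hz⟩), mul_assoc, mul_inv_cancel, mul_one]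

theorem twist_pow_add_index (β : ↥M →* A) (s : G) (n : ℕ) :
    twist M β (s ^ (n + M.index)) = twist M β (s ^ n) := by
  rw [pow_add, twist_mul, twist_of_mem _ (M.pow_index_mem s)]

theorem twist_pow_mod (β : ↥M →* A) (s : G) (n : ℕ) :
    twist M β (s ^ (n % M.index)) = twist M β (s ^ n) := by
  rcases Nat.eq_zero_or_pos M.index with h0 | hi
  · rw [h0, Nat.mod_zero]
  induction n using Nat.strong_induction_on with
  | _ n ih =>
    by_cases h : n < M.index
    · rw [Nat.mod_eq_of_lt h]
    · push_neg at h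
      obtain ⟨k, rfl⟩ := Nat.exists_eq_add_of_le h
      have h1 : (M.index + k) % M.index = k % M.index := by
        rw [Nat.add_mod_left]
      rw [h1, ih k (by omega), add_comm, twist_pow_add_index]

end Twist

variable {p : ℕ} [Fact p.Prime]

theorem factorization_factorial_sq : (Nat.factorial (p ^ 2)).factorization p = p + 1 := by
  have hp : p.Prime := Fact.out
  rw [Nat.factorization_def _ hp, pow_two, padicValNat_factorial_mul]
  have h1 : padicValNat p (Nat.factorial p) = 1 := by
    have := padicValNat_factorial_mul (p := p) 1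
    rw [mul_one] at this
    rw [this]
    simp
  rw [h1, add_comm]

theorem exists_wreath_quotient [Finite G] (hG : IsPGroup p G) (M : Subgroup G) [M.Normal] (hM : M.index = p)
    (s : G) (β : ↥M →* Multiplicative (ZMod p)) (x : ↥M)
    (hx : ∏ i ∈ Finset.range p, twist M β (s ^ i) x ≠ 1) :
    ∃ (W : Sylow p (Equiv.Perm (Fin (p ^ 2)))) (f : G →* ↥(W : Subgroup (Equiv.Perm (Fin (p ^ 2))))),
      Function.Surjective f := by
  have hp : p.Prime := Fact.out
  haveI : NeZero p := ⟨hp.ne_zero⟩
  -- the twists depend on the exponent modulo `p` only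
  have hmod : ∀ n : ℕ, twist M β (s ^ (n % p)) = twist M β (s ^ n) := by
    intro n
    have := twist_pow_mod β s n
    rwa [hM] at this
  -- the function `B`
  let B : ZMod p → ZMod p := fun i => Multiplicative.toAdd (twist M β (s ^ i.val) x)
  have hB : ∑ i, B i ≠ 0 := by
    intro h0
    apply hx
    have h1 : ∑ i : ZMod p, B i = ∑ n ∈ Finset.range p, Multiplicative.toAdd (twist M β (s ^ n) x) := by
      apply Finset.sum_nbij' (fun i : ZMod p => i.val) (fun n : ℕ => (n : ZMod p))
      · intro i _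
        exact Finset.mem_range.mpr (ZMod.val_lt i)
      · intro n _
        exact Finset.mem_univ _
      · intro i _
        exact ZMod.natCast_zmod_val i
      · intro n hn
        exact ZMod.val_natCast_of_lt (Finset.mem_range.mp hn)
      · intro i _
        rfl
    rw [h1] at h0
    have h2 : Multiplicative.toAdd (∏ i ∈ Finset.range p, twist M β (s ^ i) x) = 0 := by
      rw [toAdd_prod]
      exact h0
    exact h2
  have hind := circulant_linearIndependent B hB
  -- the homomorphism `Θ`
  let Θ : ↥M →* (ZMod p → Multiplicative (ZMod p)) := MonoidHom.pi (fun j : ZMod p => twist M β (s ^ j.val))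
  have hΘ : ∀ (m : ↥M) (j : ZMod p), Θ m j = twist M β (s ^ j.val) m := fun _ _ => rfl
  -- its image, additively
  let U : AddSubgroup (ZMod p → ZMod p) :=
    { carrier := {e | ∃ m : ↥M, ∀ j, e j = Multiplicative.toAdd (Θ m j)}
      zero_mem' := ⟨1, fun j => by rw [map_one]; rfl⟩
      add_mem' := by
        rintro e e' ⟨m, hm⟩ ⟨m', hm'⟩
        refine ⟨m * m', fun j => ?_⟩
        rw [map_mul, Pi.mul_apply, toAdd_mul, Pi.add_apply, hm j, hm' j]
      neg_mem' := by
        rintro e ⟨m, hm⟩
        refine ⟨m⁻¹, fun j => ?_⟩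
        rw [map_inv, Pi.inv_apply, toAdd_inv, Pi.neg_apply, hm j] }
  have hmemU : ∀ e : ZMod p → ZMod p, e ∈ U ↔ ∃ m : ↥M, ∀ j, e j = Multiplicative.toAdd (Θ m j) :=
    fun _ => Iff.rfl
  have hw : ∀ k : ZMod p, (fun j : ZMod p => B (j + k)) ∈ U := by
    intro k
    rw [hmemU]
    refine ⟨MulAut.conjNormal (s ^ k.val) x, fun j => ?_⟩
    rw [hΘ]
    show Multiplicative.toAdd (twist M β (s ^ (j + k).val) x) =
      Multiplicative.toAdd (twist M β (s ^ j.val) (MulAut.conjNormal (s ^ k.val) x))
    congr 1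
    rw [← twist_apply (twist M β (s ^ j.val)), ← twist_mul, ← pow_add, ZMod.val_add, hmod]
  have hUtop : AddSubgroup.toZModSubmodule p U = ⊤ := by
    rw [eq_top_iff, ← hind.span_eq_top_of_card_eq_finrank' (by
      rw [Module.finrank_fintype_fun_eq_card]), Submodule.span_le]
    rintro _ ⟨k, rfl⟩
    exact hw k
  have hΘsurj : Function.Surjective Θ := by
    intro t
    have h1 : (fun j => Multiplicative.toAdd (t j)) ∈ AddSubgroup.toZModSubmodule p U := by
      rw [hUtop]
      exact Submodule.mem_top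
    obtain ⟨m, hm⟩ := (hmemU _).mp h1
    refine ⟨m, ?_⟩
    funext j
    exact (Multiplicative.toAdd.injective (hm j)).symm
  -- `β` is onto
  have hβsurj : Function.Surjective β := by
    intro a
    obtain ⟨m, hm⟩ := hΘsurj (fun _ => a)
    refine ⟨m, ?_⟩
    have h1 := congrFun hm 0
    rw [hΘ, ZMod.val_zero, pow_zero, twist_one] at h1
    exact h1
  -- indices
  have hΘidx : Θ.ker.index = p ^ p := by
    rw [Subgroup.index_ker, MonoidHom.range_eq_top.mpr hΘsurj, Subgroup.card_top, Nat.card_eq_fintype_card,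
      Fintype.card_fun, Fintype.card_multiplicative, ZMod.card]
  have hβidx : β.ker.index = p := by
    rw [Subgroup.index_ker, MonoidHom.range_eq_top.mpr hβsurj, Subgroup.card_top, Nat.card_eq_fintype_card,
      Fintype.card_multiplicative, ZMod.card]
  set M₀ : Subgroup G := β.ker.map M.subtype with hM₀
  set K' : Subgroup G := Θ.ker.map M.subtype with hK'
  have hM₀idx : M₀.index = p ^ 2 := by
    rw [hM₀, Subgroup.index_map_subtype, hβidx, hM, pow_two]
  have hK'idx : K'.index = p ^ (p + 1) := by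
    rw [hK', Subgroup.index_map_subtype, hΘidx, hM, pow_succ]
  -- the action on the cosets of `M₀`
  have hYcard : Nat.card (G ⧸ M₀) = p ^ 2 := by rw [← Subgroup.index_eq_card, hM₀idx]
  haveI : Finite (G ⧸ M₀) := Nat.finite_of_card_ne_zero (by rw [hYcard]; exact pow_ne_zero _ hp.ne_zero)
  let e : (G ⧸ M₀) ≃ Fin (p ^ 2) := Finite.equivFinOfCardEq hYcard
  let ρ : G →* Equiv.Perm (G ⧸ M₀) := MulAction.toPermHom G (G ⧸ M₀)
  let ρ' : G →* Equiv.Perm (Fin (p ^ 2)) := (e.permCongrHom : _ →* _).comp ρ
  have hker' : ρ'.ker = ρ.ker := by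
    ext g
    rw [MonoidHom.mem_ker, MonoidHom.mem_ker]
    show e.permCongrHom (ρ g) = 1 ↔ ρ g = 1
    exact MulEquiv.map_eq_one_iff e.permCongrHom
  have hkerle : ρ.ker ≤ K' := by
    intro g hg
    have hg' : g ∈ M₀.normalCore := by
      rw [Subgroup.normalCore_eq_ker]
      exact hg
    have hall : ∀ t : G, t * g * t⁻¹ ∈ M₀ := fun t => hg' t
    have h1 := hall 1
    rw [one_mul, inv_one, mul_one] at h1
    obtain ⟨m, hm, rfl⟩ := h1
    refine ⟨m, ?_, rfl⟩
    rw [SetLike.mem_coe, MonoidHom.mem_ker]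
    funext j
    rw [hΘ, Pi.one_apply, twist_apply]
    obtain ⟨m', hm', hmm'⟩ := hall (s ^ j.val)
    have h2 : m' = MulAut.conjNormal (s ^ j.val) m := by
      apply Subtype.ext
      rw [MulAut.conjNormal_apply]
      exact hmm'
    rw [← h2]
    exact hm'
  set H : Subgroup (Equiv.Perm (Fin (p ^ 2))) := ρ'.range with hH
  have hHcard : Nat.card H = ρ.ker.index := by
    rw [hH, ← Subgroup.index_ker, hker']
  have hdvd1 : p ^ (p + 1) ∣ Nat.card H := by
    rw [hHcard, ← hK'idx]
    exact Subgroup.index_dvd_of_le hkerle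
  have hHp : IsPGroup p H := by
    rw [hH, MonoidHom.range_eq_map]
    exact (hG.to_subgroup ⊤).map ρ'
  obtain ⟨k, hk⟩ := hHp.exists_card_eq
  have hcardG : Nat.card (Equiv.Perm (Fin (p ^ 2))) = Nat.factorial (p ^ 2) := by
    rw [Nat.card_eq_fintype_card, Fintype.card_perm, Fintype.card_fin]
  have hdvd2 : Nat.card H ∣ Nat.factorial (p ^ 2) := by
    rw [← hcardG]
    exact Subgroup.card_subgroup_dvd_card H
  have hk1 : p + 1 ≤ k := by
    rw [hk] at hdvd1
    exact (Nat.pow_dvd_pow_iff_le_right hp.one_lt).mp hdvd1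
  have hk2 : k ≤ p + 1 := by
    rw [hk] at hdvd2
    have := (hp.pow_dvd_iff_le_factorization (Nat.factorial_ne_zero _)).mp hdvd2
    rwa [factorization_factorial_sq] at this
  have hkeq : k = p + 1 := le_antisymm hk2 hk1
  have hcardeq : Nat.card H = p ^ (Nat.card (Equiv.Perm (Fin (p ^ 2)))).factorization p := by
    rw [hcardG, factorization_factorial_sq, hk, hkeq]
  exact ⟨Sylow.ofCard H hcardeq, ρ'.rangeRestrict, ρ'.rangeRestrict_surjective⟩

end Cfsg.Agent.Lib.Helper27.YO
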