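import Cfsg.Agent.Lib.Helper27.BS12
import Cfsg.Agent.Lib.Helper27.YO2

/-!
# Partial determinants (helper27)

For a free `R`-set `X`, a homomorphism `π : R →* A` into a commutative group, an equivariant permutation `g` and a finite
set `s` of `R`-orbits, `pdet π g s` is the product over `o ∈ s` of `π (cg g o)`; the determinant of `BS11` is the partial
determinant over all orbits.  `pdet_mul` is the cocycle formula, `pdet_eq_one_of_fun` computes a partial determinant over
an invariant set of orbits on which an equivariant function is invariant under `g`.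
-/

set_option autoImplicit false

namespace Cfsg.Agent.Lib.Helper27.YO

open Cfsg.Agent.Lib.Helper27.BS MulAction

section General

/-- an equivariant function for a character, on the orbits on which the character is trivial on the point stabilizers -/
theorem exists_equivariant_fun' {H : Type*} [Group H] {X : Type*} [MulAction H X] {A : Type*} [CommGroup A]
    (χ : H →* A) :
    ∃ f : X → A, ∀ x : X, (∀ (y : X) (h : H), y ∈ orbit H x → h • y = y → χ h = 1) →
      ∀ h : H, f (h • x) = χ h * f x := by
  have hk : ∀ x : X, ∃ k : H, x = k • sec (Quotient.mk'' x : Orb H X) := fun x => exists_smul_sec x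
  choose k hk using hk
  refine ⟨fun x => χ (k x), fun x hx h => ?_⟩
  show χ (k (h • x)) = χ h * χ (k x)
  have h1 : (Quotient.mk'' (h • x) : Orb H X) = Quotient.mk'' x := Quotient.sound' (mem_orbit x h)
  have h2 := hk (h • x)
  rw [h1] at h2
  obtain ⟨kk, hkk⟩ : ∃ kk : H, kk = k (h • x) := ⟨_, rfl⟩
  rw [← hkk] at h2 ⊢
  have h3 : (kk⁻¹ * h * k x) • sec (Quotient.mk'' x : Orb H X) = sec (Quotient.mk'' x : Orb H X) := by
    rw [mul_smul, ← hk x, mul_smul, h2, inv_smul_smul]
  have hmem : sec (Quotient.mk'' x : Orb H X) ∈ orbit H x := by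
    refine ⟨(k x)⁻¹, ?_⟩
    show (k x)⁻¹ • x = _
    exact inv_smul_eq_iff.mpr (hk x)
  have h4 := hx _ _ hmem h3
  rw [map_mul, map_mul, map_inv] at h4
  show χ kk = χ h * χ (k x)
  have h5 : χ kk = χ kk * ((χ kk)⁻¹ * χ h * χ (k x)) := by rw [h4, mul_one]
  rw [h5]
  group

end General

section PDet

variable {R : Type*} [Group R] {X : Type*} [MulAction R X] {A : Type*} [CommGroup A]

/-- the partial determinant -/
noncomputable def pdet (π : R →* A) (g : Equiv.Perm X) (s : Finset (Orb R X)) : A := ∏ o ∈ s, π (cg g o)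

theorem det_eq_pdet [Fintype (Orb R X)] (π : R →* A) (g : Equiv.Perm X) : det π g = pdet π g Finset.univ := rfl

theorem gbar_injective {g : Equiv.Perm X} (hg : REq R g) : Function.Injective (gbar g : Orb R X → Orb R X) :=
  (gbarEquiv hg).injective

theorem pdet_mul (hfree : ∀ (b : R) (x : X), b • x = x → b = 1) [DecidableEq (Orb R X)] (π : R →* A)
    {g h : Equiv.Perm X} (hg : REq R g) (hh : REq R h) (s : Finset (Orb R X)) :
    pdet π (g * h) s = pdet π h s * pdet π g (s.image (gbar h)) := by
  unfold pdet
  rw [Finset.prod_image (fun a _ b _ hab => gbar_injective hh hab), ← Finset.prod_mul_distrib]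
  apply Finset.prod_congr rfl
  intro o _
  rw [cg_mul hfree hg hh, map_mul]

theorem pdet_union [DecidableEq (Orb R X)] (π : R →* A) (g : Equiv.Perm X) {s t : Finset (Orb R X)}
    (h : Disjoint s t) : pdet π g (s ∪ t) = pdet π g s * pdet π g t := by
  unfold pdet
  exact Finset.prod_union h

theorem image_gbar_eq [DecidableEq (Orb R X)] {g : Equiv.Perm X} (hg : REq R g) (s : Finset (Orb R X))
    (hs : ∀ o ∈ s, gbar g o ∈ s) : s.image (gbar g) = s := by
  apply Finset.eq_of_subset_of_card_le
  · intro o ho
    obtain ⟨o', ho', rfl⟩ := Finset.mem_image.mp ho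
    exact hs o' ho'
  · rw [Finset.card_image_of_injective _ (gbar_injective hg)]

/-- the partial determinant over an invariant set of orbits, where an equivariant function is invariant under `g` -/
theorem pdet_eq_one_of_fun (π : R →* A) {g : Equiv.Perm X} (hg : REq R g) (s : Finset (Orb R X))
    (hs : ∀ o ∈ s, gbar g o ∈ s) (f : X → A)
    (hf1 : ∀ (b : R) (y : X), (Quotient.mk'' y : Orb R X) ∈ s → f (b • y) = π b * f y)
    (hf2 : ∀ y : X, (Quotient.mk'' y : Orb R X) ∈ s → f (g y) = f y) :
    pdet π g s = 1 := by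
  classical
  unfold pdet
  have h1 : ∀ o ∈ s, π (cg g o) = f (sec o) * (f (sec (gbar g o)))⁻¹ := by
    intro o ho
    have h2 := congrArg f (cg_spec g o)
    have h3 : (Quotient.mk'' (sec o) : Orb R X) ∈ s := by rw [mk_sec]; exact ho
    have h4 : (Quotient.mk'' (sec (gbar g o)) : Orb R X) ∈ s := by rw [mk_sec]; exact hs o ho
    rw [hf2 _ h3, hf1 _ _ h4] at h2
    rw [h2, mul_inv_cancel_right]
  rw [Finset.prod_congr rfl h1, Finset.prod_mul_distrib, Finset.prod_inv_distrib]
  have h5 : ∏ o ∈ s, f (sec (gbar g o)) = ∏ o ∈ s.image (gbar g), f (sec o) := by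
    rw [Finset.prod_image (fun a _ b _ hab => gbar_injective hg hab)]
  rw [h5, image_gbar_eq hg s hs, mul_inv_cancel]

end PDet

end Cfsg.Agent.Lib.Helper27.YO
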