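import Cfsg.Agent.Lib.Helper27.YO3

/-!
# Partial determinants on a characteristic biset (helper27)

The left action of `S` on the orbits of the right action, and the two easy computations of partial determinants: over
orbits fixed by all of `S` (`map_cg_of_fixed`) and over an `S`-invariant set of orbits all moved by `x` (`pdet_moved`).
-/

set_option autoImplicit false

namespace Cfsg.Agent.Lib.Helper27.YO

open Cfsg Cfsg.FusionSystem Cfsg.Agent.Lib.Helper26 Cfsg.Agent.Lib.Helper27.FM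
open Cfsg.Agent.Lib.Helper27.KL Cfsg.Agent.Lib.Helper27.BS MulAction

universe u

section Groups

theorem orderOf_lt_of_mem_zpowers {G : Type*} [Group G] [Finite G] {x z : G} (hz : z ∈ Subgroup.zpowers x)
    (hx : x ∉ Subgroup.zpowers z) : orderOf z < orderOf x := by
  have h1 : orderOf z ∣ orderOf x := orderOf_dvd_of_mem_zpowers hz
  have h2 : orderOf z ≤ orderOf x := Nat.le_of_dvd (orderOf_pos x) h1
  rcases Nat.lt_or_ge (orderOf z) (orderOf x) with h3 | h3
  · exact h3
  · exfalso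
    apply hx
    have hle : Subgroup.zpowers z ≤ Subgroup.zpowers x := by
      rw [Subgroup.zpowers_le]
      exact hz
    have h4 : Subgroup.zpowers z = Subgroup.zpowers x := by
      apply Subgroup.eq_of_le_of_card_ge hle
      rw [Nat.card_zpowers, Nat.card_zpowers]
      exact h3
    rw [h4]
    exact Subgroup.mem_zpowers x

theorem exists_normal_index_p {G : Type*} [Group G] [Finite G] {p : ℕ} [Fact p.Prime] (hG : IsPGroup p G)
    (P : Subgroup G) (hP : P ≠ ⊤) : ∃ M : Subgroup G, P ≤ M ∧ M.index = p ∧ M.Normal := by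
  have hp : p.Prime := Fact.out
  obtain ⟨N, hN⟩ := hG.exists_card_eq
  obtain ⟨n, hn⟩ := (hG.to_subgroup P).exists_card_eq
  have hnN : n < N := by
    have h1 : Nat.card P ≠ Nat.card G := by
      intro h
      exact hP (Subgroup.eq_top_of_card_eq P h)
    have h2 : Nat.card P ∣ Nat.card G := Subgroup.card_subgroup_dvd_card P
    rw [hn, hN] at h1 h2
    have h3 : n ≤ N := (Nat.pow_dvd_pow_iff_le_right hp.one_lt).mp h2
    rcases Nat.lt_or_ge n N with h4 | h4
    · exact h4
    · exfalso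
      apply h1
      rw [le_antisymm h3 h4]
  obtain ⟨M, hM, hPM⟩ := Sylow.exists_subgroup_card_pow_prime_le p (m := N - 1)
    (by rw [hN]; exact pow_dvd_pow p (Nat.sub_le N 1)) P hn (by omega)
  have hidx : M.index = p := by
    have h1 := Subgroup.card_mul_index M
    rw [hM, hN] at h1
    have h2 : p ^ N = p ^ (N - 1) * p := by
      rw [← pow_succ]
      congr 1
      omega
    rw [h2] at h1
    exact Nat.eq_of_mul_eq_mul_left (pow_pos hp.pos _) h1
  refine ⟨M, hPM, hidx, ?_⟩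
  apply Subgroup.normal_of_index_eq_minFac_card
  rw [hidx, hN, Nat.Prime.pow_minFac hp (by omega)]

end Groups

variable {Ω : Type u} [Group Ω] {S : Subgroup Ω}
variable {X : Type*} [MulAction ↥(S.prod S) X] [MulAction ↥S X]

/-- the left action on the orbits of the right action -/
noncomputable def lact (hcomp : ∀ (b : ↥S) (x : X), b • x = pair 1 b • x) : MulAction ↥S (Orb ↥S X) where
  smul a o := gbar (lam X a) o
  one_smul o := by
    show gbar (lam X 1) o = o
    rw [map_one]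
    exact gbar_one o
  mul_smul a b o := by
    show gbar (lam X (a * b)) o = gbar (lam X a) (gbar (lam X b) o)
    rw [map_mul]
    exact gbar_mul (lam_rEq hcomp a) (lam_rEq hcomp b) o

theorem pair_mul_pair (a b c d : ↥S) : pair a b * pair c d = pair (a * c) (b * d) := rfl

/-- if `(a, b)` stabilizes `y` then `a` fixes the orbit of `y` -/
theorem gbar_mk_of_mem_stabilizer (hcomp : ∀ (b : ↥S) (x : X), b • x = pair 1 b • x) {a b : ↥S} {y : X}
    (h : pair a b ∈ stabilizer ↥(S.prod S) y) :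
    gbar (lam X a) (Quotient.mk'' y : Orb ↥S X) = Quotient.mk'' y := by
  rw [gbar_mk (lam_rEq hcomp a)]
  apply Quotient.sound'
  show lam X a y ∈ orbit ↥S y
  refine ⟨b⁻¹, ?_⟩
  show b⁻¹ • y = lam X a y
  rw [hcomp, lam_apply]
  have h1 : pair a b • y = y := h
  conv_lhs => rw [← h1]
  rw [smul_smul, pair_mul_pair, one_mul, inv_mul_cancel]

/-- if `a` fixes the orbit `o` then `(a, c⁻¹)` stabilizes `sec o`, `c` the cocycle -/
theorem pair_mem_stabilizer (hcomp : ∀ (b : ↥S) (x : X), b • x = pair 1 b • x) (a : ↥S) (o : Orb ↥S X)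
    (h : gbar (lam X a) o = o) : pair a (cg (lam X a) o)⁻¹ ∈ stabilizer ↥(S.prod S) (sec o) := by
  have h1 := cg_spec (lam X a) o
  rw [h, lam_apply, hcomp] at h1
  show pair a (cg (lam X a) o)⁻¹ • sec o = sec o
  have h2 : pair a (cg (lam X a) o)⁻¹ = pair 1 (cg (lam X a) o)⁻¹ * pair a 1 := by
    rw [pair_mul_pair, one_mul, mul_one]
  rw [h2, mul_smul, h1, smul_smul, pair_mul_pair, one_mul, inv_mul_cancel]
  exact one_smul _ _

/-- the two coordinates of an element of a point stabilizer have the same order -/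
theorem orderOf_eq_of_mem_stabilizer {F : FusionSystem S}
    (hst : ∀ x : X, IsGr F (stabilizer ↥(S.prod S) x)) {a b : ↥S} {y : X}
    (h : pair a b ∈ stabilizer ↥(S.prod S) y) : orderOf b = orderOf a := by
  obtain ⟨P, θ, hθ, hg⟩ := hst y
  have h2 : ((pair a b : ↥(S.prod S)) : Ω × Ω) ∈ up (stabilizer ↥(S.prod S) y) := coe_mem_up.mpr h
  obtain ⟨h3, h4⟩ := (hg _).mp h2
  have h5 : θ (a : Ω) = (b : Ω) := h4
  have h6 : (a : Ω) ∈ P := h3
  obtain ⟨φ, hφ, he⟩ := hθ
  have h7 : φ ⟨a, h6⟩ = (b : Ω) := by rw [he]; exact h5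
  rw [← Subgroup.orderOf_coe b, ← h7, orderOf_injective φ (F.injective_of_mem hφ), Subgroup.orderOf_mk,
    Subgroup.orderOf_coe]

variable {A : Type*} [CommGroup A]

/-- the value of the cocycle on an orbit fixed by all of `S` -/
theorem map_cg_of_fixed (hcomp : ∀ (b : ↥S) (x : X), b • x = pair 1 b • x) {F : FusionSystem S}
    (hst : ∀ x : X, IsGr F (stabilizer ↥(S.prod S) x)) (α : ↥S →* A)
    (hinv : ∀ (θ : Ω → Ω) (hθ : IsFM F S θ) (a : ↥S), α ⟨θ a, hθ.mem a.2⟩ = α a)
    (o : Orb ↥S X) (ho : ∀ a : ↥S, gbar (lam X a) o = o) (x : ↥S) :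
    α (cg (lam X x) o) = (α x)⁻¹ := by
  obtain ⟨P, θ, hθ, hg⟩ := hst (sec o)
  have hall : ∀ a : ↥S, (a : Ω) ∈ P ∧ θ (a : Ω) = (((cg (lam X a) o)⁻¹ : ↥S) : Ω) := by
    intro a
    have h1 := pair_mem_stabilizer hcomp a o (ho a)
    have h2 : ((pair a (cg (lam X a) o)⁻¹ : ↥(S.prod S)) : Ω × Ω) ∈ up (stabilizer ↥(S.prod S) (sec o)) :=
      coe_mem_up.mpr h1
    exact (hg _).mp h2
  have hθS : IsFM F S θ := hθ.mono (fun a ha => (hall ⟨a, ha⟩).1)
  have h3 := hinv θ hθS x
  have h4 : (⟨θ x, hθS.mem x.2⟩ : ↥S) = (cg (lam X x) o)⁻¹ := Subtype.ext (hall x).2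
  rw [h4, map_inv] at h3
  rw [← h3, inv_inv]

/-- the partial determinant over an `S`-invariant set of orbits all of which are moved by `x` -/
theorem pdet_moved [Finite S] (hcomp : ∀ (b : ↥S) (x : X), b • x = pair 1 b • x) {F : FusionSystem S}
    (hst : ∀ x : X, IsGr F (stabilizer ↥(S.prod S) x)) (α : ↥S →* A) (x : ↥S)
    (hα : ∀ b : ↥S, orderOf b < orderOf x → α b = 1)
    (s : Finset (Orb ↥S X)) (hs : ∀ (a : ↥S), ∀ o ∈ s, gbar (lam X a) o ∈ s)
    (hmov : ∀ o ∈ s, gbar (lam X x) o ≠ o) :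
    pdet α (lam X x) s = 1 := by
  letI := lact (X := X) hcomp
  have hsmul : ∀ (a : ↥S) (o : Orb ↥S X), a • o = gbar (lam X a) o := fun _ _ => rfl
  let Zx : Subgroup ↥S := Subgroup.zpowers x
  let j : ↥Zx × ↥S →* ↥(S.prod S) := MonoidHom.mk' (fun n => pair n.1.1 n.2) (fun a b => rfl)
  letI : MulAction (↥Zx × ↥S) X := MulAction.compHom X j
  have hj : ∀ (n : ↥Zx × ↥S) (y : X), n • y = pair n.1.1 n.2 • y := fun _ _ => rfl
  let χ : ↥Zx × ↥S →* A := α.comp (MonoidHom.snd ↥Zx ↥S)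
  have hχ : ∀ n : ↥Zx × ↥S, χ n = α n.2 := fun n => rfl
  obtain ⟨f, hf⟩ := exists_equivariant_fun' (X := X) χ
  have hkey : ∀ y : X, (Quotient.mk'' y : Orb ↥S X) ∈ s →
      ∀ (y' : X) (h' : ↥Zx × ↥S), y' ∈ orbit (↥Zx × ↥S) y → h' • y' = y' → χ h' = 1 := by
    intro y hy y' h' hy' hh'
    obtain ⟨h, hh⟩ := hy'
    have hh2 : pair h.1.1 h.2 • y = y' := hh
    -- the orbit of `y'` lies in `s`
    have hy's : (Quotient.mk'' y' : Orb ↥S X) ∈ s := by
      have h1 : (Quotient.mk'' y' : Orb ↥S X) = gbar (lam X h.1.1) (Quotient.mk'' y) := by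
        rw [gbar_mk (lam_rEq hcomp h.1.1)]
        apply Quotient.sound'
        show y' ∈ orbit ↥S (lam X h.1.1 y)
        refine ⟨h.2, ?_⟩
        show h.2 • lam X h.1.1 y = y'
        rw [hcomp, lam_apply, smul_smul, pair_mul_pair, one_mul, mul_one]
        exact hh2
      rw [h1]
      exact hs _ _ hy
    have hst' : pair h'.1.1 h'.2 ∈ stabilizer ↥(S.prod S) y' := hh'
    have hfix : h'.1.1 • (Quotient.mk'' y' : Orb ↥S X) = Quotient.mk'' y' :=
      gbar_mk_of_mem_stabilizer hcomp hst'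
    have hord : orderOf h'.2 = orderOf h'.1.1 := orderOf_eq_of_mem_stabilizer hst hst'
    have hnot : x ∉ Subgroup.zpowers h'.1.1 := by
      intro hx
      have hle : Subgroup.zpowers h'.1.1 ≤ stabilizer ↥S (Quotient.mk'' y' : Orb ↥S X) := by
        rw [Subgroup.zpowers_le]
        exact hfix
      exact hmov _ hy's (hle hx)
    have hlt : orderOf h'.1.1 < orderOf x := orderOf_lt_of_mem_zpowers h'.1.2 hnot
    rw [hχ]
    apply hα
    rw [hord]
    exact hlt
  apply pdet_eq_one_of_fun α (lam_rEq hcomp x) s (hs x) f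
  · intro b y hy
    have h1 := hf y (hkey y hy) ((1 : ↥Zx), b)
    rw [hj, hχ] at h1
    rw [hcomp]
    exact h1
  · intro y hy
    have h1 := hf y (hkey y hy) ((⟨x, Subgroup.mem_zpowers x⟩ : ↥Zx), (1 : ↥S))
    rw [hj, hχ] at h1
    rw [lam_apply]
    simpa using h1

/-- conjugating the element and moving the set of orbits -/
theorem pdet_conj_image (hcomp : ∀ (b : ↥S) (x : X), b • x = pair 1 b • x) {F : FusionSystem S}
    (hst : ∀ x : X, IsGr F (stabilizer ↥(S.prod S) x)) [DecidableEq (Orb ↥S X)] (α : ↥S →* A) (t x : ↥S)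
    (s : Finset (Orb ↥S X)) (hinv : ∀ o ∈ s, gbar (lam X (t⁻¹ * x * t)) o ∈ s) :
    pdet α (lam X x) (s.image (gbar (lam X t))) = pdet α (lam X (t⁻¹ * x * t)) s := by
  have hfree := rfree (X := X) hcomp hst
  have h1 := pdet_mul hfree α (lam_rEq hcomp x) (lam_rEq hcomp t) s
  have h2 := pdet_mul hfree α (lam_rEq hcomp t) (lam_rEq hcomp (t⁻¹ * x * t)) s
  rw [image_gbar_eq (lam_rEq hcomp _) s hinv] at h2
  have h3 : lam X x * lam X t = lam X t * lam X (t⁻¹ * x * t) := by
    rw [← map_mul, ← map_mul]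
    congr 1
    group
  rw [h3, h2] at h1
  -- cancel
  have h4 : pdet α (lam X (t⁻¹ * x * t)) s * pdet α (lam X t) s =
      pdet α (lam X t) s * pdet α (lam X x) (s.image (gbar (lam X t))) := h1
  rw [mul_comm] at h4
  exact (mul_left_cancel h4).symm

end Cfsg.Agent.Lib.Helper27.YO
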