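import Cfsg.Agent.Lib.Helper27.YO4

/-!
# The transfer of a characteristic biset on an element of minimal order (helper27)

`pdet_orbit_eq_one`: if `S` has no quotient `C_p ≀ C_p`, the partial determinant of `x` over a non-trivial `S`-orbit of
orbits is trivial, for a character killing the elements of order less than that of `x`.
`trfFun_eq_pow`: then the transfer of `x` is `(α x)⁻¹ ^ k`, `k` the number of orbits fixed by `S`.
-/

set_option autoImplicit false

namespace Cfsg.Agent.Lib.Helper27.YO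

open Cfsg Cfsg.FusionSystem Cfsg.Agent.Lib.Helper26 Cfsg.Agent.Lib.Helper27.FM
open Cfsg.Agent.Lib.Helper27.KL Cfsg.Agent.Lib.Helper27.BS MulAction

universe u

variable {Ω : Type u} [Group Ω] {S : Subgroup Ω}
variable {X : Type*} [MulAction ↥(S.prod S) X] [MulAction ↥S X]

theorem pdet_orbit_eq_one {p : ℕ} [Fact p.Prime] [Finite S] (hS : IsPGroup p S)
    (hcomp : ∀ (b : ↥S) (x : X), b • x = pair 1 b • x) {F : FusionSystem S}
    (hst : ∀ x : X, IsGr F (stabilizer ↥(S.prod S) x))
    (hWF : ¬ ∃ (W : Sylow p (Equiv.Perm (Fin (p ^ 2))))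
      (f : ↥S →* ↥(W : Subgroup (Equiv.Perm (Fin (p ^ 2))))), Function.Surjective f)
    (α : ↥S →* Multiplicative (ZMod p)) (x : ↥S) (hα : ∀ b : ↥S, orderOf b < orderOf x → α b = 1)
    (r : Orb ↥S X) (hr : ∃ a : ↥S, gbar (lam X a) r ≠ r)
    (s : Finset (Orb ↥S X)) (hs : ∀ o, o ∈ s ↔ ∃ a : ↥S, o = gbar (lam X a) r) :
    pdet α (lam X x) s = 1 := by
  classical
  have hp : p.Prime := Fact.out
  have hfree := rfree (X := X) hcomp hst
  letI := lact (X := X) hcomp
  have hsmul : ∀ (a : ↥S) (o : Orb ↥S X), a • o = gbar (lam X a) o := fun _ _ => rfl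
  have hs' : ∀ o, o ∈ s ↔ ∃ a : ↥S, o = a • r := hs
  set Pr : Subgroup ↥S := stabilizer ↥S r with hPrdef
  have hPr : Pr ≠ ⊤ := by
    intro h
    obtain ⟨a, ha⟩ := hr
    apply ha
    have h1 : a ∈ Pr := by rw [h]; exact Subgroup.mem_top a
    exact h1
  obtain ⟨M, hPM, hMidx, hMn⟩ := exists_normal_index_p hS Pr hPr
  haveI := hMn
  have hsinv : ∀ (a : ↥S), ∀ o ∈ s, gbar (lam X a) o ∈ s := by
    intro a o ho
    obtain ⟨a', rfl⟩ := (hs' o).mp ho
    rw [hs']
    exact ⟨a * a', by rw [← hsmul, mul_smul]⟩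
  by_cases hxM : x ∈ M
  · have hMtop : M ≠ ⊤ := by
      intro h
      rw [h, Subgroup.index_top] at hMidx
      exact hp.one_lt.ne hMidx
    obtain ⟨s₀, hs₀⟩ : ∃ s₀ : ↥S, s₀ ∉ M := by
      by_contra h
      push_neg at h
      exact hMtop (eq_top_iff.mpr (fun a _ => h a))
    set s0 : Finset (Orb ↥S X) := s.filter (fun o => ∃ m ∈ M, o = m • r) with hs0
    have hs0mem : ∀ o, o ∈ s0 ↔ ∃ m ∈ M, o = m • r := by
      intro o
      rw [hs0, Finset.mem_filter]
      constructor
      · exact fun h => h.2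
      · rintro ⟨m, hm, rfl⟩
        exact ⟨(hs' _).mpr ⟨m, rfl⟩, m, hm, rfl⟩
    have hs0inv : ∀ m ∈ M, ∀ o ∈ s0, gbar (lam X m) o ∈ s0 := by
      intro m hm o ho
      obtain ⟨m', hm', rfl⟩ := (hs0mem o).mp ho
      rw [hs0mem]
      exact ⟨m * m', M.mul_mem hm hm', by rw [← hsmul, mul_smul]⟩
    let β' : ↥M →* Multiplicative (ZMod p) := MonoidHom.mk' (fun m => pdet α (lam X m.1) s0) (by
      intro m m'
      show pdet α (lam X ((m * m' : ↥M) : ↥S)) s0 = _
      rw [Subgroup.coe_mul, map_mul, pdet_mul hfree α (lam_rEq hcomp _) (lam_rEq hcomp _) s0,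
        image_gbar_eq (lam_rEq hcomp _) s0 (hs0inv m'.1 m'.2), mul_comm])
    have hβ' : ∀ m : ↥M, β' m = pdet α (lam X m.1) s0 := fun _ => rfl
    have hQcard : Nat.card (↥S ⧸ M) = p := by rw [← Subgroup.index_eq_card, hMidx]
    haveI : Finite (↥S ⧸ M) := Nat.finite_of_card_ne_zero (by rw [hQcard]; exact hp.ne_zero)
    set q₀ : ↥S ⧸ M := QuotientGroup.mk s₀ with hq₀def
    have hq₀ : q₀ ≠ 1 := by
      intro h
      exact hs₀ ((QuotientGroup.eq_one_iff s₀).mp h)
    have hzp : Subgroup.zpowers q₀ = ⊤ := zpowers_eq_top_of_prime_card hQcard hq₀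
    have hord : orderOf q₀ = p := by
      rw [← Nat.card_zpowers, hzp, Subgroup.card_top, hQcard]
    have hdec : s = (Finset.range p).biUnion (fun i => s0.image (gbar (lam X (s₀ ^ i)))) := by
      ext o
      rw [Finset.mem_biUnion]
      constructor
      · intro ho
        obtain ⟨a, rfl⟩ := (hs' o).mp ho
        have h1 : (QuotientGroup.mk a : ↥S ⧸ M) ∈ Subgroup.zpowers q₀ := by
          rw [hzp]
          exact Subgroup.mem_top _
        rw [mem_zpowers_iff_mem_range_orderOf, hord, Finset.mem_image] at h1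
        obtain ⟨i, hi, hia⟩ := h1
        refine ⟨i, hi, ?_⟩
        have h2 : (s₀ ^ i)⁻¹ * a ∈ M := by
          rw [← QuotientGroup.eq]
          show (QuotientGroup.mk (s₀ ^ i) : ↥S ⧸ M) = QuotientGroup.mk a
          rw [QuotientGroup.mk_pow]
          exact hia
        rw [Finset.mem_image]
        refine ⟨((s₀ ^ i)⁻¹ * a) • r, (hs0mem _).mpr ⟨_, h2, rfl⟩, ?_⟩
        rw [← hsmul, ← mul_smul, mul_inv_cancel_left]
      · rintro ⟨i, hi, ho⟩
        obtain ⟨o', ho', rfl⟩ := Finset.mem_image.mp ho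
        exact hsinv _ _ (Finset.mem_filter.mp ho').1
    have hdisj : ∀ i ∈ Finset.range p, ∀ j ∈ Finset.range p, i ≠ j →
        Disjoint (s0.image (gbar (lam X (s₀ ^ i)))) (s0.image (gbar (lam X (s₀ ^ j)))) := by
      intro i hi j hj hij
      rw [Finset.disjoint_left]
      intro o hoi hoj
      obtain ⟨o1, ho1, rfl⟩ := Finset.mem_image.mp hoi
      obtain ⟨o2, ho2, h12⟩ := Finset.mem_image.mp hoj
      obtain ⟨m1, hm1, rfl⟩ := (hs0mem _).mp ho1
      obtain ⟨m2, hm2, rfl⟩ := (hs0mem _).mp ho2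
      have h1 : (s₀ ^ j * m2) • r = (s₀ ^ i * m1) • r := by
        rw [mul_smul, mul_smul]
        exact h12
      have h2 : (s₀ ^ i * m1)⁻¹ * (s₀ ^ j * m2) ∈ Pr := by
        show ((s₀ ^ i * m1)⁻¹ * (s₀ ^ j * m2)) • r = r
        rw [mul_smul, h1, inv_smul_smul]
      have h3 := hPM h2
      have h4 : (QuotientGroup.mk (s₀ ^ i * m1) : ↥S ⧸ M) = QuotientGroup.mk (s₀ ^ j * m2) :=
        QuotientGroup.eq.mpr h3
      rw [QuotientGroup.mk_mul, QuotientGroup.mk_mul, (QuotientGroup.eq_one_iff m1).mpr hm1,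
        (QuotientGroup.eq_one_iff m2).mpr hm2, mul_one, mul_one, QuotientGroup.mk_pow,
        QuotientGroup.mk_pow] at h4
      apply hij
      apply pow_injOn_Iio_orderOf (x := q₀)
      · rw [hord]
        exact Finset.mem_range.mp hi
      · rw [hord]
        exact Finset.mem_range.mp hj
      · exact h4
    have hprod : pdet α (lam X x) s = ∏ i ∈ Finset.range p, twist M β' (s₀⁻¹ ^ i) ⟨x, hxM⟩ := by
      have h0 : pdet α (lam X x) s =
          ∏ i ∈ Finset.range p, pdet α (lam X x) (s0.image (gbar (lam X (s₀ ^ i)))) := by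
        conv_lhs => rw [hdec]
        unfold pdet
        rw [Finset.prod_biUnion]
        intro i hi j hj hij
        exact hdisj i (by simpa using hi) j (by simpa using hj) hij
      rw [h0]
      apply Finset.prod_congr rfl
      intro i _
      have hmem : (s₀ ^ i)⁻¹ * x * s₀ ^ i ∈ M := by
        have := hMn.conj_mem x hxM (s₀ ^ i)⁻¹
        rwa [inv_inv] at this
      have h1 := pdet_conj_image hcomp hst α (s₀ ^ i) x s0 (hs0inv _ hmem)
      rw [h1, twist_apply, hβ']
      congr 2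
      rw [MulAut.conjNormal_apply, inv_pow, inv_inv]
    rw [hprod]
    by_contra hne
    exact hWF (exists_wreath_quotient hS M hMidx s₀⁻¹ β' ⟨x, hxM⟩ hne)
  · apply pdet_moved hcomp hst α x hα s hsinv
    intro o ho hfix
    obtain ⟨a, rfl⟩ := (hs' o).mp ho
    apply hxM
    have h1 : a⁻¹ * x * a ∈ Pr := by
      show (a⁻¹ * x * a) • r = r
      have h2 : x • (a • r) = a • r := hfix
      rw [mul_smul, mul_smul, h2, inv_smul_smul]
    have h3 := hMn.conj_mem _ (hPM h1) a
    have h4 : a * (a⁻¹ * x * a) * a⁻¹ = x := by group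
    rwa [h4] at h3

/-- the number of orbits of the right action that are fixed by the left action -/
noncomputable def fixCount (S : Subgroup Ω) (X : Type*) [MulAction ↥(S.prod S) X] [MulAction ↥S X] : ℕ :=
  Nat.card {o : Orb ↥S X // ∀ a : ↥S, gbar (lam X a) o = o}

theorem fixCount_modEq {p : ℕ} [Fact p.Prime] [Finite S] (hS : IsPGroup p S)
    (hcomp : ∀ (b : ↥S) (x : X), b • x = pair 1 b • x) [Finite X] :
    Nat.card (Orb ↥S X) ≡ fixCount S X [MOD p] := by
  letI := lact (X := X) hcomp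
  exact hS.card_modEq_card_fixedPoints (Orb ↥S X)

theorem trfFun_eq_pow {p : ℕ} [Fact p.Prime] [Finite S] (hS : IsPGroup p S)
    (hcomp : ∀ (b : ↥S) (x : X), b • x = pair 1 b • x) {F : FusionSystem S}
    (hst : ∀ x : X, IsGr F (stabilizer ↥(S.prod S) x)) [Finite X]
    (hWF : ¬ ∃ (W : Sylow p (Equiv.Perm (Fin (p ^ 2))))
      (f : ↥S →* ↥(W : Subgroup (Equiv.Perm (Fin (p ^ 2))))), Function.Surjective f)
    (α : ↥S →* Multiplicative (ZMod p))
    (hinv : ∀ (θ : Ω → Ω) (hθ : IsFM F S θ) (a : ↥S), α ⟨θ a, hθ.mem a.2⟩ = α a)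
    (x : ↥S) (hα : ∀ b : ↥S, orderOf b < orderOf x → α b = 1) :
    trfFun X α x = (α x)⁻¹ ^ fixCount S X := by
  classical
  letI := lact (X := X) hcomp
  letI : Fintype (Orb ↥S X) := Fintype.ofFinite _
  have hsmul : ∀ (a : ↥S) (o : Orb ↥S X), a • o = gbar (lam X a) o := fun _ _ => rfl
  unfold trfFun
  show det α (lam X x) = _
  rw [det_eq_pdet]
  unfold pdet
  rw [← Finset.prod_filter_mul_prod_filter_not Finset.univ (fun o : Orb ↥S X => ∀ a : ↥S, gbar (lam X a) o = o)]
  have h1 : ∏ o ∈ Finset.univ.filter (fun o : Orb ↥S X => ∀ a : ↥S, gbar (lam X a) o = o),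
      α (cg (lam X x) o) = (α x)⁻¹ ^ fixCount S X := by
    rw [Finset.prod_congr rfl (fun o ho => map_cg_of_fixed hcomp hst α hinv o (Finset.mem_filter.mp ho).2 x),
      Finset.prod_const]
    congr 1
    unfold fixCount
    rw [Nat.card_eq_fintype_card, Fintype.card_subtype]
  have h2 : ∏ o ∈ Finset.univ.filter (fun o : Orb ↥S X => ¬ ∀ a : ↥S, gbar (lam X a) o = o),
      α (cg (lam X x) o) = 1 := by
    letI : Fintype (orbitRel.Quotient ↥S (Orb ↥S X)) := Fintype.ofFinite _
    rw [← Finset.prod_fiberwise _ (fun o : Orb ↥S X => (Quotient.mk'' o : orbitRel.Quotient ↥S (Orb ↥S X)))]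
    apply Finset.prod_eq_one
    intro c _
    rcases Finset.eq_empty_or_nonempty ((Finset.univ.filter
      (fun o : Orb ↥S X => ¬ ∀ a : ↥S, gbar (lam X a) o = o)).filter
        (fun o => (Quotient.mk'' o : orbitRel.Quotient ↥S (Orb ↥S X)) = c)) with he | ⟨r, hr⟩
    · rw [he, Finset.prod_empty]
    · rw [Finset.mem_filter, Finset.mem_filter] at hr
      obtain ⟨⟨_, hr1⟩, hr2⟩ := hr
      push_neg at hr1
      apply pdet_orbit_eq_one hS hcomp hst hWF α x hα r hr1
      intro o
      rw [Finset.mem_filter, Finset.mem_filter]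
      constructor
      · rintro ⟨_, ho2⟩
        rw [← hr2] at ho2
        have h3 : o ∈ orbit ↥S r := Quotient.exact' ho2
        obtain ⟨a, ha⟩ := h3
        exact ⟨a, ha.symm⟩
      · rintro ⟨a, rfl⟩
        refine ⟨⟨Finset.mem_univ _, ?_⟩, ?_⟩
        · intro hfix
          obtain ⟨b, hb⟩ := hr1
          apply hb
          have h4 : ∀ c : ↥S, c • (a • r) = a • r := hfix
          have h5 : r = a • r := by
            have := h4 a⁻¹
            rw [inv_smul_smul] at this
            exact this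
          show b • r = r
          rw [h5]
          exact h4 b
        · rw [← hr2]
          apply Quotient.sound'
          exact mem_orbit r a
  rw [h1, h2, mul_one]

end Cfsg.Agent.Lib.Helper27.YO
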