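import Cfsg.Agent.Lib.Helper27.YO5
import Cfsg.Agent.Lib.Helper26.TT7
import Cfsg.Agent.Lib.Helper1.PGroup

/-!
# Yoshida's theorem for fusion systems (helper27)

If the finite `p`-group `S` has no quotient isomorphic to a Sylow `p`-subgroup of the symmetric group of degree `p²`,
then for every saturated fusion system `F` over `S` the focal subgroups of `F` and of `N_F(S)` coincide
(`focal_eq_of_noWreath`).
-/

set_option autoImplicit false

namespace Cfsg.Agent.Lib.Helper27.YO

open Cfsg Cfsg.FusionSystem Cfsg.Agent.Lib.Helper26 Cfsg.Agent.Lib.Helper27.FM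
open Cfsg.Agent.Lib.Helper27.KL Cfsg.Agent.Lib.Helper27.BS MulAction Cfsg.Agent.Lib.Helper26.TT
open scoped commutatorElement

universe u

section Sep

theorem sep_aux0 {p : ℕ} [Fact p.Prime] {V : Type*} [AddCommGroup V] [Module (ZMod p) V] (v : V) (hv : v ≠ 0) :
    ∃ f : V →+ ZMod p, f v ≠ 0 := by
  obtain ⟨f, hf⟩ := Module.Projective.exists_dual_ne_zero (ZMod p) hv
  exact ⟨f.toAddMonoidHom, hf⟩

theorem sep_aux {p : ℕ} [Fact p.Prime] {V : Type*} [AddCommGroup V] (h : ∀ x : V, p • x = 0) (v : V)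
    (hv : v ≠ 0) : ∃ f : V →+ ZMod p, f v ≠ 0 :=
  @sep_aux0 p _ V _ (AddCommGroup.zmodModule h) v hv

/-- separating an element from a subgroup containing the Frattini subgroup by a character of order `p` -/
theorem exists_hom_of_not_mem {G : Type*} [Group G] [Finite G] {p : ℕ} [Fact p.Prime] (hG : IsPGroup p G)
    (D : Subgroup G) (hD : frattini G ≤ D) (y : G) (hy : y ∉ D) :
    ∃ α : G →* Multiplicative (ZMod p), D ≤ α.ker ∧ α y ≠ 1 := by
  have hcomm : ∀ a b : G, ⁅a, b⁆ ∈ D := fun a b =>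
    hD (Cfsg.Agent.Lib.Helper1.IsPGroup.commutator_le_frattini hG
      (Subgroup.commutator_mem_commutator (Subgroup.mem_top a) (Subgroup.mem_top b)))
  haveI hDn : D.Normal := by
    refine ⟨fun d hd g => ?_⟩
    have e : g * d * g⁻¹ = ⁅g, d⁆ * d := by
      rw [commutatorElement_def]
      group
    rw [e]
    exact D.mul_mem (hcomm g d) hd
  letI : CommGroup (G ⧸ D) :=
    { (inferInstance : Group (G ⧸ D)) with
      mul_comm := by
        intro a b
        obtain ⟨a, rfl⟩ := QuotientGroup.mk_surjective a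
        obtain ⟨b, rfl⟩ := QuotientGroup.mk_surjective b
        rw [← QuotientGroup.mk_mul, ← QuotientGroup.mk_mul, QuotientGroup.eq]
        have e : (a * b)⁻¹ * (b * a) = ⁅b⁻¹, a⁻¹⁆ := by
          rw [commutatorElement_def]
          group
        rw [e]
        exact hcomm _ _ }
  have hexp : ∀ v : Additive (G ⧸ D), p • v = 0 := by
    intro v
    obtain ⟨g, hg⟩ := QuotientGroup.mk_surjective (Additive.toMul v)
    have h1 : v = Additive.ofMul (QuotientGroup.mk g : G ⧸ D) := by
      rw [hg]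
      rfl
    rw [h1, ← ofMul_pow, ← QuotientGroup.mk_pow,
      (QuotientGroup.eq_one_iff (g ^ p)).mpr (hD (Cfsg.Agent.Lib.Helper1.IsPGroup.pow_mem_frattini hG g))]
    rfl
  have hv₀ : Additive.ofMul (QuotientGroup.mk y : G ⧸ D) ≠ 0 := by
    intro h
    apply hy
    rw [← QuotientGroup.eq_one_iff]
    exact h
  obtain ⟨f, hf⟩ := sep_aux hexp _ hv₀
  refine ⟨(AddMonoidHom.toMultiplicativeRight f).comp (QuotientGroup.mk' D), ?_, ?_⟩
  · intro g hg
    rw [MonoidHom.mem_ker, MonoidHom.comp_apply, QuotientGroup.mk'_apply, (QuotientGroup.eq_one_iff g).mpr hg,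
      map_one]
  · intro h
    apply hf
    exact h

end Sep

variable {Ω : Type u} [Group Ω] {S : Subgroup Ω}

section Transfer

variable {X : Type*} [MulAction ↥(S.prod S) X] [MulAction ↥S X]

theorem trfFun_mul_hom {A : Type*} [CommGroup A] [Finite X] (π₁ π₂ : ↥S →* A) (a : ↥S) :
    trfFun X (π₁ * π₂) a = trfFun X π₁ a * trfFun X π₂ a := by
  unfold trfFun det
  rw [← Finset.prod_mul_distrib]
  rfl

end Transfer

/-- a character of order `p` of `S` that is invariant under the automorphisms of `S` in the system is constant on the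
classes of the system, if `S` has no quotient `C_p ≀ C_p` -/
theorem stable_of_invariant {p : ℕ} [Fact p.Prime] [Finite S] (hS : IsPGroup p S) (F : FusionSystem S)
    (hF : F.IsSaturated p)
    (hWF : ¬ ∃ (W : Sylow p (Equiv.Perm (Fin (p ^ 2))))
      (f : ↥S →* ↥(W : Subgroup (Equiv.Perm (Fin (p ^ 2))))), Function.Surjective f)
    (α : ↥S →* Multiplicative (ZMod p))
    (hinv : ∀ (θ : Ω → Ω) (hθ : IsFM F S θ) (a : ↥S), α ⟨θ a, hθ.mem a.2⟩ = α a) :
    ∀ (P : Subgroup Ω) (θ : Ω → Ω) (hθ : IsFM F P θ) (a : ↥S) (ha : (a : Ω) ∈ P),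
      α ⟨θ a, hθ.mem ha⟩ = α a := by
  have hp : p.Prime := Fact.out
  obtain ⟨X, instX, finX, hst, htw, n, hcard, hpn⟩ := exists_char_biset hS F hF
  letI : MulAction ↥S X := MulAction.compHom X rtHom
  have hcomp : ∀ (b : ↥S) (x : X), b • x = pair 1 b • x := fun _ _ => rfl
  -- the invariant characters
  let A₀ : Subgroup (↥S →* Multiplicative (ZMod p)) :=
    { carrier := {β | ∀ (θ : Ω → Ω) (hθ : IsFM F S θ) (a : ↥S), β ⟨θ a, hθ.mem a.2⟩ = β a}
      one_mem' := fun θ hθ a => rfl
      mul_mem' := by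
        intro β γ hβ hγ θ hθ a
        rw [MonoidHom.mul_apply, MonoidHom.mul_apply, hβ θ hθ a, hγ θ hθ a]
      inv_mem' := by
        intro β hβ θ hθ a
        rw [MonoidHom.inv_apply, MonoidHom.inv_apply, hβ θ hθ a] }
  have hA₀ : ∀ β : ↥S →* Multiplicative (ZMod p), β ∈ A₀ ↔
      ∀ (θ : Ω → Ω) (hθ : IsFM F S θ) (a : ↥S), β ⟨θ a, hθ.mem a.2⟩ = β a := fun _ => Iff.rfl
  -- the transfer
  let T : (↥S →* Multiplicative (ZMod p)) →* (↥S →* Multiplicative (ZMod p)) :=
    MonoidHom.mk' (fun β => trf hcomp hst β) (by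
      intro β γ
      ext a
      rw [MonoidHom.mul_apply, trf_apply, trf_apply, trf_apply, trfFun_mul_hom])
  have hT : ∀ (β : ↥S →* Multiplicative (ZMod p)) (a : ↥S), T β a = trfFun X β a := fun _ _ => rfl
  have hTst : ∀ (β : ↥S →* Multiplicative (ZMod p)) (P : Subgroup Ω) (θ : Ω → Ω) (hθ : IsFM F P θ) (a : ↥S)
      (ha : (a : Ω) ∈ P), T β ⟨θ a, hθ.mem ha⟩ = T β a := by
    intro β P θ hθ a ha
    rw [hT, hT]
    exact trfFun_stable hcomp hst htw β hθ a ha
  have hTA₀ : ∀ β : ↥S →* Multiplicative (ZMod p), T β ∈ A₀ := fun β θ hθ a => hTst β S θ hθ a a.2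
  -- the number of fixed orbits
  have hk : ¬ p ∣ fixCount S X := by
    intro hdvd
    apply hpn
    have h1 := card_eq_card_orb_mul (R := ↥S) (X := X) (rfree hcomp hst)
    rw [hcard, mul_comm] at h1
    have h2 : n = Nat.card (Orb ↥S X) := Nat.eq_of_mul_eq_mul_right Nat.card_pos h1
    have h3 := fixCount_modEq (X := X) hS hcomp
    rw [h2]
    exact (h3.dvd_iff dvd_rfl).mpr hdvd
  -- the transfer is injective on the invariant characters
  have hker : ∀ β : ↥S →* Multiplicative (ZMod p), β ∈ A₀ → T β = 1 → β = 1 := by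
    intro β hβ hTβ
    have hall : ∀ (m : ℕ) (x : ↥S), orderOf x = m → β x = 1 := by
      intro m
      induction m using Nat.strong_induction_on with
      | _ m ih =>
        intro x hx
        have hα : ∀ b : ↥S, orderOf b < orderOf x → β b = 1 := by
          intro b hb
          rw [hx] at hb
          exact ih (orderOf b) hb b rfl
        have h1 := trfFun_eq_pow hS hcomp hst hWF β ((hA₀ β).mp hβ) x hα
        rw [← hT, hTβ, MonoidHom.one_apply] at h1
        have h2 : orderOf (β x)⁻¹ ∣ fixCount S X := orderOf_dvd_of_pow_eq_one h1.symm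
        have h3 : orderOf (β x)⁻¹ ∣ p := by
          apply orderOf_dvd_of_pow_eq_one
          have := pow_card_eq_one' (G := Multiplicative (ZMod p)) (x := (β x)⁻¹)
          rwa [Nat.card_eq_fintype_card, Fintype.card_multiplicative, ZMod.card] at this
        have h4 : orderOf (β x)⁻¹ = 1 := by
          rcases (Nat.dvd_prime hp).mp h3 with h5 | h5
          · exact h5
          · exfalso
            rw [h5] at h2
            exact hk h2
        have h6 := orderOf_eq_one_iff.mp h4
        exact inv_eq_one.mp h6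
    ext x
    rw [MonoidHom.one_apply]
    exact hall _ x rfl
  -- hence surjective
  haveI : Finite (↥S →* Multiplicative (ZMod p)) :=
    Finite.of_injective (fun f : ↥S →* Multiplicative (ZMod p) => (f : ↥S → Multiplicative (ZMod p)))
      DFunLike.coe_injective
  let T₀ : ↥A₀ → ↥A₀ := fun β => ⟨T β.1, hTA₀ β.1⟩
  have hT₀inj : Function.Injective T₀ := by
    intro β γ h
    have h1 : T β.1 = T γ.1 := congrArg Subtype.val h
    have h2 : T (β.1 * γ.1⁻¹) = 1 := by
      rw [map_mul, map_inv, h1, mul_inv_cancel]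
    have h3 := hker _ (A₀.mul_mem β.2 (A₀.inv_mem γ.2)) h2
    apply Subtype.ext
    exact mul_inv_eq_one.mp h3
  have hT₀surj : Function.Surjective T₀ := Finite.injective_iff_surjective.mp hT₀inj
  obtain ⟨β, hβ⟩ := hT₀surj ⟨α, hinv⟩
  have hαβ : α = T β.1 := (congrArg Subtype.val hβ).symm
  intro P θ hθ a ha
  rw [hαβ]
  exact hTst β.1 P θ hθ a ha

theorem castSystem_focalSubgroup {T : Subgroup Ω} (h : T = S) (E : FusionSystem T) :
    (castSystem h E).focalSubgroup = E.focalSubgroup := by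
  subst h
  rfl

/-- the maps of the system with source `S` are maps of the normalizer system of `S` -/
theorem top_hom_mem_normalizerHom [Finite S] (F : FusionSystem S) {ψ : ↥S →* Ω} (hψ : ψ ∈ F.Hom S) :
    ψ ∈ F.normalizerHom S S := by
  have hSN : S ≤ normalizerIn S S := (normalizerIn_self S).ge
  have hle : S ⊔ S ≤ S := sup_le le_rfl le_rfl
  have hr : ψ.range = S := range_eq_of_le ψ (F.injective_of_mem hψ) (fun x => hom_apply_mem F hψ x)
  refine ⟨hψ, hSN, fun x => hSN (hom_apply_mem F hψ x), ψ.comp (Subgroup.inclusion hle),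
    inclusion_comp_mem F hle hψ, fun x => rfl, ?_⟩
  rw [map_subgroupOf_eq_iff]
  constructor
  · intro y hy
    exact hom_apply_mem F hψ _
  · intro z hz
    rw [← hr] at hz
    obtain ⟨x, rfl⟩ := hz
    exact ⟨⟨x, (le_sup_left : S ≤ S ⊔ S) x.2⟩, x.2, rfl⟩

theorem focal_le_of_noWreath {p : ℕ} [Fact p.Prime] [Finite S] (hS : IsPGroup p S) (F : FusionSystem S)
    (hF : F.IsSaturated p) (N : FusionSystem (normalizerIn S S)) (hN : F.IsNormalizerSystem S N)
    (hWF : ¬ ∃ (W : Sylow p (Equiv.Perm (Fin (p ^ 2))))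
      (f : ↥S →* ↥(W : Subgroup (Equiv.Perm (Fin (p ^ 2))))), Function.Surjective f) :
    F.focalSubgroup ≤ (frattini ↥S).map S.subtype ⊔ N.focalSubgroup := by
  set D : Subgroup Ω := (frattini ↥S).map S.subtype ⊔ N.focalSubgroup with hD
  intro y hy
  by_contra hyD
  have hyS : y ∈ S := focal_le F hy
  have hfr : frattini ↥S ≤ D.subgroupOf S := by
    intro z hz
    rw [Subgroup.mem_subgroupOf]
    exact Subgroup.mem_sup_left ⟨z, hz, rfl⟩
  have hynot : (⟨y, hyS⟩ : ↥S) ∉ D.subgroupOf S := by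
    rw [Subgroup.mem_subgroupOf]
    exact hyD
  obtain ⟨α, hα1, hα2⟩ := exists_hom_of_not_mem hS (D.subgroupOf S) hfr ⟨y, hyS⟩ hynot
  have hinv : ∀ (θ : Ω → Ω) (hθ : IsFM F S θ) (a : ↥S), α ⟨θ a, hθ.mem a.2⟩ = α a := by
    intro θ hθ a
    have hθ' := hθ
    obtain ⟨φ, hφ, he⟩ := hθ'
    have hφN : φ ∈ N.Hom S := by
      rw [hN S]
      exact top_hom_mem_normalizerHom F hφ
    have h1 : ((a : ↥S) : Ω)⁻¹ * φ a ∈ N.focalSubgroup :=
      Subgroup.subset_closure ⟨S, φ, a, hφN, rfl⟩
    have h2 : (a⁻¹ * ⟨θ a, hθ.mem a.2⟩ : ↥S) ∈ D.subgroupOf S := by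
      rw [Subgroup.mem_subgroupOf]
      show ((a : ↥S) : Ω)⁻¹ * θ a ∈ D
      rw [← he a]
      exact Subgroup.mem_sup_right h1
    have h3 := hα1 h2
    rw [MonoidHom.mem_ker, map_mul, map_inv] at h3
    exact (inv_mul_eq_one.mp h3).symm
  have hstab := stable_of_invariant hS F hF hWF α hinv
  have hle := focal_le_ker_of_stable F α hstab
  obtain ⟨w, hw, hwy⟩ := hle hy
  have hw' : w = ⟨y, hyS⟩ := Subtype.ext hwy
  rw [hw'] at hw
  exact hα2 hw

/-- **Yoshida's theorem for fusion systems**, contrapositive form -/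
theorem focal_eq_of_noWreath {p : ℕ} [Fact p.Prime] [Finite S] (hS : IsPGroup p S) (F : FusionSystem S)
    (hF : F.IsSaturated p) (N : FusionSystem (normalizerIn S S)) (hN : F.IsNormalizerSystem S N)
    (hWF : ¬ ∃ (W : Sylow p (Equiv.Perm (Fin (p ^ 2))))
      (f : ↥S →* ↥(W : Subgroup (Equiv.Perm (Fin (p ^ 2))))), Function.Surjective f) :
    N.focalSubgroup = F.focalSubgroup := by
  set N' : FusionSystem S := castSystem (normalizerIn_self S) N with hN'
  have hN'hom : ∀ P : Subgroup Ω, N'.Hom P = N.Hom P := fun P => castSystem_hom _ N P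
  have hN'foc : N'.focalSubgroup = N.focalSubgroup := castSystem_focalSubgroup _ N
  have hNsat : N.IsSaturated p := normalizerSystem_saturated hS F hF (top_fullyNormalized F) N hN
  have hN'sat : N'.IsSaturated p := castSystem_isSaturated _ N p hNsat
  have hN'sub : N'.IsSubsystemOf F := by
    intro P φ hφ
    rw [hN'hom P, hN P] at hφ
    exact hφ.1
  have hfocle : N'.focalSubgroup ≤ F.focalSubgroup := by
    unfold FusionSystem.focalSubgroup
    apply Subgroup.closure_mono
    rintro y ⟨P, φ, x, hφ, rfl⟩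
    exact ⟨P, φ, x, hN'sub P hφ, rfl⟩
  have h1 := (tate hS F hF N' hN'sat hN'sub).1.mp (by
    apply le_antisymm
    · apply sup_le le_sup_left
      rw [hN'foc]
      exact focal_le_of_noWreath hS F hF N hN hWF
    · exact sup_le le_sup_left (le_sup_of_le_right hfocle))
  rw [← hN'foc, h1]

end Cfsg.Agent.Lib.Helper27.YO
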